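import Cfsg.Statements.S4358
import Mathlib.LinearAlgebra.Matrix.GeneralLinearGroup.Card
import Mathlib.LinearAlgebra.Vandermonde
import Mathlib.LinearAlgebra.Matrix.Transvection
import Mathlib.NumberTheory.Multiplicity
import Mathlib.NumberTheory.Padics.PadicVal.Basic
import Mathlib.RingTheory.RootsOfUnity.PrimitiveRoots
-- import your own Cfsg.Agent.* helpers here

set_option autoImplicit false
open Cfsg

namespace Cfsg.Agent.S4358

open Matrix

variable {F : Type*} [Field F] {p : ℕ} [NeZero p]

/-- The monomial matrix with shift `k` and entries `v`. -/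
def mono (k : Fin p) (v : Fin p → F) : Matrix (Fin p) (Fin p) F :=
  Matrix.of fun i j => if j = i + k then v i else 0

theorem mono_apply (k : Fin p) (v : Fin p → F) (i j : Fin p) :
    mono k v i j = if j = i + k then v i else 0 := rfl

theorem mono_mul (k l : Fin p) (v w : Fin p → F) :
    mono k v * mono l w = mono (k + l) (fun i => v i * w (i + k)) := by
  ext i j
  rw [Matrix.mul_apply, Finset.sum_eq_single (i + k)]
  · simp only [mono_apply, if_pos]
    by_cases h : j = i + k + l
    · rw [if_pos h, if_pos (by rw [h, add_assoc])]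
    · rw [if_neg h, if_neg (by rwa [← add_assoc]), mul_zero]
  · intro b _ hb
    rw [mono_apply, if_neg hb, zero_mul]
  · simp

theorem mono_one : (1 : Matrix (Fin p) (Fin p) F) = mono 0 1 := by
  ext i j
  simp [mono_apply, Matrix.one_apply, eq_comm]

theorem mul_mono (A : Matrix (Fin p) (Fin p) F) (δ : Fin p → F) (i j : Fin p) :
    (A * mono 0 δ) i j = A i j * δ j := by
  rw [Matrix.mul_apply, Finset.sum_eq_single j]
  · simp [mono_apply]
  · intro b _ hb; simp [mono_apply, Ne.symm hb]
  · simp

theorem mono_mul_apply (A : Matrix (Fin p) (Fin p) F) (l : Fin p) (w : Fin p → F) (i j : Fin p) :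
    (mono l w * A) i j = w i * A (i + l) j := by
  rw [Matrix.mul_apply, Finset.sum_eq_single (i + l)]
  · simp [mono_apply]
  · intro b _ hb; simp [mono_apply, hb]
  · simp

theorem mono_inj {k l : Fin p} {v w : Fin p → F} (hv : ∀ i, v i ≠ 0) (h : mono k v = mono l w) :
    k = l ∧ v = w := by
  have hkl : k = l := by
    have h0 := congrFun (congrFun h 0) k
    simp only [mono_apply, zero_add, if_pos] at h0
    by_contra hne
    rw [if_neg hne] at h0
    exact hv 0 h0
  subst hkl
  refine ⟨rfl, funext fun i => ?_⟩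
  have h0 := congrFun (congrFun h i) (i + k)
  simpa [mono_apply] using h0

theorem ne_zero_of_pow {v : F} (h : v ^ p = 1) : v ≠ 0 := fun e => by
  rw [e, zero_pow (NeZero.ne p)] at h
  exact zero_ne_one h

/-- The monomial `p`-subgroup. -/
def monoSubgroup (F : Type*) [Field F] [Fintype F] (p : ℕ) [NeZero p] : Subgroup (GL (Fin p) F) :=
  let M : Submonoid (GL (Fin p) F) :=
    { carrier := {g | ∃ (k : Fin p) (v : Fin p → F), (∀ i, v i ^ p = 1) ∧
        (g : Matrix (Fin p) (Fin p) F) = mono k v}
      one_mem' := ⟨0, 1, fun _ => one_pow p, by rw [Units.val_one, mono_one]⟩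
      mul_mem' := by
        rintro g h ⟨k, v, hv, hg⟩ ⟨l, w, hw, hh⟩
        refine ⟨k + l, _, fun i => ?_, by rw [Units.val_mul, hg, hh, mono_mul]⟩
        rw [mul_pow, hv, hw, one_mul] }
  { M with
    inv_mem' := fun {g} hg => by
      have h : g⁻¹ = g ^ (orderOf g - 1) := by
        refine inv_eq_of_mul_eq_one_right ?_
        rw [← pow_succ', Nat.sub_add_cancel (orderOf_pos g), pow_orderOf_eq_one]
      rw [h]
      exact M.pow_mem hg _ }

theorem mem_monoSubgroup [Fintype F] {g : GL (Fin p) F} :
    g ∈ monoSubgroup F p ↔ ∃ (k : Fin p) (v : Fin p → F), (∀ i, v i ^ p = 1) ∧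
      (g : Matrix (Fin p) (Fin p) F) = mono k v := Iff.rfl

theorem exists_gl [Fintype F] (k : Fin p) {v : Fin p → F} (hv : ∀ i, v i ^ p = 1) :
    ∃ g : GL (Fin p) F, (g : Matrix (Fin p) (Fin p) F) = mono k v := by
  have h1 : mono k v * mono (-k) (fun i => (v (i - k))⁻¹) = 1 := by
    rw [mono_mul, mono_one, add_neg_cancel]
    congr 1
    funext i
    simp [add_sub_cancel_right, mul_inv_cancel₀ (ne_zero_of_pow (hv i))]
  exact ⟨⟨_, _, h1, mul_eq_one_comm.1 h1⟩, rfl⟩

theorem card_monoSubgroup [Fintype F] [Fact p.Prime] (hroots : Nat.card {x : F // x ^ p = 1} = p) :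
    Nat.card (monoSubgroup F p) = p ^ (p + 1) := by
  classical
  let f : Fin p × (Fin p → {x : F // x ^ p = 1}) → monoSubgroup F p := fun a =>
    ⟨(exists_gl a.1 (fun i => (a.2 i).2)).choose,
      a.1, fun i => (a.2 i).1, fun i => (a.2 i).2, (exists_gl a.1 (fun i => (a.2 i).2)).choose_spec⟩
  have hb : Function.Bijective f := by
    constructor
    · rintro ⟨k, v⟩ ⟨l, w⟩ h
      have h' : mono k (fun i => (v i).1) = mono l (fun i => (w i).1) := by
        rw [← (exists_gl k (fun i => (v i).2)).choose_spec, ← (exists_gl l (fun i => (w i).2)).choose_spec]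
        exact congrArg (fun g : monoSubgroup F p => ((g : GL (Fin p) F) : Matrix (Fin p) (Fin p) F)) h
      obtain ⟨rfl, h2⟩ := mono_inj (fun i => ne_zero_of_pow (v i).2) h'
      exact Prod.ext rfl (funext fun i => Subtype.ext (congrFun h2 i))
    · rintro ⟨g, k, v, hv, hg⟩
      refine ⟨(k, fun i => ⟨v i, hv i⟩), Subtype.ext (Units.ext ?_)⟩
      rw [hg]
      exact (exists_gl k hv).choose_spec
  rw [← Nat.card_eq_of_bijective f hb, Nat.card_prod, Nat.card_fun, hroots, Nat.card_fin, pow_succ']

theorem card_roots [Fintype F] [hp : Fact p.Prime] (h1 : p ∣ Fintype.card F - 1) :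
    Nat.card {x : F // x ^ p = 1} = p ∧ ∃ ω : F, ω ^ p = 1 ∧ ω ≠ 1 := by
  classical
  obtain ⟨u, hu⟩ := exists_prime_orderOf_dvd_card' (G := Fˣ) p
    (by rwa [Nat.card_units, Nat.card_eq_fintype_card])
  have hω : (u : F) ^ p = 1 := by rw [← Units.val_pow_eq_pow_val, ← hu, pow_orderOf_eq_one, Units.val_one]
  have hne : (u : F) ≠ 1 := fun e => by
    rw [Units.val_eq_one] at e
    rw [e, orderOf_one] at hu
    exact hp.out.one_lt.ne hu
  refine ⟨?_, _, hω, hne⟩
  have hprim : IsPrimitiveRoot (u : F) p := by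
    refine (IsPrimitiveRoot.coe_units_iff).2 ?_
    rw [← hu]; exact IsPrimitiveRoot.orderOf u
  rw [Nat.card_eq_fintype_card, Fintype.card_subtype]
  refine (congrArg Finset.card ?_).trans hprim.card_nthRootsFinset
  ext x
  simp [Polynomial.mem_nthRootsFinset hp.out.pos]

theorem factorization_sub_one {q : ℕ} [hp : Fact p.Prime] (hp2 : p ≠ 2) (hq : 2 ≤ q) (h1 : p ∣ q - 1)
    (h2 : ¬ p ^ 2 ∣ q - 1) {k : ℕ} (hk : 1 ≤ k) (hkp : k ≤ p) :
    (q ^ k - 1).factorization p = if k = p then 2 else 1 := by
  have hpq : ¬ p ∣ q := fun h => hp.out.not_dvd_one (by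
    have := Nat.dvd_sub h h1
    rwa [show q - (q - 1) = 1 by omega] at this)
  have hv1 : (q - 1).factorization p = 1 := by
    refine le_antisymm ?_ (hp.out.factorization_pos_of_dvd (by omega) h1)
    by_contra hlt
    exact h2 ((hp.out.pow_dvd_iff_le_factorization (by omega)).2 (by omega))
  have he := Nat.emultiplicity_pow_sub_pow (p := p) hp.out (hp.out.odd_of_ne_two hp2) (x := q) (y := 1)
    h1 hpq k
  rw [one_pow] at he
  have hne : q ^ k - 1 ≠ 0 := by
    have : q ^ 1 ≤ q ^ k := Nat.pow_le_pow_right (by omega) hk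
    rw [pow_one] at this
    omega
  have e : ∀ n : ℕ, n ≠ 0 → emultiplicity p n = (n.factorization p : ℕ∞) := fun n hn => by
    rw [Nat.factorization_def _ hp.out, padicValNat_eq_emultiplicity hn]
  rw [e _ hne, e _ (by omega), e _ (by omega), hv1] at he
  have he' : (q ^ k - 1).factorization p = 1 + k.factorization p := by exact_mod_cast he
  rw [he']
  split_ifs with h
  · rw [h, hp.out.factorization_self]
  · rw [Nat.factorization_eq_zero_of_not_dvd fun hd => by
      have := Nat.le_of_dvd (by omega) hd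
      omega]

theorem card_gl_factorization [Fintype F] [hp : Fact p.Prime] (hp2 : p ≠ 2) (h1 : p ∣ Fintype.card F - 1)
    (h2 : ¬ p ^ 2 ∣ Fintype.card F - 1) :
    (Nat.card (GL (Fin p) F)).factorization p = p + 1 := by
  set q := Fintype.card F with hq
  have hq2 : 2 ≤ q := Fintype.one_lt_card
  have hpq : ¬ p ∣ q := fun h => hp.out.not_dvd_one (by
    have := Nat.dvd_sub h h1
    rwa [show q - (q - 1) = 1 by omega] at this)
  have e : ∀ i : Fin p, q ^ p - q ^ (i : ℕ) = q ^ (i : ℕ) * (q ^ (p - i) - 1) := fun i => by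
    rw [Nat.mul_sub, mul_one, ← pow_add, Nat.add_sub_cancel' i.2.le]
  have hne : ∀ i : Fin p, q ^ (p - i : ℕ) - 1 ≠ 0 := fun i => by
    have hlt : 1 < q ^ (p - i : ℕ) := Nat.one_lt_pow (by have := i.2; omega) (by omega)
    omega
  rw [Matrix.card_GL_field, ← hq, Nat.factorization_prod (fun i _ => by
    rw [e]; exact mul_ne_zero (pow_ne_zero _ (by omega)) (hne i)), Finsupp.finset_sum_apply]
  have hterm : ∀ i : Fin p, (q ^ p - q ^ (i : ℕ)).factorization p = if (i : ℕ) = 0 then 2 else 1 := by
    intro i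
    have := i.2
    rw [e, Nat.factorization_mul (pow_ne_zero _ (by omega)) (hne i), Finsupp.add_apply,
      Nat.factorization_pow, Finsupp.smul_apply, Nat.factorization_eq_zero_of_not_dvd hpq, smul_zero, zero_add,
      factorization_sub_one hp2 hq2 h1 h2 (by omega) (Nat.sub_le p i)]
    split_ifs <;> omega
  rw [Finset.sum_congr rfl fun i _ => hterm i]
  obtain ⟨m, rfl⟩ : ∃ m, p = m + 1 := ⟨p - 1, by have := hp.out.two_le; omega⟩
  rw [Fin.sum_univ_succ]
  simp
  omega

theorem not_mem_of_two_entries [Fintype F] [hp : Fact p.Prime] (hp2 : p ≠ 2) (g : GL (Fin p) F)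
    {ω : F} (hω : ω ^ p = 1) (hω1 : ω ≠ 1) {c i₁ i₂ : Fin p} (hi : i₁ ≠ i₂)
    (h₁ : (g : Matrix (Fin p) (Fin p) F) i₁ c ≠ 0) (h₂ : (g : Matrix (Fin p) (Fin p) F) i₂ c ≠ 0) :
    ∃ d ∈ monoSubgroup F p, g * d * g⁻¹ ∉ monoSubgroup F p := by
  classical
  set dv : Fin p → F := fun j => if j = c then ω else 1 with hdv
  have hdvp : ∀ j, dv j ^ p = 1 := fun j => by simp only [hdv]; split_ifs <;> simp [hω]
  obtain ⟨d, hd⟩ := exists_gl (0 : Fin p) hdvp
  refine ⟨d, ⟨0, dv, hdvp, hd⟩, ?_⟩
  rintro ⟨l, w, hw, he⟩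
  set A := (g : Matrix (Fin p) (Fin p) F) with hA
  set R := ((g⁻¹ : GL (Fin p) F) : Matrix (Fin p) (Fin p) F) with hR
  have hAR : A * R = 1 := g.mul_inv
  have hRA : R * A = 1 := g.inv_mul
  have hform : ∀ i j, mono l w i j - (if i = j then 1 else 0) = A i c * (ω - 1) * R c j := by
    intro i j
    have e1 : mono l w = A * mono 0 dv * R := by rw [← he, ← hd, Units.val_mul, Units.val_mul]
    have e2 : (if i = j then (1 : F) else 0) = (A * R) i j := by rw [hAR, Matrix.one_apply]
    rw [e1, e2, Matrix.mul_apply, Matrix.mul_apply, ← Finset.sum_sub_distrib,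
      Finset.sum_eq_single c]
    · rw [mul_mono]; simp only [hdv, if_pos]; ring
    · intro b _ hb
      rw [mul_mono]; simp only [hdv, if_neg hb]; ring
    · simp
  by_cases hl : l = 0
  · subst hl
    have hR0 : ∀ j, R c j = 0 := by
      intro j
      obtain ⟨i, hij, hi0⟩ : ∃ i, i ≠ j ∧ A i c ≠ 0 := by
        by_cases h : i₁ = j
        · exact ⟨i₂, fun e => hi (h.trans e.symm), h₂⟩
        · exact ⟨i₁, h, h₁⟩
      have := hform i j
      rw [mono_apply, add_zero, if_neg (Ne.symm hij), if_neg hij, sub_zero] at this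
      rcases mul_eq_zero.1 this.symm with h | h
      · exact absurd h (mul_ne_zero hi0 (sub_ne_zero.2 hω1))
      · exact h
    have := congrFun (congrFun hRA c) c
    rw [Matrix.mul_apply, Matrix.one_apply_eq] at this
    simp [hR0] at this
  · have hall : ∀ i, A i c ≠ 0 ∧ R c i ≠ 0 := by
      intro i
      have := hform i i
      rw [mono_apply, if_neg (fun h => hl (by simpa using h)), if_pos rfl] at this
      constructor <;> intro h <;> rw [h] at this <;> simp at this
    obtain ⟨j, hj0, hjl⟩ : ∃ j : Fin p, j ≠ 0 ∧ j ≠ l := by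
      by_contra h
      push_neg at h
      have hsub : (Finset.univ : Finset (Fin p)) ⊆ {0, l} := fun j _ => by
        rcases eq_or_ne j 0 with e | e
        · simp [e]
        · simp [h j e]
      have hle := Finset.card_le_card hsub
      have h2 : ({0, l} : Finset (Fin p)).card ≤ 2 := Finset.card_le_two
      rw [Finset.card_univ, Fintype.card_fin] at hle
      have := hp.out.two_le
      omega
    have := hform 0 j
    rw [mono_apply, zero_add, if_neg hjl, if_neg (Ne.symm hj0), sub_zero] at this
    exact mul_ne_zero (mul_ne_zero (hall 0).1 (sub_ne_zero.2 hω1)) (hall j).2 this.symm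

theorem mono_pow (k : Fin p) (v : Fin p → F) (m : ℕ) :
    ∃ u : Fin p → F, mono k v ^ m = mono (m • k) u ∧
      u = fun i => ∏ t ∈ Finset.range m, v (i + t • k) := by
  refine ⟨_, ?_, rfl⟩
  induction m with
  | zero => rw [pow_zero, mono_one, zero_smul]; congr 1
  | succ m ih =>
    rw [pow_succ, ih, mono_mul, succ_nsmul]
    congr 1
    funext i
    rw [Finset.prod_range_succ]

theorem smul_injOn [hp : Fact p.Prime] {k : Fin p} (hk : k ≠ 0) :
    Function.Injective (fun t : Fin p => (t : ℕ) • k) := by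
  have ho : addOrderOf k = p := by
    refine ((Nat.dvd_prime hp.out).1 ?_).resolve_left (fun h => hk (AddMonoid.addOrderOf_eq_one_iff.1 h))
    have := addOrderOf_dvd_natCard k
    rwa [Nat.card_fin] at this
  intro a b h
  refine Fin.ext (nsmul_injOn_Iio_addOrderOf ?_ ?_ h) <;> rw [Set.mem_Iio, ho]
  · exact a.2
  · exact b.2


/-- Let p be an odd prime and F a finite field with q elements such that p divides q - 1 but p² does not. Then GL(p, F) has a Sylow p-subgroup Q such that every element of p-power order lies in some Sylow p-subgroup other than Q (a redundant Sylow p-subgroup). -/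
theorem result {F : Type*} [Field F] [Fintype F] (p : ℕ) [Fact p.Prime]
    (hp : p ≠ 2) (h1 : p ∣ Fintype.card F - 1) (h2 : ¬ p ^ 2 ∣ Fintype.card F - 1) :
    ∃ Q : Sylow p (Matrix.GeneralLinearGroup (Fin p) F), ∀ x : Matrix.GeneralLinearGroup (Fin p) F,
      (∃ k : ℕ, orderOf x = p ^ k) → ∃ P : Sylow p (Matrix.GeneralLinearGroup (Fin p) F), P ≠ Q ∧ x ∈ P := by
  classical
  haveI : NeZero p := ⟨(Fact.out : p.Prime).ne_zero⟩
  have hp' : p.Prime := Fact.out
  obtain ⟨hroots, ω, hω, hω1⟩ := card_roots (F := F) h1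
  set Q0 : Subgroup (GL (Fin p) F) := monoSubgroup F p with hQ0
  let Q : Sylow p (GL (Fin p) F) := Sylow.ofCard Q0
    (by rw [card_monoSubgroup hroots, card_gl_factorization hp h1 h2])
  refine ⟨Q, fun x hx => ?_⟩
  by_cases hxQ : x ∈ Q
  swap
  · obtain ⟨k, hk⟩ := hx
    have hP : IsPGroup p (Subgroup.zpowers x) := IsPGroup.of_card (n := k) (by rw [Nat.card_zpowers, hk])
    obtain ⟨P, hP⟩ := hP.exists_le_sylow
    exact ⟨P, fun e => hxQ (e ▸ hP (Subgroup.mem_zpowers x)), hP (Subgroup.mem_zpowers x)⟩
  suffices ∃ g : GL (Fin p) F, (∃ y ∈ Q0, x * g = g * y) ∧ ∃ c i₁ i₂ : Fin p, i₁ ≠ i₂ ∧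
      (g : Matrix (Fin p) (Fin p) F) i₁ c ≠ 0 ∧ (g : Matrix (Fin p) (Fin p) F) i₂ c ≠ 0 by
    obtain ⟨g, ⟨y, hy, hxy⟩, c, i₁, i₂, hi, h₁, h₂'⟩ := this
    obtain ⟨d, hd, hgd⟩ := not_mem_of_two_entries hp g hω hω1 hi h₁ h₂'
    refine ⟨g • Q, fun e => hgd ?_, ?_⟩
    · have h3 : g * d * g⁻¹ ∈ ((g • Q : Sylow p (GL (Fin p) F)) : Subgroup (GL (Fin p) F)) :=
        Subgroup.smul_mem_pointwise_smul d (MulAut.conj g) _ hd
      rw [e] at h3
      exact h3
    · have h3 : g * y * g⁻¹ ∈ ((g • Q : Sylow p (GL (Fin p) F)) : Subgroup (GL (Fin p) F)) :=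
        Subgroup.smul_mem_pointwise_smul y (MulAut.conj g) _ hy
      rwa [← hxy, mul_inv_cancel_right] at h3
  obtain ⟨k, v, hv, hxv⟩ := (show x ∈ Q0 from hxQ)
  have h1ne : ∀ i : Fin p, v i ≠ 0 := fun i => ne_zero_of_pow (hv i)
  by_cases hk : k = 0
  · subst hk
    by_cases hinj : Function.Injective v
    · -- all eigenvalues distinct: conjugate to the shift
      set ε : Fin p → F := fun i => (v i)⁻¹ with hε
      have hεp : ∀ i, ε i ^ p = 1 := fun i => by simp [hε, inv_pow, hv i]
      have hdet : IsUnit (Matrix.vandermonde ε).det :=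
        isUnit_iff_ne_zero.2 (Matrix.det_vandermonde_ne_zero_iff.2 fun a b h => hinj (inv_inj.1 h))
      obtain ⟨g, hg⟩ : IsUnit (Matrix.vandermonde ε) := (Matrix.isUnit_iff_isUnit_det _).2 hdet
      obtain ⟨y, hy⟩ := exists_gl (F := F) (1 : Fin p) (v := 1) (fun _ => one_pow p)
      refine ⟨g, ⟨y, ⟨1, 1, fun _ => one_pow p, hy⟩, Units.ext ?_⟩, 0, 0, 1, ?_, ?_, ?_⟩
      · rw [Units.val_mul, Units.val_mul, hxv, hy, hg]
        ext i j
        rw [mono_mul_apply, add_zero, Matrix.mul_apply, Finset.sum_eq_single (j - 1)]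
        · simp only [mono_apply, sub_add_cancel, if_pos, Pi.one_apply, mul_one, Matrix.vandermonde_apply]
          have hj : ε i ^ (j : ℕ) = ε i ^ ((j - 1 : Fin p) : ℕ) * ε i := by
            rw [← pow_succ]
            conv_lhs => rw [← sub_add_cancel j 1, Fin.val_add, Fin.val_one', Nat.add_mod_mod]
            exact (pow_eq_pow_mod _ (hεp i)).symm
          rw [hj, hε]
          field_simp [h1ne i]
        · intro b _ hb
          rw [mono_apply, if_neg (fun e => hb (by rw [e, add_sub_cancel_right])), mul_zero]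
        · simp
      · intro e
        have := congrArg Fin.val e
        rw [Fin.val_one', Fin.val_zero, Nat.one_mod_eq_one.2 hp'.ne_one] at this
        exact zero_ne_one this
      · simp [hg, Matrix.vandermonde_apply]
      · simp [hg, Matrix.vandermonde_apply]
    · -- a repeated eigenvalue: a transvection centralizes
      rw [Function.Injective] at hinj
      push_neg at hinj
      obtain ⟨i, j, hvij, hij⟩ := hinj
      obtain ⟨g, hg⟩ : IsUnit (Matrix.transvection i j (1 : F)) :=
        (Matrix.isUnit_iff_isUnit_det _).2 (by rw [Matrix.det_transvection_of_ne i j hij]; exact isUnit_one)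
      refine ⟨g, ⟨x, hxQ, Units.ext ?_⟩, j, i, j, hij, ?_, ?_⟩
      · rw [Units.val_mul, Units.val_mul, hxv, hg]
        ext a b
        rw [mono_mul_apply, mul_mono, add_zero, Matrix.transvection, Matrix.add_apply, Matrix.one_apply,
          Matrix.single_apply]
        by_cases hab : a = b
        · subst hab; ring
        · by_cases hab' : i = a ∧ j = b
          · obtain ⟨rfl, rfl⟩ := hab'; rw [hvij]; ring
          · rw [if_neg hab, if_neg hab']; ring
      · simp [hg, Matrix.transvection, hij]
      · simp [hg, Matrix.transvection, hij]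
  · -- a nontrivial shift
    set X := (x : Matrix (Fin p) (Fin p) F) with hX
    set c := ∏ i, v i with hc
    have hcp : c ^ p = 1 := by rw [hc, ← Finset.prod_pow]; simp [hv]
    have hXp : X ^ p = c • (1 : Matrix (Fin p) (Fin p) F) := by
      obtain ⟨u, hu, hu'⟩ := mono_pow k v p
      have hpk : p • k = 0 := addOrderOf_dvd_iff_nsmul_eq_zero.1
        (by simpa [Nat.card_fin] using addOrderOf_dvd_natCard k)
      rw [hxv, hu, hpk]
      ext a b
      rw [mono_apply, add_zero, Matrix.smul_apply, Matrix.one_apply, smul_eq_mul, hu']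
      split_ifs with h1 h2 h2
      · show (∏ t ∈ Finset.range p, v (a + t • k)) = c * 1
        rw [mul_one, hc, ← Fin.prod_univ_eq_prod_range (fun t => v (a + t • k)) p]
        exact Fintype.prod_bijective (fun t : Fin p => a + (t : ℕ) • k)
          (Finite.injective_iff_bijective.1 fun s t h => smul_injOn hk (add_left_cancel h)) _ _ (fun _ => rfl)
      · exact absurd h1.symm h2
      · exact absurd h2.symm h1
      · rw [mul_zero]
    have hX0 : ∀ a b : Fin p, b ≠ a + k → X a b = 0 := fun a b h => by rw [hxv, mono_apply, if_neg h]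
    have hX1 : ∀ a : Fin p, X a (a + k) = v a := fun a => by rw [hxv, mono_apply, if_pos rfl]
    by_cases hc1 : c = 1
    · -- centralized by `1 + β J`
      obtain ⟨β, hβ0, hβ1, hβ2⟩ : ∃ β : F, β ≠ 0 ∧ 1 + β ≠ 0 ∧ 1 + (p : F) * β ≠ 0 := by
        by_contra h
        push_neg at h
        have hsub : (Finset.univ : Finset F) ⊆ {0, -1, -((p : F)⁻¹)} := fun β _ => by
          simp only [Finset.mem_insert, Finset.mem_singleton]
          by_cases h0 : β = 0
          · exact Or.inl h0
          by_cases h' : 1 + β = 0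
          · exact Or.inr (Or.inl (eq_neg_of_add_eq_zero_right h'))
          have h'' := h β h0 h'
          have hp0 : (p : F) ≠ 0 := fun e => by rw [e, zero_mul, add_zero] at h''; exact one_ne_zero h''
          refine Or.inr (Or.inr ?_)
          rw [eq_neg_iff_add_eq_zero]
          field_simp
          linear_combination h''
        have hle := (Finset.card_le_card hsub).trans Finset.card_le_three
        rw [Finset.card_univ] at hle
        have h3 : p ≤ Fintype.card F - 1 := Nat.le_of_dvd (by
          have := Fintype.one_lt_card (α := F); omega) h1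
        have := hp'.two_le
        omega
      set J := ∑ t ∈ Finset.range p, X ^ t with hJ
      have hXJ : X * J = J := by
        rw [hJ, Finset.mul_sum]
        have e1 : ∑ t ∈ Finset.range p, X * X ^ t + X ^ 0 = ∑ t ∈ Finset.range p, X ^ t + X ^ p := by
          simp only [← pow_succ']
          rw [← Finset.sum_range_succ' (fun t => X ^ t) p, Finset.sum_range_succ]
        rw [hXp, hc1, one_smul, pow_zero] at e1
        exact add_right_cancel e1
      have hJX : J * X = J := by
        conv_rhs => rw [← hXJ]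
        rw [hJ, Finset.mul_sum, Finset.sum_mul]
        simp only [← pow_succ', ← pow_succ]
      have hJpow : ∀ t, X ^ t * J = J := by
        intro t
        induction t with
        | zero => simp
        | succ t ih => rw [pow_succ, mul_assoc, hXJ, ih]
      have hJJ : J * J = (p : F) • J := by
        nth_rw 1 [hJ]
        rw [Finset.sum_mul, Finset.sum_congr rfl fun t _ => hJpow t, Finset.sum_const, Finset.card_range,
          Nat.cast_smul_eq_nsmul]
      set γ := -β / (1 + (p : F) * β) with hγ
      have hmul : ((1 : Matrix (Fin p) (Fin p) F) + β • J) * (1 + γ • J) = 1 := by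
        have hs : β + γ + β * γ * p = 0 := by
          rw [hγ, div_eq_mul_inv]
          linear_combination (-β) * mul_inv_cancel₀ hβ2
        rw [mul_add, mul_one, add_mul, one_mul, smul_mul_smul_comm, hJJ, smul_smul, ← add_smul, add_assoc,
          ← add_smul, ← add_assoc, hs, zero_smul, add_zero]
      let g : GL (Fin p) F := ⟨_, _, hmul, mul_eq_one_comm.1 hmul⟩
      have hg : (g : Matrix (Fin p) (Fin p) F) = 1 + β • J := rfl
      have hJentry : ∀ t : Fin p, J 0 ((t : ℕ) • k) = (mono k v ^ (t : ℕ)) 0 ((t : ℕ) • k) := by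
        intro t
        rw [hJ, hxv, Matrix.sum_apply, Finset.sum_eq_single (t : ℕ)]
        · intro s hs hst
          obtain ⟨u, hu, -⟩ := mono_pow k v s
          rw [hu, mono_apply, if_neg]
          rw [zero_add]
          exact fun e => hst (congrArg Fin.val (smul_injOn hk (a₁ := ⟨s, Finset.mem_range.1 hs⟩) (a₂ := t) e.symm))
        · exact fun h => absurd (Finset.mem_range.2 t.2) h
      refine ⟨g, ⟨x, hxQ, Units.ext ?_⟩, k, 0, k, Ne.symm hk, ?_, ?_⟩
      · rw [Units.val_mul, Units.val_mul, hg, mul_add, add_mul, mul_one, one_mul, Matrix.mul_smul,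
          Matrix.smul_mul, ← hX, hXJ, hJX]
      · rw [hg, Matrix.add_apply, Matrix.one_apply_ne (Ne.symm hk), zero_add, Matrix.smul_apply, smul_eq_mul]
        have e := hJentry ⟨1, hp'.one_lt⟩
        simp only [one_smul, pow_one, mono_apply, zero_add, if_pos] at e
        rw [e]
        exact mul_ne_zero hβ0 (h1ne 0)
      · have hkk : J k k = 1 := by
          rw [hJ, hxv, Matrix.sum_apply, Finset.sum_eq_single 0]
          · simp
          · intro s hs hst
            obtain ⟨u, hu, -⟩ := mono_pow k v s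
            rw [hu, mono_apply, if_neg]
            intro e
            refine hst (congrArg Fin.val (smul_injOn hk (a₁ := ⟨s, Finset.mem_range.1 hs⟩) (a₂ := 0) ?_))
            simpa using e.symm
          · exact fun h => absurd (Finset.mem_range.2 hp'.pos) h
        rw [hg, Matrix.add_apply, Matrix.one_apply_eq, Matrix.smul_apply, smul_eq_mul, hkk, mul_one]
        exact hβ1
    · -- centralized by `1 + x`
      have hcne : 1 + c ≠ 0 := by
        intro h
        have hcm : c = -1 := eq_neg_of_add_eq_zero_right h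
        have := hcp
        rw [hcm, (hp'.odd_of_ne_two hp).neg_one_pow] at this
        exact hc1 (hcm.trans this)
      have hgeom := (Commute.one_left (-X)).mul_geom_sum₂ p
      rw [sub_neg_eq_add, one_pow, neg_pow, (hp'.odd_of_ne_two hp).neg_one_pow, neg_one_mul, sub_neg_eq_add,
        hXp] at hgeom
      set S := ∑ i ∈ Finset.range p, (1 : Matrix (Fin p) (Fin p) F) ^ i * (-X) ^ (p - 1 - i) with hS
      have hmul : (1 + X) * ((1 + c)⁻¹ • S) = 1 := by
        rw [Matrix.mul_smul, hgeom]
        have e : (1 : Matrix (Fin p) (Fin p) F) + c • 1 = (1 + c) • 1 := by rw [add_smul, one_smul]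
        rw [e, smul_smul, inv_mul_cancel₀ hcne, one_smul]
      let g : GL (Fin p) F := ⟨_, _, hmul, mul_eq_one_comm.1 hmul⟩
      have hg : (g : Matrix (Fin p) (Fin p) F) = 1 + X := rfl
      refine ⟨g, ⟨x, hxQ, Units.ext ?_⟩, k, 0, k, Ne.symm hk, ?_, ?_⟩
      · rw [Units.val_mul, Units.val_mul, hg, ← hX, mul_add, add_mul, mul_one, one_mul]
      · rw [hg, Matrix.add_apply, Matrix.one_apply_ne (Ne.symm hk), zero_add,
          show k = 0 + k from (zero_add k).symm, hX1]
        exact h1ne 0
      · rw [hg, Matrix.add_apply, Matrix.one_apply_eq, hX0 k k (fun e => hk (by simpa using e)), add_zero]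
        exact one_ne_zero

end Cfsg.Agent.S4358
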