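import Cfsg.Statements.S4363
import Cfsg.Agent.Lib.PGroup.TurullFix.Main

set_option autoImplicit false
open Cfsg

namespace Cfsg.Agent.S4363

open Subgroup
open CfsgLib.PGroup.TurullFix (res rser rser_map res_mono res_le_of rser_antitone rser_normal rser_succ core Cf mem_Cf)

private theorem isSolvable_range_aux {G : Type*} [Group G] {H : Type*} [Group H] (f : G →* H)
    (hG : Group.IsSolvable G) : Group.IsSolvable f.range := by
  haveI := hG
  exact solvable_of_surjective f.rangeRestrict_surjective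

private theorem rser_le_chain {G : Type*} [Group G] [Finite G] {n : ℕ} {F : Fin (n + 1) → Subgroup G}
    (htop : F (Fin.last n) = ⊤)
    (hF : ∀ i : Fin n, ∃ k : ℕ, (F i.succ).lowerCentralSeries k ≤ F i.castSucc) :
    ∀ j, ∀ hj : j ≤ n, rser (⊤ : Subgroup G) j ≤ F ⟨n - j, by omega⟩ := by
  intro j
  induction j with
  | zero => intro _; exact htop.ge
  | succ j ih =>
    intro hj
    obtain ⟨k, hk⟩ := hF ⟨n - (j + 1), by omega⟩
    have h1 := (res_mono (ih (by omega))).trans (res_le_of _ (N := F ⟨n - (j + 1), by omega⟩) (n := k) ?_)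
    · exact h1
    · have e : (⟨n - (j + 1), by omega⟩ : Fin n).succ = ⟨n - j, by omega⟩ :=
        Fin.ext (by simp only [Fin.val_succ]; omega)
      rw [e] at hk
      exact hk

/-- Let G be a finite solvable group and σ an automorphism of G of prime order r not dividing the order of G, with fixed-point subgroup C. Then the Fitting height of G exceeds that of C by at most 2: if C has a chain of normal subgroups 1 = C₀ ≤ ⋯ ≤ Cₙ = C with nilpotent factors, then G has such a chain of length n + 2. -/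
theorem result {G : Type*} [Group G] [Finite G]
    (hG : Group.IsSolvable G) (σ : MulAut G) (r : ℕ) (hr : r.Prime) (hσ : orderOf σ = r) (hcop : ¬ r ∣ Nat.card G)
    (C : Subgroup G) (hC : ∀ g : G, g ∈ C ↔ σ g = g) (n : ℕ) (hn : (∃ F : Fin (n + 1) → Subgroup ↥C, F 0 = ⊥ ∧ F (Fin.last n) = ⊤ ∧ Monotone F ∧ (∀ i, (F i).Normal) ∧ ∀ i : Fin n, ∃ k : ℕ, (F i.succ).lowerCentralSeries k ≤ F i.castSucc)) :
    (∃ F : Fin ((n + 2) + 1) → Subgroup G, F 0 = ⊥ ∧ F (Fin.last (n + 2)) = ⊤ ∧ Monotone F ∧ (∀ i, (F i).Normal) ∧ ∀ i : Fin (n + 2), ∃ k : ℕ, (F i.succ).lowerCentralSeries k ≤ F i.castSucc) := by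
  obtain ⟨F, hF0, hFtop, -, -, hFk⟩ := hn
  let φ : zpowers σ →* MulAut G := (zpowers σ).subtype
  let Γ := G ⋊[φ] zpowers σ
  let ι : G →* Γ := SemidirectProduct.inl
  have hι : Function.Injective ι := SemidirectProduct.inl_injective
  let s : zpowers σ := ⟨σ, mem_zpowers σ⟩
  let a : Γ := SemidirectProduct.inr s
  haveI : Finite (zpowers σ) := Nat.finite_of_card_ne_zero (by
    rw [Nat.card_zpowers, hσ]; exact hr.ne_zero)
  haveI : Finite Γ := Finite.of_equiv _ SemidirectProduct.equivProd.symm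
  haveI hKn : ι.range.Normal := by
    rw [SemidirectProduct.range_inl_eq_ker_rightHom]
    exact inferInstance
  have har : a ^ r = 1 := by
    rw [← map_pow, show s ^ r = 1 from Subtype.ext (hσ ▸ pow_orderOf_eq_one σ), map_one]
  have hco : r.Coprime (Nat.card ι.range) := by
    rw [← Nat.card_congr (MonoidHom.ofInjective hι).toEquiv]
    exact hr.coprime_iff_not_dvd.2 hcop
  have htop : ι.range ⊔ zpowers a = ⊤ := by
    refine eq_top_iff.2 fun x _ => ?_
    rw [← SemidirectProduct.inl_left_mul_inr_right x]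
    refine mul_mem (mem_sup_left ⟨x.left, rfl⟩) (mem_sup_right ?_)
    obtain ⟨i, hi⟩ := mem_zpowers_iff.1 x.right.2
    refine mem_zpowers_iff.2 ⟨i, ?_⟩
    rw [← map_zpow, show s ^ i = x.right from Subtype.ext (by rw [Subgroup.coe_zpow]; exact hi)]
  have hconj : ∀ g : G, a * ι g * a⁻¹ = ι (σ g) := fun g => by
    rw [← map_inv]
    exact (SemidirectProduct.inl_aut (φ := φ) s g).symm
  have hCf : Cf ι.range a = (C.map ι) := by
    ext x
    rw [mem_Cf]
    constructor
    · rintro ⟨⟨g, rfl⟩, hc⟩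
      refine mem_map_of_mem ι ((hC g).2 (hι ?_))
      rw [← hconj, ← hc.eq, mul_inv_cancel_right]
    · rintro ⟨g, hg, rfl⟩
      refine ⟨⟨g, rfl⟩, ?_⟩
      have h := hconj g
      rw [(hC g).1 hg, mul_inv_eq_iff_eq_mul] at h
      exact h.symm
  have hCn : rser (Cf ι.range a) n = ⊥ := by
    have h := rser_le_chain hFtop hFk n le_rfl
    have h0 : F ⟨n - n, by omega⟩ = ⊥ := by rw [← hF0]; exact congrArg F (Fin.ext (by simp))
    rw [h0, le_bot_iff] at h
    rw [hCf, ← C.range_subtype, MonoidHom.range_eq_map, map_map, ← rser_map, h, Subgroup.map_bot]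
  have hK : Group.IsSolvable ι.range :=
    isSolvable_range_aux ι hG
  have hN : rser ι.range (n + 2) = ⊥ := core hK hr har hco htop hCn
  rw [MonoidHom.range_eq_map, ← rser_map, (map_eq_bot_iff_of_injective _ hι)] at hN
  refine ⟨fun i => rser ⊤ (n + 2 - i), by simpa using hN, ?_, ?_, fun i => rser_normal ⊤ _, fun i => ?_⟩
  · simp [CfsgLib.PGroup.TurullFix.rser_zero]
  · exact fun i j hij => rser_antitone ⊤ (Nat.sub_le_sub_left hij _)
  · refine ⟨Nat.card (rser (⊤ : Subgroup G) (n + 2 - (i.succ : ℕ))), ?_⟩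
    show res (rser ⊤ (n + 2 - (i.succ : ℕ))) ≤ rser ⊤ (n + 2 - (i.castSucc : ℕ))
    rw [← rser_succ, Fin.val_succ, Fin.val_castSucc, show n + 2 - (i : ℕ) = n + 2 - ((i : ℕ) + 1) + 1 by omega]

end Cfsg.Agent.S4363
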