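import Cfsg.Statements.S4365
import Cfsg.Agent.Lib.Coprime.Solvable
import Mathlib.GroupTheory.Nilpotent

set_option autoImplicit false
open Cfsg

namespace Cfsg.Agent.S4365

open Subgroup Finset

variable {P : Type*} [Group P] [Finite P]

/-- All noncentral centralizers have the same order. -/
private def SameSize (P : Type*) [Group P] : Prop :=
  ∀ u v : P, u ∉ center P → v ∉ center P →
    Nat.card (centralizer ({u} : Set P)) = Nat.card (centralizer ({v} : Set P))

private theorem cent_eq_of_le (hS : SameSize P) {u v : P} (hu : u ∉ center P) (hv : v ∉ center P)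
    (h : centralizer ({u} : Set P) ≤ centralizer ({v} : Set P)) :
    centralizer ({u} : Set P) = centralizer ({v} : Set P) :=
  eq_of_le_of_card_ge h (hS u v hu hv).ge

private theorem cent_pow_eq (hS : SameSize P) {u : P} {k : ℕ} (hk : u ^ k ∉ center P) :
    centralizer ({u} : Set P) = centralizer ({u ^ k} : Set P) := by
  refine cent_eq_of_le hS (fun h => hk (pow_mem h k)) hk fun g hg => ?_
  rw [mem_centralizer_singleton_iff] at hg ⊢
  exact (Commute.pow_right (show Commute g u from hg) k).eq

private theorem cent_le_of_below (hS : SameSize P) {u v : P} {k : ℕ} (huv : Commute u v)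
    (hu : u ^ k ∈ center P) (hv : v ^ k ∉ center P) :
    centralizer ({v} : Set P) ≤ centralizer ({u} : Set P) := by
  have hw : (v * u) ^ k ∉ center P := fun h => hv (by
    rw [huv.symm.mul_pow] at h
    simpa using mul_mem h (inv_mem hu))
  have h1 : centralizer ({(v * u) ^ k} : Set P) = centralizer ({v ^ k} : Set P) := by
    rw [huv.symm.mul_pow]
    ext g
    rw [mem_centralizer_singleton_iff, mem_centralizer_singleton_iff, ← mul_assoc,
      mul_assoc (v ^ k), ← mem_center_iff.1 hu g, ← mul_assoc, mul_left_inj]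
  have h2 : centralizer ({v} : Set P) = centralizer ({v * u} : Set P) := by
    rw [cent_pow_eq hS hw, cent_pow_eq hS hv, h1]
  intro g hg
  have hg2 : g ∈ centralizer ({v * u} : Set P) := h2 ▸ hg
  rw [mem_centralizer_singleton_iff] at hg hg2 ⊢
  rw [← mul_assoc, hg, mul_assoc, mul_assoc] at hg2
  exact mul_left_cancel hg2

private theorem pow_mem_center {p : ℕ} [Fact p.Prime] (hP : IsPGroup p P) (hS : SameSize P)
    (x : P) : x ^ p ∈ center P := by
  classical
  by_contra hx
  have hp : p.Prime := Fact.out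
  set A := centralizer ({x} : Set P) with hA
  have hxA : x ∈ A := mem_centralizer_singleton_iff.2 rfl
  -- the centralizer of `x` is abelian
  have hCA : ∀ y ∈ A, y ∉ center P → centralizer ({y} : Set P) = A := by
    intro y hy hyZ
    have hxy : Commute y x := mem_centralizer_singleton_iff.1 hy
    have key : ∀ w : P, Commute w x → w ∉ center P → (∃ k, w ^ k ∈ center P ∧ x ^ k ∉ center P) →
        centralizer ({w} : Set P) = A := by
      rintro w hw hwZ ⟨k, hk1, hk2⟩
      exact (cent_eq_of_le hS (fun h => hx (pow_mem h p)) hwZ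
        (cent_le_of_below hS hw hk1 hk2)).symm
    by_cases h1 : ∃ k, y ^ k ∈ center P ∧ x ^ k ∉ center P
    · exact key y hxy hyZ h1
    by_cases h2 : ∃ k, x ^ k ∈ center P ∧ y ^ k ∉ center P
    · obtain ⟨k, hk1, hk2⟩ := h2
      exact cent_eq_of_le hS hyZ (fun h => hx (pow_mem h p))
        (cent_le_of_below hS hxy.symm hk1 hk2)
    push Not at h1 h2
    have hyp : y ^ p ∉ center P := fun h => hx (h1 p h)
    obtain ⟨n, hn⟩ := hP x
    have hex : ∃ j, x ^ p ^ j ∈ center P := ⟨n, by rw [hn]; exact one_mem _⟩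
    set i := Nat.find hex
    have hi : x ^ p ^ i ∈ center P := Nat.find_spec hex
    obtain ⟨j, hj⟩ : ∃ j, i = j + 1 := by
      rcases Nat.eq_zero_or_eq_succ_pred i with h0 | h0
      · rw [h0, pow_zero, pow_one] at hi
        exact absurd (pow_mem hi p) hx
      · exact ⟨i - 1, h0⟩
    rw [cent_pow_eq hS hyp]
    refine key (y ^ p) (hxy.pow_left p) hyp ⟨p ^ j, ?_, Nat.find_min hex (by omega)⟩
    rw [← pow_mul, ← pow_succ', ← hj]
    exact h2 _ hi
  have hcomm : ∀ a ∈ A, ∀ b ∈ A, a * b = b * a := by
    intro a ha b hb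
    by_cases hbZ : b ∈ center P
    · exact mem_center_iff.1 hbZ a
    · rw [← hCA b hb hbZ] at ha
      exact mem_centralizer_singleton_iff.1 ha
  haveI : IsMulCommutative A := ⟨⟨fun a b => Subtype.ext (hcomm a a.2 b b.2)⟩⟩
  have hZA : center P ≤ A := fun z hz => mem_centralizer_singleton_iff.2 (mem_center_iff.1 hz x).symm
  set N := normalizer (A : Set P) with hN
  have hAN : A ≤ N := le_normalizer
  -- an element moved into the centre
  obtain ⟨a₀, ha₀A, ha₀Z, ha₀p, ha₀⟩ : ∃ a₀ ∈ A, a₀ ∉ center P ∧ a₀ ^ p ∈ center P ∧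
      ∀ g ∈ N, g * a₀ * g⁻¹ * a₀⁻¹ ∈ center P := by
    let M : Subgroup P :=
      { carrier := {b | b ∈ A ∧ b ^ p ∈ center P}
        one_mem' := ⟨one_mem _, by rw [one_pow]; exact one_mem _⟩
        mul_mem' := fun {b c} hb hc => ⟨mul_mem hb.1 hc.1, by
          rw [(show Commute b c from hcomm b hb.1 c hc.1).mul_pow]; exact mul_mem hb.2 hc.2⟩
        inv_mem' := fun {b} hb => ⟨inv_mem hb.1, by rw [inv_pow]; exact inv_mem hb.2⟩ }
    haveI hM : (M.subgroupOf N).Normal := ⟨fun m hm g => by
      rw [mem_subgroupOf] at hm ⊢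
      refine ⟨(mem_normalizer_iff.1 g.2 _).1 hm.1, ?_⟩
      push_cast
      rw [conj_pow, mem_center_iff.1 hm.2 (g : P), mul_inv_cancel_right]
      exact hm.2⟩
    haveI : Group.IsNilpotent N := (hP.to_subgroup N).isNilpotent
    let Z' := (center P).subgroupOf N
    haveI : Z'.Normal := inferInstance
    let π := QuotientGroup.mk' Z'
    haveI : (M.subgroupOf N).map π |>.Normal := hM.map π (QuotientGroup.mk'_surjective Z')
    have hne : (M.subgroupOf N).map π ≠ ⊥ := by
      intro e
      obtain ⟨n, hn⟩ := hP x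
      have hex : ∃ j, x ^ p ^ j ∈ center P := ⟨n, by rw [hn]; exact one_mem _⟩
      set i := Nat.find hex
      have hi : x ^ p ^ i ∈ center P := Nat.find_spec hex
      obtain ⟨j, hj⟩ : ∃ j, i = j + 1 := by
        rcases Nat.eq_zero_or_eq_succ_pred i with h0 | h0
        · rw [h0, pow_zero, pow_one] at hi
          exact absurd (pow_mem hi p) hx
        · exact ⟨i - 1, h0⟩
      have hm : (⟨x ^ p ^ j, hAN (pow_mem hxA _)⟩ : N) ∈ M.subgroupOf N := by
        rw [mem_subgroupOf]
        exact ⟨pow_mem hxA _, by rw [← pow_mul, ← pow_succ, ← hj]; exact hi⟩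
      have h1 := mem_map_of_mem π hm
      rw [e, mem_bot] at h1
      have h2 := (QuotientGroup.eq_one_iff _).1 h1
      rw [mem_subgroupOf] at h2
      exact Nat.find_min hex (show j < i by omega) h2
    obtain ⟨⟨q, hq⟩, hq1⟩ := ne_bot_iff_exists_ne_one.1
      (CfsgLib.Coprime.nilpotent_inf_center_ne_bot _ hne)
    obtain ⟨⟨b, hb, rfl⟩, hqc⟩ := hq
    rw [SetLike.mem_coe, mem_subgroupOf] at hb
    refine ⟨(b : P), hb.1, fun h => hq1 (Subtype.ext ((QuotientGroup.eq_one_iff _).2 (mem_subgroupOf.2 h))), hb.2,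
      fun g hg => ?_⟩
    have h1 : π (⟨g, hg⟩ * b * ⟨g, hg⟩⁻¹ * b⁻¹) = 1 := by
      rw [map_mul, map_mul, map_mul, map_inv, map_inv, mem_center_iff.1 hqc (π ⟨g, hg⟩)]
      group
    exact mem_subgroupOf.1 ((QuotientGroup.eq_one_iff _).1 h1)
  have hd : ∀ g ∈ N, g * a₀ * g⁻¹ * a₀⁻¹ = 1 → g ∈ A := fun g _ h => by
    rw [← hCA a₀ ha₀A ha₀Z, mem_centralizer_singleton_iff]
    exact mul_inv_eq_iff_eq_mul.1 (mul_inv_eq_one.1 h)
  have hdmul : ∀ g ∈ N, ∀ g' ∈ N, g * g' * a₀ * (g * g')⁻¹ * a₀⁻¹ =
      (g * a₀ * g⁻¹ * a₀⁻¹) * (g' * a₀ * g'⁻¹ * a₀⁻¹) := by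
    intro g _ g' hg'
    have hz := mem_center_iff.1 (ha₀ g' hg')
    calc g * g' * a₀ * (g * g')⁻¹ * a₀⁻¹
        = g * (g' * a₀ * g'⁻¹ * a₀⁻¹) * (a₀ * g⁻¹ * a₀⁻¹) := by group
      _ = (g' * a₀ * g'⁻¹ * a₀⁻¹) * g * (a₀ * g⁻¹ * a₀⁻¹) := by rw [hz g]
      _ = (g' * a₀ * g'⁻¹ * a₀⁻¹) * (g * a₀ * g⁻¹ * a₀⁻¹) := by group
      _ = _ := (hz _).symm
  let D : N →* center P :=
    { toFun := fun g => ⟨g * a₀ * (g : P)⁻¹ * a₀⁻¹, ha₀ g g.2⟩
      map_one' := Subtype.ext (show (1 : P) * a₀ * 1⁻¹ * a₀⁻¹ = 1 by group)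
      map_mul' := fun g g' => Subtype.ext (hdmul g g.2 g' g'.2) }
  have hD1 : ∀ g : N, D g = 1 → (g : P) ∈ A := fun g h =>
    hd g g.2 (congrArg Subtype.val h)
  have hpowA : ∀ g ∈ N, g ^ p ∈ A := by
    intro g hg
    refine hD1 (⟨g, hg⟩ ^ p) ?_
    rw [map_pow]
    refine Subtype.ext ?_
    show (g * a₀ * g⁻¹ * a₀⁻¹) ^ p = 1
    have hc : Commute (g * a₀ * g⁻¹ * a₀⁻¹) a₀ := (mem_center_iff.1 (ha₀ g hg) a₀).symm
    have h2 := hc.mul_pow p
    rw [inv_mul_cancel_right, conj_pow, mem_center_iff.1 ha₀p g, mul_inv_cancel_right] at h2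
    exact mul_eq_right.1 h2.symm
  -- a second abelian subgroup bounds `A / Z`
  have hsmall : ∀ B : Subgroup P, B ⊓ A ≤ center P → B.relIndex A ≤ p → False := by
    intro B hB hle
    refine hx ?_
    have h1 : (center P).relIndex A ≤ p := by
      refine le_trans ?_ hle
      rw [← inf_relIndex_right B A]
      exact Nat.le_of_dvd (Nat.pos_of_ne_zero FiniteIndex.index_ne_zero)
        (relIndex_dvd_of_le_left A hB)
    obtain ⟨k, hk⟩ := (hP.to_subgroup A).index ((center P).subgroupOf A)
    have hk' : (center P).relIndex A = p ^ k := hk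
    have hkle : k ≤ 1 := (Nat.pow_le_pow_iff_right hp.one_lt).1 (by rw [pow_one, ← hk']; exact h1)
    have h2 := pow_index_mem ((center P).subgroupOf A) (⟨x, hxA⟩ : A)
    rw [hk, mem_subgroupOf] at h2
    interval_cases k
    · rw [pow_zero] at h2
      exact pow_mem (by simpa using h2) p
    · simpa using h2
  have hAtop : A ≠ ⊤ := fun h => hx (pow_mem (mem_center_iff.2 fun g =>
    mem_centralizer_singleton_iff.1 (show g ∈ A from h ▸ mem_top g)) p)
  obtain ⟨g, hgN, hgA⟩ : ∃ g, g ∈ N ∧ g ∉ A := by
    haveI : Group.IsNilpotent P := hP.isNilpotent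
    exact SetLike.exists_of_lt (Group.normalizerCondition_of_isNilpotent A (lt_top_iff_ne_top.2 hAtop))
  let φ : N →* MulAut A := normalizerMonoidHom A
  have hφA : ∀ u : N, (u : P) ∈ A → φ u = 1 := by
    intro u hu
    refine MulEquiv.ext fun a => Subtype.ext ?_
    show (u : P) * a * (u : P)⁻¹ = a
    rw [hcomm _ hu _ a.2, mul_inv_cancel_right]
  set G₁ : N := ⟨g, hgN⟩ with hG₁
  by_cases hex : ∃ h : N, ∀ k : ℕ, ((G₁ ^ k)⁻¹ * h : N).1 ∉ A
  · -- the automizer has two independent elements
    obtain ⟨h, hh⟩ := hex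
    have hφp : ∀ u : N, φ u ^ p = 1 := fun u => by
      rw [← map_pow]; exact hφA _ (by simpa using hpowA u u.2)
    have hφc : Commute (φ G₁) (φ h) := by
      have h1 : φ (G₁ * h * G₁⁻¹ * h⁻¹) = 1 := hφA _ (hD1 _ (by
        rw [map_mul, map_mul, map_mul, map_inv, map_inv]
        refine Subtype.ext ?_
        push_cast
        rw [← mem_center_iff.1 (D G₁).2 ((D h : center P) : P)]
        group))
      rw [map_mul, map_mul, map_mul, map_inv, map_inv, mul_inv_eq_one, mul_inv_eq_iff_eq_mul] at h1
      exact h1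
    letI : CommGroup A :=
      { (inferInstance : Group A) with mul_comm := fun a b => Subtype.ext (hcomm a a.2 b b.2) }
    let nm : N → A → A := fun u a => ∏ i ∈ range p, (φ u ^ i) a
    have hnm : ∀ u : N, (u : P) ∉ A → ∀ a : A, (nm u a : P) ∈ center P := by
      intro u hu a
      have h1 : φ u (nm u a) = nm u a := by
        rw [map_prod]
        have h2 : ∀ i, φ u ((φ u ^ i) a) = (φ u ^ (i + 1)) a := fun i => by
          rw [pow_succ']; rfl
        simp only [h2, nm]
        have h3 := Finset.prod_range_succ' (fun i => (φ u ^ i) a) p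
        rw [Finset.prod_range_succ, hφp u, pow_zero] at h3
        exact (mul_right_cancel h3).symm
      by_contra hZ
      refine hu ?_
      rw [← hCA _ (nm u a).2 hZ, mem_centralizer_singleton_iff]
      exact mul_inv_eq_iff_eq_mul.1 (congrArg Subtype.val h1)
    have hall : ∀ a : A, (a : P) ^ p ∈ center P := by
      intro a
      have h1 : ((∏ k ∈ range p, nm (G₁ ^ k * h) a : A) : P) ∈ center P := by
        have : ∏ k ∈ range p, nm (G₁ ^ k * h) a ∈ (center P).subgroupOf A :=
          prod_mem fun k _ => mem_subgroupOf.2 (hnm (G₁ ^ k * h) (fun hk => by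
            obtain ⟨m, hm⟩ : ∃ m, G₁ ^ (k * p) = G₁ ^ k * G₁ ^ m := ⟨k * p - k, by
              rw [← pow_add, Nat.add_sub_cancel' (Nat.le_mul_of_pos_right k hp.pos)]⟩
            refine hh m ?_
            have e : (G₁ ^ m)⁻¹ * h = (G₁ ^ (k * p))⁻¹ * (G₁ ^ k * h) := by
              rw [hm, show G₁ ^ k * G₁ ^ m = G₁ ^ m * G₁ ^ k from (Commute.pow_pow_self G₁ k m).eq]
              group
            rw [e]
            push_cast
            refine mul_mem (inv_mem ?_) hk
            rw [mul_comm, pow_mul]
            exact pow_mem (hpowA g hgN) k) a)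
        exact mem_subgroupOf.1 this
      rw [Finset.prod_comm] at h1
      obtain ⟨q, hq⟩ : ∃ q, p = q + 1 := ⟨p - 1, by have := hp.pos; omega⟩
      rw [show range p = range (q + 1) by rw [hq], Finset.prod_range_succ'] at h1
      simp only [pow_zero, MulAut.one_apply, Finset.prod_const, Finset.card_range, ← hq] at h1
      have h2 : ∏ i ∈ range q, ∏ k ∈ range p, (φ (G₁ ^ k * h) ^ (i + 1)) a ∈
          (center P).subgroupOf A := by
        refine prod_mem fun i hi => mem_subgroupOf.2 ?_
        have hperm : ∏ k ∈ range p, (φ (G₁ ^ k * h) ^ (i + 1)) a =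
            nm G₁ ((φ h ^ (i + 1)) a) := by
          refine Finset.prod_bij (fun k _ => (k * (i + 1)) % p)
            (fun k _ => mem_range.2 (Nat.mod_lt _ hp.pos)) ?_ ?_ ?_
          · intro k hk k' hk' e
            have hcop : p.gcd (i + 1) = 1 := Nat.Coprime.gcd_eq_one (hp.coprime_iff_not_dvd.2 fun hd => by
              have := Nat.le_of_dvd (Nat.succ_pos i) hd
              have := mem_range.1 hi
              omega)
            exact Nat.ModEq.eq_of_lt_of_lt (Nat.ModEq.cancel_right_of_coprime hcop e)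
              (mem_range.1 hk) (mem_range.1 hk')
          · intro j hj
            have hcop : p.gcd (i + 1) = 1 := Nat.Coprime.gcd_eq_one (hp.coprime_iff_not_dvd.2 fun hd => by
              have := Nat.le_of_dvd (Nat.succ_pos i) hd
              have := mem_range.1 hi
              omega)
            have hinj : Set.InjOn (fun k => (k * (i + 1)) % p) (range p : Set ℕ) := fun k hk k' hk' e =>
              Nat.ModEq.eq_of_lt_of_lt (Nat.ModEq.cancel_right_of_coprime hcop e)
                (mem_range.1 hk) (mem_range.1 hk')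
            have himg : (range p).image (fun k => (k * (i + 1)) % p) = range p :=
              Finset.eq_of_subset_of_card_le
                (Finset.image_subset_iff.2 fun k _ => mem_range.2 (Nat.mod_lt _ hp.pos))
                (Finset.card_image_of_injOn hinj).ge
            obtain ⟨k, hk, hkj⟩ := Finset.mem_image.1 (himg.symm ▸ hj)
            exact ⟨k, hk, hkj⟩
          · intro k _
            rw [map_mul, map_pow, (hφc.pow_left k).mul_pow, ← pow_mul, ← pow_eq_pow_mod _ (hφp G₁)]
            rfl
        rw [hperm]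
        exact hnm G₁ hgA _
      rw [Subgroup.coe_mul] at h1
      simpa using mul_mem (inv_mem (mem_subgroupOf.1 h2)) h1
    exact hx (hall ⟨x, hxA⟩)
  · -- the automizer has order p
    push Not at hex
    by_cases hNtop : N = ⊤
    · have hgZ : g ∉ center P := fun h => hgA (hZA h)
      have hrel : A.index ≤ p := by
        haveI hAn : A.Normal := normalizer_eq_top_iff.1 hNtop
        have hgen : ∀ q : P ⧸ A, q ∈ zpowers (g : P ⧸ A) := by
          intro q
          induction q using QuotientGroup.induction_on with | _ u => ?_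
          obtain ⟨k, hk⟩ := hex ⟨u, hNtop ▸ mem_top u⟩
          exact ⟨k, by
            show (g : P ⧸ A) ^ (k : ℤ) = (u : P ⧸ A)
            rw [zpow_natCast, ← QuotientGroup.mk_pow]
            exact QuotientGroup.eq.2 hk⟩
        rw [index_eq_card, ← Nat.card_congr (Equiv.subtypeUnivEquiv hgen)]
        refine le_of_le_of_eq ?_ rfl
        show Nat.card (zpowers (g : P ⧸ A)) ≤ p
        rw [Nat.card_zpowers]
        exact Nat.le_of_dvd hp.pos (orderOf_dvd_of_pow_eq_one (by
          rw [← QuotientGroup.mk_pow, QuotientGroup.eq_one_iff]; exact hpowA g hgN))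
      refine hsmall (centralizer ({g} : Set P)) ?_ ?_
      · intro a ha
        by_contra haZ
        refine hgA ?_
        rw [← hCA a ha.2 haZ, mem_centralizer_singleton_iff]
        exact (mem_centralizer_singleton_iff.1 ha.1).symm
      · refine le_trans ((relIndex_le_of_le_right le_top (by rw [relIndex_top_right]; exact FiniteIndex.index_ne_zero)).trans (relIndex_top_right _).le) (le_trans (le_of_eq ?_) hrel)
        have h1 := (centralizer ({g} : Set P)).index_mul_card
        rw [hS g x hgZ (fun h => hx (pow_mem h p)), ← A.index_mul_card] at h1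
        exact Nat.eq_of_mul_eq_mul_right Nat.card_pos h1
    · haveI : Group.IsNilpotent P := hP.isNilpotent
      obtain ⟨h, hhN, hhN'⟩ := SetLike.exists_of_lt
        (Group.normalizerCondition_of_isNilpotent N (lt_top_iff_ne_top.2 hNtop))
      set B := A.map (MulAut.conj h).toMonoidHom with hB
      have hBN : B ≤ N := by
        rintro _ ⟨a, ha, rfl⟩
        exact (mem_normalizer_iff.1 hhN a).1 (hAN ha)
      have hBA : ¬ B ≤ A := fun hle => hhN' (by
        have he : B = A := eq_of_le_of_card_ge hle
          (card_map_of_injective (MulAut.conj h).injective).ge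
        rw [hN, mem_normalizer_iff]
        intro a
        constructor
        · intro ha
          exact he.le ⟨a, ha, rfl⟩
        · intro ha
          obtain ⟨b, hb, hbe⟩ := he.ge ha
          exact (MulAut.conj h).injective hbe ▸ hb)
      refine hsmall B ?_ ?_
      · intro a ha
        by_contra haZ
        refine hBA fun b hb => ?_
        rw [← hCA a ha.2 haZ, mem_centralizer_singleton_iff]
        obtain ⟨c, hc, rfl⟩ := hb
        obtain ⟨d, hd', rfl⟩ := ha.1
        rw [← map_mul, hcomm c hc d hd', map_mul]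
      · have h1 : B.relIndex N ≤ p := by
          have h2 : A.relIndex N ≤ p := by
            haveI := normal_in_normalizer (H := A)
            have hgen : ∀ q : N ⧸ A.subgroupOf N, q ∈ zpowers (G₁ : N ⧸ A.subgroupOf N) := by
              intro q
              induction q using QuotientGroup.induction_on with | _ u => ?_
              obtain ⟨k, hk⟩ := hex u
              exact ⟨k, by
                show (G₁ : N ⧸ A.subgroupOf N) ^ (k : ℤ) = (u : N ⧸ A.subgroupOf N)
                rw [zpow_natCast, ← QuotientGroup.mk_pow]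
                exact QuotientGroup.eq.2 (mem_subgroupOf.2 hk)⟩
            show (A.subgroupOf N).index ≤ p
            rw [index_eq_card, ← Nat.card_congr (Equiv.subtypeUnivEquiv hgen)]
            show Nat.card (zpowers (G₁ : N ⧸ A.subgroupOf N)) ≤ p
            rw [Nat.card_zpowers]
            exact Nat.le_of_dvd hp.pos (orderOf_dvd_of_pow_eq_one (by
              rw [← QuotientGroup.mk_pow, QuotientGroup.eq_one_iff, mem_subgroupOf]
              push_cast
              exact hpowA g hgN))
          refine le_of_eq_of_le ?_ h2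
          have e1 := relIndex_mul_relIndex ⊥ B N bot_le hBN
          have e2 := relIndex_mul_relIndex ⊥ A N bot_le hAN
          rw [relIndex_bot_left, relIndex_bot_left] at e1 e2
          rw [hB, card_map_of_injective (MulAut.conj h).injective] at e1
          exact Nat.eq_of_mul_eq_mul_left (Nat.card_pos (α := A)) (e1.trans e2.symm)
        exact le_trans (relIndex_le_of_le_right hAN FiniteIndex.index_ne_zero) h1

/-- Let P be a finite p-group whose conjugacy class sizes are exactly 1 and pᵃ for some a ≥ 1. Then every element of P has its p-th power in the center of P (P/Z(P) has exponent p). -/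
theorem result {P : Type*} [Group P] [Finite P] (p : ℕ) [Fact p.Prime]
    (hP : IsPGroup p P) (a : ℕ) (ha : 1 ≤ a)
    (hcs : {k : ℕ | ∃ x : P, (Subgroup.centralizer ({x} : Set P)).index = k} = {1, p ^ a}) (x : P) :
    x ^ p ∈ Subgroup.center P := by
  refine pow_mem_center hP (fun u v hu hv => ?_) x
  have h : ∀ w : P, w ∉ Subgroup.center P →
      (Subgroup.centralizer ({w} : Set P)).index = p ^ a := fun w hw => by
    have h1 : (Subgroup.centralizer ({w} : Set P)).index ∈ ({1, p ^ a} : Set ℕ) := hcs ▸ ⟨w, rfl⟩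
    refine Set.eq_of_mem_singleton (h1.resolve_left fun e => hw ?_)
    rw [Subgroup.index_eq_one, Subgroup.centralizer_eq_top_iff_subset] at e
    exact e rfl
  have e1 := (Subgroup.centralizer ({u} : Set P)).index_mul_card
  have e2 := (Subgroup.centralizer ({v} : Set P)).index_mul_card
  rw [h u hu, ← e2, h v hv] at e1
  exact Nat.eq_of_mul_eq_mul_left (Nat.pow_pos (Nat.Prime.pos Fact.out)) e1

end Cfsg.Agent.S4365
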