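import Cfsg.Statements.S4369
import Cfsg.Agent.Lib.MinNonCA.Forward
import Cfsg.Agent.Lib.MinNonCA.Converse

set_option autoImplicit false
open Cfsg

namespace Cfsg.Agent.S4369

/-- Call a group a CA-group when the centralizer of every non-central element is abelian. A finite group G is non-solvable, is not a CA-group, and has all its proper subgroups CA-groups, if and only if G is isomorphic to PSL(2, q) where q > 5 is a prime with 16 not dividing q² - 1, or q = 3ᵖ or q = 5ᵖ for an odd prime p. -/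
theorem result {G : Type*} [Group G] [Finite G] :
    (¬ Group.IsSolvable G ∧ ¬ (∀ x : G, x ∉ Subgroup.center G → IsMulCommutative (Subgroup.centralizer ({x} : Set G))) ∧ ∀ H : Subgroup G, H ≠ ⊤ → (∀ x : H, x ∉ Subgroup.center H → IsMulCommutative (Subgroup.centralizer ({x} : Set H)))) ↔
      ∃ (F : Type) (_ : Field F) (_ : Fintype F), Nonempty (G ≃* Matrix.ProjectiveSpecialLinearGroup (Fin 2) F) ∧
        (((Fintype.card F).Prime ∧ 5 < Fintype.card F ∧ ¬ 16 ∣ Fintype.card F ^ 2 - 1) ∨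
         (∃ p : ℕ, p.Prime ∧ p ≠ 2 ∧ (Fintype.card F = 3 ^ p ∨ Fintype.card F = 5 ^ p))) := by
  have hiff : ∀ (K : Type _) [Group K], (∀ x : K, x ∉ Subgroup.center K →
      IsMulCommutative (Subgroup.centralizer ({x} : Set K))) ↔ CfsgLib.MinNonCA.CAOn (⊤ : Subgroup K) := by
    intro K _
    constructor
    · rintro h x - ⟨y, -, hxy⟩ a - b - hax hbx
      have hx : x ∉ Subgroup.center K := fun hc => hxy (CfsgLib.MinNonCA.commute_of_center hc y)
      haveI := h x hx
      exact congrArg Subtype.val (mul_comm'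
        (⟨a, CfsgLib.MinNonCA.mem_cent.2 hax⟩ : Subgroup.centralizer ({x} : Set K))
        ⟨b, CfsgLib.MinNonCA.mem_cent.2 hbx⟩)
    · intro h x hx
      obtain ⟨y, hy⟩ := CfsgLib.MinNonCA.exists_not_commute hx
      exact ⟨⟨fun a b => Subtype.ext (h.commute (Subgroup.mem_top x) (Subgroup.mem_top y) hy
        (Subgroup.mem_top a.1) (Subgroup.mem_top b.1) (CfsgLib.MinNonCA.mem_cent.1 a.2)
        (CfsgLib.MinNonCA.mem_cent.1 b.2)).eq⟩⟩
  have hsub : (∀ H : Subgroup G, H ≠ ⊤ → (∀ x : H, x ∉ Subgroup.center H →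
      IsMulCommutative (Subgroup.centralizer ({x} : Set H)))) ↔ CfsgLib.MinNonCA.SubCA G := by
    refine forall_congr' fun H => imp_congr_right fun _ => (hiff H).trans ⟨?_, ?_⟩
    · exact fun h => CfsgLib.MinNonCA.cAOn_of_equiv (MulEquiv.refl H) h
    · rintro h x - ⟨y, -, hxy⟩ a - b - hax hbx
      exact Subtype.ext (h.commute x.2 y.2 (fun hc => hxy (Subtype.ext hc.eq)) a.2 b.2
        (hax.map H.subtype) (hbx.map H.subtype)).eq
  rw [hsub, hiff G]
  constructor
  · rintro ⟨hsolv, hn, hp⟩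
    obtain ⟨F, iF, iFf, he, hq⟩ := CfsgLib.MinNonCA.forward hsolv hp hn
    exact ⟨F, iF, iFf, he, hq⟩
  · rintro ⟨F, iF, iFf, ⟨e⟩, hq⟩
    exact CfsgLib.MinNonCA.converse e hq

end Cfsg.Agent.S4369
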