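import Cfsg.Statements.S4370
-- import your own Cfsg.Agent.* helpers here
import Cfsg.Agent.Lib.Coprime.UniqueOrderP
import Mathlib.GroupTheory.SchurZassenhaus
import Mathlib.GroupTheory.SpecificGroups.Quaternion
import Mathlib.GroupTheory.SpecificGroups.Cyclic

set_option autoImplicit false
open Cfsg

namespace Cfsg.Agent.S4370

open Subgroup

/-- Centralizers of non-central elements of a quaternion group are cyclic. -/
theorem quaternion_centralizer {N : ℕ} (hN : 2 ≤ N) (q : QuaternionGroup N)
    (hq : q ∉ center (QuaternionGroup N)) :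
    IsCyclic ↥(centralizer ({q} : Set (QuaternionGroup N))) := by
  haveI : NeZero N := ⟨by omega⟩
  have two : ∀ i : ZMod (2 * N), i + i = 0 → i = 0 ∨ i = (N : ZMod (2 * N)) := by
    intro i hi
    have h := congrArg ZMod.val hi
    rw [ZMod.val_add, ZMod.val_zero] at h
    have hlt := ZMod.val_lt i
    obtain ⟨c, hc⟩ := Nat.dvd_of_mod_eq_zero h
    have hc2 : i.val = N * c := by rw [mul_assoc] at hc; omega
    have : c < 2 := Nat.lt_of_mul_lt_mul_left (a := N) (by rw [← hc2]; linarith)
    interval_cases c
    · left; exact (ZMod.val_eq_zero i).1 (by simpa using hc2)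
    · right; rw [← ZMod.natCast_zmod_val i, hc2, mul_one]
  have hNN : (N : ZMod (2 * N)) + (N : ZMod (2 * N)) = 0 := by
    rw [← Nat.cast_add, ← two_mul, ZMod.natCast_self]
  have hneg : -(N : ZMod (2 * N)) = N := neg_eq_of_add_eq_zero_left hNN
  have central : ∀ i : ZMod (2 * N), i + i = 0 → QuaternionGroup.a i ∈ center (QuaternionGroup N) := by
    intro i hi
    refine mem_center_iff.2 fun g => ?_
    have hi' : -i = i := neg_eq_of_add_eq_zero_left hi
    rcases g with j | j
    · rw [QuaternionGroup.a_mul_a, QuaternionGroup.a_mul_a, add_comm]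
    · rw [QuaternionGroup.xa_mul_a, QuaternionGroup.a_mul_xa, sub_eq_add_neg, hi']
  rcases q with i | i
  · refine isCyclic_of_le (H' := zpowers (QuaternionGroup.a (1 : ZMod (2 * N)))) fun g hg => ?_
    have hc := mem_centralizer_singleton_iff.1 hg
    rcases g with j | j
    · rw [← ZMod.natCast_zmod_val j, ← QuaternionGroup.a_one_pow]
      exact pow_mem (mem_zpowers _) _
    · rw [QuaternionGroup.xa_mul_a, QuaternionGroup.a_mul_xa, QuaternionGroup.xa.injEq] at hc
      exact absurd (central i (by linear_combination hc)) hq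
  · refine isCyclic_of_le (H' := zpowers (QuaternionGroup.xa i)) fun g hg => ?_
    have hc := mem_centralizer_singleton_iff.1 hg
    rcases g with j | j
    · rw [QuaternionGroup.a_mul_xa, QuaternionGroup.xa_mul_a, QuaternionGroup.xa.injEq] at hc
      rcases two j (by linear_combination -hc) with rfl | rfl
      · rw [QuaternionGroup.a_zero]; exact one_mem _
      · rw [← QuaternionGroup.xa_sq i]; exact pow_mem (mem_zpowers _) 2
    · rw [QuaternionGroup.xa_mul_xa, QuaternionGroup.xa_mul_xa, QuaternionGroup.a.injEq] at hc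
      rcases two (j - i) (by linear_combination -hc) with h | h
      · rw [sub_eq_zero.1 h]; exact mem_zpowers _
      · have e : (QuaternionGroup.xa i : QuaternionGroup N) ^ 3 = QuaternionGroup.xa j := by
          rw [pow_succ, QuaternionGroup.xa_sq, QuaternionGroup.a_mul_xa]
          exact congrArg _ (by linear_combination -h - hNN)
        rw [← e]; exact pow_mem (mem_zpowers _) 3

/-- Let G be a finite non-abelian nilpotent group. Then the centralizer of every non-central element of G is cyclic if and only if G is isomorphic to the direct product of a generalized quaternion group and a cyclic group of odd order. -/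
theorem result {G : Type*} [Group G] [Finite G] (hG : Group.IsNilpotent G)
    (hna : ¬ IsMulCommutative G) :
    (∀ x : G, x ∉ Subgroup.center G → IsCyclic (Subgroup.centralizer ({x} : Set G))) ↔
      ∃ (k m : ℕ), 1 ≤ k ∧ Odd m ∧ Nonempty (G ≃* QuaternionGroup (2 ^ k) × Multiplicative (ZMod m)) := by
  classical
  haveI := hG
  constructor
  · intro h
    obtain ⟨a₀, b₀, hab₀⟩ : ∃ a b : G, a * b ≠ b * a := by
      by_contra hc; push Not at hc; exact hna ⟨⟨hc⟩⟩
    have hsn : ∀ (p : ℕ) [Fact p.Prime] (P : Sylow p G), (P : Subgroup G).Normal := fun p _ P =>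
      Sylow.normal_of_normalizerCondition Group.normalizerCondition_of_isNilpotent P
    -- some Sylow subgroup is not central
    obtain ⟨p, hp, P, x, hxP, hx⟩ : ∃ (p : ℕ) (_ : Fact p.Prime) (P : Sylow p G) (x : G),
        x ∈ (P : Subgroup G) ∧ x ∉ Subgroup.center G := by
      by_contra hcon
      push Not at hcon
      apply hab₀
      have htop : Subgroup.center G = ⊤ := by
        rw [← Subgroup.index_eq_one]
        by_contra hne
        obtain ⟨q, hq, hd⟩ := Nat.exists_prime_and_dvd hne
        haveI := Fact.mk hq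
        obtain ⟨Q⟩ : Nonempty (Sylow q G) := inferInstance
        exact Q.not_dvd_index (hd.trans (Subgroup.index_dvd_of_le fun g hg => hcon q inferInstance Q g hg))
      exact (Subgroup.mem_center_iff.1 (htop ▸ Subgroup.mem_top b₀) a₀)
    haveI := hsn p P
    obtain ⟨A, hA⟩ := Subgroup.exists_right_complement'_of_coprime (N := (P : Subgroup G))
      P.card_coprime_index
    have hAcard : Nat.card A = (P : Subgroup G).index := hA.symm.index_eq_card.symm
    -- `A` commutes with `P`
    have hcomm : ∀ u ∈ (P : Subgroup G), ∀ v ∈ A, u * v = v * u := by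
      intro u hu v hv
      have hsub : A ≤ Subgroup.centralizer ({u} : Set G) := by
        rw [← Subgroup.subgroupOf_eq_top, ← Subgroup.index_eq_one]
        by_contra hne
        obtain ⟨q, hq, hd⟩ := Nat.exists_prime_and_dvd hne
        haveI := Fact.mk hq
        obtain ⟨Q⟩ : Nonempty (Sylow q A) := inferInstance
        refine Q.not_dvd_index (hd.trans (Subgroup.index_dvd_of_le fun w hw => Subgroup.mem_subgroupOf.2 ?_))
        rcases eq_or_ne q p with rfl | hqp
        · have hnd : ¬ q ∣ Nat.card A := hAcard ▸ P.not_dvd_index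
          exact absurd (hd.trans (Subgroup.index_dvd_card _)) hnd
        obtain ⟨Q', hQ'⟩ := (Q.2.map A.subtype).exists_le_sylow
        haveI := hsn q Q'
        exact Subgroup.mem_centralizer_singleton_iff.2 (Subgroup.commute_of_normal_of_disjoint _ _ (hsn q Q') (hsn p P)
          (IsPGroup.disjoint_of_ne q p hqp _ _ Q'.2 P.2) _ u (hQ' (Subgroup.mem_map_of_mem _ hw)) hu).eq
      exact (Subgroup.mem_centralizer_singleton_iff.1 (hsub hv)).symm
    have hAle : A ≤ Subgroup.centralizer ({x} : Set G) := fun v hv =>
      Subgroup.mem_centralizer_singleton_iff.2 (hcomm x hxP v hv).symm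
    haveI := h x hx
    haveI : IsCyclic A := Subgroup.isCyclic_of_le hAle
    -- `P` has one subgroup of order `p`
    haveI : Nontrivial (P : Subgroup G) := ⟨⟨⟨x, hxP⟩, 1, fun e => hx (by
      rw [show x = 1 from congrArg Subtype.val e]; exact one_mem _)⟩⟩
    haveI := P.2.center_nontrivial
    obtain ⟨c, hc⟩ := exists_prime_orderOf_dvd_card' (G := Subgroup.center (P : Subgroup G)) p
      ((P.2.to_subgroup _).card_eq_or_dvd.resolve_left (Finite.one_lt_card (α := Subgroup.center (P : Subgroup G))).ne')
    have hco : orderOf ((c : (P : Subgroup G)) : G) = p := by rw [Subgroup.orderOf_coe, Subgroup.orderOf_coe, hc]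
    have hcc : ((c : (P : Subgroup G)) : G) ∈ Subgroup.center G := by
      refine Subgroup.mem_center_iff.2 fun g => ?_
      have hg : g ∈ (P : Subgroup G) ⊔ A := hA.sup_eq_top ▸ Subgroup.mem_top g
      obtain ⟨u, hu, v, hv, rfl⟩ := Subgroup.mem_sup_of_normal_left.1 hg
      have e1 : u * ((c : (P : Subgroup G)) : G) = ((c : (P : Subgroup G)) : G) * u :=
        congrArg Subtype.val (Subgroup.mem_center_iff.1 c.2 ⟨u, hu⟩)
      have e2 := hcomm _ (c : (P : Subgroup G)).2 v hv
      rw [mul_assoc, ← e2, ← mul_assoc, e1, mul_assoc]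
    have unique : ∀ u ∈ (P : Subgroup G), u ^ p = 1 → u ∈ Subgroup.zpowers ((c : (P : Subgroup G)) : G) := by
      intro u hu hup
      -- a cyclic subgroup contains `u` and the central element
      obtain ⟨C, hC, huC, hcC⟩ : ∃ C : Subgroup G, IsCyclic C ∧ u ∈ C ∧ ((c : (P : Subgroup G)) : G) ∈ C := by
        by_cases huZ : u ∈ Subgroup.center G
        · exact ⟨_, h x hx, Subgroup.center_le_centralizer _ huZ, Subgroup.center_le_centralizer _ hcc⟩
        · exact ⟨_, h u huZ, Subgroup.mem_centralizer_singleton_iff.2 rfl, Subgroup.center_le_centralizer _ hcc⟩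
      haveI := hC
      haveI := Fintype.ofFinite C
      by_cases hu1 : u = 1
      · rw [hu1]; exact one_mem _
      have hou : orderOf u = p := orderOf_eq_prime hup hu1
      letI := hC.commGroup
      set S := Finset.univ.filter fun a : C => a ^ p = 1
      set T := Finset.univ.filter fun a : C => a ∈ Subgroup.zpowers (⟨_, hcC⟩ : C)
      have hT : T.card = p := by
        rw [← Fintype.card_subtype, ← Nat.card_eq_fintype_card,
          show Nat.card {a : C // a ∈ Subgroup.zpowers (⟨_, hcC⟩ : C)} = Nat.card (Subgroup.zpowers (⟨_, hcC⟩ : C)) from rfl,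
          Nat.card_zpowers, Subgroup.orderOf_mk, hco]
      have hTS : T = S := Finset.eq_of_subset_of_card_le (fun a ha => by
          obtain ⟨i, rfl⟩ := (Finset.mem_filter.1 ha).2
          refine Finset.mem_filter.2 ⟨Finset.mem_univ _, Subtype.ext ?_⟩
          have h1 : ((c : (P : Subgroup G)) : G) ^ (p : ℤ) = 1 := by
            rw [zpow_natCast]
            exact orderOf_dvd_iff_pow_eq_one.1 (dvd_of_eq hco)
          show (((c : (P : Subgroup G)) : G) ^ i) ^ p = 1
          rw [← zpow_natCast, ← zpow_mul, mul_comm, zpow_mul, h1, one_zpow])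
        (hT ▸ IsCyclic.card_pow_eq_one_le (Fact.out : p.Prime).pos)
      have humem : (⟨u, huC⟩ : C) ∈ T := hTS ▸ Finset.mem_filter.2 ⟨Finset.mem_univ _, Subtype.ext hup⟩
      obtain ⟨i, hi⟩ := (Finset.mem_filter.1 humem).2
      exact ⟨i, congrArg Subtype.val hi⟩
    have hu : CfsgLib.Coprime.UniqueOrderP p ↥(P : Subgroup G) := by
      intro u w hu hw hu1
      have key : ∀ t : (P : Subgroup G), t ^ p = 1 → t ∈ Subgroup.zpowers (c : (P : Subgroup G)) := fun t ht => by
        obtain ⟨k, hk⟩ := unique t t.2 (congrArg Subtype.val ht)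
        exact ⟨k, Subtype.ext hk⟩
      have e : Subgroup.zpowers u = Subgroup.zpowers (c : (P : Subgroup G)) :=
        Subgroup.eq_of_le_of_card_ge (Subgroup.zpowers_le.2 (key u hu)) (by
          rw [Nat.card_zpowers, Nat.card_zpowers, orderOf_eq_prime hu hu1, Subgroup.orderOf_coe, hc])
      rw [e]; exact key w hw
    have hPnc : ¬ IsCyclic ↥(P : Subgroup G) := by
      intro hcyc
      apply hx
      refine Subgroup.mem_center_iff.2 fun g => ?_
      have hg : g ∈ (P : Subgroup G) ⊔ A := hA.sup_eq_top ▸ Subgroup.mem_top g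
      obtain ⟨u, hu', v, hv, rfl⟩ := Subgroup.mem_sup_of_normal_left.1 hg
      letI := hcyc.commGroup
      have e1 : u * x = x * u := congrArg Subtype.val (mul_comm (⟨u, hu'⟩ : (P : Subgroup G)) ⟨x, hxP⟩)
      rw [mul_assoc, ← hcomm x hxP v hv, ← mul_assoc, e1, mul_assoc]
    rcases eq_or_ne p 2 with rfl | hp2
    · obtain ⟨k, ⟨eP⟩⟩ := (CfsgLib.Coprime.cyclic_or_quaternion_of_unique_two P.2 hu).resolve_left hPnc
      have hk : 1 ≤ k := by
        by_contra hk
        have hk0 : k = 0 := by omega
        subst hk0
        haveI : IsCyclic (QuaternionGroup (2 ^ 0)) := QuaternionGroup.quaternionGroup_one_isCyclic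
        exact hPnc (isCyclic_of_surjective eP.symm eP.symm.surjective)
      let φ : ↥(P : Subgroup G) × A →* G :=
        { toFun := fun t => (t.1 : G) * t.2
          map_one' := by simp
          map_mul' := fun s t => by
            show ((s.1 : G) * t.1) * ((s.2 : G) * t.2) = _
            have hcm : Commute (t.1 : G) (s.2 : G) := hcomm _ t.1.2 _ s.2.2
            exact hcm.mul_mul_mul_comm _ _ }
      let e0 : G ≃* ↥(P : Subgroup G) × A := (MulEquiv.ofBijective φ hA).symm
      refine ⟨k, Nat.card A, hk, ?_, ⟨e0.trans (MulEquiv.prodCongr eP (mulEquivOfCyclicCardEq (by simp)))⟩⟩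
      rw [← Nat.not_even_iff_odd, even_iff_two_dvd, hAcard]
      exact P.not_dvd_index
    · refine absurd ?_ hPnc
      exact (CfsgLib.Coprime.cyclic_or_quaternion_of_unique P.2 hu).resolve_right fun h => hp2 h.1
  · rintro ⟨k, m, hk, hm, ⟨e⟩⟩ x hx
    set q := (e x).1
    haveI : NeZero m := ⟨fun e0 => by subst e0; exact Nat.not_odd_zero hm⟩
    haveI : NeZero (2 ^ k) := ⟨pow_ne_zero k two_ne_zero⟩
    have hq : q ∉ Subgroup.center (QuaternionGroup (2 ^ k)) := fun hq => hx (Subgroup.mem_center_iff.2 fun g =>
      e.injective (by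
        rw [map_mul, map_mul]
        exact Prod.ext (Subgroup.mem_center_iff.1 hq _) (mul_comm _ _)))
    haveI := quaternion_centralizer (Nat.one_lt_two_pow (by omega)) q hq
    have hcard : (Nat.card ↥(Subgroup.centralizer ({q} : Set (QuaternionGroup (2 ^ k))))).Coprime
        (Nat.card (Multiplicative (ZMod m))) := by
      refine Nat.Coprime.coprime_dvd_left (Subgroup.card_subgroup_dvd_card _) ?_
      rw [Nat.card_eq_fintype_card, QuaternionGroup.card, Nat.card_congr Multiplicative.toAdd, Nat.card_zmod,
        show 4 * 2 ^ k = 2 ^ (k + 2) by rw [pow_add]; ring]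
      exact (Nat.coprime_two_left.2 hm).pow_left _
    let f : ↥(Subgroup.centralizer ({x} : Set G)) →*
        ↥(Subgroup.centralizer ({q} : Set (QuaternionGroup (2 ^ k)))) × Multiplicative (ZMod m) :=
      MonoidHom.mk' (fun g => (⟨(e g).1, Subgroup.mem_centralizer_singleton_iff.2 (by
          have := congrArg (fun t => (e t).1) (Subgroup.mem_centralizer_singleton_iff.1 g.2)
          simpa [map_mul] using this)⟩, (e g).2))
        fun a b => Prod.ext (Subtype.ext (by simp [map_mul])) (by simp [map_mul])
    haveI : IsCyclic (↥(Subgroup.centralizer ({q} : Set (QuaternionGroup (2 ^ k)))) × Multiplicative (ZMod m)) :=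
      Group.isCyclic_prod_iff.2 ⟨inferInstance, inferInstance, hcard⟩
    refine isCyclic_of_injective f fun a b h => ?_
    have h1 := congrArg (fun t => (t.1.1, t.2)) h
    exact Subtype.ext (e.injective h1)

end Cfsg.Agent.S4370
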