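import Cfsg.Statements.S4371
import Cfsg.Agent.Lib.OneComposite.Core
import Cfsg.Agent.Lib.OneComposite.Nonsolvable
import Cfsg.Agent.Lib.OneComposite.EvenFour
import Cfsg.Agent.S2475
import Cfsg.Agent.Lib.CIT.PrimeGraph
import Cfsg.Agent.Lib.Lie.Suz.Tori
-- import your own Cfsg.Agent.* helpers here

set_option autoImplicit false
open Cfsg

namespace Cfsg.Agent.S4371

open Subgroup CfsgLib CfsgLib.OneComposite

/-- No prime divides three element orders. -/
private theorem factors_le {G : Type*} [Group G] [Finite G]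
    (h3 : ∀ p : ℕ, p.Prime → ∀ a b c : G, orderOf a ≠ orderOf b → orderOf b ≠ orderOf c →
      orderOf a ≠ orderOf c → ¬ (p ∣ orderOf a ∧ p ∣ orderOf b ∧ p ∣ orderOf c))
    (g : G) : (orderOf g).primeFactorsList.length ≤ 2 := by
  by_contra hlen
  have hprod := Nat.prod_primeFactorsList (orderOf_pos g).ne'
  have hprime : ∀ x ∈ (orderOf g).primeFactorsList, x.Prime := fun x hx =>
    Nat.prime_of_mem_primeFactorsList hx
  obtain ⟨p, q, s, l, hl⟩ : ∃ p q s l, (orderOf g).primeFactorsList = p :: q :: s :: l := by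
    rcases h : (orderOf g).primeFactorsList with _ | ⟨p, _ | ⟨q, _ | ⟨s, l⟩⟩⟩ <;> rw [h] at hlen <;>
      simp at hlen ⊢
  rw [hl] at hprod hprime
  simp only [List.prod_cons] at hprod
  have hp : p.Prime := hprime p (by simp)
  have hq : q.Prime := hprime q (by simp)
  have hs : s.Prime := hprime s (by simp)
  have hdiv : ∀ d, d ∣ orderOf g → ∃ x : G, orderOf x = d := fun d hd =>
    ⟨g ^ (orderOf g / d), orderOf_pow_orderOf_div (orderOf_pos g).ne' hd⟩
  obtain ⟨a, ha⟩ := hdiv p ⟨_, hprod.symm⟩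
  obtain ⟨b, hb⟩ := hdiv (p * q) ⟨s * l.prod, by rw [← hprod]; ring⟩
  have h1 : p < p * q := lt_mul_of_one_lt_right hp.pos hq.one_lt
  have hl0 : 0 < l.prod := by
    rcases Nat.eq_zero_or_pos l.prod with e | e
    · rw [e, mul_zero, mul_zero, mul_zero] at hprod
      exact absurd hprod.symm (orderOf_pos g).ne'
    · exact e
  have h2 : p * q < orderOf g := by
    rw [← hprod, ← mul_assoc]
    exact lt_mul_of_one_lt_right (Nat.mul_pos hp.pos hq.pos)
      (lt_of_lt_of_le hs.one_lt (Nat.le_mul_of_pos_right _ hl0))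
  exact h3 p hp a b g (by omega) (by omega) (by omega)
    ⟨ha ▸ dvd_rfl, hb ▸ dvd_mul_right p q, ⟨_, hprod.symm⟩⟩

/-- Let G be a finite non-solvable group in which no prime divides three pairwise distinct element orders. Then one of the following holds, where 'a product of at most two primes' always counts primes with multiplicity: the quotient of G by its largest normal 2-subgroup is isomorphic to PSL(2, q) with q = 2ᶠ ≥ 4 and each of q + 1, q - 1 a product of at most two primes; G is isomorphic to PSL(2, q) with q > 5, q ≡ 3 or 5 (mod 8) and each of (q + 1)/2, (q - 1)/2 a product of at most two primes; G is isomorphic to PSL(2, 7), PSL(2, 9) or PSL(3, 4); or G is simple of order q²(q² + 1)(q - 1), the order of the Suzuki group Sz(q), where q = 2²ⁿ⁺¹ ≥ 8, and each of q - 1, q - r + 1, q + r + 1 (r = 2ⁿ⁺¹) is a product of at most two primes. -/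
theorem result {G : Type*} [Group G] [Finite G]
    (hG : ¬ Group.IsSolvable G) (h3 : (∀ p : ℕ, p.Prime → ∀ a b c : G, orderOf a ≠ orderOf b → orderOf b ≠ orderOf c → orderOf a ≠ orderOf c → ¬ (p ∣ orderOf a ∧ p ∣ orderOf b ∧ p ∣ orderOf c))) :
    (∃ (F : Type) (_ : Field F) (_ : Fintype F), CharP F 2 ∧ 4 ≤ Fintype.card F ∧
        (Fintype.card F + 1).primeFactorsList.length ≤ 2 ∧ (Fintype.card F - 1).primeFactorsList.length ≤ 2 ∧
        Nonempty (G ⧸ Cfsg.pCore 2 G ≃* Matrix.ProjectiveSpecialLinearGroup (Fin 2) F)) ∨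
    (∃ (F : Type) (_ : Field F) (_ : Fintype F), 5 < Fintype.card F ∧ (Fintype.card F % 8 = 3 ∨ Fintype.card F % 8 = 5) ∧
        ((Fintype.card F + 1) / 2).primeFactorsList.length ≤ 2 ∧ ((Fintype.card F - 1) / 2).primeFactorsList.length ≤ 2 ∧
        Nonempty (G ≃* Matrix.ProjectiveSpecialLinearGroup (Fin 2) F)) ∨
    (∃ (F : Type) (_ : Field F) (_ : Fintype F), (Fintype.card F = 7 ∨ Fintype.card F = 9) ∧
        Nonempty (G ≃* Matrix.ProjectiveSpecialLinearGroup (Fin 2) F)) ∨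
    (∃ (F : Type) (_ : Field F) (_ : Fintype F), Fintype.card F = 4 ∧ Nonempty (G ≃* Matrix.ProjectiveSpecialLinearGroup (Fin 3) F)) ∨
    (∃ n : ℕ, 1 ≤ n ∧ IsSimpleGroup G ∧ Nat.card G = (2 ^ (2 * n + 1)) ^ 2 * ((2 ^ (2 * n + 1)) ^ 2 + 1) * (2 ^ (2 * n + 1) - 1) ∧
        (2 ^ (2 * n + 1) - 1).primeFactorsList.length ≤ 2 ∧ (2 ^ (2 * n + 1) - 2 ^ (n + 1) + 1).primeFactorsList.length ≤ 2 ∧
        (2 ^ (2 * n + 1) + 2 ^ (n + 1) + 1).primeFactorsList.length ≤ 2) := by
  classical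
  haveI : Fact (Nat.Prime 2) := ⟨Nat.prime_two⟩
  have hfac := factors_le h3
  by_cases hpair : ∃ (g : G) (r : ℕ), r.Prime ∧ r ≠ 2 ∧ orderOf g = 2 * r
  · -- an element of order `2r`
    obtain ⟨g, r, hr, hr2, hg⟩ := hpair
    have hrodd := Nat.odd_iff.1 (hr.odd_of_ne_two hr2)
    have hS : Spec G r := by
      refine ⟨hr, hr2, fun x hx => ?_, fun x hx => ?_⟩
      · by_contra hcon
        push Not at hcon
        have ht : orderOf (g ^ r) = 2 := by
          rw [orderOf_pow_of_dvd hr.ne_zero (hg ▸ dvd_mul_left r 2), hg, Nat.mul_div_cancel _ hr.pos]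
        exact h3 2 Nat.prime_two (g ^ r) g x (by have := hr.two_le; omega) (by omega) (by omega)
          ⟨ht ▸ dvd_rfl, hg ▸ dvd_mul_right 2 r, hx⟩
      · by_contra hcon
        push Not at hcon
        have ht : orderOf (g ^ 2) = r := by
          rw [orderOf_pow_of_dvd two_ne_zero (hg ▸ dvd_mul_right 2 r), hg,
            Nat.mul_div_cancel_left _ two_pos]
        exact h3 r hr (g ^ 2) g x (by have := hr.two_le; omega) (by omega) (by omega)
          ⟨ht ▸ dvd_rfl, hg ▸ dvd_mul_left r 2, hx⟩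
    obtain ⟨N, hN, hNs, hNna, hC⟩ := hS.exists_simple_normal hG
    haveI := hN
    haveI := hNs
    have hSN : Spec N r := hS.subgroup N
    have transfer : ∀ {M : Type} [Group M], (N ≃* M) → IsSimpleGroup M ∧ ¬ IsMulCommutative M := by
      intro M _ e
      haveI : Nontrivial M := e.symm.toEquiv.nontrivial
      exact ⟨e.symm.isSimpleGroup, fun h => hNna (isMulCommutative_iff.2 fun a b => e.injective (by
        rw [map_mul, map_mul, isMulCommutative_iff.1 h]))⟩
    by_cases hx : ∃ x : N, orderOf x = 2 * r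
    · obtain ⟨x, hx⟩ := hx
      obtain ⟨F, iF, iF', hodd, h5, ⟨e⟩⟩ := hSN.iso_psl2_odd hNna hx
      obtain ⟨hs, hna⟩ := transfer e
      haveI := hs
      have hodd' : Fintype.card F % 2 = 1 := Nat.odd_iff.1 hodd
      have htop : N = ⊤ := eq_top_of_inner e hC fun 𝒢 hin ⟨eG⟩ =>
        (inner_psl_two_odd_of_spec hna hin hodd' h5
          (hS.of_injective eG.symm.toMonoidHom eG.symm.injective)).1
      let eG : G ≃* Matrix.ProjectiveSpecialLinearGroup (Fin 2) F :=
        ((Subgroup.topEquiv (G := G)).symm.trans (MulEquiv.subgroupCongr htop.symm)).trans e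
      let c : Matrix.ProjectiveSpecialLinearGroup (Fin 2) F ≃*
          (MulAut.conj : Matrix.ProjectiveSpecialLinearGroup (Fin 2) F →* _).range :=
        MonoidHom.ofInjective (CIT.conj_injective_of_simple hna)
      have h8 := (inner_psl_two_odd_of_spec hna le_rfl hodd' h5
        (hS.of_injective (eG.trans c).symm.toMonoidHom (eG.trans c).symm.injective)).2
      obtain ⟨p, hpc⟩ := CharP.exists F
      haveI := hpc
      obtain ⟨n, hpp, hn⟩ := FiniteField.card F p
      haveI : Fact p.Prime := ⟨hpp⟩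
      have hgcd : Nat.gcd 2 (Fintype.card F - 1) = 2 := Nat.gcd_eq_left (by omega)
      have hspec := Cfsg.Agent.S2475.result p (F := F) (by omega)
      rw [hgcd] at hspec
      have hfac' : ∀ a, (a ∣ (Fintype.card F - 1) / 2 ∨ a ∣ (Fintype.card F + 1) / 2) →
          a.primeFactorsList.length ≤ 2 := by
        intro a ha
        obtain ⟨y, rfl⟩ : a ∈ Set.range (orderOf : Matrix.ProjectiveSpecialLinearGroup (Fin 2) F → ℕ) := by
          rw [hspec]; exact Or.inr ha
        rw [← MulEquiv.orderOf_eq eG.symm y]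
        exact hfac _
      refine Or.inr (Or.inl ⟨F, iF, iF', ?_, h8, hfac' _ (Or.inr dvd_rfl), hfac' _ (Or.inl dvd_rfl), ⟨eG⟩⟩)
      by_contra h5'
      have hq : Fintype.card F = 5 := by omega
      have hmem : 2 * r ∈ Set.range (orderOf : Matrix.ProjectiveSpecialLinearGroup (Fin 2) F → ℕ) :=
        ⟨eG g, by rw [MulEquiv.orderOf_eq, hg]⟩
      rw [hspec, hq] at hmem
      have hp5 : p ∣ 5 := hq ▸ hn ▸ dvd_pow_self p n.ne_zero
      rcases hmem with h | h | h
      · exact absurd ((dvd_mul_right 2 r).trans (h.trans hp5)) (by norm_num)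
      · have := Nat.le_of_dvd (by norm_num) h; have := hr.two_le; omega
      · have := Nat.le_of_dvd (by norm_num) h; have := hr.two_le; omega
    · exfalso
      push Not at hx
      have heven : ∀ y : N, 2 ∣ orderOf y → orderOf y = 2 := fun y hy =>
        (hSN.two y hy).resolve_right (hx y)
      obtain ⟨F, iF, iF', n, hn, hF, ⟨e⟩⟩ := iso_psl2_even hNna heven
      haveI : CharP F 2 := CfsgLib.Classical.PSL2Spectrum.char_two_of_dvd (hF ▸ dvd_pow_self 2 (by omega))
      obtain ⟨hs, hna⟩ := transfer e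
      haveI := hs
      have htop : N = ⊤ := eq_top_of_inner e hC fun 𝒢 hin ⟨eG⟩ =>
        inner_psl_two_even_of_spec hna hin hn hF (hS.of_injective eG.symm.toMonoidHom eG.symm.injective)
      have := hx ⟨g, htop ▸ Subgroup.mem_top g⟩
      rw [Subgroup.orderOf_mk] at this
      exact this hg
  -- no element of order `2r`
  push Not at hpair
  have hc : CIT.IsCIT G := by
    intro t y ht hy hty
    by_contra hy1
    obtain ⟨s, hs, hsd⟩ := Nat.exists_prime_and_dvd (n := orderOf y) fun e => hy1 (orderOf_eq_one_iff.1 e)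
    have hs2 : s ≠ 2 := fun e => by subst e; have := Nat.odd_iff.1 hy; omega
    have ho := (show Commute t y from hty.symm).orderOf_mul_eq_mul_orderOf_of_coprime
      (ht.symm ▸ Nat.coprime_two_left.2 hy)
    rw [ht] at ho
    have hd : 2 * s ∣ orderOf (t * y) := ho ▸ Nat.mul_dvd_mul_left 2 hsd
    exact hpair ((t * y) ^ (orderOf (t * y) / (2 * s))) s hs hs2
      (orderOf_pow_orderOf_div (orderOf_pos _).ne' hd)
  have h24 : ∀ x : G, 2 ∣ orderOf x → orderOf x = 2 ∨ orderOf x = 4 := by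
    intro x hx
    have hdiv : ∀ d, d ∣ orderOf x → ∃ y : G, orderOf y = d := fun d hd =>
      ⟨x ^ (orderOf x / d), orderOf_pow_orderOf_div (orderOf_pos x).ne' hd⟩
    obtain ⟨k, m, hm, hkm⟩ := Nat.exists_eq_two_pow_mul_odd (orderOf_pos x).ne'
    have hk : k ≠ 0 := fun e => by
      have := Nat.odd_iff.1 hm
      rw [e, pow_zero, one_mul] at hkm
      omega
    have hm1 : m = 1 := by
      by_contra hm1
      obtain ⟨s, hs, hsd⟩ := Nat.exists_prime_and_dvd hm1
      have hs2 : s ≠ 2 := fun e => by subst e; have := Nat.odd_iff.1 hm; omega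
      obtain ⟨y, hy⟩ := hdiv (2 * s) (hkm ▸ Nat.mul_dvd_mul (dvd_pow_self 2 hk) hsd)
      exact hpair y s hs hs2 hy
    rw [hm1, mul_one] at hkm
    by_contra hcon
    push Not at hcon
    have hk3 : 3 ≤ k := by
      by_contra hk3
      push Not at hk3
      interval_cases k <;> omega
    obtain ⟨a, ha⟩ := hdiv 2 hx
    obtain ⟨b, hb⟩ := hdiv 4 (hkm ▸ (show 4 ∣ 2 ^ k from (show (4 : ℕ) = 2 ^ 2 from rfl) ▸ pow_dvd_pow 2 (by omega)))
    exact h3 2 Nat.prime_two a b x (by omega) (by omega) (by omega)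
      ⟨ha ▸ dvd_rfl, hb ▸ (by norm_num), hx⟩
  have heven : Even (Nat.card G) := by
    by_contra h
    exact hG (Cfsg.Agent.S0205.result (Nat.not_even_iff_odd.1 h))
  set O := Cfsg.pCore 2 G with hOdef
  haveI : O.Normal := CfsgLib.Coprime.pCore_normal' 2
  have hO : IsPGroup 2 O := CfsgLib.Coprime.pCore_isPGroup 2
  have hqc : CIT.IsCIT (G ⧸ O) := hc.quotient O hO
  have hlift : ∀ y : G ⧸ O, ∃ x : G, orderOf x = orderOf y := fun y =>
    exists_pow_orderOf (QuotientGroup.mk' O) (QuotientGroup.mk'_surjective O) y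
  have hq24 : ∀ y : G ⧸ O, 2 ∣ orderOf y → orderOf y = 2 ∨ orderOf y = 4 := fun y hy => by
    obtain ⟨x, hx⟩ := hlift y
    rw [← hx] at hy ⊢
    exact h24 x hy
  have hQeven : Even (Nat.card (G ⧸ O)) := by
    rw [← Subgroup.index_eq_card]
    exact hc.even_index heven hG O hO
  have hQs : ¬ Group.IsSolvable (G ⧸ O) := by
    intro h
    haveI := hO.isNilpotent
    exact hG (isSolvable_of_quotient O inferInstance h)
  haveI : Nontrivial (G ⧸ O) := Finite.one_lt_card_iff_nontrivial.1 (by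
    have := Nat.card_pos (α := G ⧸ O)
    obtain ⟨k, hk⟩ := hQeven
    omega)
  have hQ2 : ∀ W : Subgroup (G ⧸ O), W.Normal → IsPGroup 2 W → W = ⊥ := fun W hW hWp => by
    haveI := hW
    exact le_bot_iff.1 ((CfsgLib.Coprime.le_pCore hWp).trans_eq (CfsgLib.Coprime.pCore_quotient_eq_bot 2))
  obtain ⟨N, hN, hNs, hNna, hC⟩ := hqc.exists_simple_normal
    (fun W hW hWo => by haveI := hW; exact hqc.odd_normal_eq_bot hQeven hQs W hWo) hQ2
  haveI := hN
  haveI := hNs
  have htop : N = ⊤ := eq_top_of_cit hqc hq24 hNna hC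
  let eQ : (G ⧸ O) ≃* N := (Subgroup.topEquiv).symm.trans (MulEquiv.subgroupCongr htop.symm)
  haveI hQsimple : IsSimpleGroup (G ⧸ O) := eQ.isSimpleGroup
  have hQna : ¬ IsMulCommutative (G ⧸ O) := fun h => hQs
    (Group.isSolvable_of_comm (isMulCommutative_iff.1 h))
  have first : ∀ (K : Type) (_ : Field K) (_ : Fintype K) (n : ℕ), 2 ≤ n → Fintype.card K = 2 ^ n →
      ((G ⧸ O) ≃* Matrix.ProjectiveSpecialLinearGroup (Fin 2) K) →
      ∃ (F : Type) (_ : Field F) (_ : Fintype F), CharP F 2 ∧ 4 ≤ Fintype.card F ∧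
        (Fintype.card F + 1).primeFactorsList.length ≤ 2 ∧ (Fintype.card F - 1).primeFactorsList.length ≤ 2 ∧
        Nonempty (G ⧸ Cfsg.pCore 2 G ≃* Matrix.ProjectiveSpecialLinearGroup (Fin 2) F) := by
    intro K iK iK' n hn hK e
    haveI hch : CharP K 2 := CfsgLib.Classical.PSL2Spectrum.char_two_of_dvd (hK ▸ dvd_pow_self 2 (by omega))
    have h4 : 4 ≤ Fintype.card K := hK ▸ le_trans (by norm_num) (Nat.pow_le_pow_right two_pos hn)
    have h2 : 2 ∣ Fintype.card K := hK ▸ dvd_pow_self 2 (by omega)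
    have hgcd : Nat.gcd 2 (Fintype.card K - 1) = 1 := Nat.coprime_two_left.2 (Nat.odd_iff.2 (by omega))
    have hfac' : ∀ a, (a ∣ Fintype.card K - 1 ∨ a ∣ Fintype.card K + 1) → a.primeFactorsList.length ≤ 2 := by
      intro a ha
      obtain ⟨y, rfl⟩ : a ∈ Set.range (orderOf : Matrix.ProjectiveSpecialLinearGroup (Fin 2) K → ℕ) := by
        rw [Cfsg.Agent.S2475.result 2 h4, hgcd, Nat.div_one, Nat.div_one]; exact Or.inr ha
      rw [← MulEquiv.orderOf_eq e.symm y]
      obtain ⟨x, hx⟩ := hlift (e.symm y)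
      rw [← hx]
      exact hfac x
    exact ⟨K, iK, iK', hch, h4, hfac' _ (Or.inr dvd_rfl), hfac' _ (Or.inl dvd_rfl), ⟨e⟩⟩
  by_cases hfour : ∃ y : G ⧸ O, orderOf y = 4
  swap
  · push Not at hfour
    obtain ⟨K, iK, iK', n, hn, hK, ⟨e⟩⟩ :=
      iso_psl2_even hQna fun y hy => (hq24 y hy).resolve_right (hfour y)
    exact Or.inl (first K iK iK' n hn hK e)
  obtain ⟨y, hy⟩ := hfour
  have hObot : O = ⊥ := eq_bot_of_four hc h24 O hO hQ2 hy
  let eG : G ≃* G ⧸ O := QuotientGroup.quotientBot.symm.trans (QuotientGroup.quotientMulEquivOfEq hObot.symm)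
  rcases cit_models hQna hqc hq24 with ⟨K, iK, iK', ⟨n, hn, hK⟩, ⟨e⟩⟩ | ⟨K, iK, iK', hK, ⟨e⟩⟩ |
    ⟨K, iK, iK', hK, ⟨e⟩⟩ | ⟨K, iK, iK', m, hm, hK, ⟨e⟩⟩
  · exact Or.inl (first K iK iK' n hn hK e)
  · refine Or.inr (Or.inr (Or.inl ⟨K, iK, iK', ?_, ⟨eG.trans e⟩⟩))
    rcases hK with h5 | h7 | h9
    · exfalso
      obtain ⟨p, hpc⟩ := CharP.exists K
      haveI := hpc
      obtain ⟨n, hpp, hn⟩ := FiniteField.card K p
      haveI : Fact p.Prime := ⟨hpp⟩
      have hmem : 4 ∈ Set.range (orderOf : Matrix.ProjectiveSpecialLinearGroup (Fin 2) K → ℕ) :=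
        ⟨e y, by rw [MulEquiv.orderOf_eq, hy]⟩
      rw [Cfsg.Agent.S2475.result p (by omega), h5] at hmem
      rcases hmem with h | h | h
      · exact absurd (h.trans (h5 ▸ hn ▸ dvd_pow_self p n.ne_zero : p ∣ 5)) (by norm_num)
      · exact absurd h (by norm_num)
      · exact absurd h (by norm_num)
    · exact Or.inl h7
    · exact Or.inr h9
  · exact Or.inr (Or.inr (Or.inr (Or.inl ⟨K, iK, iK', hK, ⟨eG.trans e⟩⟩)))
  · obtain ⟨e'⟩ := CfsgLib.Lie.Suz.exists_twEquiv (F := K) (m := m) hm hK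
    let e2 : G ≃* Cfsg.Sz K m := (eG.trans e).trans e'.symm
    haveI : Finite (Cfsg.Sz K m) := Finite.of_equiv _ e2.toEquiv
    haveI : IsSimpleGroup G := eG.isSimpleGroup
    have hcyc : ∀ (T : Subgroup (Cfsg.Sz K m)), IsCyclic T → (Nat.card T).primeFactorsList.length ≤ 2 := by
      intro T hT
      obtain ⟨z, hz⟩ := IsCyclic.exists_ofOrder_eq_natCard (α := T)
      rw [← hz, ← Subgroup.orderOf_coe, ← MulEquiv.orderOf_eq e2.symm (z : Cfsg.Sz K m)]
      exact hfac _
    have htor : ∀ k, (k = 2 ^ (2 * m + 1) + 2 ^ (m + 1) + 1 ∨ k = 2 ^ (2 * m + 1) - 2 ^ (m + 1) + 1) →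
        k.primeFactorsList.length ≤ 2 := by
      intro k hk
      obtain ⟨T, hT, hcard, -⟩ := CfsgLib.Lie.Suz.exists_tori (F := K) (m := m) hm hK hk
      rw [← hcard]
      exact hcyc T (CfsgLib.Lie.Suz.torus_cyclic hm hK hT)
    refine Or.inr (Or.inr (Or.inr (Or.inr ⟨m, hm, inferInstance, ?_, ?_, htor _ (Or.inr rfl), htor _ (Or.inl rfl)⟩)))
    · rw [Nat.card_congr e2.toEquiv, CfsgLib.Lie.Suz.card_group hm hK, hK]
    · let f : Kˣ →* Cfsg.Sz K m :=
        { toFun := fun u => CfsgLib.Lie.Suz.HS hK u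
          map_one' := Subtype.ext CfsgLib.Lie.Suz.H_one
          map_mul' := fun a b => Subtype.ext (CfsgLib.Lie.Suz.H_mul a b) }
      obtain ⟨ν, hν⟩ := IsCyclic.exists_ofOrder_eq_natCard (α := Kˣ)
      have h1 := hfac (e2.symm (f ν))
      rw [MulEquiv.orderOf_eq, orderOf_injective f (fun a b hab => CfsgLib.Lie.Suz.HS_injective hK hab),
        hν, Nat.card_units, Nat.card_eq_fintype_card, hK] at h1
      exact h1

end Cfsg.Agent.S4371
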