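import Cfsg.Statements.S4376
import Cfsg.Agent.Lib.PGroup.OrderTypeHeisenberg
import Mathlib.GroupTheory.SpecificGroups.Alternating.Simple

set_option autoImplicit false
open Cfsg

namespace Cfsg.Agent.S4376

open CfsgLib.PGroup.OT

private def prodCount (l : List (Spec × ℕ)) (n : ℕ) : ℕ := (l.map fun p => p.1.count n ^ p.2).prod

private theorem isSolCount_prodCount : ∀ l : List (Spec × ℕ), (∀ p ∈ l, p.1.Valid) →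
    IsSolCount (prodCount l)
  | [], _ => isSolCount_one
  | p :: l, h => ((isSolCount_spec p.1 (h p (List.mem_cons_self ..))).pow p.2).mul
      (isSolCount_prodCount l fun q hq => h q (List.mem_cons_of_mem _ hq))

private def posList : List (Spec × ℕ) :=
  [(⟨3, 5, 1, [⟨2, 4, 3, 2, 0, 0⟩, ⟨2, 4, 15, 5, 12, 0⟩]⟩, 1),
    (⟨3, 1, 1, [⟨2, 2, 3, 1, 0, 0⟩]⟩, 6),
    (⟨2, 1, 1, [⟨3, 1, 2, 1, 0, 0⟩, ⟨5, 1, 2, 1, 0, 0⟩]⟩, 2),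
    (⟨30, 3, 1, [⟨2, 2, 3, 0, 1, 0⟩, ⟨2, 4, 15, 1, 5, 0⟩, ⟨2, 2, 3, 2, 0, 0⟩]⟩, 1),
    (⟨2, 2, 1, [⟨3, 1, 2, 1, 0, 0⟩, ⟨3, 1, 2, 1, 0, 0⟩, ⟨3, 1, 2, 0, 1, 0⟩, ⟨3, 3, 2, 1, 1, 0⟩]⟩, 2),
    (⟨2, 1, 1, [⟨3, 1, 2, 1, 0, 0⟩]⟩, 2),
    (⟨3, 3, 1, [⟨2, 4, 3, 1, 1, 0⟩, ⟨2, 2, 3, 0, 2, 0⟩, ⟨5, 2, 3, 2, 1, 0⟩, ⟨5, 2, 3, 2, 0, 0⟩]⟩, 1),
    (⟨2, 3, 3, [⟨2, 2, 3, 0, 0, 1⟩, ⟨2, 2, 3, 0, 1, 2⟩, ⟨2, 2, 3, 0, 2, 0⟩]⟩, 1),
    (⟨2, 2, 1, [⟨3, 1, 2, 1, 1, 0⟩, ⟨3, 1, 2, 1, 0, 0⟩, ⟨5, 1, 2, 0, 1, 0⟩, ⟨3, 1, 2, 0, 1, 0⟩]⟩, 2),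
    (⟨2, 1, 1, [⟨3, 5, 2, 1, 0, 0⟩]⟩, 2),
    (⟨2, 2, 1, [⟨5, 1, 2, 1, 1, 0⟩, ⟨5, 1, 2, 1, 0, 0⟩, ⟨5, 1, 2, 0, 1, 0⟩]⟩, 2)]

private def negList : List (Spec × ℕ) :=
  [(⟨3, 1, 1, [⟨5, 2, 3, 1, 0, 0⟩, ⟨2, 4, 3, 1, 0, 0⟩]⟩, 1),
    (⟨3, 1, 1, [⟨2, 2, 3, 1, 0, 0⟩, ⟨2, 6, 3, 1, 0, 0⟩]⟩, 1),
    (⟨10, 1, 1, [⟨3, 1, 2, 1, 0, 0⟩, ⟨3, 4, 10, 1, 0, 0⟩]⟩, 2),
    (⟨3, 3, 3, [⟨2, 2, 3, 1, 2, 1⟩, ⟨2, 2, 3, 2, 1, 1⟩, ⟨5, 2, 3, 0, 1, 1⟩, ⟨2, 2, 3, 1, 1, 2⟩, ⟨2, 2, 3, 1, 0, 0⟩]⟩, 1),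
    (⟨2, 2, 1, [⟨3, 1, 2, 0, 1, 0⟩, ⟨5, 1, 2, 1, 0, 0⟩, ⟨3, 1, 2, 1, 1, 0⟩]⟩, 4),
    (⟨3, 1, 1, []⟩, 4),
    (⟨2, 1, 1, [⟨3, 5, 2, 1, 0, 0⟩, ⟨5, 1, 2, 1, 0, 0⟩]⟩, 2),
    (⟨2, 2, 1, [⟨5, 1, 2, 1, 0, 0⟩, ⟨3, 1, 2, 0, 1, 0⟩, ⟨5, 1, 2, 1, 1, 0⟩, ⟨5, 1, 2, 0, 1, 0⟩]⟩, 2)]

private theorem valid_lists : (∀ p ∈ posList, p.1.Valid) ∧ ∀ p ∈ negList, p.1.Valid := by
  decide +kernel

private def fA5 (n : ℕ) : ℕ :=
  if n = 1 then 1 else if n = 2 then 16 else if n = 3 then 21 else if n = 5 then 25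
  else if n = 6 then 36 else if n = 10 then 40 else if n = 15 then 45 else 60

private theorem count_a5 : ∀ n ∈ Nat.divisors 30,
    (Finset.univ.filter fun x : alternatingGroup (Fin 5) => x ^ n = 1).card = fA5 n := by
  decide +kernel

private theorem count_eq : ∀ n ∈ Nat.divisors 30,
    prodCount negList n * (fHe n * fHe n) = fA5 n * (fA5 n * prodCount posList n) := by
  decide +kernel

private theorem a5_not_solvable : ¬ Group.IsSolvable (alternatingGroup (Fin 5)) := by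
  haveI := alternatingGroup.isSimpleGroup_five
  rw [← IsSimpleGroup.comm_iff_isSolvable]
  decide +kernel

private theorem exists_pair :
    ∃ (G : Type) (_ : Group G) (_ : Finite G) (H : Type) (_ : Group H) (_ : Finite H),
      Group.IsSolvable G ∧ ¬ Group.IsSolvable H ∧
      ∀ n : ℕ, Nat.card {g : G // orderOf g = n} = Nat.card {h : H // orderOf h = n} := by
  obtain ⟨Gn, _, _, hGn, hGne, hGnf⟩ :=
    (isSolCount_prodCount negList valid_lists.2).mul (isSolCount_he.mul isSolCount_he)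
  obtain ⟨Gp, _, _, hGp, hGpe, hGpf⟩ := isSolCount_prodCount posList valid_lists.1
  let A := alternatingGroup (Fin 5)
  have hA : ∀ x : A, x ^ 30 = 1 := fun x => by
    have h := count_a5 30 (by decide)
    have hu : (Finset.univ.filter fun x : A => x ^ 30 = 1) = Finset.univ :=
      Finset.eq_univ_of_card _ (h.trans (by decide +kernel))
    have hx : x ∈ Finset.univ.filter fun x : A => x ^ 30 = 1 := by
      rw [hu]; exact Finset.mem_univ x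
    exact (Finset.mem_filter.1 hx).2
  have hAn : ∀ n ∈ Nat.divisors 30, nSol A n = fA5 n := fun n hn =>
    (Nat.subtype_card _ (fun x => by simp)).trans (count_a5 n hn)
  have hH : ∀ x : A × A × Gp, x ^ 30 = 1 := fun x =>
    Prod.ext (hA x.1) (Prod.ext (hA x.2.1) (hGpe x.2.2))
  refine ⟨Gn, inferInstance, inferInstance, A × A × Gp, inferInstance, inferInstance,
    ⟨⟨4, hGn⟩⟩, fun hsol => a5_not_solvable ?_, ?_⟩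
  · exact Group.isSolvable_of_surjective (f := MonoidHom.fst A (A × Gp))
      (fun a => ⟨(a, 1), rfl⟩)
  · refine card_orderOf_eq fun n _ => ?_
    have hm : n.gcd 30 ∈ Nat.divisors 30 :=
      Nat.mem_divisors.2 ⟨Nat.gcd_dvd_right n 30, by norm_num⟩
    rw [nSol_gcd hGne, nSol_gcd hH, hGnf, nSol_prod, nSol_prod, hAn _ hm, hGpf]
    exact count_eq _ hm

/-- There are finite groups G and H having the same number of elements of each order (the same order type) with G solvable and H not solvable. -/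
theorem result :
    ∃ (G : Type) (_ : Group G) (_ : Finite G) (H : Type) (_ : Group H) (_ : Finite H),
      Group.IsSolvable G ∧ ¬ Group.IsSolvable H ∧ ∀ n : ℕ, Nat.card {g : G // orderOf g = n} = Nat.card {h : H // orderOf h = n} := by
  exact exists_pair

end Cfsg.Agent.S4376
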