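import Cfsg.Statements.S4377
import Cfsg.Agent.Lib.PGroup.SylowTowerCount

set_option autoImplicit false
open Cfsg

namespace Cfsg.Agent.S4377

/-- Two finite groups have the same number of elements of each order if and only if, for every n, they have the same number of elements g with gⁿ = 1. -/
theorem result {G H : Type*} [Group G] [Finite G] [Group H] [Finite H] :
    (∀ n : ℕ, Nat.card {g : G // orderOf g = n} = Nat.card {h : H // orderOf h = n}) ↔
      ∀ n : ℕ, Nat.card {g : G // g ^ n = 1} = Nat.card {h : H // h ^ n = 1} := by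
  classical
  haveI := Fintype.ofFinite G
  haveI := Fintype.ofFinite H
  refine ⟨fun hT => CfsgLib.PGroup.card_pow_eq_one_eq_of_sameOrderType hT, fun hN n => ?_⟩
  induction n using Nat.strong_induction_on with
  | _ n ih =>
    rcases Nat.eq_zero_or_pos n with rfl | hn
    · haveI : IsEmpty {g : G // orderOf g = 0} := ⟨fun g => (orderOf_pos g.1).ne' g.2⟩
      haveI : IsEmpty {h : H // orderOf h = 0} := ⟨fun g => (orderOf_pos g.1).ne' g.2⟩
      rw [Nat.card_of_isEmpty, Nat.card_of_isEmpty]
    have eG := sum_card_orderOf_eq_card_pow_eq_one (G := G) hn.ne'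
    have eH := sum_card_orderOf_eq_card_pow_eq_one (G := H) hn.ne'
    have hn' := hN n
    simp only [Nat.card_eq_fintype_card, Fintype.card_subtype] at hn' ih ⊢
    rw [← eG, ← eH, ← Nat.cons_self_properDivisors hn.ne', Finset.sum_cons, Finset.sum_cons,
      Finset.sum_congr rfl fun d hd => ih d (Nat.mem_properDivisors.1 hd).2] at hn'
    omega

end Cfsg.Agent.S4377
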