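import Cfsg.Statements.S4381
-- import your own Cfsg.Agent.* helpers here
import Cfsg.Agent.Lib.Coprime.AveragedComplement
import Cfsg.Agent.Lib.Coprime.PGroupFrattini
import Mathlib.GroupTheory.SemidirectProduct

set_option autoImplicit false
open Pointwise
open Cfsg

namespace Cfsg.Agent.S4381

open scoped Pointwise
open Subgroup

/-- Elementary abelian groups are complemented. -/
theorem exists_complement {Γ : Type*} [Group Γ] [Finite Γ] {p : ℕ} [Fact p.Prime] {V U : Subgroup Γ}
    (hV : IsMulCommutative V) (hexp : ∀ v ∈ V, v ^ p = 1) (hUV : U ≤ V) :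
    ∃ W : Subgroup Γ, W ≤ V ∧ U ⊓ W = ⊥ ∧ U ⊔ W = V := by
  classical
  obtain ⟨W, ⟨hWV, hUW⟩, hmax⟩ := exists_maximal_of_wellFoundedGT
    (fun W : Subgroup Γ => W ≤ V ∧ U ⊓ W = ⊥) ⟨⊥, bot_le, inf_bot_eq _⟩
  refine ⟨W, hWV, hUW, le_antisymm (sup_le hUV hWV) fun x hx => ?_⟩
  by_contra hxW
  have comm : ∀ a ∈ V, ∀ b ∈ V, a * b = b * a := fun a ha b hb =>
    congrArg Subtype.val (isMulCommutative_iff.1 hV ⟨a, ha⟩ ⟨b, hb⟩)
  have hle : zpowers x ≤ normalizer (W : Set Γ) := fun g hg => centralizer_le_normalizer _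
    (mem_centralizer_iff.2 fun w hw => comm w (hWV hw) g (zpowers_le.2 hx hg))
  have hbig : ¬ (W ⊔ zpowers x ≤ W) := fun h => hxW (mem_sup_right (h (mem_sup_right (mem_zpowers x))))
  refine hbig (hmax ⟨sup_le hWV (zpowers_le.2 hx), ?_⟩ le_sup_left)
  rw [eq_bot_iff_forall]
  rintro u ⟨huU, hu⟩
  have hu' : u ∈ ((W ⊔ zpowers x : Subgroup Γ) : Set Γ) := hu
  rw [coe_mul_of_right_le_normalizer_left _ _ hle] at hu'
  obtain ⟨w, hw, y, hy, rfl⟩ := hu'
  by_cases hy1 : y = 1
  · subst hy1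
    simp only [mul_one] at huU ⊢
    exact mem_bot.1 (hUW ▸ ⟨huU, hw⟩)
  · exfalso
    apply hxW
    have hx1 : x ≠ 1 := fun e => hxW (e ▸ one_mem _)
    have e : zpowers y = zpowers x := eq_of_le_of_card_ge (zpowers_le.2 hy) (by
      rw [Nat.card_zpowers, Nat.card_zpowers, orderOf_eq_prime (hexp x hx) hx1,
        orderOf_eq_prime (hexp y (zpowers_le.2 hx hy)) hy1])
    have hyUW : y ∈ U ⊔ W := by
      have := mul_mem (mem_sup_right (inv_mem hw) : w⁻¹ ∈ U ⊔ W) (mem_sup_left huU)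
      rwa [inv_mul_cancel_left] at this
    exact (zpowers_le.2 hyUW) (e ▸ mem_zpowers x)

section Action

variable {A G : Type*} [Group A] [Finite A] [Group G] [Finite G] [MulDistribMulAction A G]

/-- The semidirect product of the action. -/
abbrev Sd (A G : Type*) [Group A] [Group G] [MulDistribMulAction A G] :=
  G ⋊[MulDistribMulAction.toMulAut A G] A

instance : Finite (Sd A G) := Finite.of_equiv _ SemidirectProduct.equivProd.symm

theorem conj_inl (a : A) (g : G) :
    (SemidirectProduct.inr a : Sd A G) * SemidirectProduct.inl g * (SemidirectProduct.inr a)⁻¹ =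
      SemidirectProduct.inl (a • g) := by
  rw [← map_inv, ← SemidirectProduct.inl_aut]
  rfl

theorem range_le_normalizer_iff (L : Subgroup G) :
    (SemidirectProduct.inr : A →* Sd A G).range ≤
      normalizer ((L.map (SemidirectProduct.inl : G →* Sd A G) : Subgroup (Sd A G)) : Set (Sd A G)) ↔
      ∀ a : A, ∀ x ∈ L, a • x ∈ L := by
  constructor
  · intro h a x hx
    have h1 := (mem_normalizer_iff.1 (h ⟨a, rfl⟩) _).1 (mem_map_of_mem _ hx)
    rw [conj_inl] at h1
    exact (mem_map_iff_mem SemidirectProduct.inl_injective).1 h1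
  · rintro h _ ⟨a, rfl⟩
    refine mem_normalizer_iff.2 fun y => ⟨?_, fun hy => ?_⟩
    · rintro ⟨x, hx, rfl⟩
      exact ⟨a • x, h a x hx, (conj_inl a x).symm⟩
    · obtain ⟨x, hx, he⟩ := hy
      refine ⟨a⁻¹ • x, h a⁻¹ x hx, ?_⟩
      have h2 := conj_inl a (a⁻¹ • x)
      rw [smul_inv_smul, he] at h2
      exact mul_left_cancel (mul_right_cancel h2)

theorem frattini_invariant (a : A) {x : G} (hx : x ∈ frattini G) : a • x ∈ frattini G := by
  have h := characteristic_iff_map_eq.1 (frattini_characteristic (G := G)) (MulDistribMulAction.toMulAut A G a)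
  exact h ▸ mem_map_of_mem (MulDistribMulAction.toMulAut A G a).toMonoidHom hx

theorem invariant_sup {L M : Subgroup G} (hL : ∀ a : A, ∀ x ∈ L, a • x ∈ L)
    (hM : ∀ a : A, ∀ x ∈ M, a • x ∈ M) : ∀ a : A, ∀ x ∈ L ⊔ M, a • x ∈ L ⊔ M := by
  intro a
  have : L ⊔ M ≤ (L ⊔ M).comap (MulDistribMulAction.toMonoidHom G a) :=
    sup_le (fun x hx => mem_sup_left (hL a x hx)) (fun x hx => mem_sup_right (hM a x hx))
  exact fun x hx => this hx

/-- A proper invariant subgroup lies in a maximal one. -/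
theorem exists_max_invariant {L : Subgroup G} (hL : ∀ a : A, ∀ x ∈ L, a • x ∈ L) (hne : L ≠ ⊤) :
    ∃ M : Subgroup G, L ≤ M ∧ M ≠ ⊤ ∧ (∀ a : A, ∀ x ∈ M, a • x ∈ M) ∧
      ∀ K : Subgroup G, M < K → (∀ a : A, ∀ x ∈ K, a • x ∈ K) → K = ⊤ := by
  obtain ⟨M, ⟨hLM, hM, hinv⟩, hmax⟩ := exists_maximal_of_wellFoundedGT
    (fun M : Subgroup G => L ≤ M ∧ M ≠ ⊤ ∧ ∀ a : A, ∀ x ∈ M, a • x ∈ M) ⟨L, le_rfl, hne, hL⟩
  refine ⟨M, hLM, hM, hinv, fun K hlt hK => ?_⟩
  by_contra hKT
  exact not_le_of_gt hlt (hmax ⟨hLM.trans hlt.le, hKT, hK⟩ hlt.le)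

/-- In a `p`-group invariant subgroups over the Frattini subgroup are complemented. -/
theorem exists_inv_complement {p : ℕ} [Fact p.Prime] (hG : IsPGroup p G)
    (hcop : (Nat.card A).Coprime (Nat.card G)) {L : Subgroup G} (hΦ : frattini G ≤ L)
    (hL : ∀ a : A, ∀ x ∈ L, a • x ∈ L) :
    ∃ L' : Subgroup G, (∀ a : A, ∀ x ∈ L', a • x ∈ L') ∧ frattini G ≤ L' ∧
      L ⊓ L' ≤ frattini G ∧ L ⊔ L' = ⊤ := by
  classical
  let ι : G →* Sd A G := SemidirectProduct.inl
  let N : Subgroup (Sd A G) := (frattini G).map ι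
  have hA : (SemidirectProduct.inr : A →* Sd A G).range ≤ normalizer (N : Set (Sd A G)) :=
    (range_le_normalizer_iff _).2 fun a x hx => frattini_invariant a hx
  haveI hNn : N.Normal := by
    rw [← normalizer_eq_top_iff, eq_top_iff]
    intro y _
    rw [← SemidirectProduct.inl_left_mul_inr_right y]
    refine mul_mem ?_ (hA ⟨_, rfl⟩)
    refine mem_normalizer_iff.2 fun z => ⟨?_, fun hz => ?_⟩
    · rintro ⟨x, hx, rfl⟩
      exact ⟨y.left * x * y.left⁻¹, Normal.conj_mem inferInstance x hx _, by simp [ι]⟩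
    · obtain ⟨x, hx, he⟩ := hz
      refine ⟨y.left⁻¹ * x * y.left, by simpa using Normal.conj_mem inferInstance x hx y.left⁻¹, ?_⟩
      rw [map_mul, map_mul, map_inv, he]
      simp [ι, mul_assoc]
  let π : Sd A G →* Sd A G ⧸ N := QuotientGroup.mk' N
  let ρ := π.comp ι
  have hρ : ∀ x : G, ρ x = 1 ↔ x ∈ frattini G := fun x =>
    (QuotientGroup.eq_one_iff _).trans (mem_map_iff_mem SemidirectProduct.inl_injective)
  set V := ρ.range with hV
  set AA := ((SemidirectProduct.inr : A →* Sd A G).range).map π with hAA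
  have hVab : IsMulCommutative V := ⟨⟨by
    rintro ⟨_, x, rfl⟩ ⟨_, y, rfl⟩
    refine Subtype.ext ?_
    show ρ x * ρ y = ρ y * ρ x
    rw [← map_mul, ← map_mul]
    refine mul_inv_eq_one.1 ?_
    rw [← map_inv, ← map_mul, hρ]
    refine CfsgLib.Coprime.commutator_le_frattini hG ?_
    rw [show x * y * (y * x)⁻¹ = x * y * x⁻¹ * y⁻¹ by group]
    exact commutator_mem_commutator (mem_top x) (mem_top y)⟩⟩
  have hexp : ∀ v ∈ V, v ^ p = 1 := by
    rintro _ ⟨x, rfl⟩
    rw [← map_pow]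
    exact (hρ _).2 (CfsgLib.Coprime.pow_mem_frattini hG x)
  have mapn : ∀ K : Subgroup G, (∀ a : A, ∀ x ∈ K, a • x ∈ K) → AA ≤ normalizer ((K.map ρ : Subgroup _) : Set _) := by
    intro K hK
    rw [hAA, ← Subgroup.map_map]
    exact (map_mono ((range_le_normalizer_iff K).2 hK)).trans (le_normalizer_map _)
  have hVeq : (⊤ : Subgroup G).map ρ = V := (MonoidHom.range_eq_map ρ).symm
  have hAV : AA ≤ normalizer (V : Set (Sd A G ⧸ N)) := hVeq ▸ mapn ⊤ fun a x _ => mem_top _
  have hcV : (Nat.card AA).Coprime (Nat.card V) := by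
    refine Nat.Coprime.coprime_dvd_left ((card_map_dvd _ π).trans (card_range_dvd _))
      (hcop.coprime_dvd_right (card_range_dvd ρ))
  have hLV : L.map ρ ≤ V := hVeq ▸ map_mono le_top
  obtain ⟨W, hWV, hUW, hUWV⟩ := exists_complement hVab hexp hLV
  obtain ⟨W', hW'V, hAW', hUW', hUWV'⟩ := CfsgLib.Coprime.exists_averaged_complement hVab hAV hcV hLV
    (mapn L hL) hWV hUW hUWV
  refine ⟨W'.comap ρ, fun a x hx => ?_, fun x hx => ?_, ?_, ?_⟩
  · have hr : π (SemidirectProduct.inr a) ∈ AA := mem_map_of_mem π ⟨a, rfl⟩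
    have h1 := (mem_normalizer_iff.1 (hAW' hr) (ρ x)).1 hx
    rw [show π (SemidirectProduct.inr a) * ρ x * (π (SemidirectProduct.inr a))⁻¹ = ρ (a • x) by
      show π _ * π (ι x) * (π _)⁻¹ = π (ι (a • x))
      rw [← map_mul, ← map_inv, ← map_mul, conj_inl]] at h1
    exact h1
  · show ρ x ∈ W'
    rw [(hρ x).2 hx]; exact one_mem _
  · rintro x ⟨hxL, hxW⟩
    exact (hρ x).1 (mem_bot.1 (hUW' ▸ ⟨mem_map_of_mem ρ hxL, hxW⟩))
  · rw [eq_top_iff]
    intro x _
    have h1 : ρ x ∈ ((L ⊔ W'.comap ρ).map ρ) := by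
      rw [Subgroup.map_sup, map_comap_eq, inf_eq_right.2 hW'V, hUWV']
      exact ⟨x, rfl⟩
    obtain ⟨y, hy, he⟩ := h1
    have h2 : y⁻¹ * x ∈ frattini G := (hρ _).1 (by rw [map_mul, map_inv, he, inv_mul_cancel])
    simpa using mul_mem hy (mem_sup_left (hΦ h2))

end Action

/-- Let the finite group A act by automorphisms on the finite group G with the orders of A and G coprime, and assume that A or G is solvable. Call a proper A-invariant subgroup of G maximal A-invariant when no A-invariant subgroup lies strictly between it and G. Then all maximal A-invariant subgroups of G are conjugate under elements of the fixed-point subgroup C_G(A) if and only if G is a p-group for some prime p and A leaves invariant no subgroup strictly between the Frattini subgroup of G and G. In that case, if G is nontrivial, the Frattini subgroup is the only maximal A-invariant subgroup (a trivial G has none). -/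
theorem result {A G : Type*} [Group A] [Finite A]
    [Group G] [Finite G] [MulDistribMulAction A G] (hcop : (Nat.card A).Coprime (Nat.card G)) (hsol : Group.IsSolvable A ∨ Group.IsSolvable G) :
    ((∀ M N : Subgroup G, (M ≠ ⊤ ∧ (∀ a : A, ∀ x ∈ M, a • x ∈ M) ∧ ∀ L : Subgroup G, M < L → (∀ a : A, ∀ x ∈ L, a • x ∈ L) → L = ⊤) → (N ≠ ⊤ ∧ (∀ a : A, ∀ x ∈ N, a • x ∈ N) ∧ ∀ L : Subgroup G, N < L → (∀ a : A, ∀ x ∈ L, a • x ∈ L) → L = ⊤) →
        ∃ c : G, (∀ a : A, a • c = c) ∧ N = MulAut.conj c • M) ↔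
      ((∃ p : ℕ, p.Prime ∧ IsPGroup p G) ∧ ∀ L : Subgroup G, frattini G < L → (∀ a : A, ∀ x ∈ L, a • x ∈ L) → L = ⊤)) ∧
    (((∃ p : ℕ, p.Prime ∧ IsPGroup p G) ∧ ∀ L : Subgroup G, frattini G < L → (∀ a : A, ∀ x ∈ L, a • x ∈ L) → L = ⊤) →
      ∀ M : Subgroup G, (M ≠ ⊤ ∧ (∀ a : A, ∀ x ∈ M, a • x ∈ M) ∧ ∀ L : Subgroup G, M < L → (∀ a : A, ∀ x ∈ L, a • x ∈ L) → L = ⊤) ↔ (M = frattini G ∧ M ≠ ⊤)) := by
  classical
  have backward : ((∃ p : ℕ, p.Prime ∧ IsPGroup p G) ∧
      ∀ L : Subgroup G, frattini G < L → (∀ a : A, ∀ x ∈ L, a • x ∈ L) → L = ⊤) →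
      ∀ M : Subgroup G, (M ≠ ⊤ ∧ (∀ a : A, ∀ x ∈ M, a • x ∈ M) ∧
        ∀ L : Subgroup G, M < L → (∀ a : A, ∀ x ∈ L, a • x ∈ L) → L = ⊤) ↔ (M = frattini G ∧ M ≠ ⊤) := by
    rintro ⟨-, hirr⟩ M
    constructor
    · rintro ⟨hM, hinv, hmax⟩
      refine ⟨?_, hM⟩
      have hinv' := invariant_sup hinv (fun a x hx => frattini_invariant (A := A) a hx)
      have hne : M ⊔ frattini G ≠ ⊤ := fun e => hM (frattini_nongenerating e)
      have hle : frattini G ≤ M := by
        by_contra hnle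
        exact hne (hmax _ (lt_of_le_of_ne le_sup_left fun e => hnle (e.symm ▸ le_sup_right)) hinv')
      rcases eq_or_lt_of_le hle with e | e
      · exact e.symm
      · exact absurd (hirr M e hinv) hM
    · rintro ⟨rfl, hM⟩
      exact ⟨hM, fun a x hx => frattini_invariant a hx, hirr⟩
  refine ⟨⟨fun hconj => ?_, fun hp M N hM hN => ?_⟩, backward⟩
  · by_cases htriv : ∀ g : G, g = 1
    · refine ⟨⟨2, Nat.prime_two, fun g => ⟨0, by rw [htriv g, one_pow]⟩⟩, fun L hL _ => ?_⟩
      exact absurd (le_of_lt hL) (fun _ => hL.ne (Subgroup.ext fun x => by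
        rw [htriv x]; exact iff_of_true (one_mem _) (one_mem _)))
    have hsol : Group.IsSolvable (SemidirectProduct.inr : A →* Sd A G).range ∨
        Group.IsSolvable (SemidirectProduct.inl : G →* Sd A G).range := by
      rcases hsol with h | h
      · haveI := h
        exact Or.inl (Group.isSolvable_of_surjective (MonoidHom.rangeRestrict_surjective _))
      · haveI := h
        exact Or.inr (Group.isSolvable_of_surjective (MonoidHom.rangeRestrict_surjective _))
    set K := (SemidirectProduct.inl : G →* Sd A G).range with hK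
    have hKc : Nat.card K = Nat.card G :=
      (Nat.card_congr (MonoidHom.ofInjective SemidirectProduct.inl_injective).toEquiv).symm
    have hcopK : (Nat.card (SemidirectProduct.inr : A →* Sd A G).range).Coprime (Nat.card K) := by
      rw [hKc]; exact hcop.coprime_dvd_left (Subgroup.card_range_dvd _)
    have hAK : (SemidirectProduct.inr : A →* Sd A G).range ≤ Subgroup.normalizer (K : Set (Sd A G)) := by
      have h := (range_le_normalizer_iff (A := A) (⊤ : Subgroup G)).2 fun a x _ => Subgroup.mem_top _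
      rwa [← MonoidHom.range_eq_map (SemidirectProduct.inl : G →* Sd A G)] at h
    -- an invariant Sylow subgroup of `G` for each prime
    have hsyl : ∀ q : ℕ, q.Prime → ∃ P : Subgroup G,
        Nat.card P = q ^ (Nat.card G).factorization q ∧ ∀ a : A, ∀ x ∈ P, a • x ∈ P := by
      intro q hq
      haveI := Fact.mk hq
      obtain ⟨P, ⟨hPK, hPc⟩, hPA⟩ := CfsgLib.Coprime.exists_invariant_sylow hAK hcopK hsol q
      have e : (P.comap (SemidirectProduct.inl : G →* Sd A G)).map SemidirectProduct.inl = P := by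
        rw [Subgroup.map_comap_eq]
        exact inf_eq_right.2 hPK
      refine ⟨P.comap SemidirectProduct.inl, ?_, (range_le_normalizer_iff _).1 (by rw [e]; exact hPA)⟩
      rw [← Subgroup.card_map_of_injective (f := (SemidirectProduct.inl : G →* Sd A G))
        SemidirectProduct.inl_injective, e, hPc, hKc]
    have hp : ∃ p : ℕ, p.Prime ∧ IsPGroup p G := by
      by_contra hnp
      push Not at hnp
      have hproper : ∀ q : ℕ, q.Prime → ∀ P : Subgroup G, Nat.card P = q ^ (Nat.card G).factorization q → P ≠ ⊤ := by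
        intro q hq P hP e
        rw [e, Subgroup.card_top] at hP
        exact hnp q hq (IsPGroup.of_card hP)
      obtain ⟨P0, hP0, hP0inv⟩ := hsyl 2 Nat.prime_two
      obtain ⟨M0, -, hM0⟩ := exists_max_invariant hP0inv (hproper 2 Nat.prime_two P0 hP0)
      apply hM0.1
      rw [← Subgroup.index_eq_one]
      by_contra hne
      obtain ⟨q, hq, hd⟩ := Nat.exists_prime_and_dvd hne
      haveI := Fact.mk hq
      obtain ⟨P, hP, hPinv⟩ := hsyl q hq
      obtain ⟨M, hPM, hM⟩ := exists_max_invariant hPinv (hproper q hq P hP)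
      obtain ⟨c, -, hc⟩ := hconj M M0 hM hM0
      have hidx : M0.index = M.index := by
        rw [hc]
        exact Subgroup.index_map_of_bijective (MulAut.conj c).bijective M
      exact (Sylow.ofCard P hP).not_dvd_index ((hidx ▸ hd).trans (Subgroup.index_dvd_of_le hPM))
    obtain ⟨p, hpp, hpG⟩ := hp
    haveI := Fact.mk hpp
    refine ⟨⟨p, hpp, hpG⟩, fun L hL hLinv => ?_⟩
    by_contra hLT
    obtain ⟨L', hL'inv, hΦL', hcap, hsup⟩ := exists_inv_complement hpG hcop hL.le hLinv
    by_cases hL'T : L' = ⊤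
    · rw [hL'T, inf_top_eq] at hcap
      exact hL.not_ge hcap
    obtain ⟨M, hLM, hM⟩ := exists_max_invariant hLinv hLT
    obtain ⟨M', hL'M', hM'⟩ := exists_max_invariant hL'inv hL'T
    obtain ⟨c, -, hc⟩ := hconj M M' hM hM'
    have hMn : M.Normal := by
      have hfm : frattini G ≤ M := hL.le.trans hLM
      refine ⟨fun x hx g => ?_⟩
      have : g * x * g⁻¹ * x⁻¹ ∈ M := hfm (CfsgLib.Coprime.commutator_le_frattini hpG
        (Subgroup.commutator_mem_commutator (Subgroup.mem_top g) (Subgroup.mem_top x)))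
      simpa using mul_mem this hx
    have hMM : M' = M := by
      haveI := hMn
      rw [hc]; exact Subgroup.Normal.conj_smul_eq_self c M
    exact hM.1 (top_le_iff.1 (hsup ▸ sup_le hLM (hMM ▸ hL'M')))
  · have h1 := ((backward hp M).1 hM).1
    have h2 := ((backward hp N).1 hN).1
    exact ⟨1, fun a => smul_one a, by rw [map_one, one_smul, h1, h2]⟩

end Cfsg.Agent.S4381
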