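import Cfsg.Statements.S4385
import Cfsg.Agent.Lib.PGroup.IndexChain.TwoDihedral.Main

set_option autoImplicit false
open Pointwise
open Cfsg

namespace Cfsg.Agent.S4385

/-- Let H be a subgroup of a finite group G whose largest normal 2-subgroup O_2(H) is nontrivial and such that H/O_2(H) is a dihedral group of order at least 4. Let P be a Sylow 2-subgroup of H and S a Sylow 2-subgroup of G containing P. Suppose y ∈ S lies outside P, normalizes P, has y² in the product of P with the centralizer of P in G, and normalizes no non-identity normal subgroup of H contained in P. Then P has order 4, 8 or 16, and H modulo its largest normal subgroup of odd order is isomorphic to the four-group, to the symmetric group of degree 4, or to the direct product of the symmetric group of degree 4 with a group of order 2. -/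
theorem result {G : Type*} [Group G] [Finite G]
    (H : Subgroup G) (hO : Cfsg.pCore 2 ↥H ≠ ⊥) (n : ℕ) (hn : 2 ≤ n) (hdih : Nonempty (↥H ⧸ Cfsg.pCore 2 ↥H ≃* DihedralGroup n))
    (P : Subgroup G) (hPH : P ≤ H) (hP : IsPGroup 2 P) (hPsyl : ¬ 2 ∣ P.relIndex H)
    (S : Sylow 2 G) (hPS : P ≤ (S : Subgroup G)) (y : G) (hyS : y ∈ (S : Subgroup G)) (hyP : y ∉ P)
    (hy2 : y ^ 2 ∈ P ⊔ Subgroup.centralizer (P : Set G)) (hyN : MulAut.conj y • P = P)
    (hyQ : ∀ Q : Subgroup G, Q ≤ P → (Q.subgroupOf H).Normal → MulAut.conj y • Q = Q → Q = ⊥) :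
    (Nat.card P = 4 ∨ Nat.card P = 8 ∨ Nat.card P = 16) ∧
    (Nonempty (↥H ⧸ Cfsg.oddCore ↥H ≃* Multiplicative (ZMod 2) × Multiplicative (ZMod 2)) ∨
     Nonempty (↥H ⧸ Cfsg.oddCore ↥H ≃* Equiv.Perm (Fin 4)) ∨
     Nonempty (↥H ⧸ Cfsg.oddCore ↥H ≃* Equiv.Perm (Fin 4) × Multiplicative (ZMod 2))) := by
  have hy : ∀ R R' : Subgroup G, R ≤ P → R' ≤ P → (R.subgroupOf H).Normal → (R'.subgroupOf H).Normal →
      MulAut.conj y • R = R' → R = ⊥ := by
    intro R R' hR hR' hRn hR'n hRR'
    have hNR := (Subgroup.normal_subgroupOf_iff_le_normalizer (hR.trans hPH)).1 hRn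
    have hNR' := (Subgroup.normal_subgroupOf_iff_le_normalizer (hR'.trans hPH)).1 hR'n
    have hy2N : y ^ 2 ∈ Subgroup.normalizer (R : Set G) := by
      refine (sup_le (hPH.trans hNR) (fun c hc => ?_)) hy2
      refine CfsgLib.PGroup.IndexChain.TwoDihedral.mem_normalizer_of_smul ?_
      ext a
      rw [Subgroup.mem_pointwise_smul_iff_inv_smul_mem, MulAut.smul_def, MulAut.conj_inv_apply]
      constructor
      · intro h
        have h2 := Subgroup.mem_centralizer_iff.1 hc _ (hR h)
        have e : a = c⁻¹ * a * c := by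
          have h3 : a * c = c * (c⁻¹ * a * c) := by group
          rw [← h2] at h3
          exact mul_right_cancel h3
        rw [e]; exact h
      · intro h
        have h2 := Subgroup.mem_centralizer_iff.1 hc _ (hR h)
        rw [mul_assoc, h2, inv_mul_cancel_left]
        exact h
    have hyR' : MulAut.conj y • R' = R := by
      rw [← hRR', ← mul_smul, ← map_mul, ← sq]
      exact CfsgLib.PGroup.IndexChain.TwoDihedral.smul_eq_of_mem_normalizer hy2N
    have := hyQ (R ⊔ R') (sup_le hR hR')
      (CfsgLib.PGroup.IndexChain.TwoDihedral.subgroupOf_normal fun g hg =>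
        CfsgLib.PGroup.IndexChain.TwoDihedral.mem_normalizer_of_smul (by
          rw [Subgroup.smul_sup, CfsgLib.PGroup.IndexChain.TwoDihedral.smul_eq_of_mem_normalizer (hNR hg),
            CfsgLib.PGroup.IndexChain.TwoDihedral.smul_eq_of_mem_normalizer (hNR' hg)]))
      (by rw [Subgroup.smul_sup, hRR', hyR', sup_comm])
    exact (sup_eq_bot_iff.1 this).1
  rcases CfsgLib.PGroup.IndexChain.TwoDihedral.shape hO n hn hdih hPH hP hPsyl hyN hy with
    ⟨h4, -, hV⟩ | ⟨h8 | h16, hS⟩
  · exact ⟨Or.inl h4, Or.inl hV⟩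
  · exact ⟨Or.inr (Or.inl h8), Or.inr hS⟩
  · exact ⟨Or.inr (Or.inr h16), Or.inr hS⟩

end Cfsg.Agent.S4385
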