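import Cfsg.Statements.S4387
import Cfsg.Agent.Lib.PGroup.JordanCover
import Cfsg.Agent.Lib.PGroup.Basic

set_option autoImplicit false
set_option linter.style.haveILetI false
open Pointwise
open Cfsg

namespace Cfsg.Agent.S4387

/-- Let G be a non-trivial finite group in which any two maximal subgroups are conjugate. Then G is cyclic of prime-power order. -/
theorem result {G : Type*} [Group G] [Finite G] [Nontrivial G]
    (h : ∀ M N : Subgroup G, IsCoatom M → IsCoatom N → ∃ g : G, N = MulAut.conj g • M) :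
    IsCyclic G ∧ IsPrimePow (Nat.card G) := by
  obtain ⟨M, hM, -⟩ := (eq_top_or_exists_le_coatom (⊥ : Subgroup G)).resolve_left bot_ne_top
  obtain ⟨g, hg⟩ : ∃ g : G, ∀ c : G, c⁻¹ * g * c ∉ M := by
    by_contra hcon
    push Not at hcon
    exact hM.1 (CfsgLib.PGroup.eq_top_of_forall_conj_mem M hcon)
  have hgen : Subgroup.zpowers g = ⊤ := by
    by_contra hne
    obtain ⟨N, hN, hle⟩ := (eq_top_or_exists_le_coatom (Subgroup.zpowers g)).resolve_left hne
    obtain ⟨c, rfl⟩ := h M N hM hN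
    obtain ⟨m, hm, hmg⟩ := hle (Subgroup.mem_zpowers g)
    simp only [MulDistribMulAction.toMonoidEnd_apply, MulDistribMulAction.toMonoidHom_apply,
      MulAut.smul_def, MulAut.conj_apply] at hmg
    refine hg c ?_
    rw [← hmg, show c⁻¹ * (c * m * c⁻¹) * c = m by group]
    exact hm
  have hcyc : IsCyclic G :=
    ⟨⟨g, fun x => Subgroup.mem_zpowers_iff.1 (hgen ▸ Subgroup.mem_top x)⟩⟩
  refine ⟨hcyc, isPrimePow_iff_unique_prime_dvd.2 ?_⟩
  obtain ⟨p, hp, hpd⟩ := Nat.exists_prime_and_dvd (Finite.one_lt_card (α := G)).ne'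
  refine ⟨p, ⟨hp, hpd⟩, fun q ⟨hq, hqd⟩ => ?_⟩
  by_contra hqp
  haveI := hcyc
  letI := IsCyclic.commGroup (α := G)
  have key : ∀ r : ℕ, r.Prime → r ∣ Nat.card G → g ^ r ∈ M := by
    intro r hr hrd
    have hne : Subgroup.zpowers (g ^ r) ≠ ⊤ := fun e => by
      have h1 : Nat.card (Subgroup.zpowers (g ^ r)) = Nat.card G := by rw [e, Subgroup.card_top]
      have h2 : orderOf g = Nat.card G := by rw [← Nat.card_zpowers, hgen, Subgroup.card_top]
      rw [Nat.card_zpowers, orderOf_pow_of_dvd hr.ne_zero (h2 ▸ hrd), h2] at h1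
      exact absurd h1 (Nat.div_lt_self Nat.card_pos hr.one_lt).ne
    obtain ⟨N, hN, hle⟩ := (eq_top_or_exists_le_coatom _).resolve_left hne
    obtain ⟨c, rfl⟩ := h M N hM hN
    obtain ⟨m, hm, hmg⟩ := hle (Subgroup.mem_zpowers (g ^ r))
    simp only [MulDistribMulAction.toMonoidEnd_apply, MulDistribMulAction.toMonoidHom_apply,
      MulAut.smul_def, MulAut.conj_apply] at hmg
    rw [mul_comm c m, mul_inv_cancel_right] at hmg
    rwa [← hmg]
  refine hg 1 ?_
  rw [inv_one, one_mul, mul_one]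
  refine CfsgLib.PGroup.mem_of_forall_prime_pow_mem fun r hr => ?_
  by_cases hrp : r = p
  · exact ⟨q, fun hd => hqp ((Nat.prime_dvd_prime_iff_eq hr hq).1 hd ▸ hrp), key q hq hqd⟩
  · exact ⟨p, fun hd => hrp ((Nat.prime_dvd_prime_iff_eq hr hp).1 hd), key p hp hpd⟩

end Cfsg.Agent.S4387
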