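import Cfsg.Statements.S4394
import Cfsg.Agent.Lib.PGroup.SchmidtKernel.Reduced
import Cfsg.Agent.Lib.Coprime.MinimalNonNilpotent

set_option autoImplicit false
open Cfsg

namespace Cfsg.Agent.S4394

open Subgroup

/-- The normal Sylow subgroup of a minimal non-nilpotent group carries Schmidt data. -/
theorem exists_data {X : Type*} [Group X] [Finite X] {p : ℕ} [hp : Fact p.Prime]
    (hX : Cfsg.IsMinimalNonNilpotent X) (P : Sylow p X) (hPn : (P : Subgroup X).Normal)
    (hP1 : (P : Subgroup X) ≠ ⊥) :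
    Nonempty (CfsgLib.SchmidtKernel.Data p ↥(P : Subgroup X)) := by
  obtain ⟨r, q, hr, hq, hrq, R, Q, hRc, hQn, hsup, hncomm⟩ :=
    CfsgLib.Coprime.schmidt_structure hX.1 hX.2
  haveI := Fact.mk hr
  haveI := Fact.mk hq
  haveI := hQn
  haveI := hPn
  -- `p = q`
  obtain rfl : p = q := by
    by_contra hpq
    by_cases hpr : p = r
    · subst hpr
      haveI : (R : Subgroup X).Normal := by
        haveI := Sylow.unique_of_normal P hPn
        rw [Subsingleton.elim R P]; exact hPn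
      exact hncomm fun x hx => mem_centralizer_iff.2 fun y hy =>
        (Subgroup.commute_of_normal_of_disjoint _ _ inferInstance inferInstance
          (IsPGroup.disjoint_of_ne p q hrq _ _ R.2 Q.2) x y hx hy).eq.symm
    · apply hP1
      rw [eq_bot_iff]
      intro x hx
      obtain ⟨k, hk⟩ := P.2 ⟨x, hx⟩
      have hxk : x ^ p ^ k = 1 := congrArg Subtype.val hk
      obtain ⟨y, hy, w, hw, rfl⟩ := mem_sup_of_normal_right.1 (hsup ▸ mem_top x)
      have hyk : y ^ p ^ k = 1 := by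
        have h1 : QuotientGroup.mk' (Q : Subgroup X) y ^ p ^ k = 1 := by
          have := congrArg (QuotientGroup.mk' (Q : Subgroup X)) hxk
          rw [map_pow, map_mul, map_one] at this
          rwa [show QuotientGroup.mk' (Q : Subgroup X) w = 1 from
            (QuotientGroup.eq_one_iff w).2 hw, mul_one] at this
        rw [← map_pow] at h1
        exact Subgroup.disjoint_def.1 (IsPGroup.disjoint_of_ne r q hrq _ _ R.2 Q.2)
          (pow_mem hy _) ((QuotientGroup.eq_one_iff _).1 h1)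
      obtain ⟨j, hj⟩ := R.2 ⟨y, hy⟩
      have hy1 : y = 1 := orderOf_eq_one_iff.1 (Nat.eq_one_of_dvd_coprimes
        (Nat.Coprime.pow j k ((Nat.coprime_primes hr hp.out).2 (Ne.symm hpr)))
        (orderOf_dvd_of_pow_eq_one (show y ^ r ^ j = 1 from congrArg Subtype.val hj))
        (orderOf_dvd_of_pow_eq_one hyk))
      subst hy1
      rw [one_mul] at hxk ⊢
      obtain ⟨j, hj⟩ := Q.2 ⟨w, hw⟩
      exact mem_bot.2 (orderOf_eq_one_iff.1 (Nat.eq_one_of_dvd_coprimes
        (Nat.Coprime.pow j k ((Nat.coprime_primes hq hp.out).2 (Ne.symm hpq)))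
        (orderOf_dvd_of_pow_eq_one (show w ^ q ^ j = 1 from congrArg Subtype.val hj))
        (orderOf_dvd_of_pow_eq_one hxk)))
  haveI := Sylow.unique_of_normal P hPn
  obtain rfl : Q = P := Subsingleton.elim _ _
  clear hP1
  obtain ⟨⟨b, hbR⟩, hb⟩ := hRc
  have hgen : (R : Subgroup X) = zpowers b := le_antisymm
    (fun x hx => by
      obtain ⟨i, hi⟩ := hb ⟨x, hx⟩
      exact ⟨i, congrArg Subtype.val hi⟩) (zpowers_le.2 hbR)
  set α : MulAut ↥(Q : Subgroup X) := MulAut.conjNormal b with hα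
  have hdisj := IsPGroup.disjoint_of_ne r p hrq _ _ R.2 Q.2
  -- proper subgroups commute
  have hcomm : ∀ A B : Subgroup X, IsPGroup r A → IsPGroup p B → A ⊔ B ≠ ⊤ →
      A ≤ centralizer (B : Set X) := fun A B hA hB hne =>
    CfsgLib.Coprime.commute_of_sup_nilpotent hrq hA hB le_sup_left le_sup_right (hX.2 _ hne)
  have hb1 : b ≠ 1 := by
    rintro rfl
    exact hncomm (by rw [hgen, zpowers_one_eq_bot]; exact bot_le)
  have hsmall : zpowers (b ^ r) ⊔ (Q : Subgroup X) ≠ ⊤ := by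
    intro htop
    obtain ⟨y, hy, w, hw, hyw⟩ := mem_sup_of_normal_right.1 (htop ▸ mem_top b)
    obtain ⟨i, rfl⟩ := mem_zpowers_iff.1 hy
    have hwR : w ∈ (R : Subgroup X) := by
      rw [show w = ((b ^ r) ^ i)⁻¹ * b from eq_inv_mul_of_mul_eq hyw]
      exact mul_mem (inv_mem (zpow_mem (pow_mem hbR r) i)) hbR
    rw [Subgroup.disjoint_def.1 hdisj hwR hw, mul_one, ← zpow_natCast, ← zpow_mul] at hyw
    have h1 : b ^ ((r : ℤ) * i - 1) = 1 := by rw [zpow_sub_one, hyw, mul_inv_cancel]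
    have h2 := orderOf_dvd_iff_zpow_eq_one.2 h1
    obtain ⟨j, hj⟩ := R.2 ⟨b, hbR⟩
    obtain ⟨m, hm, hbm⟩ := (Nat.dvd_prime_pow hr).1
      (orderOf_dvd_of_pow_eq_one (show b ^ r ^ j = 1 from congrArg Subtype.val hj))
    have hm0 : m ≠ 0 := by
      rintro rfl
      exact hb1 (orderOf_eq_one_iff.1 (by rw [hbm, pow_zero]))
    have h3 : (r : ℤ) ∣ (r : ℤ) * i - 1 :=
      (Int.natCast_dvd_natCast.2 (hbm ▸ dvd_pow_self r hm0)).trans h2
    have h4 : (r : ℤ) ∣ 1 := by
      have := dvd_sub (dvd_mul_right (r : ℤ) i) h3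
      rwa [sub_sub_cancel] at this
    exact hr.not_dvd_one (Int.natCast_dvd_natCast.1 h4)
  refine ⟨{ α := α, r := r, prime := hr, ne := hrq, pow_eq := ?_, ne_one := ?_, fixed := ?_ }⟩
  · have hc := hcomm _ _ (R.2.to_le (zpowers_le.2 (pow_mem hbR r))) Q.2 hsmall (mem_zpowers _)
    refine MulEquiv.ext fun u => Subtype.ext ?_
    rw [hα, ← map_pow, MulAut.conjNormal_apply, MulAut.one_apply,
      ← mem_centralizer_iff.1 hc u u.2, mul_inv_cancel_right]
  · intro h
    refine hncomm ?_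
    rw [hgen, zpowers_le, mem_centralizer_iff]
    intro u hu
    have h1 : b * u * b⁻¹ = u := by
      simpa [hα] using congrArg Subtype.val (DFunLike.congr_fun h ⟨u, hu⟩)
    exact (mul_inv_eq_iff_eq_mul.1 h1).symm
  · intro U hU hne u hu
    set U' := U.map (Q : Subgroup X).subtype with hU'
    have hnorm : zpowers b ≤ normalizer (U' : Set X) := by
      rw [zpowers_le, ← CfsgLib.Coprime.conjBy_eq_self_iff]
      refine eq_of_le_of_card_ge ?_ (CfsgLib.Coprime.card_conjBy b U').ge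
      rintro _ ⟨_, ⟨v, hv, rfl⟩, rfl⟩
      exact ⟨α v, hU v hv, by simp [hα]⟩
    have htop : zpowers b ⊔ U' ≠ ⊤ := by
      intro htop
      refine hne (eq_top_iff.2 fun v _ => ?_)
      obtain ⟨x, hx, y, hy, hxy⟩ := CfsgLib.Coprime.mem_sup_exists hnorm
        ((sup_comm (zpowers b) U').symm ▸ htop ▸ mem_top (v : X) : (v : X) ∈ U' ⊔ zpowers b)
      have hxQ : x ∈ (Q : Subgroup X) := map_subtype_le _ hx
      have hyQ : y ∈ (Q : Subgroup X) := by
        have := mul_mem (inv_mem hxQ) v.2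
        rwa [← hxy, inv_mul_cancel_left] at this
      rw [Subgroup.disjoint_def.1 hdisj (hgen.ge hy) hyQ, mul_one] at hxy
      obtain ⟨w, hw, hwx⟩ := hx
      rwa [show v = w from Subtype.ext (by rw [← hxy, ← hwx]; rfl)]
    have hc := hcomm _ _ (hgen ▸ R.2) (Q.2.to_le (map_subtype_le _)) htop (mem_zpowers b)
    refine Subtype.ext ?_
    rw [hα, MulAut.conjNormal_apply, ← mem_centralizer_iff.1 hc u ⟨u, hu, rfl⟩,
      mul_inv_cancel_right]


/-- Let X be a finite minimal non-nilpotent group (not nilpotent, every proper subgroup nilpotent) with a nontrivial normal Sylow p-subgroup P. If G is a finite p-solvable group whose Sylow p-subgroups are isomorphic to P, then G has p-length at most 1. -/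
theorem result {G X : Type*} [Group G] [Finite G] [Group X] [Finite X] (p : ℕ) [Fact p.Prime]
    (hX : Cfsg.IsMinimalNonNilpotent X) (P : Sylow p X) (hPn : (P : Subgroup X).Normal) (hP1 : (P : Subgroup X) ≠ ⊥)
    (hG : Cfsg.IsPSolvable p G) (Q : Sylow p G) (hQ : Nonempty (↥(Q : Subgroup G) ≃* ↥(P : Subgroup X))) : Cfsg.PLengthLE p 1 G := by
  haveI : (Cfsg.pPrimeCore p G).Normal := inferInstance
  set N := Cfsg.pPrimeCore p G with hN
  obtain ⟨D⟩ := exists_data hX P hPn hP1
  obtain ⟨e⟩ := hQ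
  have hinj : Function.Injective ((QuotientGroup.mk' N).subgroupMap (Q : Subgroup G)) := by
    rw [← MonoidHom.ker_eq_bot_iff, eq_bot_iff]
    rintro ⟨x, hx⟩ hxk
    have hxN : x ∈ N := (QuotientGroup.eq_one_iff x).1 (congrArg Subtype.val hxk)
    exact Subgroup.mem_bot.2 (Subtype.ext (CfsgLib.Invol.eq_one_of_coprime_of_isPGroup Q.2 hx
      (Nat.Coprime.coprime_dvd_left
        ((Nat.card_zpowers x).symm.dvd.trans
          (Subgroup.card_dvd_of_le (Subgroup.zpowers_le.2 hxN)))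
        (CfsgLib.Coprime.pPrimeCore_coprime (Fact.out : p.Prime)))))
  let f := MulEquiv.ofBijective ((QuotientGroup.mk' N).subgroupMap (Q : Subgroup G))
    ⟨hinj, MonoidHom.subgroupMap_surjective _ _⟩
  let Q' : Sylow p (G ⧸ N) := Q.mapSurjective (QuotientGroup.mk'_surjective N)
  have hQ'eq : (Q' : Subgroup (G ⧸ N)) = (Q : Subgroup G).map (QuotientGroup.mk' N) :=
    Sylow.coe_mapSurjective _ Q
  let D' : CfsgLib.SchmidtKernel.Data p ↥(Q' : Subgroup (G ⧸ N)) :=
    D.congr ((e.symm.trans f).trans (MulEquiv.subgroupCongr hQ'eq.symm))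
  have hle : (Q' : Subgroup (G ⧸ N)) ≤ Cfsg.pCore p (G ⧸ N) :=
    CfsgLib.SchmidtKernel.le_pCore
      (CfsgLib.PGroup.isPSolvable_quotient (Fact.out : p.Prime) hG N)
      (CfsgLib.Coprime.pPrimeCore_quotient_eq_bot (Fact.out : p.Prime)) Q' D'
  exact CfsgLib.PGroup.pLengthLE_one_of_not_dvd fun h =>
    Q'.not_dvd_index (h.trans (Subgroup.index_dvd_of_le hle))

end Cfsg.Agent.S4394
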