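import Cfsg.Statements.S4395
import Cfsg.Agent.Lib.PGroup.UniversalSchmidt.Model
import Cfsg.Agent.Lib.PGroup.UniversalSchmidt.Group
import Cfsg.Agent.Lib.PGroup.UniversalSchmidt.Struct

set_option autoImplicit false
universe u
open Cfsg

namespace Cfsg.Agent.S4395

open CfsgLib.UniversalSchmidt

/-- Let p ≠ q be primes, r ≥ 1, a the multiplicative order of p modulo q, and a₀ = a when a is odd, a₀ = 3a/2 when a is even. Call a finite group minimal non-p-nilpotent when it has no normal p-complement but every proper subgroup has one. Then there is a minimal non-p-nilpotent group G₀ of order p^a₀ · q^r such that every minimal non-p-nilpotent group of order p^t · q^r (any t) is a quotient of G₀ by a central subgroup. -/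
theorem result (p q r : ℕ) [Fact p.Prime] [Fact q.Prime] (hpq : p ≠ q) (hr : 1 ≤ r) (a a₀ : ℕ)
    (ha : a = orderOf (p : ZMod q)) (ha₀ : a₀ = if a % 2 = 1 then a else 3 * a / 2) :
    ∃ (G₀ : Type u) (_ : Group G₀) (_ : Finite G₀),
      (¬ Cfsg.HasNormalPComplement p G₀ ∧ ∀ K : Subgroup G₀, K ≠ ⊤ → Cfsg.HasNormalPComplement p ↥K) ∧ Nat.card G₀ = p ^ a₀ * q ^ r ∧
      ∀ (X : Type u) [Group X] [Finite X], (¬ Cfsg.HasNormalPComplement p X ∧ ∀ K : Subgroup X, K ≠ ⊤ → Cfsg.HasNormalPComplement p ↥K) →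
        (∃ t : ℕ, Nat.card X = p ^ t * q ^ r) → ∃ φ : G₀ →* X, Function.Surjective φ ∧ φ.ker ≤ Subgroup.center G₀ := by
  classical
  obtain ⟨E, instF, instFin, instA, hE⟩ : ∃ (E : Type) (_ : Field E) (_ : Finite E) (_ : Algebra (ZMod p) E),
      Nat.card E = p ^ a :=
    ⟨GaloisField p a, inferInstance, inferInstance, inferInstance,
      GaloisField.card p a (pos hpq ha).ne'⟩
  obtain ⟨ζ, hζ⟩ := exists_root hpq ha hE
  obtain ⟨P₀, instG, instFinP, hP₀card, ⟨C₀⟩⟩ := exists_cover hpq ha hE hζ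
  rw [← ha₀] at hP₀card
  have hP₀ : IsPGroup p P₀ := IsPGroup.of_card hP₀card
  haveI : NeZero (q ^ r) := ⟨pow_ne_zero _ (Fact.out : q.Prime).ne_zero⟩
  let S := P₀ ⋊[C₀.action hr] Multiplicative (ZMod (q ^ r))
  haveI : Finite S := Finite.of_equiv _ SemidirectProduct.equivProd.symm
  let e : ULift.{u} S ≃* S := MulEquiv.ulift
  obtain ⟨hn, hmin⟩ := C₀.minimal hP₀ hpq hr ha hE hζ
  refine ⟨ULift.{u} S, inferInstance, inferInstance, ⟨fun h => hn ?_, fun K hK => ?_⟩, ?_, ?_⟩
  · exact (CfsgLib.Fusion.hasNormalPComplement_congr e).1 h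
  · refine (CfsgLib.Fusion.hasNormalPComplement_congr (e.subgroupMap K).symm).1 (hmin _ fun h => hK ?_)
    exact Subgroup.map_injective e.injective (h.trans (Subgroup.map_top_of_surjective _ e.surjective).symm)
  · rw [Nat.card_congr e.toEquiv, C₀.card_group hr, hP₀card]
  intro X _ _ ⟨h1, h2⟩ ⟨t, ht⟩
  obtain ⟨P, z, C, hP, hz, htop, hdis, hC⟩ := exists_struct hpq hr ha hE hζ h1 h2 ht
  obtain ⟨ψ, hψs, hψα, hψπ⟩ := C.exists_hom hP hpq ha hE hζ C₀ hP₀ (by rw [hP₀card, ha₀])
  have hzn : z ^ q ^ r = 1 := hz ▸ pow_orderOf_eq_one z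
  have hpow : ∀ (k : ℕ) (u : P), (((C.α ^ k) u : P) : X) = z ^ k * u * (z ^ k)⁻¹ := by
    intro k u
    induction k with
    | zero => simp
    | succ k ih => rw [C.pow_succ_apply, hC, ih, pow_succ']; group
  have hψpow : ∀ (k : ℕ) w, ψ ((C₀.α ^ k) w) = (C.α ^ k) (ψ w) := by
    intro k w
    induction k with
    | zero => simp
    | succ k ih => rw [C.pow_succ_apply, C₀.pow_succ_apply, hψα, ih]
  let φ : S →* X := SemidirectProduct.lift (P.subtype.comp ψ) (zmodHom z hzn) fun c => by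
    obtain ⟨k, rfl⟩ := exists_natCast c
    refine MonoidHom.ext fun w => ?_
    show (ψ (zmodHom C₀.α _ _ w) : X) = zmodHom z hzn _ * (ψ w : X) * (zmodHom z hzn _)⁻¹
    rw [zmodHom_natCast, zmodHom_natCast, hψpow, hpow]
  have hφl : ∀ w, φ (SemidirectProduct.inl w) = (ψ w : X) := fun w => SemidirectProduct.lift_inl _ _ _ _
  refine ⟨φ.comp e.toMonoidHom, (?_ : Function.Surjective φ).comp e.surjective, ?_⟩
  · rw [← MonoidHom.range_eq_top, eq_top_iff, ← htop]
    refine sup_le (fun x hx => ?_) (Subgroup.zpowers_le.2 ?_)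
    · obtain ⟨w, hw⟩ := hψs ⟨x, hx⟩
      exact ⟨SemidirectProduct.inl w, by rw [hφl, hw]⟩
    · refine ⟨SemidirectProduct.inr (Multiplicative.ofAdd ((1 : ℕ) : ZMod (q ^ r))), ?_⟩
      rw [SemidirectProduct.lift_inr, zmodHom_natCast, pow_one]
  intro g hg
  have hg' : φ (e g) = 1 := hg
  obtain ⟨k, hk⟩ := exists_natCast (e g).right
  have h3 : (ψ (e g).left : X) * z ^ k = 1 := by
    have h4 : φ (e g) = (ψ (e g).left : X) * zmodHom z hzn (e g).right := rfl
    rw [hk, zmodHom_natCast, hg'] at h4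
    exact h4.symm
  have hzk : z ^ k = 1 := Subgroup.disjoint_def.1 hdis
    (by rw [eq_inv_of_mul_eq_one_right h3]; exact inv_mem (ψ (e g).left).2)
    (pow_mem (Subgroup.mem_zpowers z) k)
  have hright : (e g).right = 1 := by
    rw [hk, (ZMod.natCast_eq_zero_iff k (q ^ r)).2 (hz ▸ orderOf_dvd_of_pow_eq_one hzk), ofAdd_zero]
  rw [hzk, mul_one] at h3
  have hker : (e g).left ∈ C₀.π.ker := by
    show C₀.π _ = 1
    rw [← hψπ, show ψ (e g).left = 1 from Subtype.ext h3, map_one]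
  refine Subgroup.mem_center_iff.2 fun h => e.injective ?_
  rw [map_mul, map_mul]
  obtain ⟨m, hm⟩ := exists_natCast (e h).right
  refine SemidirectProduct.ext ?_ ?_
  · rw [SemidirectProduct.mul_left, SemidirectProduct.mul_left, hright, map_one, MulAut.one_apply, hm,
      show C₀.action hr (Multiplicative.ofAdd (m : ZMod (q ^ r))) = C₀.α ^ m from zmodHom_natCast _ _ m,
      C₀.fixed_pow m hker]
    exact Subgroup.mem_center_iff.1 (C₀.central hker) _
  · rw [SemidirectProduct.mul_right, SemidirectProduct.mul_right, hright, mul_one, one_mul]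
end Cfsg.Agent.S4395
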