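import Cfsg.Statements.S4396
import Cfsg.Agent.Lib.Rep.FreeOver
import Cfsg.Agent.Lib.Coprime.Frobenius
import Cfsg.Agent.Lib.PGroup.FixedPointFree
import Cfsg.Agent.Lib.Char.TITransfer

set_option autoImplicit false
open Cfsg

namespace Cfsg.Agent.S4396

/-- Let the finite group A act faithfully and linearly on a finite-dimensional vector space V over a field k, and suppose A is a Frobenius group with nilpotent kernel F (every Frobenius kernel is nilpotent) and complement H such that F fixes no nonzero vector. Then V is free as a module for H: there is a subspace W with V the direct sum of the translates hW, h ∈ H. (No assumption on the characteristic of k.) -/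
theorem result {k V A : Type*} [Field k] [AddCommGroup V] [Module k V] [FiniteDimensional k V] [Group A] [Finite A] [DecidableEq A]
    (ρ : Representation k A V) (hρ : Function.Injective ρ)
    (Fk Hc : Subgroup A) [Fk.Normal] (hHc : Cfsg.IsFrobeniusComplement Hc) (hker : Cfsg.frobeniusKernel Hc = (Fk : Set A)) (hnil : Group.IsNilpotent ↥Fk)
    (hCF : ∀ v : V, (∀ f ∈ Fk, ρ f v = v) → v = 0) :
    ∃ W : Submodule k V, DirectSum.IsInternal (fun h : ↥Hc => W.map (ρ (h : A))) := by
  classical
  haveI := Fintype.ofFinite Hc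
  suffices h : ∃ N : Subgroup A, N.Normal ∧ N ≤ Fk ∧ (Nat.card N : k) ≠ 0 ∧
      ∀ v : V, (∀ n ∈ N, ρ n v = v) → v = 0 by
    obtain ⟨N, hN, hNle, hNu, hNfix⟩ := h
    haveI := hN
    haveI : Group.IsNilpotent Fk := hnil
    haveI : Group.IsNilpotent N := Group.nilpotent_of_mulEquiv (Subgroup.subgroupOfEquivOfLe hNle)
    obtain ⟨W, hW⟩ := CfsgLib.Rep.freeOn_of_fpf (H := Hc) (N := N) (MulAut.conjNormal.comp Hc.subtype)
      (ρ.comp Hc.subtype) (ρ.comp N.subtype)
      (fun h n => by
        show ρ h * ρ n = ρ ((h : A) * n * (h : A)⁻¹) * ρ h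
        rw [← map_mul, ← map_mul, inv_mul_cancel_right])
      (fun h hh n e => by
        have h1 : (h : A) * n * (h : A)⁻¹ = n := congrArg Subtype.val e
        have h2 : (n : A) ∈ Hc := CfsgLib.Coprime.frob_mem_of_commute hHc h.2
          (fun e => hh (Subtype.ext e)) (mul_inv_eq_iff_eq_mul.1 h1)
        exact Subtype.ext (CfsgLib.Coprime.frob_kernel_inter
          (hker ▸ hNle n.2 : (n : A) ∈ Cfsg.frobeniusKernel Hc) h2))
      hNu (fun v hv => hNfix v fun n hn => hv ⟨n, hn⟩)
    refine ⟨W, DirectSum.isInternal_submodule_of_iSupIndep_of_iSup_eq_top ?_ ?_⟩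
    · refine iSupIndep_def.2 fun i => Submodule.disjoint_def.2 fun x hx hx' => ?_
      obtain ⟨y, hy, rfl⟩ := Submodule.mem_map.1 hx
      let Φ : (Hc → W) →ₗ[k] V := ∑ h : Hc, (ρ (h : A)) ∘ₗ W.subtype ∘ₗ LinearMap.proj h
      have hΦ : ∀ w, Φ w = ∑ h : Hc, ρ (h : A) (w h : V) := fun w => by simp [Φ]
      have hsingle : ∀ (j : Hc) (y : W), Φ (Pi.single j y) = ρ (j : A) (y : V) := fun j y => by
        rw [hΦ, Finset.sum_eq_single j (fun b _ hb => by rw [Pi.single_eq_of_ne hb]; simp) (by simp),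
          Pi.single_eq_same]
      have hle : (⨆ j, ⨆ (_ : j ≠ i), W.map (ρ (j : A))) ≤
          (LinearMap.ker (LinearMap.proj i : (Hc → W) →ₗ[k] W)).map Φ := by
        refine iSup₂_le fun j hj => ?_
        rintro _ ⟨z, hz, rfl⟩
        exact ⟨Pi.single j ⟨z, hz⟩, Pi.single_eq_of_ne (Ne.symm hj) _, hsingle j ⟨z, hz⟩⟩
      obtain ⟨w, hw, hwy⟩ := Submodule.mem_map.1 (hle hx')
      have e : Pi.single i (⟨y, hy⟩ : W) = w :=
        hW.1 (((hΦ _).symm.trans (hsingle i ⟨y, hy⟩)).trans (hwy.symm.trans (hΦ w)))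
      have h0 : (⟨y, hy⟩ : W) = 0 := by
        exact (Pi.single_eq_same (M := fun _ : Hc => W) i ⟨y, hy⟩).symm.trans ((congrFun e i).trans hw)
      rw [show y = 0 from congrArg Subtype.val h0, map_zero]
    · refine eq_top_iff.2 fun v _ => ?_
      obtain ⟨w, rfl⟩ := hW.2 v
      exact Submodule.sum_mem _ fun h _ => Submodule.mem_iSup_of_mem h ⟨_, (w h).2, rfl⟩
  obtain ⟨p, hp⟩ := CharP.exists k
  rcases CharP.char_is_prime_or_zero k p with hprime | rfl
  · haveI := Fact.mk hprime
    haveI : Group.IsNilpotent Fk := hnil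
    let M := Cfsg.pPrimeCore p Fk
    haveI : M.Characteristic := CfsgLib.Coprime.pPrimeCore_characteristic p
    refine ⟨M.map Fk.subtype, inferInstance, Subgroup.map_subtype_le M, ?_, fun v hv => ?_⟩
    · rw [Subgroup.card_map_of_injective Fk.subtype_injective, Ne, CharP.cast_eq_zero_iff k p]
      exact CfsgLib.Coprime.pPrimeCore_not_dvd hprime
    by_contra hv0
    obtain ⟨P, N₀, hN₀, hc⟩ := CfsgLib.PGroup.hasNormalPComplement_of_isNilpotent (G := Fk) p
    have hN₀M : N₀ ≤ M := by
      haveI := hN₀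
      refine CfsgLib.Coprime.le_pPrimeCore ?_
      rw [← hc.index_eq_card]
      exact ((hprime.coprime_iff_not_dvd).2 P.not_dvd_index).symm
    let U : Submodule k V :=
      { carrier := {v | ∀ n ∈ M.map Fk.subtype, ρ n v = v}
        zero_mem' := fun n _ => map_zero _
        add_mem' := fun {a b} ha hb n hn => by rw [map_add, ha n hn, hb n hn]
        smul_mem' := fun c a ha n hn => by rw [map_smul, ha n hn] }
    haveI : Fintype (P : Subgroup Fk) := Fintype.ofFinite _
    obtain ⟨w, hwU, hw0, hwP⟩ := CfsgLib.Char.TITransfer.exists_fixed_ne_zero (k := k) P.2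
      (ρ.comp (Fk.subtype.comp (P : Subgroup Fk).subtype)) U
      (fun x u hu n hn => by
        show ρ n (ρ ((x : Fk) : A) u) = ρ ((x : Fk) : A) u
        have h1 := hu _ ((inferInstance : (M.map Fk.subtype).Normal).conj_mem n hn ((x : Fk) : A)⁻¹)
        rw [inv_inv] at h1
        conv_rhs => rw [← h1]
        rw [← Module.End.mul_apply, ← Module.End.mul_apply, ← map_mul, ← map_mul]
        congr 2
        group) hv hv0
    let S : Subgroup Fk :=
      { carrier := {f | ρ (f : A) w = w}
        one_mem' := by show ρ (1 : A) w = w; rw [map_one]; rfl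
        mul_mem' := fun {a b} (ha : ρ (a : A) w = w) (hb : ρ (b : A) w = w) => by
          show ρ ((a : A) * b) w = w
          rw [map_mul, Module.End.mul_apply, hb, ha]
        inv_mem' := fun {a} (ha : ρ (a : A) w = w) => by
          show ρ ((a : A)⁻¹) w = w
          conv_lhs => rw [← ha]
          rw [← Module.End.mul_apply, ← map_mul, inv_mul_cancel, map_one]
          rfl }
    have htop : ⊤ ≤ S := hc.sup_eq_top ▸ sup_le (hN₀M.trans fun m hm => hwU _ ⟨m, hm, rfl⟩)
      (fun x hx => hwP ⟨x, hx⟩)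
    exact hw0 (hCF w fun f hf => htop (Subgroup.mem_top (⟨f, hf⟩ : Fk)))
  · haveI : CharZero k := CharP.charP_to_charZero k
    exact ⟨Fk, inferInstance, le_rfl, Nat.cast_ne_zero.2 Nat.card_pos.ne', hCF⟩

end Cfsg.Agent.S4396
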