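import Cfsg.Agent.Lib.Invol.MetacyclicTwo
-- under Cfsg/Agent/.
import Cfsg.Statements.S4397
-- import your own Cfsg.Agent.* helpers here

set_option autoImplicit false
open Cfsg

namespace Cfsg.Agent.S4397

/-- A finite 2-group of sectional 2-rank at most 2 (every section has no elementary abelian subgroup of order 8) is metacyclic: it has a cyclic normal subgroup with cyclic quotient. -/
theorem result {S : Type*} [Group S] [Finite S] (h2 : IsPGroup 2 S) (hr : Cfsg.SectionalPRankLE 2 2 S) : Cfsg.IsMetacyclic S := by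
  refine CfsgLib.Invol.MetaTwo.metacyclic_of_sqBound _ S rfl h2 ?_
  intro H N hNH hn hsq
  haveI : (N.subgroupOf H).Normal := ⟨fun n hn' h => hn _ h.2 _ hn'⟩
  have h1 : ∀ a : H ⧸ N.subgroupOf H, a * a = 1 := fun a => by
    induction a using QuotientGroup.induction_on with
    | _ a => exact (QuotientGroup.eq_one_iff _).2 (hsq _ a.2)
  have hc : ∀ a b : H ⧸ N.subgroupOf H, a * b = b * a := fun a b => by
    calc a * b = (a * b)⁻¹ := eq_inv_of_mul_eq_one_left (h1 _)
      _ = b⁻¹ * a⁻¹ := mul_inv_rev a b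
      _ = b * a := by rw [inv_eq_of_mul_eq_one_left (h1 a), inv_eq_of_mul_eq_one_left (h1 b)]
  have h := hr H (N.subgroupOf H) ⊤ (isMulCommutative_iff.2 fun x y => Subtype.ext (hc x y))
    (fun a _ => by rw [pow_two]; exact h1 a)
  rw [Subgroup.card_top, ← Subgroup.index_eq_card] at h
  have hm := (N.subgroupOf H).card_mul_index
  rw [Nat.card_congr (Subgroup.subgroupOfEquivOfLe hNH).toEquiv] at hm
  rw [← hm, mul_comm 4]
  exact Nat.mul_le_mul_left _ h

end Cfsg.Agent.S4397
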