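import Cfsg.Agent.Lib.Invol.Taussky
-- under Cfsg/Agent/.
import Cfsg.Statements.S4399
-- import your own Cfsg.Agent.* helpers here

set_option autoImplicit false
open Cfsg

namespace Cfsg.Agent.S4399

/-- Let S be a finite 2-group whose commutator quotient S/[S,S] is a Klein four-group (order 4 and exponent 2). Then S itself has order 4, or S is dihedral of order at least 8, semidihedral of order at least 16 (order 2^(k+4) with an element a of order 2^(k+3) and an involution b with b a b⁻¹ = a^(2^(k+2)−1)), or generalized quaternion of order at least 8. -/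
theorem result {S : Type*} [Group S] [Finite S] (h2 : IsPGroup 2 S) (hab : Nat.card (Abelianization S) = 4)
    (hexp : ∀ x : Abelianization S, x ^ 2 = 1) :
    Nat.card S = 4 ∨
    ((∃ k : ℕ, Nonempty (S ≃* DihedralGroup (2 ^ (k + 2)))) ∨
      (∃ k : ℕ, Nat.card S = 2 ^ (k + 4) ∧ ∃ a b : S, orderOf a = 2 ^ (k + 3) ∧ orderOf b = 2 ∧ b * a * b⁻¹ = a ^ (2 ^ (k + 2) - 1)) ∨
      (∃ k : ℕ, Nonempty (S ≃* QuaternionGroup (2 ^ (k + 1))))) := by
  have hcard : Nat.card S = 4 * Nat.card (commutator S) := by
    rw [← Subgroup.index_mul_card (commutator S), Subgroup.index_eq_card]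
    exact congrArg (· * _) hab
  by_cases hna : IsMulCommutative S
  · left
    have : commutator S = ⊥ := by
      rw [_root_.commutator_def, Subgroup.commutator_eq_bot_iff_le_centralizer]
      exact fun x _ => Subgroup.mem_centralizer_iff.2 fun y _ => mul_comm' y x
    rw [hcard, this, Subgroup.card_bot]
  right
  obtain ⟨k, r, e, a, b, ht, F⟩ := CfsgLib.Invol.exists_std_frame h2 hna hcard.le
  have hk : 2 ≤ k := ht.1
  rcases CfsgLib.Invol.cases_of_std ht F with h | h | h
  · exact Or.inl ⟨k - 2, by rwa [show k - 2 + 2 = k by omega]⟩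
  · exact Or.inr (Or.inr ⟨k - 2, by rwa [show k - 2 + 1 = k - 1 by omega]⟩)
  · obtain ⟨j, hj, hc, x, y, hx, hy, hxy⟩ := h
    refine Or.inr (Or.inl ⟨j - 3, ?_, x, y, ?_, hy, ?_⟩)
    · rw [hc]; congr 1; omega
    · rw [hx]; congr 1; omega
    · rw [hxy]; congr 3; omega

end Cfsg.Agent.S4399
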