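import Cfsg.Statements.S4400
import Cfsg.Agent.Lib.PGroup.SectionalPairs
-- import your own Cfsg.Agent.* helpers here

set_option autoImplicit false
open Cfsg

namespace Cfsg.Agent.S4400

/-- Let S be a finite 2-group of sectional 2-rank at most 4, and let P and Q be normal non-abelian subgroups of S whose centres have order 2 and are different. Then P and Q commute elementwise and intersect trivially, and PQ contains its own centralizer in S. -/
theorem result {S : Type*} [Group S] [Finite S] (h2 : IsPGroup 2 S) (hr : Cfsg.SectionalPRankLE 2 4 S)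
    (P Q : Subgroup S) [P.Normal] [Q.Normal] (hP : ¬ IsMulCommutative ↥P) (hQ : ¬ IsMulCommutative ↥Q)
    (hZP : Nat.card ↥(Subgroup.center ↥P) = 2) (hZQ : Nat.card ↥(Subgroup.center ↥Q) = 2)
    (hne : (Subgroup.center ↥P).map P.subtype ≠ (Subgroup.center ↥Q).map Q.subtype) :
    ⁅P, Q⁆ = ⊥ ∧ P ⊓ Q = ⊥ ∧ Subgroup.centralizer ((P ⊔ Q : Subgroup S) : Set S) ≤ P ⊔ Q := by
  obtain ⟨a, ha1, haP, haC, hza, hau⟩ := CfsgLib.SectionalPairs.exists_center_gen hZP
  obtain ⟨b, hb1, hbQ, hbC, hzb, hbu⟩ := CfsgLib.SectionalPairs.exists_center_gen hZQ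
  have hab : a ≠ b := fun e => hne (by rw [hza, hzb, e])
  -- a central element of order two of a normal subgroup is central
  have haS : ∀ x : S, x * a = a * x := fun x => by
    have hn : ∀ g : S, g * a * g⁻¹ ∈ P := fun g => (inferInstance : P.Normal).conj_mem a haP g
    have hc : ∀ y ∈ P, y * (x * a * x⁻¹) = x * a * x⁻¹ * y := fun y hy => by
      have h := haC (x⁻¹ * y * x⁻¹⁻¹) ((inferInstance : P.Normal).conj_mem y hy x⁻¹)
      calc y * (x * a * x⁻¹) = x * (x⁻¹ * y * x⁻¹⁻¹ * a) * x⁻¹ := by group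
        _ = x * (a * (x⁻¹ * y * x⁻¹⁻¹)) * x⁻¹ := by rw [h]
        _ = x * a * x⁻¹ * y := by group
    rcases hau _ (hn x) hc with h | h
    · exact absurd (conj_eq_one_iff.1 h) ha1
    · exact mul_inv_eq_iff_eq_mul.1 h
  have hPn : Q ≤ Subgroup.normalizer (P : Set S) := by
    rw [Subgroup.normalizer_eq_top_iff.2 inferInstance]; exact le_top
  have hQn : P ≤ Subgroup.normalizer (Q : Set S) := by
    rw [Subgroup.normalizer_eq_top_iff.2 inferInstance]; exact le_top
  obtain ⟨hd, hc⟩ := CfsgLib.SectionalPairs.pair_facts h2 hPn hQn hbC hau hbu (fun x _ => haS x) hab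
  exact ⟨Subgroup.commutator_eq_bot_iff_le_centralizer.2 hc, hd,
    CfsgLib.SectionalPairs.centralizer_sup_le h2 hr hc hd hP hQ hZP hZQ⟩

end Cfsg.Agent.S4400
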