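import Cfsg.Statements.S4401
import Cfsg.Agent.Lib.PGroup.SectionalPairs
-- import your own Cfsg.Agent.* helpers here

set_option autoImplicit false
open Cfsg

namespace Cfsg.Agent.S4401

open Subgroup CfsgLib.SectionalPairs

/-- Let S be a finite 2-group of sectional 2-rank at most 4 and P a proper non-abelian subgroup whose centre has order 2. Let S₀ be the centralizer in S of Z(P) and suppose P is normal in S₀. Then either S₀ = S, or P has sectional 2-rank at most 2 and S₀ has index 2 in S. -/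
theorem result {S : Type*} [Group S] [Finite S] (h2 : IsPGroup 2 S) (hr : Cfsg.SectionalPRankLE 2 4 S)
    (P : Subgroup S) (hPlt : P ≠ ⊤) (hP : ¬ IsMulCommutative ↥P) (hZP : Nat.card ↥(Subgroup.center ↥P) = 2)
    (S₀ : Subgroup S) (hS₀ : S₀ = Subgroup.centralizer (((Subgroup.center ↥P).map P.subtype : Subgroup S) : Set S))
    (hPn : ∀ s ∈ S₀, ∀ x ∈ P, s * x * s⁻¹ ∈ P) :
    S₀ = ⊤ ∨ (Cfsg.SectionalPRankLE 2 2 ↥P ∧ S₀.index = 2) := by
  refine or_iff_not_imp_left.2 fun hS0 => ?_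
  haveI : Fact (Nat.Prime 2) := ⟨Nat.prime_two⟩
  haveI := h2.isNilpotent
  obtain ⟨a, ha1, haP, haC, hza, hau⟩ := exists_center_gen hZP
  have hS0a : ∀ x : S, x ∈ S₀ ↔ x * a = a * x := fun x => by
    rw [hS₀, hza, zpowers_eq_closure, centralizer_closure, mem_centralizer_singleton_iff]
  have hPS0 : P ≤ S₀ := fun x hx => (hS0a x).2 (haC x hx)
  set N₁ := normalizer (S₀ : Set S) with hN₁
  have hS0N : S₀ ≤ N₁ := le_normalizer
  obtain ⟨s, hsN, hs0⟩ : ∃ s ∈ N₁, s ∉ S₀ := SetLike.not_le_iff_exists.1 fun hle =>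
    (Group.normalizerCondition_of_isNilpotent S₀ (lt_top_iff_ne_top.2 hS0)).not_ge hle
  have hnS0 : ∀ u ∈ N₁, ∀ x, x ∈ S₀ ↔ u * x * u⁻¹ ∈ S₀ := fun u hu => mem_normalizer_iff.1 hu
  set b := s * a * s⁻¹ with hb
  have hba : b ≠ a := fun e => hs0 ((hS0a s).2 (mul_inv_eq_iff_eq_mul.1 e))
  have hS0conj : ∀ u ∈ N₁, ∀ x ∈ S₀, x * (u * a * u⁻¹) = u * a * u⁻¹ * x := fun u hu x hx => by
    have h := (hS0a _).1 ((hnS0 u⁻¹ (inv_mem hu) x).1 hx)
    calc x * (u * a * u⁻¹) = u * (u⁻¹ * x * u⁻¹⁻¹ * a) * u⁻¹ := by group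
      _ = u * (a * (u⁻¹ * x * u⁻¹⁻¹)) * u⁻¹ := by rw [h]
      _ = u * a * u⁻¹ * x := by group
  set c := fun u : S => (MulAut.conj u).toMonoidHom with hc
  have hmemc : ∀ (u : S) (y : S), y ∈ P.map (c u) ↔ u⁻¹ * y * u ∈ P := fun u y => by
    constructor
    · rintro ⟨x, hx, rfl⟩
      simpa [hc, mul_assoc] using hx
    · exact fun h => ⟨_, h, by simp [hc, mul_assoc]⟩
  have hQS0 : ∀ u ∈ N₁, P.map (c u) ≤ S₀ := fun u hu y hy => by
    have := (hnS0 u hu _).1 (hPS0 ((hmemc u y).1 hy))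
    simpa [mul_assoc] using this
  have hQn : ∀ u ∈ N₁, ∀ v ∈ S₀, ∀ y ∈ P.map (c u), v * y * v⁻¹ ∈ P.map (c u) := fun u hu v hv y hy => by
    rw [hmemc] at hy ⊢
    have := hPn _ ((hnS0 u⁻¹ (inv_mem hu) v).1 hv) _ hy
    simpa [mul_assoc] using this
  have hQn' : ∀ u ∈ N₁, S₀ ≤ normalizer (P.map (c u) : Set S) := fun u hu v hv =>
    mem_normalizer_iff.2 fun y => ⟨hQn u hu v hv y, fun h => by
      have := hQn u hu v⁻¹ (inv_mem hv) _ h
      simpa [mul_assoc] using this⟩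
  have hQu : ∀ u : S, ∀ z ∈ P.map (c u), (∀ x ∈ P.map (c u), x * z = z * x) → z = 1 ∨ z = u * a * u⁻¹ := by
    intro u z hz hzc
    obtain ⟨z, hz, rfl⟩ := hz
    rcases hau z hz fun x hx => (MulAut.conj u).injective (by
      have := hzc _ (mem_map_of_mem _ hx)
      simpa [hc] using this) with h | h
    · exact Or.inl (by rw [h, map_one])
    · exact Or.inr (by simp [h, hc])
  have hpair : ∀ u ∈ N₁, ∀ v ∈ N₁, u * a * u⁻¹ ≠ v * a * v⁻¹ →
      P.map (c u) ⊓ P.map (c v) = ⊥ ∧ P.map (c u) ≤ centralizer (P.map (c v) : Set S) := fun u hu v hv hne =>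
    pair_facts h2 ((hQS0 v hv).trans (hQn' u hu)) ((hQS0 u hu).trans (hQn' v hv))
      (fun x hx => hS0conj v hv x (hQS0 v hv hx)) (hQu u) (hQu v) (fun x hx => hS0conj u hu x (hQS0 v hv hx)) hne
  have hP1 : P.map (c 1) = P := by ext y; simp [hmemc]
  set Q := P.map (c s) with hQ
  obtain ⟨hd, hPQ⟩ : P ⊓ Q = ⊥ ∧ P ≤ centralizer (Q : Set S) := by
    have := hpair 1 (one_mem _) s hsN (by simpa using hba.symm)
    rwa [hP1] at this
  have hQiso : ∀ u : S, ↥P ≃* ↥(P.map (c u)) := fun u => P.equivMapOfInjective _ (MulAut.conj u).injective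
  have hQna : ∀ u : S, ¬ IsMulCommutative ↥(P.map (c u)) := fun u h => hP ⟨⟨fun x y => (hQiso u).injective (by
    rw [map_mul, map_mul]; exact h.is_comm.comm _ _)⟩⟩
  have hZQ : Nat.card ↥(center ↥Q) = 2 := by
    rw [← hZP]
    exact (Nat.card_congr (Subgroup.centerCongr (hQiso s)).toEquiv).symm
  have hC := centralizer_sup_le h2 hr hPQ hd hP (hQna s) hZP hZQ
  -- two conjugates only
  have horb : ∀ u ∈ N₁, u * a * u⁻¹ = a ∨ u * a * u⁻¹ = b := by
    intro u hu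
    by_contra hne
    rw [not_or] at hne
    have h1 := (hpair u hu 1 (one_mem _) (by simpa using hne.1)).2
    have h3 := (hpair u hu s hsN hne.2).2
    rw [hP1] at h1
    have hle : P.map (c u) ≤ centralizer ((P ⊔ Q : Subgroup S) : Set S) :=
      le_centralizer_iff.1 (sup_le (le_centralizer_iff.1 h1) (le_centralizer_iff.1 h3))
    exact hQna u ⟨⟨fun x y => Subtype.ext (mem_centralizer_iff.1 (hle y.2) x (hC (hle x.2)))⟩⟩
  have hrep : ∀ u ∈ N₁, u ∉ S₀ → u * a * u⁻¹ = b ∧ s⁻¹ * u ∈ S₀ := fun u hu hu0 => by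
    rcases horb u hu with h | h
    · exact absurd ((hS0a u).2 (mul_inv_eq_iff_eq_mul.1 h)) hu0
    · refine ⟨h, (hS0a _).2 (mul_inv_eq_iff_eq_mul.1 ?_)⟩
      rw [show s⁻¹ * u * a * (s⁻¹ * u)⁻¹ = s⁻¹ * (u * a * u⁻¹) * s by group, h, hb]
      group
  have hidx : (S₀.subgroupOf N₁).index = 2 := by
    rw [index_eq_two_iff]
    refine ⟨⟨s⁻¹, inv_mem hsN⟩, fun u => ?_⟩
    simp only [mem_subgroupOf, Subgroup.coe_mul]
    by_cases hu0 : (u : S) ∈ S₀
    · refine Or.inr ⟨hu0, fun h => hs0 ?_⟩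
      rwa [mul_mem_cancel_left hu0, inv_mem_iff] at h
    · refine Or.inl ⟨?_, hu0⟩
      have h1 := (hnS0 s hsN _).1 ((hrep u u.2 hu0).2)
      simpa [mul_assoc] using h1
  have hcardN : Nat.card N₁ = 2 * Nat.card S₀ := by
    rw [← (S₀.subgroupOf N₁).card_mul_index, hidx, Nat.card_congr (subgroupOfEquivOfLe hS0N).toEquiv, mul_comm]
  refine ⟨sectional_two hr hPQ hd, ?_⟩
  suffices hN : N₁ = ⊤ by
    have h1 := S₀.card_mul_index
    rw [← Subgroup.card_top (G := S), ← hN, hcardN, mul_comm 2] at h1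
    exact Nat.eq_of_mul_eq_mul_left Nat.card_pos h1
  by_contra hN
  obtain ⟨v, hvN, hv1⟩ : ∃ v ∈ normalizer (N₁ : Set S), v ∉ N₁ := SetLike.not_le_iff_exists.1 fun hle =>
    (Group.normalizerCondition_of_isNilpotent N₁ (lt_top_iff_ne_top.2 hN)).not_ge hle
  set T := S₀.map (c v) with hT
  have hTN : T ≤ N₁ := by
    rintro _ ⟨x, hx, rfl⟩
    exact (mem_normalizer_iff.1 hvN x).1 (hS0N hx)
  set a' := v * a * v⁻¹ with ha'
  have hT' : ∀ x, x ∈ T → x * a' = a' * x := by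
    rintro _ ⟨x, hx, rfl⟩
    show v * x * v⁻¹ * (v * a * v⁻¹) = v * a * v⁻¹ * (v * x * v⁻¹)
    rw [show v * x * v⁻¹ * (v * a * v⁻¹) = v * (x * a) * v⁻¹ by group, (hS0a x).1 hx]
    group
  have hTa : ∀ x, x * a' = a' * x → x ∈ T := fun x hx => by
    refine ⟨v⁻¹ * x * v, (hS0a _).2 ?_, by simp [hc, mul_assoc]⟩
    calc v⁻¹ * x * v * a = v⁻¹ * (x * a') * v := by rw [ha']; group
      _ = v⁻¹ * (a' * x) * v := by rw [hx]
      _ = a * (v⁻¹ * x * v) := by rw [ha']; group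
  have hcardT : Nat.card T = Nat.card S₀ := card_map_of_injective (MulAut.conj v).injective
  obtain ⟨t, htT, ht0⟩ : ∃ t ∈ T, t ∉ S₀ := SetLike.not_le_iff_exists.1 fun hle => hv1 (by
    have e : T = S₀ := Subgroup.eq_of_le_of_card_ge hle hcardT.ge
    refine mem_normalizer_iff.2 fun x => ⟨fun hx => e ▸ mem_map_of_mem (c v) hx, fun hx => ?_⟩
    obtain ⟨y, hy, hy'⟩ := (e.symm ▸ hx : v * x * v⁻¹ ∈ T)
    rwa [← (MulAut.conj v).injective (show MulAut.conj v y = MulAut.conj v x from hy')])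
  have hTidx : (T.subgroupOf N₁).index = 2 := by
    have h1 := (T.subgroupOf N₁).card_mul_index
    rw [Nat.card_congr (subgroupOfEquivOfLe hTN).toEquiv, hcardN, hcardT, mul_comm 2] at h1
    exact Nat.eq_of_mul_eq_mul_left Nat.card_pos h1
  have hmem2 : ∀ x ∈ N₁, ∀ y ∈ N₁, (x * y ∈ T ↔ (x ∈ T ↔ y ∈ T)) := fun x hx y hy =>
    mul_mem_iff_of_index_two (H := T.subgroupOf N₁) hTidx (a := ⟨x, hx⟩) (b := ⟨y, hy⟩)
  -- elements outside `S₀` swap `P` and `Q`
  have hswap : ∀ u ∈ N₁, u ∉ S₀ → ∀ x ∈ P, u * x * u⁻¹ ∈ Q := fun u hu hu0 x hx => by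
    rw [hQ, hmemc]
    have := hPn _ (hrep u hu hu0).2 x hx
    simpa [mul_assoc] using this
  have haN : a' ∈ N₁ := hTN (mem_map_of_mem (c v) (hPS0 haP))
  have haS0 : a' ∈ S₀ := by
    by_contra h0
    have h1 : ∀ x ∈ P, x ∈ T → x = 1 := fun x hx hxT => by
      have hxQ := hswap a' haN h0 x hx
      rw [← hT' x hxT, mul_inv_cancel_right] at hxQ
      exact mem_bot.1 (hd.le ⟨hx, hxQ⟩)
    refine hP ⟨⟨fun x y => ?_⟩⟩
    rcases eq_or_ne (x : S) 1 with hx1 | hx1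
    · exact Subtype.ext (by simp [hx1])
    rcases eq_or_ne (y : S) 1 with hy1 | hy1
    · exact Subtype.ext (by simp [hy1])
    have hxN := hS0N (hPS0 x.2)
    have hyN := hS0N (hPS0 y.2)
    have h3 : (x : S)⁻¹ * y ∈ T := (hmem2 _ (inv_mem hxN) _ hyN).2
      (iff_of_false (fun h => hx1 (h1 _ x.2 (inv_mem_iff.1 h))) (fun h => hy1 (h1 _ y.2 h)))
    have hxy : x = y := Subtype.ext (inv_mul_eq_one.1 (h1 _ (mul_mem (inv_mem x.2) y.2) h3))
    rw [hxy]
  have hcentP : ∀ x ∈ P, x * a' = a' * x := fun x hx => by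
    have htN := hTN htT
    have hy : t * x * t⁻¹ ∈ Q := hswap t htN ht0 x hx
    have hw : x * (t * x * t⁻¹) ∈ T := by
      refine (hmem2 _ (hS0N (hPS0 hx)) _ (mul_mem (mul_mem htN (hS0N (hPS0 hx))) (inv_mem htN))).2 ?_
      exact ⟨fun h => mul_mem (mul_mem htT h) (inv_mem htT), fun h => by
        have := mul_mem (mul_mem (inv_mem htT) h) htT
        simpa [mul_assoc] using this⟩
    have h3 := hT' _ hw
    have e : a' * x * a'⁻¹ * (a' * (t * x * t⁻¹) * a'⁻¹) = x * (t * x * t⁻¹) := by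
      rw [show a' * x * a'⁻¹ * (a' * (t * x * t⁻¹) * a'⁻¹) = a' * (x * (t * x * t⁻¹)) * a'⁻¹ by group,
        ← h3, mul_inv_cancel_right]
    have h4 : (⟨_, hPn a' haS0 x hx⟩ : P) = ⟨x, hx⟩ := congrArg Prod.fst
      (mul_injective_of_disjoint (disjoint_iff.2 hd)
        (a₁ := ((⟨_, hPn a' haS0 x hx⟩ : P), (⟨_, hQn s hsN a' haS0 _ hy⟩ : Q)))
        (a₂ := ((⟨x, hx⟩ : P), (⟨_, hy⟩ : Q))) e)
    exact (mul_inv_eq_iff_eq_mul.1 (congrArg Subtype.val h4)).symm
  have hcentQ : ∀ y ∈ Q, y * a' = a' * y := fun y hy => by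
    have htN := hTN htT
    have hx : t⁻¹ * y * t ∈ P := by
      have h1 := (hrep t htN ht0).2
      have h5 := hPn _ (inv_mem h1) _ ((hmemc s y).1 hy)
      simpa [mul_assoc] using h5
    have h6 := hcentP _ hx
    have ht' := hT' t htT
    calc y * a' = t * (t⁻¹ * y * t) * (t⁻¹ * a') := by group
      _ = t * (t⁻¹ * y * t) * (a' * t⁻¹) := by
          rw [((show Commute t a' from ht').inv_left).eq]
      _ = t * (t⁻¹ * y * t * a') * t⁻¹ := by group
      _ = t * (a' * (t⁻¹ * y * t)) * t⁻¹ := by rw [h6]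
      _ = t * a' * t⁻¹ * y := by group
      _ = a' * y := by rw [ht', mul_inv_cancel_right]
  have hcW : a' ∈ centralizer ((P ⊔ Q : Subgroup S) : Set S) := by
    have hh : P ⊔ Q ≤ centralizer ({a'} : Set S) := sup_le
      (fun x hx => mem_centralizer_singleton_iff.2 (hcentP x hx))
      (fun y hy => mem_centralizer_singleton_iff.2 (hcentQ y hy))
    exact mem_centralizer_iff.2 fun z hz => mem_centralizer_singleton_iff.1 (hh hz)
  obtain ⟨x, hx, y, hy, e⟩ := exists_mul_of_mem_sup hPQ (hC hcW)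
  have hxy : ∀ w ∈ P ⊔ Q, w * (x * y) = x * y * w := fun w hw => e.symm ▸ mem_centralizer_iff.1 hcW w hw
  have hxc : ∀ w ∈ P, w * x = x * w := fun w hw => by
    have h1 := hxy w (mem_sup_left hw)
    rw [← mul_assoc, mul_assoc x y, ← commute_of_le_centralizer hPQ hw hy, ← mul_assoc] at h1
    exact mul_right_cancel h1
  have hyc : ∀ w ∈ Q, w * y = y * w := fun w hw => by
    have h1 := hxy w (mem_sup_right hw)
    rw [← mul_assoc, ← commute_of_le_centralizer hPQ hx hw, mul_assoc, mul_assoc] at h1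
    exact mul_left_cancel h1
  have hTne : T ≠ S₀ := fun h => ht0 (h ▸ htT)
  have hsub : ∀ z : S, z = a' → (∀ w ∈ S₀, w * z = z * w) → False := fun z hz hzc =>
    hTne (Subgroup.eq_of_le_of_card_ge (fun w hw => hTa w (hz ▸ hzc w hw)) hcardT.le).symm
  rcases hau x hx hxc with rfl | hxa <;> rcases hQu s y hy hyc with rfl | hyb
  · exact ha1 (conj_eq_one_iff.1 (e.symm.trans (one_mul 1)))
  · exact hsub b (by rw [← e, hyb, one_mul]) fun w hw => hS0conj s hsN w hw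
  · exact hsub a (by rw [← e, hxa, mul_one]) fun w hw => (hS0a w).1 hw
  · -- `a'` would be central in `N₁`
    have hsb : s * b * s⁻¹ = a := by
      rcases horb (s * s) (mul_mem hsN hsN) with h | h
      · rwa [hb, show s * (s * a * s⁻¹) * s⁻¹ = s * s * a * (s * s)⁻¹ by group]
      · exfalso
        rw [hb, show s * s * a * (s * s)⁻¹ = s * (s * a * s⁻¹) * s⁻¹ by group] at h
        exact hba (by simpa [hb] using mul_left_cancel (mul_right_cancel h))
    have hab' : a * b = b * a := hS0conj s hsN a (hPS0 haP)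
    have hall : ∀ w ∈ N₁, w ∈ T := fun w hw => hTa w (by
      rw [← e, hxa, hyb, ← hb]
      by_cases hw0 : w ∈ S₀
      · rw [← mul_assoc, (hS0a w).1 hw0, mul_assoc, hS0conj s hsN w hw0, ← mul_assoc]
      · obtain ⟨h, hh⟩ : ∃ h ∈ S₀, w = s * h := ⟨s⁻¹ * w, (hrep w hw hw0).2, by group⟩
        rw [hh.2]
        have e1 : h * (a * b) = a * b * h := by
          rw [← mul_assoc, (hS0a h).1 hh.1, mul_assoc, hS0conj s hsN h hh.1, ← mul_assoc]
        have e2 : s * (a * b) = a * b * s := by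
          refine mul_inv_eq_iff_eq_mul.1 ?_
          rw [show s * (a * b) * s⁻¹ = s * a * s⁻¹ * (s * b * s⁻¹) by group, hsb, ← hb, hab']
        rw [mul_assoc s, e1, ← mul_assoc, e2, mul_assoc])
    have := card_le_of_le (show N₁ ≤ T from hall)
    have h0 : 0 < Nat.card S₀ := Nat.card_pos
    omega

end Cfsg.Agent.S4401
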