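import Cfsg.Statements.S4402
import Cfsg.Agent.Lib.PGroup.SectFourWreath.Main

set_option autoImplicit false
open Cfsg

namespace Cfsg.Agent.S4402

/-- Let S be a finite 2-group of sectional 2-rank at most 4 and P a proper subgroup isomorphic to the wreath product of the dihedral group of order 8 by a group of order 2 (equivalently, to a Sylow 2-subgroup of the symmetric group of degree 8; order 128). Then Z(S) = Z(P) has order 2, P has index 2 in its normalizer N_S(P), N_S(P)/Z(S) is again isomorphic to that wreath product, and every elementary abelian subgroup V of order 16 that is normal in P satisfies N_S(V) = P. -/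
theorem result {S : Type*} [Group S] [Finite S] (h2 : IsPGroup 2 S) (hr : Cfsg.SectionalPRankLE 2 4 S)
    (P : Subgroup S) (hPlt : P ≠ ⊤) (hP : ∃ T : Sylow 2 (Equiv.Perm (Fin 8)), Nonempty (↥P ≃* ↥(T : Subgroup (Equiv.Perm (Fin 8))))) :
    Subgroup.center S = (Subgroup.center ↥P).map P.subtype ∧ Nat.card ↥(Subgroup.center S) = 2 ∧
    P.relIndex (Subgroup.normalizer (P : Set S)) = 2 ∧
    (∃ (_ : ((Subgroup.center S).subgroupOf (Subgroup.normalizer (P : Set S))).Normal) (T : Sylow 2 (Equiv.Perm (Fin 8))),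
      Nonempty (↥(Subgroup.normalizer (P : Set S)) ⧸ (Subgroup.center S).subgroupOf (Subgroup.normalizer (P : Set S)) ≃*
        ↥(T : Subgroup (Equiv.Perm (Fin 8))))) ∧
    ∀ V : Subgroup S, V ≤ P → (∀ g ∈ P, ∀ v ∈ V, g * v * g⁻¹ ∈ V) → Cfsg.IsElementaryAbelian 2 V → Nat.card ↥V = 16 →
      Subgroup.normalizer (V : Set S) = P := by
  obtain ⟨T, ⟨e⟩⟩ := hP
  obtain ⟨f⟩ := CfsgLib.PGroup.SectFourWreath.sylow_equiv T
  let ψ : CfsgLib.PGroup.SectFourWreath.W →* S := P.subtype.comp (f.trans e.symm).toMonoidHom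
  have F : CfsgLib.PGroup.SectFourWreath.Frame P ψ :=
    ⟨P.subtype_injective.comp (f.trans e.symm).injective, by
      refine le_antisymm ?_ fun x hx => ⟨(f.trans e.symm).symm ⟨x, hx⟩, ?_⟩
      · rintro _ ⟨w, rfl⟩
        exact ((f.trans e.symm) w).2
      · exact congrArg Subtype.val ((f.trans e.symm).apply_symm_apply ⟨x, hx⟩), h2, hr⟩
  refine ⟨F.center_eq, F.card_center, F.relIndex_normalizer hPlt, ?_,
    fun V hV hn hel h16 => F.normalizer_sixteen hV hn hel.1 hel.2 h16⟩
  haveI : ((Subgroup.center S).subgroupOf (Subgroup.normalizer (P : Set S))).Normal :=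
    inferInstance
  obtain ⟨q⟩ := F.quotient_equiv hPlt
  exact ⟨inferInstance, T, ⟨q.symm.trans f⟩⟩

end Cfsg.Agent.S4402
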