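import Cfsg.Statements.S4403
import Mathlib
import Cfsg.Agent.Lib.Coprime.Component
import Cfsg.Agent.Lib.Coprime.PComponent
import Cfsg.Agent.Lib.Coprime.Core
import Cfsg.Agent.Lib.PGroup.CyclicSylowTools
import Cfsg.Agent.Lib.Fusion.Abelian

set_option autoImplicit false
open Cfsg

namespace Cfsg.Agent.S4403

open Subgroup
open scoped commutatorElement

section
variable {K : Type*} [Group K] [Finite K] {p : ℕ} [hp : Fact p.Prime]

theorem isPGroup_zpowers_of_pow {x : K} {k : ℕ} (h : x ^ p ^ k = 1) : IsPGroup p (zpowers x) := by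
  intro y
  obtain ⟨i, hi⟩ := mem_zpowers_iff.1 y.2
  refine ⟨k, Subtype.ext ?_⟩
  show (y : K) ^ p ^ k = 1
  rw [← hi, ← zpow_natCast, ← zpow_mul, mul_comm, zpow_mul, zpow_natCast, h, one_zpow]

/-- Commuting elements of order `p` generate the same subgroup when a Sylow `p`-subgroup is cyclic. -/
theorem zpowers_eq_of_commute (P : Sylow p K) (hP : IsCyclic ↥(P : Subgroup K)) {x y : K} (hx : orderOf x = p)
    (hy : orderOf y = p) (h : Commute x y) : zpowers x = zpowers y := by
  have hA : IsPGroup p ↥(zpowers x ⊔ zpowers y) := by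
    refine IsPGroup.to_sup_of_normal_left' (IsPGroup.of_card (n := 1) (by rw [Nat.card_zpowers, hx, pow_one]))
      (IsPGroup.of_card (n := 1) (by rw [Nat.card_zpowers, hy, pow_one])) ?_
    rw [zpowers_le]
    exact centralizer_le_normalizer _ (mem_centralizer_iff.2 fun z hz => by
      obtain ⟨i, rfl⟩ := mem_zpowers_iff.1 hz
      exact (h.zpow_left i).eq)
  obtain ⟨R, hR⟩ := hA.exists_le_sylow
  haveI := CfsgLib.PGroup.CSylow.isCyclic_sylow P R hP
  have hx' : zpowers x ≤ (R : Subgroup K) := le_sup_left.trans hR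
  have hy' : zpowers y ≤ (R : Subgroup K) := le_sup_right.trans hR
  have h1 : (zpowers x).subgroupOf (R : Subgroup K) = (zpowers y).subgroupOf (R : Subgroup K) := by
    letI := IsCyclic.commGroup (α := ↥(R : Subgroup K))
    have key : ∀ z : K, orderOf z = p → zpowers z ≤ (R : Subgroup K) →
        (zpowers z).subgroupOf (R : Subgroup K) = (powMonoidHom p : ↥(R : Subgroup K) →* ↥(R : Subgroup K)).ker := by
      intro z hz hzR
      refine Subgroup.eq_of_le_of_card_ge (fun w hw => ?_) ?_
      · rw [MonoidHom.mem_ker, powMonoidHom_apply]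
        obtain ⟨i, hi⟩ := mem_zpowers_iff.1 (mem_subgroupOf.1 hw)
        refine Subtype.ext ?_
        rw [SubmonoidClass.coe_pow, ← hi, ← zpow_natCast, zpow_comm, zpow_natCast, orderOf_dvd_iff_pow_eq_one.1 hz.dvd, one_zpow]
        rfl
      · rw [IsCyclic.card_powMonoidHom_ker, Nat.card_congr (subgroupOfEquivOfLe hzR).toEquiv, Nat.card_zpowers, hz]
        exact Nat.le_of_dvd hp.out.pos (Nat.gcd_dvd_right _ _)
    rw [key x hx hx', key y hy hy']
  have h2 := congrArg (Subgroup.map (R : Subgroup K).subtype) h1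
  rwa [map_subgroupOf_eq_of_le hx', map_subgroupOf_eq_of_le hy'] at h2

theorem exists_order_p {H : Subgroup K} (h : p ∣ Nat.card H) : ∃ x ∈ H, orderOf x = p := by
  obtain ⟨x, hx⟩ := exists_prime_orderOf_dvd_card' p h
  exact ⟨x, x.2, by rw [← hx, orderOf_submonoid]⟩

theorem normal_case (hp' : p ∣ Nat.card K) (hO : Cfsg.pPrimeCore p K = ⊥) (P : Sylow p K) (hP : IsCyclic ↥(P : Subgroup K))
    (hL : Cfsg.layer K = ⊥) :
    (P : Subgroup K).Normal ∧ centralizer ((P : Subgroup K) : Set K) = (P : Subgroup K) ∧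
      (∀ (_ : (P : Subgroup K).Normal), IsCyclic (K ⧸ (P : Subgroup K))) ∧ (P : Subgroup K).index ∣ p - 1 := by
  have hF : Cfsg.fittingSubgroup K ≤ (P : Subgroup K) := by
    rw [CfsgLib.Coprime.fitting_eq_iSup_pCore]
    refine iSup_le fun q => ?_
    haveI : Fact (q : ℕ).Prime := ⟨q.2⟩
    haveI := CfsgLib.Coprime.pCore_normal' (G := K) (q : ℕ)
    by_cases hq : (q : ℕ) = p
    · exact IsPGroup.le_sylow_of_normal (by have := CfsgLib.Coprime.pCore_isPGroup (G := K) (q : ℕ); rw [hq] at this ⊢; exact this) P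
    · refine (CfsgLib.Coprime.le_pPrimeCore_of_not_dvd hp.out ?_).trans (hO ▸ bot_le)
      intro hd
      obtain ⟨k, hk⟩ := (CfsgLib.Coprime.pCore_isPGroup (G := K) (q : ℕ)).exists_card_eq
      rw [hk] at hd
      exact hq ((Nat.prime_dvd_prime_iff_eq hp.out q.2).1 (hp.out.dvd_of_dvd_pow hd)).symm
  have hPC : (P : Subgroup K) ≤ centralizer ((P : Subgroup K) : Set K) := fun a ha =>
    mem_centralizer_iff.2 fun b hb => CfsgLib.PGroup.CSylow.commute_of_mem P hP hb ha
  have hC := CfsgLib.Coprime.centralizer_fitting_le_of_layer_eq_bot hL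
  have hPF : (P : Subgroup K) = Cfsg.fittingSubgroup K :=
    le_antisymm ((hPC.trans (centralizer_le hF)).trans hC) hF
  haveI hn : (P : Subgroup K).Normal := hPF ▸ CfsgLib.Coprime.fitting_normal
  have hCP : centralizer ((P : Subgroup K) : Set K) = (P : Subgroup K) :=
    le_antisymm ((centralizer_le hF).trans (hPF ▸ hC)) hPC
  -- action on the cyclic group
  haveI : IsCyclic ↥(P : Subgroup K) := hP
  have hpP : p ∣ Nat.card (P : Subgroup K) := P.dvd_card_of_dvd_card hp'
  obtain ⟨y, hyP, hyp⟩ := exists_order_p hpP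
  have hYP : zpowers y ≤ (P : Subgroup K) := zpowers_le.2 hyP
  haveI hYn : (zpowers y).Normal := by
    refine ⟨fun z hz g => ?_⟩
    have h1 : orderOf (g * y * g⁻¹) = p := by rw [← hyp]; exact (MulAut.conj g).orderOf_eq y
    have h2 := zpowers_eq_of_commute P hP h1 hyp (CfsgLib.PGroup.CSylow.commute_of_mem P hP (hn.conj_mem y hyP g) hyP)
    obtain ⟨i, rfl⟩ := mem_zpowers_iff.1 hz
    rw [show g * y ^ i * g⁻¹ = (g * y * g⁻¹) ^ i from map_zpow (MulAut.conj g) y i]
    exact h2 ▸ zpow_mem_zpowers _ _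
  let θ : K →* MulAut ↥(zpowers y) := MulAut.conjNormal
  have hker : θ.ker = (P : Subgroup K) := by
    refine le_antisymm (fun g hg => ?_) (fun g hg => ?_)
    · refine CfsgLib.PGroup.CSylow.mem_of_parts (p := p) (fun j hj => ?_) (fun j hj => ?_)
      · have hgn : g ^ j ∈ normalizer ((P : Subgroup K) : Set K) := by
          rw [normalizer_eq_top]; trivial
        refine hCP.le (CfsgLib.PGroup.CSylow.mem_centralizer_of_commute P hP hgn hj hyP ?_ ?_)
        · intro h; rw [h, orderOf_one] at hyp; exact hp.out.ne_one hyp.symm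
        · have h1 : θ (g ^ j) = 1 := by rw [map_pow, MonoidHom.mem_ker.1 hg, one_pow]
          have h2 := congrArg (fun f : MulAut ↥(zpowers y) => ((f ⟨y, mem_zpowers y⟩ : ↥(zpowers y)) : K)) h1
          simp only [θ, MulAut.conjNormal_apply, MulAut.one_apply] at h2
          exact mul_inv_eq_iff_eq_mul.1 h2
      · refine CfsgLib.PGroup.CSylow.mem_sylow_of_mem_normalizer P hj ?_
        rw [normalizer_eq_top]; trivial
    · rw [MonoidHom.mem_ker]
      ext a
      rw [MulAut.conjNormal_apply, MulAut.one_apply,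
        CfsgLib.PGroup.CSylow.commute_of_mem P hP hg (hYP a.2), mul_inv_cancel_right]
  haveI : IsCyclic (MulAut ↥(zpowers y)) := by
    have e1 := IsCyclic.mulAutMulEquiv ↥(zpowers y)
    rw [Nat.card_zpowers, hyp] at e1
    exact isCyclic_of_surjective e1.symm e1.symm.surjective
  have e : K ⧸ (P : Subgroup K) ≃* θ.range :=
    (QuotientGroup.quotientMulEquivOfEq hker.symm).trans (QuotientGroup.quotientKerEquivRange θ)
  refine ⟨hn, hCP, fun _ => isCyclic_of_surjective e.symm e.symm.surjective, ?_⟩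
  rw [Subgroup.index_eq_card, Nat.card_congr e.toEquiv]
  refine (card_subgroup_dvd_card _).trans (dvd_of_eq ?_)
  rw [IsCyclic.card_mulAut, Nat.card_zpowers, hyp, Nat.totient_prime hp.out]

theorem component_case (hO : Cfsg.pPrimeCore p K = ⊥) (P : Sylow p K) (hP : IsCyclic ↥(P : Subgroup K)) {L : Subgroup K}
    (hL : Cfsg.IsComponent L) :
    IsSimpleGroup ↥(Cfsg.generalizedFittingSubgroup K) ∧ ¬ IsMulCommutative ↥(Cfsg.generalizedFittingSubgroup K) ∧
      ¬ p ∣ (Cfsg.generalizedFittingSubgroup K).index := by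
  -- no element of order `p` of a component is central in it
  have hnc : ∀ M : Subgroup K, Cfsg.IsComponent M → ∀ x ∈ M, orderOf x = p → ¬ ∀ y ∈ M, y * x = x * y := by
    intro M hM x hx hxp hc
    haveI := hM.2.1
    obtain ⟨S, hS⟩ := (IsPGroup.of_card (p := p) (n := 1) (G := ↥(zpowers (⟨x, hx⟩ : M)))
      (by rw [Nat.card_zpowers, orderOf_mk, hxp, pow_one])).exists_le_sylow
    haveI := CfsgLib.PGroup.CSylow.isCyclic_sylow_subgroup P hP S
    haveI : IsMulCommutative ↥(S : Subgroup M) := by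
      letI := IsCyclic.commGroup (α := ↥(S : Subgroup M))
      exact ⟨⟨mul_comm⟩⟩
    have := CfsgLib.Fusion.central_inf_commutator_eq_one (S : Subgroup M) S.card_coprime_index
      (x := ⟨x, hx⟩) (mem_center_iff.2 fun y => Subtype.ext (hc y y.2))
      ((Group.IsPerfect.commutator_eq_top (G := M)).symm ▸ mem_top _) (hS (mem_zpowers _))
    have h1 : x = 1 := congrArg Subtype.val this
    rw [h1, orderOf_one] at hxp
    exact hp.out.ne_one hxp.symm
  have hdvd := fun (M : Subgroup K) (hM : Cfsg.IsComponent M) => CfsgLib.Coprime.dvd_card_of_isComponent (p := p) hO hM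
  obtain ⟨x, hxL, hxp⟩ := exists_order_p (hdvd L hL)
  have huniq : ∀ M : Subgroup K, Cfsg.IsComponent M → M = L := by
    intro M hM
    by_contra hne
    have hc := CfsgLib.Coprime.commutator_eq_bot_iff_forall.1 (CfsgLib.Coprime.components_commute hM hL hne)
    obtain ⟨y, hyM, hyp⟩ := exists_order_p (hdvd M hM)
    have hz := zpowers_eq_of_commute P hP hyp hxp (hc y hyM x hxL)
    exact hnc L hL x hxL hxp fun z hz' => by
      have hxM : x ∈ M := (zpowers_le.2 hyM) (hz ▸ mem_zpowers x)
      exact (hc x hxM z hz').symm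
  have hlayer : Cfsg.layer K = L :=
    le_antisymm (sSup_le fun M hM => (huniq M hM).le) (CfsgLib.Coprime.component_le_layer hL)
  haveI hLn : L.Normal := hlayer ▸ CfsgLib.Coprime.layer_normal
  have hF : Cfsg.fittingSubgroup K = ⊥ := by
    by_contra hne
    haveI := CfsgLib.Coprime.fitting_normal (G := K)
    have hpd : p ∣ Nat.card ↥(Cfsg.fittingSubgroup K) := by
      by_contra hd
      exact hne (le_bot_iff.1 ((CfsgLib.Coprime.le_pPrimeCore_of_not_dvd hp.out hd).trans hO.le))
    obtain ⟨z, hzF, hzp⟩ := exists_order_p hpd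
    have hcomm : ∀ l ∈ L, z * l = l * z := fun l hl =>
      (mem_centralizer_iff.1 (CfsgLib.Coprime.fitting_le_centralizer_layer hzF) l (hlayer ▸ hl)).symm
    have hz := zpowers_eq_of_commute P hP hzp hxp (hcomm x hxL)
    refine hnc L hL x hxL hxp fun l hl => ?_
    obtain ⟨i, hi⟩ := mem_zpowers_iff.1 (hz ▸ mem_zpowers x : x ∈ zpowers z)
    rw [← hi]
    exact (((show Commute z l from hcomm l hl).zpow_left i).eq).symm
  have hgf : Cfsg.generalizedFittingSubgroup K = L := by
    rw [Cfsg.generalizedFittingSubgroup, hF, hlayer, sup_bot_eq]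
  rw [hgf]
  have hZ : center ↥L = ⊥ := by
    rw [← Subgroup.map_eq_bot_iff_of_injective _ L.subtype_injective, ← le_bot_iff, ← hF]
    refine le_trans ?_ CfsgLib.Coprime.layer_inf_centralizer_layer_le_fitting
    rw [hlayer]
    rintro _ ⟨z, hz, rfl⟩
    exact ⟨z.2, mem_centralizer_iff.2 fun l hl => congrArg Subtype.val (mem_center_iff.1 hz ⟨l, hl⟩)⟩
  haveI hsimp : IsSimpleGroup ↥L := by
    haveI := hL.2.2
    exact ((QuotientGroup.quotientMulEquivOfEq hZ).trans QuotientGroup.quotientBot).isSimpleGroup_congr.1 inferInstance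
  have hna : ¬ IsMulCommutative ↥L := fun h => CfsgLib.Coprime.not_isSolvable_of_isComponent hL
    (Group.isSolvable_of_comm fun a b => h.is_comm.comm a b)
  refine ⟨hsimp, hna, ?_⟩
  suffices hPL : (P : Subgroup K) ≤ L by
    intro hd
    exact P.not_dvd_index (hd.trans (index_dvd_of_le hPL))
  -- Burnside transfer inside `L ⊔ P`
  obtain ⟨X, hX⟩ : ∃ X, X = L ⊔ (P : Subgroup K) := ⟨_, rfl⟩
  have hLX : L ≤ X := hX ▸ le_sup_left
  have hPX : (P : Subgroup K) ≤ X := hX ▸ le_sup_right
  let PX : Sylow p X := P.subtype hPX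
  have hPXc : IsCyclic ↥(PX : Subgroup X) := CfsgLib.PGroup.CSylow.isCyclic_sylow_subgroup P hP PX
  haveI hLXn : (L.subgroupOf X).Normal := inferInstance
  have hXd : commutator ↥X ≤ L.subgroupOf X := by
    have hgenX : X ≤ L ⊔ (P : Subgroup K) := hX.le
    rw [_root_.commutator_def, commutator_le]
    intro a _ b _
    obtain ⟨la, hla, pa, hpa, ha⟩ := Subgroup.mem_sup_of_normal_left.1 (hgenX a.2)
    obtain ⟨lb, hlb, pb, hpb, hb⟩ := Subgroup.mem_sup_of_normal_left.1 (hgenX b.2)
    rw [mem_subgroupOf, ← QuotientGroup.eq_one_iff]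
    have hla' := (QuotientGroup.eq_one_iff (N := L) la).2 hla
    have hlb' := (QuotientGroup.eq_one_iff (N := L) lb).2 hlb
    show (QuotientGroup.mk' L) ((⁅a, b⁆ : X) : K) = 1
    rw [← Subgroup.subtype_apply, map_commutatorElement, map_commutatorElement, commutatorElement_eq_one_iff_mul_comm,
      Subgroup.subtype_apply, Subgroup.subtype_apply, ← ha, ← hb, map_mul, map_mul]
    rw [show QuotientGroup.mk' L la = 1 from hla', show QuotientGroup.mk' L lb = 1 from hlb', one_mul, one_mul,
      ← map_mul, ← map_mul, CfsgLib.PGroup.CSylow.commute_of_mem P hP hpa hpb]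
  have hNC : ¬ normalizer ((PX : Subgroup X) : Set X) ≤ centralizer ((PX : Subgroup X) : Set X) := by
    intro hle
    have hcompl := MonoidHom.ker_transferSylow_isComplement' PX hle
    generalize hM : (MonoidHom.transferSylow PX hle).ker = M at hcompl
    haveI : M.Normal := hM ▸ inferInstance
    have hMp : ¬ p ∣ Nat.card M := by
      rw [← hcompl.index_eq_card]
      exact PX.not_dvd_index
    haveI := hsimp
    have hn : ((M.map X.subtype).subgroupOf L).Normal := by
      refine ⟨fun z hz g => ?_⟩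
      rw [mem_subgroupOf] at hz ⊢
      obtain ⟨w, hw, hwz⟩ := mem_map.1 hz
      exact ⟨⟨(g : K), hLX g.2⟩ * w * ⟨(g : K), hLX g.2⟩⁻¹, Subgroup.Normal.conj_mem ‹M.Normal› w hw _, by
        simp only [map_mul, map_inv, Subgroup.subtype_apply] at hwz ⊢
        rw [hwz]; rfl⟩
    rcases hn.eq_bot_or_eq_top with h0 | h0
    · -- `L` embeds in an abelian group
      refine hna ⟨⟨fun a b => ?_⟩⟩
      have hc : (MonoidHom.transferSylow PX hle) (Subgroup.inclusion hLX a) * (MonoidHom.transferSylow PX hle) (Subgroup.inclusion hLX b) =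
          (MonoidHom.transferSylow PX hle) (Subgroup.inclusion hLX b) * (MonoidHom.transferSylow PX hle) (Subgroup.inclusion hLX a) :=
        Subtype.ext (CfsgLib.PGroup.CSylow.commute_of_mem PX hPXc (Subtype.prop _) (Subtype.prop _))
      rw [← map_mul, ← map_mul, ← map_mul, ← map_mul] at hc
      have h1 := (MonoidHom.eq_iff _).1 hc
      rw [hM] at h1
      have h2 : ((b * a)⁻¹ * (a * b) : ↥L) ∈ (M.map X.subtype).subgroupOf L :=
        mem_subgroupOf.2 ⟨_, h1, by simp⟩
      rw [h0, mem_bot, inv_mul_eq_one] at h2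
      exact h2.symm
    · refine hMp (dvd_trans (hdvd L hL) ?_)
      rw [← Subgroup.card_map_of_injective X.subtype_injective]
      exact card_dvd_of_le (subgroupOf_eq_top.1 h0)
  obtain ⟨n, hn, hnco, hnC⟩ := CfsgLib.PGroup.CSylow.exists_not_mem_centralizer PX hPXc hNC
  obtain ⟨a, m, r, haP, hm, hgen, hr⟩ := CfsgLib.PGroup.CSylow.exists_power PX hPXc hn
  have hndvd : ¬ (p : ℤ) ∣ r - 1 := fun h => hnC (CfsgLib.PGroup.CSylow.mem_centralizer_of_residue PX hPXc hnco hm hgen hr h)
  have hcmem : a ^ (r - 1) ∈ commutator ↥X := by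
    have h1 : ⁅n, a⁆ = a ^ (r - 1) := by rw [commutatorElement_def, hr, zpow_sub_one]
    rw [← h1]
    exact commutator_mem_commutator (mem_top _) (mem_top _)
  have haL : a ∈ L.subgroupOf X := by
    obtain ⟨u, v, huv⟩ : IsCoprime (r - 1) ((orderOf a : ℕ) : ℤ) := by
      rw [hm, Nat.cast_pow]
      exact ((Nat.prime_iff_prime_int.1 hp.out).coprime_iff_not_dvd.2 hndvd).symm.pow_right
    have h2 : (a ^ (r - 1)) ^ u = a := by
      conv_rhs => rw [← zpow_one a, ← huv, zpow_add, mul_comm v, zpow_mul a _ v, zpow_natCast, pow_orderOf_eq_one, one_zpow, mul_one]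
      rw [← zpow_mul, mul_comm]
    rw [← h2]
    exact Subgroup.zpow_mem _ (hXd hcmem) _
  intro z hz
  obtain ⟨i, hi⟩ := hgen ⟨z, hPX hz⟩ (show (⟨z, hPX hz⟩ : X) ∈ (PX : Subgroup X) by rw [Sylow.coe_subtype, mem_subgroupOf]; exact hz)
  rw [show z = ((a ^ i : X) : K) from congrArg Subtype.val hi]
  exact mem_subgroupOf.1 (Subgroup.zpow_mem _ haL i)

end

/-- Let K be a finite group, p a prime dividing its order with O_{p'}(K) = 1 (no nontrivial normal subgroup of order prime to p), and P a cyclic Sylow p-subgroup of K. Then either P is normal and self-centralizing in K with K/P cyclic of order dividing p − 1 (so K is the semidirect product of P by a group of automorphisms of P of order dividing p − 1), or the generalized Fitting subgroup F*(K) is a non-abelian simple group and p does not divide the index of F*(K) in K. -/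
theorem result {K : Type*} [Group K] [Finite K] (p : ℕ) [Fact p.Prime] (hp : p ∣ Nat.card K) (hO : Cfsg.pPrimeCore p K = ⊥)
    (P : Sylow p K) (hP : IsCyclic ↥(P : Subgroup K)) :
    ((P : Subgroup K).Normal ∧ Subgroup.centralizer ((P : Subgroup K) : Set K) = (P : Subgroup K) ∧
      (∀ (_ : (P : Subgroup K).Normal), IsCyclic (K ⧸ (P : Subgroup K))) ∧ (P : Subgroup K).index ∣ p - 1) ∨
    (IsSimpleGroup ↥(Cfsg.generalizedFittingSubgroup K) ∧ ¬ IsMulCommutative ↥(Cfsg.generalizedFittingSubgroup K) ∧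
      ¬ p ∣ (Cfsg.generalizedFittingSubgroup K).index) := by
  by_cases hL : Cfsg.layer K = ⊥
  · exact Or.inl (normal_case hp hO P hP hL)
  · obtain ⟨L, hL'⟩ : ∃ L : Subgroup K, Cfsg.IsComponent L := by
      by_contra hc
      push Not at hc
      exact hL (le_bot_iff.1 (sSup_le fun M hM => absurd hM (hc M)))
    exact Or.inr (component_case hO P hP hL')

end Cfsg.Agent.S4403
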