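import Cfsg.Statements.S4405
import Cfsg.Agent.Lib.Coprime.Solvable
import Cfsg.Agent.S0144

set_option autoImplicit false
open Cfsg

namespace Cfsg.Agent.S4405

open Subgroup

theorem exists_small {H : Type*} [Group H] [Finite H] (hF : Nat.card H = 10) :
    ∃ P : Sylow 5 H, (P : Subgroup H).Normal ∧ Nat.card (P : Subgroup H) = 5 := by
  haveI : Fact (Nat.Prime 5) := ⟨by norm_num⟩
  obtain ⟨P⟩ : Nonempty (Sylow 5 H) := inferInstance
  have hcard : Nat.card (P : Subgroup H) = 5 := by
    rw [P.card_eq_multiplicity, hF]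
    have h5 : (10 : ℕ).factorization 5 = 1 := by
      rw [show (10 : ℕ) = 2 * 5 from rfl, Nat.factorization_mul (by norm_num) (by norm_num), Finsupp.add_apply,
        Nat.factorization_eq_zero_of_not_dvd (by norm_num), Nat.Prime.factorization_self (by norm_num)]
    rw [h5, pow_one]
  refine ⟨P, ?_, hcard⟩
  have hidx : (P : Subgroup H).index = 2 := by
    have := (P : Subgroup H).card_mul_index
    rw [hcard, hF] at this; omega
  exact Subgroup.normal_of_index_eq_two hidx

/-- Let G be a finite group of order 320 = 64·5 whose largest normal 2-subgroup H = O₂(G) equals the Fitting subgroup F(G) and is extraspecial of order 32 containing no elementary abelian subgroup of order 8 (so H is the central product of a quaternion group and a dihedral group of order 8). If T is an involution of G outside H whose centralizer in H contains an elementary abelian subgroup of order 4, then C_H(T) itself is elementary abelian of order 4. -/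
theorem result {G : Type*} [Group G] [Finite G]
    (hG : Nat.card G = 320) (hHF : Cfsg.pCore 2 G = Cfsg.fittingSubgroup G)
    (hex : Cfsg.IsExtraspecial 2 ↥(Cfsg.pCore 2 G)) (h32 : Nat.card ↥(Cfsg.pCore 2 G) = 32)
    (hminus : ∀ A : Subgroup G, A ≤ Cfsg.pCore 2 G → Cfsg.IsElementaryAbelian 2 A → Nat.card ↥A ≤ 4)
    (T : G) (hT : orderOf T = 2) (hTH : T ∉ Cfsg.pCore 2 G)
    (V : Subgroup G) (hV : V ≤ Cfsg.pCore 2 G ⊓ Subgroup.centralizer ({T} : Set G)) (hV4 : Nat.card ↥V = 4) (hVe : Cfsg.IsElementaryAbelian 2 V) :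
    Nat.card ↥(Cfsg.pCore 2 G ⊓ Subgroup.centralizer ({T} : Set G)) = 4 ∧
      Cfsg.IsElementaryAbelian 2 (Cfsg.pCore 2 G ⊓ Subgroup.centralizer ({T} : Set G)) := by
  classical
  haveI : Fact (Nat.Prime 2) := ⟨Nat.prime_two⟩
  haveI : Fact (Nat.Prime 5) := ⟨by norm_num⟩
  haveI : Group.IsSolvable G := Cfsg.Agent.S0144.result 2 5 6 1 Nat.prime_two (by norm_num) (by rw [hG]; norm_num)
  set F := Cfsg.pCore 2 G with hFdef
  haveI : F.Normal := CfsgLib.Coprime.pCore_normal' 2
  have hCF : centralizer (F : Set G) ≤ F := by rw [hHF]; exact CfsgLib.Coprime.centralizer_fitting_le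
  obtain ⟨⟨hFp, hfr, hder⟩, hZ2⟩ := hex
  set Z := center F
  have hcomm : ∀ a b : F, a * b * a⁻¹ * b⁻¹ ∈ Z := fun a b =>
    hder ▸ (commutator_mem_commutator (mem_top a) (mem_top b))
  let π := QuotientGroup.mk' Z
  have hπ : ∀ a b : F, π a = π b ↔ a * b⁻¹ ∈ Z := fun a b => by
    rw [← div_eq_mul_inv]; exact (QuotientGroup.eq_iff_div_mem)
  have hQc : ∀ a b : F ⧸ Z, a * b = b * a := by
    intro a b
    obtain ⟨a, rfl⟩ := QuotientGroup.mk'_surjective Z a
    obtain ⟨b, rfl⟩ := QuotientGroup.mk'_surjective Z b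
    rw [← map_mul, ← map_mul]
    refine (hπ _ _).2 ?_
    rw [mul_inv_rev, ← mul_assoc]
    exact hcomm a b
  have hsq : ∀ a : F, a ^ 2 ∈ Z := by
    intro a
    have hel : ∀ M : Subgroup F, IsCoatom M → a ^ 2 ∈ M := by
      intro M hM
      haveI : Group.IsNilpotent F := hFp.isNilpotent
      haveI hMn : M.Normal := NormalizerCondition.normal_of_coatom M Group.normalizerCondition_of_isNilpotent hM
      haveI : Nontrivial (F ⧸ M) := QuotientGroup.nontrivial_iff.2 hM.1
      obtain ⟨k, hk⟩ := (hFp.to_quotient M).exists_card_eq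
      obtain ⟨u, hu⟩ := exists_prime_orderOf_dvd_card' (G := F ⧸ M) 2 (by
        have := Finite.one_lt_card (α := F ⧸ M)
        rcases k with _ | k
        · rw [hk, pow_zero] at this; omega
        · exact hk ▸ dvd_pow_self 2 (Nat.succ_ne_zero k))
      have htop : (zpowers u).comap (QuotientGroup.mk' M) = ⊤ := by
        refine hM.2 _ (lt_of_le_of_ne (QuotientGroup.le_comap_mk' M _) fun h => ?_)
        obtain ⟨v, rfl⟩ := QuotientGroup.mk'_surjective M u
        have hv : v ∈ M := h.ge (mem_zpowers (QuotientGroup.mk' M v))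
        rw [show QuotientGroup.mk' M v = 1 from (QuotientGroup.eq_one_iff v).2 hv, orderOf_one] at hu
        omega
      have ha : QuotientGroup.mk' M a ∈ zpowers u := htop.ge (mem_top a)
      obtain ⟨j, hj⟩ := mem_zpowers_iff.1 ha
      refine (QuotientGroup.eq_one_iff _).1 ?_
      show QuotientGroup.mk' M (a ^ 2) = 1
      rw [map_pow, ← hj, ← zpow_natCast, ← zpow_mul, mul_comm, zpow_mul, zpow_natCast, ← hu, pow_orderOf_eq_one,
        one_zpow]
    rw [← hfr]
    exact Subgroup.mem_iInf.2 fun M => Subgroup.mem_iInf.2 fun hM => hel M hM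
  have hQsq : ∀ a : F, π a * π a = 1 := fun a => by
    rw [← map_mul]; exact (QuotientGroup.eq_one_iff _).2 (by rw [← pow_two]; exact hsq a)
  have hzz : ∀ k ∈ Z, k * k = 1 := by
    intro k hk
    have h : (⟨k, hk⟩ : Z) ^ Nat.card Z = 1 := pow_card_eq_one'
    rw [hZ2, pow_two] at h
    exact congrArg Subtype.val h
  -- the automorphisms induced by conjugation
  let cj : G → (F ≃* F) := fun g => MulAut.conjNormal g
  have hcj : ∀ g (a : F), ((cj g a : F) : G) = g * a * g⁻¹ := fun g a => MulAut.conjNormal_apply g a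
  have hcmul : ∀ g h a, cj g (cj h a) = cj (g * h) a := fun g h a => Subtype.ext (by
    rw [hcj, hcj, hcj]; group)
  have hcZ : ∀ g, ∀ k ∈ Z, cj g k ∈ Z := fun g k hk => mem_center_iff.2 fun u => by
    obtain ⟨v, rfl⟩ := (cj g).surjective u
    rw [← map_mul, ← map_mul, mem_center_iff.1 hk v]
  have hcZ1 : ∀ g, ∀ k ∈ Z, cj g k = k := by
    intro g k hk
    by_cases hk1 : k = 1
    · rw [hk1, map_one]
    · by_contra hne
      have hne1 : cj g k ≠ 1 := fun h => hk1 ((cj g).injective (h.trans (map_one _).symm))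
      letI := Fintype.ofFinite Z
      have h3 : ({(1 : Z), ⟨k, hk⟩, ⟨cj g k, hcZ g k hk⟩} : Finset Z).card = 3 :=
        Finset.card_eq_three.2 ⟨_, _, _, fun h => hk1 (congrArg Subtype.val h).symm,
          fun h => hne1 (congrArg Subtype.val h).symm, fun h => hne (congrArg Subtype.val h).symm, rfl⟩
      have := ({(1 : Z), ⟨k, hk⟩, ⟨cj g k, hcZ g k hk⟩} : Finset Z).card_le_univ
      rw [h3, ← Nat.card_eq_fintype_card, hZ2] at this
      omega
  -- elements acting trivially on `F / Z(F)`
  let K : Subgroup G :=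
    { carrier := {g | ∀ a : F, cj g a * a⁻¹ ∈ Z}
      mul_mem' := fun {g h} hg hh a => by
        rw [← hcmul, show cj g (cj h a) * a⁻¹ = (cj g (cj h a) * (cj h a)⁻¹) * (cj h a * a⁻¹) by group]
        exact mul_mem (hg _) (hh _)
      one_mem' := fun a => by
        rw [show cj 1 a = a from Subtype.ext (by rw [hcj]; group), mul_inv_cancel]; exact one_mem _
      inv_mem' := fun {g} hg a => by
        have h := hg (cj g⁻¹ a)
        rw [hcmul, mul_inv_cancel, show cj 1 a = a from Subtype.ext (by rw [hcj]; group)] at h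
        rw [show cj g⁻¹ a * a⁻¹ = (a * (cj g⁻¹ a)⁻¹)⁻¹ by group]
        exact inv_mem h }
  haveI hKn : K.Normal := ⟨fun g hg h a => by
    have h1 := hcZ h _ (hg (cj h⁻¹ a))
    rw [map_mul, map_inv, hcmul, hcmul, hcmul, mul_inv_cancel,
      show cj 1 a = a from Subtype.ext (by rw [hcj]; group)] at h1
    exact h1⟩
  have hKF : K ≤ F := by
    have hK2 : ∀ g ∈ K, g ^ 2 ∈ F := by
      intro g hg
      refine hCF (mem_centralizer_iff.2 fun a ha => ?_)
      have h1 : cj g (cj g ⟨a, ha⟩) = ⟨a, ha⟩ := by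
        set k := cj g ⟨a, ha⟩ * (⟨a, ha⟩ : F)⁻¹ with hk
        have h2 : cj g ⟨a, ha⟩ = k * ⟨a, ha⟩ := by rw [hk, inv_mul_cancel_right]
        rw [h2, map_mul, hcZ1 g k (hg _), h2, ← mul_assoc, hzz k (hg _), one_mul]
      have h3 := congrArg Subtype.val h1
      rw [hcj, hcj] at h3
      calc a * g ^ 2 = (g * (g * a * g⁻¹) * g⁻¹) * g ^ 2 := by rw [h3]
        _ = g ^ 2 * a := by rw [pow_two]; group
    refine CfsgLib.Coprime.le_pCore (p := 2) (IsPGroup.iff_orderOf.2 fun g => ?_)
    obtain ⟨j, hj⟩ := IsPGroup.iff_orderOf.1 hFp ⟨(g : G) ^ 2, hK2 g g.2⟩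
    rw [← Subgroup.orderOf_coe] at hj
    have h4 : g ^ (2 * 2 ^ j) = 1 := Subtype.ext (by
      rw [SubmonoidClass.coe_pow, pow_mul, ← hj]; exact pow_orderOf_eq_one _)
    rw [← pow_succ'] at h4
    obtain ⟨i, -, hi⟩ := (Nat.dvd_prime_pow Nat.prime_two).1 (orderOf_dvd_of_pow_eq_one h4)
    exact ⟨i, hi⟩
  -- the subgroup of elements fixed modulo the centre
  let τ := cj T
  have hττ : ∀ a, τ (τ a) = a := fun a => by
    rw [hcmul, show T * T = 1 by rw [← pow_two, ← hT, pow_orderOf_eq_one]]
    exact Subtype.ext (by rw [hcj]; group)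
  let δ : F →* F ⧸ Z :=
    { toFun := fun a => π (τ a) * π a
      map_one' := by rw [map_one, map_one, mul_one]
      map_mul' := fun a b => by
        rw [map_mul, map_mul, map_mul, mul_assoc, ← mul_assoc (π (τ b)), hQc (π (τ b)) (π a), mul_assoc (π a), ← mul_assoc] }
  set U := δ.ker
  have hUmem : ∀ a, a ∈ U ↔ τ a * a⁻¹ ∈ Z := fun a => by
    rw [← hπ, MonoidHom.mem_ker]
    show π (τ a) * π a = 1 ↔ _
    constructor
    · intro h
      calc π (τ a) = π (τ a) * (π a * π a) := by rw [hQsq, mul_one]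
        _ = π a := by rw [← mul_assoc, h, one_mul]
    · intro h; rw [h]; exact hQsq a
  have hZU : Z ≤ U := fun k hk => (hUmem k).2 (by rw [show τ k = k from hcZ1 T k hk, mul_inv_cancel]; exact one_mem _)
  have hZm : ∀ H : Subgroup F, Z ≤ H → Nat.card (H.map π) * 2 = Nat.card H := by
    intro H hH
    have h := ((QuotientGroup.mk' Z).comp H.subtype).ker.card_mul_index
    rw [Subgroup.index_ker, MonoidHom.range_comp, range_subtype, ← MonoidHom.comap_ker, QuotientGroup.ker_mk',
      show Z.comap H.subtype = Z.subgroupOf H from rfl] at h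
    rw [← h, mul_comm]
    congr 1
    rw [Nat.card_congr (subgroupOfEquivOfLe hH).toEquiv, hZ2]
  have hF32 : Nat.card F = 32 := h32
  have hrangeU : δ.range ≤ U.map π := by
    rintro _ ⟨a, rfl⟩
    refine ⟨τ a * a, (hUmem _).2 ?_, map_mul π _ _⟩
    rw [map_mul, hττ, mul_inv_rev, ← mul_assoc]
    exact hcomm a (τ a)
  have hUsq : 64 ≤ Nat.card U * Nat.card U := by
    have h1 := δ.ker.card_mul_index
    rw [Subgroup.index_ker, hF32] at h1
    have h2 := Subgroup.card_le_of_le hrangeU
    have h3 := hZm U hZU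
    calc 64 = Nat.card U * (Nat.card δ.range * 2) := by
          rw [← mul_assoc]
          show 64 = Nat.card δ.ker * Nat.card δ.range * 2
          rw [h1]
      _ ≤ Nat.card U * Nat.card U := Nat.mul_le_mul_left _ (by omega)
  have hUdvd : Nat.card U ∣ 2 ^ 5 := by
    have := U.card_subgroup_dvd_card
    rw [hF32] at this; exact this
  -- a large `U` forces `T` into `F`
  have hU8 : Nat.card U = 8 := by
    obtain ⟨j, hj5, hj⟩ := (Nat.dvd_prime_pow Nat.prime_two).1 hUdvd
    have hj3 : 3 ≤ j := by
      by_contra hlt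
      have : Nat.card U ≤ 4 := hj ▸ Nat.pow_le_pow_right two_pos (by omega : j ≤ 2)
      nlinarith
    rcases (show j = 3 ∨ j = 4 ∨ j = 5 by omega) with rfl | rfl | rfl
    · exact hj
    swap
    · exfalso
      have htop : U = ⊤ := Subgroup.eq_top_of_card_eq _ (by rw [hj, hF32]; norm_num)
      exact hTH (hKF fun a => (hUmem a).1 (htop ▸ mem_top a))
    exfalso
    -- an element of order five
    obtain ⟨y, hy⟩ := exists_prime_orderOf_dvd_card' (G := G) 5 (by rw [hG]; norm_num)
    have hFno5 : ∀ x : G, orderOf x = 5 → x ∉ F := by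
      intro x hx hxF
      have := orderOf_dvd_natCard (⟨x, hxF⟩ : F)
      rw [← Subgroup.orderOf_coe, hx, hF32] at this
      norm_num at this
    haveI : F.Normal := inferInstance
    have hcardq : Nat.card (G ⧸ F) = 10 := by
      have := F.card_mul_index
      rw [hF32, hG, Subgroup.index_eq_card] at this
      omega
    obtain ⟨P₅, hP₅, hP₅c⟩ := exists_small hcardq
    set π₀ := QuotientGroup.mk' F
    have hyP : π₀ y ∈ (P₅ : Subgroup (G ⧸ F)) := by
      have hp : IsPGroup 5 (zpowers (π₀ y)) := by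
        obtain ⟨k, -, hk⟩ := (Nat.dvd_prime_pow (by norm_num : Nat.Prime 5)).1
          ((orderOf_map_dvd π₀ y).trans (dvd_of_eq (hy.trans (pow_one 5).symm)))
        exact IsPGroup.of_card ((Nat.card_zpowers _).trans hk)
      obtain ⟨Q, hQ⟩ := hp.exists_le_sylow
      obtain ⟨c, hc⟩ := MulAction.exists_smul_eq (G ⧸ F) P₅ Q
      rw [Sylow.smul_eq_of_normal] at hc
      exact hc ▸ hQ (mem_zpowers _)
    set g := y * T * y⁻¹ * T with hgdef
    have hgP : π₀ g ∈ (P₅ : Subgroup (G ⧸ F)) := by
      rw [hgdef, show y * T * y⁻¹ * T = y * (T * y⁻¹ * T⁻¹) * (T * T) by group, ← pow_two T, ← hT, pow_orderOf_eq_one,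
        mul_one, map_mul, map_mul, map_mul, map_inv, map_inv]
      exact mul_mem hyP (hP₅.conj_mem _ (inv_mem hyP) _)
    have hg5 : g ^ 5 ∈ F := by
      rw [← QuotientGroup.eq_one_iff]
      show π₀ (g ^ 5) = 1
      have := congrArg Subtype.val (pow_card_eq_one' (x := (⟨π₀ g, hgP⟩ : (P₅ : Subgroup (G ⧸ F)))))
      rw [hP₅c] at this
      rw [map_pow]
      exact this
    by_cases hgF : g ∈ F
    · -- then `F⟨T⟩` would be a normal two-subgroup
      set N := F ⊔ zpowers T
      have hN2 : IsPGroup 2 N := hFp.to_sup_of_normal_left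
        (IsPGroup.of_card (n := 1) (by rw [Nat.card_zpowers, hT, pow_one]))
      have hTN : T ∈ N := mem_sup_right (mem_zpowers T)
      have hFN : F ≤ N := le_sup_left
      set M := normalizer (N : Set G)
      have hyM : y ∈ M := by
        have hyT : y * T * y⁻¹ ∈ N := by
          rw [show y * T * y⁻¹ = g * T⁻¹ by rw [hgdef]; group]
          exact mul_mem (hFN hgF) (inv_mem hTN)
        have hle : N.map (MulAut.conj y).toMonoidHom ≤ N := by
          rw [Subgroup.map_sup, MonoidHom.map_zpowers]
          exact sup_le ((Subgroup.map_le_iff_le_comap).2 fun a ha => hFN ((inferInstance : F.Normal).conj_mem a ha y))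
            (zpowers_le.2 hyT)
        have heq : N.map (MulAut.conj y).toMonoidHom = N := Subgroup.eq_of_le_of_card_ge hle
          (by rw [Subgroup.card_map_of_injective (MulAut.conj y).injective])
        refine mem_normalizer_iff.2 fun u => ⟨fun hu => heq.le ⟨u, hu, rfl⟩, fun hu => ?_⟩
        obtain ⟨v, hv, hvu⟩ := heq.ge hu
        exact (MulAut.conj y).injective hvu ▸ hv
      have hMtop : M = ⊤ := by
        have h1 : Nat.card N ∣ Nat.card M := Subgroup.card_dvd_of_le le_normalizer
        obtain ⟨i, hi⟩ := hN2.exists_card_eq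
        have h2 : 32 < Nat.card N := by
          have h3 := Subgroup.card_le_of_le hFN
          rcases h3.lt_or_eq with h | h
          · rwa [hF32] at h
          · exact absurd ((Subgroup.eq_of_le_of_card_ge hFN h.ge).ge hTN) hTH
        have hi6 : 6 ≤ i := by
          by_contra hlt
          have := Nat.pow_le_pow_right two_pos (by omega : i ≤ 5)
          rw [← hi] at this; omega
        have h64 : 2 ^ 6 ∣ Nat.card M := ((pow_dvd_pow 2 hi6).trans hi.symm.dvd).trans h1
        have h5 : 5 ∣ Nat.card M := by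
          have := orderOf_dvd_natCard (⟨y, hyM⟩ : M)
          rwa [← Subgroup.orderOf_coe, hy] at this
        refine Subgroup.eq_top_of_card_eq _ (Nat.dvd_antisymm M.card_subgroup_dvd_card ?_)
        rw [hG]
        exact Nat.Coprime.mul_dvd_of_dvd_of_dvd (by norm_num : Nat.Coprime (2 ^ 6) 5) h64 h5
      haveI : N.Normal := normalizer_eq_top_iff.1 hMtop
      exact hTH (CfsgLib.Coprime.le_pCore hN2 hTN)
    -- `x` is an element of order five acting trivially on a large subgroup
    set x := g ^ 32 with hxdef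
    have hx5 : x ^ 5 = 1 := by
      have := congrArg Subtype.val (pow_card_eq_one' (x := (⟨g ^ 5, hg5⟩ : F)))
      rw [hF32] at this
      rw [hxdef, ← pow_mul, mul_comm, pow_mul]
      exact this
    have hxF : x ∉ F := fun h => hgF (by
      have h1 : g = g ^ (5 * 13) * (g ^ 32 * g ^ 32)⁻¹ := by rw [← pow_add]; group
      rw [h1]
      exact mul_mem (by rw [pow_mul]; exact pow_mem hg5 13) (inv_mem (mul_mem h h)))
    set U' := U.map (cj y).toMonoidHom
    set W := U ⊓ U'
    have hZW : Z ≤ W := le_inf hZU fun k hk => ⟨k, hZU hk, hcZ1 y k hk⟩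
    have hWfix : ∀ w ∈ W, cj x w * w⁻¹ ∈ Z := by
      let Kw : Subgroup G :=
        { carrier := {h | ∀ w ∈ W, cj h w * w⁻¹ ∈ Z}
          mul_mem' := fun {a b} ha hb w hw => by
            have h1 := hb w hw
            rw [← hcmul, show cj a (cj b w) * w⁻¹ = cj a (cj b w * w⁻¹) * (cj a w * w⁻¹) by
              rw [map_mul, map_inv]; group]
            exact mul_mem (hcZ a _ h1) (ha w hw)
          one_mem' := fun w _ => by
            rw [show cj 1 w = w from Subtype.ext (by rw [hcj]; group), mul_inv_cancel]; exact one_mem _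
          inv_mem' := fun {a} ha w hw => by
            have h1 := hcZ a⁻¹ _ (ha w hw)
            rw [map_mul, map_inv, hcmul, inv_mul_cancel, show cj 1 w = w from Subtype.ext (by rw [hcj]; group)] at h1
            rw [show cj a⁻¹ w * w⁻¹ = (w * (cj a⁻¹ w)⁻¹)⁻¹ by group]
            exact inv_mem h1 }
      have hTK : T ∈ Kw := fun w hw => (hUmem w).1 hw.1
      have hyT : y * T * y⁻¹ ∈ Kw := by
        intro w hw
        obtain ⟨u, hu, rfl⟩ := hw.2
        have h1 := hcZ y _ ((hUmem u).1 hu)
        rw [map_mul, map_inv] at h1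
        show cj (y * T * y⁻¹) (cj y u) * (cj y u)⁻¹ ∈ Z
        rw [hcmul, inv_mul_cancel_right, ← hcmul]
        exact h1
      exact (pow_mem (mul_mem hyT hTK) 32 : x ∈ Kw)
    haveI hWn : W.Normal := ⟨fun w hw a => by
      rw [show a * w * a⁻¹ = (a * w * a⁻¹ * w⁻¹) * w by group]
      exact mul_mem (hZW (hcomm a w)) hw⟩
    have hWidx : W.index ≤ 4 := by
      have h1 := Subgroup.index_inf_le (H := U) (K := U')
      have h2 : U.index = 2 := by
        have := U.card_mul_index
        rw [hj, hF32] at this; omega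
      have h3 : U'.index = 2 := by
        have h4 := U'.card_mul_index
        rw [show Nat.card U' = Nat.card U from (Nat.card_congr (U.equivMapOfInjective _ (cj y).injective).toEquiv).symm, hj, hF32] at h4
        omega
      rw [h2, h3] at h1
      exact h1
    have hcjW : W ≤ W.comap (cj x).toMonoidHom := fun w hw => by
      show cj x w ∈ W
      rw [show cj x w = (cj x w * w⁻¹) * w by group]
      exact mul_mem (hZW (hWfix w hw)) hw
    let σ₀ : F ⧸ W →* F ⧸ W := QuotientGroup.map W W (cj x).toMonoidHom hcjW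
    have hiter : ∀ (m : ℕ) (a : F), (σ₀^[m]) (a : F ⧸ W) = (cj (x ^ m) a : F) := by
      intro m
      induction m with
      | zero =>
        intro a
        rw [Function.iterate_zero, id_eq, pow_zero, show cj 1 a = a from Subtype.ext (by rw [hcj]; group)]
      | succ m ih => intro a; rw [Function.iterate_succ', Function.comp_apply, ih, pow_succ', ← hcmul]; rfl
    have h5id : ∀ q : F ⧸ W, (σ₀^[5]) q = q := fun q => by
      obtain ⟨a, rfl⟩ := QuotientGroup.mk'_surjective W q
      show (σ₀^[5]) (a : F ⧸ W) = a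
      rw [hiter, hx5, show cj 1 a = a from Subtype.ext (by rw [hcj]; group)]
    have hfixq : ∀ q : F ⧸ W, σ₀ q = q := by
      have hbij : Function.Bijective σ₀ := Finite.injective_iff_bijective.1 fun u v huv => by
        rw [← h5id u, ← h5id v]
        show (σ₀^[4]) (σ₀ u) = (σ₀^[4]) (σ₀ v)
        rw [huv]
      let σ : Equiv.Perm (F ⧸ W) := Equiv.ofBijective σ₀ hbij
      have hσ5 : σ ^ 5 = 1 := Equiv.ext fun q => by
        rw [Equiv.Perm.coe_pow]
        exact h5id q
      letI := Fintype.ofFinite (F ⧸ W)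
      have hd := (orderOf_dvd_of_pow_eq_one hσ5)
      have hd2 : orderOf σ ∣ 24 := by
        refine (orderOf_dvd_card (x := σ)).trans ?_
        rw [Fintype.card_perm]
        refine (Nat.factorial_dvd_factorial ?_).trans (dvd_of_eq (rfl : Nat.factorial 4 = 24))
        rw [← Nat.card_eq_fintype_card, ← Subgroup.index_eq_card]
        exact hWidx
      have hone : σ = 1 := orderOf_eq_one_iff.1 (Nat.dvd_one.1 (by
        have := Nat.dvd_gcd hd hd2
        norm_num at this
        simp [this]))
      exact fun q => Equiv.congr_fun hone q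
    refine hxF (hKF fun a => ?_)
    set w := cj x a * a⁻¹ with hwdef
    have hw : w ∈ W := by
      rw [← QuotientGroup.eq_one_iff, QuotientGroup.mk_mul, QuotientGroup.mk_inv, mul_inv_eq_one]
      exact hfixq (a : F ⧸ W)
    have hxw : ∀ m : ℕ, π (cj (x ^ m) a) = π w ^ m * π a := by
      intro m
      induction m with
      | zero => rw [pow_zero, pow_zero, one_mul, show cj 1 a = a from Subtype.ext (by rw [hcj]; group)]
      | succ m ih =>
        have h1 : cj (x ^ (m + 1)) a = cj (x ^ m) w * cj (x ^ m) a := by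
          rw [pow_succ, ← hcmul, ← map_mul, hwdef, inv_mul_cancel_right]
        have h2 : π (cj (x ^ m) w) = π w := by
          clear ih h1
          induction m with
          | zero => rw [pow_zero, show cj 1 w = w from Subtype.ext (by rw [hcj]; group)]
          | succ m ih =>
            have hk := hWfix w hw
            rw [pow_succ, ← hcmul, show cj x w = (cj x w * w⁻¹) * w by group, map_mul, hcZ1 _ _ hk, map_mul,
              show π (cj x w * w⁻¹) = 1 from (QuotientGroup.eq_one_iff _).2 hk, one_mul, ih]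
        rw [h1, map_mul, h2, ih, pow_succ', mul_assoc]
    have h := hxw 5
    rw [hx5, show cj 1 a = a from Subtype.ext (by rw [hcj]; group), right_eq_mul] at h
    have h2 : π w * π w = 1 := hQsq w
    refine (QuotientGroup.eq_one_iff _).1 ?_
    show π w = 1
    calc π w = π w ^ 5 := by
          rw [show (5 : ℕ) = 1 + 2 + 2 from rfl, pow_add, pow_add, pow_one, pow_two, h2, mul_one, mul_one]
      _ = 1 := h
  -- now `U` has order 8
  set C := F ⊓ centralizer ({T} : Set G)
  have hC4 : Nat.card C ≤ 4 := by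
    by_contra hgt
    push Not at hgt
    set C' := C.subgroupOf F
    have hC'mem : ∀ a : F, a ∈ C' ↔ τ a = a := fun a => by
      rw [mem_subgroupOf]
      constructor
      · intro h
        refine Subtype.ext ?_
        rw [hcj, ← mem_centralizer_singleton_iff.1 h.2, mul_inv_cancel_right]
      · intro h
        refine ⟨a.2, mem_centralizer_singleton_iff.2 ?_⟩
        have := congrArg Subtype.val h
        rw [hcj, mul_inv_eq_iff_eq_mul] at this
        exact this.symm
    have hle : C' ≤ U := fun a ha => (hUmem a).2 (by rw [(hC'mem a).1 ha, mul_inv_cancel]; exact one_mem _)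
    have heq : C' = U := by
      refine Subgroup.eq_of_le_of_card_ge hle ?_
      rw [hU8, Nat.card_congr (subgroupOfEquivOfLe (inf_le_left : C ≤ F)).toEquiv]
      have h1 : Nat.card C' ∣ 2 ^ 3 := (Subgroup.card_dvd_of_le hle).trans (dvd_of_eq (by rw [hU8]; rfl))
      rw [Nat.card_congr (subgroupOfEquivOfLe (inf_le_left : C ≤ F)).toEquiv] at h1
      obtain ⟨i, -, hi⟩ := (Nat.dvd_prime_pow Nat.prime_two).1 h1
      have : 3 ≤ i := by
        by_contra hlt
        have := Nat.pow_le_pow_right two_pos (by omega : i ≤ 2)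
        rw [← hi] at this
        change Nat.card C ≤ _ at this
        omega
      rw [hi]; exact Nat.pow_le_pow_right two_pos this
    have hfix : ∀ u ∈ U, τ u = u := fun u hu => (hC'mem u).1 (heq ▸ hu)
    -- commutators with `T`
    have hd : ∀ a : F, (τ a * a⁻¹) * (τ a * a⁻¹) = 1 ∧ ∀ v ∈ U, (τ a * a⁻¹) * v = v * (τ a * a⁻¹) := by
      intro a
      have hdU : τ a * a⁻¹ ∈ U := by
        refine (hUmem _).2 ?_
        rw [map_mul, hττ, map_inv, mul_inv_rev, inv_inv]
        rw [show a * (τ a)⁻¹ * (a * (τ a)⁻¹) = (a * (τ a)⁻¹) ^ 2 from (pow_two _).symm]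
        exact hsq _
      have h1 := hfix _ hdU
      rw [map_mul, hττ, map_inv] at h1
      refine ⟨?_, fun v hv => ?_⟩
      · nth_rewrite 1 [← h1]
        group
      · obtain ⟨k, hk⟩ : ∃ k, k = a * v * a⁻¹ * v⁻¹ := ⟨_, rfl⟩
        have hkZ : k ∈ Z := hk ▸ hcomm a v
        have h2 : τ a * v * (τ a)⁻¹ * v⁻¹ = k := by
          have := congrArg τ hk
          rw [map_mul, map_mul, map_mul, map_inv, map_inv, hfix v hv, show τ k = k from hcZ1 T k hkZ] at this
          exact this.symm
        calc τ a * a⁻¹ * v = τ a * (a⁻¹ * k⁻¹) * (a * v * a⁻¹) := by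
              rw [show a * v * a⁻¹ = k * v by rw [hk]; group]; group
          _ = k⁻¹ * (τ a * v * (τ a)⁻¹ * v⁻¹) * v * (τ a * a⁻¹) := by
              rw [(mem_center_iff.1 (inv_mem hkZ) a⁻¹)]
              rw [show τ a * (k⁻¹ * a⁻¹) = k⁻¹ * (τ a * a⁻¹) by rw [← mul_assoc, mem_center_iff.1 (inv_mem hkZ) (τ a), mul_assoc]]
              group
          _ = v * (τ a * a⁻¹) := by rw [h2, inv_mul_cancel, one_mul]
    have hgenU : ∀ u ∈ U, ∃ a k, k ∈ Z ∧ u = (τ a * a⁻¹) * k := by
      have hrange : δ.range = U.map π := by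
        refine Subgroup.eq_of_le_of_card_ge hrangeU ?_
        have h1 := δ.ker.card_mul_index
        rw [Subgroup.index_ker, hF32, hU8] at h1
        have h3 := hZm U hZU
        rw [hU8] at h3
        omega
      intro u hu
      obtain ⟨a, ha⟩ := hrange.ge (mem_map_of_mem π hu)
      refine ⟨a, (τ a * a⁻¹)⁻¹ * u, ?_, by group⟩
      rw [← QuotientGroup.eq_one_iff]
      show π _ = 1
      rw [map_mul, map_inv, inv_mul_eq_one, map_mul, map_inv, ← ha]
      show π (τ a) * (π a)⁻¹ = π (τ a) * π a
      rw [inv_eq_of_mul_eq_one_right (hQsq a)]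
    have hel : Cfsg.IsElementaryAbelian 2 (U.map F.subtype) := by
      refine ⟨⟨⟨?_⟩⟩, ?_⟩
      · rintro ⟨_, u, hu, rfl⟩ ⟨_, v, hv, rfl⟩
        refine Subtype.ext ?_
        show F.subtype u * F.subtype v = F.subtype v * F.subtype u
        rw [← map_mul, ← map_mul]
        refine congrArg F.subtype ?_
        obtain ⟨a, k, hk, rfl⟩ := hgenU u hu
        calc (τ a * a⁻¹) * k * v = (τ a * a⁻¹) * v * k := by rw [mul_assoc, ← mem_center_iff.1 hk v, ← mul_assoc]
          _ = v * ((τ a * a⁻¹) * k) := by rw [(hd a).2 v hv, mul_assoc]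
      · rintro _ ⟨u, hu, rfl⟩
        rw [← map_pow]
        obtain ⟨a, k, hk, rfl⟩ := hgenU u hu
        have : ((τ a * a⁻¹) * k) ^ 2 = 1 := by
          rw [(show Commute (τ a * a⁻¹) k from mem_center_iff.1 hk _).mul_pow, pow_two, pow_two, (hd a).1, hzz k hk, one_mul]
        rw [this, map_one]
    have h9 := hminus _ (map_subtype_le U) hel
    rw [card_map_of_injective F.subtype_injective, hU8] at h9
    omega
  have hVC : V = C := Subgroup.eq_of_le_of_card_ge hV (by rw [hV4]; exact hC4)
  exact ⟨hVC ▸ hV4, hVC ▸ hVe⟩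

end Cfsg.Agent.S4405
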