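import Cfsg.Statements.S4406
-- import your own Cfsg.Agent.* helpers here
import Mathlib.GroupTheory.SpecificGroups.Alternating
import Mathlib.GroupTheory.Sylow

set_option autoImplicit false
open Cfsg

namespace Cfsg.Agent.S4406

theorem exists_ne_one {H : Type*} [Group H] (h : 1 < Nat.card H) : ∃ x : H, x ≠ 1 := by
  haveI : Finite H := Nat.finite_of_card_ne_zero (by omega)
  haveI := Finite.one_lt_card_iff_nontrivial.1 h
  exact exists_ne 1

theorem a4_two (x : alternatingGroup (Fin 4)) : x ^ 16 = 1 → x ^ 2 = 1 := by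
  revert x; decide +kernel

set_option synthInstance.maxSize 4000 in
set_option maxHeartbeats 2000000 in
theorem a4_graph : ∀ a : alternatingGroup (Fin 4), a ^ 3 = 1 → a ≠ 1 →
    ∀ b : alternatingGroup (Fin 4), b ^ 3 = 1 → b ≠ 1 →
    ∀ x : alternatingGroup (Fin 4), x ^ 2 = 1 → x ≠ 1 →
    ∀ y : alternatingGroup (Fin 4), y ^ 2 = 1 → y ≠ 1 →
    ∀ z : alternatingGroup (Fin 4), z ^ 2 = 1 → z ≠ 1 → z ≠ x →
    ∀ w : alternatingGroup (Fin 4), w ^ 2 = 1 → w ≠ 1 → w ≠ y →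
      ((a * x * a⁻¹, b * y * b⁻¹) ∈ [(x, y), (z, w), (x * z, y * w)] ∧
        (a * z * a⁻¹, b * w * b⁻¹) ∈ [(x, y), (z, w), (x * z, y * w)]) ∨
      ((a * x * a⁻¹, b⁻¹ * y * b) ∈ [(x, y), (z, w), (x * z, y * w)] ∧
        (a * z * a⁻¹, b⁻¹ * w * b) ∈ [(x, y), (z, w), (x * z, y * w)]) := by
  decide +kernel

/-- In the direct product P = A₄ × A₄, let X be the Sylow 2-subgroup, X₁ and X₂ its intersections with the two direct factors, Q a Sylow 3-subgroup and Q₁, Q₂ its intersections with the two factors. Then every subgroup B of X of order 4 either meets X₁ or X₂ nontrivially, or is normalized by one of the two subgroups of Q of order 3 other than Q₁ and Q₂. -/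
theorem result
    (X : Sylow 2 (↥(alternatingGroup (Fin 4)) × ↥(alternatingGroup (Fin 4))))
    (Q : Sylow 3 (↥(alternatingGroup (Fin 4)) × ↥(alternatingGroup (Fin 4))))
    (B : Subgroup (↥(alternatingGroup (Fin 4)) × ↥(alternatingGroup (Fin 4)))) (hBX : B ≤ (X : Subgroup _)) (hB4 : Nat.card ↥B = 4) :
    B ⊓ ((X : Subgroup _) ⊓ Subgroup.prod ⊤ ⊥) ≠ ⊥ ∨ B ⊓ ((X : Subgroup _) ⊓ Subgroup.prod ⊥ ⊤) ≠ ⊥ ∨
      ∃ R : Subgroup (↥(alternatingGroup (Fin 4)) × ↥(alternatingGroup (Fin 4))), R ≤ (Q : Subgroup _) ∧ Nat.card ↥R = 3 ∧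
        R ≠ (Q : Subgroup _) ⊓ Subgroup.prod ⊤ ⊥ ∧ R ≠ (Q : Subgroup _) ⊓ Subgroup.prod ⊥ ⊤ ∧ R ≤ Subgroup.normalizer (B : Set _) := by
  classical
  have hA : Nat.card ↥(alternatingGroup (Fin 4)) = 12 := by rw [nat_card_alternatingGroup, Nat.card_fin]; rfl
  have hG : Nat.card (↥(alternatingGroup (Fin 4)) × ↥(alternatingGroup (Fin 4))) = 144 := by
    rw [Nat.card_prod, hA]
  have hX : Nat.card ↥(X : Subgroup (↥(alternatingGroup (Fin 4)) × ↥(alternatingGroup (Fin 4)))) = 16 := by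
    rw [X.card_eq_multiplicity, hG]; decide +kernel
  have hQ : Nat.card ↥(Q : Subgroup (↥(alternatingGroup (Fin 4)) × ↥(alternatingGroup (Fin 4)))) = 9 := by
    rw [Q.card_eq_multiplicity, hG]; decide +kernel
  rw [or_iff_not_imp_left, or_iff_not_imp_left]
  intro h1 h2
  push Not at h1 h2
  have hsq : ∀ g ∈ B, g.1 ^ 2 = 1 ∧ g.2 ^ 2 = 1 := fun g hg => by
    have := congrArg Subtype.val (pow_card_eq_one' (x := (⟨g, hBX hg⟩ : (X : Subgroup (↥(alternatingGroup (Fin 4)) × ↥(alternatingGroup (Fin 4)))))))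
    rw [hX] at this
    exact ⟨a4_two _ (congrArg Prod.fst this), a4_two _ (congrArg Prod.snd this)⟩
  have f1 : ∀ g ∈ B, g.2 = 1 → g = 1 := fun g hg e =>
    Subgroup.mem_bot.1 (h1 ▸ ⟨hg, hBX hg, Subgroup.mem_top _, e⟩)
  have f2 : ∀ g ∈ B, g.1 = 1 → g = 1 := fun g hg e =>
    Subgroup.mem_bot.1 (h2 ▸ ⟨hg, hBX hg, e, Subgroup.mem_top _⟩)
  obtain ⟨⟨⟨x, y⟩, hu⟩, hu1⟩ := exists_ne_one (by omega : 1 < Nat.card B)
  have hu' : (x, y) ≠ 1 := fun e => hu1 (Subtype.ext e)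
  obtain ⟨⟨z, w⟩, hv, hv1, hv2⟩ : ∃ v, v ∈ B ∧ v ≠ 1 ∧ v ≠ (x, y) := by
    by_contra hc; push Not at hc
    have hle : (Finset.univ : Finset B).card ≤ ({1, ⟨(x, y), hu⟩} : Finset B).card :=
      Finset.card_le_card fun v _ => by
        by_cases e : v = 1
        · simp [e]
        · simp [show v = ⟨(x, y), hu⟩ from Subtype.ext (hc v.1 v.2 fun e' => e (Subtype.ext e'))]
    rw [Finset.card_univ, ← Nat.card_eq_fintype_card, hB4] at hle
    exact absurd (hle.trans Finset.card_le_two) (by norm_num)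
  obtain ⟨hx2, hy2⟩ := hsq _ hu
  obtain ⟨hz2, hw2⟩ := hsq _ hv
  have hx : x ≠ 1 := fun e => hu' (f2 _ hu e)
  have hy : y ≠ 1 := fun e => hu' (f1 _ hu e)
  have hz : z ≠ 1 := fun e => hv1 (f2 _ hv e)
  have hw : w ≠ 1 := fun e => hv1 (f1 _ hv e)
  have sqi : ∀ {t : alternatingGroup (Fin 4)}, t ^ 2 = 1 → t * t = 1 := fun h => by rwa [← sq]
  have hzx : z ≠ x := fun e => by
    have := f2 _ (mul_mem hv hu) (by show z * x = 1; rw [e]; exact sqi hx2)
    have hwy : w = y := by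
      have h' : w * y = 1 := congrArg Prod.snd this
      rw [eq_inv_of_mul_eq_one_left h', inv_eq_of_mul_eq_one_right (sqi hy2)]
    exact hv2 (by rw [e, hwy])
  have hwy : w ≠ y := fun e => by
    have := f1 _ (mul_mem hv hu) (by show w * y = 1; rw [e]; exact sqi hy2)
    have hzx' : z = x := by
      have h' : z * x = 1 := congrArg Prod.fst this
      rw [eq_inv_of_mul_eq_one_left h', inv_eq_of_mul_eq_one_right (sqi hx2)]
    exact hzx hzx'
  have hgen : ∀ g ∈ B, g ∈ Subgroup.closure {(x, y), (z, w)} := by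
    have hne3 : ((x, y) * (z, w) : ↥(alternatingGroup (Fin 4)) × ↥(alternatingGroup (Fin 4))) ∉
        ({1, (x, y), (z, w)} : Finset _) := by
      simp only [Finset.mem_insert, Finset.mem_singleton, not_or]
      refine ⟨fun e => hzx ?_, fun e => hv1 (mul_eq_left.1 e), fun e => hu' (mul_eq_right.1 e)⟩
      have h' : x * z = 1 := congrArg Prod.fst e
      rw [eq_inv_of_mul_eq_one_right h', inv_eq_of_mul_eq_one_right (sqi hx2)]
    let S : Finset _ := insert ((x, y) * (z, w)) ({1, (x, y), (z, w)} : Finset _)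
    have hS : S.card = 4 := by
      rw [Finset.card_insert_of_notMem hne3]
      have : ({1, (x, y), (z, w)} : Finset (↥(alternatingGroup (Fin 4)) × ↥(alternatingGroup (Fin 4)))).card = 3 :=
        Finset.card_eq_three.2 ⟨_, _, _, Ne.symm hu', Ne.symm hv1, Ne.symm hv2, rfl⟩
      omega
    have hSB : ∀ g ∈ S, g ∈ B ∧ g ∈ Subgroup.closure {(x, y), (z, w)} := by
      intro g hg
      simp only [S, Finset.mem_insert, Finset.mem_singleton] at hg
      have c1 : (x, y) ∈ Subgroup.closure {(x, y), (z, w)} := Subgroup.subset_closure (by simp)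
      have c2 : (z, w) ∈ Subgroup.closure {(x, y), (z, w)} := Subgroup.subset_closure (by simp)
      rcases hg with rfl | rfl | rfl | rfl
      exacts [⟨mul_mem hu hv, mul_mem c1 c2⟩, ⟨one_mem _, one_mem _⟩, ⟨hu, c1⟩, ⟨hv, c2⟩]
    have hBS : (Finset.univ.filter fun g => g ∈ B) = S := by
      refine (Finset.eq_of_subset_of_card_le (fun g hg => by simpa using (hSB g hg).1) ?_).symm
      rw [hS, ← Fintype.card_subtype, ← Nat.card_eq_fintype_card]
      exact hB4.le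
    intro g hg
    exact (hSB g (hBS ▸ by simpa using hg)).2
  -- the Sylow three-subgroup is a product
  let P1 := (Q : Subgroup (↥(alternatingGroup (Fin 4)) × ↥(alternatingGroup (Fin 4)))).map (MonoidHom.fst ↥(alternatingGroup (Fin 4)) ↥(alternatingGroup (Fin 4)))
  let P2 := (Q : Subgroup (↥(alternatingGroup (Fin 4)) × ↥(alternatingGroup (Fin 4)))).map (MonoidHom.snd ↥(alternatingGroup (Fin 4)) ↥(alternatingGroup (Fin 4)))
  have c3 : ∀ P : Subgroup ↥(alternatingGroup (Fin 4)), Nat.card P ∣ 9 → Nat.card P ≤ 3 := fun P h => by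
    have h12 : Nat.card P ∣ 12 := hA ▸ Subgroup.card_subgroup_dvd_card P
    exact Nat.le_of_dvd (by norm_num) (Nat.dvd_gcd h h12)
  have b1 := c3 P1 (hQ ▸ Subgroup.card_map_dvd (Q : Subgroup (↥(alternatingGroup (Fin 4)) × ↥(alternatingGroup (Fin 4)))) _)
  have b2 := c3 P2 (hQ ▸ Subgroup.card_map_dvd (Q : Subgroup (↥(alternatingGroup (Fin 4)) × ↥(alternatingGroup (Fin 4)))) _)
  have hle : (Q : Subgroup (↥(alternatingGroup (Fin 4)) × ↥(alternatingGroup (Fin 4)))) ≤ P1.prod P2 := fun g hg => ⟨⟨g, hg, rfl⟩, ⟨g, hg, rfl⟩⟩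
  have hcp : Nat.card ↥(P1.prod P2) = Nat.card P1 * Nat.card P2 := by
    rw [Nat.card_congr (P1.prodEquiv P2).toEquiv, Nat.card_prod]
  have h9 : 9 ≤ Nat.card P1 * Nat.card P2 := by rw [← hcp, ← hQ]; exact Subgroup.card_le_of_le hle
  have e1 : Nat.card P1 = 3 := by nlinarith
  have e2 : Nat.card P2 = 3 := by nlinarith
  have heq : (Q : Subgroup (↥(alternatingGroup (Fin 4)) × ↥(alternatingGroup (Fin 4)))) = P1.prod P2 :=
    Subgroup.eq_of_le_of_card_ge hle (by rw [hcp, hQ, e1, e2])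
  obtain ⟨⟨a, ha⟩, ha1⟩ := exists_ne_one (by omega : 1 < Nat.card P1)
  obtain ⟨⟨b, hb⟩, hb1⟩ := exists_ne_one (by omega : 1 < Nat.card P2)
  have a3 : a ^ 3 = 1 := by
    have := congrArg Subtype.val (pow_card_eq_one' (x := (⟨a, ha⟩ : P1))); rwa [e1] at this
  have b3 : b ^ 3 = 1 := by
    have := congrArg Subtype.val (pow_card_eq_one' (x := (⟨b, hb⟩ : P2))); rwa [e2] at this
  have ha' : a ≠ 1 := fun e => ha1 (Subtype.ext e)
  have hb' : b ≠ 1 := fun e => hb1 (Subtype.ext e)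
  have fin : ∀ c ∈ P2, c ^ 3 = 1 → c ≠ 1 →
      (a * x * a⁻¹, c * y * c⁻¹) ∈ [(x, y), (z, w), (x * z, y * w)] →
      (a * z * a⁻¹, c * w * c⁻¹) ∈ [(x, y), (z, w), (x * z, y * w)] →
      ∃ R : Subgroup (↥(alternatingGroup (Fin 4)) × ↥(alternatingGroup (Fin 4))),
        R ≤ (Q : Subgroup (↥(alternatingGroup (Fin 4)) × ↥(alternatingGroup (Fin 4)))) ∧ Nat.card ↥R = 3 ∧ R ≠ (Q : Subgroup (↥(alternatingGroup (Fin 4)) × ↥(alternatingGroup (Fin 4)))) ⊓ Subgroup.prod ⊤ ⊥ ∧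
        R ≠ (Q : Subgroup (↥(alternatingGroup (Fin 4)) × ↥(alternatingGroup (Fin 4)))) ⊓ Subgroup.prod ⊥ ⊤ ∧ R ≤ Subgroup.normalizer (B : Set _) := by
    intro c hc c3' hc1 hm1 hm2
    set r : ↥(alternatingGroup (Fin 4)) × ↥(alternatingGroup (Fin 4)) := (a, c) with hr
    have r3 : r ^ 3 = 1 := Prod.ext a3 c3'
    have inB : ∀ g, g ∈ [(x, y), (z, w), (x * z, y * w)] → g ∈ B := by
      intro g hg
      simp only [List.mem_cons, List.not_mem_nil, or_false] at hg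
      rcases hg with rfl | rfl | rfl
      exacts [hu, hv, mul_mem hu hv]
    have hfwd : ∀ g ∈ B, r * g * r⁻¹ ∈ B := by
      intro g hg
      have hle' : Subgroup.closure {(x, y), (z, w)} ≤ B.comap (MulAut.conj r).toMonoidHom := by
        rw [Subgroup.closure_le]
        rintro g' (rfl | rfl)
        exacts [inB _ hm1, inB _ hm2]
      exact hle' (hgen g hg)
    refine ⟨Subgroup.zpowers r, ?_, ?_, ?_, ?_, ?_⟩
    · rw [Subgroup.zpowers_le, heq]; exact ⟨ha, hc⟩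
    · rw [Nat.card_zpowers]; exact orderOf_eq_prime r3 fun e => ha' (congrArg Prod.fst e)
    · intro e; exact hc1 (Subgroup.mem_bot.1 (e ▸ Subgroup.mem_zpowers r).2.2)
    · intro e; exact ha' (Subgroup.mem_bot.1 (e ▸ Subgroup.mem_zpowers r).2.1)
    · rw [Subgroup.zpowers_le, Subgroup.mem_normalizer_iff]
      refine fun g => ⟨hfwd g, fun h => ?_⟩
      have := hfwd _ (hfwd _ h)
      have e : r * (r * (r * g * r⁻¹) * r⁻¹) * r⁻¹ = r ^ 3 * g * (r ^ 3)⁻¹ := by
        rw [pow_succ, pow_two]; simp only [mul_inv_rev, mul_assoc]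
      rwa [e, r3, one_mul, inv_one, mul_one] at this
  rcases a4_graph a a3 ha' b b3 hb' x hx2 hx y hy2 hy z hz2 hz hzx w hw2 hw hwy with ⟨m1, m2⟩ | ⟨m1, m2⟩
  · exact fin b hb b3 hb' m1 m2
  · exact fin b⁻¹ (inv_mem hb) (by rw [inv_pow, b3, inv_one]) (fun e => hb' (inv_eq_one.1 e))
      (by rwa [inv_inv]) (by rwa [inv_inv])

end Cfsg.Agent.S4406
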