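import Cfsg.Statements.S4407
-- import your own Cfsg.Agent.* helpers here

set_option autoImplicit false
open Cfsg

namespace Cfsg.Agent.S4407

theorem two_cases : ∀ c : ZMod 2, c = 0 ∨ c = 1 := by decide

/-- The module of `3² : D₈` once a line with fixed points is given. -/
theorem core {S M : Type*} [Group S] [Finite S] [AddCommGroup M] [Module (ZMod 2) M] [Finite M]
    (ρ : Representation (ZMod 2) S M) (hfaith : Function.Injective ρ)
    (hirr : ∀ N : Submodule (ZMod 2) M, (∀ s : S, ∀ m ∈ N, ρ s m ∈ N) → N = ⊥ ∨ N = ⊤)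
    {r s a b : S} (ha1 : a ≠ 1) (ha3 : a ^ 3 = 1) (hb3 : b ^ 3 = 1) (hab : a * b = b * a)
    (hr4 : r ^ 4 = 1) (hs2 : s * s = 1) (hsr : s * r = r ^ 3 * s) (hra : r * a = b * r) (hrb : r * b = a⁻¹ * r)
    (hsa : s * a = a * s) (hsb : s * b = b⁻¹ * s) (hgen : Subgroup.closure ({a, b, r, s} : Set S) = ⊤)
    {m0 : M} (hm0 : m0 ≠ 0) (ham0 : ρ a m0 = m0) :
    Nat.card M = 16 ∧ (∃ f : M, f ≠ 0 ∧ ∀ m, (ρ (r * r) m = m ∧ ρ (r * s) m = m) ↔ (m = 0 ∨ m = f)) ∧
      ∃ v w : M, v ≠ 0 ∧ w ≠ 0 ∧ v ≠ w ∧ (ρ (r * r) v = v ∧ ρ s v = v) ∧ (ρ (r * r) w = w ∧ ρ s w = w) := by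
  have hmm : ∀ g h : S, ∀ m, ρ g (ρ h m) = ρ (g * h) m := fun g h m => by rw [map_mul, Module.End.mul_apply]
  have hself : ∀ m : M, m + m = 0 := fun m => ZModModule.add_self m
  have heq : ∀ {x y : M}, x + y = 0 → x = y := fun {x y} h => by
    rwa [← ZModModule.sub_eq_add, sub_eq_zero] at h
  have hab2 : a⁻¹ = a * a := inv_eq_of_mul_eq_one_left (by rw [← pow_two, ← pow_succ]; exact ha3)
  have hbb : b⁻¹ = b * b := inv_eq_of_mul_eq_one_left (by rw [← pow_two, ← pow_succ]; exact hb3)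
  have hr3 : r * r * r = r ^ 3 := by rw [pow_succ, pow_two]
  have har : a * r = r * (b * b) := by
    rw [← hbb]
    exact eq_mul_inv_iff_mul_eq.2 (show a * r * b = r by rw [mul_assoc, hrb, mul_inv_cancel_left])
  -- invariance criterion
  have hinv : ∀ N : Submodule (ZMod 2) M, (∀ m ∈ N, ρ a m ∈ N) → (∀ m ∈ N, ρ b m ∈ N) → (∀ m ∈ N, ρ r m ∈ N) →
      (∀ m ∈ N, ρ s m ∈ N) → ∀ {x : M}, x ∈ N → x ≠ 0 → N = ⊤ := by
    intro N h1 h2 h3 h4 x hx hx0
    refine (hirr N ?_).resolve_left fun e => hx0 (by rw [e, Submodule.mem_bot] at hx; exact hx)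
    intro g
    have hg : g ∈ Subgroup.closure ({a, b, r, s} : Set S) := hgen ▸ Subgroup.mem_top g
    rw [← Subgroup.mem_toSubmonoid, Subgroup.closure_toSubmonoid_of_finite] at hg
    induction hg using Submonoid.closure_induction with
    | mem u hu =>
      rcases hu with rfl | rfl | rfl | hu
      exacts [h1, h2, h3, fun m hm => (Set.mem_singleton_iff.1 hu) ▸ h4 m hm]
    | one => intro m hm; rwa [map_one, Module.End.one_apply]
    | mul u w _ _ hu hw => intro m hm; rw [← hmm]; exact hu _ (hw m hm)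
  -- no common fixed vector
  have hfix : ∀ m, ρ a m = m → ρ b m = m → m = 0 := by
    intro m h1 h2
    by_contra hm
    let N : Submodule (ZMod 2) M :=
      LinearMap.eqLocus (ρ a) LinearMap.id ⊓ LinearMap.eqLocus (ρ b) LinearMap.id
    have hN : ∀ x, x ∈ N ↔ ρ a x = x ∧ ρ b x = x := fun x => Iff.rfl
    have htop := hinv N
      (fun x hx => by rw [(hN x).1 hx |>.1]; exact hx)
      (fun x hx => by rw [(hN x).1 hx |>.2]; exact hx)
      (fun x hx => (hN _).2 ⟨by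
          rw [hmm, har, ← hmm, ← hmm b b, ((hN x).1 hx).2, ((hN x).1 hx).2],
        by rw [hmm, ← hra, ← hmm, ((hN x).1 hx).1]⟩)
      (fun x hx => (hN _).2 ⟨by rw [hmm, ← hsa, ← hmm, ((hN x).1 hx).1], by
          have : b * s = s * (b * b) := by
            rw [← mul_assoc, hsb, mul_assoc b⁻¹ s b, hsb, ← mul_assoc, ← _root_.mul_inv_rev, ← hbb, inv_inv]
          rw [hmm, this, ← hmm, ← hmm b b, ((hN x).1 hx).2, ((hN x).1 hx).2]⟩)
      ((hN m).2 ⟨h1, h2⟩) hm
    refine ha1 (hfaith ?_)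
    rw [map_one]
    exact LinearMap.ext fun x => ((hN x).1 (htop ▸ Submodule.mem_top)).1
  have hB2 : ∀ m, ρ a m = m → ρ b (ρ b m) = m + ρ b m := by
    intro m hm
    refine (heq (hfix (m + ρ b m + ρ b (ρ b m)) ?_ ?_)).symm
    · rw [map_add, map_add, hmm a b, hab, ← hmm b a, hm, hmm a b, hab, ← hmm b a, hmm a b, hab, ← hmm b a, hm]
    · have h3 : ρ b (ρ b (ρ b m)) = m := by
        rw [hmm, hmm, ← pow_two, ← pow_succ, hb3, map_one, Module.End.one_apply]
      rw [map_add, map_add, h3]; abel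
  -- the operator `t = s r²` on the fixed points of `a`
  obtain ⟨t, ht⟩ : ∃ t, t = s * (r * r) := ⟨_, rfl⟩
  have hzr : ∀ x, ρ (r * r) (ρ r x) = ρ r (ρ (r * r) x) := fun x => by rw [hmm, hmm, mul_assoc]
  have hzs : r * r * s = s * (r * r) := by
    rw [← mul_assoc s r r, hsr, mul_assoc (r ^ 3) s r, hsr, ← mul_assoc, ← pow_add]
    rw [show 3 + 3 = 4 + 2 from rfl, pow_add, hr4, one_mul, pow_two]
  have hzz : r * r * (r * r) = 1 := by rw [← hr4]; simp only [pow_succ, pow_zero, one_mul, mul_assoc]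
  have htt : t * t = 1 := by
    rw [ht, mul_assoc, ← mul_assoc (r * r) s, hzs, mul_assoc s (r * r), hzz, mul_one, hs2]
  have hza : a * (r * r) = r * r * (a * a) := by
    have e1 : a * (r * r) = r * (b * b * r) := by rw [← mul_assoc, har, mul_assoc]
    have e2 : b * r = r * a := hra.symm
    rw [e1, mul_assoc b b r, e2, ← mul_assoc b r a, e2]
    simp only [mul_assoc]
  have hzU : ∀ m, ρ a m = m → ρ a (ρ (r * r) m) = ρ (r * r) m := fun m hm => by
    rw [hmm, hza, ← hmm, ← hmm a a, hm, hm]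
  have hsU : ∀ m, ρ a m = m → ρ a (ρ s m) = ρ s m := fun m hm => by rw [hmm, ← hsa, ← hmm, hm]
  have hbU : ∀ m, ρ a m = m → ρ a (ρ b m) = ρ b m := fun m hm => by rw [hmm, hab, ← hmm, hm]
  have htb : t * b = b * t := by
    have e1 : r * r * b = b⁻¹ * (r * r) := by
      have : b * r * a = r * (a * a) := by rw [← hra, mul_assoc]
      rw [mul_assoc, hrb, ← mul_assoc, show r * a⁻¹ = b⁻¹ * r by
        rw [eq_inv_mul_iff_mul_eq, ← mul_assoc, mul_inv_eq_iff_eq_mul, hra], mul_assoc]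
    have e2 : s * b⁻¹ = b * s := by
      rw [mul_inv_eq_iff_eq_mul, mul_assoc, hsb, ← mul_assoc, mul_inv_cancel, one_mul]
    rw [ht, mul_assoc, e1, ← mul_assoc, e2, mul_assoc]
  have htU : ∀ m, ρ a m = m → ρ a (ρ t m) = ρ t m := fun m hm => by
    rw [ht, ← hmm]; exact hsU _ (hzU m hm)
  have htsz : t * s = s * t ∧ t * (r * r) = r * r * t := by
    constructor
    · rw [ht, mul_assoc, hzs]
    · rw [ht, ← mul_assoc (r * r) s, hzs]
  -- all fixed points of `a` are fixed by `t`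
  have hRa : ∀ u, ρ a u = u → ρ b (ρ r u) = ρ r u := fun u hu => by rw [hmm, ← hra, ← hmm, hu]
  have hRinj : ∀ u, ρ r u = 0 → u = 0 := fun u hu => by
    have h1 : ρ (r ^ 3) (ρ r u) = u := by rw [hmm, ← pow_succ, hr4, map_one, Module.End.one_apply]
    rw [hu, map_zero] at h1
    exact h1.symm
  have key : ∀ U0 : Submodule (ZMod 2) M, (∀ u ∈ U0, ρ a u = u) → (∀ u ∈ U0, ρ b u ∈ U0) →
      (∀ u ∈ U0, ρ s u ∈ U0) → (∀ u ∈ U0, ρ (r * r) u ∈ U0) → (∃ u ∈ U0, u ≠ 0) →
      (∀ m, ∃ u ∈ U0, ∃ w ∈ U0, m = u + ρ r w) ∧ ∀ m, ρ a m = m → m ∈ U0 := by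
    intro U0 h1 h2 h3 h4 ⟨u0, hu0, hu00⟩
    have htop := hinv (U0 ⊔ U0.map (ρ r))
      (fun x hx => by
        obtain ⟨u, hu, _, ⟨w, hw, rfl⟩, rfl⟩ := Submodule.mem_sup.1 hx
        rw [map_add, h1 u hu, hmm, har, ← hmm, ← hmm b b]
        exact Submodule.mem_sup.2 ⟨u, hu, _, ⟨_, h2 _ (h2 w hw), rfl⟩, rfl⟩)
      (fun x hx => by
        obtain ⟨u, hu, _, ⟨w, hw, rfl⟩, rfl⟩ := Submodule.mem_sup.1 hx
        rw [map_add, hRa w (h1 w hw)]
        exact Submodule.mem_sup.2 ⟨_, h2 u hu, _, ⟨w, hw, rfl⟩, rfl⟩)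
      (fun x hx => by
        obtain ⟨u, hu, _, ⟨w, hw, rfl⟩, rfl⟩ := Submodule.mem_sup.1 hx
        rw [map_add, hmm r r, add_comm]
        exact Submodule.mem_sup.2 ⟨_, h4 w hw, _, ⟨u, hu, rfl⟩, rfl⟩)
      (fun x hx => by
        obtain ⟨u, hu, _, ⟨w, hw, rfl⟩, rfl⟩ := Submodule.mem_sup.1 hx
        rw [map_add, hmm, hsr, ← hmm, ← hr3, mul_assoc, ← hmm r]
        exact Submodule.mem_sup.2 ⟨_, h3 u hu, _, ⟨_, h4 _ (h3 w hw), rfl⟩, rfl⟩)
      (Submodule.mem_sup_left hu0) hu00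
    have hall : ∀ m, ∃ u ∈ U0, ∃ w ∈ U0, m = u + ρ r w := fun m => by
      obtain ⟨u, hu, _, ⟨w, hw, rfl⟩, e⟩ := Submodule.mem_sup.1 (htop ▸ Submodule.mem_top : m ∈ U0 ⊔ U0.map (ρ r))
      exact ⟨u, hu, w, hw, e.symm⟩
    refine ⟨hall, fun m hm => ?_⟩
    obtain ⟨u, hu, w, hw, e⟩ := hall m
    have h5 : ρ r w = 0 := by
      refine hfix _ ?_ (hRa w (h1 w hw))
      rw [show ρ r w = m - u by rw [e]; abel, map_sub, hm, h1 u hu]
    rw [e, h5, add_zero]; exact hu
  have invfix : ∀ g : S, g * g = 1 → (∀ u, ρ a u = u → ρ a (ρ g u) = ρ g u) →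
      ∃ u, u ≠ 0 ∧ ρ a u = u ∧ ρ g u = u := by
    intro g hg hgU
    by_cases h : ρ g m0 = m0
    · exact ⟨m0, hm0, ham0, h⟩
    · refine ⟨m0 + ρ g m0, fun e => h (heq e).symm, by rw [map_add, ham0, hgU _ ham0], ?_⟩
      rw [map_add, hmm, hg, map_one, Module.End.one_apply, add_comm]
  have htfix : ∀ m, ρ a m = m → ρ t m = m := by
    obtain ⟨u, hu0, hua, hut⟩ := invfix t htt htU
    let U0 : Submodule (ZMod 2) M :=
      LinearMap.eqLocus (ρ a) LinearMap.id ⊓ LinearMap.eqLocus (ρ t) LinearMap.id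
    have hU0 : ∀ x, x ∈ U0 ↔ ρ a x = x ∧ ρ t x = x := fun x => Iff.rfl
    exact fun m hm => ((hU0 m).1 ((key U0 (fun x hx => ((hU0 x).1 hx).1)
      (fun x hx => (hU0 _).2 ⟨hbU x ((hU0 x).1 hx).1, by rw [hmm, htb, ← hmm, ((hU0 x).1 hx).2]⟩)
      (fun x hx => (hU0 _).2 ⟨hsU x ((hU0 x).1 hx).1, by rw [hmm, htsz.1, ← hmm, ((hU0 x).1 hx).2]⟩)
      (fun x hx => (hU0 _).2 ⟨hzU x ((hU0 x).1 hx).1, by rw [hmm, htsz.2, ← hmm, ((hU0 x).1 hx).2]⟩)
      ⟨u, (hU0 u).2 ⟨hua, hut⟩, hu0⟩).2 m hm)).2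
  have hzeq : ∀ m, ρ a m = m → ρ (r * r) m = ρ s m := fun m hm => by
    have h1 := htfix m hm
    rw [ht, ← hmm] at h1
    calc ρ (r * r) m = ρ (s * s) (ρ (r * r) m) := by rw [hs2, map_one, Module.End.one_apply]
      _ = ρ s m := by rw [← hmm, h1]
  obtain ⟨v, hv0, hva, hvs⟩ := invfix s hs2 hsU
  obtain ⟨p, hp⟩ : ∃ p, p = ρ b v := ⟨_, rfl⟩
  have hpa : ρ a p = p := hp ▸ hbU v hva
  have hp2 : ρ b p = v + p := by rw [hp]; exact hB2 v hva
  have hps : ρ s p = v + p := by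
    rw [hp, hmm, hsb, ← hmm, hvs, hbb, ← hmm, ← hp, hp2]
  have hpv : p ≠ v := fun e => hv0 (hfix v hva (hp ▸ e))
  have hp0 : p ≠ 0 := fun e => hv0 (by
    have h1 := hB2 v hva
    rw [← hp, e, map_zero, add_zero] at h1
    exact h1.symm)
  let U0 : Submodule (ZMod 2) M := Submodule.span (ZMod 2) {v, p}
  have hU0 : ∀ x, x ∈ U0 ↔ ∃ c d : ZMod 2, c • v + d • p = x := fun x => Submodule.mem_span_pair
  have hU0a : ∀ x ∈ U0, ρ a x = x := fun x hx => by
    obtain ⟨c, d, rfl⟩ := (hU0 x).1 hx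
    rw [map_add, map_smul, map_smul, hva, hpa]
  have hU0b : ∀ x ∈ U0, ρ b x ∈ U0 := fun x hx => by
    obtain ⟨c, d, rfl⟩ := (hU0 x).1 hx
    exact (hU0 _).2 ⟨d, c + d, by rw [map_add, map_smul, map_smul, ← hp, hp2, smul_add, add_smul]; abel⟩
  have hU0s : ∀ x ∈ U0, ρ s x ∈ U0 := fun x hx => by
    obtain ⟨c, d, rfl⟩ := (hU0 x).1 hx
    exact (hU0 _).2 ⟨c + d, d, by rw [map_add, map_smul, map_smul, hvs, hps, smul_add, add_smul]; abel⟩
  have hvU : v ∈ U0 := Submodule.subset_span (Or.inl rfl)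
  obtain ⟨hall, -⟩ := key U0 hU0a hU0b hU0s
    (fun x hx => by rw [hzeq x (hU0a x hx)]; exact hU0s x hx) ⟨v, hvU, hv0⟩
  have hli : ∀ c d : ZMod 2, c • v + d • p = 0 → c = 0 ∧ d = 0 := by
    intro c d h
    rcases two_cases c with rfl | rfl <;> rcases two_cases d with rfl | rfl
    · exact ⟨rfl, rfl⟩
    · rw [zero_smul, one_smul, zero_add] at h; exact absurd h hp0
    · rw [zero_smul, one_smul, add_zero] at h; exact absurd h hv0
    · rw [one_smul, one_smul] at h; exact absurd (heq h).symm hpv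
  have hdirect : ∀ u ∈ U0, ∀ w ∈ U0, u + ρ r w = 0 → u = 0 ∧ w = 0 := fun u hu w hw h => by
    have h1 : u = ρ r w := heq h
    have h2 : ρ r w = 0 := hfix _ (by rw [← h1]; exact hU0a u hu) (hRa w (hU0a w hw))
    exact ⟨h1.trans h2, hRinj w h2⟩
  obtain ⟨φ, hφ⟩ : ∃ φ : (ZMod 2 × ZMod 2) × (ZMod 2 × ZMod 2) → M,
      φ = fun c => (c.1.1 • v + c.1.2 • p) + ρ r (c.2.1 • v + c.2.2 • p) := ⟨_, rfl⟩
  have hbij : Function.Bijective φ := by
    refine ⟨fun c d h => ?_, fun m => ?_⟩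
    · simp only [hφ] at h
      have h1 := hdirect ((c.1.1 - d.1.1) • v + (c.1.2 - d.1.2) • p) ((hU0 _).2 ⟨_, _, rfl⟩)
        ((c.2.1 - d.2.1) • v + (c.2.2 - d.2.2) • p) ((hU0 _).2 ⟨_, _, rfl⟩) (by
          rw [sub_smul, sub_smul, sub_smul, sub_smul, map_add, map_sub, map_sub]
          rw [map_add, map_add] at h
          rw [← sub_eq_zero] at h
          rw [← h]; abel)
      obtain ⟨h2, h3⟩ := hli _ _ h1.1
      obtain ⟨h4, h5⟩ := hli _ _ h1.2
      exact Prod.ext (Prod.ext (sub_eq_zero.1 h2) (sub_eq_zero.1 h3))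
        (Prod.ext (sub_eq_zero.1 h4) (sub_eq_zero.1 h5))
    · obtain ⟨u, hu, w, hw, rfl⟩ := hall m
      obtain ⟨c, d, rfl⟩ := (hU0 u).1 hu
      obtain ⟨c', d', rfl⟩ := (hU0 w).1 hw
      exact ⟨((c, d), (c', d')), by rw [hφ]⟩
  have hsm : ∀ c : ZMod 2, c • v = 0 → c = 0 := fun c h =>
    (two_cases c).resolve_right fun e => hv0 (by rwa [e, one_smul] at h)
  refine ⟨?_, ?_, ?_⟩
  · rw [← Nat.card_eq_of_bijective φ hbij]; simp
  · have hrv : ρ (r * s) v = ρ r v := by rw [← hmm, hvs]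
    have hrrv : ρ (r * s) (ρ r v) = v := by
      rw [hmm, mul_assoc, hsr, ← mul_assoc, ← pow_succ', hr4, one_mul, hvs]
    have hzv : ρ (r * r) v = v := by rw [hzeq v hva, hvs]
    have hzrv : ρ (r * r) (ρ r v) = ρ r v := by rw [hzr, hzv]
    refine ⟨v + ρ r v, fun e => hv0 (hdirect v hvU v hvU e).1, fun m => ⟨fun ⟨h1, h2⟩ => ?_, ?_⟩⟩
    · obtain ⟨⟨⟨c, d⟩, ⟨c', d'⟩⟩, rfl⟩ := hbij.2 m
      simp only [hφ] at h1 h2 ⊢
      have hz : ∀ c d : ZMod 2, ρ (r * r) (c • v + d • p) = c • v + d • p + d • v := fun c d => by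
        rw [map_add, map_smul, map_smul, hzv, hzeq p hpa, hps, smul_add]; abel
      rw [map_add, hzr, hz, hz, map_add (ρ r) _ (d' • v)] at h1
      have h3 := hdirect (d • v) (U0.smul_mem _ hvU) (d' • v) (U0.smul_mem _ hvU) (by
        have h4 := sub_eq_zero.2 h1
        rw [← h4]; abel)
      have hd : d = 0 := hsm d h3.1
      have hd' : d' = 0 := hsm d' h3.2
      subst hd hd'
      simp only [zero_smul, add_zero, map_add, map_smul, hrv, hrrv] at h2 ⊢
      have h4 := hdirect ((c' - c) • v) (U0.smul_mem _ hvU) ((c - c') • v) (U0.smul_mem _ hvU) (by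
        rw [map_smul, sub_smul, sub_smul, ← sub_eq_zero.2 h2]; abel)
      have hc : c' = c := sub_eq_zero.1 (hsm _ h4.1)
      subst hc
      rcases two_cases c' with rfl | rfl
      · left; simp
      · right; simp
    · rintro (rfl | rfl)
      · simp
      · exact ⟨by rw [map_add, hzv, hzrv], by rw [map_add, hrv, hrrv, add_comm]⟩
  · have hzv : ρ (r * r) v = v := by rw [hzeq v hva, hvs]
    refine ⟨v, ρ r v, hv0, fun e => hv0 (hRinj v e), fun e => hv0 ?_, ⟨hzv, hvs⟩, ?_, ?_⟩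
    · exact hfix v hva (e ▸ hRa v hva)
    · rw [hzr, hzv]
    · rw [hmm, hsr, ← hr3, ← hmm (r * r * r) s v, hvs, ← hmm (r * r) r v, hzr, hzv]

theorem sr_r : ∀ k : ZMod 4,
    DihedralGroup.sr k * DihedralGroup.r 1 = DihedralGroup.r 1 ^ 3 * DihedralGroup.sr k := by decide

theorem r_sr : ∀ k : ZMod 4, DihedralGroup.sr (k - 1) = DihedralGroup.r 1 * DihedralGroup.sr k := by decide

theorem sr_two : ∀ j : ZMod 4, DihedralGroup.sr (j + 2) = DihedralGroup.sr j * DihedralGroup.r 2 := by decide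

theorem normal_form : ∀ (k : ZMod 4) (y : DihedralGroup 4), ∃ i : Fin 4,
    y = DihedralGroup.r 1 ^ (i : ℕ) ∨ y = DihedralGroup.r 1 ^ (i : ℕ) * DihedralGroup.sr k := by decide

theorem four_card : ∀ j : ZMod 4, ({1, DihedralGroup.r 2, DihedralGroup.sr j,
    DihedralGroup.sr (j + 2)} : Finset (DihedralGroup 4)).card = 4 := by decide

/-- The four group containing `sr j`. -/
def four (j : ZMod 4) : Subgroup (DihedralGroup 4) where
  carrier := {x | x = 1 ∨ x = DihedralGroup.r 2 ∨ x = DihedralGroup.sr j ∨ x = DihedralGroup.sr (j + 2)}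
  one_mem' := Or.inl rfl
  mul_mem' := by
    intro x y hx hy
    rcases hx with rfl | rfl | rfl | rfl <;> rcases hy with rfl | rfl | rfl | rfl <;>
      (revert j; decide)
  inv_mem' := by
    intro x hx
    rcases hx with rfl | rfl | rfl | rfl <;> (revert j; decide)

theorem mem_four {j : ZMod 4} {x : DihedralGroup 4} :
    x ∈ four j ↔ x = 1 ∨ x = DihedralGroup.r 2 ∨ x = DihedralGroup.sr j ∨ x = DihedralGroup.sr (j + 2) := Iff.rfl

theorem four_sq : ∀ (j : ZMod 4) (x : DihedralGroup 4),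
    (x = 1 ∨ x = DihedralGroup.r 2 ∨ x = DihedralGroup.sr j ∨ x = DihedralGroup.sr (j + 2)) → x * x = 1 := by
  decide

theorem four_split : ∀ (j : ZMod 4) (y : DihedralGroup 4), y * y = 1 →
    (y = 1 ∨ y = DihedralGroup.r 2 ∨ y = DihedralGroup.sr j ∨ y = DihedralGroup.sr (j + 2)) ∨
    (y = 1 ∨ y = DihedralGroup.r 2 ∨ y = DihedralGroup.sr (j + 1) ∨ y = DihedralGroup.sr (j + 1 + 2)) := by
  decide

theorem four_absorb : ∀ (j : ZMod 4) (x y : DihedralGroup 4),
    (x = DihedralGroup.sr j ∨ x = DihedralGroup.sr (j + 2)) → y * y = 1 → x * y * (x * y) = 1 →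
    (y = 1 ∨ y = DihedralGroup.r 2 ∨ y = DihedralGroup.sr j ∨ y = DihedralGroup.sr (j + 2)) := by
  decide

/-- Let S be a finite group with a normal elementary abelian subgroup A of order 9 that is self-centralizing (C_S(A) = A), and a dihedral subgroup X of order 8 with S = AX. Let M be a finite-dimensional module for S over the field with two elements that is faithful and irreducible. Then M has 16 elements, and X contains exactly one subgroup B of order 4 and exponent 2 whose fixed points on M form a subspace with exactly 2 elements (equivalently, M is free of rank one over the group algebra of B). -/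
theorem result {S : Type*} [Group S] [Finite S]
    (A : Subgroup S) [A.Normal] (hA : Cfsg.IsElementaryAbelian 3 A) (hA9 : Nat.card ↥A = 9)
    (hAC : Subgroup.centralizer (A : Set S) = A) (X : Subgroup S) (hX : Nonempty (↥X ≃* DihedralGroup 4)) (hAX : A ⊔ X = ⊤)
    {M : Type*} [AddCommGroup M] [Module (ZMod 2) M] [Finite M] (ρ : Representation (ZMod 2) S M)
    (hfaith : Function.Injective ρ)
    (hirr : ∀ N : Submodule (ZMod 2) M, (∀ s : S, ∀ m ∈ N, ρ s m ∈ N) → N = ⊥ ∨ N = ⊤) (hM : Nontrivial M) :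
    Nat.card M = 16 ∧
      ∃! B : Subgroup S, B ≤ X ∧ Nat.card ↥B = 4 ∧ (∀ b ∈ B, b ^ 2 = 1) ∧
        Nat.card {m : M // ∀ b ∈ B, ρ b m = m} = 2 := by
  classical
  haveI : Fact (Nat.Prime 3) := ⟨Nat.prime_three⟩
  obtain ⟨eX⟩ := hX
  set ι : DihedralGroup 4 →* S := X.subtype.comp eX.symm.toMonoidHom with hι
  have hιinj : Function.Injective ι := X.subtype_injective.comp eX.symm.injective
  have hιX : ι.range = X := by
    rw [hι, MonoidHom.range_comp, MonoidHom.range_eq_top.2 eX.symm.surjective, ← MonoidHom.range_eq_map,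
      Subgroup.range_subtype]
  have hAc : ∀ x ∈ A, ∀ y ∈ A, x * y = y * x := fun x hx y hy =>
    congrArg Subtype.val (hA.1.is_comm.comm (⟨x, hx⟩ : A) ⟨y, hy⟩)
  have hA3 : ∀ x ∈ A, x ^ 3 = 1 := hA.2
  have hnrm : ∀ g : S, ∀ x ∈ A, g * x * g⁻¹ ∈ A := fun g x hx => Subgroup.Normal.conj_mem inferInstance x hx g
  have hfaithA : ∀ y : DihedralGroup 4, (∀ x ∈ A, x * ι y = ι y * x) → y = 1 := by
    intro y hy
    have h1 : ι y ∈ A := hAC ▸ Subgroup.mem_centralizer_iff.2 hy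
    have h2 : orderOf (ι y) ∣ 3 := orderOf_dvd_of_pow_eq_one (hA3 _ h1)
    rw [orderOf_injective ι hιinj] at h2
    have h3 : orderOf y ∣ 8 := by
      have := orderOf_dvd_natCard y
      rwa [DihedralGroup.nat_card] at this
    exact orderOf_eq_one_iff.1 (Nat.eq_one_of_dvd_coprimes (by norm_num : Nat.Coprime 3 8) h2 h3)
  -- `z` inverts `A`
  obtain ⟨z, hz⟩ : ∃ z, z = ι (DihedralGroup.r 2) := ⟨_, rfl⟩
  have hz2 : z * z = 1 := by
    rw [hz, ← map_mul, show (DihedralGroup.r 2 * DihedralGroup.r 2 : DihedralGroup 4) = 1 by decide, map_one]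
  have hzinv : ∀ x ∈ A, z * x * z⁻¹ = x⁻¹ := by
    have hzi : z⁻¹ = z := inv_eq_of_mul_eq_one_left hz2
    by_contra hcon
    push Not at hcon
    obtain ⟨x, hx, hxne⟩ := hcon
    let Cm : Subgroup S :=
      { carrier := {y | y ∈ A ∧ z * y * z⁻¹ = y⁻¹}
        one_mem' := ⟨one_mem A, by simp⟩
        mul_mem' := fun {p q} hp hq => ⟨mul_mem hp.1 hq.1, by
          rw [show z * (p * q) * z⁻¹ = (z * p * z⁻¹) * (z * q * z⁻¹) by group, hp.2, hq.2,
            hAc _ (inv_mem hp.1) _ (inv_mem hq.1), mul_inv_rev]⟩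
        inv_mem' := fun {p} hp => ⟨inv_mem hp.1, by
          rw [show z * p⁻¹ * z⁻¹ = (z * p * z⁻¹)⁻¹ by group, hp.2]⟩ }
    obtain ⟨y, hy, hyne⟩ : ∃ y ∈ A, z * y * z⁻¹ ≠ y := by
      by_contra hall
      push Not at hall
      have := hfaithA (DihedralGroup.r 2) fun y hy => by
        rw [← hz]; exact (mul_inv_eq_iff_eq_mul.1 (hall y hy)).symm
      exact absurd this (by decide)
    obtain ⟨w, hw⟩ : ∃ w, w = y⁻¹ * (z * y * z⁻¹) := ⟨_, rfl⟩
    have hw1 : w ≠ 1 := fun e => hyne (by rw [hw, inv_mul_eq_one] at e; exact e.symm)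
    have hwA : w ∈ A := hw ▸ mul_mem (inv_mem hy) (hnrm z y hy)
    have hwC : w ∈ Cm := ⟨hwA, by
      rw [hw, show z * (y⁻¹ * (z * y * z⁻¹)) * z⁻¹ = (z * y * z⁻¹)⁻¹ * (z * z * y * (z * z)⁻¹) by group, hz2,
        inv_one, one_mul, mul_one, mul_inv_rev y⁻¹, inv_inv]⟩
    have hCc : Nat.card Cm = 3 := by
      have h1 : Nat.card Cm ∣ 3 ^ 2 := by
        rw [show (3 : ℕ) ^ 2 = Nat.card A by rw [hA9]; norm_num]
        exact Subgroup.card_dvd_of_le fun u hu => hu.1
      obtain ⟨i, hi, e⟩ := (Nat.dvd_prime_pow Nat.prime_three).1 h1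
      interval_cases i
      · rw [pow_zero, Subgroup.card_eq_one] at e
        rw [e, Subgroup.mem_bot] at hwC
        exact absurd hwC hw1
      · simpa using e
      · exfalso
        have h2 : Cm = A := Subgroup.eq_of_le_of_card_ge (fun u hu => hu.1) (by rw [e, hA9]; norm_num)
        have h3 : x ∈ Cm := h2 ▸ hx
        exact hxne h3.2
    obtain ⟨r, hr⟩ : ∃ r, r = ι (DihedralGroup.r 1) := ⟨_, rfl⟩
    have hrr : r * r = z := by
      rw [hr, hz, ← map_mul, show (DihedralGroup.r 1 * DihedralGroup.r 1 : DihedralGroup 4) = DihedralGroup.r 2 by decide]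
    have hrw : r * w * r⁻¹ ∈ Cm := ⟨hnrm r w hwA, by
      have h1 : r * r * w * (r * r)⁻¹ = w⁻¹ := hrr ▸ hwC.2
      rw [← hrr]
      calc r * r * (r * w * r⁻¹) * (r * r)⁻¹ = r * (r * r * w * (r * r)⁻¹) * r⁻¹ := by group
        _ = r * w⁻¹ * r⁻¹ := by rw [h1]
        _ = (r * w * r⁻¹)⁻¹ := by group⟩
    have hzp : Subgroup.zpowers w = Cm := by
      refine Subgroup.eq_of_le_of_card_ge (Subgroup.zpowers_le.2 hwC) ?_
      rw [hCc, Nat.card_zpowers, orderOf_eq_prime (hA3 w hwA) hw1]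
    rw [← hzp, ← mem_powers_iff_mem_zpowers, Submonoid.mem_powers_iff] at hrw
    obtain ⟨k, hk⟩ := hrw
    have hk3 : w ^ (k % 3) = r * w * r⁻¹ := by rw [← hk, ← pow_eq_pow_mod k (hA3 w hwA)]
    have h4 : z * w * z⁻¹ = w ^ (k % 3 * (k % 3)) := by
      rw [← hrr, show r * r * w * (r * r)⁻¹ = r * (r * w * r⁻¹) * r⁻¹ by group, ← hk3, ← conj_pow, ← hk3,
        ← pow_mul]
    rw [hwC.2] at h4
    have h5 : k % 3 < 3 := Nat.mod_lt _ (by norm_num)
    interval_cases hj : k % 3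
    · simp at h4; exact hw1 h4
    · simp at h4
      exact hw1 (by
        have h6 : w ^ 2 = 1 := by rw [pow_two]; nth_rw 1 [← h4]; exact inv_mul_cancel w
        have h7 := hA3 w hwA
        rwa [pow_succ, h6, one_mul] at h7)
    · have h6 : w ^ (2 * 2) = w := by
        rw [show 2 * 2 = 3 + 1 from rfl, pow_add, hA3 w hwA, one_mul, pow_one]
      rw [h6] at h4
      exact hw1 (by
        have h8 : w ^ 2 = 1 := by rw [pow_two]; nth_rw 1 [← h4]; exact inv_mul_cancel w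
        have h7 := hA3 w hwA
        rwa [pow_succ, h8, one_mul] at h7)
  have hne : ∀ x ∈ A, x⁻¹ = x → x = 1 := fun x hx e => by
    have h6 : x ^ 2 = 1 := by rw [pow_two]; nth_rw 1 [← e]; exact inv_mul_cancel x
    have h7 := hA3 x hx
    rwa [pow_succ, h6, one_mul] at h7
  -- the case of a given line
  have main : ∀ (k : ZMod 4) (a : S), a ∈ A → a ≠ 1 → ι (DihedralGroup.sr k) * a = a * ι (DihedralGroup.sr k) →
      (∃ m, m ≠ 0 ∧ ρ a m = m) → Nat.card M = 16 ∧ ∃! B : Subgroup S, B ≤ X ∧ Nat.card ↥B = 4 ∧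
        (∀ b ∈ B, b ^ 2 = 1) ∧ Nat.card {m : M // ∀ b ∈ B, ρ b m = m} = 2 := by
    intro k a ha ha1 hsa ⟨m0, hm0, ham0⟩
    obtain ⟨r, hr⟩ : ∃ r, r = ι (DihedralGroup.r 1) := ⟨_, rfl⟩
    obtain ⟨s, hs⟩ : ∃ s, s = ι (DihedralGroup.sr k) := ⟨_, rfl⟩
    obtain ⟨b, hb⟩ : ∃ b, b = r * a * r⁻¹ := ⟨_, rfl⟩
    rw [← hs] at hsa
    have hbA : b ∈ A := hb ▸ hnrm r a ha
    have hra : r * a = b * r := by rw [hb]; group
    have hzr : z = r * r := by
      rw [hr, hz, ← map_mul, show (DihedralGroup.r 1 * DihedralGroup.r 1 : DihedralGroup 4) = DihedralGroup.r 2 by decide]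
    have hrb : r * b = a⁻¹ * r := by
      rw [← hzinv a ha, hzr, hb]; group
    have hr4 : r ^ 4 = 1 := by
      rw [hr, ← map_pow, show (DihedralGroup.r 1 : DihedralGroup 4) ^ 4 = 1 by decide, map_one]
    have hs2 : s * s = 1 := by rw [hs, ← map_mul, DihedralGroup.sr_mul_self, map_one]
    have hsr : s * r = r ^ 3 * s := by
      rw [hs, hr, ← map_pow, ← map_mul, ← map_mul]
      exact congrArg ι (sr_r k)
    have hsb : s * b = b⁻¹ * s := by
      have h1 : s * b * s⁻¹ = z * b * z⁻¹ := by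
        rw [hb, hzr]
        have e1 : s * r = r * r * r * s := by rw [hsr, pow_succ, pow_two]
        calc s * (r * a * r⁻¹) * s⁻¹ = s * r * a * (s * r)⁻¹ := by group
          _ = r * r * r * s * a * (r * r * r * s)⁻¹ := by rw [e1]
          _ = r * r * r * (s * a * s⁻¹) * (r * r * r)⁻¹ := by group
          _ = r * r * r * a * (r * r * r)⁻¹ := by rw [hsa, mul_inv_cancel_right]
          _ = r * r * (r * a * r⁻¹) * (r * r)⁻¹ := by group
      rw [hzinv b hbA, mul_inv_eq_iff_eq_mul] at h1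
      exact h1
    have hgen : Subgroup.closure ({a, b, r, s} : Set S) = ⊤ := by
      refine eq_top_iff.2 (hAX ▸ sup_le ?_ ?_)
      · have hle : Subgroup.closure {a, b} ≤ A := (Subgroup.closure_le _).2 (by
          rintro x (rfl | rfl)
          exacts [ha, hbA])
        have hd : Nat.card (Subgroup.closure ({a, b} : Set S)) ∣ 3 ^ 2 := by
          rw [show (3 : ℕ) ^ 2 = Nat.card A by rw [hA9]; norm_num]
          exact Subgroup.card_dvd_of_le hle
        have h3 : Subgroup.zpowers a < Subgroup.closure ({a, b} : Set S) := by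
          refine lt_of_le_of_ne (Subgroup.zpowers_le.2 (Subgroup.subset_closure (Or.inl rfl))) fun e => ?_
          have : b ∈ Subgroup.zpowers a := e ▸ Subgroup.subset_closure (Or.inr rfl)
          obtain ⟨i, hi⟩ := Subgroup.mem_zpowers_iff.1 this
          have h4 : s * b = b * s := by rw [← hi]; exact ((show Commute s a from hsa).zpow_right i).eq
          rw [hsb, mul_left_inj] at h4
          have hb1 := hne b hbA h4
          rw [hb, conj_eq_one_iff] at hb1
          exact ha1 hb1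
        have h4 : Nat.card (Subgroup.zpowers a) < Nat.card (Subgroup.closure ({a, b} : Set S)) := by
          by_contra hlt
          push Not at hlt
          exact h3.ne (Subgroup.eq_of_le_of_card_ge h3.le hlt)
        rw [Nat.card_zpowers, orderOf_eq_prime (hA3 a ha) ha1] at h4
        obtain ⟨i, hi, e⟩ := (Nat.dvd_prime_pow Nat.prime_three).1 hd
        have : Subgroup.closure ({a, b} : Set S) = A := Subgroup.eq_of_le_of_card_ge hle (by
          rw [hA9]; interval_cases i <;> omega)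
        rw [← this]
        exact Subgroup.closure_mono (by
          rintro x (rfl | rfl)
          exacts [Or.inl rfl, Or.inr (Or.inl rfl)])
      · rw [← hιX]
        rintro _ ⟨y, rfl⟩
        obtain ⟨i, hi⟩ := normal_form k y
        have hr' : r ∈ Subgroup.closure ({a, b, r, s} : Set S) :=
          Subgroup.subset_closure (Or.inr (Or.inr (Or.inl rfl)))
        have hs' : s ∈ Subgroup.closure ({a, b, r, s} : Set S) :=
          Subgroup.subset_closure (Or.inr (Or.inr (Or.inr rfl)))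
        rcases hi with rfl | rfl
        · rw [map_pow, ← hr]; exact pow_mem hr' _
        · rw [map_mul, map_pow, ← hr, ← hs]; exact mul_mem (pow_mem hr' _) hs'
    obtain ⟨hM16, ⟨f, hf0, hf⟩, ⟨v, w, hv0, hw0, hvw, hv, hw⟩⟩ :=
      core ρ hfaith hirr ha1 (hA3 a ha) (hA3 b hbA) (hAc a ha b hbA) hr4 hs2 hsr hra hrb hsa hsb hgen hm0 ham0
    refine ⟨hM16, ?_⟩
    have hmm : ∀ g h : S, ∀ m, ρ g (ρ h m) = ρ (g * h) m := fun g h m => by rw [map_mul, Module.End.mul_apply]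
    have hfour : ∀ (j : ZMod 4) (m : M), (∀ x ∈ (four j).map ι, ρ x m = m) ↔
        (ρ (r * r) m = m ∧ ρ (ι (DihedralGroup.sr j)) m = m) := by
      intro j m
      constructor
      · intro h
        exact ⟨h _ ⟨_, mem_four.2 (Or.inr (Or.inl rfl)), hz.symm.trans hzr⟩,
          h _ ⟨_, mem_four.2 (Or.inr (Or.inr (Or.inl rfl))), rfl⟩⟩
      · rintro ⟨h1, h2⟩ _ ⟨x, hx, rfl⟩
        rw [← hzr, hz] at h1
        rcases mem_four.1 hx with rfl | rfl | rfl | rfl
        · rw [map_one, map_one, Module.End.one_apply]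
        · exact h1
        · exact h2
        · rw [sr_two j,
            map_mul ι, ← hmm, h1, h2]
    have hrs : ι (DihedralGroup.sr (k - 1)) = r * s := by
      rw [hr, hs, ← map_mul]
      exact congrArg ι (r_sr k)
    have hcard4 : ∀ j, Nat.card ((four j).map ι) = 4 := fun j => by
      rw [Subgroup.card_map_of_injective hιinj, ← SetLike.coe_sort_coe, Nat.card_coe_set_eq,
        show ((four j : Subgroup (DihedralGroup 4)) : Set (DihedralGroup 4)) = ↑({1, DihedralGroup.r 2,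
          DihedralGroup.sr j, DihedralGroup.sr (j + 2)} : Finset (DihedralGroup 4)) by
          ext x; simp [mem_four], Set.ncard_coe_finset, four_card j]
    refine ⟨(four (k - 1)).map ι, ⟨hιX ▸ Subgroup.map_le_range _ _, hcard4 _, ?_, ?_⟩, ?_⟩
    · rintro _ ⟨x, hx, rfl⟩
      rw [pow_two, ← map_mul, four_sq _ x (mem_four.1 hx), map_one]
    · have : {m : M | ∀ x ∈ (four (k - 1)).map ι, ρ x m = m} = {0, f} := by
        ext m
        rw [Set.mem_setOf_eq, hfour, hrs, hf]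
        rfl
      rw [← Set.coe_setOf, Nat.card_coe_set_eq, this, Set.ncard_pair hf0.symm]
    · rintro B ⟨hBX, hB4, hB2, hBf⟩
      obtain ⟨K, hK⟩ : ∃ K, K = B.comap ι := ⟨_, rfl⟩
      have hBK : B = K.map ι := by rw [hK, Subgroup.map_comap_eq, hιX, inf_eq_right.2 hBX]
      have hKsq : ∀ y ∈ K, y * y = 1 := fun y hy => hιinj (by
        rw [map_mul, map_one, ← pow_two]; exact hB2 _ (hBK ▸ Subgroup.mem_map_of_mem ι hy))
      have hle : ∀ j, (∀ y ∈ K, y ∈ four j) → B = (four j).map ι := fun j h =>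
        Subgroup.eq_of_le_of_card_ge (hBK ▸ Subgroup.map_mono h) (by rw [hcard4, hB4])
      by_cases hx : ∃ x ∈ K, x = DihedralGroup.sr (k - 1) ∨ x = DihedralGroup.sr (k - 1 + 2)
      · obtain ⟨x, hxK, hx⟩ := hx
        exact hle _ fun y hy => mem_four.2 (four_absorb _ x y hx (hKsq y hy) (hKsq _ (mul_mem hxK hy)))
      · push Not at hx
        exfalso
        have hBk := hle k fun y hy => by
          rcases four_split (k - 1) y (hKsq y hy) with h | h
          · rcases h with h | h | h | h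
            · exact mem_four.2 (Or.inl h)
            · exact mem_four.2 (Or.inr (Or.inl h))
            · exact absurd h (hx y hy).1
            · exact absurd h (hx y hy).2
          · rw [sub_add_cancel] at h
            exact mem_four.2 h
        have hsub : ({0, v, w} : Set M) ⊆ {m : M | ∀ x ∈ B, ρ x m = m} := by
          rintro m (rfl | rfl | rfl)
          · intro x _; exact map_zero _
          · rw [Set.mem_setOf_eq, hBk, hfour, ← hs]; exact hv
          · rw [Set.mem_setOf_eq, hBk, hfour, ← hs]; exact hw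
        have h3 := Set.ncard_le_ncard hsub (Set.toFinite _)
        rw [← Nat.card_coe_set_eq {m : M | ∀ x ∈ B, ρ x m = m}, Set.coe_setOf, hBf,
          Set.ncard_insert_of_notMem (by simp [hv0.symm, hw0.symm]), Set.ncard_pair hvw] at h3
        omega
  -- choice of the line
  obtain ⟨r, hr⟩ : ∃ r, r = ι (DihedralGroup.r 1) := ⟨_, rfl⟩
  obtain ⟨s, hs⟩ : ∃ s, s = ι (DihedralGroup.sr 0) := ⟨_, rfl⟩
  obtain ⟨a, ha, ha1, hsa⟩ : ∃ a ∈ A, a ≠ 1 ∧ s * a = a * s := by
    obtain ⟨x, hx, hxne⟩ : ∃ x ∈ A, s * x * s⁻¹ ≠ x⁻¹ := by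
      by_contra hall
      push Not at hall
      have := hfaithA (DihedralGroup.r 2 * DihedralGroup.sr 0) fun x hx => by
        rw [map_mul, ← hz, ← hs]
        refine (mul_inv_eq_iff_eq_mul.1 ?_).symm
        rw [show z * s * x * (z * s)⁻¹ = z * (s * x * s⁻¹) * z⁻¹ by group, hall x hx, hzinv _ (inv_mem hx),
          inv_inv]
      exact absurd this (by decide)
    refine ⟨x * (s * x * s⁻¹), mul_mem hx (hnrm s x hx), fun e => hxne (eq_inv_of_mul_eq_one_right e), ?_⟩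
    have hs2 : s * s = 1 := by rw [hs, ← map_mul, DihedralGroup.sr_mul_self, map_one]
    rw [← mul_inv_eq_iff_eq_mul, show s * (x * (s * x * s⁻¹)) * s⁻¹ = s * x * s⁻¹ * (s * s * x * (s * s)⁻¹) by group,
      hs2, inv_one, one_mul, mul_one]
    exact hAc _ (hnrm s x hx) _ hx
  have hzr : z = r * r := by
    rw [hr, hz, ← map_mul, show (DihedralGroup.r 1 * DihedralGroup.r 1 : DihedralGroup 4) = DihedralGroup.r 2 by decide]
  obtain ⟨b, hb⟩ : ∃ b, b = r * a * r⁻¹ := ⟨_, rfl⟩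
  have hbA : b ∈ A := hb ▸ hnrm r a ha
  have hza := hzinv a ha
  have hzb := hzinv b hbA
  have hb1 : b ≠ 1 := fun e => ha1 (conj_eq_one_iff.1 (hb ▸ e))
  have hrb : r * b * r⁻¹ = a⁻¹ := by rw [← hza, hzr, hb]; group
  have hsb : s * b * s⁻¹ = b⁻¹ := by
    have e1 : s * r = r * r * r * s := by
      rw [hs, hr, ← map_mul, ← map_mul, ← map_mul, ← map_mul]
      exact congrArg ι (by decide)
    rw [← hzb, hzr, hb]
    calc s * (r * a * r⁻¹) * s⁻¹ = s * r * a * (s * r)⁻¹ := by group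
      _ = r * r * r * s * a * (r * r * r * s)⁻¹ := by rw [e1]
      _ = r * r * r * (s * a * s⁻¹) * (r * r * r)⁻¹ := by group
      _ = r * r * r * a * (r * r * r)⁻¹ := by rw [hsa, mul_inv_cancel_right]
      _ = r * r * (r * a * r⁻¹) * (r * r)⁻¹ := by group
  have hbnot : ∀ y, (y = b ∨ y = b⁻¹) → a * y ≠ 1 := by
    intro y hy e
    have h1 : y = a⁻¹ := eq_inv_of_mul_eq_one_right e
    have h2 : s * b = b * s := by
      rcases hy with rfl | rfl
      · rw [h1]; exact ((show Commute s a from hsa).inv_right).eq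
      · rw [inv_inj.1 h1]; exact hsa
    rw [mul_inv_eq_iff_eq_mul, h2, mul_left_inj] at hsb
    exact hb1 (hne b hbA hsb.symm)
  -- one of four lines has fixed points
  have hmm : ∀ g h : S, ∀ m, ρ g (ρ h m) = ρ (g * h) m := fun g h m => by rw [map_mul, Module.End.mul_apply]
  have hself : ∀ m : M, m + m = 0 := fun m => ZModModule.add_self m
  obtain ⟨m, hm⟩ := exists_ne (0 : M)
  by_cases hCa : ∃ m, m ≠ 0 ∧ ρ a m = m
  · exact main 0 a ha ha1 (hs ▸ hsa) hCa
  by_cases hCb : ∃ m, m ≠ 0 ∧ ρ b m = m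
  · refine main 2 b hbA hb1 ?_ hCb
    rw [show (DihedralGroup.sr 2 : DihedralGroup 4) = DihedralGroup.sr 0 * DihedralGroup.r 2 by decide, map_mul,
      ← hs, ← hz, ← mul_inv_eq_iff_eq_mul,
      show s * z * b * (s * z)⁻¹ = s * (z * b * z⁻¹) * s⁻¹ by group, hzb,
      show s * b⁻¹ * s⁻¹ = (s * b * s⁻¹)⁻¹ by group, hsb, inv_inv]
  push Not at hCa hCb
  have hphi : ∀ g : S, g ^ 3 = 1 → (∀ m, m ≠ 0 → ρ g m ≠ m) → ∀ m, ρ g (ρ g m) = m + ρ g m := by
    intro g hg hno m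
    have h0 : m + ρ g m + ρ g (ρ g m) = 0 := by
      by_contra h
      refine hno _ h ?_
      rw [map_add, map_add, hmm g g, hmm g (g * g), ← mul_assoc, ← pow_two, ← pow_succ, hg, map_one,
        Module.End.one_apply]
      abel
    have h1 : ρ g (ρ g m) = -(m + ρ g m) := eq_neg_of_add_eq_zero_right h0
    rw [h1, ZModModule.neg_eq_self]
  have hab := hAc a ha b hbA
  by_cases hCab : ρ a m + m + ρ b m = 0
  · refine main 3 (a * b) (mul_mem ha hbA) (hbnot b (Or.inl rfl)) ?_ ⟨m, hm, ?_⟩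
    · rw [show (DihedralGroup.sr 3 : DihedralGroup 4) = DihedralGroup.r 1 * DihedralGroup.sr 0 by decide, map_mul,
        ← hr, ← hs, ← mul_inv_eq_iff_eq_mul,
        show r * s * (a * b) * (r * s)⁻¹ = r * (s * a * s⁻¹) * r⁻¹ * (r * (s * b * s⁻¹) * r⁻¹) by group,
        hsb, hsa, mul_inv_cancel_right, ← hb, show r * b⁻¹ * r⁻¹ = (r * b * r⁻¹)⁻¹ by group, hrb, inv_inv, hab]
    · have h1 : ρ b m = ρ a m + m := by
        rw [← ZModModule.neg_eq_self (ρ a m + m)]
        exact eq_neg_of_add_eq_zero_right hCab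
      rw [← hmm, h1, map_add, hphi a (hA3 a ha) hCa, add_assoc, hself, add_zero]
  · refine main 1 (a * b⁻¹) (mul_mem ha (inv_mem hbA)) (hbnot b⁻¹ (Or.inr rfl)) ?_
      ⟨ρ a m + m + ρ b m, hCab, ?_⟩
    · rw [show (DihedralGroup.sr 1 : DihedralGroup 4) =
          DihedralGroup.r 1 * DihedralGroup.sr 0 * DihedralGroup.r 2 by decide, map_mul, map_mul,
        ← hr, ← hs, ← hz, ← mul_inv_eq_iff_eq_mul,
        show r * s * z * (a * b⁻¹) * (r * s * z)⁻¹ = r * (s * (z * a * z⁻¹) * s⁻¹) * r⁻¹ *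
          (r * (s * (z * b * z⁻¹)⁻¹ * s⁻¹) * r⁻¹) by group,
        hza, hzb, inv_inv, hsb, show s * a⁻¹ * s⁻¹ = (s * a * s⁻¹)⁻¹ by group, hsa, mul_inv_cancel_right,
        show r * a⁻¹ * r⁻¹ = (r * a * r⁻¹)⁻¹ by group, ← hb,
        show r * b⁻¹ * r⁻¹ = (r * b * r⁻¹)⁻¹ by group, hrb, inv_inv, hAc _ (inv_mem hbA) _ ha]
    · obtain ⟨x, hx⟩ : ∃ x, x = ρ a m + m + ρ b m := ⟨_, rfl⟩
      have h1 : ρ a x = ρ b x := by
        rw [hx]
        simp only [map_add, hphi a (hA3 a ha) hCa, hphi b (hA3 b hbA) hCb]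
        rw [hmm a b, hab, ← hmm b a]
        abel_nf
        simp only [two_nsmul, two_zsmul, hself, add_zero, zero_add]
      rw [← hx, ← hmm]
      have h2 : x = ρ b (ρ b⁻¹ x) := by rw [hmm, mul_inv_cancel, map_one, Module.End.one_apply]
      calc ρ a (ρ b⁻¹ x) = ρ b⁻¹ (ρ a x) := by
            rw [hmm, hmm, hAc a ha _ (inv_mem hbA)]
        _ = x := by rw [h1, hmm, inv_mul_cancel, map_one, Module.End.one_apply]

end Cfsg.Agent.S4407
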