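import Cfsg.Statements.S4409
import Cfsg.Agent.Lib.PGroup.MinimalEight.Normal

set_option autoImplicit false
open Cfsg

namespace Cfsg.Agent.S4409

open CfsgLib.PGroup.MinEight

/-- Let S be a finite solvable group with O_{2'}(S) = 1 that contains a non-cyclic abelian subgroup of order 8, while no proper subgroup of S of 2-power index contains one. Then a Sylow 2-subgroup X of S is normal in S, and one of the following holds: X is abelian; X is extraspecial of order at least 32; X has a generalized quaternion subgroup X₀ of index 2 with X = X₀·C_X(X₀); or X is special with centre of order 4. -/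
theorem result {S : Type*} [Group S] [Finite S]
    [Group.IsSolvable S] (hO : Cfsg.pPrimeCore 2 S = ⊥)
    (h8 : ∃ A : Subgroup S, IsMulCommutative ↥A ∧ ¬ IsCyclic ↥A ∧ Nat.card ↥A = 8)
    (hmin : ∀ R : Subgroup S, R ≠ ⊤ → (∃ k : ℕ, R.index = 2 ^ k) →
      ¬ ∃ A : Subgroup S, A ≤ R ∧ IsMulCommutative ↥A ∧ ¬ IsCyclic ↥A ∧ Nat.card ↥A = 8)
    (X : Sylow 2 S) :
    (X : Subgroup S).Normal ∧
      (IsMulCommutative ↥X ∨
        (Cfsg.IsExtraspecial 2 ↥X ∧ 32 ≤ Nat.card ↥X) ∨
        (∃ (X₀ : Subgroup S) (k : ℕ), X₀ ≤ (X : Subgroup S) ∧ X₀.relIndex (X : Subgroup S) = 2 ∧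
          Nonempty (↥X₀ ≃* QuaternionGroup (2 ^ (k + 1))) ∧ X₀ ⊔ ((X : Subgroup S) ⊓ Subgroup.centralizer (X₀ : Set S)) = (X : Subgroup S)) ∨
        (Cfsg.IsSpecial 2 ↥X ∧ Nat.card ↥(Subgroup.center ↥X) = 4)) := by
  haveI : Fact (Nat.Prime 2) := ⟨Nat.prime_two⟩
  have hC : Subgroup.centralizer (Cfsg.pCore 2 S : Set S) ≤ Cfsg.pCore 2 S :=
    CfsgLib.Invol.centralizer_pCore_le_of_solvable hO
  haveI := CfsgLib.Coprime.pCore_normal' (G := S) 2
  have hQX : Cfsg.pCore 2 S ≤ (X : Subgroup S) := by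
    have hp := (CfsgLib.Coprime.pCore_isPGroup (G := S) 2).to_sup_of_normal_left X.isPGroup'
    rw [← X.is_maximal' hp le_sup_right]
    exact le_sup_left
  obtain ⟨e, he⟩ := IsPGroup.iff_card.1 X.isPGroup'
  have hodd : ¬ 2 ∣ (X : Subgroup S).index := X.not_dvd_index
  have hcard := (X : Subgroup S).card_mul_index
  obtain ⟨K, hKc⟩ := CfsgLib.Coprime.exists_hall (G := S) (m := (X : Subgroup S).index)
    (n := Nat.card ↥(X : Subgroup S)) (by rw [← hcard, mul_comm])
    (by rw [he]; exact ((Nat.prime_two.coprime_iff_not_dvd.2 hodd).symm).pow_right e)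
  have hKodd : Odd (Nat.card K) := by
    rw [hKc, Nat.odd_iff]; omega
  have hKi : K.index = Nat.card ↥(X : Subgroup S) := by
    have h := K.card_mul_index
    rw [← hcard, hKc, mul_comm (Nat.card ↥(X : Subgroup S))] at h
    exact Nat.eq_of_mul_eq_mul_left (hKc ▸ Nat.card_pos) h
  have hnoA : ∀ R : Subgroup S, R < (X : Subgroup S) → K ≤ Subgroup.normalizer (R : Set S) →
      ¬ HasA R := by
    intro R hR hKR hA
    refine hmin (R ⊔ K) ?_ ?_ (HasA.mono le_sup_left hA)
    · intro htop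
      have hsurj : Function.Surjective (fun p : R × K => (p.1 : S) * p.2) := fun x => by
        obtain ⟨r, hr, k, hk, h⟩ := CfsgLib.Coprime.mem_sup_exists hKR (htop.ge (Subgroup.mem_top x))
        exact ⟨(⟨r, hr⟩, ⟨k, hk⟩), h⟩
      have h1 := Nat.card_le_card_of_surjective _ hsurj
      rw [Nat.card_prod, hKc, ← hcard] at h1
      have h2 := Nat.le_of_mul_le_mul_right h1 (Nat.pos_of_ne_zero (Subgroup.index_ne_zero_of_finite))
      exact hR.ne (Subgroup.eq_of_le_of_card_ge hR.le h2)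
    · have h : (R ⊔ K).index ∣ K.index := Subgroup.index_dvd_of_le le_sup_right
      rw [hKi, he] at h
      obtain ⟨k, -, hk⟩ := (Nat.dvd_prime_pow Nat.prime_two).1 h
      exact ⟨k, hk⟩
  obtain ⟨A, hAab, hAnc, hA8⟩ := h8
  have hAp : IsPGroup 2 A := IsPGroup.of_card (n := 3) (by rw [hA8]; norm_num)
  by_cases hK1 : K ≤ Subgroup.centralizer (Cfsg.pCore 2 S : Set S)
  · -- a 2-group
    have hKb : K = ⊥ := by
      have h1 : Nat.card K ∣ Nat.card ↥(Cfsg.pCore 2 S) := Subgroup.card_dvd_of_le (hK1.trans hC)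
      obtain ⟨c, hc⟩ := IsPGroup.iff_card.1 (CfsgLib.Coprime.pCore_isPGroup (G := S) 2)
      rw [hc] at h1
      obtain ⟨k, -, hk⟩ := (Nat.dvd_prime_pow Nat.prime_two).1 h1
      apply Subgroup.eq_bot_of_card_eq
      rcases k with _ | k
      · exact hk
      · rw [hk, Nat.odd_iff, pow_succ] at hKodd; omega
    have hXtop : (X : Subgroup S) = ⊤ := by
      apply Subgroup.eq_top_of_card_eq
      rw [← hKi, hKb, Subgroup.index_bot]
    refine ⟨by rw [hXtop]; infer_instance, Or.inl ?_⟩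
    by_cases hA : A = ⊤
    · show IsMulCommutative ↥(X : Subgroup S)
      rw [hXtop, ← hA]; exact hAab
    · refine absurd ⟨A, le_rfl, hAab, hAnc, hA8⟩ (hmin A hA ?_)
      have h : A.index ∣ Nat.card S := Subgroup.index_dvd_card A
      rw [← Subgroup.card_top (G := S), ← hXtop, he] at h
      obtain ⟨k, -, hk⟩ := (Nat.dvd_prime_pow Nat.prime_two).1 h
      exact ⟨k, hk⟩
  have hQeq : Cfsg.pCore 2 S = (X : Subgroup S) := by
    rcases hQX.lt_or_eq with hlt | h
    · exfalso
      have hKn : K ≤ Subgroup.normalizer (Cfsg.pCore 2 S : Set S) := by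
        rw [Subgroup.normalizer_eq_top]; exact le_top
      have hna := hnoA _ hlt hKn
      have hkind := classify hKodd (CfsgLib.Coprime.pCore_isPGroup 2) hKn hK1 hna
      exact hna ⟨A, not_A_of_kind inferInstance hC hkind hAab hAnc hA8, hAab, hAnc, hA8⟩
    · exact h
  haveI hXn : (X : Subgroup S).Normal := hQeq ▸ inferInstance
  refine ⟨hXn, ?_⟩
  by_cases hab : IsMulCommutative ↥(X : Subgroup S)
  · exact Or.inl hab
  right
  have hKX : K ≤ Subgroup.normalizer ((X : Subgroup S) : Set S) := by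
    rw [Subgroup.normalizer_eq_top]; exact le_top
  refine minimal_shape hKodd X.isPGroup' hab hKX (hQeq ▸ hK1) hnoA ⟨A, ?_, hAab, hAnc, hA8⟩
  have hp := hAp.to_sup_of_normal_right X.isPGroup'
  rw [← X.is_maximal' hp le_sup_right]
  exact le_sup_left

end Cfsg.Agent.S4409
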