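import Cfsg.Statements.S4410
import Cfsg.Agent.Lib.Coprime.Solvable
import Mathlib.LinearAlgebra.Matrix.GeneralLinearGroup.Card
import Mathlib.LinearAlgebra.FiniteDimensional.Basic

set_option autoImplicit false
open Cfsg

namespace Cfsg.Agent.S4410

theorem add_self {V : Type*} [AddCommGroup V] [Module (ZMod 2) V] (x : V) : x + x = 0 := by
  rw [← two_smul (ZMod 2) x, show (2 : ZMod 2) = 0 from rfl, zero_smul]

theorem not_nine_dvd_GL {k : ℕ} (hk : k ≤ 3) : ¬ 9 ∣ Nat.card (GL (Fin k) (ZMod 2)) := by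
  rw [Matrix.card_GL_field, ZMod.card]
  interval_cases k <;> simp [Fin.prod_univ_succ]

/-- Let V be a finite-dimensional vector space over the field with two elements and S a solvable group of linear automorphisms of V with O₂(S) = 1. If P ∈ S has order 4 and (P − 1)³ = 0 on V, then the image of (P − 1)² has at least 4 elements; equivalently, in the decomposition of V into indecomposable modules for the cyclic group generated by P, at least two summands have dimension 3. -/
theorem result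
    {V : Type*} [AddCommGroup V] [Module (ZMod 2) V] [Finite V]
    (S : Subgroup (V ≃ₗ[ZMod 2] V)) (hS : Group.IsSolvable ↥S) (hO2 : Cfsg.pCore 2 ↥S = ⊥)
    (P : V ≃ₗ[ZMod 2] V) (hPS : P ∈ S) (hP4 : orderOf P = 4)
    (hcub : ((P : V →ₗ[ZMod 2] V) - LinearMap.id) ^ 3 = 0) :
    4 ≤ Nat.card ↥(LinearMap.range (((P : V →ₗ[ZMod 2] V) - LinearMap.id) ^ 2)) := by
  classical
  by_contra hcon
  push Not at hcon
  let t : V ≃ₗ[ZMod 2] V := P * P
  have ht2 : t * t = 1 := by
    have h := pow_orderOf_eq_one P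
    rw [hP4] at h
    show P * P * (P * P) = 1
    rw [← h]; simp only [pow_succ, pow_zero, one_mul, mul_assoc]
  have ht1 : t ≠ 1 := fun h => by
    have h2 : P ^ 2 = 1 := by rw [pow_two]; exact h
    have := Nat.le_of_dvd two_pos (orderOf_dvd_of_pow_eq_one h2)
    omega
  have hsq : ∀ v, ((((P : V →ₗ[ZMod 2] V) - LinearMap.id) ^ 2 : Module.End (ZMod 2) V)) v = t v + v := by
    intro v
    rw [pow_two, Module.End.mul_apply]
    simp only [LinearMap.sub_apply, LinearMap.id_coe, id_eq, LinearEquiv.coe_coe, map_sub]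
    have e : ∀ x : V, -x = x := fun x => neg_eq_of_add_eq_zero_left (add_self x)
    simp only [sub_eq_add_neg, neg_add_rev, e]
    show P (P v) + P v + (P v + v) = P (P v) + v
    rw [show P (P v) + P v + (P v + v) = P (P v) + v + (P v + P v) by abel, add_self, add_zero]
  -- `t` is a transvection
  obtain ⟨v₀, hv₀⟩ : ∃ v, t v + v ≠ 0 := by
    by_contra h
    push Not at h
    refine ht1 (LinearEquiv.ext fun v => ?_)
    show t v = v
    rw [← add_zero (t v), ← add_self v, ← add_assoc, h v, zero_add]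
  obtain ⟨a, ha⟩ : ∃ a, a = t v₀ + v₀ := ⟨_, rfl⟩
  have htau : ∀ v, t v + v = 0 ∨ t v + v = a := by
    intro v
    by_contra h
    push Not at h
    have hmem : ∀ w, t w + w ∈ LinearMap.range (((P : V →ₗ[ZMod 2] V) - LinearMap.id) ^ 2) := fun w => ⟨w, hsq w⟩
    let R := LinearMap.range (((P : V →ₗ[ZMod 2] V) - LinearMap.id) ^ 2)
    have hinj : Function.Injective (fun c : ZMod 2 × ZMod 2 =>
        (⟨c.1 • (t v + v) + c.2 • a, add_mem (R.smul_mem _ (hmem v)) (R.smul_mem _ (ha ▸ hmem v₀))⟩ : R)) := by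
      have ha0 : a ≠ 0 := ha ▸ hv₀
      have key : ∀ c : ZMod 2 × ZMod 2, c.1 • (t v + v) + c.2 • a = 0 → c = 0 := by
        rintro ⟨c, d⟩ hc
        have h2 : ∀ x : ZMod 2, x = 0 ∨ x = 1 := by decide
        rcases h2 c with rfl | rfl <;> rcases h2 d with rfl | rfl
        · rfl
        · simp only [zero_smul, one_smul, zero_add] at hc; exact absurd hc ha0
        · simp only [zero_smul, one_smul, add_zero] at hc; exact absurd hc h.1
        · simp only [one_smul] at hc
          refine absurd ?_ h.2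
          rw [← add_zero (t v + v), ← add_self a, ← add_assoc, hc, zero_add]
      intro c d hcd
      have h3 := congrArg Subtype.val hcd
      rw [← sub_eq_zero]
      refine key (c - d) ?_
      rw [Prod.fst_sub, Prod.snd_sub, sub_smul, sub_smul]
      simp only at h3
      rw [show c.1 • (t v + v) - d.1 • (t v + v) + (c.2 • a - d.2 • a) =
        (c.1 • (t v + v) + c.2 • a) - (d.1 • (t v + v) + d.2 • a) by abel, h3, sub_self]
    have hR : Nat.card R < 4 := hcon
    have := Nat.card_le_card_of_injective _ hinj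
    rw [Nat.card_prod, Nat.card_zmod] at this
    omega
  have ha0 : a ≠ 0 := ha ▸ hv₀
  have htt : ∀ v, t (t v) = v := fun v => LinearEquiv.congr_fun ht2 v
  have hta : t a = a := by rw [ha, map_add, htt, add_comm]
  have hPa : P a = a := by
    have h1 : P a = t (P v₀) + P v₀ := by rw [ha, map_add]; rfl
    rcases htau (P v₀) with h | h
    · exact absurd (P.injective ((h1.trans h).trans (map_zero P).symm)) ha0
    · exact h1.trans h
  -- the Fitting subgroup has odd order
  haveI : Finite (V ≃ₗ[ZMod 2] V) := Finite.of_injective (fun f => (f : V → V)) DFunLike.coe_injective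
  haveI := hS
  set F := (Cfsg.fittingSubgroup ↥S) with hF
  haveI hFn : Group.IsNilpotent F := CfsgLib.Coprime.fitting_isNilpotent
  haveI : F.Normal := CfsgLib.Coprime.fitting_normal
  have hodd : ∀ x : ↥S, x ∈ F → x ^ 2 = 1 → x = 1 := by
    intro x hx hx2
    obtain ⟨T⟩ : Nonempty (Sylow 2 F) := inferInstance
    haveI : (T : Subgroup F).Characteristic := T.characteristic_of_normal inferInstance
    haveI := CfsgLib.Coprime.map_subtype_normal_of_characteristic F (T : Subgroup F)
    have hle : (T : Subgroup F).map F.subtype ≤ ⊥ := hO2 ▸ CfsgLib.Coprime.le_pCore (T.2.map _)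
    have hp : IsPGroup 2 (Subgroup.zpowers (⟨x, hx⟩ : F)) := IsPGroup.iff_orderOf.2 fun y => by
      obtain ⟨k, -, hk⟩ := (Nat.dvd_prime_pow Nat.prime_two).1 ((orderOf_dvd_natCard y).trans
        ((Nat.card_zpowers _).dvd.trans (orderOf_dvd_of_pow_eq_one (x := (⟨x, hx⟩ : F)) (n := 2 ^ 1) (Subtype.ext hx2))))
      exact ⟨k, hk⟩
    obtain ⟨T', hT'⟩ := hp.exists_le_sylow
    obtain ⟨c, hc⟩ := MulAction.exists_smul_eq F T T'
    rw [Sylow.smul_eq_of_normal] at hc
    exact Subgroup.mem_bot.1 (hle ⟨_, hc ▸ hT' (Subgroup.mem_zpowers _), rfl⟩)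
  let tS : ↥S := ⟨t, mul_mem hPS hPS⟩
  have htF : tS ∉ F := fun h => ht1 (congrArg Subtype.val (hodd tS h (Subtype.ext (by rw [pow_two]; exact ht2))))
  obtain ⟨f, hf, hft⟩ : ∃ f ∈ F, f * tS ≠ tS * f := by
    by_contra h
    push Not at h
    exact htF (CfsgLib.Coprime.centralizer_fitting_le (Subgroup.mem_centralizer_iff.2 h))
  let rS : ↥S := f * tS * f⁻¹ * tS
  have htSinv : tS⁻¹ = tS := inv_eq_of_mul_eq_one_left (Subtype.ext ht2)
  have hrF : rS ∈ F := by
    rw [show rS = f * (tS * f⁻¹ * tS⁻¹) by rw [htSinv]; simp only [rS, mul_assoc]]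
    exact mul_mem hf ((inferInstance : F.Normal).conj_mem _ (inv_mem hf) tS)
  have hr1 : rS ≠ 1 := fun h => hft (by
    have h2 : f * tS * f⁻¹ = tS := by
      have := eq_inv_of_mul_eq_one_left (a := f * tS * f⁻¹) h
      rwa [htSinv] at this
    calc f * tS = f * tS * f⁻¹ * f := by group
      _ = tS * f := by rw [h2])
  have hinv : tS * rS * tS = rS⁻¹ := by
    simp only [rS, mul_inv_rev, htSinv, inv_inv, mul_assoc]
    rw [show tS * tS = 1 from Subtype.ext ht2, mul_one]
  obtain ⟨b, hb⟩ : ∃ b, b = (f : V ≃ₗ[ZMod 2] V) a := ⟨_, rfl⟩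
  let r : V ≃ₗ[ZMod 2] V := rS
  let t' : V ≃ₗ[ZMod 2] V := ((f * tS * f⁻¹ : ↥S) : V ≃ₗ[ZMod 2] V)
  have hrt : ∀ v, r v = t' (t v) := fun v => rfl
  have hff : ∀ v, (f : V ≃ₗ[ZMod 2] V) (((f⁻¹ : ↥S) : V ≃ₗ[ZMod 2] V) v) = v := fun v => by
    show ((f * f⁻¹ : ↥S) : V ≃ₗ[ZMod 2] V) v = v
    rw [mul_inv_cancel]; rfl
  have htau' : ∀ v, t' v + v = 0 ∨ t' v + v = b := by
    intro v
    have h1 : t' v + v = (f : V ≃ₗ[ZMod 2] V) (t (((f⁻¹ : ↥S) : V ≃ₗ[ZMod 2] V) v) + ((f⁻¹ : ↥S) : V ≃ₗ[ZMod 2] V) v) := by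
      rw [map_add, hff]; rfl
    rcases htau (((f⁻¹ : ↥S) : V ≃ₗ[ZMod 2] V) v) with h | h <;> rw [h] at h1
    · exact Or.inl (h1.trans (map_zero _))
    · exact Or.inr (h1.trans hb.symm)
  let W : Submodule (ZMod 2) V := Submodule.span (ZMod 2) {a, b}
  have haW : a ∈ W := Submodule.subset_span (Or.inl rfl)
  have hbW : b ∈ W := Submodule.subset_span (Or.inr rfl)
  have hrW : ∀ v, r v + v ∈ W := by
    intro v
    rw [hrt, show t' (t v) + v = (t' (t v) + t v) + (t v + v) + (- (t v + t v)) by abel, add_self, neg_zero, add_zero]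
    refine add_mem ?_ ?_
    · rcases htau' (t v) with h | h <;> rw [h]
      exacts [zero_mem _, hbW]
    · rcases htau v with h | h <;> rw [h]
      exacts [zero_mem _, haW]
  -- facts on the span
  have hWmem : ∀ w ∈ W, w = 0 ∨ w = a ∨ w = b ∨ w = a + b := by
    intro w hw
    obtain ⟨c, d, rfl⟩ := Submodule.mem_span_pair.1 hw
    have h2 : ∀ x : ZMod 2, x = 0 ∨ x = 1 := by decide
    rcases h2 c with rfl | rfl <;> rcases h2 d with rfl | rfl <;> simp
  have hpowW : ∀ (g : V ≃ₗ[ZMod 2] V), (∀ v, g v + v ∈ W) → (∀ w ∈ W, g w = w) → g ^ 2 = 1 := by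
    intro g hg hfix
    refine LinearEquiv.ext fun v => ?_
    have h1 := hfix _ (hg v)
    rw [map_add] at h1
    rw [pow_two]
    show g (g v) = v
    calc g (g v) = (g (g v) + g v) + g v := by rw [add_assoc, add_self, add_zero]
      _ = g v + v + g v := by rw [h1]
      _ = v := by rw [show g v + v + g v = v + (g v + g v) by abel, add_self, add_zero]
  have hrodd : ∀ m : ℕ, r ^ (2 * m) = 1 → r ^ m = 1 := by
    intro m hm
    have := hodd (rS ^ m) (pow_mem hrF m) (Subtype.ext (by
      rw [← pow_mul, mul_comm, SubmonoidClass.coe_pow]; exact hm))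
    exact congrArg Subtype.val this
  have hrr1 : r ≠ 1 := fun h => hr1 (Subtype.ext h)
  have hfixr : ¬ ∀ w ∈ W, r w = w := fun h => hrr1 (by
    have := hrodd 1 (by rw [mul_one]; exact hpowW r hrW h)
    rwa [pow_one] at this)
  have hrmem : ∀ w ∈ W, r w ∈ W := fun w hw => by
    have := add_mem (hrW w) hw
    rwa [add_assoc, add_self, add_zero] at this
  have hc : r a + a ≠ 0 ∧ r a + a ≠ a := by
    refine ⟨fun h => hfixr ?_, fun h => ?_⟩
    · have hra : r a = a := by rw [← add_zero (r a), ← add_self a, ← add_assoc, h, zero_add]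
      have h2 : ∀ w ∈ W, (r ^ 2) w = w := by
        intro w hw
        rw [pow_two]
        show r (r w) = w
        obtain ⟨c, d, rfl⟩ := Submodule.mem_span_pair.1 hw
        simp only [map_add, map_smul, hra]
        rcases hWmem _ (hrmem b hbW) with h' | h' | h' | h'
        · have hb0 : b = 0 := r.injective (h'.trans (map_zero r).symm)
          rw [h', map_zero, hb0]
        · have hba : b = a := r.injective (h'.trans hra.symm)
          rw [h', hra, hba]
        · rw [h', h']
        · rw [h', map_add, hra, h', ← add_assoc, add_self, zero_add]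
      have h4 : (r ^ 2) ^ 2 = 1 := hpowW _ (fun v => by
        rw [pow_two]
        show r (r v) + v ∈ W
        rw [show r (r v) + v = (r (r v) + r v) + (r v + v) + -(r v + r v) by abel, add_self, neg_zero, add_zero]
        exact add_mem (hrW _) (hrW _)) h2
      have h5 := hrodd 1 (by rw [mul_one]; exact hrodd 2 (by rw [pow_mul]; exact h4))
      rw [pow_one] at h5
      exact absurd h5 hrr1
    · exact ha0 (r.injective ((show r a = 0 by rwa [add_eq_right] at h).trans (map_zero r).symm))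
  obtain ⟨c, hcdef⟩ : ∃ c, c = r a + a := ⟨_, rfl⟩
  have hcb : c = b ∨ c = a + b := by
    rcases hWmem c (hcdef ▸ hrW a) with h | h | h | h
    · exact absurd (hcdef.symm.trans h) hc.1
    · exact absurd (hcdef.symm.trans h) hc.2
    · exact Or.inl h
    · exact Or.inr h
  have hab : a ≠ b := fun h => by
    rcases hcb with h' | h'
    · exact hc.2 (hcdef.symm.trans (h'.trans h.symm))
    · exact hc.1 (hcdef.symm.trans (h'.trans (by rw [← h, add_self])))
  have hr3 : r ^ 3 = 1 := by
    -- `r` permutes the three nonzero vectors of `W`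
    let Ω := {w : V // w ∈ W ∧ w ≠ 0}
    haveI : Fintype Ω := Fintype.ofFinite Ω
    let σ : Equiv.Perm Ω := Equiv.ofBijective (fun w => ⟨r w.1, hrmem _ w.2.1, fun h => w.2.2 (r.injective (h.trans (map_zero r).symm))⟩)
      (Finite.injective_iff_bijective.1 fun u w h => Subtype.ext (r.injective (congrArg Subtype.val h)))
    have hσ : ∀ (m : ℕ) (w : Ω), ((σ ^ m) w : V) = (r ^ m) w.1 := by
      intro m
      induction m with
      | zero => intro w; rfl
      | succ m ih =>
        intro w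
        rw [pow_succ', pow_succ']
        show r ((σ ^ m) w : V) = r ((r ^ m) w.1)
        rw [ih]
    have h6 : σ ^ 6 = 1 := by
      have hcard : Fintype.card Ω ≤ 3 := by
        let T : Finset V := {a, b, a + b}
        refine le_trans (Fintype.card_le_of_injective (fun w : Ω => (⟨w.1, ?_⟩ : (T : Finset V)))
          (fun u w h => Subtype.ext (congrArg (fun x : (T : Finset V) => (x : V)) h))) ?_
        · rcases hWmem _ w.2.1 with h | h | h | h
          · exact absurd h w.2.2
          all_goals simp [T, h]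
        · rw [Fintype.card_coe]; exact Finset.card_le_three
      refine orderOf_dvd_iff_pow_eq_one.1 ((orderOf_dvd_card (x := σ)).trans ?_)
      rw [Fintype.card_perm]
      exact (Nat.factorial_dvd_factorial hcard).trans (dvd_of_eq rfl)
    have hfix : ∀ w ∈ W, (r ^ 6) w = w := by
      intro w hw
      by_cases h0 : w = 0
      · rw [h0, map_zero]
      · rw [← hσ 6 ⟨w, hw, h0⟩, h6]; rfl
    have hstep : ∀ m v, (r ^ m) v + v ∈ W := by
      intro m
      induction m with
      | zero => intro v; show v + v ∈ W; rw [add_self]; exact zero_mem _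
      | succ m ih =>
        intro v
        rw [pow_succ']
        show r ((r ^ m) v) + v ∈ W
        rw [show r ((r ^ m) v) + v = (r ((r ^ m) v) + (r ^ m) v) + ((r ^ m) v + v) + -((r ^ m) v + (r ^ m) v) by abel,
          add_self, neg_zero, add_zero]
        exact add_mem (hrW _) (ih v)
    have h12 := hpowW _ (hstep 6) hfix
    rw [← pow_mul] at h12
    exact hrodd 3 (hrodd 6 h12)
  -- `P` moves `W`
  have hPc : P c ∉ W := by
    intro h
    have hPb : P b ∈ W := by
      rcases hcb with h' | h' <;> rw [h'] at h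
      · exact h
      · rw [map_add, hPa] at h
        have := add_mem haW h
        rwa [← add_assoc, add_self, zero_add] at this
    have htb : t b = b := by
      show P (P b) = b
      rcases hWmem _ hPb with h' | h' | h' | h'
      · have hb0 : b = 0 := P.injective (h'.trans (map_zero P).symm)
        rw [h', map_zero, hb0]
      · exact absurd (P.injective (h'.trans hPa.symm)).symm hab
      · rw [h', h']
      · rw [h', map_add, hPa, h', ← add_assoc, add_self, zero_add]
    -- `t` fixes `W` and inverts `r`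
    have h2 : r (r a) = a := by
      have h1 := congrArg (fun u : ↥S => (u : V ≃ₗ[ZMod 2] V) a) hinv
      have h3 : t (r (t a)) = (r⁻¹ : V ≃ₗ[ZMod 2] V) a := h1
      have h4 : t (r a) = r a := by
        rcases hWmem _ (hrmem a haW) with h | h | h | h <;> rw [h] <;> simp [hta, htb]
      rw [hta, h4] at h3
      rw [h3]
      show (r * r⁻¹) a = a
      rw [mul_inv_cancel]; rfl
    refine hc.1 ?_
    have h5 := LinearEquiv.congr_fun hr3 a
    change r (r (r a)) = a at h5
    rw [h2] at h5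
    rw [h5, add_self]
  -- the three-group generated by `r` and its conjugate
  let PS : ↥S := ⟨P, hPS⟩
  let r₂ : ↥S := PS * rS * PS⁻¹
  obtain ⟨T⟩ : Nonempty (Sylow 3 F) := inferInstance
  have h3mem : ∀ x : ↥S, ∀ hx : x ∈ F, x ^ 3 = 1 → (⟨x, hx⟩ : F) ∈ (T : Subgroup F) := by
    intro x hx hx3
    have hp : IsPGroup 3 (Subgroup.zpowers (⟨x, hx⟩ : F)) := IsPGroup.iff_orderOf.2 fun y => by
      obtain ⟨k, -, hk⟩ := (Nat.dvd_prime_pow Nat.prime_three).1 ((orderOf_dvd_natCard y).trans
        ((Nat.card_zpowers _).dvd.trans (orderOf_dvd_of_pow_eq_one (x := (⟨x, hx⟩ : F)) (n := 3 ^ 1) (Subtype.ext hx3))))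
      exact ⟨k, hk⟩
    obtain ⟨T', hT'⟩ := hp.exists_le_sylow
    obtain ⟨c, hc⟩ := MulAction.exists_smul_eq F T T'
    rw [Sylow.smul_eq_of_normal] at hc
    exact hc ▸ hT' (Subgroup.mem_zpowers _)
  have hrS3 : rS ^ 3 = 1 := Subtype.ext hr3
  have hr₂F : r₂ ∈ F := (inferInstance : F.Normal).conj_mem _ hrF PS
  have hr₂3 : r₂ ^ 3 = 1 := by rw [conj_pow, hrS3, mul_one, mul_inv_cancel]
  let H : Subgroup ↥S := Subgroup.closure {rS, r₂}
  have hH : IsPGroup 3 H := by
    refine IsPGroup.to_le ((T.2).map F.subtype) ((Subgroup.closure_le _).2 ?_)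
    rintro x (rfl | rfl)
    · exact ⟨⟨_, hrF⟩, h3mem _ hrF hrS3, rfl⟩
    · exact ⟨⟨_, hr₂F⟩, h3mem _ hr₂F hr₂3, rfl⟩
  let X : Submodule (ZMod 2) V := W ⊔ Submodule.span (ZMod 2) {P b}
  have hWX : W ≤ X := le_sup_left
  have hPW : ∀ w ∈ W, P w ∈ X := by
    intro w hw
    obtain ⟨c, d, rfl⟩ := Submodule.mem_span_pair.1 hw
    rw [map_add, map_smul, map_smul, hPa]
    exact add_mem (X.smul_mem _ (hWX haW)) (X.smul_mem _ (Submodule.mem_sup_right (Submodule.mem_span_singleton_self _)))
  have hHX : ∀ h ∈ H, ∀ v, (h : V ≃ₗ[ZMod 2] V) v + v ∈ X := by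
    intro h hh
    induction hh using Subgroup.closure_induction with
    | mem x hx =>
      intro v
      rcases hx with rfl | rfl
      · exact hWX (hrW v)
      · show P (r (((PS⁻¹ : ↥S) : V ≃ₗ[ZMod 2] V) v)) + v ∈ X
        have hv : P (((PS⁻¹ : ↥S) : V ≃ₗ[ZMod 2] V) v) = v := by
          show ((PS * PS⁻¹ : ↥S) : V ≃ₗ[ZMod 2] V) v = v
          rw [mul_inv_cancel]; rfl
        conv => arg 2; arg 2; rw [← hv]
        rw [← map_add]
        exact hPW _ (hrW _)
    | one => intro v; show v + v ∈ X; rw [add_self]; exact zero_mem _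
    | mul x y _ _ hx hy =>
      intro v
      show (x : V ≃ₗ[ZMod 2] V) ((y : V ≃ₗ[ZMod 2] V) v) + v ∈ X
      have := add_mem (hx ((y : V ≃ₗ[ZMod 2] V) v)) (hy v)
      rwa [show ∀ p q w : V, p + q + (q + w) = p + w + (q + q) from fun p q w => by abel, add_self, add_zero] at this
    | inv x _ hx =>
      intro v
      have h1 : (x : V ≃ₗ[ZMod 2] V) (((x⁻¹ : ↥S) : V ≃ₗ[ZMod 2] V) v) = v := by
        show ((x * x⁻¹ : ↥S) : V ≃ₗ[ZMod 2] V) v = v
        rw [mul_inv_cancel]; rfl
      have := hx (((x⁻¹ : ↥S) : V ≃ₗ[ZMod 2] V) v)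
      rw [h1, add_comm] at this
      exact this
  have hHmem : ∀ h ∈ H, ∀ x ∈ X, (h : V ≃ₗ[ZMod 2] V) x ∈ X := fun h hh x hx => by
    have := add_mem (hHX h hh x) hx
    rwa [add_assoc, add_self, add_zero] at this
  let ψ : H →* Module.End (ZMod 2) X :=
    { toFun := fun h => ((h : ↥S) : V ≃ₗ[ZMod 2] V).toLinearMap.restrict (hHmem h h.2)
      map_one' := LinearMap.ext fun x => Subtype.ext rfl
      map_mul' := fun g h => LinearMap.ext fun x => Subtype.ext rfl }
  let k := Module.finrank (ZMod 2) X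
  let Bs := Module.finBasis (ZMod 2) X
  let φ : H →* GL (Fin k) (ZMod 2) :=
    (((LinearMap.toMatrixAlgEquiv Bs).toAlgHom.toMonoidHom).comp ψ).toHomUnits
  have hφ : Function.Injective φ := by
    refine (injective_iff_map_eq_one _).2 fun h hh => ?_
    have h1 : ψ h = 1 := (LinearMap.toMatrixAlgEquiv Bs).injective (by rw [map_one]; exact congrArg Units.val hh)
    have hfix : ∀ x ∈ X, ((h : ↥S) : V ≃ₗ[ZMod 2] V) x = x := fun x hx =>
      congrArg Subtype.val (LinearMap.congr_fun h1 ⟨x, hx⟩)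
    have h2 : h ^ 2 = 1 := Subtype.ext (Subtype.ext (LinearEquiv.ext fun v => by
      have h3 := hfix _ (hHX h h.2 v)
      rw [map_add] at h3
      rw [pow_two]
      show ((h : ↥S) : V ≃ₗ[ZMod 2] V) (((h : ↥S) : V ≃ₗ[ZMod 2] V) v) = v
      calc _ = (((h : ↥S) : V ≃ₗ[ZMod 2] V) (((h : ↥S) : V ≃ₗ[ZMod 2] V) v) + ((h : ↥S) : V ≃ₗ[ZMod 2] V) v)
            + ((h : ↥S) : V ≃ₗ[ZMod 2] V) v := by rw [add_assoc, add_self, add_zero]
        _ = ((h : ↥S) : V ≃ₗ[ZMod 2] V) v + v + ((h : ↥S) : V ≃ₗ[ZMod 2] V) v := by rw [h3]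
        _ = v := by rw [show ∀ p w : V, p + w + p = w + (p + p) from fun p w => by abel, add_self, add_zero]))
    obtain ⟨j, hj⟩ := IsPGroup.iff_orderOf.1 hH h
    have hd := orderOf_dvd_of_pow_eq_one h2
    rw [hj] at hd
    rcases j with _ | j
    · exact orderOf_eq_one_iff.1 (hj.trans (pow_zero 3))
    · have h3 : 3 ∣ 2 := (dvd_pow_self 3 (Nat.succ_ne_zero j)).trans hd
      omega
  have hk3 : k ≤ 3 := by
    show Module.finrank (ZMod 2) (W ⊔ Submodule.span (ZMod 2) ({P b} : Set V) : Submodule (ZMod 2) V) ≤ 3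
    have h1 := Submodule.finrank_sup_add_finrank_inf_eq W (Submodule.span (ZMod 2) ({P b} : Set V))
    have h2 : Module.finrank (ZMod 2) W ≤ 2 := by
      have h4 := finrank_span_le_card (R := ZMod 2) ({a, b} : Set V)
      refine h4.trans ?_
      simp only [Set.toFinset_insert, Set.toFinset_singleton]
      exact Finset.card_le_two
    have h5 : Module.finrank (ZMod 2) (Submodule.span (ZMod 2) ({P b} : Set V)) ≤ 1 := by
      have h4 := finrank_span_le_card (R := ZMod 2) ({P b} : Set V)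
      refine h4.trans ?_
      simp
    omega
  obtain ⟨j, hj⟩ := hH.exists_card_eq
  have hj1 : j ≤ 1 := by
    by_contra hj2
    refine not_nine_dvd_GL hk3 (dvd_trans ?_ (Subgroup.card_dvd_of_injective φ hφ))
    rw [hj]
    exact Nat.pow_dvd_pow 3 (by omega : 2 ≤ j)
  have hor : orderOf rS = 3 := orderOf_eq_prime hrS3 hr1
  have hle : Subgroup.zpowers rS ≤ H := Subgroup.zpowers_le.2 (Subgroup.subset_closure (Or.inl rfl))
  have heq : Subgroup.zpowers rS = H := by
    refine Subgroup.eq_of_le_of_card_ge hle ?_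
    rw [Nat.card_zpowers, hor, hj]
    exact le_trans (Nat.pow_le_pow_right (by norm_num) hj1) (by norm_num)
  have hW2 : ∀ g ∈ Subgroup.zpowers rS, ∀ v, (g : V ≃ₗ[ZMod 2] V) v + v ∈ W := by
    intro g hg
    obtain ⟨m, rfl⟩ := (isOfFinOrder_of_finite rS).mem_zpowers_iff_mem_range_orderOf.1 hg |> Finset.mem_image.1
      |> fun ⟨m, _, hm⟩ => (⟨m, hm⟩ : ∃ m : ℕ, rS ^ m = g)
    intro v
    rw [SubmonoidClass.coe_pow]
    clear hg
    induction m with
    | zero => show v + v ∈ W; rw [add_self]; exact zero_mem _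
    | succ m ih =>
      rw [pow_succ']
      show r ((r ^ m) v) + v ∈ W
      rw [show r ((r ^ m) v) + v = (r ((r ^ m) v) + (r ^ m) v) + ((r ^ m) v + v) + -((r ^ m) v + (r ^ m) v) by abel,
        add_self, neg_zero, add_zero]
      exact add_mem (hrW _) ih
  have hr₂W := hW2 r₂ (heq ▸ Subgroup.subset_closure (Or.inr rfl)) (P a)
  refine hPc ?_
  have hcalc : (r₂ : V ≃ₗ[ZMod 2] V) (P a) + P a = P c := by
    show P (r (((PS⁻¹ : ↥S) : V ≃ₗ[ZMod 2] V) (P a))) + P a = P c
    rw [show ((PS⁻¹ : ↥S) : V ≃ₗ[ZMod 2] V) (P a) = a by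
      show ((PS⁻¹ * PS : ↥S) : V ≃ₗ[ZMod 2] V) a = a
      rw [inv_mul_cancel]; rfl, hcdef, map_add]
  rwa [hcalc] at hr₂W

end Cfsg.Agent.S4410
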