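import Cfsg.Statements.S4411
import Cfsg.Agent.Lib.PGroup.AutomizerPrime.Main
import Cfsg.Agent.Lib.LocalStructure.Basic

set_option autoImplicit false
open Cfsg

namespace Cfsg.Agent.S4411

open Subgroup CfsgLib.PGroup.AutPrime in
/-- A witness with maximal normalizer Sylow gives a witness characteristic in that Sylow subgroup. -/
theorem step {G : Type*} [Group G] [Finite G] (p q : ℕ) [Fact p.Prime] [Fact q.Prime] (hpq : p ≠ q)
    (h23 : ¬ ((p = 2 ∧ q = 3) ∨ (p = 3 ∧ q = 2)))
    (hsol : ∀ H : Subgroup G, IsPGroup p ↥H →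
      Cfsg.IsPSolvable p (↥(Subgroup.normalizer (H : Set G)) ⧸ (Subgroup.centralizer (H : Set G)).subgroupOf (Subgroup.normalizer (H : Set G))))
    (H : Subgroup G) (hH : IsPGroup p ↥H) (hq : q ∣ autCard H)
    (L : Subgroup G) (hL : L = normalizer (H : Set G)) (T0 : Sylow p L) :
    ∃ K : Subgroup G, CharIn K ((T0 : Subgroup L).map L.subtype) ∧
      q ∣ autCard K := by
  have hp : p.Prime := Fact.out
  have hqp : q.Prime := Fact.out
  set C := (centralizer (H : Set G)).subgroupOf L with hC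
  haveI : C.Normal := by subst hL; exact centralizer_sub_normal H
  set T := (T0 : Subgroup L).map L.subtype with hT
  have hTL : T ≤ L := map_subtype_le _
  have hTp : IsPGroup p T := T0.2.map _
  haveI hHn : (H.subgroupOf L).Normal := by subst hL; exact normal_in_normalizer
  have hHT : H ≤ T := by
    have h1 : H.subgroupOf L ≤ (T0 : Subgroup L) := by
      have hp' : IsPGroup p (H.subgroupOf L) := hH.of_equiv (subgroupOfEquivOfLe (hL.symm ▸ le_normalizer)).symm
      exact (CfsgLib.Coprime.le_pCore hp').trans (CfsgLib.Coprime.pCore_le_sylow T0)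
    intro h hh
    exact ⟨⟨h, (hL.symm ▸ le_normalizer hh)⟩, h1 (show (⟨h, (hL.symm ▸ le_normalizer hh)⟩ : L) ∈ H.subgroupOf L from hh), rfl⟩
  set P1 := T ⊓ centralizer (H : Set G) with hP1
  set H1 := H ⊔ P1 with hH1
  have hH1T : H1 ≤ T := sup_le hHT inf_le_left
  have hH1p : IsPGroup p H1 := hTp.to_le hH1T
  set L1 := normalizer (H1 : Set G) ⊓ L with hL1
  have hTL1 : T ≤ L1 := by
    refine le_inf (fun t ht => ?_) hTL
    have h1 : T ≤ normalizer (centralizer (H : Set G) : Set G) := fun t ht =>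
      mem_normalizer_iff.2 fun x => by
        have key : ∀ a ∈ L, ∀ y ∈ centralizer (H : Set G), a * y * a⁻¹ ∈ centralizer (H : Set G) := by
          intro a ha y hy
          exact (centralizer_sub_normal H).conj_mem ⟨y, centralizer_le_normalizer _ hy⟩ hy ⟨a, hL ▸ ha⟩
        refine ⟨key t (hTL ht) x, fun hx => ?_⟩
        have := key t⁻¹ (inv_mem (hTL ht)) _ hx
        simpa [mul_assoc] using this
    have hkey : ∀ a ∈ T, ∀ y ∈ H1, a * y * a⁻¹ ∈ H1 := by
      intro a ha y hy
      have hle : H1.map (MulAut.conj a).toMonoidHom ≤ H1 := by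
        rw [hH1, Subgroup.map_sup]
        refine sup_le_sup ?_ ?_
        · rintro _ ⟨h, hh, rfl⟩
          exact (mem_normalizer_iff.1 (hL ▸ hTL ha) h).1 hh
        · rintro _ ⟨z, hz, rfl⟩
          exact mem_inf.2 ⟨mul_mem (mul_mem ha (mem_inf.1 hz).1) (inv_mem ha), (mem_normalizer_iff.1 (h1 ha) z).1 (mem_inf.1 hz).2⟩
      exact hle ⟨y, hy, rfl⟩
    refine mem_normalizer_iff.2 fun x => ⟨hkey t ht x, fun hx => ?_⟩
    have := hkey t⁻¹ (inv_mem ht) _ hx
    simpa [mul_assoc] using this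
  -- the Frattini argument
  set C' := (centralizer (H : Set G)).subgroupOf L1 with hC'
  set Z1 := (centralizer (H1 : Set G)).subgroupOf L1 with hZ1
  have hcent : centralizer (H1 : Set G) ≤ centralizer (H : Set G) := centralizer_le (SetLike.coe_subset_coe.2 le_sup_left)
  haveI hZ1n : Z1.Normal := by
    refine ⟨fun c hc n => ?_⟩
    exact (centralizer_sub_normal H1).conj_mem
      ⟨(c : G), centralizer_le_normalizer _ (mem_subgroupOf.1 hc)⟩ hc ⟨(n : G), (mem_inf.1 n.2).1⟩
  have hq1 : q ∣ Z1.index := by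
    have h1 : Z1 ≤ C' := fun z hz => hcent hz
    refine dvd_trans ?_ (index_dvd_of_le h1)
    have hsurj : ∀ l : G, l ∈ L → ∃ m ∈ L1, l⁻¹ * m ∈ centralizer (H : Set G) := by
      intro l hl
      obtain ⟨Q, hQ⟩ := CfsgLib.LS.sylow_inf_normal T0 C
      have htop := Sylow.normalizer_sup_eq_top (N := C) Q
      rw [hQ] at htop
      obtain ⟨n, hn, c, hc, he⟩ := mem_sup_of_normal_right.1 (htop.ge (mem_top (⟨l, hl⟩ : L)))
      refine ⟨n, mem_inf.2 ⟨?_, n.2⟩, ?_⟩
      · have hkey : ∀ m : L, m ∈ normalizer (((T0 : Subgroup L) ⊓ C : Subgroup L) : Set L) →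
            H1.map (MulAut.conj (m : G)).toMonoidHom ≤ H1 := by
          intro m hm
          rw [hH1, Subgroup.map_sup]
          refine sup_le_sup ?_ ?_
          · rintro _ ⟨h, hh, rfl⟩
            exact (mem_normalizer_iff.1 (hL ▸ m.2) h).1 hh
          · rintro _ ⟨z, hz, rfl⟩
            have h2 : (⟨z, hTL hz.1⟩ : L) ∈ (T0 : Subgroup L) ⊓ C := by
              obtain ⟨w, hw, hwz⟩ := hz.1
              have : w = ⟨z, hTL hz.1⟩ := Subtype.ext hwz
              exact mem_inf.2 ⟨this ▸ hw, hz.2⟩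
            have h3 := mem_inf.1 ((mem_normalizer_iff.1 hm _).1 h2)
            exact ⟨⟨_, h3.1, rfl⟩, h3.2⟩
        refine mem_normalizer_iff.2 fun x => ⟨fun hx => hkey n hn ⟨x, hx, rfl⟩, fun hx => ?_⟩
        have h4 := hkey n⁻¹ (inv_mem hn) ⟨_, hx, rfl⟩
        simpa [mul_assoc] using h4
      · have h5 : (⟨l, hl⟩ : L)⁻¹ * n = c⁻¹ := by rw [← he]; group
        have h6 : ((c : L) : G)⁻¹ ∈ centralizer (H : Set G) := inv_mem hc
        have h7 := congrArg (fun z : L => (z : G)) h5
        exact (show l⁻¹ * (n : G) = ((c : L) : G)⁻¹ from h7) ▸ h6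
    have heq : C.index = C'.index := by
      have hrel : C'.index = (centralizer (H : Set G)).relIndex L1 := rfl
      let f : L1 →* L := Subgroup.inclusion inf_le_right
      have hf : C' = C.comap f := by ext x; rfl
      rw [hf, index_comap]
      refine (relIndex_top_right C).symm.trans ?_
      refine Nat.le_antisymm ?_ (relIndex_le_of_le_right le_top (by simp [index_ne_zero_of_finite]))
      have hsup : f.range ⊔ C = ⊤ := by
        refine eq_top_iff.2 fun l _ => ?_
        obtain ⟨m, hm, hmc⟩ := hsurj (l : G) l.2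
        have hm' : (⟨m, (mem_inf.1 hm).2⟩ : L) ∈ f.range := ⟨⟨m, hm⟩, rfl⟩
        have hd : l⁻¹ * (⟨m, (mem_inf.1 hm).2⟩ : L) ∈ C := hmc
        have : l = (⟨m, (mem_inf.1 hm).2⟩ : L) * (l⁻¹ * ⟨m, (mem_inf.1 hm).2⟩)⁻¹ := by group
        rw [this]
        exact mul_mem_sup hm' (inv_mem hd)
      rw [← hsup, relIndex_sup_right]
    subst hL
    exact heq ▸ hq
  -- factor the coprime part of the centralizer
  have hsol1 : Cfsg.IsPSolvable p (↥L1 ⧸ Z1) := by
    let f : L1 →* normalizer (H1 : Set G) := Subgroup.inclusion inf_le_left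
    set M := (centralizer (H1 : Set G)).subgroupOf (normalizer (H1 : Set G)) with hM
    haveI : M.Normal := centralizer_sub_normal H1
    let g : L1 ⧸ Z1 →* normalizer (H1 : Set G) ⧸ M := QuotientGroup.map Z1 M f (fun z hz => hz)
    refine CfsgLib.Fusion.isPSolvable_of_injective g ((injective_iff_map_eq_one g).2 ?_) (hsol H1 hH1p)
    intro x hx
    obtain ⟨y, rfl⟩ := QuotientGroup.mk'_surjective Z1 x
    exact (QuotientGroup.eq_one_iff y).2 ((QuotientGroup.eq_one_iff (f y)).1 hx)
  set O := (Cfsg.pPrimeCore p Z1).map Z1.subtype with hO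
  haveI : (Cfsg.pPrimeCore p Z1).Characteristic := CfsgLib.Coprime.pPrimeCore_characteristic p
  haveI hOn : O.Normal := CfsgLib.Coprime.map_subtype_normal_of_characteristic Z1 _
  have hOc : ¬ p ∣ Nat.card O := by
    rw [hO, card_map_of_injective Z1.subtype_injective]
    exact CfsgLib.Coprime.pPrimeCore_not_dvd hp
  have hT1 : (T0 : Subgroup L).map L.subtype = T := rfl
  let S0 : Sylow p L := T0
  have hTs : ∃ S : Sylow p L1, (S : Subgroup L1) = T.subgroupOf L1 := by
    obtain ⟨S, hS⟩ := (hTp.of_equiv (subgroupOfEquivOfLe hTL1).symm).exists_le_sylow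
    refine ⟨S, ((eq_of_le_of_card_ge hS ?_)).symm⟩
    rw [Nat.card_congr (subgroupOfEquivOfLe hTL1).toEquiv, hT, card_map_of_injective L.subtype_injective,
      T0.card_eq_multiplicity, S.card_eq_multiplicity]
    refine Nat.pow_le_pow_right hp.pos ?_
    exact (Nat.factorization_le_iff_dvd Nat.card_pos.ne' Nat.card_pos.ne').2
      (card_dvd_of_le (inf_le_right : L1 ≤ L)) p
  obtain ⟨S, hS⟩ := hTs
  -- the Sylow subgroup of the centralizer is central
  have hSZ : ∀ z : L1, z ∈ (S : Subgroup L1) ⊓ Z1 → (z : G) ∈ H1 := by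
    intro z hz
    rw [hS] at hz
    exact mem_sup_right (show (z : G) ∈ P1 from mem_inf.2 ⟨(mem_inf.1 hz).1, hcent (mem_inf.1 hz).2⟩)
  have hZp : IsPGroup p (↥Z1 ⧸ Cfsg.pPrimeCore p Z1) := by
    obtain ⟨R, hR0⟩ := CfsgLib.LS.sylow_inf_normal S Z1
    have hR : ∀ r : Z1, r ∈ (R : Subgroup Z1) → r ∈ center Z1 := by
      intro r hr
      have h1 := hSZ (r : L1) (hR0.le (mem_map_of_mem Z1.subtype hr))
      exact mem_center_iff.2 fun w => Subtype.ext (Subtype.ext
        ((mem_centralizer_iff.1 (mem_subgroupOf.1 w.2)) _ h1).symm)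
    have hRn : normalizer ((R : Subgroup Z1) : Set Z1) ≤ centralizer ((R : Subgroup Z1) : Set Z1) := fun g _ =>
      mem_centralizer_iff.2 fun r hr => (mem_center_iff.1 (hR r hr) g).symm
    have hc := MonoidHom.ker_transferSylow_isComplement' R hRn
    set K0 := (MonoidHom.transferSylow R hRn).ker
    have hle : K0 ≤ Cfsg.pPrimeCore p Z1 := by
      refine CfsgLib.Coprime.le_pPrimeCore_of_not_dvd hp ?_
      rw [← hc.index_eq_card]
      exact R.not_dvd_index
    have h1 : Nat.card (↥Z1 ⧸ Cfsg.pPrimeCore p Z1) ∣ Nat.card (R : Subgroup Z1) := by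
      rw [← hc.symm.index_eq_card]
      exact index_dvd_of_le hle
    obtain ⟨a, ha⟩ := R.2.exists_card_eq
    obtain ⟨b, -, hb⟩ := (Nat.dvd_prime_pow hp).1 (ha ▸ h1)
    exact IsPGroup.of_card hb
  set f := QuotientGroup.mk' O with hf
  have hfs : Function.Surjective f := QuotientGroup.mk'_surjective O
  have hOZ : O ≤ Z1 := map_subtype_le _
  have hsolX : Cfsg.IsPSolvable p (↥L1 ⧸ O) := by
    haveI hn' : (Z1.map f).Normal := hZ1n.map f hfs
    refine CfsgLib.Fusion.isPSolvable_of_pGroup_extension (Z1.map f) ?_ ?_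
    · let g : Z1 →* Z1.map f := f.subgroupMap Z1
      have hg : Function.Surjective g := f.subgroupMap_surjective Z1
      have hker : Cfsg.pPrimeCore p Z1 ≤ g.ker := fun z hz => Subtype.ext
        ((QuotientGroup.eq_one_iff _).2 (mem_map_of_mem _ hz))
      let g' : ↥Z1 ⧸ Cfsg.pPrimeCore p Z1 →* Z1.map f := QuotientGroup.lift _ g hker
      exact hZp.of_surjective g' fun y => by
        obtain ⟨z, rfl⟩ := hg y
        exact ⟨z, rfl⟩
    · exact CfsgLib.Fusion.isPSolvable_of_surjective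
        (QuotientGroup.quotientQuotientEquivQuotient O Z1 hOZ).symm.toMonoidHom
        (MulEquiv.surjective _) hsol1
  have hOX : Cfsg.pPrimeCore p (↥L1 ⧸ O) = ⊥ := by
    haveI : (Cfsg.pPrimeCore p (↥L1 ⧸ O)).Normal := inferInstance
    set W := (Cfsg.pPrimeCore p (↥L1 ⧸ O)).comap f with hW
    haveI : W.Normal := Normal.comap inferInstance f
    have hWc : ¬ p ∣ Nat.card W := by
      have hOW : O ≤ W := fun o ho => by
        rw [hW, mem_comap, show f o = 1 from (QuotientGroup.eq_one_iff o).2 ho]; exact one_mem _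
      rw [CfsgLib.Coprime.card_eq_card_mul_card_map_mk' O hOW, hW,
        map_comap_eq_self_of_surjective hfs]
      exact fun h => (hp.dvd_mul.1 h).elim hOc (CfsgLib.Coprime.pPrimeCore_not_dvd hp)
    haveI hH1n : (H1.subgroupOf L1).Normal :=
      ⟨fun x hx n => (mem_normalizer_iff.1 (mem_inf.1 n.2).1 x).1 hx⟩
    have hbot : W ⊓ H1.subgroupOf L1 = ⊥ := by
      obtain ⟨k, hk⟩ := hH1p.exists_card_eq
      refine inf_eq_bot_of_coprime ?_
      rw [Nat.card_congr (subgroupOfEquivOfLe (hH1T.trans hTL1)).toEquiv, hk]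
      exact Nat.Coprime.pow_right k ((hp.coprime_iff_not_dvd.2 hWc).symm)
    have hWZ : W ≤ Z1 := by
      intro w hw
      refine mem_subgroupOf.2 (mem_centralizer_iff.2 fun r hr => ?_)
      set r' : L1 := ⟨r, hTL1 (hH1T hr)⟩
      have hrR : r' ∈ H1.subgroupOf L1 := hr
      have h1 : w * r' * w⁻¹ * r'⁻¹ ∈ W ⊓ H1.subgroupOf L1 := by
        refine mem_inf.2 ⟨?_, mul_mem (Normal.conj_mem inferInstance _ hrR w) (inv_mem hrR)⟩
        have h2 : r' * w⁻¹ * r'⁻¹ ∈ W := Normal.conj_mem inferInstance _ (inv_mem hw) _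
        have := mul_mem hw h2
        simpa [mul_assoc] using this
      rw [hbot, mem_bot, mul_inv_eq_one, mul_inv_eq_iff_eq_mul] at h1
      exact (congrArg (fun z : L1 => (z : G)) h1).symm
    have hWO : W ≤ O := by
      have h1 : W.subgroupOf Z1 ≤ Cfsg.pPrimeCore p Z1 := by
        refine CfsgLib.Coprime.le_pPrimeCore_of_not_dvd hp ?_
        rwa [Nat.card_congr (subgroupOfEquivOfLe hWZ).toEquiv]
      intro w hw
      exact ⟨⟨w, hWZ hw⟩, h1 (show (⟨w, hWZ hw⟩ : Z1) ∈ W.subgroupOf Z1 from hw), rfl⟩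
    rw [← map_comap_eq_self_of_surjective hfs (Cfsg.pPrimeCore p (↥L1 ⧸ O)), ← hW, eq_bot_iff]
    rintro _ ⟨w, hw, rfl⟩
    exact mem_bot.2 ((QuotientGroup.eq_one_iff w).2 (hWO hw))
  have hqX : q ∣ Nat.card (↥L1 ⧸ O) := hq1.trans (index_dvd_of_le hOZ)
  obtain ⟨K', hK', hqK'⟩ := exists_charIn hpq h23 hsolX hOX hqX (S.mapSurjective hfs)
  rw [Sylow.coe_mapSurjective] at hK'
  have hker : ∀ t ∈ (S : Subgroup L1), f t = 1 ↔ t ∈ (⊥ : Subgroup L1) := by
    intro t ht
    refine ⟨fun h => ?_, fun h => by rw [mem_bot.1 h, map_one]⟩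
    have hto : t ∈ O := (QuotientGroup.eq_one_iff t).1 h
    obtain ⟨k, hk⟩ := S.2.exists_card_eq
    have hbot : (S : Subgroup L1) ⊓ O = ⊥ :=
      inf_eq_bot_of_coprime (hk ▸ Nat.Coprime.pow_left k (hp.coprime_iff_not_dvd.2 hOc))
    exact hbot ▸ mem_inf.2 ⟨ht, hto⟩
  set K := (S : Subgroup L1) ⊓ K'.comap f with hK
  have hKc : CharIn K (S : Subgroup L1) := CharIn.pullback f (charIn_bot _) hker hK'
  have hKm : K.map f = K' := by
    refine le_antisymm (map_le_iff_le_comap.2 inf_le_right) fun k hk => ?_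
    obtain ⟨t, ht, rfl⟩ := hK'.1 hk
    exact ⟨t, ⟨ht, hk⟩, rfl⟩
  have hdvd : autCard K' ∣ autCard K := by
    rw [← hKm]
    exact autCard_map_dvd f K (CfsgLib.Fusion.normalizer_map_le O hOc (S.2.to_le inf_le_left))
  refine ⟨K.map L1.subtype, ⟨?_, fun σ x hx => ?_⟩,
    (hqK'.trans hdvd).trans (autCard_dvd_of_injOn L1.subtype K fun y _ h => Subtype.ext h)⟩
  · rintro _ ⟨k, hk, rfl⟩
    have := hKc.1 hk
    rw [hS] at this
    exact mem_subgroupOf.1 this
  · let e : (S : Subgroup L1) ≃* ((T0 : Subgroup L).map L.subtype : Subgroup G) := (MulEquiv.subgroupCongr hS).trans (subgroupOfEquivOfLe hTL1)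
    obtain ⟨k, hk, hkx⟩ := hx
    refine ⟨((e.symm (σ x) : (S : Subgroup L1)) : L1), ?_, rfl⟩
    have := hKc.2 ((e.trans σ).trans e.symm) (e.symm x) (by
      have : ((e.symm x : (S : Subgroup L1)) : L1) = k := Subtype.ext hkx.symm
      rw [this]; exact hk)
    have h2 : ((e.trans σ).trans e.symm) (e.symm x) = e.symm (σ x) := by
      show e.symm (σ (e (e.symm x))) = _
      rw [e.apply_symm_apply]
    exact (congrArg (fun z : (S : Subgroup L1) => (z : L1) ∈ K) h2).mp this



/-- Let p and q be distinct primes with {p, q} ≠ {2, 3}, and let G be a finite group such that for every p-subgroup H of G the automizer N_G(H)/C_G(H) is p-solvable. If q divides the order of N_G(H)/C_G(H) for some p-subgroup H, then a Sylow p-subgroup of G has a normal subgroup K (normal in the Sylow subgroup) such that q divides the order of N_G(K)/C_G(K). -/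
theorem result {G : Type*} [Group G] [Finite G]
    (p q : ℕ) [Fact p.Prime] [Fact q.Prime] (hpq : p ≠ q) (h23 : ¬ ((p = 2 ∧ q = 3) ∨ (p = 3 ∧ q = 2)))
    (hsol : ∀ H : Subgroup G, IsPGroup p ↥H →
      Cfsg.IsPSolvable p (↥(Subgroup.normalizer (H : Set G)) ⧸ (Subgroup.centralizer (H : Set G)).subgroupOf (Subgroup.normalizer (H : Set G))))
    (H : Subgroup G) (hH : IsPGroup p ↥H)
    (hq : q ∣ ((Subgroup.centralizer (H : Set G)).subgroupOf (Subgroup.normalizer (H : Set G))).index)
    (Gp : Sylow p G) :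
    ∃ K : Subgroup G, K ≤ (Gp : Subgroup G) ∧ (Gp : Subgroup G) ≤ Subgroup.normalizer (K : Set G) ∧
      q ∣ ((Subgroup.centralizer (K : Set G)).subgroupOf (Subgroup.normalizer (K : Set G))).index := by
  classical
  open Subgroup CfsgLib.PGroup.AutPrime in
  have hp : p.Prime := Fact.out
  open Subgroup CfsgLib.PGroup.AutPrime in
  haveI : Nonempty {X : Subgroup G // IsPGroup p X ∧ q ∣ autCard X} := ⟨⟨H, hH, hq⟩⟩
  open Subgroup CfsgLib.PGroup.AutPrime in
  obtain ⟨⟨X, hX, hqX⟩, hmax⟩ := Finite.exists_max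
    fun X : {X : Subgroup G // IsPGroup p X ∧ q ∣ autCard X} =>
      (Nat.card (normalizer ((X : Subgroup G) : Set G))).factorization p
  open Subgroup CfsgLib.PGroup.AutPrime in
  obtain ⟨T0⟩ : Nonempty (Sylow p (normalizer (X : Set G))) := inferInstance
  open Subgroup CfsgLib.PGroup.AutPrime in
  obtain ⟨K, hK, hqK⟩ := step p q hpq h23 hsol X hX hqX _ rfl T0
  open Subgroup CfsgLib.PGroup.AutPrime in
  set T := (T0 : Subgroup (normalizer (X : Set G))).map (normalizer (X : Set G)).subtype with hT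
  open Subgroup CfsgLib.PGroup.AutPrime in
  have hTp : IsPGroup p T := T0.2.map _
  obtain ⟨P, hP⟩ := hTp.exists_le_sylow
  open Subgroup CfsgLib.PGroup.AutPrime in
  have hTP : T = (P : Subgroup G) := by
    refine le_antisymm hP ?_
    haveI := P.2.isNilpotent
    have hnc : NormalizerCondition (P : Subgroup G) := Group.normalizerCondition_of_isNilpotent
    by_contra hnle
    have hlt : T.subgroupOf (P : Subgroup G) < ⊤ := lt_top_iff_ne_top.2 fun h =>
      hnle (subgroupOf_eq_top.1 h)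
    have h1 := hnc _ hlt
    obtain ⟨n, hn, hn'⟩ := SetLike.exists_of_lt h1
    have hnT : (n : G) ∈ normalizer (T : Set G) := by
      refine mem_normalizer_iff.2 fun x => ?_
      constructor
      · intro hx
        exact (mem_normalizer_iff.1 hn ⟨x, hP hx⟩).1 hx
      · intro hx
        have hxP : x ∈ (P : Subgroup G) := by
          have := mul_mem (mul_mem (inv_mem n.2) (hP hx)) n.2
          simpa [mul_assoc] using this
        exact (mem_normalizer_iff.1 hn ⟨x, hxP⟩).2 hx
    set U := T ⊔ zpowers (n : G)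
    have hUP : U ≤ (P : Subgroup G) := sup_le hP (zpowers_le.2 n.2)
    have hUK : U ≤ normalizer (K : Set G) :=
      sup_le (le_normalizer.trans hK.normalizer_le) (zpowers_le.2 (hK.normalizer_le hnT))
    have hlt2 : Nat.card T < Nat.card U := by
      refine lt_of_le_of_ne (card_le_of_le le_sup_left) fun he => hn' ?_
      have := eq_of_le_of_card_ge (le_sup_left : T ≤ U) he.ge
      exact this.ge (mem_sup_right (mem_zpowers _))
    obtain ⟨b, hb⟩ := (P.2.to_le hUP).exists_card_eq
    have hTc : Nat.card T = p ^ (Nat.card (normalizer (X : Set G))).factorization p := by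
      rw [hT, card_map_of_injective (normalizer (X : Set G)).subtype_injective, T0.card_eq_multiplicity]
    have hb' : b ≤ (Nat.card (normalizer (K : Set G))).factorization p := by
      refine (hp.pow_dvd_iff_le_factorization Nat.card_pos.ne').1 ?_
      rw [← hb]
      exact card_dvd_of_le hUK
    have hm := hmax ⟨K, hTp.to_le hK.1, hqK⟩
    rw [hTc, hb] at hlt2
    have := (Nat.pow_lt_pow_iff_right hp.one_lt).1 hlt2
    exact absurd hm (by simp only at *; omega)
  obtain ⟨g, hg⟩ := MulAction.exists_smul_eq G P Gp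
  open Subgroup CfsgLib.PGroup.AutPrime in
  refine ⟨K.map (MulAut.conj g).toMonoidHom, ?_, ?_, ?_⟩
  · rw [← hg]
    exact Subgroup.map_mono (hTP ▸ hK.1)
  · rw [← hg]
    refine le_trans ?_ (Subgroup.le_normalizer_map _)
    exact Subgroup.map_mono (hTP ▸ (Subgroup.le_normalizer.trans hK.normalizer_le))
  · exact hqK.trans (CfsgLib.PGroup.AutPrime.autCard_dvd_of_injOn (MulAut.conj g).toMonoidHom K
      fun x _ h => (MulAut.conj g).injective (h.trans (map_one _).symm))

end Cfsg.Agent.S4411
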