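import Cfsg.Statements.S4416
import Cfsg.Agent.Lib.PGroup.InvolutionCount
-- import your own Cfsg.Agent.* helpers here

set_option autoImplicit false
open Cfsg

namespace Cfsg.Agent.S4416

/-- Classification of extraspecial 2-groups in intrinsic form. An extraspecial 2-group has order 2^(2m+1) for some m ≥ 1, and the number of its elements squaring to the identity is either 2^(2m) + 2^m or 2^(2m) − 2^m; two extraspecial 2-groups of the same order with the same number of such elements are isomorphic. (The two cases are the central products of m dihedral groups of order 8, and of m − 1 dihedral groups with one quaternion group.) -/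
theorem result (E : Type*) [Group E] [Finite E] (hE : Cfsg.IsExtraspecial 2 E) :
    (∃ m : ℕ, 1 ≤ m ∧ Nat.card E = 2 ^ (2 * m + 1) ∧
      (Nat.card {x : E // x ^ 2 = 1} = 2 ^ (2 * m) + 2 ^ m ∨ Nat.card {x : E // x ^ 2 = 1} = 2 ^ (2 * m) - 2 ^ m)) ∧
    ∀ (E' : Type*) [Group E'] [Finite E'], Cfsg.IsExtraspecial 2 E' → Nat.card E' = Nat.card E →
      Nat.card {x : E' // x ^ 2 = 1} = Nat.card {x : E // x ^ 2 = 1} → Nonempty (E ≃* E') := by
  haveI := Fact.mk Nat.prime_two
  obtain ⟨hs, z, hz, hz1⟩ := CfsgLib.PGroup.smallCenter_of_extraspecial hE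
  obtain ⟨m, hm, hcard⟩ := CfsgLib.PGroup.extraspecial_card hE
  have hN : (2 : ℤ) * Nat.card {x : E // x ^ 2 = 1} =
      2 ^ (2 * m + 1) + CfsgLib.PGroup.signSum E := by
    rw [CfsgLib.PGroup.signSum, hcard]; push_cast; ring
  refine ⟨⟨m, hm, hcard, ?_⟩, ?_⟩
  · have hle : 2 ^ m ≤ 2 ^ (2 * m) := Nat.pow_le_pow_right two_pos (by omega)
    rcases hs.signSum_cases hcard with e | e <;> rw [e, pow_succ, pow_succ] at hN
    · left; zify; linarith
    · right; zify [hle]; linarith
  · intro E' _ _ hE' hc hcount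
    obtain ⟨hs', z', hz', hz'1⟩ := CfsgLib.PGroup.smallCenter_of_extraspecial hE'
    have hS : CfsgLib.PGroup.signSum E = CfsgLib.PGroup.signSum E' := by
      rw [CfsgLib.PGroup.signSum, CfsgLib.PGroup.signSum, hc, hcount]
    obtain ⟨e, -⟩ := CfsgLib.PGroup.exists_equiv_of_signSum m hm E E' hs hs' hcard (hc.trans hcard)
      hS z hz hz1 z' hz' hz'1
    exact ⟨e⟩

end Cfsg.Agent.S4416
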