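import Cfsg.Statements.S4417
import Cfsg.Agent.Lib.PGroup.LinearDerived
import Mathlib.FieldTheory.Finite.Basic

set_option autoImplicit false
open Cfsg

namespace Cfsg.Agent.S4417

/-- Let F be a field with q elements, p a prime not dividing q, and e the multiplicative order of q modulo p; assume e ≤ n. Then every p-subgroup of GL_n(F) has derived length at most ⌊log₂(n/e)⌋ + 1: that term of its derived series is trivial (n/e is the integer quotient). -/
theorem result {F : Type*} [Field F] [Fintype F] (q : ℕ) (hF : Fintype.card F = q) (p : ℕ) [Fact p.Prime] (hpq : ¬ p ∣ q) (n e : ℕ) (he : e = orderOf (q : ZMod p)) (hen : e ≤ n) (P : Subgroup (GL (Fin n) F)) (hP : IsPGroup p P) : derivedSeries ↥P (Nat.log 2 (n / e) + 1) = ⊥ := by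
  classical
  have hp : p.Prime := Fact.out
  have hq0 : (q : F) = 0 := hF ▸ FiniteField.cast_card_eq_zero F
  have hp0 : (p : F) ≠ 0 := by
    intro h
    have hcop := Nat.Coprime.cast (R := ℤ) ((hp.coprime_iff_not_dvd).2 hpq)
    obtain ⟨a, b, hab⟩ := hcop
    have := congrArg (fun z : ℤ => (z : F)) hab
    push_cast at this
    rw [h, hq0, mul_zero, mul_zero, add_zero] at this
    exact zero_ne_one this
  have hepos : 0 < e := by
    rw [he]
    have hq : (q : ZMod p) ≠ 0 := fun h => hpq ((ZMod.natCast_eq_zero_iff _ _).1 h)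
    exact orderOf_pos_iff.2 (isOfFinOrder_iff_isUnit.2 (isUnit_iff_ne_zero.2 hq))
  let θ : P →* Module.End F (Fin n → F) :=
    ((Matrix.toLinAlgEquiv' : Matrix (Fin n) (Fin n) F ≃ₐ[F] _).toAlgHom.toMonoidHom).comp
      ((Units.coeHom (Matrix (Fin n) (Fin n) F)).comp P.subtype)
  have hθ : Function.Injective θ := fun a b hab => Subtype.ext (Units.ext (Matrix.toLinAlgEquiv'.injective hab))
  have h := CfsgLib.LinDerived.derivedSeries_eq_bot (e := e) hp0 hepos ?_ hP θ hθ
  · rwa [Module.finrank_fin_fun] at h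
  intro V _ _ _ _ R hcomm hinj ⟨z, hz, hz1, hzp⟩
  haveI : Finite R := Module.finite_of_finite F
  letI := Fintype.ofFinite R
  letI : CommRing R := { (inferInstance : Ring R) with mul_comm := fun r s => Subtype.ext (hcomm r r.2 s s.2) }
  haveI : NoZeroDivisors R := ⟨fun {r s} hrs => by
    by_contra h
    push Not at h
    refine h.2 (Subtype.ext (LinearMap.ext fun m => hinj r r.2 (fun h' => h.1 (Subtype.ext h')) ?_))
    simpa using LinearMap.congr_fun (congrArg Subtype.val hrs) m⟩
  haveI : IsDomain R := NoZeroDivisors.to_isDomain R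
  letI : Field R := Fintype.fieldOfDomain R
  have hz0 : (⟨z, hz⟩ : R) ≠ 0 := fun h => by
    have : z = 0 := congrArg Subtype.val h
    rw [this, zero_pow hp.ne_zero] at hzp
    exact zero_ne_one hzp
  have hord : orderOf (Units.mk0 (⟨z, hz⟩ : R) hz0) = p := by
    refine orderOf_eq_prime (Units.ext (Subtype.ext ?_)) fun h => hz1 ?_
    · rw [Units.val_pow_eq_pow_val, Units.val_mk0, SubmonoidClass.coe_pow]
      exact hzp
    · exact congrArg (fun u : Rˣ => ((u : R) : Module.End F V)) h
  have hdvd : p ∣ Fintype.card R - 1 := by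
    rw [← Fintype.card_units, ← hord]
    exact orderOf_dvd_card
  rw [Module.card_eq_pow_finrank (K := F) (V := R), hF] at hdvd
  have h1 : ((q : ZMod p)) ^ Module.finrank F R = 1 := by
    have hpos : 1 ≤ q ^ Module.finrank F R := Nat.one_le_pow _ _ (hF ▸ Fintype.card_pos)
    have := (Nat.modEq_iff_dvd' hpos).2 hdvd
    have h2 := (ZMod.natCast_eq_natCast_iff _ _ p).2 this
    push_cast at h2
    exact h2.symm
  rw [he]
  exact Nat.le_of_dvd Module.finrank_pos (orderOf_dvd_of_pow_eq_one h1)

end Cfsg.Agent.S4417
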