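import Cfsg.Statements.S4419
-- import your own Cfsg.Agent.* helpers here
import Mathlib
import Cfsg.Agent.Lib.Fusion.Abelian
import Cfsg.Agent.Lib.Coprime.Action
import Cfsg.Agent.Lib.Coprime.Core
import Cfsg.Agent.Lib.Coprime.PGroupFrattini

set_option autoImplicit false
open Cfsg

namespace Cfsg.Agent.S4419

open Subgroup

universe u

/-- Subgroups of a metacyclic group are generated by two elements. -/
theorem two_generated {R : Type u} [Group R] (h : Cfsg.IsMetacyclic R) (Q : Subgroup R) :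
    ∃ a b : Q, closure ({a, b} : Set Q) = ⊤ := by
  obtain ⟨N, hN, hNc, hQc⟩ := h
  haveI := hN
  haveI := hNc
  haveI := hQc
  haveI : IsCyclic (Q ⊓ N : Subgroup R) := isCyclic_of_injective
    (Subgroup.inclusion (inf_le_right : Q ⊓ N ≤ N)) (Subgroup.inclusion_injective _)
  obtain ⟨a, ha⟩ := (inferInstance : IsCyclic (Q ⊓ N : Subgroup R)).exists_generator
  let f : Q →* R ⧸ N := (QuotientGroup.mk' N).comp Q.subtype
  obtain ⟨⟨_, b, rfl⟩, hb⟩ := (inferInstance : IsCyclic f.range).exists_generator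
  refine ⟨⟨a, a.2.1⟩, b, eq_top_iff.2 fun x _ => ?_⟩
  obtain ⟨j, hj⟩ := hb ⟨f x, x, rfl⟩
  have hj' : f b ^ j = f x := congrArg Subtype.val hj
  have hxN : ((x * (b ^ j)⁻¹ : Q) : R) ∈ N := by
    rw [← QuotientGroup.eq_one_iff]
    show f (x * (b ^ j)⁻¹) = 1
    rw [map_mul, map_inv, map_zpow, hj', mul_inv_cancel]
  obtain ⟨i, hi⟩ := ha ⟨_, (x * (b ^ j)⁻¹).2, hxN⟩
  have hx : x = (⟨a, a.2.1⟩ : Q) ^ i * b ^ j := by
    rw [eq_comm, ← eq_mul_inv_iff_mul_eq]
    exact Subtype.ext (by simpa using congrArg Subtype.val hi)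
  rw [hx]
  refine Subgroup.mul_mem _ (Subgroup.zpow_mem _ ?_ i) (Subgroup.zpow_mem _ ?_ j)
  · exact Subgroup.subset_closure (Set.mem_insert _ _)
  · exact Subgroup.subset_closure (Set.mem_insert_of_mem _ rfl)

open scoped IsMulCommutative in
/-- The Frattini quotient of a two-generated `p`-group has order dividing `p ^ 2`. -/
theorem index_frattini_dvd {Q : Type u} [Group Q] [Finite Q] {p : ℕ} [hp : Fact p.Prime]
    (hQ : IsPGroup p Q) {a b : Q} (hab : closure ({a, b} : Set Q) = ⊤) :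
    (frattini Q).index ∣ p ^ 2 := by
  classical
  haveI : IsMulCommutative (Q ⧸ frattini Q) :=
    Subgroup.Normal.quotient_commutative_iff_commutator_le.2
      (CfsgLib.Coprime.commutator_le_frattini hQ)
  have hpow : ∀ g : Q ⧸ frattini Q, g ^ p = 1 := by
    intro g
    obtain ⟨x, rfl⟩ := QuotientGroup.mk'_surjective _ g
    rw [← map_pow, QuotientGroup.mk'_apply, QuotientGroup.eq_one_iff]
    exact CfsgLib.Coprime.pow_mem_frattini hQ x
  rw [Subgroup.index_eq_card]
  refine (card_dvd_exponent_pow_rank' (Q ⧸ frattini Q) hpow).trans (pow_dvd_pow p ?_)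
  refine (Group.rank_le_of_surjective (QuotientGroup.mk' _)
    (QuotientGroup.mk'_surjective _)).trans ?_
  refine (Group.rank_le (S := {a, b}) (by rw [Finset.coe_pair]; exact hab)).trans ?_
  exact Finset.card_le_two

variable {G : Type u} [Group G] [Finite G] {p : ℕ} [hp : Fact p.Prime]

/-- An element of prime power order `q ^ k` acting non-trivially forces `q ∣ p ^ 2 - 1`. -/
theorem dvd_of_acts {Q : Subgroup G} (hQ : IsPGroup p Q) {a b : Q}
    (hab : closure ({a, b} : Set Q) = ⊤) {q : ℕ} [hq : Fact q.Prime] (hqp : q ≠ p) {g : G}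
    (hgn : g ∈ normalizer (Q : Set G)) (hgk : ∃ k, g ^ q ^ k = 1)
    (hgc : g ∉ centralizer (Q : Set G)) : q ∣ p ^ 2 - 1 := by
  classical
  by_contra hnd
  apply hgc
  set Φ := (frattini Q).map Q.subtype with hΦ
  have hAQ : zpowers g ≤ normalizer (Q : Set G) := zpowers_le.2 hgn
  set L := Q ⊔ zpowers g
  have hLn : L ≤ normalizer (Q : Set G) := sup_le le_normalizer hAQ
  have hNΦ : normalizer (Q : Set G) ≤ normalizer (Φ : Set G) := by
    intro x hx
    rw [Subgroup.mem_normalizer_iff_map_conj_eq] at hx ⊢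
    let e : Q ≃* Q := (Q.equivMapOfInjective _ (MulAut.conj x).injective).trans
      (MulEquiv.subgroupCongr hx)
    have he : (Φ.map (MulAut.conj x).toMonoidHom) = ((frattini Q).map e.toMonoidHom).map Q.subtype := by
      rw [hΦ, Subgroup.map_map, Subgroup.map_map]
      rfl
    rw [show (frattini Q).map e.toMonoidHom = frattini Q from
      Subgroup.characteristic_iff_map_eq.1 inferInstance e] at he
    exact he
  haveI hn1 : (Φ.subgroupOf L).Normal :=
    (normal_subgroupOf_iff_le_normalizer ((map_subtype_le _).trans le_sup_left)).2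
      (hLn.trans hNΦ)
  set π := QuotientGroup.mk' (Φ.subgroupOf L) with hπdef
  set gh : L := ⟨g, (le_sup_right : zpowers g ≤ L) (mem_zpowers g)⟩
  set V := (Q.subgroupOf L).map π with hV
  haveI hVn : V.Normal := ((normal_subgroupOf_iff_le_normalizer le_sup_left).2 hLn).map π
    (QuotientGroup.mk'_surjective _)
  have hcardV : Nat.card V = (frattini Q).index := by
    let χ : Q →* L ⧸ Φ.subgroupOf L := π.comp (Subgroup.inclusion le_sup_left)
    have hk : χ.ker = frattini Q := by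
      ext x
      rw [MonoidHom.mem_ker, MonoidHom.comp_apply, hπdef, QuotientGroup.mk'_apply,
        QuotientGroup.eq_one_iff, Subgroup.mem_subgroupOf, hΦ]
      exact ⟨fun ⟨y, hy, he⟩ => Subtype.ext he ▸ hy, fun h => ⟨x, h, rfl⟩⟩
    have hr : χ.range = V := by
      rw [hV, MonoidHom.range_comp, Subgroup.inclusion_range]
    rw [← hr, ← Subgroup.index_ker, hk]
  obtain ⟨i, hi, hie⟩ := (Nat.dvd_prime_pow hp.out).1 (index_frattini_dvd hQ hab)
  have hgh : ∃ k, π gh ^ q ^ k = 1 := by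
    obtain ⟨k, hk⟩ := hgk
    exact ⟨k, by rw [← map_pow, show gh ^ q ^ k = 1 from Subtype.ext hk, map_one]⟩
  have hc := CfsgLib.Fusion.mem_centralizer_of_prime_pow (hcardV.trans hie) (n := π gh)
    (by rw [Subgroup.normalizer_eq_top]; trivial) hgh hqp (fun j hj hji hd => hnd (hd.trans (by
      rcases (show j = 1 ∨ j = 2 by omega) with rfl | rfl
      · simpa using Nat.pow_sub_one_dvd_pow_sub_one p (show 1 ∣ 2 from one_dvd 2)
      · exact dvd_rfl)))
  refine CfsgLib.Coprime.le_centralizer_of_trivial_on_frattini_quotient hAQ ?_ ?_ (mem_zpowers g)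
  · obtain ⟨m, hm⟩ := hQ.exists_card_eq
    obtain ⟨k, hk⟩ := hgk
    obtain ⟨j, -, hj⟩ := (Nat.dvd_prime_pow hq.out).1 (orderOf_dvd_of_pow_eq_one hk)
    rw [Nat.card_zpowers, hj]
    refine ((Nat.coprime_primes hq.out hp.out).2 hqp).pow j m |>.coprime_dvd_right ?_
    rw [← hm]
    exact Subgroup.card_subgroup_dvd_card _
  · intro x hx k hk
    have hkL : k ∈ L := (le_sup_left : Q ≤ L) hk
    have hxL : x ∈ L := (le_sup_right : zpowers g ≤ L) hx
    have hcomm : π ⟨x, hxL⟩ * π ⟨k, hkL⟩ = π ⟨k, hkL⟩ * π ⟨x, hxL⟩ := by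
      have hmem : π ⟨x, hxL⟩ ∈ zpowers (π gh) := by
        obtain ⟨j, hj⟩ := mem_zpowers_iff.1 hx
        exact ⟨j, by
          show π gh ^ j = _
          rw [← map_zpow]
          exact congrArg π (Subtype.ext (by simpa [gh] using hj))⟩
      obtain ⟨j, hj⟩ := hmem
      rw [← hj]
      refine (Commute.zpow_left ?_ j).eq
      exact ((Subgroup.mem_centralizer_iff.1 hc) _
        (Subgroup.mem_map_of_mem π (show (⟨k, hkL⟩ : L) ∈ Q.subgroupOf L from hk))).symm
    have : π (⟨x, hxL⟩ * ⟨k, hkL⟩ * (⟨x, hxL⟩ : L)⁻¹ * (⟨k, hkL⟩ : L)⁻¹) = 1 := by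
      rw [map_mul, map_mul, map_mul, map_inv, map_inv, hcomm]
      group
    rw [hπdef, QuotientGroup.mk'_apply, QuotientGroup.eq_one_iff] at this
    exact this

/-- Let p be a prime and G a finite group whose Sylow p-subgroups are metacyclic (a cyclic normal subgroup with cyclic quotient). Then G has a normal p-complement if and only if the order of G/O_{p′,p}(G) is coprime to p² − 1. -/
theorem result {G : Type*} [Group G] [Finite G] (p : ℕ) [Fact p.Prime] (S : Sylow p G) (hS : Cfsg.IsMetacyclic ↥(S : Subgroup G)) : Cfsg.HasNormalPComplement p G ↔ Nat.Coprime (Nat.card (G ⧸ Cfsg.pPrimePCore p G)) (p ^ 2 - 1) := by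
  constructor
  · rintro ⟨P, M, hMn, hMc⟩
    haveI := hMn
    have hM : M ≤ Cfsg.pPrimeCore p G := by
      refine CfsgLib.Coprime.le_pPrimeCore ?_
      rw [← hMc.index_eq_card]
      exact ((Fact.out : p.Prime).coprime_iff_not_dvd.2 P.not_dvd_index).symm
    have hp' : IsPGroup p (G ⧸ Cfsg.pPrimeCore p G) := by
      obtain ⟨n, hn⟩ := P.2.exists_card_eq
      obtain ⟨j, -, hj⟩ := (Nat.dvd_prime_pow (Fact.out : p.Prime)).1
        ((Subgroup.index_dvd_of_le hM).trans (dvd_of_eq (hMc.symm.index_eq_card.trans hn)))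
      exact IsPGroup.of_card (n := j) (by rw [← Subgroup.index_eq_card, hj])
    have htop : Cfsg.pPrimePCore p G = ⊤ := by
      have : Cfsg.pCore p (G ⧸ Cfsg.pPrimeCore p G) = ⊤ :=
        top_le_iff.1 (le_sSup ⟨inferInstance, hp'.to_subgroup ⊤⟩)
      rw [Cfsg.pPrimePCore, this, Subgroup.comap_top]
    rw [← Subgroup.index_eq_card, htop, Subgroup.index_top]
    exact Nat.coprime_one_left _
  · intro hcop
    refine CfsgLib.Fusion.hasNormalPComplement_of_locallyPNilpotentAction S fun Q hQS g hg hgp => ?_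
    refine (CfsgLib.Fusion.le_of_forall_prime_pow
      (H := Subgroup.zpowers g) (C := Subgroup.centralizer (Q : Set G)) fun q hq x hx hk => ?_)
      (Subgroup.mem_zpowers g)
    haveI := Fact.mk hq
    by_contra hxc
    have hx1 : x ≠ 1 := fun e => hxc (e ▸ one_mem _)
    have hxn : x ∈ Subgroup.normalizer (Q : Set G) := Subgroup.zpowers_le.2 hg hx
    obtain ⟨k, hk⟩ := hk
    obtain ⟨j, -, hj⟩ := (Nat.dvd_prime_pow hq).1 (orderOf_dvd_of_pow_eq_one hk)
    have hqp : q ≠ p := by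
      rintro rfl
      exact hx1 (orderOf_eq_one_iff.1 (Nat.eq_one_of_dvd_coprimes (hgp.pow_right k)
        (orderOf_dvd_of_mem_zpowers hx) (orderOf_dvd_of_pow_eq_one hk)))
    obtain ⟨a, b, hab⟩ := two_generated hS (Q.subgroupOf S)
    obtain ⟨a', b', hab'⟩ : ∃ a' b' : Q, Subgroup.closure ({a', b'} : Set Q) = ⊤ := by
      let e := Subgroup.subgroupOfEquivOfLe hQS
      refine ⟨e a, e b, ?_⟩
      have := congrArg (Subgroup.map e.toMonoidHom) hab
      rwa [MonoidHom.map_closure, Set.image_pair,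
        Subgroup.map_top_of_surjective _ e.surjective] at this
    have hqd := dvd_of_acts (S.2.to_le hQS) hab' hqp hxn ⟨k, hk⟩ hxc
    have hxU : x ∈ Cfsg.pPrimePCore p G := by
      by_contra hxU
      have hU : (Cfsg.pPrimePCore p G).Normal := by
        refine Subgroup.Normal.comap ?_ _
        exact CfsgLib.Coprime.pCore_normal' p
      haveI := hU
      have hqd' : q ∣ Nat.card (G ⧸ Cfsg.pPrimePCore p G) := by
        have hd : orderOf (x : G ⧸ Cfsg.pPrimePCore p G) ∣ q ^ j :=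
          hj ▸ orderOf_map_dvd (QuotientGroup.mk' _) x
        obtain ⟨i, -, hi⟩ := (Nat.dvd_prime_pow hq).1 hd
        have hi0 : i ≠ 0 := fun e => hxU ((QuotientGroup.eq_one_iff x).1
          (orderOf_eq_one_iff.1 (by rw [hi, e, pow_zero])))
        exact (dvd_pow_self q hi0).trans (hi ▸ orderOf_dvd_natCard _)
      exact hq.not_dvd_one (hcop ▸ Nat.dvd_gcd hqd' hqd)
    -- so `x` lies in the `p'`-core
    have hcopx : (orderOf x).Coprime p := hj ▸ Nat.Coprime.pow_left _
      ((Nat.coprime_primes hq Fact.out).2 hqp)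
    have hxK : x ∈ Cfsg.pPrimeCore p G := by
      rw [← QuotientGroup.eq_one_iff, ← orderOf_eq_one_iff]
      have hp2 : IsPGroup p (Cfsg.pCore p (G ⧸ Cfsg.pPrimeCore p G)) :=
        CfsgLib.Coprime.pCore_isPGroup p
      obtain ⟨n, hn⟩ := hp2.exists_card_eq
      exact Nat.eq_one_of_dvd_coprimes (hcopx.pow_right n)
        (orderOf_map_dvd (QuotientGroup.mk' _) x) (hn ▸ Subgroup.orderOf_dvd_natCard _ hxU)
    apply hxc
    refine Subgroup.mem_centralizer_iff.2 fun v hv => ?_
    have hKn : (Cfsg.pPrimeCore p G).Normal := inferInstance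
    have h1 : x * v * x⁻¹ * v⁻¹ ∈ Cfsg.pPrimeCore p G := by
      rw [show x * v * x⁻¹ * v⁻¹ = x * (v * x⁻¹ * v⁻¹) by group]
      exact Subgroup.mul_mem _ hxK (hKn.conj_mem _ (Subgroup.inv_mem _ hxK) v)
    have h2 : x * v * x⁻¹ * v⁻¹ ∈ Q :=
      Q.mul_mem ((Subgroup.mem_normalizer_iff.1 hxn v).1 hv) (Q.inv_mem hv)
    have h3 : x * v * x⁻¹ * v⁻¹ = 1 := by
      obtain ⟨n, hn⟩ := (S.2.to_le hQS).exists_card_eq
      exact orderOf_eq_one_iff.1 (Nat.eq_one_of_dvd_coprimes
        ((CfsgLib.Coprime.pPrimeCore_coprime Fact.out).pow_right n)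
        (Subgroup.orderOf_dvd_natCard _ h1) (hn ▸ Subgroup.orderOf_dvd_natCard _ h2))
    exact (mul_inv_eq_iff_eq_mul.1 (mul_inv_eq_one.1 h3)).symm

end Cfsg.Agent.S4419
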