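import Cfsg.Statements.S4420
import Cfsg.Agent.Lib.Coprime.UniqueOrderP

set_option autoImplicit false
set_option linter.style.haveILetI false
open Cfsg

namespace Cfsg.Agent.S4420

/-- Structure of groups in which every element outside some proper subgroup has square 1. Let H be a finite group with a proper subgroup A such that every element outside A has square 1. Then H has an abelian normal subgroup B of index 2 such that every element outside B is an involution inverting every element of B; and if H is not an elementary abelian 2-group, B is the only abelian normal subgroup of index 2 with this property. -/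
theorem result {H : Type*} [Group H] [Finite H] (A : Subgroup H) (hA : A ≠ ⊤) (hD : ∀ x : H, x ∉ A → x ^ 2 = 1) :
    ∃ B : Subgroup H, B.Normal ∧ IsMulCommutative ↥B ∧ B.index = 2 ∧
      (∀ x : H, x ∉ B → x ^ 2 = 1 ∧ ∀ b ∈ B, x * b * x⁻¹ = b⁻¹) ∧
      (¬ (IsMulCommutative H ∧ ∀ x : H, x ^ 2 = 1) →
        ∀ B' : Subgroup H, B'.Normal → IsMulCommutative ↥B' → B'.index = 2 →
          (∀ x : H, x ∉ B' → x ^ 2 = 1 ∧ ∀ b ∈ B', x * b * x⁻¹ = b⁻¹) → B' = B) := by
  have hinvA : ∀ x, x ∉ A → ∀ a ∈ A, x * a * x⁻¹ = a⁻¹ := by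
    intro x hx a ha
    have h1 := hD x hx
    have h2 := hD (x * a) fun h => hx ((A.mul_mem_cancel_right ha).1 h)
    rw [pow_two] at h1 h2
    have hxi : x⁻¹ = x := inv_eq_of_mul_eq_one_right h1
    rw [hxi]
    exact eq_inv_of_mul_eq_one_left (by rw [← h2]; group)
  obtain ⟨x₀, hx₀⟩ : ∃ x, x ∉ A := by
    by_contra h
    push Not at h
    exact hA (eq_top_iff.2 fun g _ => h g)
  by_cases hexp : ∀ x : H, x ^ 2 = 1
  · have hinv : ∀ x : H, x⁻¹ = x := fun x => inv_eq_of_mul_eq_one_right (by rw [← pow_two]; exact hexp x)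
    have hcomm : ∀ a b : H, a * b = b * a := fun a b => by
      have := hinv (a * b)
      rw [mul_inv_rev, hinv, hinv] at this
      exact this.symm
    haveI : Nontrivial H := ⟨⟨x₀, 1, fun e => hx₀ (e ▸ A.one_mem)⟩⟩
    have h2 : IsPGroup 2 H := fun x => ⟨1, by rw [pow_one]; exact hexp x⟩
    obtain ⟨B, hBn, hBi⟩ := CfsgLib.Coprime.exists_normal_coatom h2
    refine ⟨B, hBn, isMulCommutative_iff.2 fun a b => Subtype.ext (hcomm _ _), hBi,
      fun x _ => ⟨hexp x, fun b _ => ?_⟩, fun h => absurd ⟨isMulCommutative_iff.2 hcomm, hexp⟩ h⟩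
    rw [hcomm x b, mul_inv_cancel_right, hinv]
  push Not at hexp
  obtain ⟨a₀, ha₀⟩ := hexp
  have ha₀A : a₀ ∈ A := by_contra fun h => ha₀ (hD a₀ h)
  have hidx : A.index = 2 := by
    refine Subgroup.index_eq_two_iff.2 ⟨x₀, fun b => ?_⟩
    by_cases hb : b ∈ A
    · exact Or.inr ⟨hb, fun h => hx₀ ((A.mul_mem_cancel_left hb).1 h)⟩
    · refine Or.inl ⟨by_contra fun hbx => ha₀ ?_, hb⟩
      have h1 := hinvA _ hbx a₀ ha₀A
      have h2 : b * x₀ * a₀ * (b * x₀)⁻¹ = a₀ := by
        calc _ = b * (x₀ * a₀ * x₀⁻¹) * b⁻¹ := by group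
          _ = (b * a₀ * b⁻¹)⁻¹ := by rw [hinvA _ hx₀ a₀ ha₀A]; group
          _ = a₀ := by rw [hinvA _ hb a₀ ha₀A, inv_inv]
      rw [h2] at h1
      rw [pow_two]
      nth_rw 1 [h1]
      exact inv_mul_cancel a₀
  have hAc : IsMulCommutative A := isMulCommutative_iff.2 fun a b => Subtype.ext (by
    have h1 := hinvA _ hx₀ _ (A.mul_mem a.2 b.2)
    have h2 : x₀ * ((a : H) * b) * x₀⁻¹ = (x₀ * a * x₀⁻¹) * (x₀ * b * x₀⁻¹) := by group
    rw [h2, hinvA _ hx₀ _ a.2, hinvA _ hx₀ _ b.2, ← mul_inv_rev, inv_inj] at h1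
    exact h1.symm)
  refine ⟨A, Subgroup.normal_of_index_eq_two hidx, hAc, hidx,
    fun x hx => ⟨hD x hx, hinvA x hx⟩, fun _ B' _ hB'c hB'i hB' => ?_⟩
  have ha₀B : a₀ ∈ B' := by_contra fun h => ha₀ (hB' a₀ h).1
  refine Subgroup.eq_of_le_of_card_ge (fun y hy => by_contra fun hyA => ha₀ ?_) ?_
  · have h1 := hinvA y hyA a₀ ha₀A
    have h2 : y * a₀ = a₀ * y :=
      congrArg Subtype.val (isMulCommutative_iff.1 hB'c ⟨y, hy⟩ ⟨a₀, ha₀B⟩)
    rw [h2, mul_inv_cancel_right] at h1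
    rw [pow_two]
    nth_rw 1 [h1]
    exact inv_mul_cancel a₀
  · have h1 := Subgroup.card_mul_index A
    have h2 := Subgroup.card_mul_index B'
    rw [hidx] at h1
    rw [hB'i] at h2
    omega

end Cfsg.Agent.S4420
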