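import Cfsg.Statements.S4422
import Cfsg.Agent.Lib.Coprime.Core
import Mathlib.FieldTheory.Finite.Basic

set_option autoImplicit false
set_option linter.style.haveILetI false
open Cfsg

namespace Cfsg.Agent.S4422

/-- Primitive divisors of `q^e - 1` are congruent to 1 modulo `e`. Let `q ≥ 2` and `e ≥ 1` be natural numbers and let `m` be a divisor of `q^e - 1` that is coprime to `q^i - 1` for every `1 ≤ i < e` (so `m` divides the primitive part of `q^e - 1`, the largest such divisor). Then `m ≡ 1 (mod e)`. -/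
theorem result (q e m : ℕ) (hq : 2 ≤ q) (he : 1 ≤ e)
    (hm : m ∣ q ^ e - 1) (hcop : ∀ i : ℕ, 1 ≤ i → i < e → Nat.Coprime m (q ^ i - 1)) :
    m % e = 1 % e := by
  have hpos : 0 < q ^ e - 1 := by
    have : q ≤ q ^ e := Nat.le_self_pow (by omega) q
    omega
  suffices key : ∀ d : ℕ, d ∣ m → d % e = 1 % e from key m dvd_rfl
  intro d
  induction d using Nat.recOnMul with
  | zero =>
    intro hd
    rw [zero_dvd_iff] at hd
    rw [hd, zero_dvd_iff] at hm
    omega
  | one => intro _; rfl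
  | prime r hr =>
    intro hd
    haveI := Fact.mk hr
    have hre := hd.trans hm
    have hrq : ¬ r ∣ q := fun h => by
      have h1 : r ∣ q ^ e := dvd_pow h (by omega)
      have h2 := Nat.dvd_sub h1 hre
      rw [Nat.sub_sub_self (Nat.one_le_pow _ _ (by omega))] at h2
      exact hr.ne_one (Nat.dvd_one.1 h2)
    have hq0 : (q : ZMod r) ≠ 0 := fun h => hrq ((ZMod.natCast_eq_zero_iff ..).1 h)
    have hpow : ∀ i : ℕ, (q : ZMod r) ^ i = 1 ↔ r ∣ q ^ i - 1 := fun i => by
      rw [← ZMod.natCast_eq_zero_iff, Nat.cast_sub (Nat.one_le_pow _ _ (by omega)), Nat.cast_pow,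
        Nat.cast_one, sub_eq_zero]
    have hord : orderOf (q : ZMod r) = e := by
      refine (orderOf_eq_iff (by omega)).2 ⟨(hpow e).2 hre, fun i hi hi0 h => ?_⟩
      exact hr.ne_one (Nat.eq_one_of_dvd_coprimes (hcop i hi0 hi) hd ((hpow i).1 h))
    have h1 : e ∣ r - 1 := hord ▸ ZMod.orderOf_dvd_card_sub_one hq0
    exact Nat.ModEq.symm ((Nat.modEq_iff_dvd' hr.one_lt.le).2 h1)
  | mul a b iha ihb =>
    intro hd
    rw [Nat.mul_mod, iha ((dvd_mul_right a b).trans hd), ihb ((dvd_mul_left b a).trans hd),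
      ← Nat.mul_mod, one_mul]

end Cfsg.Agent.S4422
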