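import Cfsg.Statements.S4423
-- import your own Cfsg.Agent.* helpers here
import Mathlib
import Cfsg.Agent.Lib.Char.Zsigmondy.Cyclo

set_option autoImplicit false
open Cfsg

namespace Cfsg.Agent.S4423

open CfsgLib.Char.Zsigmondy

/-- Totient values. -/
def tab : List ℕ := [
  0, 1, 1, 2, 2, 4, 2, 6, 4, 6, 4, 10, 4, 12, 6, 8, 8, 16, 6, 18, 8, 12, 10, 22, 8, 20, 12,
  18, 12, 28, 8, 30, 16, 20, 16, 24, 12, 36, 18, 24, 16, 40, 12, 42, 20, 24, 22, 46, 16, 42,
  20, 32, 24, 52, 18, 40, 24, 36, 28, 58, 16, 60, 30, 36, 32, 48, 20, 66, 32, 44, 24, 70, 24,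
  72, 36, 40, 36, 60, 24, 78, 32, 54, 40, 82, 24, 64, 42, 56, 40, 88, 24, 72, 44, 60, 46, 72,
  32, 96, 42, 60, 40, 100, 32, 102, 48, 48]

/-- Small pairs with a large primitive part. -/
def wit : List (ℕ × ℕ × ℕ) := [
  (3, 3, 13), (5, 3, 31), (6, 3, 43), (7, 3, 19), (8, 3, 73), (9, 3, 91), (10, 3, 37), (4, 4, 17),
  (5, 4, 13), (6, 4, 37), (7, 4, 25), (8, 4, 65), (9, 4, 41), (10, 4, 101), (11, 4, 61), (12, 4, 145),
  (13, 4, 85), (14, 4, 197), (2, 5, 31), (3, 5, 121), (4, 5, 341), (6, 6, 31), (7, 6, 43),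
  (8, 6, 19), (9, 6, 73), (10, 6, 91), (11, 6, 37), (12, 6, 133), (13, 6, 157), (14, 6, 61),
  (15, 6, 211), (16, 6, 241), (17, 6, 91), (18, 6, 307), (19, 6, 343), (20, 6, 127), (21, 6, 421),
  (2, 7, 127), (3, 8, 41), (4, 8, 257), (5, 8, 313), (2, 9, 73), (3, 9, 757), (3, 10, 61),
  (4, 10, 41), (5, 10, 521), (2, 11, 2047), (3, 12, 73), (4, 12, 241), (5, 12, 601), (6, 12, 1261),
  (2, 14, 43), (3, 14, 547), (2, 15, 151), (2, 16, 257), (3, 18, 703), (2, 21, 337), (2, 22, 683),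
  (2, 24, 241), (3, 24, 6481), (2, 26, 2731), (2, 28, 3277), (2, 30, 331), (3, 30, 8401), (2, 36, 4033),
  (2, 42, 5419)]

/-- The exceptional pairs with their primitive parts. -/
def exc : List (ℕ × ℕ × ℕ) := [
  (2, 6, 1), (2, 4, 5), (2, 10, 11), (2, 12, 13), (2, 18, 19), (3, 4, 5), (3, 6, 7), (5, 6, 7),
  (2, 3, 7), (2, 8, 17), (2, 20, 41), (4, 3, 7), (4, 6, 13)]

theorem tab_check : ∀ n < 106, Nat.totient n = tab.getD n 0 := by decide +kernel

theorem wit_check : ∀ w ∈ wit, (w.1 ^ w.2.1 - 1) % w.2.2 = 0 ∧ 3 * w.2.1 + 1 ≤ w.2.2 ∧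
    ∀ i < w.2.1, 1 ≤ i → Nat.gcd w.2.2 (w.1 ^ i - 1) = 1 := by decide +kernel

theorem small_check : ((List.range 106).all fun n => (List.range 365).all fun q =>
    decide (n < 3) || decide (q < 2) || decide (4 * (n * (3 * n + 1)) ≤ q ^ tab.getD n 0) ||
      (wit.map fun w => (w.1, w.2.1)).contains (q, n) ||
      (exc.map fun w => (w.1, w.2.1)).contains (q, n)) = true := by decide +kernel

theorem two_le_tab : ∀ n < 106, 3 ≤ n → 2 ≤ tab.getD n 0 := by decide +kernel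

theorem exc_check : ∀ w ∈ exc, 0 < w.2.2 ∧ w.2.2 ≤ 2 * w.2.1 + 1 ∧
    (w.1 ^ w.2.1 - 1) % w.2.2 = 0 ∧
    (((List.range w.2.1).map fun i => if 1 ≤ i then w.1 ^ i - 1 else 1).prod ^ 20) %
      ((w.1 ^ w.2.1 - 1) / w.2.2) = 0 := by decide +kernel

theorem exc_mem : ∀ w ∈ exc, (w.1, w.2.1) ∈ ([(2, 6), (2, 4), (2, 10), (2, 12), (2, 18), (3, 4),
    (3, 6), (5, 6), (2, 3), (2, 8), (2, 20), (4, 3), (4, 6)] : List (ℕ × ℕ)) := by decide

/-- Growth used to bound the totient. -/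
theorem eight_pow_gt (k : ℕ) (hk : 18 ≤ k) : 802816 * k ^ 8 < 8 ^ k := by
  induction k, hk using Nat.le_induction with
  | base => norm_num
  | succ k hk ih =>
    have h1 : (4 * (k + 1)) ^ 8 ≤ (5 * k) ^ 8 := Nat.pow_le_pow_left (by omega) 8
    rw [mul_pow, mul_pow] at h1
    norm_num at h1
    rw [pow_succ 8 k]
    omega

theorem cube_bound : ∀ n : ℕ, 0 < n → n ^ 3 ≤ 14 * n.totient ^ 4 := by
  intro n hn
  have key : ∀ n : ℕ, 0 < n → n ^ 3 * (if 3 ∣ n then 16 else 1) ≤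
      n.totient ^ 4 * ((if 2 ∣ n then 8 else 1) * (if 3 ∣ n then 27 else 1)) := by
    intro n hn
    induction n using Nat.recOnPosPrimePosCoprime with
    | zero => omega
    | one => simp
    | prime_pow p e hp he =>
      obtain ⟨j, rfl⟩ := Nat.exists_eq_succ_of_ne_zero he.ne'
      have hdvd : ∀ r : ℕ, r.Prime → (r ∣ p ^ (j + 1) ↔ r = p) := fun r hr =>
        ⟨fun h => (Nat.prime_dvd_prime_iff_eq hr hp).1 (hr.dvd_of_dvd_pow h),
          fun h => h ▸ dvd_pow_self _ (by omega)⟩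
      simp only [Nat.succ_eq_add_one, hdvd 2 Nat.prime_two, hdvd 3 Nat.prime_three]
      rw [Nat.totient_prime_pow_succ hp]
      have hb : p ^ 3 * (if 3 = p then 16 else 1) ≤
          (p - 1) ^ 4 * ((if 2 = p then 8 else 1) * (if 3 = p then 27 else 1)) := by
        rcases (show p = 2 ∨ p = 3 ∨ p = 4 ∨ 5 ≤ p by have := hp.two_le; omega) with
          rfl | rfl | rfl | h5
        · norm_num
        · norm_num
        · norm_num at hp
        · rw [if_neg (by omega), if_neg (by omega), if_neg (by omega), mul_one, mul_one, mul_one]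
          obtain ⟨k, rfl⟩ : ∃ k, p = k + 5 := ⟨p - 5, by omega⟩
          rw [show k + 5 - 1 = k + 4 from rfl]
          ring_nf
          nlinarith [Nat.zero_le (k ^ 4), Nat.zero_le (k ^ 3), Nat.zero_le (k ^ 2)]
      have hpj : (p ^ j) ^ 3 ≤ (p ^ j) ^ 4 := Nat.pow_le_pow_right (pow_pos hp.pos j) (by norm_num)
      calc (p ^ (j + 1)) ^ 3 * (if 3 = p then 16 else 1)
          = (p ^ j) ^ 3 * (p ^ 3 * (if 3 = p then 16 else 1)) := by ring
        _ ≤ (p ^ j) ^ 4 * ((p - 1) ^ 4 * ((if 2 = p then 8 else 1) * (if 3 = p then 27 else 1))) :=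
            Nat.mul_le_mul hpj hb
        _ = _ := by ring
    | coprime a b ha hb hab iha ihb =>
      specialize iha (by omega)
      specialize ihb (by omega)
      have key : ∀ (r c : ℕ), r.Prime → (if r ∣ a * b then c else 1) =
          (if r ∣ a then c else 1) * (if r ∣ b then c else 1) := by
        intro r c hr
        have hnot : ¬ (r ∣ a ∧ r ∣ b) := fun h =>
          hr.ne_one (Nat.dvd_one.1 (hab ▸ Nat.dvd_gcd h.1 h.2))
        by_cases h1 : r ∣ a <;> by_cases h2 : r ∣ b <;> simp_all [hr.dvd_mul]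
      rw [key 2 8 Nat.prime_two, key 3 16 Nat.prime_three, key 3 27 Nat.prime_three,
        Nat.totient_mul hab]
      calc (a * b) ^ 3 * ((if 3 ∣ a then 16 else 1) * (if 3 ∣ b then 16 else 1))
          = (a ^ 3 * (if 3 ∣ a then 16 else 1)) * (b ^ 3 * (if 3 ∣ b then 16 else 1)) := by ring
        _ ≤ _ := Nat.mul_le_mul iha ihb
        _ = _ := by ring
  have h := key n hn
  split_ifs at h <;> omega

/-- The primitive part of the cyclotomic value is at least its quotient by the exponent. -/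
theorem exists_part (q e : ℕ) (hq : 2 ≤ q) (he : 3 ≤ e) :
    ∃ m, m ∣ q ^ e - 1 ∧ (∀ i, 1 ≤ i → i < e → Nat.Coprime m (q ^ i - 1)) ∧ cyc e q ≤ e * m := by
  have hdvd := cyc_dvd_pow_sub_one e q hq (by omega)
  have hne := cyc_ne_zero e q hq
  have mk : ∀ m, m ∣ cyc e q → (∀ r : ℕ, r.Prime → r ∣ m → Prim q e r) →
      m ∣ q ^ e - 1 ∧ ∀ i, 1 ≤ i → i < e → Nat.Coprime m (q ^ i - 1) := fun m hm hall =>
    ⟨hm.trans hdvd, fun i hi hie => Nat.coprime_of_dvd fun r hr h1 h2 =>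
      (hall r hr h1).2.2 i hi hie h2⟩
  by_cases hex : ∃ p, p.Prime ∧ p ∣ cyc e q ∧ ¬ Prim q e p
  · obtain ⟨p, hp, hpc, hnp⟩ := hex
    obtain ⟨hpe, hall, hroot⟩ := (prime_dvd_cyc hq (by omega) hp hpc).resolve_left hnp
    obtain ⟨m, hm⟩ := hpc
    have hmd : m ∣ cyc e q := hm ▸ dvd_mul_left m p
    obtain ⟨h1, h2⟩ := mk m hmd fun r hr hrm => by
      rcases prime_dvd_cyc hq (by omega) hr (hrm.trans hmd) with h | ⟨hre, hall', -⟩
      · exact h
      · exfalso
        have : r = p := le_antisymm (hall r hr hre) (hall' p hp hpe)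
        refine sq_not_dvd_cyc hq he hp hpe hall hroot ?_
        rw [hm, pow_two]
        exact Nat.mul_dvd_mul_left p (this ▸ hrm)
    refine ⟨m, h1, h2, ?_⟩
    rw [hm]
    exact Nat.mul_le_mul_right m (Nat.le_of_dvd (by omega) hpe)
  · push Not at hex
    obtain ⟨h1, h2⟩ := mk _ dvd_rfl fun r hr hrm => hex r hr hrm
    exact ⟨_, h1, h2, Nat.le_mul_of_pos_left _ (by omega)⟩

/-- Size of the primitive part of `q^e - 1`. For a prime power `q` and `e ≥ 3`, call a divisor of `q^e - 1` primitive when it is coprime to `q^i - 1` for every `1 ≤ i < e`; the primitive part is the largest primitive divisor. Apart from thirteen exceptional pairs, the primitive part is at least `3e + 1`: there is a primitive divisor `m ≥ 3e + 1` unless `(q, e)` is `(2, 6)` (where every primitive divisor is 1), one of `(2,4), (2,10), (2,12), (2,18), (3,4), (3,6), (5,6)` (where the primitive part is exactly `e + 1`), or one of `(2,3), (2,8), (2,20), (4,3), (4,6)`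 (where it is exactly `2e + 1`). The statement asserts the existence of a primitive divisor `m ≥ 3e + 1` outside the thirteen pairs, and that every primitive divisor is at most `2e + 1` for the thirteen pairs. -/
theorem result (q e : ℕ) (hq : IsPrimePow q) (he : 3 ≤ e) :
    ((q, e) ∉ [(2, 6), (2, 4), (2, 10), (2, 12), (2, 18), (3, 4), (3, 6), (5, 6), (2, 3), (2, 8), (2, 20), (4, 3), (4, 6)] →
      ∃ m : ℕ, m ∣ q ^ e - 1 ∧ (∀ i : ℕ, 1 ≤ i → i < e → Nat.Coprime m (q ^ i - 1)) ∧ 3 * e + 1 ≤ m) ∧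
    ((q, e) ∈ [(2, 6), (2, 4), (2, 10), (2, 12), (2, 18), (3, 4), (3, 6), (5, 6), (2, 3), (2, 8), (2, 20), (4, 3), (4, 6)] →
      ∀ m : ℕ, m ∣ q ^ e - 1 → (∀ i : ℕ, 1 ≤ i → i < e → Nat.Coprime m (q ^ i - 1)) → m ≤ 2 * e + 1) := by
  have hq2 : 2 ≤ q := hq.two_le
  constructor
  · intro hexc
    obtain ⟨m, h1, h2, h3⟩ := exists_part q e hq2 he
    by_cases hbig : 3 * e + 1 ≤ m
    · exact ⟨m, h1, h2, hbig⟩
    have hlt : q ^ e.totient < 4 * (e * (3 * e + 1)) := by
      refine lt_of_le_of_lt (totient_pow_le q e hq2 (by omega)) ?_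
      have : e * m < e * (3 * e + 1) := Nat.mul_lt_mul_of_pos_left (by omega) (by omega)
      omega
    have hk : e.totient ≤ 17 := by
      by_contra hk
      have h8 := eight_pow_gt e.totient (by omega)
      have hcube := cube_bound e (by omega)
      have h1 : 2 ^ e.totient ≤ 16 * (e * e) := by
        refine ((Nat.pow_le_pow_left hq2 _).trans hlt.le).trans ?_
        nlinarith
      have h2 : (2 ^ e.totient) ^ 3 ≤ (16 * (e * e)) ^ 3 := Nat.pow_le_pow_left h1 3
      rw [← pow_mul, mul_comm e.totient 3, pow_mul, show (2 : ℕ) ^ 3 = 8 by norm_num,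
        show (16 * (e * e)) ^ 3 = 4096 * (e ^ 3) ^ 2 by ring] at h2
      have h3 : (e ^ 3) ^ 2 ≤ (14 * e.totient ^ 4) ^ 2 := Nat.pow_le_pow_left hcube 2
      rw [show (14 * e.totient ^ 4) ^ 2 = 196 * e.totient ^ 8 by ring] at h3
      omega
    have he106 : e < 106 := by
      by_contra h
      have h1 : e.totient ^ 4 ≤ 17 ^ 4 := Nat.pow_le_pow_left hk 4
      have h2 : 106 ^ 3 ≤ e ^ 3 := Nat.pow_le_pow_left (by omega) 3
      have h3 := cube_bound e (by omega)
      norm_num at h1 h2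
      omega
    rw [tab_check e he106] at hlt
    have hq365 : q < 365 := by
      by_contra h
      have h1 : q ^ 2 ≤ q ^ tab.getD e 0 :=
        Nat.pow_le_pow_right (by omega) (two_le_tab e he106 he)
      have h2 : 365 ^ 2 ≤ q ^ 2 := Nat.pow_le_pow_left (by omega) 2
      have h3 : e * (3 * e + 1) ≤ 105 * 316 := Nat.mul_le_mul (by omega) (by omega)
      norm_num at h2 h3
      omega
    have h := List.all_eq_true.1 (List.all_eq_true.1 small_check e (List.mem_range.2 he106)) q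
      (List.mem_range.2 hq365)
    simp only [Bool.or_eq_true, decide_eq_true_eq, List.contains_iff_mem, List.mem_map] at h
    rcases h with ((((h | h) | h) | ⟨w, hw, hwe⟩) | ⟨w, hw, hwe⟩)
    · omega
    · omega
    · omega
    · obtain ⟨a, b, m'⟩ := w
      cases hwe
      obtain ⟨w1, w2, w3⟩ := wit_check _ hw
      exact ⟨m', Nat.dvd_of_mod_eq_zero w1, fun i hi hie => w3 i hie hi, w2⟩
    · exfalso
      apply hexc
      rw [← hwe]
      exact exc_mem w hw
  · intro hmem m hm hcop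
    obtain ⟨P, hP⟩ : ∃ P, (q, e, P) ∈ exc := by
      simp only [List.mem_cons, List.not_mem_nil, or_false, Prod.mk.injEq] at hmem
      rcases hmem with ⟨rfl, rfl⟩ | ⟨rfl, rfl⟩ | ⟨rfl, rfl⟩ | ⟨rfl, rfl⟩ | ⟨rfl, rfl⟩ | ⟨rfl, rfl⟩ |
        ⟨rfl, rfl⟩ | ⟨rfl, rfl⟩ | ⟨rfl, rfl⟩ | ⟨rfl, rfl⟩ | ⟨rfl, rfl⟩ | ⟨rfl, rfl⟩ | ⟨rfl, rfl⟩ <;>
          simp [exc]
    obtain ⟨hP0, hP1, hPd, hR⟩ := exc_check _ hP
    have hR' : Nat.Coprime m (((List.range e).map fun i => if 1 ≤ i then q ^ i - 1 else 1).prod ^ 20) := by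
      refine Nat.Coprime.pow_right 20 (Nat.coprime_list_prod_right_iff.2 fun x hx => ?_)
      obtain ⟨i, hi, rfl⟩ := List.mem_map.1 hx
      by_cases h1 : 1 ≤ i
      · rw [if_pos h1]; exact hcop i h1 (List.mem_range.1 hi)
      · rw [if_neg h1]; exact Nat.coprime_one_right m
    have hm' : Nat.Coprime m ((q ^ e - 1) / P) :=
      hR'.coprime_dvd_right (Nat.dvd_of_mod_eq_zero hR)
    have hdiv : m ∣ P := by
      refine hm'.dvd_of_dvd_mul_right ?_
      rw [Nat.mul_div_cancel' (Nat.dvd_of_mod_eq_zero hPd)]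
      exact hm
    exact (Nat.le_of_dvd hP0 hdiv).trans hP1

end Cfsg.Agent.S4423
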