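import Cfsg.Statements.S4425
import Cfsg.Agent.Lib.Block.BrauerFeit
import Cfsg.Agent.Lib.Char.Virtual

set_option autoImplicit false
open Cfsg CfsgLib.Block

namespace Cfsg.Agent.S4425

/-- Let χ be an irreducible character of the finite group G, p a prime, p^a the p-part of the order of G and p^b the p-part of the degree χ(1). Let χ̃ be the class function equal to p^a · χ on p-regular elements and zero on p-singular elements. Then p^(−b) · χ̃ is a generalized character of G, while p^(−(b+1)) · χ̃ is not. -/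
theorem result {G : Type*} [Group G] [Finite G] (p : ℕ) [Fact p.Prime] (χ : Cfsg.IrrCharacter G) : Cfsg.IsGeneralizedCharacter G (fun x : G => if p ∣ orderOf x then (0 : ℂ) else ((p ^ ((Nat.card G).factorization p - (Cfsg.charDegree (χ : G → ℂ)).factorization p) : ℕ) : ℂ) * (χ : G → ℂ) x) ∧ ¬ Cfsg.IsGeneralizedCharacter G (fun x : G => if p ∣ orderOf x then (0 : ℂ) else ((p ^ (Nat.card G).factorization p : ℕ) : ℂ) / ((p ^ ((Cfsg.charDegree (χ : G → ℂ)).factorization p + 1) : ℕ) : ℂ) * (χ : G → ℂ) x) := by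
  classical
  obtain ⟨M, hM⟩ := exists_pModular (Fact.out : p.Prime)
  have := hM.2.1
  letI := Fintype.ofFinite G
  have := Fintype.ofFinite (IrrCharacter G)
  have := Fintype.ofFinite (ConjClasses G)
  obtain ⟨u, -, hint⟩ := exists_regInner_int hM χ
  have hinner : ∀ (c : ℂ) (ψ : IrrCharacter G),
      classInner (fun x : G => if p ∣ orderOf x then (0 : ℂ) else c * (χ : G → ℂ) x) (ψ : G → ℂ) =
        c * regInner p χ ψ := by
    intro c ψ
    rw [regInner, ← CfsgLib.Char.classInner_smul_left]
    congr 1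
    funext x
    by_cases hx : p ∣ orderOf x <;> simp [regFun, hx]
  have hcf : ∀ c : ℂ, IsClassFunction G
      (fun x : G => if p ∣ orderOf x then (0 : ℂ) else c * (χ : G → ℂ) x) := by
    intro c g h
    simp only [orderOf_conj_eq, CfsgLib.Char.isClassFunction_irr χ g h]
  constructor
  · refine CfsgLib.Char.isGeneralizedCharacter_of_int_inner (hcf _) fun ψ => ?_
    obtain ⟨z, hz, -⟩ := hint ψ
    exact ⟨z, by rw [hinner, Nat.cast_pow]; exact hz⟩
  · intro hgen
    obtain ⟨ψ, -, hψ⟩ := exists_regN_ne_zero hM (isPBlock_blockOf χ) (self_mem_blockOf χ)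
    obtain ⟨k, hk⟩ := CfsgLib.Char.classInner_generalized_int hgen
      (CfsgLib.Char.isGeneralizedCharacter_of_isCharacter (CfsgLib.Char.isCharacter_irr ψ))
    rw [hinner] at hk
    obtain ⟨I, hI, -, hI2⟩ := regInner_valuation hM χ ψ
    refine hψ (hI2.mp ⟨k, ?_⟩)
    have hp0 : (p : ℂ) ≠ 0 := Nat.cast_ne_zero.mpr (Fact.out : p.Prime).ne_zero
    have h2 : (I : ℂ) = (((p : ℤ) ^ (degVal p χ + 1) * k : ℤ) : ℂ) := by
      push_cast
      rw [← hI, ← hk, ← mul_assoc]
      congr 1
      push_cast
      simp only [degVal]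
      rw [mul_div_cancel₀]
      exact pow_ne_zero _ hp0
    exact_mod_cast h2

end Cfsg.Agent.S4425
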