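import Cfsg.Statements.S4426
import Cfsg.Agent.Lib.Block.BrauerFeit

set_option autoImplicit false
open Cfsg CfsgLib.Block

namespace Cfsg.Agent.S4426

/-- Let χ be an irreducible character in the p-block B of the finite group G (relative to a maximal ideal M of the algebraic integers containing p), let p^a be the p-part of the order of G, and let χ̃ be the class function equal to p^a · χ on p-regular elements and zero elsewhere. For ξ ∈ B the inner product [χ̃, ξ] is an integer. The following are equivalent: (a) χ has height zero in B; (b) for some ξ ∈ B the integer [χ̃, ξ] is nonzero and the exact power of p dividing it equals the exact power of p dividing ξ(1); (c) the same holds for every ξ ∈ B. -/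
theorem result {G : Type*} [Group G] [Fintype G] (p : ℕ) [Fact p.Prime] (M : Ideal Cfsg.AlgInt) (hM : Cfsg.IsPModular p M) (B : Set (Cfsg.IrrCharacter G)) (hB : Cfsg.IsPBlock M B) (χ : Cfsg.IrrCharacter G) (hχ : χ ∈ B) : (Cfsg.blockHeight p B (χ : G → ℂ) = 0 ↔ ∃ ξ ∈ B, ∃ n : ℤ, Cfsg.classInner (fun x : G => if p ∣ orderOf x then (0 : ℂ) else ((p ^ (Nat.card G).factorization p : ℕ) : ℂ) * (χ : G → ℂ) x) (ξ : G → ℂ) = (n : ℂ) ∧ n ≠ 0 ∧ padicValInt p n = (Cfsg.charDegree (ξ : G → ℂ)).factorization p) ∧ (Cfsg.blockHeight p B (χ : G → ℂ) = 0 ↔ ∀ ξ ∈ B, ∃ n : ℤ, Cfsg.classInner (fun x : G => if p ∣ orderOf x then (0 : ℂ) else ((p ^ (Nat.card G).factorization p : ℕ) : ℂ) * (χ : G → ℂ) x) (ξ : G → ℂ) = (n : ℂ) ∧ n ≠ 0 ∧ padicValInt p n = (Cfsg.charDegree (ξ : G → ℂ)).factorization p) := by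
  classical
  have := hM.2.1
  have := Fintype.ofFinite (IrrCharacter G)
  have := Fintype.ofFinite (ConjClasses G)
  have hinner : ∀ ξ : IrrCharacter G,
      classInner (fun x : G => if p ∣ orderOf x then (0 : ℂ) else ((p ^ (Nat.card G).factorization p : ℕ) : ℂ) * (χ : G → ℂ) x) (ξ : G → ℂ) =
        (p : ℂ) ^ (Nat.card G).factorization p * regInner p χ ξ := by
    intro ξ
    rw [regInner, ← CfsgLib.Char.classInner_smul_left]
    congr 1
    funext x
    by_cases hx : p ∣ orderOf x <;> simp [regFun, hx]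
  have key : ∀ ξ ∈ B, (blockHeight p B (χ : G → ℂ) = 0 ↔ ∃ n : ℤ,
      classInner (fun x : G => if p ∣ orderOf x then (0 : ℂ) else ((p ^ (Nat.card G).factorization p : ℕ) : ℂ) * (χ : G → ℂ) x) (ξ : G → ℂ) = (n : ℂ) ∧
        n ≠ 0 ∧ padicValInt p n = (charDegree (ξ : G → ℂ)).factorization p) := by
    intro ξ hξ
    obtain ⟨I, hI, hI1, hI2⟩ := regInner_valuation hM ξ χ
    rw [regInner_comm hM ξ χ] at hI
    have hiff : (p : ℤ) ^ (degVal p ξ + 1) ∣ I ↔ ¬ blockHeight p B (χ : G → ℂ) = 0 := by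
      rw [hI2, ← forall_degVal_le_iff hχ, ← regN_ne_zero_iff hM hB hξ hχ, not_not]
    constructor
    · intro h0
      have hnd : ¬ (p : ℤ) ^ (degVal p ξ + 1) ∣ I := fun h => hiff.mp h h0
      have hne : I ≠ 0 := fun h => hnd (h ▸ dvd_zero _)
      refine ⟨I, by rw [hinner, hI], hne, ?_⟩
      rw [padicValInt_dvd_iff] at hI1 hnd
      push Not at hnd
      show _ = degVal p ξ
      rcases hI1 with h | h
      · exact absurd h hne
      · omega
    · rintro ⟨n, hn, hne, hv⟩
      have hnI : n = I := by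
        rw [hinner, hI] at hn
        exact_mod_cast hn.symm
      subst hnI
      by_contra h0
      have := hiff.mpr h0
      rw [padicValInt_dvd_iff] at this
      rcases this with h | h
      · exact hne h
      · simp only [degVal] at h
        omega
  obtain ⟨χ₀, hχ₀⟩ := isPBlock_nonempty hB
  exact ⟨⟨fun h => ⟨χ₀, hχ₀, (key χ₀ hχ₀).mp h⟩, fun ⟨ξ, hξ, h⟩ => (key ξ hξ).mpr h⟩,
    ⟨fun h ξ hξ => (key ξ hξ).mp h, fun h => (key χ₀ hχ₀).mpr (h χ₀ hχ₀)⟩⟩

end Cfsg.Agent.S4426
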