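import Cfsg.Statements.S4430
import Cfsg.Agent.Lib.Block.InducedDegree
-- import your own Cfsg.Agent.* helpers here

set_option autoImplicit false
open Cfsg CfsgLib.Block

open Cfsg

namespace Cfsg.Agent.S4430

/-- Let H be a subgroup of the finite group G, b a block of H whose induced block B₀ in G is defined (relative to a maximal ideal M of the algebraic integers containing p), and ξ ∈ b. For a block B of G let n_B be the value at 1 of the B-part of the induced character ξ^G (a natural number: the sum over χ ∈ B of the multiplicity of χ in ξ^G times χ(1)). Then for B = B₀ the exact power of p dividing n_B equals the exact power of p dividing ξ^G(1), while for every other block B either n_B = 0 or n_B is divisible by a strictly higher power of p than ξ^G(1). -/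
theorem result {G : Type*} [Group G] [Fintype G] (p : ℕ) [Fact p.Prime] (M : Ideal Cfsg.AlgInt) (hM : Cfsg.IsPModular p M) (H : Subgroup G) [Fintype H] (b : Set (Cfsg.IrrCharacter H)) (B₀ : Set (Cfsg.IrrCharacter G)) (hind : Cfsg.IsInducedBlock M H b B₀) (ξ : Cfsg.IrrCharacter H) (hξ : ξ ∈ b) : (∃ n : ℕ, Cfsg.blockPart B₀ (Cfsg.indFun H (ξ : H → ℂ)) 1 = (n : ℂ) ∧ n ≠ 0 ∧ n.factorization p = (Cfsg.charDegree (Cfsg.indFun H (ξ : H → ℂ))).factorization p) ∧ ∀ B : Set (Cfsg.IrrCharacter G), Cfsg.IsPBlock M B → B ≠ B₀ → ∃ n : ℕ, Cfsg.blockPart B (Cfsg.indFun H (ξ : H → ℂ)) 1 = (n : ℂ) ∧ (n = 0 ∨ (Cfsg.charDegree (Cfsg.indFun H (ξ : H → ℂ))).factorization p < n.factorization p) := by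
  classical
  have := hM.2.1
  have hind1 : indFun H (ξ : H → ℂ) 1 = ((H.index * charDegree (ξ : H → ℂ) : ℕ) : ℂ) := by
    rw [CfsgLib.Char.indFun_one, (charDegree_eq ξ).1]; push_cast; rfl
  have hd : charDegree (indFun H (ξ : H → ℂ)) = H.index * charDegree (ξ : H → ℂ) := by
    show ⌊((indFun H (ξ : H → ℂ)) 1).re⌋₊ = _
    rw [hind1, Complex.natCast_re, Nat.floor_natCast]
  have hd0 : H.index * charDegree (ξ : H → ℂ) ≠ 0 :=
    mul_ne_zero Subgroup.FiniteIndex.index_ne_zero (charDegree_eq ξ).2
  have hchar := CfsgLib.Char.isCharacter_indFun H (CfsgLib.Char.isCharacter_irr ξ)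
  rw [hd]
  constructor
  · obtain ⟨n, hn⟩ := exists_nat_blockPart_one hM (B := B₀) hchar
    have h := blockPart_indFun_one hM hind.2.1 ξ
    rw [hn, hind1] at h
    have hres := res_omegaLoc_resHL hM hind hind.2.1 hξ
    rw [if_pos rfl] at hres
    exact ⟨n, hn, (factorization_of_eq_mul hM hd0 h).1 (by rw [hres]; exact one_ne_zero)⟩
  · intro B hB hne
    obtain ⟨n, hn⟩ := exists_nat_blockPart_one hM (B := B) hchar
    have h := blockPart_indFun_one hM hB ξ
    rw [hn, hind1] at h
    have hres := res_omegaLoc_resHL hM hind hB hξ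
    rw [if_neg hne] at hres
    exact ⟨n, hn, (factorization_of_eq_mul hM hd0 h).2 hres⟩

end Cfsg.Agent.S4430
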