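import Cfsg.Statements.S4431
import Cfsg.Agent.Lib.Block.InducedDegree
-- import your own Cfsg.Agent.* helpers here

set_option autoImplicit false
open Cfsg CfsgLib.Block

open Cfsg

namespace Cfsg.Agent.S4431

/-- Let H be a subgroup of the finite group G and b a block of H whose induced block B₀ in G is defined (relative to a maximal ideal M of the algebraic integers containing p). Let χ be an irreducible character of G, ψ ∈ b, and let η be the class function on H equal to p^a · χ on the p-regular elements of H and zero elsewhere, p^a being the p-part of the order of H. Then (a) if χ ∉ B₀, the number [η, ψ]/ψ(1) lies in the local ideal at M; (b) if χ ∈ B₀ has height zero, it does not. -/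
theorem result {G : Type*} [Group G] [Fintype G] (p : ℕ) [Fact p.Prime] (M : Ideal Cfsg.AlgInt) (hM : Cfsg.IsPModular p M) (H : Subgroup G) [Fintype H] (b : Set (Cfsg.IrrCharacter H)) (B₀ : Set (Cfsg.IrrCharacter G)) (hind : Cfsg.IsInducedBlock M H b B₀) (χ : Cfsg.IrrCharacter G) (ψ : Cfsg.IrrCharacter H) (hψ : ψ ∈ b) : (χ ∉ B₀ → Cfsg.MemLocalIdeal M (Cfsg.classInner (fun h : H => if p ∣ orderOf h then (0 : ℂ) else ((p ^ (Nat.card H).factorization p : ℕ) : ℂ) * (χ : G → ℂ) h) (ψ : H → ℂ) / (ψ : H → ℂ) 1)) ∧ (χ ∈ B₀ → Cfsg.blockHeight p B₀ (χ : G → ℂ) = 0 → ¬ Cfsg.MemLocalIdeal M (Cfsg.classInner (fun h : H => if p ∣ orderOf h then (0 : ℂ) else ((p ^ (Nat.card H).factorization p : ℕ) : ℂ) * (χ : G → ℂ) h) (ψ : H → ℂ) / (ψ : H → ℂ) 1)) := by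
  classical
  have := hM.2.1
  have := Fintype.ofFinite (ConjClasses G)
  have := Fintype.ofFinite (IrrCharacter G)
  have hm : ¬ p ∣ ordCompl[p] (Nat.card H) := Nat.not_dvd_ordCompl hM.1 Nat.card_pos.ne'
  rw [classInner_regPart_eq hM χ ψ hm, memLocalIdeal_coe, map_mul]
  obtain ⟨χ₀, hχ₀⟩ := isPBlock_nonempty hind.2.1
  refine ⟨fun hχ => ?_, fun hχ h0 => ?_⟩
  · rw [res_omegaLoc_regValSum hM hind χ hψ hχ₀]
    obtain ⟨R, hR, hRres⟩ := exists_regN_lift (p := p) (M := M) χ₀ χ
    rw [regInner_eq_zero_of_not_mem hM (.of_isPBlock hind.2.1) hχ₀ hχ, mul_zero,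
      mul_eq_zero_iff_right (CfsgLib.Char.irr_one_ne_zero χ₀)] at hR
    rw [← hRres, show R = 0 from Subtype.ext hR, map_zero, mul_zero]
  · rw [res_omegaLoc_regValSum hM hind χ hψ hχ]
    refine mul_ne_zero (res_invNat_ne_zero hM hm) ((regN_ne_zero_iff hM hind.2.1 hχ hχ).mpr ?_)
    intro θ hθ
    rw [blockHeight, Nat.sub_eq_zero_iff_le] at h0
    exact h0.trans (Nat.sInf_le ⟨θ, hθ, rfl⟩)

end Cfsg.Agent.S4431
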