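import Cfsg.Statements.S4436
import Cfsg.Agent.Lib.Block.FongReynolds
-- import your own Cfsg.Agent.* helpers here

set_option autoImplicit false
open Cfsg CfsgLib.Block

open Cfsg

namespace Cfsg.Agent.S4436

/-- Let N be a normal subgroup of the finite group G, b a block of N (relative to a maximal ideal M of the algebraic integers containing p), T the stabilizer of b in G, N ≤ T, and B′ a block of T covering b (some member of B′ has a constituent in b on restriction to N) that induces the block B of G. Then every defect group of B′ is a defect group of B, and for every ψ ∈ B′ the induced character ψ^G is an irreducible character of G lying in B with the same height as ψ. -/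
theorem result {G : Type*} [Group G] [Fintype G] (p : ℕ) [Fact p.Prime] (M : Ideal Cfsg.AlgInt) (hM : Cfsg.IsPModular p M) (N : Subgroup G) [hN : N.Normal] [Fintype N] (b : Set (Cfsg.IrrCharacter N)) (hb : Cfsg.IsPBlock M b) (T : Subgroup G) [Fintype T] (hT : ∀ g : G, g ∈ T ↔ ∀ θ ∈ b, ∀ θ' : Cfsg.IrrCharacter N, (∀ n : N, (θ' : N → ℂ) n = (θ : N → ℂ) ⟨g * n * g⁻¹, hN.conj_mem n n.2 g⟩) → θ' ∈ b) (hNT : N ≤ T) (B' : Set (Cfsg.IrrCharacter T)) (hB' : Cfsg.IsPBlock M B') (hcov : (∃ ψ ∈ B', ∃ θ ∈ b, Cfsg.classInner (fun n : N => (ψ : T → ℂ) ⟨(n : G), hNT n.2⟩) (θ : N → ℂ) ≠ 0)) (B : Set (Cfsg.IrrCharacter G)) (hind : Cfsg.IsInducedBlock M T B' B) : (∀ D : Subgroup T, Cfsg.IsDefectGroup p M B' D → Cfsg.IsDefectGroup p M B (D.map T.subtype)) ∧ ∀ ψ ∈ B', ∃ χ ∈ B, (χ : G → ℂ) = Cfsg.indFun T (ψ : T → ℂ) ∧ Cfsg.blockHeight p B (χ : G → ℂ) = Cfsg.blockHeight p B' (ψ : T → ℂ) := by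
  classical
  have := hM.2.1
  have hT' := stab_iff_of_forall hb hT
  obtain ⟨C, hi, -, hirr, hmem⟩ := fongReynolds_block hNT hM hb hT' hB' (show ∃ ψ ∈ B', OverB hNT b ψ from hcov)
  obtain rfl := inducedBlock_unique hi hind
  have hB := hind.2.1
  set k := T.index.factorization p
  have hsInf : sInf ((fun χ : IrrCharacter G => (charDegree (χ : G → ℂ)).factorization p) '' C) =
      k + sInf ((fun ψ : IrrCharacter T => (charDegree (ψ : T → ℂ)).factorization p) '' B') := by
    obtain ⟨ψ₀, hψ₀⟩ := isPBlock_nonempty hB'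
    refine le_antisymm ?_ ?_
    · obtain ⟨ψ, hψ, he⟩ := Nat.sInf_mem (s := (fun ψ : IrrCharacter T =>
        (charDegree (ψ : T → ℂ)).factorization p) '' B') ⟨_, ψ₀, hψ₀, rfl⟩
      refine le_trans (Nat.sInf_le ⟨⟨_, (hirr ψ hψ).2⟩, (hmem _).mpr ⟨ψ, hψ, rfl⟩, rfl⟩) ?_
      rw [← he]
      exact (fongReynolds_degree hM (ψ := ψ) (χ := ⟨_, (hirr ψ hψ).2⟩) rfl).le
    · obtain ⟨χ, hχ, he⟩ := Nat.sInf_mem (s := (fun χ : IrrCharacter G =>
        (charDegree (χ : G → ℂ)).factorization p) '' C) ⟨_, ⟨_, (hirr ψ₀ hψ₀).2⟩, (hmem _).mpr ⟨ψ₀, hψ₀, rfl⟩, rfl⟩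
      rw [← he]
      obtain ⟨ψ, hψ, hχψ⟩ := (hmem χ).mp hχ
      refine le_trans (Nat.add_le_add_left (Nat.sInf_le (s := (fun ψ : IrrCharacter T => (charDegree (ψ : T → ℂ)).factorization p) '' B') (Set.mem_image_of_mem _ hψ)) k) ?_
      exact (fongReynolds_degree hM hχψ).ge
  refine ⟨fun D hD => ?_, fun ψ hψ => ⟨⟨_, (hirr ψ hψ).2⟩, (hmem _).mpr ⟨ψ, hψ, rfl⟩, rfl, ?_⟩⟩
  · obtain ⟨E, hE, hDE⟩ := exists_defectGroup_ge hM hi hD
    have hc1 := defectGroup_card hM hB hE
    have hc2 := defectGroup_card hM hB' hD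
    have hdef : blockDefect p C = blockDefect p B' := by
      have hTG : (Nat.card G).factorization p = k + (Nat.card T).factorization p := by
        rw [← T.index_mul_card, Nat.factorization_mul Subgroup.index_ne_zero_of_finite Nat.card_pos.ne',
          Finsupp.add_apply]
      rw [blockDefect, blockDefect, hsInf, hTG]
      omega
    rwa [← Subgroup.eq_of_le_of_card_ge hDE (by
      rw [Subgroup.card_map_of_injective T.subtype_injective, hc1, hc2, hdef])] at hE
  · rw [blockHeight, blockHeight, hsInf]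
    have := fongReynolds_degree hM (ψ := ψ) (χ := (⟨_, (hirr ψ hψ).2⟩ : IrrCharacter G)) rfl
    simp only [degVal] at this
    rw [this]
    omega

end Cfsg.Agent.S4436
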