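import Cfsg.Statements.S4437
import Cfsg.Agent.Lib.Block.CentralDefect
import Cfsg.Agent.Lib.Block.Correspondence
-- import your own Cfsg.Agent.* helpers here

set_option autoImplicit false
open Cfsg CfsgLib.Block
open scoped CfsgLib.Block.Pair

namespace Cfsg.Agent.S4437

/-- Let P be a p-subgroup of the finite group G, H = P·C_G(P), and b a block of H (relative to a maximal ideal M of the algebraic integers containing p) having P as a defect group; let B be the block of G induced by b. Let T be the stabilizer of b in N_G(P): the elements g of N_G(P) such that the g-conjugate of every member of b is again a member of b. Then B has defect group P if and only if p does not divide the index of H in T. -/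
theorem result {G : Type*} [Group G] [Fintype G] (p : ℕ) [Fact p.Prime] (M : Ideal Cfsg.AlgInt) (hM : Cfsg.IsPModular p M) (P : Subgroup G) (hP : IsPGroup p P) (H : Subgroup G) [Fintype H] (hH : H = P ⊔ Subgroup.centralizer (P : Set G)) (b : Set (Cfsg.IrrCharacter H)) (hb : Cfsg.IsPBlock M b) (hbP : Cfsg.IsDefectGroup p M b (P.subgroupOf H)) (B : Set (Cfsg.IrrCharacter G)) (hind : Cfsg.IsInducedBlock M H b B) (T : Subgroup G) (hT : ∀ g : G, g ∈ T ↔ (g ∈ Subgroup.normalizer (P : Set G) ∧ ∀ θ ∈ b, ∀ θ' : Cfsg.IrrCharacter H, (∀ h h' : H, (h' : G) = g * h * g⁻¹ → (θ' : H → ℂ) h' = (θ : H → ℂ) h) → θ' ∈ b)) : Cfsg.IsDefectGroup p M B P ↔ ¬ p ∣ H.relIndex T := by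
  classical
  have := hM.2.1
  obtain rfl : ‹Fintype H› = CfsgLib.Block.Pair.subgroupFintype H := Subsingleton.elim _ _
  have hPH : P ≤ H := hH ▸ le_sup_left
  have hCH : CQ P ≤ H := hH ▸ le_sup_right
  have hHN : H ≤ Subgroup.normalizer (P : Set G) :=
    hH ▸ sup_le Subgroup.le_normalizer (centralizer_le_normalizer' P)
  have hn : (P.subgroupOf H).Normal := Subgroup.normal_subgroupOf_iff_le_normalizer hPH |>.mpr hHN
  have hys : SuppIn (CQ P) (eG M b) := trC_eG_eq_self hM hP hPH hHN hb ▸ suppIn_trC _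
  obtain ⟨g₀, hg₀⟩ : ∃ g, (eG M b).coeff g ≠ 0 := by
    by_contra hall
    push Not at hall
    obtain ⟨ξ, hξ⟩ := isPBlock_nonempty hb
    have h1 := omG_eG hM hb ξ
    rw [if_pos hξ, show eG M b = 0 from ga_ext fun g => by simp [hall g], omG_zero] at h1
    exact zero_ne_one h1
  obtain ⟨η, hη⟩ :=
    exists_omG_eq_one hM hys ((cinv_eG b).mono hCH) (eG_mul_self hM hb) hg₀
  set e := blockOf M (η : CQ P → ℂ) with hedef
  have he : IsBrauerPair p M P e := ⟨hP, isPBlock_blockOf η⟩
  have hHfix : CInv H (eG M e) := by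
    subst hH
    exact cinv_sup (cinv_self_eG e) (cinv_eG e)
  obtain ⟨F, hL, -⟩ := exists_localBlock hM hP hCH hPH hHN he.2 (cinv_iff_cj.mp hHfix)
  obtain rfl : F = b := by
    by_contra hne
    have h1 := eG_mul_eq_zero (G := G) hM hb hL.block (Ne.symm hne)
    rw [hL.eq] at h1
    have h2 := omG_mul η hys (suppIn_eG e) ((cinv_eG b).mono hCH) (cinv_eG e)
    rw [h1, omG_zero, hη, omG_eG hM he.2, if_pos (self_mem_blockOf η), mul_one] at h2
    exact zero_ne_one h2
  obtain ⟨ξ, hξ⟩ := isPBlock_nonempty hb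
  have hpair : IsBrauerPairOf p M B P e := by
    obtain ⟨-, hB, hω⟩ := isInducedBlock_iff.mp hind
    refine (isBrauerPairOf_iff_omG hM).mpr ⟨he, hB, fun η' hη' χ hχ z => ?_⟩
    rw [← hω ξ hξ χ hχ z, ← hL.omG_emb_eq hM he hPH hη' hξ]
    refine omG_congr η' fun g hg => ?_
    rw [show g = ((⟨g, hCH hg⟩ : H) : G) from rfl, coeff_emb_coe, coeff_resHK]
  have hmax_iff : IsDefectGroup p M B P ↔ IsMaximalBrauerPair p M B P e := by
    refine ⟨fun hD => ?_, isDefectGroup_of_maximal hM⟩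
    obtain ⟨D, d, hd, hle⟩ := exists_maximal_above hM P e hpair
    obtain rfl : P = D := Subgroup.eq_of_le_of_card_ge (SubpairLE.le hle) (by
      rw [defectGroup_card hM hpair.2.1 (isDefectGroup_of_maximal hM hd),
        defectGroup_card hM hpair.2.1 hD])
    rwa [SubpairLE.eq_of_eq hM hle]
  have hHconj : ∀ n ∈ Subgroup.normalizer (P : Set G), ∀ g, g ∈ H ↔ n * g * n⁻¹ ∈ H := by
    intro n hn
    have hmap : ∀ m ∈ Subgroup.normalizer (P : Set G), ∀ g ∈ H, m * g * m⁻¹ ∈ H := by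
      intro m hm g hg
      subst hH
      have h1 : cjS m (P ⊔ CQ P) ≤ P ⊔ CQ P := by
        show Subgroup.map _ _ ≤ _
        rw [Subgroup.map_sup]
        refine sup_le_sup (fun u hu => ?_) (fun u hu => ?_)
        · obtain ⟨v, hv, rfl⟩ := hu
          exact (Subgroup.mem_normalizer_iff.mp hm v).mp hv
        · obtain ⟨v, hv, rfl⟩ := hu
          exact (cq_conj_iff hm v).mp hv
      exact h1 (conj_mem_cjS.mpr hg)
    exact fun g => ⟨hmap n hn g, fun h => by simpa [mul_assoc] using hmap _ (inv_mem hn) _ h⟩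
  have hT' : ∀ g, g ∈ T ↔ g ∈ Subgroup.normalizer (P : Set G) ∧ StabilizesBlock (CQ P) e g := by
    intro g
    rw [hT g]
    refine and_congr_right fun hg => ?_
    rw [stabilizesBlock_iff hM hg he.2, ← hL.eq, ← eG_conjSet (hHconj g hg)]
    constructor
    · intro h
      congr 1
      have hsub : conjSet g H H F ⊆ F := by
        rintro θ' ⟨θ, hθ, hv⟩
        exact h θ hθ θ' hv
      obtain ⟨θ, hθ⟩ := isPBlock_nonempty (isPBlock_conjSet (hHconj g hg) hb)
      exact isPBlock_eq_of_mem (isPBlock_conjSet (hHconj g hg) hb) hb hθ (hsub hθ)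
    · intro h θ hθ θ' hv
      rw [← eG_inj hM (isPBlock_conjSet (hHconj g hg) hb) hb h]
      exact ⟨θ, hθ, hv⟩
  have hQT : P ≤ T := fun u hu => (hT' u).mpr ⟨Subgroup.le_normalizer hu,
    (stabilizesBlock_iff hM (Subgroup.le_normalizer hu) he.2).mpr
      (cinv_iff_cj.mp (cinv_self_eG e) u hu)⟩
  have hHT : H ≤ T := fun u hu => (hT' u).mpr
    ⟨hHN hu, (stabilizesBlock_iff hM (hHN hu) he.2).mpr (cinv_iff_cj.mp hHfix u hu)⟩
  rw [hmax_iff, Subgroup.relIndex]
  constructor
  · intro hmax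
    obtain ⟨F', hL', -⟩ := exists_stabilizerBlock hM he hT'
    obtain ⟨DF, hDF⟩ := exists_defectGroup hM hL'.block
    obtain ⟨g, hg⟩ :=
      (hL'.conjLE_iff hM he hDF (isPGroup_defectGroup hM hL'.block hDF)).mp (conjLE_of_le le_rfl)
    have hDFQ : DF.map T.subtype ≤ P :=
      sup_eq_left.mp (hmax.2 _ g ((hg.isBrauerPairOf_iff hM).mpr hpair) (SubpairLE.step hM hg))
    have hn' : (P.subgroupOf T).Normal :=
      Subgroup.normal_subgroupOf_iff_le_normalizer hQT |>.mpr hL'.norm
    have hDFe : DF = P.subgroupOf T := le_antisymm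
      (fun z hz => Subgroup.mem_subgroupOf.mpr (hDFQ (Subgroup.mem_map_of_mem _ hz)))
      (normal_le_defectGroup hM hL'.block hDF
        (hP.of_equiv (Subgroup.subgroupOfEquivOfLe hQT).symm))
    obtain ⟨S⟩ : Nonempty (Sylow p T) := inferInstance
    have hSH : (S : Subgroup T) ≤ H.subgroupOf T := by
      intro u hu
      obtain ⟨k, hk⟩ := IsPGroup.iff_orderOf.mp S.2 ⟨u, hu⟩
      rw [Subgroup.orderOf_mk] at hk
      have h2 := hL'.pElement_le hM he hQT (hDFe ▸ hDF) u.2
        (a := k) (by rw [Subgroup.orderOf_coe]; exact hk)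
      exact Subgroup.mem_subgroupOf.mpr (hH ▸ h2)
    exact fun h => S.not_dvd_index (h.trans (Subgroup.index_dvd_of_le hSH))
  · intro hndvd
    refine (isMaximalBrauerPair_iff hM).mpr ⟨hpair, fun R hR hlt hRN hstab x hx => ?_⟩
    by_contra hne
    have hRT : R ≤ T := fun u hu => (hT' u).mpr ⟨hRN hu,
      (stabilizesBlock_iff hM (hRN hu) he.2).mpr (cinv_iff_cj.mp hstab u hu)⟩
    have hHn : (H.subgroupOf T).Normal := ⟨fun h hh t => Subgroup.mem_subgroupOf.mpr
      ((hHconj t ((hT' _).mp t.2).1 h).mp hh)⟩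
    have hRH : R ≤ H := by
      intro u hu
      obtain ⟨k, hk⟩ := IsPGroup.iff_orderOf.mp hR ⟨u, hu⟩
      have h1 : orderOf ((⟨u, hRT hu⟩ : T) : T ⧸ H.subgroupOf T) ∣ p ^ k := by
        refine (orderOf_map_dvd (QuotientGroup.mk' _) _).trans ?_
        rw [← hk, Subgroup.orderOf_mk, Subgroup.orderOf_mk]
      have h2 : orderOf ((⟨u, hRT hu⟩ : T) : T ⧸ H.subgroupOf T) ∣ (H.subgroupOf T).index :=
        orderOf_dvd_natCard _
      have h3 : Nat.Coprime (p ^ k) (H.subgroupOf T).index :=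
        ((Fact.out : p.Prime).coprime_iff_not_dvd.mpr hndvd).pow_left k
      have h4 := orderOf_eq_one_iff.mp (Nat.dvd_one.mp (h3.gcd_eq_one ▸ Nat.dvd_gcd h1 h2))
      exact Subgroup.mem_subgroupOf.mp ((QuotientGroup.eq_one_iff _).mp h4)
    have hxH : x ∈ H := hCH (cq_mono hlt.le hx)
    have h1 := (coeff_ne_zero_le_defect hM hb hbP (x := ⟨x, hxH⟩)
      (hR.of_equiv (Subgroup.subgroupOfEquivOfLe hRH).symm)
      (by rw [← coeff_eG, hL.eq]; exact hne)
      fun u hu => Subtype.ext (Subgroup.mem_centralizer_iff.mp hx _ (Subgroup.mem_subgroupOf.mp hu))).card_le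
    rw [Nat.card_congr (Subgroup.subgroupOfEquivOfLe hRH).toEquiv,
      Nat.card_congr (Subgroup.subgroupOfEquivOfLe hPH).toEquiv] at h1
    exact hlt.ne (Subgroup.eq_of_le_of_card_ge hlt.le h1)

end Cfsg.Agent.S4437
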