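import Cfsg.Statements.S4440
import Cfsg.Agent.Lib.Block.FongSwan.Main
import Cfsg.Agent.Lib.Block.DefectFusion
import Cfsg.Agent.Lib.Block.Okuyama

set_option autoImplicit false
open Cfsg

namespace Cfsg.Agent.S4440

section
open CfsgLib CfsgLib.Block Finset
open scoped ComplexConjugate

universe u

variable {p : ℕ} {G : Type u} [Group G] [Fintype G] [Fintype (IrrCharacter G)]

/-- Coefficients of a lift system are unique. -/
private theorem coeff_unique {L : Set (IrrCharacter G)} (hL : FongSwan.IsLiftSystem p L)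
    {a b : IrrCharacter G → ℂ} (ha : ∀ χ, χ ∉ L → a χ = 0) (hb : ∀ χ, χ ∉ L → b χ = 0)
    (h : ∀ g : G, ¬ p ∣ orderOf g →
      ∑ χ, a χ * (χ : G → ℂ) g = ∑ χ, b χ * (χ : G → ℂ) g) (χ : IrrCharacter G) : a χ = b χ := by
  classical
  by_cases hχ : χ ∈ L
  · obtain ⟨H, _, α, hH, hd⟩ := hL.2 χ hχ
    have key : ∀ c : IrrCharacter G → ℂ, (∀ μ, μ ∉ L → c μ = 0) →
        Cfsg.classInner (fun x : H => ∑ μ, c μ * (μ : G → ℂ) x) (α : H → ℂ) = c χ := by
      intro c hc
      rw [FongSwan.coeff_eq hH hd (s := univ.filter (· ∈ L)) (fun μ hμ => by simpa using hμ)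
        (f := fun g => ∑ μ, c μ * (μ : G → ℂ) g) (c := c) fun g _ => ?_, if_pos (by simp [hχ])]
      exact (sum_subset (filter_subset _ _) fun μ _ hμ => by rw [hc μ (by simpa using hμ), zero_mul]).symm
    rw [← key a ha, ← key b hb]
    congr 1
    funext x
    exact h x (FongSwan.regular_of_mem hH x)
  · rw [ha χ hχ, hb χ hχ]

/-- A set whose weighted sum vanishes on singular elements splits the regular inner products. -/
private theorem regInner_split {L : Set (IrrCharacter G)} (hL : FongSwan.IsLiftSystem p L) (hp1 : p ≠ 1)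
    (U : Set (IrrCharacter G))
    (hU : ∀ x : G, p ∣ orderOf x → ∑ᶠ χ ∈ U, (χ : G → ℂ) 1 * (χ : G → ℂ) x = 0)
    {η θ : IrrCharacter G} (hη : η ∈ U) (hθ : θ ∉ U) : regInner p η θ = 0 := by
  classical
  choose m hm0 hm using hL.expand
  choose deg hdeg using fun χ : IrrCharacter G => Char.isCharacter_degree (Char.isCharacter_irr χ)
  let e : IrrCharacter G → ℕ := fun χ => if χ ∈ U then 1 else 0
  -- the weighted sum
  have hweight : ∀ ν, e ν * deg ν = ∑ l, m ν l * (e l * deg l) := by
    intro ν
    set ρ : G → ℂ := ∑ χ ∈ univ.filter (· ∈ U), (χ : G → ℂ) 1 • (χ : G → ℂ) with hρ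
    have hρx : ∀ x, p ∣ orderOf x → ρ x = 0 := fun x hx => by
      rw [← hU x hx, finsum_mem_eq_toFinset_sum, hρ, Finset.sum_apply]
      exact sum_congr (by ext; simp) fun _ _ => rfl
    have hl : ∀ χ : IrrCharacter G, Cfsg.classInner (χ : G → ℂ) ρ = ((e χ * deg χ : ℕ) : ℂ) := by
      intro χ
      rw [hρ, Char.classInner_sum_right]
      simp only [Char.classInner_smul_right, Char.classInner_irr, mul_ite, mul_one, mul_zero, sum_ite_eq,
        mem_filter, mem_univ, true_and, e]
      split_ifs with h
      · rw [hdeg, map_natCast, one_mul]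
      · simp
    have h1 := hl ν
    rw [show Cfsg.classInner (ν : G → ℂ) ρ = Cfsg.classInner (∑ l, (m ν l : ℂ) • (l : G → ℂ)) ρ by
      simp only [Cfsg.classInner]
      congr 1
      refine sum_congr rfl fun g _ => ?_
      by_cases hg : p ∣ orderOf g
      · simp [hρx g hg]
      · rw [hm ν g hg]; simp [Finset.sum_apply], Char.classInner_sum_left] at h1
    simp only [Char.classInner_smul_left, hl] at h1
    exact_mod_cast h1.symm
  -- the decomposition respects `U`
  have hblk : ∀ ν l, e ν * m ν l = e l * m ν l := by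
    intro ν l
    by_cases h0 : m ν l = 0
    · simp [h0]
    have h1 : deg ν = ∑ l, m ν l * deg l := by
      have := hm ν 1 (by
        rw [orderOf_one]
        intro h
        obtain rfl := Nat.dvd_one.1 h
        exact hp1 rfl)
      simp only [hdeg] at this
      exact_mod_cast this
    have hsum := hweight ν
    by_cases hν : ν ∈ U
    · by_contra hne
      have hl : l ∉ U := fun h => hne (by simp [e, h, hν])
      simp only [e, if_pos hν, one_mul] at hsum
      rw [h1] at hsum
      have hlt : ∑ l, m ν l * (e l * deg l) < ∑ l, m ν l * deg l := by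
        refine sum_lt_sum (fun i _ => Nat.mul_le_mul_left _ ?_) ⟨l, mem_univ _, ?_⟩
        · simp only [e]; split_ifs <;> simp
        · simp only [e, if_neg hl, zero_mul, mul_zero]
          refine Nat.mul_pos (Nat.pos_of_ne_zero h0) (Nat.pos_of_ne_zero fun h => ?_)
          exact Char.irr_one_ne_zero l (by rw [hdeg, h, Nat.cast_zero])
      exact hlt.ne (hsum.symm)
    · by_contra hne
      have hl : l ∈ U := by_contra fun h => hne (by simp [e, h, hν])
      simp only [e, if_neg hν, zero_mul] at hsum
      have := (sum_eq_zero_iff.1 hsum.symm) l (mem_univ _)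
      simp only [e, if_pos hl, one_mul, mul_eq_zero, h0, false_or] at this
      exact Char.irr_one_ne_zero l (by rw [hdeg, this, Nat.cast_zero])
  let R : IrrCharacter G → IrrCharacter G → ℂ := regInner p
  let E : IrrCharacter G → ℂ := fun χ => (e χ : ℂ)
  -- regular rows factor through the lifts
  have hRm : ∀ ν l, ∑ χ, R ν χ * (m χ l : ℂ) = (m ν l : ℂ) := by
    intro ν
    refine coeff_unique hL (fun l hl => sum_eq_zero fun χ _ => by simp [hm0 χ l hl])
      (fun l hl => by simp [hm0 ν l hl]) fun g hg => ?_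
    rw [← hm ν g hg]
    have h1 := sum_regInner_mul p ν g
    simp only [regFun, hg, if_false] at h1
    rw [← h1]
    simp only [sum_mul, R]
    rw [sum_comm]
    refine sum_congr rfl fun χ _ => ?_
    rw [hm χ g hg, mul_sum]
    exact sum_congr rfl fun l _ => by ring
  have hRD : ∀ ν χ, R ν χ = ∑ l, (m ν l : ℂ) * R l χ := by
    intro ν χ
    show Cfsg.classInner (regFun p (ν : G → ℂ)) χ = _
    rw [show regFun p (ν : G → ℂ) = ∑ l, (m ν l : ℂ) • regFun p (l : G → ℂ) from funext fun g => by
      simp only [Finset.sum_apply, Pi.smul_apply, smul_eq_mul, regFun]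
      by_cases hg : p ∣ orderOf g
      · simp [hg]
      · simp only [hg, if_false]; exact hm ν g hg, Char.classInner_sum_left]
    simp only [Char.classInner_smul_left]
    rfl
  have key : ∀ ν χ, ∑ μ, R ν μ * E μ * R μ χ = E ν * R ν χ := by
    intro ν χ
    calc ∑ μ, R ν μ * E μ * R μ χ = ∑ μ, ∑ l, R ν μ * (m μ l : ℂ) * (E l * R l χ) := by
          refine sum_congr rfl fun μ _ => ?_
          rw [hRD μ χ, mul_sum]
          refine sum_congr rfl fun l _ => ?_
          have h : E μ * (m μ l : ℂ) = E l * (m μ l : ℂ) := by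
            simp only [E]; exact_mod_cast hblk μ l
          linear_combination R ν μ * R l χ * h
      _ = ∑ l, (m ν l : ℂ) * (E l * R l χ) := by
          rw [sum_comm]
          exact sum_congr rfl fun l _ => by rw [← sum_mul, hRm]
      _ = E ν * R ν χ := by
          rw [hRD ν χ, mul_sum]
          refine sum_congr rfl fun l _ => ?_
          have h : E ν * (m ν l : ℂ) = E l * (m ν l : ℂ) := by
            simp only [E]; exact_mod_cast hblk ν l
          linear_combination -(R l χ) * h
  have h2 := congrArg (starRingEnd ℂ) (key θ η)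
  simp only [map_sum, map_mul, R, E, conj_regInner, map_natCast] at h2
  have h3 := key η θ
  simp only [R, E] at h3
  simp only [e, if_pos hη, if_neg hθ, Nat.cast_zero, Nat.cast_one, zero_mul, one_mul] at h2 h3
  rw [← h3]
  refine Eq.trans (sum_congr rfl fun μ _ => ?_) h2
  ring

end

/-- Let G be a finite p-solvable group and fix a maximal ideal M of the algebraic integers containing p. Let U be a set of irreducible characters of G such that the class function Σ_{χ ∈ U} χ(1)·χ vanishes at every p-singular element of G. Then U is a union of p-blocks: if χ ∈ U and ψ lies in the same block as χ, then ψ ∈ U. -/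
theorem result {G : Type*} [Group G] [Finite G] (p : ℕ) [Fact p.Prime] (M : Ideal Cfsg.AlgInt) (hM : Cfsg.IsPModular p M) (hsolv : Cfsg.IsPSolvable p G) (U : Set (Cfsg.IrrCharacter G)) (hU : ∀ x : G, p ∣ orderOf x → ∑ᶠ χ ∈ U, (χ : G → ℂ) 1 * (χ : G → ℂ) x = 0) (χ : Cfsg.IrrCharacter G) (hχ : χ ∈ U) (ψ : Cfsg.IrrCharacter G) (hψ : Cfsg.SameBlock M (χ : G → ℂ) (ψ : G → ℂ)) : ψ ∈ U := by
  haveI := hM.2.1
  classical
  haveI := Fintype.ofFinite G
  haveI := Fintype.ofFinite (Cfsg.IrrCharacter G)
  haveI := Fintype.ofFinite (ConjClasses G)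
  obtain ⟨L, hL⟩ := CfsgLib.Block.FongSwan.exists_liftSystem hsolv
  have hB := CfsgLib.Block.isPBlock_blockOf (M := M) χ
  obtain ⟨χ₀, hχ₀, h0⟩ := CfsgLib.Block.exists_height_zero hM hB
  have heq : Cfsg.blockOf M (χ₀ : G → ℂ) = Cfsg.blockOf M (χ : G → ℂ) :=
    (CfsgLib.Block.isPBlock_eq_blockOf hB hχ₀).symm
  have key : ∀ η ∈ Cfsg.blockOf M (χ : G → ℂ), η ∈ U ↔ χ₀ ∈ U := by
    intro η hη
    have hne : CfsgLib.Block.regInner p η χ₀ ≠ 0 := by
      intro h
      obtain ⟨R, hR, hres⟩ := CfsgLib.Block.exists_regN_lift (M := M) (p := p) η χ₀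
      rw [h, mul_zero, mul_eq_zero] at hR
      have hR0 : R = 0 := Subtype.ext (hR.resolve_right (CfsgLib.Char.irr_one_ne_zero η))
      refine (CfsgLib.Block.mem_iff_regN_ne_zero hM (heq.symm ▸ h0) η).1 (heq.symm ▸ hη) ?_
      rw [← hres, hR0, map_zero]
    constructor
    · intro h
      by_contra h'
      exact hne (regInner_split hL hM.1.ne_one U hU h h')
    · intro h
      by_contra h'
      refine hne ?_
      rw [← CfsgLib.Block.conj_regInner, regInner_split hL hM.1.ne_one U hU h h', map_zero]
  exact (key ψ hψ).2 ((key χ (CfsgLib.Block.self_mem_blockOf χ)).1 hχ)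

end Cfsg.Agent.S4440
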