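import Cfsg.Statements.S4442
import Cfsg.Agent.Lib.Block.Cyclic.SylowSetup
-- import your own Cfsg.Agent.* helpers here

set_option autoImplicit false
open Cfsg CfsgLib.Block

open Cfsg

namespace Cfsg.Agent.S4442

/-- Blocks of defect one. Let p be an odd prime and G a finite group whose Sylow p-subgroup P has order p; let C = C_G(P) and N = N_G(P), and fix a maximal ideal M of the algebraic integers containing p. Let B be a block of G with defect group P, b a block of C inducing B, and θ the member of b having P in its kernel (there is exactly one). Let T be the stabilizer of θ in N (the elements g ∈ N with θ(g c g⁻¹) = θ(c) for all c ∈ C) and e the index of C in T. Then e divides p − 1 and B contains exactly e + (p − 1)/e irreducible characters. Moreover B is the disjoint union of a set X of e characters and a set Y of (p − 1)/e characters such that, with f the index of C in N: every χ ∈ X has χ(1) ≡ ±(f/e)·θ(1) (mod p), there is one sign ε with ψ(1)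 ≡ ε f θ(1) (mod p) for all ψ ∈ Y, and all members of Y agree on the p-regular elements of G. -/
theorem result {G : Type*} [Group G] [Finite G] (p : ℕ) [Fact p.Prime] (M : Ideal Cfsg.AlgInt) (hM : Cfsg.IsPModular p M) (hodd : p ≠ 2) (P : Sylow p G) (hP : Nat.card P = p) (B : Set (Cfsg.IrrCharacter G)) (hB : Cfsg.IsPBlock M B) (hBP : Cfsg.IsDefectGroup p M B P) (b : Set (Cfsg.IrrCharacter (Subgroup.centralizer ((P : Subgroup G) : Set G)))) (hind : Cfsg.IsInducedBlock M (Subgroup.centralizer ((P : Subgroup G) : Set G)) b B) (θ : Cfsg.IrrCharacter (Subgroup.centralizer ((P : Subgroup G) : Set G))) (hθ : θ ∈ b) (hθP : ∀ x : Subgroup.centralizer ((P : Subgroup G) : Set G), (x : G) ∈ (P : Subgroup G) → (θ : Subgroup.centralizer ((P : Subgroup G) : Set G) → ℂ) x = (θ : Subgroup.centralizer ((P : Subgroup G) : Set G) → ℂ) 1) (T : Subgroup G) (hT : ∀ g : G, g ∈ T ↔ (g ∈ Subgroup.normalizer ((P : Subgroup G) : Set G) ∧ ∀ c c' : Subgroup.centralizer ((P : Subgroup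 G) : Set G), (c' : G) = g * c * g⁻¹ → (θ : Subgroup.centralizer ((P : Subgroup G) : Set G) → ℂ) c' = (θ : Subgroup.centralizer ((P : Subgroup G) : Set G) → ℂ) c)) (e f : ℕ) (he : (Subgroup.centralizer ((P : Subgroup G) : Set G)).relIndex T = e) (hf : (Subgroup.centralizer ((P : Subgroup G) : Set G)).relIndex (Subgroup.normalizer ((P : Subgroup G) : Set G)) = f) : e ∣ p - 1 ∧ Nat.card B = e + (p - 1) / e ∧ ∃ X Y : Set (Cfsg.IrrCharacter G), B = X ∪ Y ∧ Disjoint X Y ∧ Nat.card X = e ∧ Nat.card Y = (p - 1) / e ∧ (∀ χ ∈ X, (Cfsg.charDegree (χ : G → ℂ) : ℤ) ≡ ((f / e * Cfsg.charDegree (θ : Subgroup.centralizer ((P : Subgroup G) : Set G) → ℂ) : ℕ) : ℤ) [ZMOD p] ∨ (Cfsg.charDegree (χ : G → ℂ) : ℤ) ≡ -((f / e * Cfsg.charDegree (θ : Subgroup.centralizer ((P : Subgroup G) : Set G) → ℂ) : ℕ) : ℤ) [ZMOD p]) ∧ (∃ ε : ℤ, (ε = 1 ∨ ε = -1) ∧ ∀ ψ ∈ Y, (Cfsg.charDegree (ψ : G → ℂ) : ℤ) ≡ ε * ((f * Cfsg.charDegree (θ : Subgroup.centralizer ((P : Subgroup G) : Set G) →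 ℂ) : ℕ) : ℤ) [ZMOD p]) ∧ ∀ ψ ∈ Y, ∀ ψ' ∈ Y, ∀ g : G, ¬ p ∣ orderOf g → (ψ : G → ℂ) g = (ψ' : G → ℂ) g := by
  classical
  have := hM.2.1
  have hp : p.Prime := Fact.out
  let _ := Fintype.ofFinite G
  obtain ⟨D₀, hD₀⟩ := CfsgLib.Block.Cyclic.exists_cycSetup (Q := (P : Subgroup G)) hP
    (CfsgLib.Block.Cyclic.not_sq_dvd_of_sylow hP)
  obtain ⟨Q, x, K, φ₀, hQ, hsq, hx, hx1, hK⟩ := D₀
  cases hD₀
  let D' : CfsgLib.Block.Cyclic.CycSetup p G :=
    ⟨(P : Subgroup G), x, K, φ₀, hQ, hsq, hx, hx1, hK⟩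
  let _ : Fintype D'.K := Fintype.ofFinite _
  let _ : Fintype (Subgroup.centralizer (D'.Q : Set G)) := Fintype.ofFinite _
  obtain ⟨φ', hφ'⟩ := D'.exists_infl_eq θ hθP
  let D := D'.withChar φ'
  let _ : Fintype D.K := Fintype.ofFinite _
  let _ : Fintype (Subgroup.centralizer (D.Q : Set G)) := Fintype.ofFinite _
  have hproj : ∀ c : D.C, D.proj c = D'.proj c := fun c => by
    obtain ⟨i, hi⟩ := D'.exists_xp_mul_proj c
    exact D.proj_eq (i := i) hi
  have hinfl : D.infl D.φ = θ := by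
    rw [← hφ']
    refine Subtype.ext (funext fun c => ?_)
    show (φ' : D.K → ℂ) (D.proj c) = (φ' : D.K → ℂ) (D'.proj c)
    rw [hproj]
  have hb : blockOf M (D.infl D.φ : D.C → ℂ) = b := by
    rw [hinfl]
    exact (isPBlock_eq_blockOf hind.1 hθ).symm
  have hBD : D.BlockData M B := D.blockData hM hBP (hb.symm ▸ hind)
  obtain ⟨E⟩ := D.exists_exceptional_family hM hBD
  have hTS : T = D.stab := by
    ext g
    rw [hT, D.mem_stab_iff_infl, hinfl]
  have hee : Nat.card D.expE = e := by rw [D.card_expE, ← hTS, he]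
  have hr : e * D.stab.relIndex (Subgroup.normalizer ((P : Subgroup G) : Set G)) = f := by
    rw [← hee, ← hf]
    exact D.relIndex_mul
  have he0 : 0 < e := hee ▸ Nat.card_pos
  have hfe : f / e = D.stab.relIndex (Subgroup.normalizer ((P : Subgroup G) : Set G)) := by
    rw [← hr, Nat.mul_div_cancel_left _ he0]
  have hdθ : Cfsg.charDegree (D.φ : D.K → ℂ) = Cfsg.charDegree
      (θ : Subgroup.centralizer ((P : Subgroup G) : Set G) → ℂ) := by
    rw [← hinfl]
    show Cfsg.charDegree _ = Cfsg.charDegree fun c => (D.φ : D.K → ℂ) (D.proj c)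
    simp only [Cfsg.charDegree, map_one]
  refine ⟨?_, ?_, {χ | E.u χ ≠ 0}, Set.range E.Y, E.eq_union, E.disjoint, E.card_u.trans hee,
    hee ▸ E.card_range, fun χ hχ => ?_, ⟨E.δ, E.sign, ?_⟩, ?_⟩
  · rw [← hee]
    have h := D.expE.card_subgroup_dvd_card
    rwa [Nat.card_eq_fintype_card (α := (ZMod p)ˣ), ZMod.card_units_eq_totient, Nat.totient_prime hp] at h
  · rw [E.card_block, hee]
  · have h := E.charDegree_u hBD hχ
    rw [hdθ] at h
    rw [hfe]
    push_cast
    rcases E.u_cases χ with hu | hu | hu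
    · exact absurd hu hχ
    · rw [hu, neg_one_mul] at h
      exact Or.inr h
    · rw [hu, neg_neg, one_mul] at h
      exact Or.inl h
  · rintro ψ ⟨k, rfl⟩
    have h := E.charDegree_Y hBD k
    rw [hdθ, hee] at h
    rw [← hr]
    push_cast
    exact h
  · rintro ψ ⟨k, rfl⟩ ψ' ⟨l, rfl⟩ g hg
    exact E.regular_eq k l g hg

end Cfsg.Agent.S4442
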