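import Cfsg.Statements.S4446
import Cfsg.Agent.Lib.Char.CoprimeCyclicAction

set_option autoImplicit false
open Cfsg CfsgLib.Char

namespace Cfsg.Agent.S4446

/-- Let the finite group Γ be generated by a normal subgroup G and a cyclic subgroup S of coprime orders, C = G ⊓ C(S), and let χ be an S-invariant irreducible character of G with canonical extension χ̂ to Γ (the extension whose determinantal order is coprime to the order of S). Then there are exactly one irreducible character β of C and one sign ε such that χ̂(c s) = ε β(c) for every c ∈ C and every generator s of S; this β is a constituent of the restriction of χ to C; distinct S-invariant χ give distinct β; and every irreducible character of C arises in this way. -/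
theorem result {Γ : Type*} [Group Γ] [Fintype Γ] (G S : Subgroup Γ) [Fintype G] (hnorm : ∀ s ∈ S, ∀ g ∈ G, s * g * s⁻¹ ∈ G) (hcop : (Nat.card G).Coprime (Nat.card S)) (htop : G ⊔ S = ⊤) (hcyc : IsCyclic S) (C : Subgroup Γ) [Fintype C] (hC : C = G ⊓ Subgroup.centralizer (S : Set Γ)) (hCG : C ≤ G) : (∀ (χ : Cfsg.IrrCharacter G) (χh : Cfsg.IrrCharacter Γ), (∀ s ∈ S, ∀ g g' : G, (g' : Γ) = s * g * s⁻¹ → (χ : G → ℂ) g' = (χ : G → ℂ) g) → (∀ g : G, (χh : Γ → ℂ) g = (χ : G → ℂ) g) → (Cfsg.detOrder (χh : Γ → ℂ)).Coprime (Nat.card S) → (∃! βε : Cfsg.IrrCharacter C × ℤ, (βε.2 = 1 ∨ βε.2 = -1) ∧ ∀ c : C, ∀ s : Γ, Subgroup.zpowers s = S → (χh : Γ → ℂ) ((c : Γ) * s) = (βε.2 : ℂ) * (βε.1 : C → ℂ) c) ∧ ∀ β : Cfsg.IrrCharacter C, ∀ ε : ℤ, (ε = 1 ∨ ε = -1) → (∀ c : C, ∀ s : Γ, Subgroup.zpowers s = S → (χh : Γ → ℂ) ((c : Γ) * s) = (ε : ℂ) * (β : C → ℂ) c) → Cfsg.classInner (fun c : C =>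 (χ : G → ℂ) ⟨c, hCG c.2⟩) (β : C → ℂ) ≠ 0) ∧ (∀ (χ χ' : Cfsg.IrrCharacter G) (χh χh' : Cfsg.IrrCharacter Γ), (∀ s ∈ S, ∀ g g' : G, (g' : Γ) = s * g * s⁻¹ → (χ : G → ℂ) g' = (χ : G → ℂ) g) → (∀ s ∈ S, ∀ g g' : G, (g' : Γ) = s * g * s⁻¹ → (χ' : G → ℂ) g' = (χ' : G → ℂ) g) → (∀ g : G, (χh : Γ → ℂ) g = (χ : G → ℂ) g) → (∀ g : G, (χh' : Γ → ℂ) g = (χ' : G → ℂ) g) → (Cfsg.detOrder (χh : Γ → ℂ)).Coprime (Nat.card S) → (Cfsg.detOrder (χh' : Γ → ℂ)).Coprime (Nat.card S) → ∀ β : Cfsg.IrrCharacter C, ∀ ε ε' : ℤ, (ε = 1 ∨ ε = -1) → (ε' = 1 ∨ ε' = -1) → (∀ c : C, ∀ s : Γ, Subgroup.zpowers s = S → (χh : Γ → ℂ) ((c : Γ) * s) = (ε : ℂ) * (β : C → ℂ) c) → (∀ c : C, ∀ s : Γ, Subgroup.zpowers s = S → (χh' : Γ → ℂ) ((c : Γ) * s) = (ε' : ℂ) * (β : C → ℂ) c) → χ = χ') ∧ (∀ β : Cfsg.IrrCharacter C, ∃ (χ : Cfsg.IrrCharacter G) (χh : Cfsg.IrrCharacter Γ) (ε : ℤ), (∀ s ∈ S, ∀ g g' : G, (g' : Γ)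 = s * g * s⁻¹ → (χ : G → ℂ) g' = (χ : G → ℂ) g) ∧ (∀ g : G, (χh : Γ → ℂ) g = (χ : G → ℂ) g) ∧ (Cfsg.detOrder (χh : Γ → ℂ)).Coprime (Nat.card S) ∧ (ε = 1 ∨ ε = -1) ∧ ∀ c : C, ∀ s : Γ, Subgroup.zpowers s = S → (χh : Γ → ℂ) ((c : Γ) * s) = (ε : ℂ) * (β : C → ℂ) c) := by
  classical
  obtain ⟨σ, hσ⟩ : ∃ σ : Γ, Subgroup.zpowers σ = S := by
    obtain ⟨σ₀, hσ₀⟩ := hcyc.exists_generator
    refine ⟨(σ₀ : Γ), le_antisymm (Subgroup.zpowers_le.mpr σ₀.2) fun x hx => ?_⟩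
    obtain ⟨i, hi⟩ := Subgroup.mem_zpowers_iff.mp (hσ₀ ⟨x, hx⟩)
    exact Subgroup.mem_zpowers_iff.mpr ⟨i, congrArg Subtype.val hi⟩
  subst hσ
  have hGn : G.Normal := by
    refine Subgroup.normalizer_eq_top_iff.mp (top_le_iff.mp (htop ▸ sup_le Subgroup.le_normalizer ?_))
    intro s hs
    refine Subgroup.mem_normalizer_iff.mpr fun g => ⟨hnorm s hs g, fun h => ?_⟩
    simpa [mul_assoc] using hnorm s⁻¹ (inv_mem hs) _ h
  rw [Nat.card_zpowers] at hcop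
  have hgen : ∀ s : Γ, Subgroup.zpowers s = Subgroup.zpowers σ →
      ∃ j : ℕ, j.Coprime (orderOf σ) ∧ σ ^ j = s := by
    intro s hs
    obtain ⟨j, hj⟩ := (mem_powers_iff_mem_zpowers.mpr (hs ▸ Subgroup.mem_zpowers s :
      s ∈ Subgroup.zpowers σ) : s ∈ Submonoid.powers σ)
    refine ⟨j, ?_, hj⟩
    have ho : orderOf (σ ^ j) = orderOf σ := by
      rw [show σ ^ j = s from hj, ← Nat.card_zpowers, ← Nat.card_zpowers, hs]
    rw [orderOf_pow] at ho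
    rcases Nat.div_eq_self.mp ho with h | h
    · exact absurd h (orderOf_pos σ).ne'
    · rwa [Nat.coprime_comm]
  have hmk : ∀ (χ : Cfsg.IrrCharacter G) (χh : Cfsg.IrrCharacter Γ),
      (∀ g : G, (χh : Γ → ℂ) g = (χ : G → ℂ) g) →
      (Cfsg.detOrder (χh : Γ → ℂ)).Coprime (Nat.card (Subgroup.zpowers σ)) →
      CoprimeCyclic.IsCanonical σ χ χh :=
    fun χ χh hres hdet => ⟨hres, Nat.card_zpowers σ ▸ hdet⟩
  refine ⟨fun χ χh _ hres hdet => ?_, fun χ χ' χh χh' _ _ hres hres' hdet hdet' β ε ε' hε hε' hv hv' => ?_,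
    fun β => ?_⟩
  · obtain ⟨β, ε, hε, hval, hc⟩ :=
      CoprimeCyclic.exists_signed hcop htop hC (hmk χ χh hres hdet)
    have hv : ∀ c : C, ∀ s : Γ, Subgroup.zpowers s = Subgroup.zpowers σ →
        (χh : Γ → ℂ) ((c : Γ) * s) = (ε : ℂ) * (β : C → ℂ) c := fun c s hs => by
      obtain ⟨j, hj, rfl⟩ := hgen s hs
      exact hval c j hj
    have huniq : ∀ β' : Cfsg.IrrCharacter C, ∀ ε' : ℤ, (ε' = 1 ∨ ε' = -1) →
        (∀ c : C, ∀ s : Γ, Subgroup.zpowers s = Subgroup.zpowers σ →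
          (χh : Γ → ℂ) ((c : Γ) * s) = (ε' : ℂ) * (β' : C → ℂ) c) → β' = β ∧ ε' = ε :=
      fun β' ε' hε' hv' => CoprimeCyclic.eq_of_signed_eq hε' hε fun c =>
        (hv' c σ rfl).symm.trans (hv c σ rfl)
    refine ⟨⟨(β, ε), ⟨hε, hv⟩, fun βε h => ?_⟩, fun β' ε' hε' hv' => ?_⟩
    · obtain ⟨h1, h2⟩ := huniq βε.1 βε.2 h.1 h.2
      exact Prod.ext h1 h2
    · rw [(huniq β' ε' hε' hv').1]
      exact hc
  · by_contra hne
    have h := CoprimeCyclic.classInner_canonical hcop htop hC (hmk χ χh hres hdet)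
      (hmk χ' χh' hres' hdet')
    rw [if_neg hne, show (fun c : C => (χh : Γ → ℂ) ((c : Γ) * σ)) = (ε : ℂ) • (β : C → ℂ) from
        funext fun c => hv c σ rfl,
      show (fun c : C => (χh' : Γ → ℂ) ((c : Γ) * σ)) = (ε' : ℂ) • (β : C → ℂ) from
        funext fun c => hv' c σ rfl, classInner_smul_left, classInner_smul_right,
      classInner_irr_self, map_intCast] at h
    rcases hε with e | e <;> rcases hε' with e' | e' <;> rw [e, e'] at h <;> norm_num at h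
  · obtain ⟨χ, χh, ε, h, hε, hval⟩ := CoprimeCyclic.exists_preimage hcop htop hC β
    refine ⟨χ, χh, ε, fun s _ g g' he => ?_, h.res, by rw [Nat.card_zpowers]; exact h.det, hε,
      fun c s hs => ?_⟩
    · rw [← h.inv s g]
      exact congrArg _ (Subtype.ext he)
    · obtain ⟨j, hj, rfl⟩ := hgen s hs
      exact hval c j hj

end Cfsg.Agent.S4446
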