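import Cfsg.Statements.S4451
import Cfsg.Agent.Lib.Char.CoprimeCyclicAction
import Cfsg.Agent.Lib.Char.ExtendChar
import Cfsg.Agent.Lib.LinDeg.Constituent

set_option autoImplicit false
open Cfsg

namespace Cfsg.Agent.S4451

section

open scoped ComplexConjugate
open CfsgLib.Char Representation Module

universe u

private theorem exists_pow_sum {ι : Type*} [DecidableEq ι] (q : ℕ) (hq : q.Prime) (s : Finset ι)
    (w : ι → AlgInt) : ∃ X : AlgInt, (∑ i ∈ s, w i) ^ q = ∑ i ∈ s, w i ^ q + (q : AlgInt) * X := by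
  induction s using Finset.induction_on with
  | empty => exact ⟨0, by simp [hq.ne_zero]⟩
  | @insert a s ha ih =>
    obtain ⟨X, hX⟩ := ih
    obtain ⟨r, hr⟩ := exists_add_pow_prime_eq hq (w a) (∑ i ∈ s, w i)
    refine ⟨X + w a * (∑ i ∈ s, w i) * r, ?_⟩
    rw [Finset.sum_insert ha, Finset.sum_insert ha, hr, hX]
    ring

private theorem exists_four_sum {ι : Type*} [DecidableEq ι] (s : Finset ι) (w : ι → AlgInt) :
    ∃ E X : AlgInt, (∑ i ∈ s, w i) ^ 2 = ∑ i ∈ s, w i ^ 2 + 2 * E ∧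
      (∑ i ∈ s, w i ^ 2) ^ 2 = ∑ i ∈ s, w i ^ 4 + 2 * E ^ 2 + 4 * X := by
  induction s using Finset.induction_on with
  | empty => exact ⟨0, 0, by simp, by simp⟩
  | @insert a s ha ih =>
    obtain ⟨E, X, h1, h2⟩ := ih
    refine ⟨E + w a * ∑ i ∈ s, w i, X - w a ^ 2 * E - w a * E * (∑ i ∈ s, w i), ?_, ?_⟩
    · rw [Finset.sum_insert ha, Finset.sum_insert ha]
      linear_combination h1
    · rw [Finset.sum_insert ha, Finset.sum_insert ha]
      linear_combination h2 + (-2 * w a ^ 2) * h1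

private theorem exists_eigen_algInt {A : Type u} [Group A] [Finite A] {d : ℕ}
    (ρ : Representation ℂ A (Fin d → ℂ)) (g : A) :
    ∃ w : Fin (finrank ℂ (Fin d → ℂ)) → AlgInt,
      ∀ k : ℕ, ρ.character (g ^ k) = ((∑ i, w i ^ k : AlgInt) : ℂ) := by
  obtain ⟨b, μ, h1, -, h3⟩ := exists_eigen_data ρ g
  refine ⟨fun i => ⟨μ i, isIntegral_of_pow_eq_one (orderOf_pos g).ne' (h1 i)⟩, fun k => ?_⟩
  rw [h3 k, AddSubmonoidClass.coe_finset_sum]
  rfl

private theorem prime_congr {A : Type u} [Group A] [Finite A] {d : ℕ}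
    (ρ : Representation ℂ A (Fin d → ℂ)) (g : A) {q : ℕ} (hq : q.Prime) {a b : ℤ}
    (ha : ρ.character g = a) (hb : ρ.character (g ^ q) = b) : (q : ℤ) ∣ a ^ q - b := by
  classical
  obtain ⟨w, hw⟩ := exists_eigen_algInt ρ g
  obtain ⟨X, hX⟩ := exists_pow_sum q hq Finset.univ w
  have e1 : ((∑ i, w i : AlgInt) : ℂ) = a := by
    rw [← ha, ← pow_one g, hw 1]; simp
  have e2 : ((∑ i, w i ^ q : AlgInt) : ℂ) = b := by rw [← hb, hw q]
  refine CfsgLib.LinDeg.dvd_of_isIntegral_div hq.ne_zero ?_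
  have h := congrArg (fun z : AlgInt => (z : ℂ)) hX
  simp only [SubmonoidClass.coe_pow, Subalgebra.coe_add, Subalgebra.coe_mul,
    SubringClass.coe_natCast, e1, e2] at h
  have hX' : (((a ^ q - b : ℤ) : ℂ) / (q : ℂ)) = (X : ℂ) := by
    rw [div_eq_iff (Nat.cast_ne_zero.2 hq.ne_zero)]
    push_cast
    linear_combination h
  rw [hX']
  exact X.2

private theorem four_congr {A : Type u} [Group A] [Finite A] {d : ℕ}
    (ρ : Representation ℂ A (Fin d → ℂ)) (g : A) {a b c : ℤ} (ha : ρ.character g = a)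
    (hb : ρ.character (g ^ 2) = b) (hc : ρ.character (g ^ 4) = c)
    (ha1 : a = 1 ∨ a = -1) (hb1 : b = 1 ∨ b = -1) (hc1 : c = 1 ∨ c = -1) : c = b := by
  classical
  obtain ⟨w, hw⟩ := exists_eigen_algInt ρ g
  obtain ⟨E, X, hE, hX⟩ := exists_four_sum Finset.univ w
  have e1 : ((∑ i, w i : AlgInt) : ℂ) = a := by
    rw [← ha, ← pow_one g, hw 1]; simp
  have e2 : ((∑ i, w i ^ 2 : AlgInt) : ℂ) = b := by rw [← hb, hw 2]
  have e4 : ((∑ i, w i ^ 4 : AlgInt) : ℂ) = c := by rw [← hc, hw 4]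
  have h1 := congrArg (fun z : AlgInt => (z : ℂ)) hE
  have h2 := congrArg (fun z : AlgInt => (z : ℂ)) hX
  simp only [SubmonoidClass.coe_pow, Subalgebra.coe_add, Subalgebra.coe_mul, OfNat.ofNat,
    e1, e2, e4] at h1 h2
  change (a : ℂ) ^ 2 = b + 2 * (E : ℂ) at h1
  change (b : ℂ) ^ 2 = c + 2 * (E : ℂ) ^ 2 + 4 * (X : ℂ) at h2
  have hX' : (((2 * b ^ 2 - 2 * c - (a ^ 2 - b) ^ 2 : ℤ) : ℂ) / ((8 : ℕ) : ℂ)) = (X : ℂ) := by
    rw [div_eq_iff (by norm_num)]
    push_cast
    linear_combination 2 * h2 - ((a : ℂ) ^ 2 - b + 2 * (E : ℂ)) * h1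
  have h8 : ((8 : ℕ) : ℤ) ∣ 2 * b ^ 2 - 2 * c - (a ^ 2 - b) ^ 2 :=
    CfsgLib.LinDeg.dvd_of_isIntegral_div (by norm_num) (hX' ▸ X.2)
  rcases ha1 with rfl | rfl <;> rcases hb1 with rfl | rfl <;> rcases hc1 with rfl | rfl <;>
    revert h8 <;> norm_num

variable {Γ : Type u} [Group Γ] [Fintype Γ] {G C : Subgroup Γ} [hGn : G.Normal] [Fintype G]
  [Fintype C] {σ : Γ} (hcop : (Nat.card G).Coprime (orderOf σ))
  (htop : G ⊔ Subgroup.zpowers σ = ⊤) (hC : C = G ⊓ Subgroup.centralizer (Subgroup.zpowers σ : Set Γ))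

include hcop htop hC in
/-- The multiplicities at every element of `⟨σ⟩` are integers. -/
private theorem exists_multAt_int {χ : IrrCharacter G} {χh : IrrCharacter Γ}
    (h : CoprimeCyclic.IsCanonical σ χ χh) (β : IrrCharacter C) (t : Subgroup.zpowers σ) :
    ∃ z : ℤ, CoprimeCyclic.multAt (χh : Γ → ℂ) (β : C → ℂ) (t : Γ) = z := by
  obtain ⟨d, ρu, heu⟩ := CoprimeCyclic.isCharacter_multAt hC χh β
  set b := CoprimeCyclic.multAt (χh : Γ → ℂ) (β : C → ℂ) (t : Γ) with hb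
  have hbu : b = ρu.character t := (congrFun heu t).symm
  have hint : IsIntegral ℤ b := hbu ▸ isCharacter_isIntegral ⟨d, ρu, rfl⟩ t
  have ho : Nat.card (Subgroup.zpowers σ) = orderOf σ := Nat.card_zpowers σ
  have hn0 : Nat.card G * orderOf σ ≠ 0 := Nat.mul_ne_zero Nat.card_pos.ne' (orderOf_pos σ).ne'
  -- every twist of the roots of unity of order dividing `|σ|` fixes the value
  have hemb : ∀ j : ℕ, j.Coprime (orderOf σ) → ρu.character (t ^ j) = b := by
    intro j hj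
    obtain ⟨i, hi1, hi2⟩ := Nat.chineseRemainder hcop 1 j
    have hi : i.Coprime (Nat.card G * orderOf σ) := by
      refine Nat.Coprime.mul_right ?_ ?_
      · rw [Nat.coprime_comm, Nat.Coprime, Nat.gcd_rec, hi1, ← Nat.gcd_rec, Nat.gcd_one_right]
      · rw [Nat.coprime_comm, Nat.Coprime, Nat.gcd_rec, hi2, ← Nat.gcd_rec]
        exact hj.symm
    obtain ⟨φ, hφ⟩ := exists_embedding_of_coprime _ hn0 i hi
    obtain ⟨τ, hτ⟩ := exists_ringEquiv_extend φ
    have hτ' : ∀ x : ℂ, x ^ Nat.card G = 1 → τ x = x := fun x hx => by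
      have hxi : IsIntegral ℤ x := isIntegral_of_pow_eq_one Nat.card_pos.ne' hx
      have h1 := hτ ⟨x, mem_alg_of_isIntegral hxi⟩
      rw [h1, hφ _ (Subtype.ext (show x ^ _ = (1 : ℂ) by rw [pow_mul, hx, one_pow]))]
      show x ^ i = x
      conv_rhs => rw [← pow_one x]
      rw [← Nat.mod_add_div i (Nat.card G), hi1, pow_add, pow_mul, hx, one_pow, mul_one]
      rw [← Nat.mod_add_div 1 (Nat.card G), pow_add, pow_mul, hx, one_pow, mul_one,
        Nat.mod_add_div]
    have hfix : φ ⟨b, mem_alg_of_isIntegral hint⟩ = b := by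
      rw [← hτ]
      show τ b = b
      simp only [hb, CoprimeCyclic.multAt, classInner, map_mul, map_inv₀, map_natCast, map_sum]
      refine congrArg _ (Finset.sum_congr rfl fun c _ => ?_)
      rw [h.fix hcop htop hτ', ← irr_inv, CoprimeCyclic.fix_character hτ'
        (Subgroup.card_dvd_of_le (CoprimeCyclic.C_le hC)) (isCharacter_irr β)]
    rw [← hfix, char_apply_embedding ρu φ i (fun x hx => hφ x
      (by rw [mul_comm, pow_mul, ← ho, hx, one_pow])) t _ hbu]
    congr 1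
    refine pow_eq_pow_iff_modEq.2 (Nat.ModEq.of_dvd ?_ hi2.symm)
    exact ho ▸ orderOf_dvd_natCard t
  refine exists_int_of_fixed hint fun φ => ?_
  obtain ⟨m, hm, hpow⟩ := exists_twist φ (orderOf σ) (orderOf_pos σ).ne'
  rw [char_apply_embedding ρu φ m (fun x hx => hpow x (by rwa [ho] at hx)) t _ hbu]
  exact hemb m hm

include hcop htop hC in
/-- The shape of the multiplicities. -/
private theorem main {χ : IrrCharacter G} {χh : IrrCharacter Γ}
    (h : CoprimeCyclic.IsCanonical σ χ χh)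
    (hfpf : ∀ x ∈ Subgroup.zpowers σ, x ≠ 1 → G ⊓ Subgroup.centralizer ({x} : Set Γ) = C)
    (β : IrrCharacter C) (ε₀ : ℤ) (hε₀ : ε₀ = 1 ∨ ε₀ = -1)
    (hβ : ∀ (c : C) (j : ℕ), j.Coprime (orderOf σ) →
      (χh : Γ → ℂ) ((c : Γ) * σ ^ j) = (ε₀ : ℂ) * (β : C → ℂ) c) :
    ∃ (ε : ℤ) (μ : Subgroup.zpowers σ →* ℂˣ), (ε = 1 ∨ ε = -1) ∧ (∀ x, μ x * μ x = 1) ∧
      (∀ c : C, ∀ x : Subgroup.zpowers σ, x ≠ 1 →
        (χh : Γ → ℂ) ((c : Γ) * x) = (ε : ℂ) * (β : C → ℂ) c * (μ x : ℂ)) ∧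
      ∃ M : IrrCharacter C → ℕ, ∀ γ : IrrCharacter C, ∀ [Decidable (γ = β)],
        classInner (fun c : C => (χ : G → ℂ) ⟨c, CoprimeCyclic.C_le hC c.2⟩) (γ : C → ℂ) =
          (orderOf σ : ℂ) * (M γ : ℂ) + (if γ = β then (ε : ℂ) else 0) := by
  classical
  haveI := Fintype.ofFinite (IrrCharacter C)
  set σ₀ : Subgroup.zpowers σ := ⟨σ, Subgroup.mem_zpowers σ⟩ with hσ₀
  have hgen : ∀ x : Subgroup.zpowers σ, ∃ m : ℕ, σ₀ ^ m = x := fun x => by
    obtain ⟨m, hm⟩ := (mem_powers_iff_mem_zpowers.mpr x.2 : (x : Γ) ∈ Submonoid.powers σ)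
    exact ⟨m, Subtype.ext hm⟩
  choose d ρu hρu using fun γ : IrrCharacter C => CoprimeCyclic.isCharacter_multAt hC χh γ
  choose z hz using fun (γ : IrrCharacter C) (x : Subgroup.zpowers σ) =>
    exists_multAt_int hcop htop hC h γ x
  have hchar : ∀ γ x, (ρu γ).character x = z γ x := fun γ x => (congrFun (hρu γ) x).trans (hz γ x)
  -- the expansion on the cosets
  have hexp : ∀ (c : C) (x : Subgroup.zpowers σ),
      (χh : Γ → ℂ) ((c : Γ) * x) = ∑ γ : IrrCharacter C, (z γ x : ℂ) * (γ : C → ℂ) c := by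
    intro c x
    have hcf : IsClassFunction C fun c : C => (χh : Γ → ℂ) ((c : Γ) * x) := fun a b => by
      obtain ⟨m, hm⟩ := hgen x
      have hb : Commute (x : Γ) (b : Γ)⁻¹ := by
        rw [← hm]
        exact (((CoprimeCyclic.mem_C hC).mp b.2).2.pow_left m).inv_right
      show (χh : Γ → ℂ) ((b : Γ) * a * (b : Γ)⁻¹ * x) = _
      rw [mul_assoc ((b : Γ) * a), ← hb.eq, ← mul_assoc, mul_assoc (b : Γ)]
      exact isClassFunction_irr χh _ _
    have e := congrFun (classFun_expand hcf) c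
    rw [e, Finset.sum_apply]
    exact Finset.sum_congr rfl fun γ _ => by rw [Pi.smul_apply, smul_eq_mul, ← hz γ x]; rfl
  have hnorm : ∀ x : Subgroup.zpowers σ, x ≠ 1 → ∑ γ : IrrCharacter C, z γ x * z γ x = 1 := by
    intro x hx
    have hcopx : (Nat.card G).Coprime (orderOf (x : Γ)) :=
      hcop.of_dvd_right (by rw [Subgroup.orderOf_coe, ← Nat.card_zpowers σ]; exact orderOf_dvd_natCard x)
    have hCx : C = G ⊓ Subgroup.centralizer (Subgroup.zpowers (x : Γ) : Set Γ) := by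
      refine (hfpf x x.2 (fun e => hx (Subtype.ext e))).symm.trans ?_
      congr 1
      ext y
      rw [Subgroup.mem_centralizer_singleton_iff, Subgroup.mem_centralizer_iff]
      refine ⟨fun hy w hw => ?_, fun hy => (hy _ (Subgroup.mem_zpowers _)).symm⟩
      obtain ⟨i, rfl⟩ := Subgroup.mem_zpowers_iff.1 hw
      exact ((show Commute (x : Γ) y from hy.symm).zpow_left i).eq
    have h1 := CoprimeCyclic.classInner_coset hcopx hCx χh χh
    rw [cosetAvg_self_eq_one G χh (by rw [funext h.res]; exact χ.2)] at h1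
    beta_reduce at h1
    have hf : (fun c : C => (χh : Γ → ℂ) ((c : Γ) * (x : Γ))) =
        ∑ γ : IrrCharacter C, (z γ x : ℂ) • (γ : C → ℂ) := funext fun c => by
      rw [hexp c x, Finset.sum_apply]
      exact Finset.sum_congr rfl fun γ _ => by rw [Pi.smul_apply, smul_eq_mul]
    rw [hf, classInner_sum_left, Finset.sum_congr rfl fun γ _ => show
      classInner ((z γ x : ℂ) • (γ : C → ℂ)) (∑ η : IrrCharacter C, (z η x : ℂ) • (η : C → ℂ)) =
        ((z γ x * z γ x : ℤ) : ℂ) by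
      rw [classInner_smul_left, classInner_sum_right, Finset.sum_eq_single γ]
      · rw [classInner_smul_right, classInner_irr_self, map_intCast, Int.cast_mul, mul_one]
      · intro η _ hne
        rw [classInner_smul_right, classInner_irr_ne (Ne.symm hne), mul_zero]
      · exact fun hn => absurd (Finset.mem_univ γ) hn, ← Int.cast_sum] at h1
    exact_mod_cast h1
  -- the values at the generators
  have hz1 : ∀ j : ℕ, j.Coprime (orderOf σ) → ∀ γ, z γ (σ₀ ^ j) = if γ = β then ε₀ else 0 := by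
    intro j hj γ
    have h1 := hz γ (σ₀ ^ j)
    rw [CoprimeCyclic.multAt, show (fun c : C => (χh : Γ → ℂ) ((c : Γ) * ((σ₀ ^ j : Subgroup.zpowers σ) : Γ))) =
      (ε₀ : ℂ) • (β : C → ℂ) from funext fun c => by
        rw [SubgroupClass.coe_pow]; exact hβ c j hj, classInner_smul_left] at h1
    by_cases e : γ = β
    · subst e
      rw [if_pos rfl]
      rw [classInner_irr_self, mul_one] at h1
      exact_mod_cast h1.symm
    · rw [if_neg e]
      rw [classInner_irr_ne (Ne.symm e), mul_zero] at h1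
      exact_mod_cast h1.symm
  have hbound : ∀ γ x, x ≠ 1 → z γ x = 0 ∨ z γ x = 1 ∨ z γ x = -1 := fun γ x hx => by
    have h1 : z γ x * z γ x ≤ 1 := hnorm x hx ▸
      Finset.single_le_sum (f := fun η => z η x * z η x) (fun η _ => mul_self_nonneg _)
        (Finset.mem_univ γ)
    have h2 : -1 ≤ z γ x := by nlinarith
    have h3 : z γ x ≤ 1 := by nlinarith
    omega
  -- away from `β` they vanish
  have hzero : ∀ γ, γ ≠ β → ∀ m : ℕ, σ₀ ^ m ≠ 1 → z γ (σ₀ ^ m) = 0 := by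
    intro γ hγ m
    induction m using Nat.strong_induction_on with
    | _ m ih =>
    intro hm
    rcases Nat.lt_or_ge m 2 with h2 | h2
    · interval_cases m
      · exact absurd (pow_zero σ₀) hm
      · rw [hz1 1 (Nat.coprime_one_left _) γ, if_neg hγ]
    · have hq : m.minFac.Prime := Nat.minFac_prime (by omega)
      obtain ⟨k, hk⟩ := Nat.minFac_dvd m
      have hkm : k < m := by
        rcases Nat.eq_zero_or_pos k with rfl | hk0
        · omega
        · calc k = 1 * k := (one_mul k).symm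
            _ < m.minFac * k := Nat.mul_lt_mul_of_pos_right hq.one_lt hk0
            _ = m := hk.symm
      have hmk : σ₀ ^ m = (σ₀ ^ k) ^ m.minFac := by rw [← pow_mul, mul_comm k, ← hk]
      have hk1 : σ₀ ^ k ≠ 1 := fun e => hm (by rw [hmk, e, one_pow])
      have hd := prime_congr (ρu γ) (σ₀ ^ k) hq (hchar γ _) (hchar γ _)
      rw [ih k hkm hk1, ← hmk, zero_pow hq.ne_zero, zero_sub, dvd_neg] at hd
      have h2q : (2 : ℤ) ≤ (m.minFac : ℤ) := by exact_mod_cast hq.two_le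
      rcases hbound γ _ hm with e | e | e
      · exact e
      · rw [e] at hd; have := Int.le_of_dvd one_pos hd; omega
      · rw [e, dvd_neg] at hd; have := Int.le_of_dvd one_pos hd; omega
  have hzero' : ∀ γ, γ ≠ β → ∀ x, x ≠ 1 → z γ x = 0 := fun γ hγ x hx => by
    obtain ⟨m, rfl⟩ := hgen x
    exact hzero γ hγ m hx
  have hsign : ∀ x, x ≠ 1 → z β x = 1 ∨ z β x = -1 := fun x hx => by
    have h1 := hnorm x hx
    rw [Finset.sum_eq_single β (fun γ _ hγ => by rw [hzero' γ hγ x hx, mul_zero])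
      (fun hn => absurd (Finset.mem_univ β) hn)] at h1
    exact mul_self_eq_one_iff.mp h1
  -- the two signs
  set ε : ℤ := if σ₀ ^ 2 = 1 then ε₀ else z β (σ₀ ^ 2) with hεdef
  have hε : ε = 1 ∨ ε = -1 := by
    rw [hεdef]; split_ifs with h2
    · exact hε₀
    · exact hsign _ h2
  have hpar : ∀ m : ℕ, σ₀ ^ m ≠ 1 → z β (σ₀ ^ m) = if Even m then ε else ε₀ := by
    intro m
    induction m using Nat.strong_induction_on with
    | _ m ih =>
    intro hm
    rcases Nat.lt_or_ge m 3 with h3 | h3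
    · interval_cases m
      · exact absurd (pow_zero σ₀) hm
      · rw [hz1 1 (Nat.coprime_one_left _) β, if_pos rfl, if_neg (by decide)]
      · rw [if_pos (by decide), hεdef, if_neg hm]
    by_cases h4 : 4 ∣ m
    · obtain ⟨l, hl⟩ := h4
      have hm4 : σ₀ ^ m = (σ₀ ^ l) ^ 4 := by rw [← pow_mul, mul_comm l, ← hl]
      have hm2 : σ₀ ^ (2 * l) ≠ 1 := fun e => hm (by
        rw [show m = 2 * l * 2 by omega, pow_mul, e, one_pow])
      have hl1 : σ₀ ^ l ≠ 1 := fun e => hm (by rw [hm4, e, one_pow])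
      have e24 : (σ₀ ^ l) ^ 2 = σ₀ ^ (2 * l) := by rw [← pow_mul, mul_comm]
      have heq := four_congr (ρu β) (σ₀ ^ l) (hchar β _) (hchar β _) (hchar β _) (hsign _ hl1)
        (hsign _ (e24 ▸ hm2)) (hsign _ (hm4 ▸ hm))
      rw [← hm4, e24, ih (2 * l) (by omega) hm2, if_pos (even_two_mul l)] at heq
      rw [heq, if_pos ⟨2 * l, by omega⟩]
    · obtain ⟨q, hq, hqo, hqm⟩ : ∃ q : ℕ, q.Prime ∧ q ≠ 2 ∧ q ∣ m := by
        by_contra hall
        push Not at hall
        obtain ⟨i, hi⟩ : ∃ i, m = 2 ^ i := ⟨_, Nat.eq_prime_pow_of_unique_prime_dvd (by omega)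
          fun {q} hq hqm => by by_contra hne; exact hall q hq hne hqm⟩
        rcases i with _ | _ | i
        · omega
        · omega
        · exact h4 ⟨2 ^ i, by rw [hi, pow_succ, pow_succ]; ring⟩
      obtain ⟨k, hk⟩ := hqm
      have hkm : k < m := by
        rcases Nat.eq_zero_or_pos k with rfl | hk0
        · omega
        · calc k = 1 * k := (one_mul k).symm
            _ < q * k := Nat.mul_lt_mul_of_pos_right hq.one_lt hk0
            _ = m := hk.symm
      have hmk : σ₀ ^ m = (σ₀ ^ k) ^ q := by rw [← pow_mul, mul_comm k, ← hk]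
      have hk1 : σ₀ ^ k ≠ 1 := fun e => hm (by rw [hmk, e, one_pow])
      have hodd : Odd q := hq.odd_of_ne_two hqo
      have hd := prime_congr (ρu β) (σ₀ ^ k) hq (hchar β _) (hchar β _)
      rw [← hmk] at hd
      have hq3 : (3 : ℤ) ≤ (q : ℤ) := by exact_mod_cast (by have := hq.two_le; omega : 3 ≤ q)
      have heq : z β (σ₀ ^ m) = z β (σ₀ ^ k) := by
        have hpw : z β (σ₀ ^ k) ^ q = z β (σ₀ ^ k) := by
          rcases hsign _ hk1 with e | e <;> rw [e]
          · exact one_pow q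
          · exact hodd.neg_one_pow
        rw [hpw] at hd
        rcases hsign _ hk1 with e | e <;> rcases hsign _ hm with e' | e' <;> rw [e, e'] at hd ⊢ <;>
          norm_num at hd ⊢
        · have := Int.le_of_dvd two_pos hd; omega
        · have := Int.le_of_dvd two_pos hd; omega
      rw [heq, ih k hkm hk1]
      refine if_congr ?_ rfl rfl
      rw [hk, Nat.even_mul]
      simp [Nat.not_even_iff_odd.2 hodd]
  -- the linear character
  obtain ⟨μ, hμsq, hμ⟩ : ∃ μ : Subgroup.zpowers σ →* ℂˣ, (∀ x, μ x * μ x = 1) ∧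
      ∀ x, x ≠ 1 → (z β x : ℂ) = (ε : ℂ) * (μ x : ℂ) := by
    by_cases he : ε = ε₀
    · refine ⟨1, fun x => by simp, fun x hx => ?_⟩
      obtain ⟨m, rfl⟩ := hgen x
      rw [hpar m hx, he, ite_self]
      simp
    · have h2 : σ₀ ^ 2 ≠ 1 := fun e => he (by rw [hεdef, if_pos e])
      have heven : 2 ∣ orderOf σ₀ := by
        by_contra hodd
        refine he ?_
        rw [hεdef, if_neg h2, hz1 2 ?_ β, if_pos rfl]
        rwa [Nat.prime_two.coprime_iff_not_dvd, ← Subgroup.orderOf_mk σ (Subgroup.mem_zpowers σ)]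
      let f : Subgroup.zpowers σ →* ℂˣ := monoidHomOfForallMemZpowers (g := σ₀) (g' := (-1 : ℂˣ))
        (fun x => by obtain ⟨m, rfl⟩ := hgen x; exact pow_mem (Subgroup.mem_zpowers σ₀) m)
        ((orderOf_dvd_of_pow_eq_one (neg_one_sq)).trans heven)
      have hf : ∀ m : ℕ, f (σ₀ ^ m) = (-1 : ℂˣ) ^ m := fun m => by
        rw [map_pow, monoidHomOfForallMemZpowers_apply_gen]
      refine ⟨f, fun x => ?_, fun x hx => ?_⟩
      · obtain ⟨m, rfl⟩ := hgen x
        rw [hf, ← pow_add, ← two_mul, pow_mul, neg_one_sq, one_pow]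
      · obtain ⟨m, rfl⟩ := hgen x
        have hneg : ε₀ = -ε := by rcases hε with e | e <;> rcases hε₀ with e' | e' <;> omega
        rw [hpar m hx, hf, Units.val_pow_eq_pow_val, Units.val_neg, Units.val_one]
        by_cases hm : Even m
        · rw [if_pos hm, hm.neg_one_pow, mul_one]
        · rw [if_neg hm, (Nat.not_even_iff_odd.1 hm).neg_one_pow, hneg]
          push_cast
          ring
  refine ⟨ε, μ, hε, hμsq, fun c x hx => ?_, ?_⟩
  · rw [hexp c x, Finset.sum_eq_single β (fun γ _ hγ => by rw [hzero' γ hγ x hx]; simp)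
      (fun hn => absurd (Finset.mem_univ β) hn), hμ x hx]
    ring
  -- the multiplicities at the identity
  have hid : ∀ γ, ∃ M : ℕ, (z γ 1 : ℤ) = (orderOf σ : ℤ) * M + if γ = β then ε else 0 := by
    intro γ
    obtain ⟨k, hk⟩ := classInner_char_irr_nat
      ⟨d γ, ρu γ, rfl⟩ ⟨_, isIrrCharacter_lin μ⟩
    have hμv : ∀ x, ((μ x : ℂˣ) : ℂ) * ((μ x : ℂˣ) : ℂ) = 1 := fun x => by
      rw [← Units.val_mul, hμsq, Units.val_one]
    have hconj : ∀ x, conj ((μ x : ℂˣ) : ℂ) = ((μ x : ℂˣ) : ℂ) := fun x => by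
      rcases mul_self_eq_one_iff.1 (hμv x) with e | e <;> simp [e]
    simp only [classInner, hchar, hconj] at hk
    rw [← Finset.add_sum_erase _ _ (Finset.mem_univ (1 : Subgroup.zpowers σ)), map_one,
      Units.val_one, mul_one, Finset.sum_congr rfl (g := fun _ => ((if γ = β then ε else 0 : ℤ) : ℂ))
        (fun x hx => by
          have hx1 := (Finset.mem_erase.1 hx).1
          split_ifs with e
          · rw [e, hμ x hx1, mul_assoc, hμv, mul_one]
          · simp [hzero' γ e x hx1]),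
      Finset.sum_const, Finset.card_erase_of_mem (Finset.mem_univ _), Finset.card_univ,
      ← Nat.card_eq_fintype_card, Nat.card_zpowers, nsmul_eq_mul,
      Nat.cast_sub (orderOf_pos σ), Nat.cast_one] at hk
    have ho0 : (orderOf σ : ℂ) ≠ 0 := Nat.cast_ne_zero.2 (orderOf_pos σ).ne'
    rw [inv_mul_eq_iff_eq_mul₀ ho0] at hk
    set δ : ℤ := if γ = β then ε else 0 with hδ
    have hkey : z γ 1 = (orderOf σ : ℤ) * ((k : ℤ) - δ) + δ := by
      have : ((z γ 1 : ℤ) : ℂ) = (((orderOf σ : ℤ) * ((k : ℤ) - δ) + δ : ℤ) : ℂ) := by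
        push_cast; linear_combination hk
      exact_mod_cast this
    have hnn : 0 ≤ z γ 1 := by
      obtain ⟨n, hn⟩ : ∃ n : ℕ, (ρu γ).character 1 = n :=
        ⟨_, Representation.char_one (ρu γ)⟩
      have : z γ 1 = (n : ℤ) := by exact_mod_cast ((hchar γ 1).symm.trans hn)
      omega
    by_cases hpos : 0 ≤ (k : ℤ) - δ
    · refine ⟨((k : ℤ) - δ).toNat, ?_⟩
      rw [Int.toNat_of_nonneg hpos]; exact hkey
    · exfalso
      push Not at hpos
      have ho : (1 : ℤ) ≤ orderOf σ := by exact_mod_cast orderOf_pos σ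
      have hδ1 : δ ≤ 1 := by rw [hδ]; split_ifs <;> omega
      have hk0 : k = 0 := by omega
      have hδe : δ = 1 := by omega
      rw [hk0, hδe] at hkey
      have ho1 : orderOf σ = 1 := by
        have : (orderOf σ : ℤ) ≤ 1 := by push_cast at hkey; omega
        omega
      have h1 := hz1 1 (Nat.coprime_one_left _) γ
      rw [show σ₀ ^ 1 = 1 by rw [pow_one]; exact Subtype.ext (orderOf_eq_one_iff.1 ho1)] at h1
      have he : γ = β := by by_contra e; rw [hδ, if_neg e] at hδe; omega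
      rw [if_pos he] at h1
      rw [hδ, if_pos he, hεdef, if_pos (Subtype.ext (by
        show σ ^ 2 = 1
        rw [orderOf_eq_one_iff.1 ho1, one_pow]))] at hδe
      rw [ho1, h1, hδe] at hkey
      norm_num at hkey
  choose M hM using hid
  refine ⟨M, fun γ => ?_⟩
  intro _
  have h1 := hz γ 1
  rw [CoprimeCyclic.multAt] at h1
  simp only [OneMemClass.coe_one, mul_one] at h1
  rw [show (fun c : C => (χ : G → ℂ) ⟨c, CoprimeCyclic.C_le hC c.2⟩) =
    fun c : C => (χh : Γ → ℂ) (c : Γ) from funext fun c => (h.res ⟨c, CoprimeCyclic.C_le hC c.2⟩).symm,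
    h1, hM γ]
  split_ifs <;> push_cast <;> rfl

end

/-- Let the finite group Γ be generated by a normal subgroup G and a cyclic subgroup S of coprime orders such that every non-identity element of S has the same centraliser C = G ⊓ C(S) in G. Let χ be an S-invariant irreducible character of G, χ̂ its canonical extension to Γ (determinantal order coprime to the order of S), and β the irreducible character of C with χ̂(c s) = ε₀ β(c) for c ∈ C and generators s of S (ε₀ = ±1). Then there are a sign ε = ±1, which may differ from ε₀, and a linear character μ of S with μ² = 1, such that: (a) χ̂(c x) = ε β(c) μ(x) for all c ∈ C and all x ∈ S other than 1; (b) the restriction of χ to C equals |S|·ϑ + ε β for some character ϑ of C or ϑ = 0; (c) |S| divides χ(1) − ε β(1). -/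
theorem result {Γ : Type*} [Group Γ] [Fintype Γ] (G S : Subgroup Γ) [Fintype G] (hnorm : ∀ s ∈ S, ∀ g ∈ G, s * g * s⁻¹ ∈ G) (hcop : (Nat.card G).Coprime (Nat.card S)) (htop : G ⊔ S = ⊤) (hcyc : IsCyclic S) (C : Subgroup Γ) [Fintype C] (hC : C = G ⊓ Subgroup.centralizer (S : Set Γ)) (hCG : C ≤ G) (hfpf : ∀ x ∈ S, x ≠ 1 → G ⊓ Subgroup.centralizer ({x} : Set Γ) = C) (χ : Cfsg.IrrCharacter G) (hinv : (∀ s ∈ S, ∀ g g' : G, (g' : Γ) = s * g * s⁻¹ → (χ : G → ℂ) g' = (χ : G → ℂ) g)) (χh : Cfsg.IrrCharacter Γ) (hext : (∀ g : G, (χh : Γ → ℂ) g = (χ : G → ℂ) g)) (hdet : (Cfsg.detOrder (χh : Γ → ℂ)).Coprime (Nat.card S)) (β : Cfsg.IrrCharacter C) (ε₀ : ℤ) (hε₀ : ε₀ = 1 ∨ ε₀ = -1) (hβ : ∀ c : C, ∀ s : Γ, Subgroup.zpowers s = S → (χh : Γ → ℂ) ((c : Γ) * s) = (ε₀ : ℂ) * (β : C → ℂ) c) : ∃ ε : ℤ, (ε = 1 ∨ ε = -1) ∧ (∃ μ : S → ℂ, Cfsg.IsCharacter S μ ∧ μ 1 = 1 ∧ (∀ x : S, μ x * μ x = 1) ∧ ∀ c : C, ∀ x : S, x ≠ 1 → (χh : Γ → ℂ) ((c : Γ) * x) = (ε : ℂ)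 * (β : C → ℂ) c * μ x) ∧ (∃ ϑ : C → ℂ, Cfsg.IsCharacter C ϑ ∧ (fun c : C => (χ : G → ℂ) ⟨c, hCG c.2⟩) = fun c => (Nat.card S : ℂ) * ϑ c + (ε : ℂ) * (β : C → ℂ) c) ∧ (Nat.card S : ℤ) ∣ (Cfsg.charDegree (χ : G → ℂ) : ℤ) - ε * (Cfsg.charDegree (β : C → ℂ) : ℤ) := by
  classical
  obtain ⟨σ, hσ⟩ : ∃ σ : Γ, Subgroup.zpowers σ = S := by
    obtain ⟨σ₀, hσ₀⟩ := hcyc.exists_generator
    refine ⟨(σ₀ : Γ), le_antisymm (Subgroup.zpowers_le.mpr σ₀.2) fun x hx => ?_⟩
    obtain ⟨i, hi⟩ := Subgroup.mem_zpowers_iff.mp (hσ₀ ⟨x, hx⟩)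
    exact Subgroup.mem_zpowers_iff.mpr ⟨i, congrArg Subtype.val hi⟩
  subst hσ
  have hGn : G.Normal := by
    refine Subgroup.normalizer_eq_top_iff.mp (top_le_iff.mp (htop ▸ sup_le Subgroup.le_normalizer ?_))
    intro s hs
    refine Subgroup.mem_normalizer_iff.mpr fun g => ⟨hnorm s hs g, fun h => ?_⟩
    simpa [mul_assoc] using hnorm s⁻¹ (inv_mem hs) _ h
  rw [Nat.card_zpowers] at hcop hdet ⊢
  obtain ⟨ε, μ, hε, hμ, hval, M, hM⟩ := main hcop htop hC (χ := χ) (χh := χh) ⟨hext, hdet⟩ hfpf β ε₀ hε₀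
    (fun c j hj => by
      refine hβ c _ ?_
      refine le_antisymm (Subgroup.zpowers_le.mpr (pow_mem (Subgroup.mem_zpowers σ) j)) ?_
      refine Subgroup.zpowers_le.mpr ?_
      obtain ⟨i, hi⟩ := exists_pow_eq_self_of_coprime hj
      exact ⟨(i : ℤ), by simpa using hi⟩)
  haveI := Fintype.ofFinite (IrrCharacter C)
  let ϑ : C → ℂ := ∑ γ : IrrCharacter C, (M γ : ℂ) • (γ : C → ℂ)
  have hϑc : Cfsg.IsCharacter C ϑ := by
    refine CfsgLib.Char.isCharacter_of_nat_inner (fun a b => ?_) fun ψ => ⟨M ψ, ?_⟩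
    · simp only [ϑ, Finset.sum_apply, Pi.smul_apply, CfsgLib.Char.isClassFunction_irr _ a b]
    · simp only [ϑ, CfsgLib.Char.classInner_sum_left, CfsgLib.Char.classInner_smul_left]
      rw [Finset.sum_eq_single ψ (fun γ _ hne => by
        rw [CfsgLib.Char.classInner_irr_ne hne, mul_zero]) (fun hn => absurd (Finset.mem_univ ψ) hn),
        CfsgLib.Char.classInner_irr_self, mul_one]
  have hdec : (fun c : C => (χ : G → ℂ) ⟨c, hCG c.2⟩) =
      fun c => (orderOf σ : ℂ) * ϑ c + (ε : ℂ) * (β : C → ℂ) c := by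
    have hcf : Cfsg.IsClassFunction C fun c : C => (χ : G → ℂ) ⟨c, hCG c.2⟩ := fun a b => by
      simp only [← hext]
      exact CfsgLib.Char.isClassFunction_irr χh (a : Γ) (b : Γ)
    funext c
    have e := congrFun (CfsgLib.Char.classFun_expand hcf) c
    rw [e, Finset.sum_apply]
    simp only [Pi.smul_apply, smul_eq_mul, hM, ϑ, Finset.sum_apply, add_mul, Finset.sum_add_distrib,
      Finset.mul_sum, ite_mul, zero_mul, Finset.sum_ite_eq', Finset.mem_univ, if_true, mul_assoc]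
  refine ⟨ε, hε, ⟨_, CfsgLib.Char.isCharacter_hom μ, by simp, fun x => ?_, hval⟩, ⟨ϑ, hϑc, hdec⟩, ?_⟩
  · rw [← Units.val_mul, hμ, Units.val_one]
  · obtain ⟨n, ρ, hρ⟩ := hϑc
    have hn : ϑ 1 = (n : ℂ) := by rw [← hρ, Representation.char_one, Module.finrank_fin_fun]
    have e := congrFun hdec 1
    have hχ1 : (χ : G → ℂ) ⟨((1 : C) : Γ), hCG (1 : C).2⟩ = (χ : G → ℂ) 1 := rfl
    rw [hχ1, hn, CfsgLib.Char.CoprimeCyclic.charDegree_eq' χ] at e
    obtain ⟨b, -, hb⟩ := CfsgLib.Char.isIrrCharacter_degree β.2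
    rw [hb] at e
    rw [show Cfsg.charDegree (β : C → ℂ) = b by simp [Cfsg.charDegree, hb]]
    refine ⟨n, ?_⟩
    have : (((Cfsg.charDegree (χ : G → ℂ) : ℤ) - ε * (b : ℤ) : ℤ) : ℂ) =
        (((orderOf σ : ℤ) * (n : ℤ) : ℤ) : ℂ) := by push_cast; linear_combination e
    exact_mod_cast this

end Cfsg.Agent.S4451
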