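import Cfsg.Statements.S4452
import Cfsg.Agent.S4445
import Cfsg.Agent.S0867
import Cfsg.Agent.Lib.Char.Gallagher
import Cfsg.Agent.Lib.Char.DegreeRatio
import Cfsg.Agent.Lib.Char.Linear
-- import your own Cfsg.Agent.* helpers here

set_option autoImplicit false
open Cfsg CfsgLib.Block
open scoped ComplexConjugate

namespace Cfsg.Agent.S4452

universe u

section
variable {A : Type u} [Group A] [Finite A] (K : Subgroup A) [K.Normal]

theorem detOrder_dvd {ϑ : K → ℂ} (hϑ : IsIrrCharacter K ϑ) : detOrder ϑ ∣ Nat.card K := by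
  obtain ⟨m, ρ, hρ, rfl⟩ := hϑ
  rw [Cfsg.detOrder, CfsgLib.Char.detChar_eq, CfsgLib.Char.orderOf_fun_hom]
  refine orderOf_dvd_of_pow_eq_one (MonoidHom.ext fun k => ?_)
  rw [MonoidHom.pow_apply, ← map_pow, pow_card_eq_one', map_one, MonoidHom.one_apply]

/-- Characters of degree prime to a coprime index. -/
theorem card_coprime_degree (hcop : K.index.Coprime (Nat.card K)) :
    Nat.card {χ : IrrCharacter A // (charDegree (χ : A → ℂ)).Coprime K.index} =
      Nat.card {θ : IrrCharacter K // ∀ g : A, CfsgLib.Char.conjFun K (θ : K → ℂ) g = (θ : K → ℂ)} *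
        Nat.card {f : A →* ℂˣ // ∀ k : K, f k = 1} := by
  classical
  have := Fintype.ofFinite A
  have := Fintype.ofFinite K
  have hext : ∀ θ : {θ : IrrCharacter K // ∀ g : A, CfsgLib.Char.conjFun K (θ : K → ℂ) g = (θ : K → ℂ)},
      ∃ χ : IrrCharacter A, ∀ n : K, (χ : A → ℂ) n = (θ.1 : K → ℂ) n := fun θ => by
    obtain ⟨hd, -⟩ := charDegree_eq θ.1
    obtain ⟨χ, ⟨hχ, hres, -⟩, -⟩ := Cfsg.Agent.S0867.result K _ θ.1.2
      (fun g n => congrFun (θ.2 g) n) _ hd
      (Nat.Coprime.mul_right (hcop.of_dvd_right (detOrder_dvd K θ.1.2))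
        (hcop.of_dvd_right (CfsgLib.Char.degree_dvd_card θ.1 hd)))
    exact ⟨⟨χ, hχ⟩, hres⟩
  choose E hE using hext
  have hlin : ∀ (θ : {θ : IrrCharacter K // ∀ g : A, CfsgLib.Char.conjFun K (θ : K → ℂ) g = (θ : K → ℂ)})
      (f : A →* ℂˣ), IsIrrCharacter A (fun g => (E θ : A → ℂ) g * (f g : ℂ)) := fun θ f => by
    refine CfsgLib.Char.isIrr_of_isCharacter_norm_one (CfsgLib.Char.isCharacter_mul
      (CfsgLib.Char.isCharacter_irr _) (CfsgLib.Char.isCharacter_of_isIrr
        (CfsgLib.Char.isIrrCharacter_lin f))) ?_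
    rw [← CfsgLib.Char.classInner_irr_self (E θ), classInner, classInner]
    refine congrArg _ (Finset.sum_congr rfl fun g _ => ?_)
    rw [map_mul]
    have h : (f g : ℂ) * conj (f g : ℂ) = 1 := by
      rw [Complex.mul_conj', Complex.norm_eq_one_of_pow_eq_one (n := Nat.card A) ?_ Nat.card_pos.ne',
        Complex.ofReal_one, one_pow]
      rw [← Units.val_pow_eq_pow_val, ← map_pow, pow_card_eq_one', map_one, Units.val_one]
    linear_combination ((E θ : A → ℂ) g * conj ((E θ : A → ℂ) g)) * h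
  let F : {θ : IrrCharacter K // ∀ g : A, CfsgLib.Char.conjFun K (θ : K → ℂ) g = (θ : K → ℂ)} ×
      {f : A →* ℂˣ // ∀ k : K, f k = 1} →
      {χ : IrrCharacter A // (charDegree (χ : A → ℂ)).Coprime K.index} := fun x =>
    ⟨⟨_, hlin x.1 x.2.1⟩, by
      obtain ⟨hd, -⟩ := charDegree_eq x.1.1
      obtain ⟨hd', -⟩ := charDegree_eq (⟨_, hlin x.1 x.2.1⟩ : IrrCharacter A)
      have h : (charDegree fun g => (E x.1 : A → ℂ) g * (x.2.1 g : ℂ)) =
          charDegree (x.1.1 : K → ℂ) := Nat.cast_injective (R := ℂ) (by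
        rw [← hd', ← hd, ← hE x.1 1]
        simp)
      show (charDegree fun g => (E x.1 : A → ℂ) g * (x.2.1 g : ℂ)).Coprime K.index
      rw [h]
      exact (hcop.of_dvd_right (CfsgLib.Char.degree_dvd_card x.1.1 hd)).symm⟩
  rw [← Nat.card_prod]
  refine (Nat.card_congr (Equiv.ofBijective F ⟨?_, ?_⟩)).symm
  · rintro ⟨θ, f⟩ ⟨θ', f'⟩ h
    have hfun : ∀ g, (E θ : A → ℂ) g * (f.1 g : ℂ) = (E θ' : A → ℂ) g * (f'.1 g : ℂ) :=
      fun g => congrFun (congrArg (fun x => (x.1 : A → ℂ)) h) g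
    obtain rfl : θ = θ' := Subtype.ext (Subtype.ext (funext fun k => by
      have := hfun k
      rwa [f.2, f'.2, Units.val_one, mul_one, mul_one, hE, hE] at this))
    refine Prod.ext rfl (Subtype.ext (MonoidHom.ext fun g => Units.ext (sub_eq_zero.mp ?_)))
    have hirr : IsIrrCharacter K (fun n : K => (E θ : A → ℂ) n) := by
      rw [funext (hE θ)]; exact θ.1.2
    have havg := CfsgLib.Char.cosetAvg_self_eq_one K (E θ) hirr
    have h1 := CfsgLib.Char.cosetAvg_mul_const K
      (fun x => (E θ : A → ℂ) x * conj ((E θ : A → ℂ) x))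
      (h := fun x => (f.1 x : ℂ) - (f'.1 x : ℂ)) (fun n g => by simp only [map_mul, f.2, f'.2, one_mul])
    have h2 := congrFun h1 g
    rw [havg, Pi.mul_apply, one_mul] at h2
    rw [← h2, CfsgLib.Char.cosetAvg, Finset.sum_eq_zero fun n _ => ?_, mul_zero]
    rw [Pi.mul_apply, mul_comm ((E θ : A → ℂ) ((n : A) * g)), mul_assoc, mul_sub, hfun, sub_self, mul_zero]
  · rintro ⟨χ, hχ⟩
    obtain ⟨θ, hθ⟩ := exists_constituent (N := K) χ
    obtain ⟨hc, hc0⟩ := charDegree_eq χ
    obtain ⟨hd, hd0⟩ := charDegree_eq θ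
    obtain ⟨hdc, hidx⟩ := CfsgLib.Char.ratio_dvd_index K χ.2 θ.2 hθ hc hd
    have hcd : charDegree (χ : A → ℂ) = charDegree (θ : K → ℂ) := by
      obtain ⟨e, he⟩ := hdc
      rw [he, Nat.mul_div_cancel_left _ (Nat.pos_of_ne_zero hd0)] at hidx
      rw [he] at hχ
      rw [he, Nat.eq_one_of_dvd_coprimes hχ.coprime_mul_left (dvd_refl e) hidx, mul_one]
    have hres : (fun n : K => (χ : A → ℂ) n) = (θ : K → ℂ) := by
      have hch : IsCharacter K (fun n : K => (χ : A → ℂ) n) :=
        CfsgLib.Char.isCharacter_comp (CfsgLib.Char.isCharacter_irr χ) K.subtype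
      exact (CfsgLib.Char.degree_le_of_constituent hch θ hθ
        (show (χ : A → ℂ) ((1 : K) : A) = _ from hc) hd).2 hcd
    let θ' : {θ : IrrCharacter K // ∀ g : A, CfsgLib.Char.conjFun K (θ : K → ℂ) g = (θ : K → ℂ)} :=
      ⟨θ, fun g => by rw [← hres]; exact CfsgLib.Char.conjFun_coe_of_classFun K (CfsgLib.Char.isClassFunction_irr χ) g⟩
    have hirr : IsIrrCharacter K (fun n : K => (E θ' : A → ℂ) n) := by
      rw [funext (hE θ')]; exact θ.2
    obtain ⟨hη, hprod⟩ := CfsgLib.Char.gallagher K (E θ') hirr χ (by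
      rw [funext (hE θ'), hres, CfsgLib.Char.classInner_irr_self]
      exact one_ne_zero)
    set η := CfsgLib.Char.cosetAvg K (fun x => (χ : A → ℂ) x * conj ((E θ' : A → ℂ) x))
    have hone : η 1 = 1 := by
      have := congrFun hprod 1
      rw [Pi.mul_apply, hc, hcd, ← hd, ← (show (E θ' : A → ℂ) 1 = (θ : K → ℂ) 1 from hE θ' 1)] at this
      exact (mul_right_eq_self₀.mp this.symm).resolve_right (CfsgLib.Char.irr_one_ne_zero _)
    obtain ⟨f, hf⟩ := CfsgLib.Char.linearCharEquiv.surjective (⟨⟨η, hη⟩, hone⟩ : {χ : IrrCharacter A // (χ : A → ℂ) 1 = 1})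
    have hfg : ∀ g, (f g : ℂ) = η g := fun g => congrFun (congrArg (fun x => (x.1 : A → ℂ)) hf) g
    have hfK : ∀ k : K, f k = 1 := fun k => Units.ext (by
      rw [hfg, Units.val_one, ← hone]
      simp only [η]
      conv_lhs => rw [← mul_one (k : A)]
      exact CfsgLib.Char.cosetAvg_mul_left K _ k 1)
    refine ⟨(θ', ⟨f, hfK⟩), Subtype.ext (Subtype.ext ?_)⟩
    show (fun g => (E θ' : A → ℂ) g * (f g : ℂ)) = (χ : A → ℂ)
    rw [hprod]
    exact funext fun g => by rw [hfg, Pi.mul_apply]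

theorem card_trivial_hom (H : Subgroup A) (hKH : K ⊔ H = ⊤) (hdis : K ⊓ H = ⊥) :
    Nat.card {f : A →* ℂˣ // ∀ k : K, f k = 1} = Nat.card (H →* ℂˣ) := by
  have hbij : Function.Bijective ((QuotientGroup.mk' K).comp H.subtype) := by
    refine ⟨(injective_iff_map_eq_one _).mpr fun h hh => ?_, fun q => ?_⟩
    · have h1 : (h : A) ∈ K ⊓ H := ⟨(QuotientGroup.eq_one_iff (h : A)).mp hh, h.2⟩
      rw [hdis, Subgroup.mem_bot] at h1
      exact Subtype.ext h1
    · obtain ⟨a, rfl⟩ := QuotientGroup.mk_surjective q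
      obtain ⟨k, hk, h, hh, rfl⟩ := Subgroup.mem_sup_of_normal_left.mp
        (hKH ▸ Subgroup.mem_top a : a ∈ K ⊔ H)
      refine ⟨⟨h, hh⟩, ?_⟩
      show ((h : A) : A ⧸ K) = ((k * h : A) : A ⧸ K)
      rw [QuotientGroup.mk_mul, (QuotientGroup.eq_one_iff k).mpr hk, one_mul]
  let e := MulEquiv.ofBijective _ hbij
  exact Nat.card_congr
    { toFun := fun f => f.1.comp H.subtype
      invFun := fun φ => ⟨(φ.comp e.symm.toMonoidHom).comp (QuotientGroup.mk' K), fun k => by
        simp [(QuotientGroup.eq_one_iff (k : A)).mpr k.2]⟩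
      left_inv := fun f => Subtype.ext (MonoidHom.ext fun a => by
        show f.1 (e.symm (QuotientGroup.mk' K a) : A) = f.1 a
        have h : ((e.symm (QuotientGroup.mk' K a) : A) : A ⧸ K) = (a : A ⧸ K) :=
          e.apply_symm_apply (QuotientGroup.mk' K a)
        obtain ⟨k, hk, hk'⟩ : ∃ k ∈ K, (e.symm (QuotientGroup.mk' K a) : A) * k = a :=
          ⟨_, QuotientGroup.eq.mp h, mul_inv_cancel_left _ _⟩
        conv_rhs => rw [← hk', map_mul, f.2 ⟨k, hk⟩, mul_one])
      right_inv := fun φ => MonoidHom.ext fun h => by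
        show φ (e.symm (e h)) = φ h
        rw [MulEquiv.symm_apply_apply] }

/-- The count for a complement. -/
theorem card_eq (H : Subgroup A) (hKH : K ⊔ H = ⊤) (hcop : (Nat.card K).Coprime (Nat.card H)) :
    Nat.card {χ : IrrCharacter A // (charDegree (χ : A → ℂ)).Coprime (Nat.card H)} =
      Nat.card {θ : IrrCharacter K // Glauberman.GInv K H (θ : K → ℂ)} * Nat.card (H →* ℂˣ) := by
  have hdis : K ⊓ H = ⊥ := Subgroup.inf_eq_bot_of_coprime hcop
  have hidx : K.index = Nat.card H :=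
    (Subgroup.isComplement'_of_disjoint_and_mul_eq_univ (disjoint_iff.mpr hdis)
      (by rw [← Subgroup.normal_mul K H, hKH, Subgroup.coe_top])).symm.index_eq_card
  have h := card_coprime_degree K (hidx ▸ hcop.symm)
  rw [card_trivial_hom K H hKH hdis, hidx] at h
  rw [h]
  refine congrArg (· * _) (Nat.card_congr (Equiv.subtypeEquivRight fun θ => ⟨fun hθ s hs g g' he => ?_,
    fun hθ a => funext fun k => ?_⟩))
  · rw [← congrFun (hθ s) g]
    exact congrArg _ (Subtype.ext he)
  · obtain ⟨n, hn, s, hs, rfl⟩ := Subgroup.mem_sup_of_normal_left.mp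
      (hKH ▸ Subgroup.mem_top a : a ∈ K ⊔ H)
    have hconj : s * (k : A) * s⁻¹ ∈ K := Subgroup.Normal.conj_mem inferInstance _ k.2 s
    rw [← hθ s hs k ⟨_, hconj⟩ rfl]
    show (θ : K → ℂ) ⟨n * s * k * (n * s)⁻¹, _⟩ = _
    rw [← CfsgLib.Char.isClassFunction_irr θ ⟨_, hconj⟩ ⟨n, hn⟩]
    exact congrArg _ (Subtype.ext (by simp [mul_assoc]))

end

/-- Let the finite group G be the product of a normal subgroup K and a solvable subgroup H of coprime orders, and let N = N_G(H). Then the number of irreducible characters of G of degree coprime to the order of H equals the number of irreducible characters of N of degree coprime to the order of H. (The two sets are in fact in a canonical bijection; only the equality of their sizes is stated here.) -/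
theorem result {G : Type*} [Group G] [Finite G] (K H : Subgroup G) [K.Normal] (hKH : K ⊔ H = ⊤) (hcop : (Nat.card K).Coprime (Nat.card H)) (hsolv : Group.IsSolvable H) : Nat.card {χ : Cfsg.IrrCharacter G // (Cfsg.charDegree (χ : G → ℂ)).Coprime (Nat.card H)} = Nat.card {η : Cfsg.IrrCharacter (Subgroup.normalizer (H : Set G)) // (Cfsg.charDegree (η : Subgroup.normalizer (H : Set G) → ℂ)).Coprime (Nat.card H)} := by
  classical
  have := Fintype.ofFinite G
  rw [card_eq K H hKH hcop]
  set N := Subgroup.normalizer (H : Set G) with hN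
  set C := Cfsg.Agent.S4445.fixed K H with hC
  have hHN : H ≤ N := Subgroup.le_normalizer
  have hdis : K ⊓ H = ⊥ := Subgroup.inf_eq_bot_of_coprime hcop
  have hKN : K.subgroupOf N = C.subgroupOf N := by
    ext x
    refine ⟨fun hx => Cfsg.Agent.S4445.mem_fixed.mpr ⟨hx, fun t ht => ?_⟩, fun hx => (Cfsg.Agent.S4445.mem_fixed.mp hx).1⟩
    have h1 : t * (x : G) * t⁻¹ * (x : G)⁻¹ ∈ K ⊓ H := by
      refine ⟨mul_mem (Subgroup.Normal.conj_mem (inferInstance : K.Normal) _ hx t) (K.inv_mem hx), ?_⟩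
      rw [mul_assoc, mul_assoc, ← mul_assoc (x : G)]
      exact mul_mem ht ((Subgroup.mem_normalizer_iff.mp x.2 t⁻¹).mp (inv_mem ht))
    rw [hdis, Subgroup.mem_bot, mul_inv_eq_one, mul_inv_eq_iff_eq_mul] at h1
    exact h1
  have hsup : K.subgroupOf N ⊔ H.subgroupOf N = ⊤ := by
    rw [eq_top_iff]
    rintro x -
    obtain ⟨k, hk, h, hh, hx⟩ := Subgroup.mem_sup_of_normal_left.mp
      (hKH ▸ Subgroup.mem_top (x : G) : (x : G) ∈ K ⊔ H)
    have hkN : k ∈ N := by
      rw [eq_mul_inv_of_mul_eq hx]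
      exact mul_mem x.2 (inv_mem (hHN hh))
    rw [show x = ⟨k, hkN⟩ * ⟨h, hHN hh⟩ from Subtype.ext hx.symm]
    exact mul_mem (Subgroup.mem_sup_left hk) (Subgroup.mem_sup_right hh)
  have hcop' : (Nat.card (K.subgroupOf N)).Coprime (Nat.card (H.subgroupOf N)) := by
    refine Nat.Coprime.coprime_dvd_left ?_ (Nat.Coprime.coprime_dvd_right ?_ hcop) <;>
      exact Subgroup.card_comap_dvd_of_injective _ _ Subtype.val_injective
  have hHe : Nat.card (H.subgroupOf N) = Nat.card H :=
    Nat.card_congr (Subgroup.subgroupOfEquivOfLe hHN).toEquiv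
  rw [← hHe, card_eq (K.subgroupOf N) (H.subgroupOf N) hsup hcop']
  congr 1
  · obtain ⟨⟨f, hf, -⟩, -⟩ := Cfsg.Agent.S4445.step_all (G := K) (S := H)
      (fun s _ g hg => Subgroup.Normal.conj_mem inferInstance g hg s) hcop hsolv (Nat.card H) H rfl le_rfl
      fun s hs t ht => mul_mem (mul_mem hs ht) (inv_mem hs)
    rw [Nat.card_congr (Equiv.ofBijective f hf)]
    have hall : ∀ θ : IrrCharacter (K.subgroupOf N),
        Glauberman.GInv (K.subgroupOf N) (H.subgroupOf N) (θ : K.subgroupOf N → ℂ) := by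
      intro θ s hs g g' he
      have hg : (g : N) ∈ C.subgroupOf N := hKN ▸ g.2
      have h1 : (s : G) * (g : N) = (g : N) * (s : G) := (Cfsg.Agent.S4445.mem_fixed.mp hg).2 (s : G) hs
      rw [show g' = g from Subtype.ext (Subtype.ext (by
        rw [he, Subgroup.coe_mul, Subgroup.coe_mul, Subgroup.coe_inv, h1, mul_inv_cancel_right]))]
    rw [Nat.card_congr (Equiv.subtypeUnivEquiv hall), hKN]
    refine Nat.card_congr (irrEquiv (Subgroup.subgroupOfEquivOfLe (G := G) (H := C) (K := N) ?_).symm)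
    intro x hx
    rw [hN, Subgroup.mem_normalizer_iff]
    intro h
    constructor
    · intro hh
      rwa [← (Cfsg.Agent.S4445.mem_fixed.mp hx).2 h hh, mul_inv_cancel_right]
    · intro hh
      have h2 := (Cfsg.Agent.S4445.mem_fixed.mp hx).2 _ hh
      rw [show h = x * h * x⁻¹ from mul_left_cancel (a := x) (by rw [← h2]; group)]
      exact hh
  · exact Nat.card_congr
      { toFun := fun f => f.comp (Subgroup.subgroupOfEquivOfLe hHN).toMonoidHom
        invFun := fun f => f.comp (Subgroup.subgroupOfEquivOfLe hHN).symm.toMonoidHom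
        left_inv := fun f => MonoidHom.ext fun x => by simp
        right_inv := fun f => MonoidHom.ext fun x => by simp }

end Cfsg.Agent.S4452
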