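import Cfsg.Statements.S4453
import Cfsg.Agent.Lib.Char.OddSection.Main

set_option autoImplicit false
open Cfsg

namespace Cfsg.Agent.S4453

open scoped ComplexConjugate
open CfsgLib.Char CfsgLib.Char.OddSection

attribute [local instance] instFintypeSub instFintypeSub₂ instFintypeIrr

universe v

/-- The section below `K` made by `H`. -/
theorem ctx_of {Γ : Type v} [Group Γ] [Finite Γ] {G S C K L H : Subgroup Γ}
    (hnorm : ∀ s ∈ S, ∀ g ∈ G, s * g * s⁻¹ ∈ G) (hcop : (Nat.card G).Coprime (Nat.card S))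
    (hGsolv : Group.IsSolvable G) (hodd : Odd (Nat.card G)) (hC : C = G ⊓ Subgroup.centralizer (S : Set Γ))
    (hLK : L ≤ K) (hKG : K ≤ G) (hKn : ∀ g ∈ G, ∀ k ∈ K, g * k * g⁻¹ ∈ K)
    (hLn : ∀ g ∈ G, ∀ l ∈ L, g * l * g⁻¹ ∈ L) (hKS : ∀ s ∈ S, ∀ k ∈ K, s * k * s⁻¹ ∈ K)
    (hLS : ∀ s ∈ S, ∀ l ∈ L, s * l * s⁻¹ ∈ L) (hab : ∀ a ∈ K, ∀ b ∈ K, a * b * a⁻¹ * b⁻¹ ∈ L)
    (hGKC : K ⊔ C = G) (hH : H = L ⊔ C) : Ctx G S C K (K ⊓ H) H := by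
  have hCG : C ≤ G := hC ▸ inf_le_left
  have hLH : L ≤ H := hH ▸ le_sup_left
  have hCH : C ≤ H := hH ▸ le_sup_right
  have hHG : H ≤ G := hH ▸ sup_le (hLK.trans hKG) hCG
  have hdecH : ∀ h ∈ H, ∃ l ∈ L, ∃ x ∈ C, h = l * x := fun h hh =>
    exists_mul_of_sup (fun b hb => hLn b (hCG hb)) (hH ▸ hh)
  have hcomm : ∀ x ∈ C, ∀ s ∈ S, s * x = x * s := fun x hx s hs => by
    rw [hC] at hx
    exact Subgroup.mem_centralizer_iff.mp hx.2 s hs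
  have hSH : ∀ s ∈ S, ∀ h ∈ H, s * h * s⁻¹ ∈ H := fun s hs h hh => by
    obtain ⟨l, hl, x, hx, rfl⟩ := hdecH h hh
    rw [show s * (l * x) * s⁻¹ = (s * l * s⁻¹) * ((s * x) * s⁻¹) by group, hcomm x hx s hs, mul_inv_cancel_right]
    exact mul_mem (hLH (hLS s hs l hl)) (hCH hx)
  refine ⟨hnorm, hcop, hodd, hGsolv, hC, inf_le_left, hKG, hKn, ?_, hKS,
    fun s hs l hl => ⟨hKS s hs l hl.1, hSH s hs l hl.2⟩,
    fun a ha b hb => ⟨hLK (hab a ha b hb), hLH (hab a ha b hb)⟩, hGKC, ?_, ?_⟩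
  · intro g hg l hl
    obtain ⟨k, hk, x, hx, rfl⟩ := exists_mul_of_sup (fun b hb => hKn b (hCG hb)) (hGKC.symm ▸ hg)
    have h1 : x * l * x⁻¹ ∈ K ⊓ H :=
      ⟨hKn x (hCG hx) l hl.1, H.mul_mem (H.mul_mem (hCH hx) hl.2) (H.inv_mem (hCH hx))⟩
    rw [show k * x * l * (k * x)⁻¹ = (k * (x * l * x⁻¹) * k⁻¹ * (x * l * x⁻¹)⁻¹) * (x * l * x⁻¹) by group]
    exact mul_mem ⟨hLK (hab k hk _ h1.1), hLH (hab k hk _ h1.1)⟩ h1
  · refine le_antisymm ?_ (sup_le inf_le_right hCH)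
    conv_lhs => rw [hH]
    exact sup_le_sup (le_inf hLK (by rw [hH]; exact le_sup_left)) le_rfl
  · intro k hk hfix
    have hN : S ≤ Subgroup.normalizer ((K ⊓ H : Subgroup Γ) : Set Γ) :=
      NormBy.le_normalizer (fun s hs l hl => ⟨hKS s hs l hl.1, hSH s hs l hl.2⟩)
    have hkN : k ∈ Subgroup.normalizer ((K ⊓ H : Subgroup Γ) : Set Γ) :=
      NormBy.le_normalizer (B := K) (fun b hb a ha => by
        have h1 : b * a * b⁻¹ * a⁻¹ ∈ K ⊓ H := ⟨hLK (hab b hb a ha.1), hLH (hab b hb a ha.1)⟩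
        have h2 := mul_mem h1 ha
        rwa [inv_mul_cancel_right] at h2) hk
    obtain ⟨n, hn, hkn⟩ := CfsgLib.Coprime.exists_fixed_in_coset hN
      ((hcop.coprime_dvd_left (Subgroup.card_dvd_of_le (inf_le_left.trans hKG))).symm)
      (Or.inr (isSolvable_of_le' (inf_le_left.trans hKG) hGsolv)) hkN hfix
    have hknC : k * n ∈ C := hC ▸ ⟨mul_mem (hKG hk) (hKG hn.1), hkn⟩
    have h3 : k * n ∈ K ⊓ H := ⟨mul_mem hk hn.1, hCH hknC⟩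
    have h4 := mul_mem h3 (inv_mem hn)
    rwa [mul_inv_cancel_right] at h4

/-- Inside a finite group Γ let S normalise the solvable subgroup G of odd order with the orders of G and S coprime, let C = G ⊓ C(S), and let L ≤ K be S-invariant normal subgroups of G with K/L abelian, G = KC and H = LC (so C ≤ H ≤ G). Then for each S-invariant irreducible character χ of G there is exactly one S-invariant irreducible character ψ of H whose multiplicity in the restriction of χ to H is odd, and χ ↦ ψ is a bijection from the S-invariant irreducible characters of G onto those of H (distinct χ give distinct ψ, and every S-invariant ψ arises). -/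
theorem result {Γ : Type*} [Group Γ] [Fintype Γ] (G S : Subgroup Γ) [Fintype G] (hnorm : ∀ s ∈ S, ∀ g ∈ G, s * g * s⁻¹ ∈ G) (hcop : (Nat.card G).Coprime (Nat.card S)) (hGsolv : Group.IsSolvable G) (hodd : Odd (Nat.card G)) (C : Subgroup Γ) [Fintype C] (hC : C = G ⊓ Subgroup.centralizer (S : Set Γ)) (hCG : C ≤ G) (K L H : Subgroup Γ) [Fintype H] (hLK : L ≤ K) (hKG : K ≤ G) (hKn : ∀ g ∈ G, ∀ k ∈ K, g * k * g⁻¹ ∈ K) (hLn : ∀ g ∈ G, ∀ l ∈ L, g * l * g⁻¹ ∈ L) (hKS : ∀ s ∈ S, ∀ k ∈ K, s * k * s⁻¹ ∈ K) (hLS : ∀ s ∈ S, ∀ l ∈ L, s * l * s⁻¹ ∈ L) (hab : ∀ a ∈ K, ∀ b ∈ K, a * b * a⁻¹ * b⁻¹ ∈ L) (hGKC : K ⊔ C = G) (hH : H = L ⊔ C) (hHG : H ≤ G) : (∀ χ : Cfsg.IrrCharacter G, (∀ s ∈ S, ∀ g g' : G, (g' : Γ) = s * g * s⁻¹ → (χ : G → ℂ) g' = (χ : G → ℂ) g) → ∃! ψ : Cfsg.IrrCharacter H, (∀ s ∈ S, ∀ g g' : H, (g' : Γ) = s * g * s⁻¹ → (ψ : H → ℂ)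 g' = (ψ : H → ℂ) g) ∧ ∃ m : ℕ, Cfsg.classInner (fun h : H => (χ : G → ℂ) ⟨h, hHG h.2⟩) (ψ : H → ℂ) = (m : ℂ) ∧ Odd m) ∧ (∀ χ χ' : Cfsg.IrrCharacter G, (∀ s ∈ S, ∀ g g' : G, (g' : Γ) = s * g * s⁻¹ → (χ : G → ℂ) g' = (χ : G → ℂ) g) → (∀ s ∈ S, ∀ g g' : G, (g' : Γ) = s * g * s⁻¹ → (χ' : G → ℂ) g' = (χ' : G → ℂ) g) → ∀ ψ : Cfsg.IrrCharacter H, (∀ s ∈ S, ∀ g g' : H, (g' : Γ) = s * g * s⁻¹ → (ψ : H → ℂ) g' = (ψ : H → ℂ) g) → ∀ m m' : ℕ, Cfsg.classInner (fun h : H => (χ : G → ℂ) ⟨h, hHG h.2⟩) (ψ : H → ℂ) = (m : ℂ) → Odd m → Cfsg.classInner (fun h : H => (χ' : G → ℂ) ⟨h, hHG h.2⟩) (ψ : H → ℂ) = (m' : ℂ) → Odd m' → χ = χ') ∧ (∀ ψ : Cfsg.IrrCharacter H, (∀ s ∈ S, ∀ g g' : H, (g' : Γ) = s * g * s⁻¹ → (ψ : H → ℂ) g' = (ψ : H → ℂ) g) → ∃ χ : Cfsg.IrrCharacter G, (∀ s ∈ S, ∀ g g' : G, (g' : Γ) = s * g * s⁻¹ → (χ : G → ℂ) g' = (χ : G → ℂ) g)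 ∧ ∃ m : ℕ, Cfsg.classInner (fun h : H => (χ : G → ℂ) ⟨h, hHG h.2⟩) (ψ : H → ℂ) = (m : ℂ) ∧ Odd m) := by
  classical
  have c := ctx_of hnorm hcop hGsolv hodd hC hLK hKG hKn hLn hKS hLS hab hGKC hH
  have key : ∀ (χ : Cfsg.IrrCharacter G) (ψ : Cfsg.IrrCharacter H), Cfsg.classInner
      (fun h : H => (χ : G → ℂ) ⟨h, hHG h.2⟩) (ψ : H → ℂ) = (mlt c.hHG χ ψ : ℂ) := fun χ ψ => by
    rw [← classInner_res c.hHG χ ψ]
    simp only [Cfsg.classInner, res]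
    congr 1
    exact Finset.sum_congr (Finset.ext fun x => by simp) fun _ _ => rfl
  have hodd' : ∀ (χ : Cfsg.IrrCharacter G) (ψ : Cfsg.IrrCharacter H) (m : ℕ), Cfsg.classInner
      (fun h : H => (χ : G → ℂ) ⟨h, hHG h.2⟩) (ψ : H → ℂ) = (m : ℂ) → m = mlt c.hHG χ ψ := fun χ ψ m e =>
    Nat.cast_injective (e.symm.trans (key χ ψ))
  refine ⟨fun χ hχ => ?_, fun χ χ' hχ hχ' ψ hψ m m' e o e' o' => ?_, fun ψ hψ => ?_⟩
  · obtain ⟨ψ, h1, h2, h3⟩ := main_existsUnique c χ hχ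
    refine ⟨ψ, ⟨h1, _, key χ ψ, h2⟩, ?_⟩
    rintro ψ' ⟨h4, m, e, o⟩
    exact h3 ψ' h4 (hodd' χ ψ' m e ▸ o)
  · exact main_injective c hχ hχ' hψ (hodd' χ ψ m e ▸ o) (hodd' χ' ψ m' e' ▸ o')
  · obtain ⟨χ, h1, h2⟩ := main_surjective c hψ
    exact ⟨χ, h1, _, key χ ψ, h2⟩

end Cfsg.Agent.S4453
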