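import Cfsg.Statements.S4454
import Cfsg.Agent.Lib.Char.RamifiedFrobenius

set_option autoImplicit false
open Cfsg

namespace Cfsg.Agent.S4454

/-- Let N ≤ G be normal subgroups of the finite group Γ with Γ/G cyclic and Γ/N a Frobenius group with kernel G/N: G ≠ Γ, N ≠ G, and no element of Γ outside G fixes a non-identity coset of N in G under conjugation. Let ϑ be an irreducible character of N invariant under conjugation by Γ and suppose ϑ is fully ramified in G: the character of G induced from ϑ equals e·χ for an irreducible character χ of G and a natural number e. Then the index of G in Γ divides e − 1 or e + 1. -/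
theorem result {Γ : Type*} [Group Γ] [Fintype Γ] (G N : Subgroup Γ) [hG : G.Normal] [hN : N.Normal] [Fintype G] [Fintype N] (hNG : N ≤ G) (hGlt : G ≠ ⊤) (hNlt : N ≠ G) (hcyc : IsCyclic (Γ ⧸ G)) (hfrob : ∀ x : Γ, x ∉ G → ∀ g : Γ, g ∈ G → x * g * x⁻¹ * g⁻¹ ∈ N → g ∈ N) (θ : Cfsg.IrrCharacter N) (hinv : ∀ (x : Γ) (n : N), (θ : N → ℂ) ⟨x * n * x⁻¹, hN.conj_mem n n.2 x⟩ = (θ : N → ℂ) n) (χ : Cfsg.IrrCharacter G) (e : ℕ) (hram : Cfsg.indFun (N.subgroupOf G) (fun n : N.subgroupOf G => (θ : N → ℂ) ⟨(n : G), n.2⟩) = fun g => (e : ℂ) * (χ : G → ℂ) g) : (G.index : ℤ) ∣ (e : ℤ) - 1 ∨ (G.index : ℤ) ∣ (e : ℤ) + 1 := by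
  classical
  haveI : (N.subgroupOf G).Normal := inferInstance
  let eN := Subgroup.subgroupOfEquivOfLe hNG
  let θG : Cfsg.IrrCharacter (N.subgroupOf G) :=
    ⟨fun n => (θ : N → ℂ) (eN n), CfsgLib.Char.isIrrCharacter_comp_surjective θ.2 eN.toMonoidHom eN.surjective⟩
  have hinvG : ∀ g : G, CfsgLib.Char.conjFun (N.subgroupOf G) (θG : N.subgroupOf G → ℂ) g = θG := fun g =>
    funext fun n => hinv (g : Γ) (eN n)
  have hram' : Cfsg.indFun (N.subgroupOf G) (θG : N.subgroupOf G → ℂ) = (e : ℂ) • (χ : G → ℂ) := hram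
  have hθ1 : (θG : N.subgroupOf G → ℂ) 1 ≠ 0 := CfsgLib.Char.irr_one_ne_zero θG
  have hidx1 : ((N.subgroupOf G).index : ℂ) * (θG : N.subgroupOf G → ℂ) 1 = (e : ℂ) * (χ : G → ℂ) 1 := by
    rw [← CfsgLib.Char.indFun_one, hram']
    rfl
  have he0 : (e : ℂ) ≠ 0 := fun h => by
    rw [h, zero_mul] at hidx1
    exact hθ1 ((mul_eq_zero.1 hidx1).resolve_left (by exact_mod_cast Subgroup.index_ne_zero_of_finite))
  have hinner : classInner (fun n : N.subgroupOf G => (χ : G → ℂ) n) (θG : N.subgroupOf G → ℂ) = e := by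
    have h1 : classInner ((e : ℂ) • (χ : G → ℂ)) (χ : G → ℂ) = (e : ℂ) := by
      rw [CfsgLib.Char.classInner_smul_left, CfsgLib.Char.classInner_irr_self, mul_one]
    rw [← hram', CfsgLib.Char.classInner_indFun _ _ _ (CfsgLib.Char.isClassFunction_irr χ),
      ← CfsgLib.Char.classInner_conj (fun n : N.subgroupOf G => (χ : G → ℂ) n)] at h1
    have h2 := congrArg (starRingEnd ℂ) h1
    rwa [Complex.conj_conj, Complex.conj_natCast] at h2
  obtain ⟨m, -, hm1, hm2⟩ := CfsgLib.Char.restrict_eq_smul_of_invariant (N.subgroupOf G) χ.2 θG.2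
    (by rw [hinner]; exact he0) hinvG
  rw [hinner] at hm1
  rw [← hm1] at hm2
  have hχ1 : (χ : G → ℂ) 1 = (e : ℂ) * (θG : N.subgroupOf G → ℂ) 1 := congrFun hm2 1
  have hidx : e ^ 2 = (N.subgroupOf G).index := by
    rw [hχ1, ← mul_assoc] at hidx1
    have h := mul_right_cancel₀ hθ1 hidx1
    rw [sq]
    exact_mod_cast h.symm
  have hFR : CfsgLib.Char.FullyRam.FR (N.subgroupOf G) θG χ := ⟨⟨e, hidx, fun z => congrFun hm2 z⟩⟩
  -- `χ` is invariant and extends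
  have hχinv : ∀ x : Γ, CfsgLib.Char.conjFun G (χ : G → ℂ) x = (χ : G → ℂ) := by
    intro x
    have h1 := hFR.unique ⟨_, CfsgLib.Char.isIrrCharacter_conjFun G χ.2 x⟩ (by
      show classInner (fun n : N.subgroupOf G => CfsgLib.Char.conjFun G (χ : G → ℂ) x n) (θG : N.subgroupOf G → ℂ) ≠ 0
      have h2 : (fun n : N.subgroupOf G => CfsgLib.Char.conjFun G (χ : G → ℂ) x n) =
          (e : ℂ) • (θG : N.subgroupOf G → ℂ) := funext fun n => by
        show (χ : G → ℂ) ⟨x * ((n : G) : Γ) * x⁻¹, _⟩ = _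
        rw [show (⟨x * ((n : G) : Γ) * x⁻¹, hG.conj_mem _ (n : G).2 x⟩ : G) =
          ((⟨⟨x * ((n : G) : Γ) * x⁻¹, hG.conj_mem _ (n : G).2 x⟩,
            Subgroup.mem_subgroupOf.2 (hN.conj_mem _ (Subgroup.mem_subgroupOf.1 n.2) x)⟩ : N.subgroupOf G) : G) from rfl]
        refine (congrFun hm2 _).trans (congrArg (fun c => (e : ℂ) * c) ?_)
        exact hinv x (eN n)
      rw [h2, CfsgLib.Char.classInner_smul_left, CfsgLib.Char.classInner_irr_self, mul_one]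
      exact he0)
    exact congrArg Subtype.val h1
  obtain ⟨d, ρ, hρ, hρχ⟩ := χ.2
  haveI := hρ
  haveI := hcyc
  obtain ⟨σ, hσ⟩ := CfsgLib.Char.extends_of_cyclic G ρ (fun g n => by
    rw [hρχ]; exact congrFun (hχinv g) n) hcyc
  haveI := CfsgLib.Char.isIrreducible_of_restrict σ ρ hσ
  let ψ : Cfsg.IrrCharacter Γ := ⟨σ.character, CfsgLib.Char.isIrrCharacter_character σ⟩
  have hψG : ∀ g : G, (ψ : Γ → ℂ) g = (χ : G → ℂ) g := fun g =>
    (congrArg (LinearMap.trace ℂ (Fin d → ℂ)) (hσ g) : σ.character (g : Γ) = ρ.character g).trans (congrFun hρχ g)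
  -- the complement
  obtain ⟨q, hq⟩ := hcyc.exists_generator
  obtain ⟨x, rfl⟩ := QuotientGroup.mk_surjective q
  have hxG : x ∉ G := fun hx => hGlt (eq_top_iff.2 fun g _ => by
    obtain ⟨i, hi⟩ := hq (g : Γ ⧸ G)
    rw [← QuotientGroup.eq_one_iff, ← hi, (QuotientGroup.eq_one_iff x).2 hx]
    exact one_zpow i)
  set L := N ⊔ Subgroup.zpowers x with hL
  have hxL : x ∈ L := Subgroup.mem_sup_right (Subgroup.mem_zpowers x)
  have hNL : N ≤ L := le_sup_left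
  have hLG : ∀ l ∈ L, l ∈ G → l ∈ N := by
    intro l hl hlG
    obtain ⟨n, hn, z, ⟨i, rfl⟩, rfl⟩ := (Subgroup.mem_sup_of_normal_left).1 hl
    have hz : x ^ i ∈ G := by
      have := G.mul_mem (G.inv_mem (hNG hn)) hlG
      rwa [inv_mul_cancel_left] at this
    exact N.mul_mem hn (hfrob x hxG _ hz (by
      rw [show x * x ^ i * x⁻¹ * (x ^ i)⁻¹ = 1 by group]; exact N.one_mem))
  haveI : (N.subgroupOf L).Normal := inferInstance
  let π : L →* Γ ⧸ G := (QuotientGroup.mk' G).comp L.subtype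
  have hπ : Function.Surjective π := fun y => by
    obtain ⟨i, hi⟩ := hq y
    refine ⟨⟨x ^ i, L.zpow_mem hxL i⟩, ?_⟩
    rw [← hi]
    exact QuotientGroup.mk_zpow G x i
  have hker : π.ker = N.subgroupOf L := by
    ext l
    show ((l : Γ) : Γ ⧸ G) = 1 ↔ _
    rw [QuotientGroup.eq_one_iff, Subgroup.mem_subgroupOf]
    exact ⟨hLG l l.2, fun h => hNG h⟩
  let eQ : L ⧸ N.subgroupOf L ≃* Γ ⧸ G :=
    (QuotientGroup.quotientMulEquivOfEq hker).symm.trans (QuotientGroup.quotientKerEquivOfSurjective π hπ)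
  have hcycL : IsCyclic (L ⧸ N.subgroupOf L) := isCyclic_of_injective eQ.toMonoidHom eQ.injective
  have hidxL : (N.subgroupOf L).index = G.index := by
    rw [Subgroup.index_eq_card, Subgroup.index_eq_card, Nat.card_congr eQ.toEquiv]
  have := Fintype.ofFinite L
  let eL := Subgroup.subgroupOfEquivOfLe hNL
  let θL : Cfsg.IrrCharacter (N.subgroupOf L) :=
    ⟨fun n => (θ : N → ℂ) (eL n), CfsgLib.Char.isIrrCharacter_comp_surjective θ.2 eL.toMonoidHom eL.surjective⟩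
  have hψN : ∀ n : N, (ψ : Γ → ℂ) (n : Γ) = (e : ℂ) * (θ : N → ℂ) n := fun n =>
    (hψG ⟨(n : Γ), hNG n.2⟩).trans (congrFun hm2 ⟨⟨(n : Γ), hNG n.2⟩, Subgroup.mem_subgroupOf.2 n.2⟩)
  obtain ⟨ι, _, a, hι, hsum, hnorm⟩ := CfsgLib.Char.RamifiedFrobenius.exists_multiplicities (N.subgroupOf L) hcycL θL
    (fun g => funext fun n => hinv (g : Γ) (eL n))
    (CfsgLib.Char.isCharacter_comp (CfsgLib.Char.isCharacter_irr ψ) L.subtype) (e := e) (fun n => hψN (eL n))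
  -- the norm on the complement
  let s := G.index
  have hcG : Nat.card G = e ^ 2 * Nat.card N := by
    rw [hidx, ← (N.subgroupOf G).card_mul_index, Nat.card_congr eN.toEquiv, mul_comm]
  have hcL : Nat.card L = s * Nat.card N := by
    rw [← (N.subgroupOf L).card_mul_index, Nat.card_congr eL.toEquiv, hidxL, mul_comm]
  have hcΓ : Nat.card Γ = s * Nat.card G := by rw [← G.card_mul_index, mul_comm]
  let F : (G ⧸ N.subgroupOf G) × {l : L // (l : Γ) ∉ N} → {g : Γ // g ∉ G} := fun p =>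
    ⟨((p.1.out : G) : Γ) * ((p.2 : L) : Γ) * ((p.1.out : G) : Γ)⁻¹, fun hmem => p.2.2 (hLG _ p.2.1.2 (by
      have h1 := hG.conj_mem _ hmem ((p.1.out : G) : Γ)⁻¹
      rwa [inv_inv, show ((p.1.out : G) : Γ)⁻¹ * (((p.1.out : G) : Γ) * ((p.2 : L) : Γ) * ((p.1.out : G) : Γ)⁻¹) *
        ((p.1.out : G) : Γ) = ((p.2 : L) : Γ) by group] at h1))⟩
  have hFinj : Function.Injective F := by
    rintro ⟨q, l, hl⟩ ⟨q', l', hl'⟩ hF
    have h1 : ((q.out : G) : Γ) * (l : Γ) * ((q.out : G) : Γ)⁻¹ =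
        ((q'.out : G) : Γ) * (l' : Γ) * ((q'.out : G) : Γ)⁻¹ := congrArg Subtype.val hF
    set u := ((q'.out : G) : Γ)⁻¹ * ((q.out : G) : Γ) with hu
    have huG : u ∈ G := G.mul_mem (G.inv_mem (q'.out : G).2) (q.out : G).2
    have h2 : u * (l : Γ) * u⁻¹ = (l' : Γ) := by
      rw [hu, show ((q'.out : G) : Γ)⁻¹ * ((q.out : G) : Γ) * (l : Γ) * (((q'.out : G) : Γ)⁻¹ * ((q.out : G) : Γ))⁻¹ =
        ((q'.out : G) : Γ)⁻¹ * (((q.out : G) : Γ) * (l : Γ) * ((q.out : G) : Γ)⁻¹) * ((q'.out : G) : Γ) by group, h1]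
      group
    have hlG : (l : Γ) ∉ G := fun h => hl (hLG _ l.2 h)
    have huN : u ∈ N := hfrob _ hlG u huG (by
      have h3 : (l : Γ) * u * (l : Γ)⁻¹ * u⁻¹ = (l : Γ) * ((l' : Γ))⁻¹ := by rw [← h2]; group
      rw [h3]
      refine hLG _ (L.mul_mem l.2 (L.inv_mem l'.2)) ?_
      have h4 : (l : Γ) * ((l' : Γ))⁻¹ = (l : Γ) * u * (l : Γ)⁻¹ * u⁻¹ := h3.symm
      rw [h4]
      exact G.mul_mem (hG.conj_mem u huG l) (G.inv_mem huG))
    have hqq : q = q' := by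
      rw [← QuotientGroup.out_eq' q, ← QuotientGroup.out_eq' q', eq_comm, QuotientGroup.eq]
      exact Subgroup.mem_subgroupOf.2 huN
    subst hqq
    have hll : l = l' := Subtype.ext (mul_left_cancel (mul_right_cancel h1))
    subst hll
    rfl
  have hF : Function.Bijective F := by
    refine (Fintype.bijective_iff_injective_and_card F).2 ⟨hFinj, ?_⟩
    rw [Fintype.card_prod, Fintype.card_subtype_compl, Fintype.card_subtype_compl, ← Nat.card_eq_fintype_card,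
      ← Nat.card_eq_fintype_card, ← Nat.card_eq_fintype_card, ← Nat.card_eq_fintype_card, ← Nat.card_eq_fintype_card]
    show Nat.card (G ⧸ N.subgroupOf G) * (Nat.card L - Nat.card (N.subgroupOf L)) = Nat.card Γ - Nat.card G
    rw [← Subgroup.index_eq_card, ← hidx, Nat.card_congr eL.toEquiv, hcL, hcΓ, hcG, Nat.mul_sub,
      mul_left_comm]
  have hall : ∑ g : Γ, ‖(ψ : Γ → ℂ) g‖ ^ 2 = (Nat.card Γ : ℝ) := by
    have h1 := CfsgLib.Char.classInner_irr_self ψ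
    rw [CfsgLib.Char.classInner_self, Complex.ofReal_eq_one, inv_mul_eq_one₀ (by exact_mod_cast Nat.card_pos.ne')] at h1
    exact h1.symm
  have hin : ∑ g : {g : Γ // g ∈ G}, ‖(ψ : Γ → ℂ) g‖ ^ 2 = (Nat.card G : ℝ) := by
    have h1 := CfsgLib.Char.classInner_irr_self χ
    rw [CfsgLib.Char.classInner_self, Complex.ofReal_eq_one, inv_mul_eq_one₀ (by exact_mod_cast Nat.card_pos.ne')] at h1
    rw [h1]
    exact Fintype.sum_bijective id Function.bijective_id _ _ fun g => by rw [id, ← hψG g]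
  have hout : ∑ g : {g : Γ // g ∉ G}, ‖(ψ : Γ → ℂ) g‖ ^ 2 = (Nat.card Γ : ℝ) - Nat.card G := by
    have h1 := Fintype.sum_subtype_add_sum_subtype (fun g : Γ => g ∈ G) (fun g => ‖(ψ : Γ → ℂ) g‖ ^ 2)
    rw [hall] at h1
    rw [← h1, ← hin]
    refine eq_sub_of_add_eq' ?_
    congr! 3
  rw [← Fintype.sum_bijective F hF (fun p => ‖(ψ : Γ → ℂ) ((p.2 : L) : Γ)‖ ^ 2)
    (fun g : {g : Γ // g ∉ G} => ‖(ψ : Γ → ℂ) g‖ ^ 2) (fun p => by
      show _ = ‖(ψ : Γ → ℂ) (_ * _ * _⁻¹)‖ ^ 2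
      rw [CfsgLib.Char.isClassFunction_irr ψ]), Fintype.sum_prod_type] at hout
  simp only at hout
  rw [Finset.sum_const, nsmul_eq_mul,
    Finset.card_univ, ← Nat.card_eq_fintype_card, ← Subgroup.index_eq_card, ← hidx] at hout
  have hLnorm := congrArg Complex.re (hnorm)
  rw [CfsgLib.Char.classInner_self, Complex.ofReal_re, Complex.natCast_re] at hLnorm
  have hsplit := Fintype.sum_subtype_add_sum_subtype (fun l : L => (l : Γ) ∈ N)
    (fun l : L => ‖(ψ : Γ → ℂ) (l : Γ)‖ ^ 2)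
  have hNsum : ∑ l : {l : L // (l : Γ) ∈ N}, ‖(ψ : Γ → ℂ) ((l : L) : Γ)‖ ^ 2 = (e : ℝ) ^ 2 * Nat.card N := by
    have h1 := CfsgLib.Char.classInner_irr_self θ
    rw [CfsgLib.Char.classInner_self, Complex.ofReal_eq_one, inv_mul_eq_one₀ (by exact_mod_cast Nat.card_pos.ne')] at h1
    rw [h1, Finset.mul_sum]
    refine Fintype.sum_bijective (fun l : {l : L // (l : Γ) ∈ N} => (⟨((l : L) : Γ), l.2⟩ : N)) ⟨?_, ?_⟩ _ _ fun l => ?_
    · intro l l' h
      exact Subtype.ext (Subtype.ext (congrArg (fun n : N => (n : Γ)) h))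
    · exact fun n => ⟨⟨⟨(n : Γ), hNL n.2⟩, n.2⟩, rfl⟩
    · rw [show (ψ : Γ → ℂ) ((l : L) : Γ) = _ from hψN ⟨((l : L) : Γ), l.2⟩, norm_mul, Complex.norm_natCast, mul_pow]
  rw [hNsum] at hsplit
  have hLall : ∑ l : L, ‖(ψ : Γ → ℂ) (l : Γ)‖ ^ 2 = (Nat.card L : ℝ) * ((∑ i, a i ^ 2 : ℕ) : ℝ) := by
    rw [← hLnorm, ← mul_assoc, mul_inv_cancel₀ (by exact_mod_cast Nat.card_pos.ne'), one_mul]
    rfl
  rw [hLall] at hsplit
  have he2 : (0 : ℝ) < (e : ℝ) ^ 2 := by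
    have : (e : ℝ) ≠ 0 := by exact_mod_cast he0
    positivity
  have hS : (s : ℝ) * ((∑ i, a i ^ 2 : ℕ) : ℝ) = (e : ℝ) ^ 2 + s - 1 := by
    have hNpos : (0 : ℝ) < Nat.card N := by exact_mod_cast Nat.card_pos
    rw [hcL, Nat.cast_mul] at hsplit
    rw [hcΓ, hcG] at hout
    push_cast at hout hsplit ⊢
    refine mul_left_cancel₀ (mul_pos he2 hNpos).ne' ?_
    linear_combination (-((e : ℝ) ^ 2)) * hsplit + hout
  have hS' : (s : ℤ) * ((∑ i, a i ^ 2 : ℕ) : ℤ) = (e : ℤ) ^ 2 + s - 1 := by exact_mod_cast hS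
  have hs : 1 < Fintype.card ι := by
    rw [hι, hidxL]
    exact Subgroup.one_lt_index_of_ne_top hGlt
  have hfin := CfsgLib.Char.RamifiedFrobenius.near_square a hs (by
    rw [hsum, hι, hidxL]; push_cast at hS' ⊢; exact hS')
  rw [hsum, hι, hidxL] at hfin
  exact hfin

end Cfsg.Agent.S4454
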