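import Cfsg.Statements.S4455
import Cfsg.Agent.Lib.Char.ExtendCriteria
import Cfsg.Agent.Lib.Char.DegreeRatio
import Cfsg.Agent.Lib.Fusion.Residual
import Cfsg.Agent.Lib.Block.CoveringDefect

set_option autoImplicit false
open Cfsg

namespace Cfsg.Agent.S4455

namespace Aux

open CfsgLib.Char

universe u

variable {p : ℕ} [Fact p.Prime] {G : Type u} [Group G] [Fintype G] (N : Subgroup G) [hN : N.Normal]
  [Fintype N]

/-- A character of degree prime to `p` restricts irreducibly to a subgroup of `p`-power index. -/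
theorem restrict_irr {a : ℕ} (hidx : N.index = p ^ a) (χ : IrrCharacter G)
    (hp : ¬ p ∣ charDegree (χ : G → ℂ)) :
    ∃ θ : IrrCharacter N, (∀ n : N, (χ : G → ℂ) n = (θ : N → ℂ) n) ∧
      ∀ g : G, conjFun N (θ : N → ℂ) g = (θ : N → ℂ) := by
  classical
  obtain ⟨θ, hθ⟩ := CfsgLib.Block.exists_constituent (N := N) χ
  have hpp : p.Prime := Fact.out
  obtain ⟨m, hm⟩ := classInner_char_irr_nat
    (isCharacter_comp (isCharacter_of_isIrr χ.2) N.subtype) θ
  have hm' : classInner (fun n : N => (χ : G → ℂ) n) (θ : N → ℂ) = m := hm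
  obtain ⟨c, hc0, hc⟩ := isIrrCharacter_degree χ.2
  obtain ⟨d, hd0, hd⟩ := isIrrCharacter_degree θ.2
  have hcdeg : charDegree (χ : G → ℂ) = c := by simp [charDegree, hc]
  rw [hcdeg] at hp
  have h1 := congrFun (clifford_smul N χ.2 θ.2 hθ) 1
  simp only [Pi.smul_apply, smul_eq_mul, OneMemClass.coe_one] at h1
  rw [indFun_one, hc, hd, hm'] at h1
  set T := inertia N (θ : N → ℂ) with hT
  have hcard : (Nat.card N : ℂ) * (N.index : ℂ) = (Nat.card T : ℂ) * (T.index : ℂ) := by
    rw [← Nat.cast_mul, ← Nat.cast_mul, Subgroup.card_mul_index, Subgroup.card_mul_index]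
  have h2 : c = m * T.index * d := by
    have : (c : ℂ) = ((m * T.index * d : ℕ) : ℂ) := by
      push_cast
      refine mul_left_cancel₀ (Nat.cast_ne_zero.mpr (Nat.card_pos (α := T)).ne' :
        (Nat.card T : ℂ) ≠ 0) (h1.trans ?_)
      linear_combination ((m : ℂ) * (d : ℂ)) * hcard
    exact_mod_cast this
  have hTtop : T = ⊤ := by
    rw [← Subgroup.index_eq_one]
    obtain ⟨j, -, hj⟩ := (Nat.dvd_prime_pow hpp).mp
      (hidx ▸ Subgroup.index_dvd_of_le (le_inertia N (isClassFunction_irr θ)))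
    rcases Nat.eq_zero_or_pos j with h | h
    · exact hj.trans (h ▸ pow_zero p)
    · exact absurd (((hj ▸ dvd_pow_self p h.ne' : p ∣ T.index).trans (Dvd.intro_left m rfl)).trans
        (h2 ▸ Dvd.intro d rfl)) hp
  have hinv : ∀ g : G, conjFun N (θ : N → ℂ) g = (θ : N → ℂ) := fun g =>
    (mem_inertia N _ g).mp (hTtop ▸ Subgroup.mem_top g : g ∈ T)
  obtain ⟨e, he, hedvd⟩ := ratio_dvd_index_invariant N χ θ.2 hinv hθ hc hd
  have he1 : e = 1 := by
    obtain ⟨j, -, hj⟩ := (Nat.dvd_prime_pow hpp).mp (hidx ▸ hedvd)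
    rcases Nat.eq_zero_or_pos j with h | h
    · exact hj.trans (h ▸ pow_zero p)
    · exact absurd ((hj ▸ dvd_pow_self p h.ne' : p ∣ e).trans (he ▸ Dvd.intro_left d rfl)) hp
  refine ⟨θ, fun n => ?_, hinv⟩
  have hset : {ψ : N → ℂ | ∃ g : G, ψ = conjFun N (θ : N → ℂ) g} = {(θ : N → ℂ)} := by
    ext ψ
    simp only [hinv, exists_const, Set.mem_setOf_eq, Set.mem_singleton_iff]
  have h3 := clifford N χ.2 θ.2 hθ
  rw [hset, finsum_mem_singleton, hm'] at h3
  have h4 := congrFun h3 1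
  simp only [Pi.smul_apply, smul_eq_mul, OneMemClass.coe_one, hc, hd, he, he1, mul_one] at h4
  have hm1 : (m : ℂ) = 1 :=
    mul_right_cancel₀ (Nat.cast_ne_zero.mpr hd0.ne') (h4.symm.trans (one_mul _).symm)
  simpa [hm1] using congrFun h3 n

variable {N}

/-- Degree and determinantal order prime to `p`. -/
def Good (p : ℕ) {A : Type u} [Group A] (χ : IrrCharacter A) : Prop :=
  ¬ p ∣ charDegree (χ : A → ℂ) ∧ ¬ p ∣ detOrder (χ : A → ℂ)

theorem eq_of_restrict_eq {a : ℕ} (hidx : N.index = p ^ a) {χ χ' : IrrCharacter G} (h : Good p χ)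
    (h' : Good p χ') (θ : IrrCharacter N) (hr : ∀ n : N, (χ : G → ℂ) n = (θ : N → ℂ) n)
    (hr' : ∀ n : N, (χ' : G → ℂ) n = (θ : N → ℂ) n) : χ = χ' := by
  have hpp : p.Prime := Fact.out
  obtain ⟨d, ρ, hρ, hρθ⟩ := θ.2
  obtain ⟨σ, hσ, hσc⟩ := exists_rep_extension_top N ρ (isCharacter_of_isIrr χ.2)
    fun n => by rw [hr n, ← hρθ]
  obtain ⟨σ', hσ', hσc'⟩ := exists_rep_extension_top N ρ (isCharacter_of_isIrr χ'.2)
    fun n => by rw [hr' n, ← hρθ]
  have hd : d = charDegree (χ : G → ℂ) := by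
    rw [← hσc]; simp [charDegree, Representation.char_one, Module.finrank_fin_fun]
  have hord : ∀ {η : IrrCharacter G} {τ : Representation ℂ G (Fin d → ℂ)}, Good p η →
      τ.character = (η : G → ℂ) → Nat.Coprime N.index (orderOf (detHom τ)) := by
    intro η τ hη hτ
    rw [hidx]
    refine Nat.Coprime.pow_left _ (hpp.coprime_iff_not_dvd.mpr fun hd' => hη.2 ?_)
    rwa [← hτ, detOrder, detChar_eq, orderOf_fun_hom]
  have hdet : detHom σ = detHom σ' := (linear_extension_unique N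
    ((detHom_comp N ρ hσ).trans (detHom_comp N ρ hσ').symm) (hord h hσc) (hord h' hσc')).symm
  have hcop : Nat.Coprime N.index d := by
    rw [hidx]
    exact Nat.Coprime.pow_left _ (hpp.coprime_iff_not_dvd.mpr (hd ▸ h.1))
  exact Subtype.ext (hσc.symm.trans ((extension_det_unique N ρ hcop hσ hσ' hdet) ▸ hσc'))

theorem exists_good (hNres : N = Cfsg.pResidual p G) {a : ℕ} (hidx : N.index = p ^ a)
    (θ : IrrCharacter N) (hθ : ¬ p ∣ charDegree (θ : N → ℂ))
    (hinv : ∀ g : G, conjFun N (θ : N → ℂ) g = (θ : N → ℂ)) :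
    ∃ χ : IrrCharacter G, Good p χ ∧ ∀ n : N, (χ : G → ℂ) n = (θ : N → ℂ) n := by
  have hpp : p.Prime := Fact.out
  obtain ⟨d, ρ, hρ, hρθ⟩ := θ.2
  have hd : ¬ p ∣ d := by
    convert hθ using 2
    rw [← hρθ]; simp [charDegree, Representation.char_one, Module.finrank_fin_fun]
  -- linear characters of `N` have order prime to `p`
  have hord : ¬ p ∣ orderOf (detHom ρ) := by
    set o := orderOf (detHom ρ) with ho
    intro hdvd
    set f : N →* ℂˣ := detHom ρ ^ (o / p) with hf
    have hker : Cfsg.pResidual p N ≤ f.ker := by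
      refine (Subgroup.closure_le _).2 fun g hg => ?_
      have h1 : f g ^ p = 1 := by
        rw [hf, MonoidHom.pow_apply, ← pow_mul, Nat.div_mul_cancel hdvd, ← MonoidHom.pow_apply,
          ho, pow_orderOf_eq_one, MonoidHom.one_apply]
      have h2 : f g ^ orderOf g = 1 := by rw [← map_pow, pow_orderOf_eq_one, map_one]
      exact eq_one_of_pow_coprime h1 h2 (Nat.Coprime.symm hg)
    have htop : Cfsg.pResidual p N = ⊤ := by
      subst hNres; exact CfsgLib.Fusion.pResidual_pResidual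
    have hf1 : detHom ρ ^ (o / p) = 1 :=
      MonoidHom.ext fun g => hker (htop ▸ Subgroup.mem_top g)
    have hopos : 0 < o := by
      refine Nat.pos_of_ne_zero fun h0 => ?_
      have hfin : o ∣ Nat.card N := by
        rw [ho]
        refine orderOf_dvd_of_pow_eq_one (MonoidHom.ext fun g => ?_)
        show detHom ρ g ^ Nat.card N = 1
        rw [← map_pow, pow_card_eq_one', map_one]
      rw [h0] at hfin
      exact Nat.card_pos.ne' (zero_dvd_iff.mp hfin)
    have h1 : o ∣ o / p := by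
      rw [ho]; exact orderOf_dvd_of_pow_eq_one hf1
    exact (Nat.div_pos (Nat.le_of_dvd hopos hdvd) hpp.pos).ne'
      (Nat.eq_zero_of_dvd_of_lt h1 (Nat.div_lt_self hopos hpp.one_lt))
  obtain ⟨σ, hσ⟩ := extends_of_sylow N ρ
    ((isInvariant_iff N ρ hρθ).mpr fun g n => congrFun (hinv g) n) fun q hq hqi hqd => by
      exfalso
      have hqp : q = p := (Nat.prime_dvd_prime_iff_eq hq hpp).mp (hq.dvd_of_dvd_pow (hidx ▸ hqi))
      subst hqp
      exact (hq.dvd_mul.mp hqd).elim hd hord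
  have hcd : Nat.Coprime N.index d := by
    rw [hidx]; exact Nat.Coprime.pow_left _ (hpp.coprime_iff_not_dvd.mpr hd)
  have hco : Nat.Coprime N.index (orderOf ((detHom σ).comp N.subtype)) := by
    rw [detHom_comp N ρ hσ, hidx]
    exact Nat.Coprime.pow_left _ (hpp.coprime_iff_not_dvd.mpr hord)
  obtain ⟨μ, hμ, hμo⟩ := exists_linear_extension_same_order N (detHom σ) hco
  obtain ⟨σ', hσ', hdet⟩ := exists_extension_with_det N ρ hcd hσ μ (hμ.trans (detHom_comp N ρ hσ))
  refine ⟨⟨σ'.character, isIrrCharacter_of_extends N ρ hσ'⟩, ⟨?_, ?_⟩, fun n => ?_⟩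
  · simpa [charDegree, Representation.char_one, Module.finrank_fin_fun] using hd
  · show ¬ p ∣ detOrder σ'.character
    rw [detOrder, detChar_eq, orderOf_fun_hom, hdet, hμo, detHom_comp N ρ hσ]
    exact hord
  · show σ'.character n = _
    rw [← hρθ]; simp [Representation.character, hσ']

theorem sum_good (hNres : N = Cfsg.pResidual p G) [Fintype (IrrCharacter G)]
    [DecidablePred fun χ : IrrCharacter G => Good p χ] :
    ((∑ χ ∈ Finset.univ.filter (fun χ : IrrCharacter G => Good p χ),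
      charDegree (χ : G → ℂ) ^ 2 : ℕ) : ZMod p) = (Nat.card N : ZMod p) := by
  classical
  have hpp : p.Prime := Fact.out
  have := Fintype.ofFinite (IrrCharacter N)
  obtain ⟨a, hidx⟩ : ∃ a, N.index = p ^ a := by
    subst hNres; exact CfsgLib.Fusion.exists_index_pResidual
  obtain ⟨P⟩ : Nonempty (Sylow p G) := inferInstance
  letI : MulAction (P : Subgroup G) (IrrCharacter N) :=
    { smul := fun u θ => CfsgLib.Block.cjN (u : G) θ
      one_smul := fun θ => CfsgLib.Block.cjN_one θ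
      mul_smul := fun u v θ => (CfsgLib.Block.cjN_cjN (u : G) v θ).symm }
  have hdeg : ∀ (g : G) (θ : IrrCharacter N),
      charDegree (CfsgLib.Block.cjN g θ : N → ℂ) = charDegree (θ : N → ℂ) := fun g θ => by
    simp only [charDegree, CfsgLib.Block.cjN_apply]
    congr 3
    exact congrArg _ (Subtype.ext (by simp))
  have hall : (Nat.card N : ZMod p) =
      ∑ θ : IrrCharacter N, ((charDegree (θ : N → ℂ) ^ 2 : ℕ) : ZMod p) := by
    rw [← Nat.cast_sum]
    congr 1
    have h : ((∑ θ : IrrCharacter N, charDegree (θ : N → ℂ) ^ 2 : ℕ) : ℂ) = (Nat.card N : ℂ) := by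
      rw [← sum_degree_sq (G := N), Nat.cast_sum]
      refine Finset.sum_congr rfl fun θ _ => ?_
      obtain ⟨d, -, hd⟩ := isIrrCharacter_degree θ.2
      simp [charDegree, hd]
    exact_mod_cast h.symm
  rw [hall, CfsgLib.Block.sum_eq_sum_fixedPoints (p := p) P.2 _ fun u θ => by
    show ((charDegree (CfsgLib.Block.cjN (u : G) θ : N → ℂ) ^ 2 : ℕ) : ZMod p) = _
    rw [hdeg]]
  have hfix : ∀ θ : IrrCharacter N, (∀ u : (P : Subgroup G), CfsgLib.Block.cjN (u : G) θ = θ) →
      ∀ g : G, conjFun N (θ : N → ℂ) g = (θ : N → ℂ) := by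
    intro θ hθ g
    have htop : (⊤ : Subgroup G) ≤ inertia N (θ : N → ℂ) := by
      rw [← CfsgLib.Fusion.pResidual_sup_sylow P, ← hNres]
      refine sup_le (le_inertia N (isClassFunction_irr θ)) fun u hu => ?_
      rw [mem_inertia, CfsgLib.Block.conjFun_eq_cjN, hθ ⟨u⁻¹, inv_mem hu⟩]
    exact (mem_inertia N _ g).mp (htop (Subgroup.mem_top g))
  choose res hres hresinv using fun χ : {χ : IrrCharacter G // Good p χ} =>
    restrict_irr N hidx χ.1 χ.2.1
  rw [← Finset.sum_filter_add_sum_filter_not (Finset.univ.filter _)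
    (fun θ : IrrCharacter N => ¬ p ∣ charDegree (θ : N → ℂ)), Nat.cast_sum]
  refine Eq.trans ?_ ((add_zero _).symm.trans (congrArg _ (Finset.sum_eq_zero fun θ hθ => ?_).symm))
  swap
  · rw [Nat.cast_pow, (ZMod.natCast_eq_zero_iff _ _).mpr (not_not.mp (Finset.mem_filter.mp hθ).2),
      zero_pow two_ne_zero]
  refine Finset.sum_bij (fun χ hχ => res ⟨χ, (Finset.mem_filter.mp hχ).2⟩) ?_ ?_ ?_ ?_
  · intro χ hχ
    set χ' : {χ : IrrCharacter G // Good p χ} := ⟨χ, (Finset.mem_filter.mp hχ).2⟩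
    refine Finset.mem_filter.mpr ⟨Finset.mem_filter.mpr ⟨Finset.mem_univ _, fun u => ?_⟩, ?_⟩
    · refine Subtype.ext ?_
      show (CfsgLib.Block.cjN (u : G) (res χ') : N → ℂ) = _
      have := hresinv χ' (u : G)⁻¹
      rwa [CfsgLib.Block.conjFun_eq_cjN, inv_inv] at this
    · have h1 : charDegree (res χ' : N → ℂ) = charDegree (χ : G → ℂ) := by
        simp only [charDegree]
        rw [← hres χ' 1]; rfl
      rw [h1]; exact χ'.2.1
  · intro χ hχ η hη h
    exact eq_of_restrict_eq hidx (Finset.mem_filter.mp hχ).2 (Finset.mem_filter.mp hη).2 _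
      (hres ⟨χ, _⟩) fun n => by rw [h]; exact hres ⟨η, _⟩ n
  · intro θ hθ
    obtain ⟨h1, h2⟩ := Finset.mem_filter.mp hθ
    obtain ⟨χ, hgood, hr⟩ := exists_good hNres hidx θ h2 (hfix θ fun u => (Finset.mem_filter.mp h1).2 u)
    exact ⟨χ, Finset.mem_filter.mpr ⟨Finset.mem_univ _, hgood⟩, Subtype.ext (funext fun n => by
      rw [← hres ⟨χ, hgood⟩ n, hr n])⟩
  · intro χ hχ
    simp only [charDegree]
    rw [← hres ⟨χ, (Finset.mem_filter.mp hχ).2⟩ 1]; rfl

end Aux

/-- Fix a prime p and a finite group G. Let s be the sum of χ(1)² over the irreducible characters χ of G whose degree is not divisible by p and whose determinantal order o(χ) is not divisible by p. Then the order of O^p(G), the subgroup generated by the elements of order prime to p, is congruent to s modulo p. -/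
theorem result {G : Type*} [Group G] [Finite G] (p : ℕ) (hp : p.Prime) : (Nat.card (Cfsg.pResidual p G) : ℤ) ≡ (∑ᶠ χ ∈ {χ : Cfsg.IrrCharacter G | ¬ p ∣ Cfsg.charDegree (χ : G → ℂ) ∧ ¬ p ∣ Cfsg.detOrder (χ : G → ℂ)}, (Cfsg.charDegree (χ : G → ℂ) : ℤ) ^ 2) [ZMOD p] := by
  classical
  haveI : Fact p.Prime := ⟨hp⟩
  haveI := CfsgLib.Fusion.pResidual_normal (G := G) (p := p)
  letI := Fintype.ofFinite G
  letI := Fintype.ofFinite (Cfsg.pResidual p G)
  letI := Fintype.ofFinite (Cfsg.IrrCharacter G)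
  rw [← ZMod.intCast_eq_intCast_iff]
  have h := Aux.sum_good (p := p) (N := Cfsg.pResidual p G) rfl
  rw [finsum_mem_eq_toFinset_sum, Set.toFinset_setOf, Int.cast_natCast, ← h, Nat.cast_sum, Int.cast_sum]
  exact Finset.sum_congr (Finset.ext fun χ => by simp only [Finset.mem_filter, Finset.mem_univ, true_and]; exact Iff.rfl) fun χ _ => by push_cast; rfl

end Cfsg.Agent.S4455
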