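import Cfsg.Statements.S4460
import Cfsg.Statements.S4460
import Cfsg.Agent.Lib.Char.ThreeDegreesLength

set_option autoImplicit false
open Cfsg

namespace Cfsg.Agent.S4460

/-- A finite group with exactly three distinct irreducible character degrees is solvable of derived length at most 3: its third derived subgroup is trivial. -/
theorem result {G : Type*} [Group G] [Finite G] (hcd : Nat.card {n : ℕ // ∃ χ : Cfsg.IrrCharacter G, Cfsg.charDegree (χ : G → ℂ) = n} = 3) : derivedSeries G 3 = ⊥ := by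
  classical
  set S : Set ℕ := {n | ∃ χ : Cfsg.IrrCharacter G, Cfsg.charDegree (χ : G → ℂ) = n} with hS
  have hone : (1 : ℕ) ∈ S := ⟨⟨fun _ => 1, CfsgLib.Char.isIrrCharacter_one⟩, by simp [Cfsg.charDegree]⟩
  have h3 : S.ncard = 3 := hcd
  obtain ⟨a, b, c, hab, hac, hbc, hSeq⟩ := Set.ncard_eq_three.1 h3
  obtain ⟨m, n, hmn, hm1, hn1, hSmn⟩ : ∃ m n : ℕ, m ≠ n ∧ m ≠ 1 ∧ n ≠ 1 ∧ S = {1, m, n} := by
    rw [hSeq] at hone
    rcases hone with e | e | e
    · exact ⟨b, c, hbc, by omega, by omega, by rw [hSeq, e]⟩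
    · refine ⟨a, c, hac, by omega, by omega, ?_⟩
      rw [hSeq, e]
      exact Set.insert_comm _ _ _
    · refine ⟨a, b, hab, ?_, ?_, ?_⟩
      · rw [Set.mem_singleton_iff] at e; omega
      · rw [Set.mem_singleton_iff] at e; omega
      · rw [Set.mem_singleton_iff] at e
        rw [hSeq, ← e, Set.pair_comm b 1, Set.insert_comm]
  have hpos : ∀ d ∈ S, 0 < d := by
    rintro d ⟨χ, rfl⟩
    exact CfsgLib.Char.ThreeDegrees.deg_pos χ
  have hmS : m ∈ S := by rw [hSmn]; simp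
  have hnS : n ∈ S := by rw [hSmn]; simp
  obtain ⟨χ, hχ⟩ := id hmS
  obtain ⟨ψ, hψ⟩ := id hnS
  refine CfsgLib.Char.ThreeDegrees.derivedSeries_three (m := m) (n := n) (fun ξ => ?_)
    (by have := hpos m hmS; omega) (by have := hpos n hnS; omega) ⟨χ, ψ, hχ, hψ⟩
  have hξ : Cfsg.charDegree (ξ : G → ℂ) ∈ S := ⟨ξ, rfl⟩
  rw [hSmn] at hξ
  simpa using hξ

end Cfsg.Agent.S4460
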