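import Cfsg.Statements.S4461
import Cfsg.Agent.Lib.Char.CoreInduced
import Cfsg.Agent.Lib.Char.InducedSet
import Cfsg.Agent.Lib.Char.Virtual
import Cfsg.Agent.Lib.Block.PPrimeKernel
import Cfsg.Agent.Lib.Coprime.Fitting

set_option autoImplicit false
open Cfsg

namespace Cfsg.Agent.S4461

section
open CfsgLib.Char Subgroup

universe u

variable {G : Type u} [Group G] [Finite G]

private theorem eq_degree_subgroup (χ : IrrCharacter G) :
    ∃ L : Subgroup G, L.Normal ∧ ∀ g : G, g ∈ L ↔ (χ : G → ℂ) g = (χ : G → ℂ) 1 := by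
  have h : ∀ a b : G, (χ : G → ℂ) a = (χ : G → ℂ) 1 → (χ : G → ℂ) (a * b) = (χ : G → ℂ) b :=
    fun a b ha => CfsgLib.Block.PPrimeKernel.mul_left_of_eq_degree (isCharacter_irr χ) ha b
  let L : Subgroup G :=
    { carrier := {g | (χ : G → ℂ) g = (χ : G → ℂ) 1}
      one_mem' := rfl
      mul_mem' := fun {a b} ha hb => (h a b ha).trans hb
      inv_mem' := fun {a} ha => by
        show (χ : G → ℂ) a⁻¹ = (χ : G → ℂ) 1
        rw [← h a a⁻¹ ha, mul_inv_cancel] }
  refine ⟨L, ⟨fun x hx g => ?_⟩, fun g => Iff.rfl⟩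
  show (χ : G → ℂ) (g * x * g⁻¹) = (χ : G → ℂ) 1
  rw [isClassFunction_irr χ x g]
  exact hx

private theorem exists_decomp {K H : Subgroup G} [K.Normal] (hKH : K ⊔ H = ⊤) (g : G) :
    ∃ k ∈ K, ∃ h ∈ H, k * h = g := by
  have hg : g ∈ ((K ⊔ H : Subgroup G) : Set G) := by rw [hKH]; trivial
  rw [Subgroup.normal_mul] at hg
  exact hg

/-- A character trivial on `K` stays irreducible on a supplement of `K`. -/
private theorem restrict_norm [Fintype G] (χ : IrrCharacter G) (K H : Subgroup G) [K.Normal] [Fintype H]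
    (hKH : K ⊔ H = ⊤) (hK : ∀ k ∈ K, (χ : G → ℂ) k = (χ : G → ℂ) 1) :
    classInner (fun h : H => (χ : G → ℂ) h) (fun h : H => (χ : G → ℂ) h) = 1 := by
  classical
  have := Fintype.ofFinite K
  set f : G → ℂ := fun g => (χ : G → ℂ) g * starRingEnd ℂ ((χ : G → ℂ) g) with hf
  have hinv : ∀ k ∈ K, ∀ g, f (k * g) = f g := fun k hk g => by
    simp only [hf, CfsgLib.Block.PPrimeKernel.mul_left_of_eq_degree (isCharacter_irr χ) (hK k hk) g]
  have hfib : ∀ x : G, Nat.card {q : K × H // (q.1 : G) * q.2 = x} = Nat.card ↥(K ⊓ H) := by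
    intro x
    obtain ⟨k0, hk0, h0, hh0, rfl⟩ := exists_decomp hKH x
    exact Nat.card_congr
      { toFun := fun q => ⟨k0⁻¹ * q.1.1, Subgroup.mem_inf.2 ⟨mul_mem (inv_mem hk0) q.1.1.2, by
          have e : k0⁻¹ * (q.1.1 : G) = h0 * (q.1.2 : G)⁻¹ := by
            rw [eq_mul_inv_iff_mul_eq, mul_assoc, q.2, inv_mul_cancel_left]
          rw [e]; exact mul_mem hh0 (inv_mem q.1.2.2)⟩⟩
        invFun := fun d => ⟨(⟨k0 * d.1, mul_mem hk0 d.2.1⟩, ⟨(d : G)⁻¹ * h0,
          mul_mem (inv_mem d.2.2) hh0⟩), by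
          show k0 * (d : G) * ((d : G)⁻¹ * h0) = k0 * h0
          group⟩
        left_inv := fun q => by
          have e := q.2
          refine Subtype.ext (Prod.ext (Subtype.ext (by simp)) (Subtype.ext ?_))
          show (k0⁻¹ * (q.1.1 : G))⁻¹ * h0 = q.1.2
          rw [inv_mul_eq_iff_eq_mul, mul_assoc, e, inv_mul_cancel_left]
        right_inv := fun d => Subtype.ext (by simp) }
  have hmain : ∀ F : G → ℂ, (∀ k ∈ K, ∀ g, F (k * g) = F g) →
      (Nat.card ↥(K ⊓ H) : ℂ) * ∑ g : G, F g = (Nat.card K : ℂ) * ∑ h : H, F h := by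
    intro F hF
    have h2 : ∑ q : K × H, F ((q.1 : G) * q.2) = (Nat.card K : ℂ) * ∑ h : H, F h := by
      rw [Fintype.sum_prod_type, Finset.sum_congr rfl (g := fun _ => ∑ h : H, F h) fun (k : K) _ =>
        Finset.sum_congr rfl fun (h : H) _ => hF (k : G) k.2 h, Finset.sum_const, Finset.card_univ,
        ← Nat.card_eq_fintype_card, nsmul_eq_mul]
    rw [← h2, ← Finset.sum_fiberwise Finset.univ (fun q : K × H => (q.1 : G) * q.2), Finset.mul_sum]
    refine Finset.sum_congr rfl fun x _ => ?_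
    rw [Finset.sum_congr rfl (g := fun _ => F x) fun q hq => by rw [(Finset.mem_filter.1 hq).2],
      Finset.sum_const, nsmul_eq_mul, ← hfib x, Nat.card_eq_fintype_card, Fintype.card_subtype]
  have h1 := hmain f hinv
  have h2 := hmain (fun _ => 1) fun _ _ _ => rfl
  simp only [Finset.sum_const, Finset.card_univ, nsmul_eq_mul, mul_one, ← Nat.card_eq_fintype_card] at h2
  have hn := classInner_irr_self χ
  simp only [classInner] at hn ⊢
  have hA : (Nat.card ↥(K ⊓ H) : ℂ) ≠ 0 := Nat.cast_ne_zero.2 Nat.card_pos.ne'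
  have hB : (Nat.card K : ℂ) ≠ 0 := Nat.cast_ne_zero.2 Nat.card_pos.ne'
  have hG : (Nat.card G : ℂ) ≠ 0 := Nat.cast_ne_zero.2 Nat.card_pos.ne'
  have hH : (Nat.card H : ℂ) ≠ 0 := Nat.cast_ne_zero.2 Nat.card_pos.ne'
  rw [inv_mul_eq_iff_eq_mul₀ hG, mul_one] at hn
  rw [inv_mul_eq_iff_eq_mul₀ hH, mul_one]
  refine mul_left_cancel₀ hB (h1.symm.trans ?_)
  rw [← h2]
  exact congrArg _ hn

/-- The constituents of the character induced from a maximal supplement. -/
private theorem exists_larger [Fintype G] (χ : IrrCharacter G) (K H : Subgroup G) [K.Normal]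
    (hK : ∀ g : G, g ∈ K ↔ (χ : G → ℂ) g = (χ : G → ℂ) 1)
    (hKH : K ⊔ H = ⊤) (hH : IsCoatom H)
    (hequal : ∀ ψ : IrrCharacter G, ψ ≠ χ → (∀ h ∈ H, (ψ : G → ℂ) h = (χ : G → ℂ) h) →
      (∀ ψ' : IrrCharacter G, classInner (indFun H (fun h : H => (χ : G → ℂ) h)) (ψ' : G → ℂ) ≠ 0 →
        ∀ h ∈ H, (ψ' : G → ℂ) h = (χ : G → ℂ) h) → False) :
    ∃ ψ : IrrCharacter G, charDegree (χ : G → ℂ) < charDegree (ψ : G → ℂ) ∧
      ∃ L : Subgroup G, (∀ g : G, g ∈ L ↔ (ψ : G → ℂ) g = (ψ : G → ℂ) 1) ∧ L < K := by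
  classical
  have := Fintype.ofFinite H
  have := Fintype.ofFinite (IrrCharacter G)
  set ξ : H → ℂ := fun h => (χ : G → ℂ) h with hξdef
  have hξc : IsCharacter H ξ := isCharacter_comp (isCharacter_irr χ) H.subtype
  have hξ : IsIrrCharacter H ξ := isIrr_of_isCharacter_norm_one hξc
    (restrict_norm χ K H hKH fun k hk => (hK k).mp hk)
  obtain ⟨a, ha⟩ := isCharacter_degree (isCharacter_irr χ)
  have hdegχ : charDegree (χ : G → ℂ) = a := by simp [charDegree, ha]
  have hξ1 : ξ 1 = (a : ℂ) := by simp [hξdef, ha]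
  have hKne : ¬ K ≤ H := fun h => hH.1 (top_le_iff.mp (hKH ▸ sup_le h le_rfl))
  have hind := isCharacter_indFun H hξc
  have hχ1 : classInner (indFun H ξ) (χ : G → ℂ) = 1 := by
    rw [classInner_indFun H ξ _ (isClassFunction_irr χ)]
    exact classInner_irr_self ⟨ξ, hξ⟩
  -- every constituent has degree at least that of `χ`, with equality only for extensions
  have hge : ∀ ψ : IrrCharacter G, classInner (indFun H ξ) (ψ : G → ℂ) ≠ 0 →
      classInner (fun h : H => (ψ : G → ℂ) h) ξ ≠ 0 := by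
    intro ψ hψ h0
    apply hψ
    rw [classInner_indFun H ξ _ (isClassFunction_irr ψ), ← classInner_conj, h0, map_zero]
  have hdeg : ∀ ψ : IrrCharacter G, classInner (indFun H ξ) (ψ : G → ℂ) ≠ 0 →
      a ≤ charDegree (ψ : G → ℂ) ∧
        (charDegree (ψ : G → ℂ) = a → ∀ h ∈ H, (ψ : G → ℂ) h = (χ : G → ℂ) h) := by
    intro ψ hψ
    obtain ⟨b, hb⟩ := isCharacter_degree (isCharacter_irr ψ)
    have hdb : charDegree (ψ : G → ℂ) = b := by simp [charDegree, hb]
    have hres : IsCharacter H (fun h : H => (ψ : G → ℂ) h) :=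
      isCharacter_comp (isCharacter_irr ψ) H.subtype
    obtain ⟨h1, h2⟩ := degree_le_of_constituent hres ⟨ξ, hξ⟩ (hge ψ hψ)
      (a := b) (b := a) (by simpa using hb) hξ1
    rw [hdb]
    exact ⟨h1, fun e h hh => congrFun (h2 e) ⟨h, hh⟩⟩
  by_cases hbig : ∃ ψ : IrrCharacter G, classInner (indFun H ξ) (ψ : G → ℂ) ≠ 0 ∧
      a < charDegree (ψ : G → ℂ)
  · obtain ⟨ψ, hψ, hlt⟩ := hbig
    refine ⟨ψ, hdegχ ▸ hlt, ?_⟩
    obtain ⟨L, hLn, hL⟩ := eq_degree_subgroup ψ
    refine ⟨L, hL, ?_⟩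
    have hres : IsCharacter H (fun h : H => (ψ : G → ℂ) h) :=
      isCharacter_comp (isCharacter_irr ψ) H.subtype
    have hLH : ∀ h ∈ H, h ∈ L → h ∈ K := fun h hh hhL => by
      have := constituent_kernel hres ⟨ξ, hξ⟩ (hge ψ hψ) (g := ⟨h, hh⟩) (by simpa using (hL h).mp hhL)
      exact (hK h).mpr (by simpa [hξdef] using this)
    have hle : L ≤ H := by
      by_contra hn
      have htop : L ⊔ H = ⊤ := hH.2 _ (right_lt_sup.mpr hn)
      have hirr : IsIrrCharacter H (fun h : H => (ψ : G → ℂ) h) := isIrr_of_isCharacter_norm_one hres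
        (restrict_norm ψ L H htop fun k hk => (hL k).mp hk)
      have heq : (⟨_, hirr⟩ : IrrCharacter H) = ⟨ξ, hξ⟩ := by
        by_contra hne
        exact hge ψ hψ (classInner_irr_ne hne)
      have h1 : (ψ : G → ℂ) ((1 : H) : G) = ξ 1 := congrFun (congrArg Subtype.val heq) 1
      rw [OneMemClass.coe_one, hξ1] at h1
      have : charDegree (ψ : G → ℂ) = a := by simp [charDegree, h1]
      omega
    have hLK : L ≤ K := fun g hg => hLH g (hle hg) hg
    exact lt_of_le_of_ne hLK fun e => hKne (e ▸ hle)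
  · exfalso
    push_neg at hbig
    have hall : ∀ ψ : IrrCharacter G, classInner (indFun H ξ) (ψ : G → ℂ) ≠ 0 →
        ∀ h ∈ H, (ψ : G → ℂ) h = (χ : G → ℂ) h := fun ψ hψ =>
      (hdeg ψ hψ).2 (le_antisymm (hbig ψ hψ) (hdeg ψ hψ).1)
    by_cases hex : ∃ ψ : IrrCharacter G, ψ ≠ χ ∧ classInner (indFun H ξ) (ψ : G → ℂ) ≠ 0
    · obtain ⟨ψ, hne, hψ⟩ := hex
      exact hequal ψ hne (hall ψ hψ) hall
    push_neg at hex
    have hexp := congrFun (classFun_expand (isClassFunction_indFun H ξ)) 1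
    rw [Finset.sum_apply, Finset.sum_eq_single χ (fun ψ _ hψ => by simp [hex ψ hψ])
      (fun h => absurd (Finset.mem_univ _) h), hχ1, indFun_one, hξ1, Pi.smul_apply, one_smul, ha] at hexp
    have ha0 : (a : ℂ) ≠ 0 := ha ▸ irr_one_ne_zero χ
    have : H.index = 1 := by
      have e : (H.index : ℂ) = 1 := mul_right_cancel₀ ha0 (by rw [hexp, one_mul])
      exact_mod_cast e
    exact hH.1 (Subgroup.index_eq_one.mp this)

/-- A non-normal Sylow subgroup of a normal subgroup gives a maximal supplement. -/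
private theorem exists_supplement (L : Subgroup G) [L.Normal] (p : ℕ) [Fact p.Prime] (P : Sylow p L)
    (hP : ¬ ((P : Subgroup L).map L.subtype).Normal) :
    ∃ H : Subgroup G, IsCoatom H ∧ L ⊔ H = ⊤ ∧
      normalizer (((P : Subgroup L).map L.subtype : Subgroup G) : Set G) ≤ H := by
  have hne : normalizer (((P : Subgroup L).map L.subtype : Subgroup G) : Set G) ≠ ⊤ := fun h =>
    hP (Subgroup.normalizer_eq_top_iff.mp h)
  obtain ⟨H, hH, hle⟩ := (eq_top_or_exists_le_coatom _).resolve_left hne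
  refine ⟨H, hH, top_le_iff.mp ?_, hle⟩
  rw [← Sylow.normalizer_sup_eq_top P, sup_comm]
  exact sup_le_sup_left hle _

/-- A non-nilpotent normal subgroup has a Sylow subgroup that is not normal in the group. -/
private theorem exists_nonnormal_sylow (L : Subgroup G) [L.Normal] (hL : ¬ Group.IsNilpotent L) :
    ∃ (p : ℕ) (_ : Fact p.Prime) (P : Sylow p L), ¬ ((P : Subgroup L).map L.subtype).Normal := by
  by_contra hc
  push_neg at hc
  refine hL ((Group.isNilpotent_of_finite_tfae.out 0 3).mpr fun p hp P => ?_)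
  have h := hc p hp P
  have := h.subgroupOf L
  rwa [Subgroup.subgroupOf, Subgroup.comap_map_eq_self_of_injective L.subtype_injective] at this

/-- The first alternative: the kernel is not nilpotent. -/
private theorem case_one [Fintype G] (χ : IrrCharacter G) (K : Subgroup G) [K.Normal]
    (hK : ∀ g : G, g ∈ K ↔ (χ : G → ℂ) g = (χ : G → ℂ) 1) (hnil : ¬ Group.IsNilpotent K) :
    ∃ ψ : IrrCharacter G, charDegree (χ : G → ℂ) < charDegree (ψ : G → ℂ) ∧
      ∃ L : Subgroup G, (∀ g : G, g ∈ L ↔ (ψ : G → ℂ) g = (ψ : G → ℂ) 1) ∧ L < K := by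
  obtain ⟨p, hp, P, hP⟩ := exists_nonnormal_sylow K hnil
  obtain ⟨H, hH, hKH, hle⟩ := exists_supplement K p P hP
  refine exists_larger χ K H hK hKH hH fun ψ hne hψ _ => hne ?_
  obtain ⟨L, hLn, hL⟩ := eq_degree_subgroup ψ
  set P' : Subgroup G := (P : Subgroup K).map K.subtype with hP'
  have hP'H : P' ≤ H := Subgroup.le_normalizer.trans hle
  have hP'K : P' ≤ K := Subgroup.map_subtype_le _
  have hP'L : P' ≤ L := fun x hx => (hL x).mpr (by
    rw [hψ x (hP'H hx), hψ 1 H.one_mem]; exact (hK x).mp (hP'K hx))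
  -- the Frattini argument inside `L ⊓ K`
  have hsub : P' ≤ L ⊓ K := le_inf hP'L hP'K
  let Q : Sylow p ↥(L ⊓ K) :=
    { toSubgroup := P'.subgroupOf (L ⊓ K)
      isPGroup' := (P.isPGroup'.map K.subtype).comap_subtype
      is_maximal' := fun {R} hR hle' => by
        refine le_antisymm (fun x hx => ?_) hle'
        have h2 : IsPGroup p ((R.map (L ⊓ K).subtype).subgroupOf K) := (hR.map _).comap_subtype
        have h3 : (P : Subgroup K) ≤ (R.map (L ⊓ K).subtype).subgroupOf K := fun y hy =>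
          Subgroup.mem_map.mpr ⟨⟨(y : G), hsub (Subgroup.mem_map_of_mem _ hy)⟩,
            hle' (show _ ∈ P'.subgroupOf (L ⊓ K) from Subgroup.mem_map_of_mem K.subtype hy), rfl⟩
        have h4 := P.is_maximal' h2 h3
        have hxK : (x : G) ∈ K := x.2.2
        have h5 : (⟨(x : G), hxK⟩ : K) ∈ (P : Subgroup K) := h4 ▸
          (show (⟨(x : G), hxK⟩ : K) ∈ (R.map (L ⊓ K).subtype).subgroupOf K from
            Subgroup.mem_map.mpr ⟨x, hx, rfl⟩)
        exact Subgroup.mem_map.mpr ⟨_, h5, rfl⟩ }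
  have hFr := Sylow.normalizer_sup_eq_top Q
  have hQ : (Q : Subgroup ↥(L ⊓ K)).map (L ⊓ K).subtype = P' :=
    Subgroup.map_subgroupOf_eq_of_le hsub
  rw [hQ] at hFr
  have htop : (L ⊓ K) ⊔ H = ⊤ := top_le_iff.mp (by
    rw [← hFr, sup_comm]; exact sup_le_sup_left hle _)
  refine Subtype.ext (funext fun g => ?_)
  obtain ⟨m, hm, h, hh, rfl⟩ := exists_decomp htop g
  rw [CfsgLib.Block.PPrimeKernel.mul_left_of_eq_degree (isCharacter_irr ψ) ((hL m).mp hm.1) h,
    CfsgLib.Block.PPrimeKernel.mul_left_of_eq_degree (isCharacter_irr χ) ((hK m).mp hm.2) h, hψ h hh]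

/-- The second alternative: the kernel is the Fitting subgroup and the quotient is solvable. -/
private theorem case_two [Fintype G] (χ : IrrCharacter G) (K : Subgroup G) [K.Normal]
    (hK : ∀ g : G, g ∈ K ↔ (χ : G → ℂ) g = (χ : G → ℂ) 1) (hF : K = Cfsg.fittingSubgroup G)
    (hsol : Group.IsSolvable (G ⧸ K)) (hne : K ≠ ⊤) :
    ∃ ψ : IrrCharacter G, charDegree (χ : G → ℂ) < charDegree (ψ : G → ℂ) ∧
      ∃ L : Subgroup G, (∀ g : G, g ∈ L ↔ (ψ : G → ℂ) g = (ψ : G → ℂ) 1) ∧ L < K := by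
  classical
  set f := QuotientGroup.mk' K with hf
  have htop : (⊤ : Subgroup (G ⧸ K)) ≠ ⊥ := fun h => hne (top_le_iff.mp fun g _ => by
    rw [← QuotientGroup.eq_one_iff (N := K)]
    exact Subgroup.mem_bot.mp (h ▸ Subgroup.mem_top _))
  obtain ⟨L', hL'n, hL'b, -, hL'min⟩ := CfsgLib.Coprime.exists_minimal_normal_le (G := G ⧸ K) htop
  obtain ⟨-, q, hq, hexp⟩ := CfsgLib.Coprime.minimal_normal_solvable (N := L') hL'b
    fun M hM hle => hL'min M hM hle
  have := Fact.mk hq
  set L := L'.comap f with hLdef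
  have hKL : K ≤ L := fun x hx => by
    show f x ∈ L'
    rw [show f x = 1 from (QuotientGroup.eq_one_iff x).mpr hx]; exact L'.one_mem
  have hLK : ¬ L ≤ K := fun h => hL'b (eq_bot_iff.mpr fun y hy => by
    obtain ⟨x, rfl⟩ := QuotientGroup.mk'_surjective K y
    exact Subgroup.mem_bot.mpr ((QuotientGroup.eq_one_iff x).mpr (h hy)))
  have hLmin : ∀ T : Subgroup G, T.Normal → K ≤ T → T ≤ L → T = K ∨ T = L := by
    intro T hT hKT hTL
    rcases hL'min (T.map f) (hT.map f (QuotientGroup.mk'_surjective K))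
      (Subgroup.map_le_iff_le_comap.mpr hTL) with h | h
    · exact Or.inl (le_antisymm (fun x hx => (QuotientGroup.eq_one_iff x).mp
        (Subgroup.mem_bot.mp (h ▸ Subgroup.mem_map_of_mem f hx))) hKT)
    · refine Or.inr ?_
      rw [hLdef, ← h, Subgroup.comap_map_eq, QuotientGroup.ker_mk', sup_eq_left.mpr hKT]
  have hLn : L.Normal := hL'n.comap f
  have hnil : ¬ Group.IsNilpotent L := fun h => hLK (hF ▸ CfsgLib.Coprime.le_fitting h)
  have hKnil : Group.IsNilpotent K := by rw [hF]; exact CfsgLib.Coprime.fitting_isNilpotent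
  obtain ⟨p, hp, P, hP⟩ := exists_nonnormal_sylow L hnil
  obtain ⟨H, hH, hLH, hle⟩ := exists_supplement L p P hP
  set P' : Subgroup G := (P : Subgroup L).map L.subtype with hP'
  have hP'H : P' ≤ H := Subgroup.le_normalizer.trans hle
  have hP'L : P' ≤ L := Subgroup.map_subtype_le _
  -- the prime of the Sylow subgroup is the prime of `L / K`
  have hpq : p = q := by
    by_contra hne'
    apply hP
    have hP'K : P' ≤ K := by
      intro x hx
      have hxL := hP'L hx
      have h1 : f x ^ q = 1 := hexp (f x) hxL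
      obtain ⟨k, hk⟩ := (IsPGroup.iff_orderOf (p := p)).1 (P.isPGroup'.map L.subtype) ⟨x, hx⟩
      rw [← Subgroup.orderOf_coe ⟨x, hx⟩] at hk
      have h2 : orderOf (f x) ∣ p ^ k := hk ▸ orderOf_map_dvd f x
      exact (QuotientGroup.eq_one_iff x).mp (orderOf_eq_one_iff.mp (Nat.eq_one_of_dvd_coprimes
        (Nat.Coprime.pow_left k ((Nat.coprime_primes hp.out hq).mpr hne')) h2
        (orderOf_dvd_of_pow_eq_one h1)))
    let Q : Sylow p K :=
      { toSubgroup := P'.subgroupOf K
        isPGroup' := (P.isPGroup'.map L.subtype).comap_subtype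
        is_maximal' := fun {R} hR hle' => by
          refine le_antisymm (fun x hx => ?_) hle'
          have h2 : IsPGroup p ((R.map K.subtype).subgroupOf L) := (hR.map _).comap_subtype
          have h3 : (P : Subgroup L) ≤ (R.map K.subtype).subgroupOf L := fun y hy =>
            Subgroup.mem_map.mpr ⟨⟨(y : G), hP'K (Subgroup.mem_map_of_mem _ hy)⟩,
              hle' (show _ ∈ P'.subgroupOf K from Subgroup.mem_map_of_mem L.subtype hy), rfl⟩
          have h4 := P.is_maximal' h2 h3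
          have h5 : (⟨(x : G), hKL x.2⟩ : L) ∈ (P : Subgroup L) := h4 ▸
            (show (⟨(x : G), hKL x.2⟩ : L) ∈ (R.map K.subtype).subgroupOf L from
              Subgroup.mem_map.mpr ⟨x, hx, rfl⟩)
          exact Subgroup.mem_map.mpr ⟨_, h5, rfl⟩ }
    have hQn : (Q : Subgroup K).Normal :=
      ((Group.isNilpotent_of_finite_tfae (G := K)).out 0 3 :
        Group.IsNilpotent K ↔ ∀ (r : ℕ) (_ : Fact r.Prime) (S : Sylow r K), (S : Subgroup K).Normal).mp hKnil p hp Q
    have hQc := Sylow.characteristic_of_normal Q hQn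
    have hmap : ((Q : Subgroup K).map K.subtype).Normal := ConjAct.normal_of_characteristic_of_normal
    have e : (Q : Subgroup K).map K.subtype = P' := Subgroup.map_subgroupOf_eq_of_le hP'K
    rwa [e] at hmap
  subst hpq
  -- `L = K P`
  have hKP : L ≤ K ⊔ H := by
    intro x hx
    let R : Subgroup L := K.subgroupOf L ⊔ (P : Subgroup L)
    have hR : R = ⊤ := by
      apply Subgroup.index_eq_one.mp
      have h1 : R.index ∣ (K.subgroupOf L).index := Subgroup.index_dvd_of_le le_sup_left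
      have h2 : R.index ∣ (P : Subgroup L).index := Subgroup.index_dvd_of_le le_sup_right
      have h3 : ∀ y : L ⧸ K.subgroupOf L, y ^ p = 1 := fun y => by
        obtain ⟨y, rfl⟩ := QuotientGroup.mk_surjective y
        rw [← QuotientGroup.mk_pow, QuotientGroup.eq_one_iff, Subgroup.mem_subgroupOf]
        rw [← QuotientGroup.eq_one_iff (N := K)]
        exact (map_pow f (y : G) p).trans (hexp _ y.2)
      obtain ⟨n, hn⟩ := (IsPGroup.iff_card (p := p)).1
        (fun y : L ⧸ K.subgroupOf L => ⟨1, by rw [pow_one]; exact h3 y⟩)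
      rw [Subgroup.index_eq_card (K.subgroupOf L), hn] at h1
      exact Nat.eq_one_of_dvd_coprimes
        (Nat.Coprime.pow_left n ((hq.coprime_iff_not_dvd).mpr P.not_dvd_index)) h1 h2
    have hx' : (⟨x, hx⟩ : L) ∈ R := hR ▸ Subgroup.mem_top _
    have hx'' : x ∈ R.map L.subtype := Subgroup.mem_map.mpr ⟨_, hx', rfl⟩
    rw [Subgroup.map_sup, Subgroup.map_subgroupOf_eq_of_le hKL] at hx''
    exact sup_le_sup_left hP'H K hx''
  have hKH : K ⊔ H = ⊤ := top_le_iff.mp (hLH ▸ sup_le hKP le_sup_right)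
  -- the intersection is normal
  have hN : (K ⊓ H).Normal := by
    have hNK : K ⊓ H < K := lt_of_le_of_ne inf_le_left fun e =>
      hH.1 (top_le_iff.mp (hKH ▸ sup_le (e ▸ inf_le_right) le_rfl))
    have h1 : (K ⊓ H).subgroupOf K < ⊤ := lt_top_iff_ne_top.mpr fun e =>
      hNK.not_ge (Subgroup.subgroupOf_eq_top.mp e)
    have h2 := Group.normalizerCondition_of_isNilpotent (G := K) _ h1
    obtain ⟨x, hx, hxn⟩ := SetLike.exists_of_lt h2
    have hHN : H ≤ normalizer ((K ⊓ H : Subgroup G) : Set G) := fun h hh =>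
      Subgroup.mem_normalizer_iff.mpr fun y =>
        ⟨fun hy => ⟨(inferInstance : K.Normal).conj_mem y hy.1 h,
            H.mul_mem (H.mul_mem hh hy.2) (H.inv_mem hh)⟩,
          fun hy => ⟨by simpa [mul_assoc] using (inferInstance : K.Normal).conj_mem' _ hy.1 h,
            by simpa [mul_assoc] using mul_mem (mul_mem (inv_mem hh) hy.2) hh⟩⟩
    have hxN : (x : G) ∈ normalizer ((K ⊓ H : Subgroup G) : Set G) := by
      refine Subgroup.mem_normalizer_iff.mpr fun y => ?_
      constructor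
      · intro hy
        exact ((Subgroup.mem_normalizer_iff.mp hx ⟨y, hy.1⟩).mp (Subgroup.mem_subgroupOf.mpr hy))
      · intro hy
        have hyK : y ∈ K := by
          have := (inferInstance : K.Normal).conj_mem' _ hy.1 (x : G)
          simpa [mul_assoc] using this
        exact (Subgroup.mem_normalizer_iff.mp hx ⟨y, hyK⟩).mpr (Subgroup.mem_subgroupOf.mpr hy)
    have hnH : ¬ normalizer ((K ⊓ H : Subgroup G) : Set G) ≤ H := fun h =>
      hxn (Subgroup.mem_subgroupOf.mpr ⟨x.2, h hxN⟩)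
    exact Subgroup.normalizer_eq_top_iff.mp (hH.2 _ (lt_of_le_not_ge hHN hnH))
  refine exists_larger χ K H hK hKH hH fun ψ _ _ hall => ?_
  -- every constituent extends the restriction, so `χ` vanishes off the core
  have := Fintype.ofFinite H
  have := Fintype.ofFinite K
  have := Fintype.ofFinite (IrrCharacter G)
  set ξ : H → ℂ := fun h => (χ : G → ℂ) h with hξdef
  have hξcl : IsClassFunction H ξ := fun a b => isClassFunction_irr χ (a : G) (b : G)
  have hvan : ∀ h ∈ H, (χ : G → ℂ) h ≠ 0 → h ∈ H.normalCore := by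
    intro h hh hne0
    have hind : indFun H ξ h = (H.index : ℂ) * (χ : G → ℂ) h := by
      have e := congrFun (classFun_expand (isClassFunction_indFun H ξ)) h
      have e1 := congrFun (classFun_expand (isClassFunction_indFun H ξ)) 1
      simp only [Finset.sum_apply, Pi.smul_apply, smul_eq_mul] at e e1
      have hterm : ∀ φ : IrrCharacter G, classInner (indFun H ξ) (φ : G → ℂ) * (φ : G → ℂ) h
          * (χ : G → ℂ) 1
          = classInner (indFun H ξ) (φ : G → ℂ) * (φ : G → ℂ) 1 * (χ : G → ℂ) h := by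
        intro φ
        by_cases h0 : classInner (indFun H ξ) (φ : G → ℂ) = 0
        · simp [h0]
        · rw [hall φ h0 h hh, hall φ h0 1 H.one_mem]; ring
      have e2 : indFun H ξ h * (χ : G → ℂ) 1 = indFun H ξ 1 * (χ : G → ℂ) h := by
        rw [e, e1, Finset.sum_mul, Finset.sum_mul]
        exact Finset.sum_congr rfl fun φ _ => hterm φ
      rw [indFun_one, show ξ 1 = (χ : G → ℂ) 1 from by simp [hξdef]] at e2
      exact mul_right_cancel₀ (irr_one_ne_zero χ) (by rw [e2]; ring)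
    rw [CfsgLib.Char.CoreInduced.indFun_supplement H K hKH hξcl] at hind
    have hterm : ∀ k : K, extendByZero H ξ ((k : G)⁻¹ * h * k)
        = if (k : G)⁻¹ * h * k ∈ H then (χ : G → ℂ) h else 0 := by
      intro k
      rw [extendByZero_eq_ite]
      split_ifs with hm
      · exact classFun_isConj (isClassFunction_irr χ)
          (isConj_iff.mpr ⟨(k : G), by group⟩)
      · rfl
    rw [Finset.sum_congr rfl fun k _ => hterm k, ← Finset.sum_filter, Finset.sum_const,
      nsmul_eq_mul] at hind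
    have hidx : H.index * Nat.card ↥(K ⊓ H) = Nat.card K := by
      have e1 : K.relIndex H * Nat.card ↥(K ⊓ H) = Nat.card H := by
        rw [← Nat.card_congr (Subgroup.subgroupOfEquivOfLe (inf_le_right : K ⊓ H ≤ H)).toEquiv,
          Subgroup.inf_subgroupOf_right]
        exact Subgroup.index_mul_card _
      have e2 : K.relIndex H = K.index := by
        rw [← Subgroup.relIndex_sup_right, sup_comm, hKH, Subgroup.relIndex_top_right]
      refine mul_right_cancel₀ (Nat.card_pos (α := H)).ne' ?_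
      calc H.index * Nat.card ↥(K ⊓ H) * Nat.card H
          = (H.index * Nat.card H) * Nat.card ↥(K ⊓ H) := by ring
        _ = (K.index * Nat.card K) * Nat.card ↥(K ⊓ H) := by
          rw [Subgroup.index_mul_card, Subgroup.index_mul_card]
        _ = Nat.card K * Nat.card H := by rw [← e1, e2]; ring
    have hA : (Nat.card ↥(K ⊓ H) : ℂ) ≠ 0 := Nat.cast_ne_zero.2 Nat.card_pos.ne'
    rw [inv_mul_eq_iff_eq_mul₀ hA, ← mul_assoc] at hind
    have hcard : (Finset.univ.filter fun k : K => (k : G)⁻¹ * h * k ∈ H).card = Nat.card K := by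
      have e := mul_right_cancel₀ hne0 hind
      rw [← hidx, mul_comm]
      exact_mod_cast e
    rw [Nat.card_eq_fintype_card] at hcard
    have hall' := Finset.eq_univ_of_card _ hcard
    intro g
    obtain ⟨k, hk, h', hh', e⟩ := exists_decomp hKH g⁻¹
    have hk' : k⁻¹ * h * k ∈ H := by
      have := Finset.mem_univ (⟨k, hk⟩ : K)
      rw [← hall'] at this
      exact (Finset.mem_filter.mp this).2
    have hg : g = h'⁻¹ * k⁻¹ := by rw [← mul_inv_rev, e, inv_inv]
    rw [hg, show h'⁻¹ * k⁻¹ * h * (h'⁻¹ * k⁻¹)⁻¹ = h'⁻¹ * (k⁻¹ * h * k) * h' by group]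
    exact mul_mem (mul_mem (inv_mem hh') hk') hh'
  -- the core meets `L` inside `K`
  have hcore : H.normalCore ⊓ L ≤ K := by
    rcases hLmin (K ⊔ (H.normalCore ⊓ L)) inferInstance le_sup_left (sup_le hKL inf_le_right) with e | e
    · exact e ▸ le_sup_right
    exfalso
    have hcoreH : H.normalCore ⊓ L ≤ L ⊓ H := le_inf inf_le_right (inf_le_left.trans H.normalCore_le)
    have hLHeq : L ⊓ H ≤ (K ⊓ H) ⊔ (H.normalCore ⊓ L) := by
      intro x hx
      have hx' : x ∈ ((K ⊔ (H.normalCore ⊓ L) : Subgroup G) : Set G) := by rw [e]; exact hx.1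
      rw [Subgroup.normal_mul] at hx'
      obtain ⟨k, hk, t, ht, rfl⟩ := hx'
      exact Subgroup.mul_mem_sup ⟨hk, (H.mul_mem_cancel_right (hcoreH ht).2).mp hx.2⟩ ht
    have hLHn : (L ⊓ H).Normal := by
      have e2 : L ⊓ H = (K ⊓ H) ⊔ (H.normalCore ⊓ L) :=
        le_antisymm hLHeq (sup_le (inf_le_inf_right _ hKL) hcoreH)
      rw [e2]; infer_instance
    let Q : Sylow p ↥(L ⊓ H) :=
      { toSubgroup := P'.subgroupOf (L ⊓ H)
        isPGroup' := (P.isPGroup'.map L.subtype).comap_subtype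
        is_maximal' := fun {R} hR hle' => by
          refine le_antisymm (fun x hx => ?_) hle'
          have h2 : IsPGroup p ((R.map (L ⊓ H).subtype).subgroupOf L) := (hR.map _).comap_subtype
          have h3 : (P : Subgroup L) ≤ (R.map (L ⊓ H).subtype).subgroupOf L := fun y hy =>
            Subgroup.mem_map.mpr ⟨⟨(y : G), ⟨y.2, hP'H (Subgroup.mem_map_of_mem _ hy)⟩⟩,
              hle' (show _ ∈ P'.subgroupOf (L ⊓ H) from Subgroup.mem_map_of_mem L.subtype hy), rfl⟩
          have h4 := P.is_maximal' h2 h3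
          have h5 : (⟨(x : G), x.2.1⟩ : L) ∈ (P : Subgroup L) := h4 ▸
            (show (⟨(x : G), x.2.1⟩ : L) ∈ (R.map (L ⊓ H).subtype).subgroupOf L from
              Subgroup.mem_map.mpr ⟨x, hx, rfl⟩)
          exact Subgroup.mem_map.mpr ⟨_, h5, rfl⟩ }
    have hFr := Sylow.normalizer_sup_eq_top Q
    have hQ : (Q : Subgroup ↥(L ⊓ H)).map (L ⊓ H).subtype = P' :=
      Subgroup.map_subgroupOf_eq_of_le (le_inf hP'L hP'H)
    rw [hQ] at hFr
    exact hH.1 (top_le_iff.mp (hFr ▸ sup_le hle inf_le_right))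
  -- the trivial character is a constituent on `(L ⊓ H)`
  set M : Subgroup H := L.subgroupOf H with hM
  have := Fintype.ofFinite M
  have hξirr : IsIrrCharacter H ξ := isIrr_of_isCharacter_norm_one
    (isCharacter_comp (isCharacter_irr χ) H.subtype) (restrict_norm χ K H hKH fun k hk => (hK k).mp hk)
  have hval : ∀ m : M, (χ : G → ℂ) ((m : H) : G)
      = if ((m : H) : G) ∈ K then (χ : G → ℂ) 1 else 0 := by
    intro m
    split_ifs with hm
    · exact (hK _).mp hm
    · by_contra h0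
      exact hm (hcore ⟨hvan _ (m : H).2 h0, m.2⟩)
  have htriv : classInner (fun m : M => ξ m) (fun _ => (1 : ℂ)) ≠ 0 := by
    rw [classInner]
    simp only [map_one, mul_one, hξdef]
    rw [Finset.sum_congr rfl fun m _ => hval m, ← Finset.sum_filter, Finset.sum_const, nsmul_eq_mul]
    refine mul_ne_zero (inv_ne_zero (Nat.cast_ne_zero.2 Nat.card_pos.ne'))
      (mul_ne_zero (Nat.cast_ne_zero.2 ?_) (irr_one_ne_zero χ))
    exact Finset.card_ne_zero.mpr ⟨1, Finset.mem_filter.mpr ⟨Finset.mem_univ _, by simp⟩⟩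
  have hker := CfsgLib.Block.PPrimeKernel.eq_degree_of_trivial_constituent M ⟨ξ, hξirr⟩ htriv
  apply hLK
  intro x hx
  obtain ⟨k, hk, h, hh, rfl⟩ := exists_decomp hKH x
  have hhL : h ∈ L := (mul_mem_cancel_left (hKL hk)).mp hx
  refine mul_mem hk ((hK h).mpr ?_)
  have := hker ⟨⟨h, hh⟩, hhL⟩
  simpa [hξdef] using this

end

/-- Let χ be an irreducible character of the finite group G and K its kernel (the elements where χ takes the value χ(1)). Suppose either that K is not contained in the Fitting subgroup F(G), or that K = F(G) with G/K solvable and K ≠ G. Then there is an irreducible character ψ of G with ψ(1) > χ(1) whose kernel is properly contained in K. -/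
theorem result {G : Type*} [Group G] [Finite G] (χ : Cfsg.IrrCharacter G) (K : Subgroup G) [K.Normal] (hK : (∀ g : G, g ∈ K ↔ (χ : G → ℂ) g = (χ : G → ℂ) 1)) (h : ¬ K ≤ Cfsg.fittingSubgroup G ∨ (K = Cfsg.fittingSubgroup G ∧ Group.IsSolvable (G ⧸ K) ∧ K ≠ ⊤)) : ∃ ψ : Cfsg.IrrCharacter G, Cfsg.charDegree (χ : G → ℂ) < Cfsg.charDegree (ψ : G → ℂ) ∧ ∃ L : Subgroup G, (∀ g : G, g ∈ L ↔ (ψ : G → ℂ) g = (ψ : G → ℂ) 1) ∧ L < K := by
  have := Fintype.ofFinite G
  rcases h with h | ⟨hF, hsol, hne⟩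
  · exact case_one χ K hK fun hnil => h (CfsgLib.Coprime.le_fitting hnil)
  · exact case_two χ K hK hF hsol hne

end Cfsg.Agent.S4461
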