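import Cfsg.Statements.S4462
import Cfsg.Agent.S4461
import Cfsg.Agent.Lib.Invol.PrincipalBlock
import Cfsg.Agent.Lib.Coprime.Fitting

set_option autoImplicit false
open Cfsg

namespace Cfsg.Agent.S4462

section
open CfsgLib CfsgLib.Char Subgroup

universe u

private theorem chain : ∀ (n : ℕ) (G : Type u) [Group G] [Finite G], Group.IsSolvable G →
    (Set.range fun χ : IrrCharacter G => charDegree (χ : G → ℂ)).ncard ≤ n →
    ∃ N : Fin (n + 1) → Subgroup G, N 0 = ⊥ ∧ N (Fin.last n) = ⊤ ∧ Monotone N ∧ (∀ i, (N i).Normal) ∧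
      ∀ i : Fin n, ∀ h : (N i.castSucc).subgroupOf (N i.succ) |>.Normal,
        Group.IsNilpotent (↥(N i.succ) ⧸ (N i.castSucc).subgroupOf (N i.succ)) := by
  intro n
  induction n with
  | zero =>
    intro G _ _ _ h
    exfalso
    have hfin := Set.finite_range fun χ : IrrCharacter G => charDegree (χ : G → ℂ)
    have := (Set.ncard_pos hfin).2 ⟨_, ⟨⟨_, isIrrCharacter_one⟩, rfl⟩⟩
    omega
  | succ m ih =>
    intro G _ _ hsol hcd
    classical
    haveI := hsol
    set F := Cfsg.fittingSubgroup G with hF
    haveI hFn : F.Normal := Coprime.fitting_normal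
    haveI hFnil : Group.IsNilpotent F := Coprime.fitting_isNilpotent
    by_cases hFtop : F = ⊤
    · refine ⟨fun i => if i = 0 then ⊥ else ⊤, if_pos rfl,
        if_neg (Fin.last_pos).ne', fun a b hab => ?_, fun i => ?_, fun i _ => ?_⟩
      · dsimp only
        by_cases ha : a = 0
        · rw [if_pos ha]; exact bot_le
        · rw [if_neg ha, if_neg (fun hb : b = 0 => ha (le_antisymm (hb ▸ hab) (Fin.zero_le a)))]
      · dsimp only; split_ifs <;> infer_instance
      · haveI hG : Group.IsNilpotent G :=
          Group.nilpotent_of_mulEquiv ((MulEquiv.subgroupCongr hFtop).trans Subgroup.topEquiv)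
        infer_instance
    -- the largest degree is lost
    have hlt : (Set.range fun χ : IrrCharacter (G ⧸ F) => charDegree (χ : G ⧸ F → ℂ)).ncard ≤ m := by
      set S := Set.range fun χ : IrrCharacter G => charDegree (χ : G → ℂ)
      set T := Set.range fun χ : IrrCharacter (G ⧸ F) => charDegree (χ : G ⧸ F → ℂ)
      have hfin : S.Finite := Set.finite_range _
      obtain ⟨b, hb, hmax⟩ := hfin.toFinset.exists_max_image id
        ⟨_, hfin.mem_toFinset.2 ⟨⟨_, isIrrCharacter_one⟩, rfl⟩⟩
      have hbT : b ∉ T := by
        rintro ⟨θ, hθ⟩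
        let χ : IrrCharacter G :=
          ⟨_, isIrrCharacter_comp_surjective θ.2 (QuotientGroup.mk' F) (QuotientGroup.mk'_surjective F)⟩
        obtain ⟨K, hK, hmem⟩ := CfsgLib.Invol.exists_charKernel χ
        haveI := hK
        have hFK : F ≤ K := fun x hx => (hmem x).2 (by
          show (θ : G ⧸ F → ℂ) (QuotientGroup.mk' F x) = (θ : G ⧸ F → ℂ) (QuotientGroup.mk' F 1)
          rw [show QuotientGroup.mk' F x = 1 from (QuotientGroup.eq_one_iff x).2 hx, map_one])
        have hχb : charDegree (χ : G → ℂ) = b := by
          rw [← hθ]; simp [χ, charDegree]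
        obtain ⟨ψ, hψ, -⟩ := Cfsg.Agent.S4461.result χ K hmem (by
          by_cases h : K ≤ F
          · have e : K = F := le_antisymm h hFK
            exact Or.inr ⟨e, inferInstance, e ▸ hFtop⟩
          · exact Or.inl h)
        have := hmax _ (hfin.mem_toFinset.2 ⟨ψ, rfl⟩)
        simp only [id_eq, hχb] at this hψ
        omega
      have hTS : T ⊆ S \ {b} := by
        rintro d ⟨θ, rfl⟩
        refine ⟨⟨⟨_, isIrrCharacter_comp_surjective θ.2 (QuotientGroup.mk' F)
          (QuotientGroup.mk'_surjective F)⟩, by simp [charDegree]⟩, ?_⟩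
        exact fun e => hbT ⟨θ, e⟩
      have h1 := Set.ncard_le_ncard hTS hfin.diff
      have h2 := Set.ncard_sdiff_singleton_lt_of_mem (hfin.mem_toFinset.1 hb) hfin
      omega
    obtain ⟨N', h0, hlast, hmono, hnor, hnil⟩ := ih (G ⧸ F) inferInstance hlt
    let N : Fin (m + 2) → Subgroup G := Fin.cons ⊥ fun j => (N' j).comap (QuotientGroup.mk' F)
    have hN0 : N 0 = ⊥ := Fin.cons_zero _ _
    have hNs : ∀ j, N (Fin.succ j) = (N' j).comap (QuotientGroup.mk' F) := fun j => Fin.cons_succ _ _ j
    refine ⟨N, hN0, ?_, ?_, fun i => ?_, fun i => ?_⟩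
    · rw [show Fin.last (m + 1) = (Fin.last m).succ from rfl, hNs, hlast, Subgroup.comap_top]
    · intro a b hab
      induction a using Fin.cases with
      | zero => rw [hN0]; exact bot_le
      | succ a =>
        induction b using Fin.cases with
        | zero => exact absurd hab (not_le.2 (Fin.succ_pos a))
        | succ b => rw [hNs, hNs]; exact Subgroup.comap_mono (hmono (Fin.succ_le_succ_iff.1 hab))
    · induction i using Fin.cases with
      | zero => rw [hN0]; infer_instance
      | succ j => rw [hNs]; exact (hnor j).comap _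
    · induction i using Fin.cases with
      | zero =>
        intro h
        have e : N (Fin.succ (0 : Fin (m + 1))) = F := by
          rw [hNs, h0, MonoidHom.comap_bot, QuotientGroup.ker_mk']
        haveI : Group.IsNilpotent (N (Fin.succ (0 : Fin (m + 1)))) :=
          Group.nilpotent_of_mulEquiv (MulEquiv.subgroupCongr e).symm
        infer_instance
      | succ j =>
        intro h
        set A' := N' j.castSucc with hA'
        set B' := N' j.succ with hB'
        haveI hAn : A'.Normal := hnor _
        haveI : (A'.subgroupOf B').Normal := hAn.subgroupOf B'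
        haveI := hnil j inferInstance
        have eA : N (Fin.castSucc (Fin.succ j)) = A'.comap (QuotientGroup.mk' F) := by
          rw [Fin.castSucc_succ, hNs]
        have eB : N (Fin.succ (Fin.succ j)) = B'.comap (QuotientGroup.mk' F) := hNs _
        let f : N (Fin.succ (Fin.succ j)) →* B' ⧸ A'.subgroupOf B' :=
          (QuotientGroup.mk' (A'.subgroupOf B')).comp
            (((QuotientGroup.mk' F).comp (N (Fin.succ (Fin.succ j))).subtype).codRestrict B'
              fun x => (eB.le x.2 : (x : G) ∈ B'.comap (QuotientGroup.mk' F)))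
        have hker : f.ker = (N (Fin.castSucc (Fin.succ j))).subgroupOf (N (Fin.succ (Fin.succ j))) := by
          ext x
          rw [MonoidHom.mem_ker, Subgroup.mem_subgroupOf, eA]
          exact QuotientGroup.eq_one_iff _
        have hsurj : Function.Surjective f := by
          intro y
          obtain ⟨⟨z, hz⟩, rfl⟩ := QuotientGroup.mk'_surjective _ y
          obtain ⟨g, rfl⟩ := QuotientGroup.mk'_surjective F z
          exact ⟨⟨g, eB.ge (show g ∈ B'.comap (QuotientGroup.mk' F) from hz)⟩, rfl⟩
        exact Group.nilpotent_of_mulEquiv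
          ((QuotientGroup.quotientMulEquivOfEq hker.symm).trans
            (QuotientGroup.quotientKerEquivOfSurjective f hsurj)).symm

end

/-- Let G be a finite solvable group with exactly n distinct irreducible character degrees. Then G has normal subgroups 1 = N₀ ≤ N₁ ≤ ⋯ ≤ Nₙ = G with every quotient N_{i+1}/N_i nilpotent (the nilpotent length of G is at most n). -/
theorem result {G : Type*} [Group G] [Finite G] (hsolv : Group.IsSolvable G) (n : ℕ) (hcd : Nat.card {d : ℕ // ∃ χ : Cfsg.IrrCharacter G, Cfsg.charDegree (χ : G → ℂ) = d} = n) : ∃ N : Fin (n + 1) → Subgroup G, N 0 = ⊥ ∧ N (Fin.last n) = ⊤ ∧ Monotone N ∧ (∀ i, (N i).Normal) ∧ ∀ i : Fin n, ∀ h : (N i.castSucc).subgroupOf (N i.succ) |>.Normal, Group.IsNilpotent (↥(N i.succ) ⧸ (N i.castSucc).subgroupOf (N i.succ)) := by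
  refine chain n G hsolv (le_of_eq ?_)
  rw [← hcd, ← Nat.card_coe_set_eq]
  rfl

end Cfsg.Agent.S4462
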