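import Cfsg.Statements.S4464
import Cfsg.Agent.Lib.Block.ItoMichler
import Cfsg.Agent.Lib.Block.BlockCount
import Cfsg.Agent.Lib.Block.BlockCountBound
import Cfsg.Agent.Lib.Block.Cyclic.SylowSetup
import Cfsg.Agent.Lib.Block.PPrimeKernel
import Cfsg.Agent.Lib.Block.Local

set_option autoImplicit false
open Cfsg

namespace Cfsg.Agent.S4464

section
open CfsgLib.Char Cfsg
open CfsgLib.Block hiding charDegree_eq
open Subgroup

universe u

/-- All degrees are less than `p`. -/
private def SmallDeg (p : ℕ) (G : Type u) [Group G] : Prop :=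
  ∀ χ : IrrCharacter G, charDegree (χ : G → ℂ) < p

private theorem deg_cast {G : Type u} [Group G] [Finite G] (χ : IrrCharacter G) :
    (χ : G → ℂ) 1 = (charDegree (χ : G → ℂ) : ℂ) :=
  CfsgLib.Block.ItoMichler.one_eq_cast χ

private theorem deg_pos {G : Type u} [Group G] [Finite G] (χ : IrrCharacter G) :
    0 < charDegree (χ : G → ℂ) :=
  Nat.pos_of_ne_zero fun h => irr_one_ne_zero χ (by rw [deg_cast, h, Nat.cast_zero])

private theorem sum_sq {G : Type u} [Group G] [Finite G] [Fintype (IrrCharacter G)] :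
    ∑ χ : IrrCharacter G, charDegree (χ : G → ℂ) ^ 2 = Nat.card G := by
  have := Fintype.ofFinite G
  have h := sum_degree_sq (G := G)
  simp only [deg_cast] at h
  exact_mod_cast h

private theorem smallDeg_subgroup {G : Type u} [Group G] [Finite G] {p : ℕ} (h : SmallDeg p G)
    (H : Subgroup G) : SmallDeg p H := by
  intro θ
  have := Fintype.ofFinite G
  have := Fintype.ofFinite H
  obtain ⟨χ, hχ⟩ := CfsgLib.Block.ItoMichler.exists_irr_over H θ
  exact lt_of_le_of_lt
    (degree_le_of_constituent (isCharacter_comp (isCharacter_irr χ) H.subtype) θ hχ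
      (a := charDegree (χ : G → ℂ)) (by rw [map_one]; exact deg_cast χ) (deg_cast θ)).1 (h χ)

private theorem smallDeg_quotient {G : Type u} [Group G] [Finite G] {p : ℕ} (h : SmallDeg p G)
    (N : Subgroup G) [N.Normal] : SmallDeg p (G ⧸ N) := fun θ =>
  h ⟨fun g => (θ : G ⧸ N → ℂ) g, isIrrCharacter_comp_surjective θ.2 (QuotientGroup.mk' N)
    (QuotientGroup.mk'_surjective N)⟩

private theorem not_dvd_degree {G : Type u} [Group G] [Finite G] {p : ℕ} (h : SmallDeg p G)
    (χ : IrrCharacter G) : ¬ p ∣ charDegree (χ : G → ℂ) := fun hd =>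
  (Nat.le_of_dvd (deg_pos χ) hd).not_gt (h χ)

private theorem sylow_comm {G : Type u} [Group G] [Finite G] {p : ℕ} [Fact p.Prime] (h : SmallDeg p G)
    (P : Sylow p G) : ∀ x ∈ (P : Subgroup G), ∀ y ∈ (P : Subgroup G), x * y = y * x := by
  have hP := smallDeg_subgroup h (P : Subgroup G)
  have := CfsgLib.Block.ItoMichler.comm_of_degrees (G := (P : Subgroup G))
    (fun χ => not_dvd_degree hP χ) (⊤ : Subgroup (P : Subgroup G))
    (P.isPGroup'.to_subgroup _)
  intro x hx y hy
  exact congrArg Subtype.val (congrArg Subtype.val (this.is_comm.comm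
    (⟨⟨x, hx⟩, mem_top _⟩ : (⊤ : Subgroup (P : Subgroup G))) ⟨⟨y, hy⟩, mem_top _⟩))

/-- The number of blocks of full defect is at most the number of regular elements of `C(P)`. -/
private theorem card_full_blocks {G : Type u} [Group G] [Finite G] {p : ℕ} [Fact p.Prime]
    {M : Ideal AlgInt} [M.IsMaximal] (hM : IsPModular p M) (P : Sylow p G) :
    Nat.card {B : Set (IrrCharacter G) // IsPBlock M B ∧ (Nat.card G).factorization p ≤ blockDefect p B}
      ≤ Nat.card {k : centralizer ((P : Subgroup G) : Set G) // ¬ p ∣ orderOf (k : G)} := by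
  classical
  have := Fintype.ofFinite G
  rw [card_blocks_full_defect_eq hM]
  have hkey : ∀ C : {C : ConjClasses G // IsRegClassGE p ((Nat.card G).factorization p) (rep C)},
      ∃ c : G, c * rep C.1 * c⁻¹ ∈ centralizer ((P : Subgroup G) : Set G) := by
    intro C
    set H := centralizer ({rep C.1} : Set G)
    let S : Sylow p H := default
    have hS : p ^ (Nat.card G).factorization p ≤ Nat.card ((S : Subgroup H).map H.subtype) := by
      rw [Subgroup.card_map_of_injective H.subtype_injective, S.card_eq_multiplicity]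
      exact Nat.pow_le_pow_right (Fact.out : p.Prime).pos C.2.2
    obtain ⟨Q, hQ⟩ := (S.isPGroup'.map H.subtype).exists_le_sylow
    have hQeq : (S : Subgroup H).map H.subtype = (Q : Subgroup G) :=
      Subgroup.eq_of_le_of_card_ge hQ (by rw [Q.card_eq_multiplicity]; exact hS)
    obtain ⟨c, hc⟩ := MulAction.exists_smul_eq G Q P
    refine ⟨c, Subgroup.mem_centralizer_iff.mpr fun y hy => ?_⟩
    rw [← hc, SetLike.mem_coe, Sylow.coe_subgroup_smul,
      Subgroup.mem_pointwise_smul_iff_inv_smul_mem, ← hQeq] at hy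
    obtain ⟨z, -, hz⟩ := hy
    have h1 : (z : G) * rep C.1 = rep C.1 * z := Subgroup.mem_centralizer_singleton_iff.mp z.2
    have h2 : (z : G) = c⁻¹ * y * c := by
      have : (z : G) = (MulAut.conj c)⁻¹ y := hz
      rw [this]; simp [mul_assoc]
    rw [h2] at h1
    calc y * (c * rep C.1 * c⁻¹) = c * ((c⁻¹ * y * c) * rep C.1) * c⁻¹ := by group
      _ = c * (rep C.1 * (c⁻¹ * y * c)) * c⁻¹ := by rw [h1]
      _ = c * rep C.1 * c⁻¹ * y := by group
  choose c hc using hkey
  refine Nat.card_le_card_of_injective (fun C => (⟨⟨_, hc C⟩, by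
    rw [show orderOf (c C * rep C.1 * (c C)⁻¹) = orderOf (rep C.1) from
      MulEquiv.orderOf_eq (MulAut.conj (c C)) _]
    exact C.2.1⟩ : {k : centralizer ((P : Subgroup G) : Set G) // ¬ p ∣ orderOf (k : G)})) ?_
  intro C C' h
  have h' : c C * rep C.1 * (c C)⁻¹ = c C' * rep C'.1 * (c C')⁻¹ :=
    congrArg (fun k : {k : centralizer ((P : Subgroup G) : Set G) // ¬ p ∣ orderOf (k : G)} =>
      ((k.1 : centralizer ((P : Subgroup G) : Set G)) : G)) h
  refine Subtype.ext ?_
  rw [← mk_rep C.1, ← mk_rep C'.1, ConjClasses.mk_eq_mk_iff_isConj, isConj_iff]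
  exact ⟨(c C')⁻¹ * c C, by
    rw [show (c C')⁻¹ * c C * rep C.1 * ((c C')⁻¹ * c C)⁻¹
      = (c C')⁻¹ * (c C * rep C.1 * (c C)⁻¹) * c C' by group, h']
    group⟩

private theorem full_defect {G : Type u} [Group G] [Finite G] {p : ℕ}
    (h : SmallDeg p G) {B : Set (IrrCharacter G)} {χ : IrrCharacter G} (hχ : χ ∈ B) :
    blockDefect p B = (Nat.card G).factorization p := by
  rw [blockDefect]
  have h0 : sInf ((fun χ : IrrCharacter G => (charDegree (χ : G → ℂ)).factorization p) '' B) = 0 :=
    Nat.sInf_eq_zero.mpr (Or.inl ⟨χ, hχ, Nat.factorization_eq_zero_of_not_dvd (not_dvd_degree h χ)⟩)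
  rw [h0, Nat.sub_zero]

/-- The number of elements of order prime to `p` in the centraliser of the abelian Sylow subgroup. -/
private theorem card_regular_mul {G : Type u} [Group G] [Finite G] {p : ℕ} [Fact p.Prime]
    (P : Sylow p G) (hab : ∀ x ∈ (P : Subgroup G), ∀ y ∈ (P : Subgroup G), x * y = y * x) :
    Nat.card {k : centralizer ((P : Subgroup G) : Set G) // ¬ p ∣ orderOf (k : G)}
      * Nat.card (P : Subgroup G) ≤ Nat.card (centralizer ((P : Subgroup G) : Set G)) := by
  have hp : p.Prime := Fact.out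
  rw [← Nat.card_prod]
  have hPC : (P : Subgroup G) ≤ centralizer ((P : Subgroup G) : Set G) := fun x hx =>
    Subgroup.mem_centralizer_iff.mpr fun y hy => hab y hy x hx
  refine Nat.card_le_card_of_injective (fun z => z.1.1 * Subgroup.inclusion hPC z.2) ?_
  rintro ⟨⟨⟨k, hk⟩, hkp⟩, ⟨u, hu⟩⟩ ⟨⟨⟨k', hk'⟩, hkp'⟩, ⟨u', hu'⟩⟩ h
  have h' : k * u = k' * u' := congrArg Subtype.val h
  have hpow : ∀ (a b : G), a ∈ centralizer ((P : Subgroup G) : Set G) → b ∈ (P : Subgroup G) →
      (a * b) ^ Nat.card (P : Subgroup G) = a ^ Nat.card (P : Subgroup G) := fun a b ha hb => by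
    have hab' : Commute a b := (Subgroup.mem_centralizer_iff.mp ha b hb).symm
    rw [hab'.mul_pow]
    have : b ^ Nat.card (P : Subgroup G) = 1 :=
      congrArg Subtype.val (pow_card_eq_one' (x := (⟨b, hb⟩ : (P : Subgroup G))))
    rw [this, mul_one]
  have h2 := congrArg (· ^ Nat.card (P : Subgroup G)) h'
  simp only [hpow _ _ hk hu, hpow _ _ hk' hu'] at h2
  obtain ⟨n, hn⟩ := IsPGroup.iff_card.1 P.isPGroup'
  rw [hn] at h2
  have hc : (orderOf k * orderOf k').Coprime (p ^ n) :=
    Nat.Coprime.pow_right n (Nat.Coprime.mul_left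
      ((hp.coprime_iff_not_dvd.mpr hkp).symm) ((hp.coprime_iff_not_dvd.mpr hkp').symm))
  obtain ⟨b, hb⟩ : ∃ b : ℕ, p ^ n * b ≡ 1 [MOD orderOf k * orderOf k'] := by
    rcases Nat.eq_or_lt_of_le (Nat.one_le_iff_ne_zero.mpr
      (Nat.mul_ne_zero (orderOf_pos k).ne' (orderOf_pos k').ne')) with h1 | h1
    · exact ⟨0, by rw [← h1]; exact Nat.modEq_one⟩
    · obtain ⟨b, -, hb⟩ := Nat.exists_mul_mod_eq_one_of_coprime hc.symm h1
      exact ⟨b, by rw [Nat.ModEq, hb, Nat.mod_eq_of_lt h1]⟩
  have e : ∀ a : G, orderOf a ∣ orderOf k * orderOf k' → (a ^ p ^ n) ^ b = a := fun a ha => by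
    rw [← pow_mul, pow_eq_pow_of_modEq (hb.of_dvd ha) (pow_orderOf_eq_one a), pow_one]
  have hkk : k = k' := by
    rw [← e k (dvd_mul_right _ _), h2, e k' (dvd_mul_left _ _)]
  subst hkk
  have huu : u = u' := mul_left_cancel h'
  subst huu
  rfl

/-- A Sylow subgroup of order at least `p²` that is a trivial intersection set. -/
private theorem false_of_large {G : Type u} [Group G] [Finite G] {p : ℕ} [Fact p.Prime]
    (h : SmallDeg p G) (P : Sylow p G) (hPn : ¬ (P : Subgroup G).Normal)
    (hTI : ∀ Q : Sylow p G, Q ≠ P → (P : Subgroup G) ⊓ (Q : Subgroup G) = ⊥)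
    (hbig : 2 ≤ (Nat.card G).factorization p) : False := by
  classical
  have hp : p.Prime := Fact.out
  have := Fintype.ofFinite G
  have := Fintype.ofFinite (IrrCharacter G)
  obtain ⟨M, hM⟩ := exists_pModular hp
  have := hM.2.1
  set v := (Nat.card G).factorization p with hv
  set q := Nat.card (P : Subgroup G) with hq
  have hqv : q = p ^ v := P.card_eq_multiplicity
  -- the number of characters
  have hk : Fintype.card (IrrCharacter G) ≤ bfBound p v * Nat.card
      {B : Set (IrrCharacter G) // IsPBlock M B ∧ v ≤ blockDefect p B} := by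
    let f : IrrCharacter G → {B : Set (IrrCharacter G) // IsPBlock M B ∧ v ≤ blockDefect p B} :=
      fun χ => ⟨blockOf M (χ : G → ℂ), isPBlock_blockOf χ, (full_defect h (self_mem_blockOf χ)).ge⟩
    have := Fintype.ofFinite {B : Set (IrrCharacter G) // IsPBlock M B ∧ v ≤ blockDefect p B}
    rw [Nat.card_eq_fintype_card]
    have h1 := Finset.card_le_mul_card_image (s := Finset.univ (α := IrrCharacter G)) (f := f)
      (bfBound p v) (fun B hB => ?_)
    · exact h1.trans (Nat.mul_le_mul_left _ (Finset.card_le_univ _))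
    · obtain ⟨χ, -, rfl⟩ := Finset.mem_image.mp hB
      have h2 := card_le_bfBound hM v G (blockOf M (χ : G → ℂ)) (isPBlock_blockOf χ)
        (full_defect h (self_mem_blockOf χ))
      refine le_trans ?_ h2
      rw [Nat.card_eq_fintype_card, ← Fintype.card_subtype]
      refine Fintype.card_le_of_injective (fun ψ => ⟨ψ.1, ?_⟩) fun a b e => by
        simpa [Subtype.ext_iff] using e
      have e : f ψ.1 = f χ := ψ.2
      have e' : blockOf M (ψ.1 : G → ℂ) = blockOf M (χ : G → ℂ) := congrArg Subtype.val e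
      exact e' ▸ self_mem_blockOf ψ.1
  set R := Nat.card {k : centralizer ((P : Subgroup G) : Set G) // ¬ p ∣ orderOf (k : G)}
  have hk2 : Fintype.card (IrrCharacter G) ≤ bfBound p v * R :=
    hk.trans (Nat.mul_le_mul_left _ (card_full_blocks hM P))
  -- the sum of squares
  have hn : Nat.card G ≤ (p - 1) ^ 2 * (bfBound p v * R) := by
    rw [← sum_sq]
    calc ∑ χ : IrrCharacter G, charDegree (χ : G → ℂ) ^ 2
        ≤ ∑ _χ : IrrCharacter G, (p - 1) ^ 2 :=
          Finset.sum_le_sum fun χ _ => Nat.pow_le_pow_left (Nat.le_sub_one_of_lt (h χ)) 2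
      _ = (p - 1) ^ 2 * Fintype.card (IrrCharacter G) := by
          rw [Finset.sum_const, Finset.card_univ, smul_eq_mul, mul_comm]
      _ ≤ _ := Nat.mul_le_mul_left _ hk2
  -- the number of Sylow subgroups
  have hsyl : q + 1 ≤ Nat.card (Sylow p G) := by
    have hQ : ∃ Q : Sylow p G, Q ≠ P := by
      by_contra hc
      push_neg at hc
      have : Subsingleton (Sylow p G) := ⟨fun a b => (hc a).trans (hc b).symm⟩
      exact hPn P.normal_of_subsingleton
    obtain ⟨Q, hQ⟩ := hQ
    rw [hq, ← Finite.card_option]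
    refine Nat.card_le_card_of_injective (fun o : Option (P : Subgroup G) => o.elim P (fun u => (u : G) • Q)) ?_
    have hne : ∀ u : (P : Subgroup G), P ≠ (u : G) • Q := fun u e => hQ (by
      have h1 : (u : G)⁻¹ • P = Q := inv_smul_eq_iff.mpr e
      rw [← h1]
      exact Sylow.smul_eq_iff_mem_normalizer.mpr (Subgroup.le_normalizer (inv_mem u.2)))
    rintro (_ | u) (_ | w) e
    · rfl
    · exact absurd e (hne w)
    · exact absurd e.symm (hne u)
    · have e' : ((w : G)⁻¹ * u) • Q = Q := by
        rw [mul_smul]; exact inv_smul_eq_iff.mpr e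
      have hmem : (w : G)⁻¹ * u ∈ normalizer ((Q : Subgroup G) : Set G) :=
        Sylow.smul_eq_iff_mem_normalizer.mp e'
      have hin : (w : G)⁻¹ * u ∈ (P : Subgroup G) := mul_mem (inv_mem w.2) u.2
      have hinQ : (w : G)⁻¹ * u ∈ (Q : Subgroup G) := by
        obtain ⟨j, hj⟩ := (IsPGroup.iff_orderOf (p := p)).1 P.isPGroup' ⟨_, hin⟩
        have hpz : IsPGroup p (zpowers ((w : G)⁻¹ * u)) :=
          IsPGroup.of_card (n := j) (by rw [Nat.card_zpowers, ← hj, Subgroup.orderOf_mk])
        have hsup : IsPGroup p ↥((Q : Subgroup G) ⊔ zpowers ((w : G)⁻¹ * u)) :=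
          Q.isPGroup'.to_sup_of_normal_left' hpz (Subgroup.zpowers_le.mpr hmem)
        exact (Q.is_maximal' hsup le_sup_left) ▸ Subgroup.mem_sup_right (mem_zpowers _)
      have := hTI Q hQ
      have h0 : (w : G)⁻¹ * u = 1 := Subgroup.mem_bot.mp (this ▸ ⟨hin, hinQ⟩)
      exact congrArg some (Subtype.ext (inv_mul_eq_one.mp h0).symm)
  have hRq := card_regular_mul P (sylow_comm h P)
  have hCN : Nat.card (centralizer ((P : Subgroup G) : Set G))
      ≤ Nat.card (normalizer ((P : Subgroup G) : Set G)) :=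
    Subgroup.card_le_of_le (Subgroup.centralizer_le_normalizer _)
  have hidx := Subgroup.index_mul_card (normalizer ((P : Subgroup G) : Set G))
  rw [show (normalizer ((P : Subgroup G) : Set G)).index = Nat.card (Sylow p G) from
    (Sylow.card_eq_index_normalizer P).symm] at hidx
  have hlow : (q + 1) * (R * q) ≤ Nat.card G :=
    hidx ▸ Nat.mul_le_mul hsyl (hRq.trans hCN)
  have hR : 0 < R := Nat.card_pos_iff.mpr ⟨⟨⟨⟨1, one_mem _⟩, by
    simp [hp.one_lt.ne', Nat.dvd_one]⟩⟩, inferInstance⟩
  have hbf : bfBound p v * p ^ 2 ≤ q * q := by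
    rw [hqv, ← pow_add, bfBound]
    split_ifs with h2
    · rw [← pow_add]; exact Nat.pow_le_pow_right hp.pos (by omega)
    · rw [← pow_add]; exact Nat.pow_le_pow_right hp.pos (by omega)
  have hup : Nat.card G ≤ q * q * R :=
    calc Nat.card G ≤ (p - 1) ^ 2 * (bfBound p v * R) := hn
      _ ≤ p ^ 2 * (bfBound p v * R) :=
          Nat.mul_le_mul_right _ (Nat.pow_le_pow_left (Nat.sub_le p 1) 2)
      _ = bfBound p v * p ^ 2 * R := by ring
      _ ≤ q * q * R := Nat.mul_le_mul_right _ hbf
  have hpos : 0 < R * q := Nat.mul_pos hR (hqv ▸ pow_pos hp.pos v)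
  nlinarith

open CfsgLib.Block.Cyclic in
/-- A Sylow subgroup of order `p` in a simple group. -/
private theorem false_of_prime {G : Type u} [Group G] [Finite G] {p : ℕ} [Fact p.Prime]
    [IsSimpleGroup G] (hnab : ¬ IsMulCommutative G) (h : SmallDeg p G) (P : Sylow p G)
    (hP : Nat.card (P : Subgroup G) = p) : False := by
  classical
  have hp : p.Prime := Fact.out
  let _ : Fintype G := Fintype.ofFinite G
  let _ : DecidableEq G := Classical.decEq G
  let _ : Fintype (IrrCharacter G) := Fintype.ofFinite _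
  obtain ⟨M, hM⟩ := exists_pModular hp
  have := hM.2.1
  have hsq := not_sq_dvd_of_sylow hP
  have hlin : ∀ χ : IrrCharacter G, charDegree (χ : G → ℂ) = 1 → χ = oneChar G := by
    intro χ hχ
    obtain ⟨lam, hlam⟩ := (linearCharEquiv (G := G)).surjective
      ⟨χ, by rw [deg_cast, hχ, Nat.cast_one]⟩
    have e : (χ : G → ℂ) = fun g => (lam g : ℂ) :=
      (congrArg (fun z : {χ : IrrCharacter G // (χ : G → ℂ) 1 = 1} =>
        ((z.1 : IrrCharacter G) : G → ℂ)) hlam).symm
    rcases (inferInstance : lam.ker.Normal).eq_bot_or_eq_top with hk | hk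
    · exfalso
      refine hnab ⟨⟨fun a b => ?_⟩⟩
      exact (MonoidHom.ker_eq_bot_iff lam).mp hk (by rw [map_mul, map_mul, mul_comm])
    · refine Subtype.ext ?_
      rw [e]
      funext g
      have : lam g = 1 := MonoidHom.mem_ker.mp (hk ▸ mem_top g)
      rw [this]; rfl
  have hp2 : 2 < p := by
    refine lt_of_le_of_ne hp.two_le fun e => hnab ⟨⟨comm_of_degree_one fun χ => ?_⟩⟩
    have := h χ
    have := deg_pos χ
    rw [deg_cast, show charDegree (χ : G → ℂ) = 1 by omega, Nat.cast_one]
  obtain ⟨D, hD⟩ := exists_cycSetup hP hsq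
  let D₀ : CycSetup p G := D.withChar (oneChar D.K)
  let _ : Fintype D₀.K := Fintype.ofFinite _
  let _ : Fintype (centralizer (D₀.Q : Set G)) := Fintype.ofFinite _
  have htriv : ∀ y, (D₀.φ : D₀.K → ℂ) y = 1 := fun _ => rfl
  have hB : D₀.BlockData M (principalBlock M G) := D₀.blockData_principal hM hD htriv
  have hstab : D₀.stab = normalizer (D₀.Q : Set G) := D₀.stab_eq_normalizer htriv
  have hrel : D₀.stab.relIndex (normalizer (D₀.Q : Set G)) = 1 := by
    rw [hstab, Subgroup.relIndex_self]
  have hφd : charDegree (D₀.φ : D₀.K → ℂ) = 1 := by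
    have := deg_cast D₀.φ
    rw [htriv] at this
    exact_mod_cast this.symm
  -- `K` is in the kernel of every character of the principal block
  have hker : ∀ χ ∈ principalBlock M G, ∀ y : D₀.K, (χ : G → ℂ) y = (χ : G → ℂ) 1 := by
    intro χ hχ y
    let _ : Fintype (IrrCharacter D₀.K) := Fintype.ofFinite _
    have hval : ∀ z : D₀.K, (χ : G → ℂ) z = ∑ φ' : IrrCharacter D₀.K,
        secMult (χ : G → ℂ) (φ' : D₀.K → ℂ) 1 * (φ' : D₀.K → ℂ) z := fun z => by
      have hv := value_eq_sum D₀.hQ D₀.hK (isClassFunction_irr χ) D₀.Q.one_mem z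
      rwa [one_mul] at hv
    have hout : ∀ φ' : IrrCharacter D₀.K, ∃ m : ℕ, φ' ≠ D₀.φ →
        secMult (χ : G → ℂ) (φ' : D₀.K → ℂ) 1 = p * m := by
      intro φ'
      by_cases e : φ' = D₀.φ
      · exact ⟨0, fun hne => absurd e hne⟩
      · obtain ⟨m, hm⟩ := D₀.secMult_one_zero χ φ'
          (hB.sec_out χ hχ φ' fun ho => e (D₀.inOrbit_eq htriv ho))
        exact ⟨m, fun _ => hm⟩
    choose m hm using hout
    obtain ⟨c, hc⟩ := classInner_char_irr_nat (isCharacter_comp (isCharacter_irr χ) D₀.K.subtype) D₀.φ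
    have hc' : secMult (χ : G → ℂ) (D₀.φ : D₀.K → ℂ) 1 = c := by
      rw [← hc, secMult]; simp
    have hdec : ∀ z : D₀.K, (χ : G → ℂ) z = (c : ℂ) + (p : ℂ) *
        ∑ φ' ∈ Finset.univ.erase D₀.φ, (m φ' : ℂ) * (φ' : D₀.K → ℂ) z := fun z => by
      rw [hval z, ← Finset.add_sum_erase _ _ (Finset.mem_univ D₀.φ), hc', htriv, mul_one,
        Finset.mul_sum]
      congr 1
      exact Finset.sum_congr rfl fun φ' hφ' => by rw [hm φ' (Finset.ne_of_mem_erase hφ'), mul_assoc]
    have h1 := hdec 1
    simp only [OneMemClass.coe_one, deg_cast] at h1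
    have h2 : charDegree (χ : G → ℂ) = c + p * ∑ φ' ∈ Finset.univ.erase D₀.φ,
        m φ' * charDegree (φ' : D₀.K → ℂ) := by exact_mod_cast h1
    have hm0 : ∀ φ' ∈ Finset.univ.erase D₀.φ, m φ' = 0 := by
      intro φ' hφ'
      by_contra hne
      have h3 : 1 ≤ m φ' * charDegree (φ' : D₀.K → ℂ) :=
        Nat.one_le_iff_ne_zero.mpr (Nat.mul_ne_zero hne (deg_pos φ').ne')
      have h4 := h3.trans (Finset.single_le_sum (f := fun φ' => m φ' * charDegree (φ' : D₀.K → ℂ))
        (fun _ _ => Nat.zero_le _) hφ')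
      have h5 := Nat.mul_le_mul_left p h4
      have := h χ
      omega
    have hz : ∀ z : D₀.K, (χ : G → ℂ) z = (c : ℂ) := fun z => by
      rw [hdec z, Finset.sum_eq_zero fun φ' hφ' => by rw [hm0 φ' hφ', Nat.cast_zero, zero_mul],
        mul_zero, add_zero]
    have h6 := hz 1
    rw [OneMemClass.coe_one] at h6
    rw [hz y, h6]
  obtain ⟨E⟩ := D₀.exists_exceptional_family hM hB
  set e := Nat.card D₀.expE with he
  have he0 : 0 < e := Nat.card_pos
  have hep : e ∣ p - 1 := by
    have := D₀.expE.card_subgroup_dvd_card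
    rwa [Nat.card_eq_fintype_card (α := (ZMod p)ˣ), ZMod.card_units_eq_totient,
      Nat.totient_prime hp] at this
  have helt : e < p := lt_of_le_of_lt (Nat.le_of_dvd (by omega) hep) (by omega)
  have hone : oneChar G ∈ principalBlock M G := one_mem_principalBlock
  have hone1 : charDegree (oneChar G : G → ℂ) = 1 := by
    have := deg_cast (oneChar G)
    rw [show (oneChar G : G → ℂ) 1 = 1 from rfl] at this
    exact_mod_cast this.symm
  -- a nontrivial character of the block: `K` is trivial
  have hzero : ∀ (a : ℤ), a.natAbs < p → (p : ℤ) ∣ a → a = 0 := fun a ha hd =>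
    Int.eq_zero_of_dvd_of_natAbs_lt_natAbs hd (by simpa using ha)
  have hdu : ∀ χ : IrrCharacter G, E.u χ ≠ 0 →
      (E.u χ = -1 ∧ charDegree (χ : G → ℂ) = 1) ∨ (E.u χ = 1 ∧ charDegree (χ : G → ℂ) = p - 1) := by
    intro χ hu
    have hmod := CycSetup.Exceptional.charDegree_u E hB hu
    rw [hrel, hφd] at hmod
    rw [Int.modEq_comm, Int.modEq_iff_dvd] at hmod
    have hlt := h χ
    have hd0 := deg_pos χ
    rcases E.u_cases χ with h0 | h1 | h1
    · exact absurd h0 hu
    · refine Or.inr ⟨h1, ?_⟩
      rw [h1] at hmod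
      have : (p : ℤ) ∣ (charDegree (χ : G → ℂ) : ℤ) + 1 - p := by
        have := dvd_sub (show (p : ℤ) ∣ (charDegree (χ : G → ℂ) : ℤ) + 1 by simpa using hmod)
          (dvd_refl (p : ℤ))
        exact this
      have := hzero _ (by omega) this
      omega
    · refine Or.inl ⟨h1, ?_⟩
      rw [h1] at hmod
      have := hzero ((charDegree (χ : G → ℂ) : ℤ) - 1) (by omega) (by simpa using hmod)
      omega
  have hdY : ∀ k, (E.δ = 1 ∧ charDegree (E.Y k : G → ℂ) = e) ∨
      (E.δ = -1 ∧ charDegree (E.Y k : G → ℂ) = p - e) := by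
    intro k
    have hmod := CycSetup.Exceptional.charDegree_Y E hB k
    rw [hrel, hφd, ← he] at hmod
    rw [Int.modEq_comm, Int.modEq_iff_dvd] at hmod
    have hlt := h (E.Y k)
    have hd0 := deg_pos (E.Y k)
    rcases E.sign with h1 | h1
    · refine Or.inl ⟨h1, ?_⟩
      rw [h1] at hmod
      have := hzero ((charDegree (E.Y k : G → ℂ) : ℤ) - e) (by omega) (by simpa using hmod)
      omega
    · refine Or.inr ⟨h1, ?_⟩
      rw [h1] at hmod
      have : (p : ℤ) ∣ (charDegree (E.Y k : G → ℂ) : ℤ) + e - p :=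
        dvd_sub (by simpa using hmod) (dvd_refl (p : ℤ))
      have := hzero _ (by omega) this
      omega
  let k₀ : (ZMod p)ˣ ⧸ D₀.expE := (1 : (ZMod p)ˣ)
  set U := Finset.univ.filter fun χ : IrrCharacter G => E.u χ ≠ 0 with hU
  have hUcard : U.card = e := by
    rw [he, ← E.card_u, Nat.card_eq_fintype_card, hU, ← Fintype.card_subtype]
  have hrelation : ∑ χ ∈ U, E.u χ * (charDegree (χ : G → ℂ) : ℤ)
      + E.δ * (charDegree (E.Y k₀ : G → ℂ) : ℤ) = 0 := by
    have hr := CycSetup.Exceptional.relation E k₀ (g := 1) (by simp [hp.one_lt.ne', Nat.dvd_one])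
    rw [finsum_mem_eq_toFinset_sum, Set.toFinset_ofPred] at hr
    simp only [deg_cast] at hr
    exact_mod_cast hr
  -- the trivial character is not exceptional
  have hone_u : E.u (oneChar G) = -1 := by
    rcases (E.mem _).mp hone with hu | ⟨k, hk⟩
    · rcases hdu _ hu with h1 | h1
      · exact h1.1
      · rw [hone1] at h1; omega
    · exfalso
      have hsub : ∀ k' : (ZMod p)ˣ ⧸ D₀.expE, k' = k := fun k' => by
        apply E.inj
        rw [hk]
        refine hlin _ ?_
        have h1 := hdY k
        rw [hk, hone1] at h1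
        rcases hdY k' with h2 | h2 <;> rcases h1 with h3 | h3
        · omega
        · omega
        · omega
        · omega
      have hcardq : Nat.card ((ZMod p)ˣ ⧸ D₀.expE) = 1 :=
        Nat.card_eq_one_iff_unique.mpr ⟨⟨fun a b => (hsub a).trans (hsub b).symm⟩, ⟨k⟩⟩
      have hek : e = p - 1 := by
        have := D₀.expE.card_eq_card_quotient_mul_card_subgroup
        rw [hcardq, one_mul, Nat.card_eq_fintype_card (α := (ZMod p)ˣ), ZMod.card_units_eq_totient,
          Nat.totient_prime hp] at this
        exact this.symm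
      have hall : ∀ χ ∈ U, E.u χ * (charDegree (χ : G → ℂ) : ℤ) = (p : ℤ) - 1 := by
        intro χ hχ
        rcases hdu χ (Finset.mem_filter.mp hχ).2 with h1 | h1
        · exact absurd (hlin χ h1.2 ▸ (Finset.mem_filter.mp hχ).2) (by rw [← hk, E.u_Y]; simp)
        · rw [h1.1, h1.2, one_mul, Nat.cast_sub hp.one_le, Nat.cast_one]
      rw [Finset.sum_congr rfl hall, Finset.sum_const, hUcard, nsmul_eq_mul, hsub k₀, hk, hone1,
        hek, Nat.cast_sub hp.one_le] at hrelation
      have h3 : (3 : ℤ) ≤ p := by exact_mod_cast hp2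
      rcases E.sign with h1 | h1 <;> rw [h1] at hrelation <;> push_cast at hrelation <;> nlinarith
  have honeU : oneChar G ∈ U := Finset.mem_filter.mpr ⟨Finset.mem_univ _, by rw [hone_u]; decide⟩
  have hothers : ∀ χ ∈ U.erase (oneChar G), E.u χ = 1 ∧ charDegree (χ : G → ℂ) = p - 1 := by
    intro χ hχ
    rcases hdu χ (Finset.mem_filter.mp (Finset.mem_of_mem_erase hχ)).2 with h1 | h1
    · exact absurd (hlin χ h1.2) (Finset.ne_of_mem_erase hχ)
    · exact h1
  rw [← Finset.add_sum_erase _ _ honeU, hone_u, hone1,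
    Finset.sum_congr rfl fun χ hχ => by rw [(hothers χ hχ).1, (hothers χ hχ).2],
    Finset.sum_const, Finset.card_erase_of_mem honeU, hUcard] at hrelation
  push_cast [Nat.cast_sub hp.one_le, Nat.cast_sub (show 1 ≤ e from he0), nsmul_eq_mul] at hrelation
  have hY1 : ∀ k, charDegree (E.Y k : G → ℂ) ≠ 1 := fun k hk1 => by
    have e1 := hlin _ hk1
    have := E.u_Y k
    rw [e1, hone_u] at this
    omega
  have h3 : (3 : ℤ) ≤ p := by exact_mod_cast hp2
  have he2 : e = 2 ∧ ∀ k, charDegree (E.Y k : G → ℂ) = p - 2 := by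
    rcases hdY k₀ with h1 | h1
    · exfalso
      rw [h1.1, h1.2] at hrelation
      have h4 : ((e : ℤ) - 1) * p = 0 := by linear_combination hrelation
      rcases mul_eq_zero.mp h4 with h5 | h5
      · exact hY1 k₀ (by rw [h1.2]; omega)
      · omega
    · rw [h1.1, h1.2, Nat.cast_sub helt.le] at hrelation
      have h4 : ((e : ℤ) - 2) * p = 0 := by linear_combination hrelation
      rcases mul_eq_zero.mp h4 with h5 | h5
      · have he2 : e = 2 := by omega
        refine ⟨he2, fun k => ?_⟩
        rcases hdY k with h2 | h2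
        · rw [h1.1] at h2; exact absurd h2.1 (by decide)
        · rw [h2.2, he2]
      · omega
  obtain ⟨he2, hYd⟩ := he2
  -- every character lies in the principal block
  have hK : D₀.K = ⊥ := by
    refine (Subgroup.eq_bot_iff_forall _).mpr fun y hy => ?_
    have hne := hY1 k₀
    let ρset : Subgroup G :=
      { carrier := {g | (E.Y k₀ : G → ℂ) g = (E.Y k₀ : G → ℂ) 1}
        one_mem' := rfl
        mul_mem' := fun {a b} ha hb =>
          (CfsgLib.Block.PPrimeKernel.mul_left_of_eq_degree (isCharacter_irr _) ha b).trans hb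
        inv_mem' := fun {a} ha => by
          show (E.Y k₀ : G → ℂ) a⁻¹ = (E.Y k₀ : G → ℂ) 1
          rw [← CfsgLib.Block.PPrimeKernel.mul_left_of_eq_degree (isCharacter_irr _) ha a⁻¹,
            mul_inv_cancel] }
    have : ρset.Normal := ⟨fun a ha g => (isClassFunction_irr (E.Y k₀) a g).trans ha⟩
    rcases this.eq_bot_or_eq_top with h1 | h1
    · exact Subgroup.mem_bot.mp (h1 ▸ hker _ (E.mem_of_range k₀) ⟨y, hy⟩)
    · exfalso
      apply hne
      obtain ⟨c, hc⟩ : ∃ c : ℂ, ∀ g, (E.Y k₀ : G → ℂ) g = c :=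
        ⟨_, fun g => (h1 ▸ mem_top g : g ∈ ρset)⟩
      have hn := classInner_irr_self (E.Y k₀)
      simp only [classInner, hc, Finset.sum_const, Finset.card_univ, nsmul_eq_mul,
        ← Nat.card_eq_fintype_card] at hn
      rw [← mul_assoc, inv_mul_cancel₀ (Nat.cast_ne_zero.mpr Nat.card_pos.ne'), one_mul] at hn
      have hd := deg_cast (E.Y k₀)
      rw [hc] at hd
      rw [hd, map_natCast] at hn
      have hn' : charDegree (E.Y k₀ : G → ℂ) * charDegree (E.Y k₀ : G → ℂ) = 1 := by exact_mod_cast hn
      exact Nat.eq_one_of_mul_eq_one_right hn'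
  have hall : ∀ χ : IrrCharacter G, χ ∈ principalBlock M G := by
    intro χ
    have hsub : Subsingleton {B : Set (IrrCharacter G) //
        IsPBlock M B ∧ (Nat.card G).factorization p ≤ blockDefect p B} := by
      refine Finite.card_le_one_iff_subsingleton.mp ((card_full_blocks hM P).trans ?_)
      refine Finite.card_le_one_iff_subsingleton.mpr ⟨fun a b => ?_⟩
      have key : ∀ k : {k : centralizer ((P : Subgroup G) : Set G) // ¬ p ∣ orderOf (k : G)},
          ((k.1 : centralizer ((P : Subgroup G) : Set G)) : G) = 1 := fun k => by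
        have : ((k.1 : centralizer ((P : Subgroup G) : Set G)) : G) ∈ D₀.K :=
          (D₀.hK _).mpr ⟨by rw [show D₀.Q = (P : Subgroup G) from hD]; exact k.1.2, k.2⟩
        rwa [hK, Subgroup.mem_bot] at this
      exact Subtype.ext (Subtype.ext ((key a).trans (key b).symm))
    have := congrArg Subtype.val (hsub.elim
      (⟨blockOf M (χ : G → ℂ), isPBlock_blockOf χ, (full_defect h (self_mem_blockOf χ)).ge⟩ :
        {B : Set (IrrCharacter G) // IsPBlock M B ∧ (Nat.card G).factorization p ≤ blockDefect p B})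
      ⟨principalBlock M G, isPBlock_principalBlock, (full_defect h hone).ge⟩)
    exact (show blockOf M (χ : G → ℂ) = principalBlock M G from this) ▸ self_mem_blockOf χ
  -- the order
  have horder : 2 * Nat.card G = 2 + 2 * (p - 1) ^ 2 + (p - 1) * (p - 2) ^ 2 := by
    have hsplit : (Finset.univ : Finset (IrrCharacter G)) = U ∪ Finset.univ.image E.Y := by
      ext χ
      simp only [Finset.mem_univ, Finset.mem_union, hU, Finset.mem_filter, Finset.mem_image, true_and,
        true_iff]
      rcases (E.mem χ).mp (hall χ) with h1 | ⟨k, rfl⟩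
      · exact Or.inl h1
      · exact Or.inr ⟨k, rfl⟩
    have hdis : Disjoint U (Finset.univ.image E.Y) := by
      rw [Finset.disjoint_left]
      intro χ hχ hχ'
      obtain ⟨k, -, rfl⟩ := Finset.mem_image.mp hχ'
      exact (Finset.mem_filter.mp hχ).2 (E.u_Y k)
    rw [← sum_sq, hsplit, Finset.sum_union hdis, ← Finset.add_sum_erase _ _ honeU, hone1,
      Finset.sum_congr rfl fun χ hχ => by rw [(hothers χ hχ).2],
      Finset.sum_const, Finset.card_erase_of_mem honeU, hUcard, he2,
      Finset.sum_image (fun a _ b _ hab => E.inj hab),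
      Finset.sum_congr rfl fun k _ => by rw [hYd k],
      Finset.sum_const, Finset.card_univ, smul_eq_mul, smul_eq_mul, ← Nat.card_eq_fintype_card]
    have hq := D₀.expE.card_eq_card_quotient_mul_card_subgroup
    rw [Nat.card_eq_fintype_card (α := (ZMod p)ˣ), ZMod.card_units_eq_totient,
      Nat.totient_prime hp, ← he, he2] at hq
    rw [hq]
    ring
  obtain ⟨q, rfl⟩ : ∃ q, p = q + 2 := ⟨p - 2, by omega⟩
  have hdvd : q ∣ Nat.card G := by
    have := hYd k₀
    rw [Nat.add_sub_cancel] at this
    exact this ▸ degree_dvd_card (E.Y k₀) (deg_cast _)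
  have hq4 : q ∣ 4 := by
    have h1 : q ∣ 2 * Nat.card G := hdvd.mul_left 2
    rw [horder, Nat.add_sub_cancel, show q + 2 - 1 = q + 1 from rfl,
      show 2 + 2 * (q + 1) ^ 2 + (q + 1) * q ^ 2 = 4 + q * (4 + 2 * q + (q + 1) * q) by ring] at h1
    exact (Nat.dvd_add_left (dvd_mul_right q _)).mp h1
  have hq1 : q ≠ 1 := fun e1 => hY1 k₀ (by rw [hYd k₀, e1])
  obtain ⟨j, -, hj⟩ := (Nat.dvd_prime_pow Nat.prime_two).mp (show q ∣ 2 ^ 2 by exact hq4)
  rcases Nat.eq_zero_or_pos j with rfl | hj0
  · exact hq1 (by simpa using hj)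
  · have h2q : 2 ∣ q + 2 := Nat.dvd_add (hj ▸ dvd_pow_self 2 hj0.ne') dvd_rfl
    rcases hp.eq_one_or_self_of_dvd 2 h2q with h1 | h1 <;> omega

/-- The main induction. -/
private theorem sylow_normal (p : ℕ) [Fact p.Prime] :
    ∀ (n : ℕ) (G : Type u) [Group G] [Finite G], Nat.card G = n → SmallDeg p G →
      ∀ P : Sylow p G, (P : Subgroup G).Normal := by
  intro n
  induction n using Nat.strong_induction_on with
  | _ n ih =>
    intro G _ _ hn h P
    subst hn
    classical
    have hp : p.Prime := Fact.out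
    by_contra hPn
    have hsub : ∀ H : Subgroup G, H ≠ ⊤ → ∀ S : Sylow p H, (S : Subgroup H).Normal := fun H hH S => by
      refine ih _ ?_ H rfl (smallDeg_subgroup h H) S
      exact lt_of_le_of_ne (Subgroup.card_le_card_group H) fun e => hH ((Subgroup.card_eq_iff_eq_top H).mp e)
    -- proper subgroups containing `P` normalise it
    have hnorm : ∀ H : Subgroup G, H ≠ ⊤ → (P : Subgroup G) ≤ H →
        H ≤ normalizer ((P : Subgroup G) : Set G) := by
      intro H hH hle
      have hn := hsub H hH (P.subtype hle)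
      intro x hx
      refine Subgroup.mem_normalizer_iff.mpr fun y => ⟨fun hy => ?_, fun hy => ?_⟩
      · have := hn.conj_mem ⟨y, hle hy⟩ hy ⟨x, hx⟩
        exact this
      · have hyH : y ∈ H := by
          have := mul_mem (mul_mem (inv_mem hx) (hle hy)) hx
          rwa [show x⁻¹ * (x * y * x⁻¹) * x = y by group] at this
        have := hn.conj_mem' ⟨x * y * x⁻¹, hle hy⟩ hy ⟨x, hx⟩
        have e : (⟨x, hx⟩ : H)⁻¹ * ⟨x * y * x⁻¹, hle hy⟩ * ⟨x, hx⟩ = ⟨y, hyH⟩ :=
          Subtype.ext (by simp [mul_assoc])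
        rw [e] at this
        exact this
    -- the group is simple
    have hsimple : IsSimpleGroup G := by
      have : Nontrivial G := by
        by_contra hc
        rw [not_nontrivial_iff_subsingleton] at hc
        exact hPn ⟨fun x hx g => by rwa [Subsingleton.elim (g * x * g⁻¹) x]⟩
      refine ⟨fun N hN => ?_⟩
      by_contra hc
      push_neg at hc
      obtain ⟨hb, ht⟩ := hc
      let S : Sylow p N := default
      have hSn := hsub N ht S
      have hSc := Sylow.characteristic_of_normal S hSn
      have hS' : ((S : Subgroup N).map N.subtype).Normal := ConjAct.normal_of_characteristic_of_normal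
      by_cases hS0 : (S : Subgroup N).map N.subtype = ⊥
      · have hN' : ¬ p ∣ Nat.card N := by
          intro hd
          have := Subgroup.card_eq_one.mpr hS0
          rw [Subgroup.card_map_of_injective N.subtype_injective, S.card_eq_multiplicity] at this
          have h2 := hp.factorization_pos_of_dvd Nat.card_pos.ne' hd
          exact absurd this (Nat.one_lt_pow h2.ne' hp.one_lt).ne'
        have hPN : ((P : Subgroup G) ⊔ N).Normal := by
          have h1 := ih (Nat.card (G ⧸ N)) (by
            rw [Subgroup.card_eq_card_quotient_mul_card_subgroup N]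
            exact lt_mul_of_one_lt_right Nat.card_pos ((Subgroup.one_lt_card_iff_ne_bot N).mpr hb))
            (G ⧸ N) rfl (smallDeg_quotient h N) (P.mapSurjective (QuotientGroup.mk'_surjective N))
          rw [Sylow.coe_mapSurjective] at h1
          have h2 := h1.comap (QuotientGroup.mk' N)
          rwa [Subgroup.comap_map_eq, QuotientGroup.ker_mk'] at h2
        by_cases htop : (P : Subgroup G) ⊔ N = ⊤
        · refine hPn (CfsgLib.Block.ItoMichler.normal_sylow G ?_ (not_dvd_degree h) P)
          refine ⟨2, ![⊥, N, ⊤], rfl, rfl, ?_, ?_, ?_⟩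
          · intro i j hij
            fin_cases i <;> fin_cases j <;> simp_all
          · intro i
            fin_cases i
            · exact inferInstanceAs (⊥ : Subgroup G).Normal
            · exact hN
            · exact inferInstanceAs (⊤ : Subgroup G).Normal
          · intro i
            fin_cases i
            · refine Or.inr ?_
              show ((⊥ : Subgroup G).relIndex N).Coprime p
              rw [Subgroup.relIndex_bot_left]
              exact ((hp.coprime_iff_not_dvd).mpr hN').symm
            · refine Or.inl ?_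
              show ∃ m, N.relIndex ⊤ = p ^ m
              rw [Subgroup.relIndex_top_right, Subgroup.index_eq_card]
              have hsur : Function.Surjective (fun u : (P : Subgroup G) => ((u : G) : G ⧸ N)) := by
                intro y
                obtain ⟨g, rfl⟩ := QuotientGroup.mk_surjective y
                have hg : g ∈ (((P : Subgroup G) ⊔ N : Subgroup G) : Set G) := by rw [htop]; trivial
                rw [Subgroup.mul_normal] at hg
                obtain ⟨u, hu, w, hw, rfl⟩ := hg
                exact ⟨⟨u, hu⟩, QuotientGroup.eq.mpr (by simpa using hw)⟩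
              exact IsPGroup.iff_card.mp (P.isPGroup'.of_surjective
                ((QuotientGroup.mk' N).comp (P : Subgroup G).subtype) hsur)
        · have h1 := hsub _ htop (P.subtype le_sup_left)
          have h2 := Sylow.characteristic_of_normal _ h1
          have h3 : ((P.subtype (le_sup_left : (P : Subgroup G) ≤ (P : Subgroup G) ⊔ N) :
              Subgroup ↥((P : Subgroup G) ⊔ N)).map ((P : Subgroup G) ⊔ N).subtype).Normal :=
            ConjAct.normal_of_characteristic_of_normal
          rw [Sylow.coe_subtype, Subgroup.map_subgroupOf_eq_of_le le_sup_left] at h3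
          exact hPn h3
      · set R := (S : Subgroup N).map N.subtype
        have hR : R ≤ (P : Subgroup G) := by
          obtain ⟨Q, hQ⟩ := (S.isPGroup'.map N.subtype).exists_le_sylow
          obtain ⟨g, hg⟩ := MulAction.exists_smul_eq G Q P
          rw [← hg]
          intro x hx
          rw [Sylow.coe_subgroup_smul, Subgroup.mem_pointwise_smul_iff_inv_smul_mem]
          refine hQ ?_
          have := hS'.conj_mem' x hx g
          rw [show (MulAut.conj g)⁻¹ • x = g⁻¹ * x * g from by simp [MulAut.smul_def]]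
          exact this
        have h1 := ih (Nat.card (G ⧸ R)) (by
          rw [Subgroup.card_eq_card_quotient_mul_card_subgroup R]
          exact lt_mul_of_one_lt_right Nat.card_pos ((Subgroup.one_lt_card_iff_ne_bot R).mpr hS0))
          (G ⧸ R) rfl (smallDeg_quotient h R) (P.mapSurjective (QuotientGroup.mk'_surjective R))
        rw [Sylow.coe_mapSurjective] at h1
        have h2 := h1.comap (QuotientGroup.mk' R)
        rw [Subgroup.comap_map_eq, QuotientGroup.ker_mk', sup_eq_left.mpr hR] at h2
        exact hPn h2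
    have hnab : ¬ IsMulCommutative G := fun hc => hPn ⟨fun x hx g => by
      rwa [hc.is_comm.comm g x, mul_assoc, mul_inv_cancel, mul_one]⟩
    have hcomm := sylow_comm h P
    have hTI : ∀ Q : Sylow p G, Q ≠ P → (P : Subgroup G) ⊓ (Q : Subgroup G) = ⊥ := by
      intro Q hQ
      refine (Subgroup.eq_bot_iff_forall _).mpr fun x hx => ?_
      by_contra hx1
      have hne : centralizer ({x} : Set G) ≠ ⊤ := by
        intro hc
        have hxc : x ∈ Subgroup.center G := Subgroup.mem_center_iff.mpr fun g =>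
          Subgroup.mem_centralizer_singleton_iff.mp (hc ▸ mem_top g)
        rcases (inferInstance : (Subgroup.center G).Normal).eq_bot_or_eq_top with h1 | h1
        · exact hx1 (Subgroup.mem_bot.mp (h1 ▸ hxc))
        · exact hnab ⟨⟨fun a b => Subgroup.mem_center_iff.mp (h1 ▸ mem_top b) a⟩⟩
      have hPC : (P : Subgroup G) ≤ centralizer ({x} : Set G) := fun y hy =>
        Subgroup.mem_centralizer_singleton_iff.mpr (hcomm y hy x hx.1)
      have hQC : (Q : Subgroup G) ≤ centralizer ({x} : Set G) := fun y hy =>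
        Subgroup.mem_centralizer_singleton_iff.mpr (sylow_comm h Q y hy x hx.2)
      have hN := hQC.trans (hnorm _ hne hPC)
      have hsup : IsPGroup p ↥((P : Subgroup G) ⊔ (Q : Subgroup G)) :=
        P.isPGroup'.to_sup_of_normal_left' Q.isPGroup' hN
      have hQP : (Q : Subgroup G) ≤ (P : Subgroup G) :=
        (P.is_maximal' hsup le_sup_left) ▸ le_sup_right
      exact hQ (Sylow.ext (Q.is_maximal' P.isPGroup' hQP).symm)
    rcases Nat.lt_or_ge ((Nat.card G).factorization p) 2 with hv | hv
    · rcases Nat.eq_zero_or_pos ((Nat.card G).factorization p) with h0 | h0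
      · apply hPn
        have : (P : Subgroup G) = ⊥ := Subgroup.card_eq_one.mp (by rw [P.card_eq_multiplicity, h0, pow_zero])
        rw [this]
        infer_instance
      · exact false_of_prime hnab h P (by
          rw [P.card_eq_multiplicity, show (Nat.card G).factorization p = 1 by omega, pow_one])
    · exact false_of_large h P hPn hTI hv

end

/-- Let p be a prime and G a finite group all of whose irreducible character degrees are less than p. Then G has a normal abelian Sylow p-subgroup. -/
theorem result {G : Type*} [Group G] [Finite G] (p : ℕ) (hp : p.Prime) (hb : ∀ χ : Cfsg.IrrCharacter G, Cfsg.charDegree (χ : G → ℂ) < p) : ∃ P : Subgroup G, P.Normal ∧ (∀ x ∈ P, ∀ y ∈ P, x * y = y * x) ∧ IsPGroup p P ∧ ¬ p ∣ P.index := by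
  have := Fact.mk hp
  let P : Sylow p G := default
  refine ⟨(P : Subgroup G), sylow_normal p _ G rfl hb P, sylow_comm hb P, P.isPGroup', ?_⟩
  have := sylow_normal p _ G rfl hb P
  exact P.not_dvd_index

end Cfsg.Agent.S4464
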