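import Cfsg.Statements.S4470
import Mathlib


set_option autoImplicit false
open Cfsg

namespace Cfsg.Agent.S4470

open scoped InnerProductSpace
open Module

universe u

variable {W : Type u} [NormedAddCommGroup W] [InnerProductSpace ℂ W] [FiniteDimensional ℂ W]
  {G : Type*} [Group G]

/-- Common eigenvectors inside a nonzero invariant subspace. -/
theorem exists_common_eigen (ι : Type*) (T : ι → (W →L[ℂ] W)) (hT : ∀ i j x, T i (T j x) = T j (T i x)) :
    ∀ k : ℕ, ∀ N : Submodule ℂ W, finrank ℂ N = k → N ≠ ⊥ → (∀ i, ∀ x ∈ N, T i x ∈ N) →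
      ∃ v ∈ N, v ≠ 0 ∧ ∀ i, ∃ l : ℂ, T i v = l • v := by
  intro k
  induction k using Nat.strong_induction_on with
  | _ k ih =>
    intro N hk hN hinv
    haveI : Nontrivial N := Submodule.nontrivial_iff_ne_bot.2 hN
    by_cases hs : ∀ i, ∃ l : ℂ, ∀ x ∈ N, T i x = l • x
    · obtain ⟨v, hv, hv0⟩ := Submodule.exists_mem_ne_zero_of_ne_bot hN
      exact ⟨v, hv, hv0, fun i => (hs i).imp fun l hl => hl v hv⟩
    simp only [not_forall, not_exists] at hs
    obtain ⟨i, hi⟩ := hs
    let f : End ℂ N := (T i).toLinearMap.restrict (hinv i)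
    obtain ⟨l, hl⟩ := Module.End.exists_eigenvalue f
    obtain ⟨w, hw⟩ := hl.exists_hasEigenvector
    let N' : Submodule ℂ W := N ⊓ LinearMap.ker ((T i).toLinearMap - l • LinearMap.id)
    have hmem : ∀ x, x ∈ N' ↔ x ∈ N ∧ T i x = l • x := fun x => by simp [N', sub_eq_zero]
    have hne : N' ≠ ⊥ := by
      intro e
      have hw' : (w : W) ∈ N' := (hmem _).2 ⟨w.2, congrArg Subtype.val hw.apply_eq_smul⟩
      rw [e, Submodule.mem_bot] at hw'
      exact hw.2 (Subtype.ext hw')
    have hlt : N' < N := by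
      refine lt_of_le_of_ne inf_le_left fun e => ?_
      obtain ⟨x, hx, hx'⟩ := hi l
      exact hx' ((hmem x).1 (e ▸ hx)).2
    obtain ⟨v, hv, h⟩ := ih _ (hk ▸ Submodule.finrank_lt_finrank_of_lt hlt) N' rfl hne (fun j x hx => by
      obtain ⟨h1, h2⟩ := (hmem x).1 hx
      exact (hmem _).2 ⟨hinv j x h1, by rw [hT, h2, map_smul]⟩)
    exact ⟨v, inf_le_left (a := N) hv, h⟩

variable (U : G →* (W →L[ℂ] W)) (hU : ∀ g x y, ⟪U g x, U g y⟫_ℂ = ⟪x, y⟫_ℂ)

theorem U_mul_apply (a b : G) (x : W) : U (a * b) x = U a (U b x) := by rw [map_mul]; rfl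

theorem U_inv_apply (a : G) (x : W) : U a⁻¹ (U a x) = x := by
  rw [← U_mul_apply, inv_mul_cancel, map_one]; rfl

include hU in
theorem norm_U_apply (g : G) (x : W) : ‖U g x‖ = ‖x‖ := by
  rw [@norm_eq_sqrt_re_inner ℂ, @norm_eq_sqrt_re_inner ℂ, hU]

include hU in
theorem norm_U_le (g : G) : ‖U g‖ ≤ 1 :=
  ContinuousLinearMap.opNorm_le_bound _ zero_le_one fun x => by rw [norm_U_apply U hU, one_mul]

include hU in
theorem exists_orthonormal_eigen (H : Subgroup G) (hH : ∀ x ∈ H, ∀ y ∈ H, x * y = y * x) :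
    ∀ k : ℕ, ∀ N : Submodule ℂ W, finrank ℂ N = k → (∀ h ∈ H, ∀ x ∈ N, U h x ∈ N) →
      ∃ e : Fin k → W, Orthonormal ℂ e ∧ (∀ i, e i ∈ N) ∧
        ∀ i, ∀ h ∈ H, ∃ l : ℂ, U h (e i) = l • e i := by
  intro k
  induction k with
  | zero => exact fun N _ _ => ⟨fun i => i.elim0, ⟨fun i => i.elim0, fun i => i.elim0⟩,
      fun i => i.elim0, fun i => i.elim0⟩
  | succ k ih =>
    intro N hk hinv
    have hN : N ≠ ⊥ := fun e => by
      rw [e, finrank_bot] at hk
      exact Nat.succ_ne_zero k hk.symm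
    obtain ⟨v₀, hv₀, hv0, hev⟩ := exists_common_eigen H (fun h => U h)
      (fun a b x => by rw [← U_mul_apply, ← U_mul_apply, hH a a.2 b b.2]) _ N rfl hN
      (fun h x hx => hinv h h.2 x hx)
    set v : W := ((‖v₀‖ : ℂ)⁻¹) • v₀ with hvd
    have hv1 : ‖v‖ = 1 := norm_smul_inv_norm hv0
    have hvN : v ∈ N := N.smul_mem _ hv₀
    have hvev : ∀ h ∈ H, ∃ l : ℂ, U h v = l • v := fun h hh => by
      obtain ⟨l, hl⟩ := hev ⟨h, hh⟩
      exact ⟨l, by rw [hvd, map_smul, show U h v₀ = l • v₀ from hl, smul_comm]⟩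
    have hle : (ℂ ∙ v) ≤ N := (Submodule.span_singleton_le_iff_mem _ _).2 hvN
    have hv0' : v ≠ 0 := fun e => by rw [e, norm_zero] at hv1; exact zero_ne_one hv1
    have hk' : finrank ℂ ↥((ℂ ∙ v)ᗮ ⊓ N) = k := by
      have := Submodule.finrank_add_inf_finrank_orthogonal hle
      rw [finrank_span_singleton hv0', hk] at this
      omega
    obtain ⟨e, he, heN, hee⟩ := ih _ hk' (fun h hh x hx => by
      obtain ⟨hxo, hxN⟩ := Submodule.mem_inf.1 hx
      refine Submodule.mem_inf.2 ⟨Submodule.mem_orthogonal_singleton_iff_inner_right.2 ?_, hinv h hh x hxN⟩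
      obtain ⟨l, hl⟩ := hvev h⁻¹ (inv_mem hh)
      rw [← hU h⁻¹, U_inv_apply, hl, inner_smul_left,
        Submodule.mem_orthogonal_singleton_iff_inner_right.1 hxo, mul_zero])
    refine ⟨Fin.cons v e, ?_, ?_, ?_⟩
    · rw [orthonormal_iff_ite]
      have hve : ∀ i, ⟪v, e i⟫_ℂ = 0 := fun i =>
        Submodule.mem_orthogonal_singleton_iff_inner_right.1 (Submodule.mem_inf.1 (heN i)).1
      refine Fin.cases (Fin.cases ?_ fun j => ?_) fun i => Fin.cases ?_ fun j => ?_
      · simp [inner_self_eq_norm_sq_to_K, hv1]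
      · simp [hve, (Fin.succ_ne_zero j).symm]
      · simp [inner_eq_zero_symm.1 (hve i)]
      · simp [orthonormal_iff_ite.1 he i j]
    · exact Fin.cases (by simpa using hvN) fun i => by simpa using (Submodule.mem_inf.1 (heN i)).2
    · exact Fin.cases (by simpa using hvev) fun i => by simpa using hee i

include hU in
theorem exists_eigenbasis (H : Subgroup G) (hH : ∀ x ∈ H, ∀ y ∈ H, x * y = y * x) :
    ∃ b : OrthonormalBasis (Fin (finrank ℂ W)) ℂ W, ∀ i, ∀ h ∈ H, ∃ l : ℂ, U h (b i) = l • b i := by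
  obtain ⟨e, he, -, hee⟩ := exists_orthonormal_eigen U hU H hH (finrank ℂ W) ⊤ (finrank_top ℂ W)
    fun _ _ _ _ => Submodule.mem_top
  refine ⟨OrthonormalBasis.mk he
    (he.linearIndependent.span_eq_top_of_card_eq_finrank' (Fintype.card_fin _)).ge, fun i h hh => ?_⟩
  simpa using hee i h hh

/-- The constant `√3/2`. -/
noncomputable def cc : ℂ := ((Real.sqrt 3 / 2 : ℝ) : ℂ)

theorem cc_bounds : 0.86 < Real.sqrt 3 / 2 ∧ Real.sqrt 3 / 2 < 0.87 := by
  have h := Real.sq_sqrt (show (0 : ℝ) ≤ 3 by norm_num)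
  have h0 := Real.sqrt_nonneg 3
  constructor <;> nlinarith

/-- An element close to a scalar. -/
def Near (g : G) : Prop := ‖U g - cc • (1 : W →L[ℂ] W)‖ < 1 / 2

theorem near_bound {g : G} (h : Near U g) : ‖U g - 1‖ < 1 := by
  have e : U g - 1 = (U g - cc • 1) + (cc - 1) • (1 : W →L[ℂ] W) := by
    rw [sub_smul, one_smul]; abel
  rw [e]
  refine (norm_add_le _ _).trans_lt ?_
  have h1 : ‖(1 : W →L[ℂ] W)‖ ≤ 1 :=
    ContinuousLinearMap.opNorm_le_bound _ zero_le_one fun x => by simp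
  have h2 : ‖cc - 1‖ ≤ 1 / 2 := by
    rw [cc, ← Complex.ofReal_one, ← Complex.ofReal_sub, Complex.norm_real, Real.norm_eq_abs, abs_le]
    constructor <;> linarith [cc_bounds.1, cc_bounds.2]
  have h3 : ‖(cc - 1) • (1 : W →L[ℂ] W)‖ ≤ 1 / 2 := by
    refine (norm_smul_le (cc - 1) (1 : W →L[ℂ] W)).trans ?_
    calc ‖cc - 1‖ * ‖(1 : W →L[ℂ] W)‖ ≤ 1 / 2 * 1 := mul_le_mul h2 h1 (norm_nonneg _) (by norm_num)
      _ = 1 / 2 := mul_one _
  rw [Near] at h
  linarith

variable (hinj : Function.Injective U)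

include hU hinj in
theorem comm_contract {a b : G} (ha : Near U a) (hb : b ≠ 1) :
    ‖U (a * b * a⁻¹ * b⁻¹) - 1‖ < ‖U b - 1‖ := by
  have hpos : 0 < ‖U b - 1‖ :=
    norm_pos_iff.2 fun e => hb (hinj ((sub_eq_zero.1 e).trans (map_one U).symm))
  have e : U (a * b * a⁻¹ * b⁻¹) - 1 = ((U a - cc • 1) * (U b - 1) - (U b - 1) * (U a - cc • 1)) *
      U (a⁻¹ * b⁻¹) := by
    have h1 : (U a - cc • 1) * (U b - 1) - (U b - 1) * (U a - cc • 1) = U (a * b) - U (b * a) := by
      rw [map_mul, map_mul]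
      simp only [sub_mul, mul_sub, smul_mul_assoc, mul_smul_comm, one_mul, mul_one, smul_sub]
      abel
    rw [h1, sub_mul, ← map_mul, ← map_mul, show b * a * (a⁻¹ * b⁻¹) = 1 by group, map_one,
      show a * b * (a⁻¹ * b⁻¹) = a * b * a⁻¹ * b⁻¹ by group]
  rw [e]
  refine (norm_mul_le _ _).trans_lt ?_
  refine (mul_le_of_le_one_right (norm_nonneg _) (norm_U_le U hU _)).trans_lt ?_
  refine (norm_sub_le _ _).trans_lt ?_
  have h1 := norm_mul_le (U a - cc • 1) (U b - 1)
  have h2 := norm_mul_le (U b - 1) (U a - cc • 1)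
  rw [Near] at ha
  nlinarith

include hU in
theorem inner_ne_zero {b : G} (hb : ‖U b - 1‖ < 1) {v : W} (hv : v ≠ 0) : ⟪U b v, v⟫_ℂ ≠ 0 := by
  intro h
  have h1 := norm_add_sq_eq_norm_sq_add_norm_sq_of_inner_eq_zero (𝕜 := ℂ) (U b v) (-v)
    (by rw [inner_neg_right, h, neg_zero])
  have h2 : ‖U b v + -v‖ ≤ 1 * ‖v‖ := by
    have := (U b - 1).le_opNorm v
    rw [← sub_eq_add_neg]
    exact le_trans (by simpa using this) (mul_le_mul_of_nonneg_right hb.le (norm_nonneg _))
  rw [norm_neg, norm_U_apply U hU] at h1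
  have := norm_pos_iff.2 hv
  nlinarith [norm_nonneg (U b v + -v)]

include hU hinj in
theorem conj_eq_of_commute {a b : G} (hb : ‖U b - 1‖ < 1) (hc : Commute a (b * a * b⁻¹)) :
    b * a * b⁻¹ = a := by
  set a' := b * a * b⁻¹ with ha'
  have hK : ∀ x ∈ Subgroup.closure ({a, a'} : Set G), ∀ y ∈ Subgroup.closure ({a, a'} : Set G),
      x * y = y * x := by
    have h1 : Subgroup.closure ({a, a'} : Set G) ≤
        Subgroup.centralizer ((Subgroup.closure ({a, a'} : Set G) : Subgroup G) : Set G) := by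
      rw [Subgroup.centralizer_closure, Subgroup.closure_le]
      rintro x (rfl | rfl) <;> refine Subgroup.mem_centralizer_iff.2 ?_ <;> rintro y (rfl | rfl)
      · rfl
      · exact hc.eq.symm
      · exact hc.eq
      · rfl
    exact fun x hx y hy => Subgroup.mem_centralizer_iff.1 (h1 hy) x hx
  obtain ⟨e, he⟩ := exists_eigenbasis U hU _ hK
  apply hinj
  apply ContinuousLinearMap.coe_injective
  apply e.toBasis.ext
  intro i
  rw [OrthonormalBasis.coe_toBasis]
  show U a' (e i) = U a (e i)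
  obtain ⟨l, hl⟩ := he i a (Subgroup.subset_closure (by simp))
  obtain ⟨m, hm⟩ := he i a' (Subgroup.subset_closure (by simp))
  rw [hl, hm]
  by_contra hne
  have hml : m ≠ l := fun h => hne (by rw [h])
  set v := e i
  have hv : v ≠ 0 := e.orthonormal.ne_zero i
  have hw : U a (U b⁻¹ v) = m • U b⁻¹ v := by
    rw [← U_mul_apply, show a * b⁻¹ = b⁻¹ * a' by rw [ha']; group, U_mul_apply, hm, map_smul]
  have hll : starRingEnd ℂ l * l = 1 := by
    have := hU a v v
    rw [hl, inner_smul_left, inner_smul_right, ← mul_assoc] at this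
    exact mul_right_cancel₀ (inner_self_ne_zero.2 hv) (this.trans (one_mul _).symm)
  have h0 : ⟪v, U b⁻¹ v⟫_ℂ = 0 := by
    have := hU a v (U b⁻¹ v)
    rw [hl, hw, inner_smul_left, inner_smul_right, ← mul_assoc] at this
    by_contra h
    have h1 := mul_right_cancel₀ h (this.trans (one_mul _).symm)
    have hl0 : starRingEnd ℂ l ≠ 0 := fun e => by rw [e, zero_mul] at hll; exact zero_ne_one hll
    exact hml (mul_left_cancel₀ hl0 (h1.trans hll.symm))
  refine inner_ne_zero U hU hb hv ?_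
  rw [← hU b] at h0
  rwa [← U_mul_apply, mul_inv_cancel, map_one] at h0

variable [Finite G]

include hU hinj in
theorem near_commute {a b : G} (ha : Near U a) (hb : Near U b) : Commute a b := by
  have key : ∀ x : G, ‖U x - 1‖ < 1 → Commute a x := by
    by_contra hne
    simp only [not_forall] at hne
    obtain ⟨x₀, hx₀, hx₀'⟩ := hne
    obtain ⟨x, ⟨hx, hxa⟩, hmin⟩ := Set.exists_min_image {x : G | ‖U x - 1‖ < 1 ∧ ¬ Commute a x}
      (fun x => ‖U x - 1‖) (Set.toFinite _) ⟨x₀, hx₀, hx₀'⟩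
    have hlt := comm_contract U hU hinj ha (fun e => hxa (e ▸ Commute.one_right a) : x ≠ 1)
    have hc : Commute a (a * x * a⁻¹ * x⁻¹) := by
      by_contra h
      exact absurd (hmin _ ⟨hlt.trans hx, h⟩) (not_le.2 hlt)
    have hc2 : Commute a (x * a * x⁻¹) := by
      have h2 : Commute a (a * x * a⁻¹ * x⁻¹)⁻¹ := hc.inv_right
      have h3 := h2.mul_right (Commute.refl a)
      rwa [show (a * x * a⁻¹ * x⁻¹)⁻¹ * a = x * a * x⁻¹ by group] at h3
    exact hxa (mul_inv_eq_iff_eq_mul.1 (conj_eq_of_commute U hU hinj hx hc2)).symm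
  exact key b (near_bound U hb)

include hU in
theorem near_conj {a : G} (g : G) (ha : Near U a) : Near U (g * a * g⁻¹) := by
  have e : U (g * a * g⁻¹) - cc • 1 = U g * (U a - cc • 1) * U g⁻¹ := by
    rw [mul_sub, sub_mul, mul_smul_comm, mul_one, smul_mul_assoc, ← map_mul, ← map_mul, ← map_mul,
      mul_inv_cancel, map_one]
  rw [Near, e]
  refine lt_of_le_of_lt ?_ ha
  calc ‖U g * (U a - cc • 1) * U g⁻¹‖ ≤ ‖U g * (U a - cc • 1)‖ * ‖U g⁻¹‖ := norm_mul_le _ _
    _ ≤ ‖U g * (U a - cc • 1)‖ := mul_le_of_le_one_right (norm_nonneg _) (norm_U_le U hU _)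
    _ ≤ ‖U g‖ * ‖U a - cc • 1‖ := norm_mul_le _ _
    _ ≤ ‖U a - cc • 1‖ := mul_le_of_le_one_left (norm_nonneg _) (norm_U_le U hU _)

omit [Finite G] in
theorem near_of_eigen {N : ℕ} (e : OrthonormalBasis (Fin N) ℂ W) {g : G} (f : Fin N → ℂ)
    (hf : ∀ i, U g (e i) = f i • e i) (hd : ∀ i, ‖f i - cc‖ < 1 / 2) : Near U g := by
  obtain ⟨r, hr0, hr, hrb⟩ : ∃ r : ℝ, 0 ≤ r ∧ r < 1 / 2 ∧ ∀ i, ‖f i - cc‖ ≤ r := by
    rcases isEmpty_or_nonempty (Fin N) with h | h
    · exact ⟨0, le_rfl, by norm_num, fun i => h.elim i⟩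
    · obtain ⟨i, -, hi⟩ := Finset.exists_max_image Finset.univ (fun i => ‖f i - cc‖) Finset.univ_nonempty
      exact ⟨_, norm_nonneg _, hd i, fun j => hi j (Finset.mem_univ _)⟩
  refine lt_of_le_of_lt (ContinuousLinearMap.opNorm_le_bound _ hr0 fun x => ?_) hr
  have hT : ∀ i, e.repr ((U g - cc • (1 : W →L[ℂ] W)) x) i = (f i - cc) * e.repr x i := by
    intro i
    conv_lhs => rw [← e.sum_repr x, map_sum]
    simp only [map_sum, map_smul]
    rw [WithLp.ofLp_sum, Finset.sum_apply, Finset.sum_eq_single i (fun j _ hji => ?_) (fun h => absurd (Finset.mem_univ i) h)]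
    · simp [hf, mul_comm, mul_sub, sub_mul]
    · simp [hf, Ne.symm hji]
  rw [← e.repr.norm_map, ← e.repr.norm_map x, EuclideanSpace.norm_eq, EuclideanSpace.norm_eq,
    ← Real.sqrt_sq hr0, ← Real.sqrt_mul (sq_nonneg r), Finset.mul_sum]
  refine Real.sqrt_le_sqrt (Finset.sum_le_sum fun i _ => ?_)
  rw [hT, norm_mul, mul_pow]
  exact mul_le_mul_of_nonneg_right (pow_le_pow_left₀ (norm_nonneg _) (hrb i) 2) (sq_nonneg _)

/-- Twelve arcs. -/
noncomputable def arc (z : ℂ) : ℤ := ⌈6 * (z.arg + Real.pi) / Real.pi⌉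

theorem arc_mem (z : ℂ) : arc z ∈ Finset.Icc (1 : ℤ) 12 := by
  have h1 := Complex.neg_pi_lt_arg z
  have h2 := Complex.arg_le_pi z
  have hp := Real.pi_pos
  refine Finset.mem_Icc.2 ⟨Int.ceil_pos.2 (div_pos (by linarith) hp), Int.ceil_le.2 ?_⟩
  rw [div_le_iff₀ hp]
  push_cast
  linarith

theorem close_of_arc {z w : ℂ} (hz : ‖z‖ = 1) (hw : ‖w‖ = 1) (h : arc z = arc w) :
    ‖starRingEnd ℂ z * w - cc‖ < 1 / 2 := by
  have hp := Real.pi_pos
  have hlt : |w.arg - z.arg| < Real.pi / 6 := by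
    have hd : |6 * (w.arg + Real.pi) / Real.pi - 6 * (z.arg + Real.pi) / Real.pi| < 1 := by
      have a1 := Int.le_ceil (6 * (w.arg + Real.pi) / Real.pi)
      have a2 := Int.ceil_lt_add_one (6 * (w.arg + Real.pi) / Real.pi)
      have b1 := Int.le_ceil (6 * (z.arg + Real.pi) / Real.pi)
      have b2 := Int.ceil_lt_add_one (6 * (z.arg + Real.pi) / Real.pi)
      unfold arc at h
      rw [h] at b1 b2
      rw [abs_lt]
      constructor <;> linarith
    rw [show 6 * (w.arg + Real.pi) / Real.pi - 6 * (z.arg + Real.pi) / Real.pi =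
      (w.arg - z.arg) * (6 / Real.pi) by ring, abs_mul, abs_of_pos (show 0 < 6 / Real.pi by positivity)] at hd
    rw [lt_div_iff₀ (by norm_num : (0 : ℝ) < 6)]
    rw [← mul_div_assoc, div_lt_iff₀ hp] at hd
    linarith
  have hcos : Real.sqrt 3 / 2 < Real.cos (w.arg - z.arg) := by
    rw [← Real.cos_pi_div_six, ← Real.cos_abs (w.arg - z.arg)]
    exact Real.cos_lt_cos_of_nonneg_of_le_pi (abs_nonneg _) (by linarith) hlt
  have hre : (starRingEnd ℂ z * w).re = Real.cos (w.arg - z.arg) := by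
    have hz0 : z ≠ 0 := fun e => by rw [e, norm_zero] at hz; exact zero_ne_one hz
    have hw0 : w ≠ 0 := fun e => by rw [e, norm_zero] at hw; exact zero_ne_one hw
    rw [Real.cos_sub, Complex.cos_arg hw0, Complex.cos_arg hz0, Complex.sin_arg, Complex.sin_arg,
      hz, hw]
    simp [Complex.mul_re]
    ring
  set u := starRingEnd ℂ z * w with hu
  have hn : ‖u‖ = 1 := by rw [hu, norm_mul, Complex.norm_conj, hz, hw, one_mul]
  have hsq : ‖u - cc‖ ^ 2 < (1 / 2) ^ 2 := by
    rw [Complex.sq_norm, Complex.normSq_apply]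
    have hn2 : u.re * u.re + u.im * u.im = 1 := by
      rw [← Complex.normSq_apply, Complex.normSq_eq_norm_sq, hn, one_pow]
    simp only [cc, Complex.sub_re, Complex.sub_im, Complex.ofReal_re, Complex.ofReal_im, sub_zero]
    rw [hre] at *
    have h3 := Real.sq_sqrt (show (0 : ℝ) ≤ 3 by norm_num)
    nlinarith [cc_bounds.1]
  exact lt_of_pow_lt_pow_left₀ 2 (by norm_num) hsq

include hU hinj in
theorem jordan_unitary : ∃ A : Subgroup G, A.Normal ∧ (∀ x ∈ A, ∀ y ∈ A, x * y = y * x) ∧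
    ∀ H : Subgroup G, (∀ x ∈ H, ∀ y ∈ H, x * y = y * x) →
      (A.subgroupOf H).index ≤ 12 ^ finrank ℂ W := by
  let S : Set G := {g | Near U g}
  refine ⟨Subgroup.closure S, ⟨fun x hx g => ?_⟩, ?_, fun H hH => ?_⟩
  · have h : (Subgroup.closure S).map (MulAut.conj g).toMonoidHom ≤ Subgroup.closure S := by
      rw [MonoidHom.map_closure]
      exact Subgroup.closure_mono (by rintro _ ⟨y, hy, rfl⟩; exact near_conj U hU g hy)
    exact h (Subgroup.mem_map_of_mem _ hx)
  · have h1 : Subgroup.closure S ≤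
        Subgroup.centralizer ((Subgroup.closure S : Subgroup G) : Set G) := by
      rw [Subgroup.centralizer_closure, Subgroup.closure_le]
      exact fun x hx => Subgroup.mem_centralizer_iff.2 fun y hy => (near_commute U hU hinj hy hx).eq
    exact fun x hx y hy => Subgroup.mem_centralizer_iff.1 (h1 hy) x hx
  · obtain ⟨e, he⟩ := exists_eigenbasis U hU H hH
    choose f hf using fun (h : H) i => he i h h.2
    have hfn : ∀ h i, ‖f h i‖ = 1 := fun h i => by
      have := congrArg norm (hf h i)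
      rwa [norm_U_apply U hU, norm_smul, e.orthonormal.1 i, mul_one, eq_comm] at this
    let B : H ⧸ ((Subgroup.closure S).subgroupOf H) → Fin (finrank ℂ W) → Finset.Icc (1 : ℤ) 12 :=
      fun q i => ⟨arc (f q.out i), arc_mem _⟩
    have hB : Function.Injective B := by
      intro q q' h
      rw [← q.out_eq, ← q'.out_eq]
      refine QuotientGroup.eq.2 (Subgroup.mem_subgroupOf.2 (Subgroup.subset_closure ?_))
      refine near_of_eigen U e (fun i => starRingEnd ℂ (f q.out i) * f q'.out i) (fun i => ?_)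
        fun i => close_of_arc (hfn _ i) (hfn _ i) (congrArg Subtype.val (congrFun h i))
      have hinv : U ((q.out : G)⁻¹) (e i) = starRingEnd ℂ (f q.out i) • e i := by
        have h1 := congrArg (U ((q.out : G)⁻¹)) (hf q.out i)
        rw [U_inv_apply, map_smul] at h1
        conv_rhs => rw [h1]
        rw [smul_smul, Complex.conj_mul', hfn]
        simp
      rw [show (((q.out)⁻¹ * q'.out : H) : G) = (q.out : G)⁻¹ * (q'.out : G) from rfl, U_mul_apply,
        hf, map_smul, hinv, smul_smul, mul_comm]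
    have := Nat.card_le_card_of_injective B hB
    rw [Subgroup.index]
    rw [Nat.card_fun, Nat.card_eq_finsetCard, Int.card_Icc] at this
    simpa using this

/-- Averaging gives a unitary model. -/
noncomputable def embed {G : Type*} [Group G] [Fintype G] {d : ℕ} (ρ : Representation ℂ G (Fin d → ℂ)) :
    (Fin d → ℂ) →ₗ[ℂ] EuclideanSpace ℂ (G × Fin d) where
  toFun v := WithLp.toLp 2 fun q => ρ q.1 v q.2
  map_add' v w := by ext q; simp
  map_smul' c v := by ext q; simp

/-- Let the finite group G have a faithful character of degree n. Then G has an abelian normal subgroup A such that every abelian subgroup H of G satisfies [H : H ⊓ A] ≤ 12^n. -/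
theorem result {G : Type*} [Group G] [Finite G] (χ : G → ℂ) (hχ : Cfsg.IsCharacter G χ) (hfaith : ∀ g : G, χ g = χ 1 → g = 1) (n : ℕ) (hn : Cfsg.charDegree χ = n) : ∃ A : Subgroup G, A.Normal ∧ (∀ x ∈ A, ∀ y ∈ A, x * y = y * x) ∧ ∀ H : Subgroup G, (∀ x ∈ H, ∀ y ∈ H, x * y = y * x) → (A.subgroupOf H).index ≤ 12 ^ n := by
  obtain ⟨d, ρ, rfl⟩ := hχ
  have := Fintype.ofFinite G
  have hone : ρ.character 1 = (d : ℂ) := by rw [Representation.char_one, Module.finrank_fin_fun]
  have hnd : n = d := by rw [← hn, Cfsg.charDegree, hone, Complex.natCast_re, Nat.floor_natCast]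
  have hL : Function.Injective (embed ρ) := fun v w h => by
    funext i
    have := congrArg (fun x : EuclideanSpace ℂ (G × Fin d) => x (1, i)) h
    simpa [embed] using this
  let e := LinearEquiv.ofInjective (embed ρ) hL
  let U : G →* (LinearMap.range (embed ρ) →L[ℂ] LinearMap.range (embed ρ)) :=
    { toFun := fun g => LinearMap.toContinuousLinearMap (e.conj (ρ g))
      map_one' := by ext x; simp [LinearEquiv.conj_apply]
      map_mul' := fun a b => by
        apply ContinuousLinearMap.ext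
        intro x
        show e (ρ (a * b) (e.symm x)) = e (ρ a (e.symm (e (ρ b (e.symm x)))))
        rw [LinearEquiv.symm_apply_apply, map_mul]
        rfl }
  have hU : ∀ g x y, ⟪U g x, U g y⟫_ℂ = ⟪x, y⟫_ℂ := by
    intro g x y
    obtain ⟨v, rfl⟩ := e.surjective x
    obtain ⟨w, rfl⟩ := e.surjective y
    show ⟪e (ρ g (e.symm (e v))), e (ρ g (e.symm (e w)))⟫_ℂ = _
    rw [LinearEquiv.symm_apply_apply, LinearEquiv.symm_apply_apply, Submodule.coe_inner,
      Submodule.coe_inner]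
    show ⟪embed ρ (ρ g v), embed ρ (ρ g w)⟫_ℂ = ⟪embed ρ v, embed ρ w⟫_ℂ
    rw [PiLp.inner_apply, PiLp.inner_apply]
    refine Fintype.sum_equiv ((Equiv.mulRight g).prodCongr (Equiv.refl _)) _ _ fun q => ?_
    simp [embed]
  have hinj : Function.Injective U := by
    intro a b h
    refine inv_mul_eq_one.1 (hfaith _ ?_)
    have h1 : ∀ v, ρ a v = ρ b v := fun v => by
      have := congrArg (fun T : LinearMap.range (embed ρ) →L[ℂ] LinearMap.range (embed ρ) => T (e v)) h
      exact e.injective (by simpa [U, LinearEquiv.conj_apply] using this)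
    have h2 : ρ (a⁻¹ * b) = ρ 1 := by
      rw [map_mul, ← LinearMap.ext h1, ← map_mul, inv_mul_cancel]
    show LinearMap.trace ℂ _ (ρ _) = LinearMap.trace ℂ _ (ρ _)
    rw [h2]
  obtain ⟨A, h1, h2, h3⟩ := jordan_unitary (W := LinearMap.range (embed ρ)) U hU hinj
  refine ⟨A, h1, h2, fun H hH => ?_⟩
  have := h3 H hH
  rwa [← e.finrank_eq, Module.finrank_fin_fun, ← hnd] at this

end Cfsg.Agent.S4470
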