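import Cfsg.Statements.S4469
import Cfsg.Agent.S4470
import Cfsg.Agent.Lib.Char.PowTwist
import Cfsg.Agent.Lib.Char.Scalar
import Cfsg.Agent.Lib.Char.Galois
import Cfsg.Agent.Lib.Coprime.Solvable
import Cfsg.Agent.Lib.Invol.Basic


set_option autoImplicit false
open Cfsg

namespace Cfsg.Agent.S4469

open scoped InnerProductSpace ComplexConjugate
open Module
open Cfsg.Agent.S4470 (U_mul_apply U_inv_apply norm_U_apply exists_eigenbasis jordan_unitary embed)

universe u v

set_option linter.unusedSectionVars false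

/-- Primes above `N + 1`. -/
def Big (N q : ℕ) : Prop := q.Prime ∧ N + 1 < q

/-- An abelian subgroup whose index has no prime divisor above `N + 1`. -/
def Good (N : ℕ) (G : Type v) [Group G] : Prop :=
  ∃ H : Subgroup G, (∀ x ∈ H, ∀ y ∈ H, x * y = y * x) ∧ ∀ q, Big N q → ¬ q ∣ H.index

section Unitary

variable {W : Type u} [NormedAddCommGroup W] [InnerProductSpace ℂ W] [FiniteDimensional ℂ W]
  {G : Type v} [Group G] (U : G →* (W →L[ℂ] W)) (hU : ∀ g x y, ⟪U g x, U g y⟫_ℂ = ⟪x, y⟫_ℂ)
  (hinj : Function.Injective U)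

include hU hinj in
/-- The normalizer of an abelian group permutes its at most `n` eigencharacters, with kernel
inside the centralizer. -/
theorem exists_perm_hom (B : Subgroup G) (hB : ∀ x ∈ B, ∀ y ∈ B, x * y = y * x) :
    ∃ (k : ℕ) (φ : ↥(Subgroup.normalizer (B : Set G)) →* Equiv.Perm (Fin k)), k ≤ finrank ℂ W ∧
      ∀ g : ↥(Subgroup.normalizer (B : Set G)), φ g = 1 →
        (g : G) ∈ Subgroup.centralizer (B : Set G) := by
  classical
  obtain ⟨e, he⟩ := exists_eigenbasis U hU B hB
  choose f hf using fun (i : Fin (finrank ℂ W)) (h : B) => he i h h.2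
  let F : Finset (B → ℂ) := Finset.univ.image f
  set N := Subgroup.normalizer (B : Set G) with hN
  let cj : N → B → B := fun g b => ⟨(g : G)⁻¹ * b * g,
    (Subgroup.mem_normalizer_iff.1 g.2 _).2 (by
      rw [show (g : G) * ((g : G)⁻¹ * b * g) * (g : G)⁻¹ = b by group]; exact b.2)⟩
  have hstep : ∀ (g : N) (i : Fin (finrank ℂ W)), ∃ j, f j = fun b => f i (cj g b) := by
    intro g i
    by_contra hno
    push Not at hno
    have hgv : U (g : G) (e i) ≠ 0 := fun h => by
      have := congrArg norm h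
      rw [norm_U_apply U hU, norm_zero, e.orthonormal.1 i] at this
      exact one_ne_zero this
    refine hgv (e.repr.injective ?_)
    rw [map_zero]
    ext j
    obtain ⟨b, hb⟩ := Function.ne_iff.1 (hno j)
    have h1 : U (b : G) (U (g : G) (e i)) = f i (cj g b) • U (g : G) (e i) := by
      rw [← U_mul_apply, show (b : G) * g = g * (cj g b : G) by
        show (b : G) * g = g * ((g : G)⁻¹ * b * g); group, U_mul_apply, hf, map_smul]
    have h2 := congrArg (fun x => ⟪U (b : G) (e j), x⟫_ℂ) h1
    rw [hU, hf, inner_smul_left, inner_smul_right, ← mul_assoc] at h2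
    have h0 : ⟪e j, U (g : G) (e i)⟫_ℂ = 0 := by
      by_contra h0
      refine hb ?_
      have h3 := mul_right_cancel₀ h0 (h2.symm.trans (one_mul _).symm)
      have h4 := hU (b : G) (e j) (e j)
      rw [hf, inner_smul_left, inner_smul_right, ← mul_assoc] at h4
      have h5 := mul_right_cancel₀ (inner_self_ne_zero.2 (e.orthonormal.ne_zero j))
        (h4.trans (one_mul _).symm)
      have hne : starRingEnd ℂ (f j b) ≠ 0 := fun h => by rw [h, zero_mul] at h5; exact zero_ne_one h5
      exact (mul_left_cancel₀ hne (h3.trans h5.symm)).symm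
    simpa [e.repr_apply_apply] using h0
  have hmem : ∀ (g : N) (x : F), (fun b => x.1 (cj g b)) ∈ F := by
    intro g x
    obtain ⟨i, -, hi⟩ := Finset.mem_image.1 x.2
    obtain ⟨j, hj⟩ := hstep g i
    exact Finset.mem_image.2 ⟨j, Finset.mem_univ _, by rw [hj, hi]⟩
  let a : N → Function.End F := fun g x => ⟨fun b => x.1 (cj g b), hmem g x⟩
  let ψ : N →* Function.End F :=
    { toFun := a
      map_one' := by
        funext x
        apply Subtype.ext
        funext b
        show x.1 (cj 1 b) = x.1 b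
        exact congrArg x.1 (Subtype.ext (by simp [cj]))
      map_mul' := fun g h => by
        funext x
        apply Subtype.ext
        funext b
        show x.1 (cj (g * h) b) = x.1 (cj h (cj g b))
        exact congrArg x.1 (Subtype.ext (by simp [cj, mul_assoc])) }
  let χ : N →* Equiv.Perm F :=
    { toFun := fun g => ⟨ψ g, ψ g⁻¹,
        fun x => by
          show (ψ g⁻¹ * ψ g) x = x
          rw [← map_mul, inv_mul_cancel, map_one]; rfl,
        fun x => by
          show (ψ g * ψ g⁻¹) x = x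
          rw [← map_mul, mul_inv_cancel, map_one]; rfl⟩
      map_one' := by ext1 x; show ψ 1 x = x; rw [map_one]; rfl
      map_mul' := fun g h => by ext1 x; show ψ (g * h) x = _; rw [map_mul]; rfl }
  refine ⟨Fintype.card F, (Fintype.equivFin F).permCongrHom.toMonoidHom.comp χ, ?_, fun g hg => ?_⟩
  · rw [Fintype.card_coe]
    exact Finset.card_image_le.trans (by simp)
  · have hg' : χ g = 1 := by
      apply (Fintype.equivFin F).permCongrHom.injective
      rw [map_one]; exact hg
    refine Subgroup.mem_centralizer_iff.2 fun b hb => ?_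
    have key : cj g ⟨b, hb⟩ = ⟨b, hb⟩ := by
      apply Subtype.ext
      apply hinj
      apply ContinuousLinearMap.coe_injective
      apply e.toBasis.ext
      intro i
      rw [OrthonormalBasis.coe_toBasis]
      show U (cj g ⟨b, hb⟩ : G) (e i) = U b (e i)
      rw [hf i (cj g ⟨b, hb⟩), show U b (e i) = f i ⟨b, hb⟩ • e i from hf i ⟨b, hb⟩]
      have := congrArg Subtype.val
        (congrArg (fun σ : Equiv.Perm F => σ ⟨f i, Finset.mem_image_of_mem f (Finset.mem_univ i)⟩) hg')
      exact congrArg (· • e i) (congrFun this ⟨b, hb⟩)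
    have h' : (g : G)⁻¹ * b * g = b := congrArg Subtype.val key
    calc b * g = (g : G) * ((g : G)⁻¹ * b * g) := by group
      _ = g * b := by rw [h']

variable [Finite G]

include hU hinj in
/-- A `p`-element with `p` above the degree centralizes each abelian subgroup it normalizes. -/
theorem centralizes_of_normalizes {p : ℕ} (hp : p.Prime) (hn : finrank ℂ W < p) {B : Subgroup G}
    (hB : ∀ x ∈ B, ∀ y ∈ B, x * y = y * x) {g : G} (hg : g ∈ Subgroup.normalizer (B : Set G)) {a : ℕ}
    (ha : orderOf g = p ^ a) : g ∈ Subgroup.centralizer (B : Set G) := by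
  obtain ⟨k, φ, hk, hφ⟩ := exists_perm_hom U hU hinj B hB
  refine hφ ⟨g, hg⟩ (orderOf_eq_one_iff.1 ?_)
  have h1 : orderOf (φ ⟨g, hg⟩) ∣ p ^ a := by
    refine (orderOf_map_dvd φ _).trans ?_
    rw [Subgroup.orderOf_mk, ha]
  obtain ⟨j, -, hj⟩ := (Nat.dvd_prime_pow hp).1 h1
  rw [hj]
  rcases j with _ | j
  · exact pow_zero p
  exfalso
  have h2 : p ∣ k.factorial := by
    have := orderOf_dvd_natCard (φ ⟨g, hg⟩)
    rw [hj, Nat.card_perm, Nat.card_fin] at this
    exact (dvd_pow_self p j.succ_ne_zero).trans this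
  exact absurd (hp.dvd_factorial.1 h2) (by omega)

include hU hinj in
theorem comm_of_large_pGroup {p : ℕ} (hp : p.Prime) (hn : finrank ℂ W < p) {P : Subgroup G}
    (hP : IsPGroup p P) : ∀ x ∈ P, ∀ y ∈ P, x * y = y * x := by
  haveI := Fact.mk hp
  obtain ⟨B, ⟨hBP, hB⟩, hBmax⟩ := Set.exists_max_image
    {B : Subgroup G | B ≤ P ∧ ∀ x ∈ B, ∀ y ∈ B, x * y = y * x} (fun B => Nat.card B) (Set.toFinite _)
    ⟨⊥, bot_le, fun x hx y hy => by rw [Subgroup.mem_bot.1 hx, Subgroup.mem_bot.1 hy]⟩
  suffices hPB : P ≤ B from fun x hx y hy => hB x (hPB hx) y (hPB hy)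
  by_contra hne
  haveI : Group.IsNilpotent P := hP.isNilpotent
  have htop : B.subgroupOf P < ⊤ := lt_top_iff_ne_top.2 fun e => hne (Subgroup.subgroupOf_eq_top.1 e)
  obtain ⟨x, hxN, hxB⟩ := SetLike.exists_of_lt
    (Group.normalizerCondition_of_isNilpotent (G := P) _ htop)
  have hxN' : (x : G) ∈ Subgroup.normalizer (B : Set G) := by
    refine Subgroup.mem_normalizer_iff.2 fun y => ⟨fun hy => ?_, fun hy => ?_⟩
    · exact (Subgroup.mem_normalizer_iff.1 hxN ⟨y, hBP hy⟩).1 hy
    · have hyP : y ∈ P := by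
        have := mul_mem (mul_mem (inv_mem x.2) (hBP hy)) x.2
        rwa [show (x : G)⁻¹ * ((x : G) * y * (x : G)⁻¹) * (x : G) = y by group] at this
      exact (Subgroup.mem_normalizer_iff.1 hxN ⟨y, hyP⟩).2 hy
  obtain ⟨a, ha⟩ := IsPGroup.iff_orderOf.1 hP x
  rw [← Subgroup.orderOf_coe] at ha
  have hxc := centralizes_of_normalizes U hU hinj hp hn hB hxN' ha
  let B' := Subgroup.closure ((B : Set G) ∪ {(x : G)})
  have hB' : ∀ u ∈ B', ∀ v ∈ B', u * v = v * u := by
    have h1 : B' ≤ Subgroup.centralizer (B' : Set G) := by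
      rw [Subgroup.centralizer_closure, Subgroup.closure_le]
      rintro u (hu | hu) <;> refine Subgroup.mem_centralizer_iff.2 ?_ <;> rintro v (hv | hv)
      · exact hB v hv u hu
      · rw [Set.mem_singleton_iff.1 hv]; exact (Subgroup.mem_centralizer_iff.1 hxc u hu).symm
      · rw [Set.mem_singleton_iff.1 hu]; exact Subgroup.mem_centralizer_iff.1 hxc v hv
      · rw [Set.mem_singleton_iff.1 hu, Set.mem_singleton_iff.1 hv]
    exact fun u hu v hv => Subgroup.mem_centralizer_iff.1 (h1 hv) u hu
  have hle : B' ≤ P := (Subgroup.closure_le _).2 (Set.union_subset hBP (Set.singleton_subset_iff.2 x.2))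
  have hBB' : B ≤ B' := fun y hy => Subgroup.subset_closure (Or.inl hy)
  have := Subgroup.eq_of_le_of_card_ge hBB' (hBmax B' ⟨hle, hB'⟩)
  exact hxB (Subgroup.mem_subgroupOf.2 (this.ge (Subgroup.subset_closure (Or.inr rfl))))

include hU hinj in
/-- The index of a suitable abelian subgroup of a Sylow subgroup divides `n!`. -/
theorem exists_sylow_abelian {p : ℕ} [hp : Fact p.Prime] (P : Sylow p G) :
    ∃ B : Subgroup G, (∀ x ∈ B, ∀ y ∈ B, x * y = y * x) ∧
      B.index.factorization p ≤ (Nat.factorial (finrank ℂ W)).factorization p := by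
  obtain ⟨B, ⟨hBn, hB⟩, hBmax⟩ := Set.exists_max_image
    {B : Subgroup ↥(P : Subgroup G) | B.Normal ∧ ∀ x ∈ B, ∀ y ∈ B, x * y = y * x} (fun B => Nat.card B)
    (Set.toFinite _)
    ⟨⊥, inferInstance, fun x hx y hy => by rw [Subgroup.mem_bot.1 hx, Subgroup.mem_bot.1 hy]⟩
  haveI := hBn
  haveI : Group.IsNilpotent ↥(P : Subgroup G) := P.2.isNilpotent
  have hCB : Subgroup.centralizer (B : Set ↥(P : Subgroup G)) ≤ B := by
    by_contra hne
    set D := (Subgroup.centralizer (B : Set ↥(P : Subgroup G))).map (QuotientGroup.mk' B)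
    have hD : D ≠ ⊥ := fun e => hne fun x hx => (QuotientGroup.eq_one_iff x).1
      (Subgroup.mem_bot.1 (e ▸ Subgroup.mem_map_of_mem (QuotientGroup.mk' B) hx))
    haveI : D.Normal := Subgroup.Normal.map inferInstance _ (QuotientGroup.mk'_surjective B)
    obtain ⟨y, hy, hy1⟩ := (Subgroup.bot_or_exists_ne_one _).resolve_left
      (CfsgLib.Coprime.nilpotent_inf_center_ne_bot D hD)
    obtain ⟨hyD, hyZ⟩ := Subgroup.mem_inf.1 hy
    obtain ⟨x, hx, rfl⟩ := hyD
    let B' := Subgroup.closure ((B : Set ↥(P : Subgroup G)) ∪ {x})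
    have hBB' : B ≤ B' := fun u hu => Subgroup.subset_closure (Or.inl hu)
    have hB' : ∀ u ∈ B', ∀ v ∈ B', u * v = v * u := by
      have h1 : B' ≤ Subgroup.centralizer (B' : Set ↥(P : Subgroup G)) := by
        rw [Subgroup.centralizer_closure, Subgroup.closure_le]
        rintro u (hu | hu) <;> refine Subgroup.mem_centralizer_iff.2 ?_ <;> rintro v (hv | hv)
        · exact hB v hv u hu
        · rw [Set.mem_singleton_iff.1 hv]; exact (Subgroup.mem_centralizer_iff.1 hx u hu).symm
        · rw [Set.mem_singleton_iff.1 hu]; exact Subgroup.mem_centralizer_iff.1 hx v hv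
        · rw [Set.mem_singleton_iff.1 hu, Set.mem_singleton_iff.1 hv]
      exact fun u hu v hv => Subgroup.mem_centralizer_iff.1 (h1 hv) u hu
    have hn' : B'.Normal := by
      refine ⟨fun u hu g => ?_⟩
      have h : B'.map (MulAut.conj g).toMonoidHom ≤ B' := by
        rw [MonoidHom.map_closure, Subgroup.closure_le]
        rintro _ ⟨w, hw | hw, rfl⟩
        · exact hBB' (hBn.conj_mem w hw g)
        · rw [Set.mem_singleton_iff.1 hw]
          show g * x * g⁻¹ ∈ B'
          have h2 : g * x * g⁻¹ * x⁻¹ ∈ B := by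
            refine (QuotientGroup.eq_one_iff _).1 ?_
            have h3 := Subgroup.mem_center_iff.1 hyZ (QuotientGroup.mk' B g)
            show QuotientGroup.mk' B (g * x * g⁻¹ * x⁻¹) = 1
            rw [map_mul, map_mul, map_mul, h3, map_inv, map_inv, mul_inv_cancel_right, mul_inv_cancel]
          have := mul_mem (hBB' h2) (Subgroup.subset_closure (Or.inr rfl) : x ∈ B')
          rwa [inv_mul_cancel_right] at this
      exact h (Subgroup.mem_map_of_mem _ hu)
    have := Subgroup.eq_of_le_of_card_ge hBB' (hBmax B' ⟨hn', hB'⟩)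
    exact hy1 ((QuotientGroup.eq_one_iff x).2 (this.ge (Subgroup.subset_closure (Or.inr rfl))))
  set B₀ := B.map (P : Subgroup G).subtype
  have hB₀ : ∀ x ∈ B₀, ∀ y ∈ B₀, x * y = y * x := by
    rintro _ ⟨x, hx, rfl⟩ _ ⟨y, hy, rfl⟩
    exact congrArg Subtype.val (hB x hx y hy)
  refine ⟨B₀, hB₀, ?_⟩
  obtain ⟨k, φ, hk, hφ⟩ := exists_perm_hom U hU hinj B₀ hB₀
  have hPN : (P : Subgroup G) ≤ Subgroup.normalizer (B₀ : Set G) := by
    intro g hg
    refine Subgroup.mem_normalizer_iff.2 fun y => ⟨?_, ?_⟩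
    · rintro ⟨b, hb, rfl⟩
      exact ⟨⟨g, hg⟩ * b * ⟨g, hg⟩⁻¹, hBn.conj_mem b hb _, rfl⟩
    · rintro ⟨b, hb, he⟩
      refine ⟨⟨g, hg⟩⁻¹ * b * ⟨g, hg⟩, ?_, ?_⟩
      · simpa using hBn.conj_mem b hb ⟨g, hg⟩⁻¹
      · show g⁻¹ * (b : G) * g = y
        rw [show (b : G) = g * y * g⁻¹ from he]; group
  set ψ := φ.comp (Subgroup.inclusion hPN)
  have hker : ψ.ker ≤ B := fun g hg => hCB (Subgroup.mem_centralizer_iff.2 fun b hb => Subtype.ext
    (Subgroup.mem_centralizer_iff.1 (hφ _ hg) (b : G) ⟨b, hb, rfl⟩))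
  have hBi : B.index ∣ (Nat.factorial (finrank ℂ W)) := by
    refine (Subgroup.index_dvd_of_le hker).trans ?_
    rw [Subgroup.index_ker]
    refine (Subgroup.card_subgroup_dvd_card _).trans ?_
    rw [Nat.card_perm, Nat.card_fin]
    exact Nat.factorial_dvd_factorial hk
  have hPi : (P : Subgroup G).index.factorization p = 0 :=
    Nat.factorization_eq_zero_of_not_dvd P.not_dvd_index
  rw [Subgroup.index_map_subtype, Nat.factorization_mul Subgroup.index_ne_zero_of_finite
    Subgroup.index_ne_zero_of_finite, Finsupp.add_apply, hPi, add_zero]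
  exact (Nat.factorization_le_iff_dvd Subgroup.index_ne_zero_of_finite (Nat.factorial_ne_zero _)).2 hBi p

/-- The unitary group as a representation. -/
noncomputable def rep : Representation ℂ G W where
  toFun g := (U g).toLinearMap
  map_one' := by ext x; simp
  map_mul' a b := by ext x; simp

include hU hinj in
/-- For an irreducible group of degree below `p - 1` and `q - 1`, some element has order `pq`. -/
theorem exists_commuting_pair {p q : ℕ} [hp : Fact p.Prime] [hq : Fact q.Prime] (hpq : p ≠ q)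
    (hpn : finrank ℂ W + 1 < p) (hqn : finrank ℂ W + 1 < q) (hpd : p ∣ Nat.card G)
    (hqd : q ∣ Nat.card G) [(rep U).IsIrreducible] :
    ∃ x y : G, orderOf x = p ∧ orderOf y = q ∧ x * y = y * x := by
  have := Fintype.ofFinite G
  by_contra hno
  let χ : Cfsg.IrrCharacter G := ⟨(rep U).character, CfsgLib.Char.isIrrCharacter_character (rep U)⟩
  have key : ∀ r : ℕ, r.Prime → finrank ℂ W + 1 < r → r ∣ Nat.card G →
      ∃ m : ℕ, Nat.Coprime (Nat.card G) m ∧ (∀ g : G, ¬ r ∣ orderOf g → g ^ m = g) ∧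
        (fun g => (χ : G → ℂ) (g ^ m)) ≠ (χ : G → ℂ) := by
    intro r hr hrn hrd
    haveI := Fact.mk hr
    obtain ⟨x, hx⟩ := exists_prime_orderOf_dvd_card' r hrd
    set a := (Nat.card G).factorization r
    set s := Nat.card G / r ^ a
    have hrs : (r ^ a).Coprime s :=
      (hr.coprime_iff_not_dvd.2 (Nat.not_dvd_ordCompl hr Nat.card_pos.ne')).pow_left a
    have hGrs : r ^ a * s = Nat.card G := Nat.ordProj_mul_ordCompl_eq_self _ r
    have ha : a ≠ 0 := (hr.factorization_pos_of_dvd Nat.card_pos.ne' hrd).ne'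
    obtain ⟨b, μ, h1, h2, h3⟩ := CfsgLib.Char.exists_eigen_data (rep U) x
    by_contra hnone
    push Not at hnone
    have hconst : ∀ j ∈ Finset.Ico 1 r, (rep U).character (x ^ j) = (rep U).character x := by
      intro j hj
      obtain ⟨hj1, hj2⟩ := Finset.mem_Ico.1 hj
      obtain ⟨m, hm1, hm2⟩ := Nat.chineseRemainder hrs j 1
      have hjr : j.Coprime r := (hr.coprime_iff_not_dvd.2 fun hd => by
        have := Nat.le_of_dvd (by omega) hd; omega).symm
      have hmr : m.Coprime (r ^ a) := Nat.Coprime.pow_right a (by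
        have h := (hm1.of_dvd (dvd_pow_self r ha)).gcd_eq
        rw [Nat.coprime_iff_gcd_eq_one, h]
        exact hjr)
      have hms : m.Coprime s := by
        rw [Nat.coprime_iff_gcd_eq_one, hm2.gcd_eq, Nat.gcd_one_left]
      have hcop : Nat.Coprime (Nat.card G) m := hGrs ▸ (hmr.mul_right hms).symm
      have hfix : ∀ g : G, ¬ r ∣ orderOf g → g ^ m = g := fun g hg => by
        have hd : orderOf g ∣ s := by
          have h := orderOf_dvd_natCard g
          rw [← hGrs] at h
          exact (Nat.Coprime.pow_right a (hr.coprime_iff_not_dvd.2 hg).symm).dvd_of_dvd_mul_left h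
        conv_rhs => rw [← pow_one g]
        exact pow_eq_pow_iff_modEq.2 (hm2.of_dvd hd)
      have h := congrFun (hnone m hcop hfix) x
      have hxj : x ^ m = x ^ j := by
        rw [pow_eq_pow_iff_modEq, hx]
        exact hm1.of_dvd (dvd_pow_self r ha)
      rw [hxj] at h
      exact h
    set k := (Finset.univ.filter fun i => μ i = 1).card
    have hsum : ∑ j ∈ Finset.range r, (rep U).character (x ^ j) = (r : ℂ) * k := by
      simp only [h3]
      rw [Finset.sum_comm]
      rw [show (r : ℂ) * k = ∑ i, if μ i = 1 then (r : ℂ) else 0 by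
        rw [← Finset.sum_filter, Finset.sum_const, nsmul_eq_mul, mul_comm]]
      refine Finset.sum_congr rfl fun i _ => ?_
      split_ifs with h
      · simp [h]
      · rw [geom_sum_eq h, show μ i ^ r = 1 by rw [← hx]; exact h1 i, sub_self, zero_div]
    rw [Finset.range_eq_Ico, Finset.sum_eq_sum_Ico_succ_bot hr.pos, pow_zero,
      Representation.char_one, Finset.sum_congr rfl hconst, Finset.sum_const, Nat.card_Ico,
      nsmul_eq_mul] at hsum
    have hint : IsIntegral ℤ ((rep U).character x) := by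
      have := h3 1
      rw [pow_one] at this
      rw [this]
      exact IsIntegral.sum _ fun i _ => (CfsgLib.Char.isIntegral_of_pow_eq_one (orderOf_pos x).ne' (h1 i)).pow 1
    have hr1 : ((r - 1 : ℕ) : ℂ) ≠ 0 := by exact_mod_cast (by have := hr.two_le; omega : r - 1 ≠ 0)
    have hval : (rep U).character x =
        algebraMap ℚ ℂ (((r : ℚ) * k - finrank ℂ W) / ((r - 1 : ℕ) : ℚ)) := by
      rw [map_div₀, map_sub, map_mul, map_natCast, map_natCast, map_natCast, map_natCast, ← hsum,
        add_sub_cancel_left, mul_div_cancel_left₀ _ hr1]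
    rw [hval, isIntegral_algebraMap_iff (algebraMap ℚ ℂ).injective] at hint
    obtain ⟨z, hz⟩ := IsIntegrallyClosed.isIntegral_iff.1 hint
    have hz' : (z : ℤ) * ((r - 1 : ℕ) : ℤ) = (r : ℤ) * k - finrank ℂ W := by
      have hr1' : ((r - 1 : ℕ) : ℚ) ≠ 0 := by exact_mod_cast (by have := hr.two_le; omega : r - 1 ≠ 0)
      rw [eq_intCast, eq_div_iff hr1'] at hz
      exact_mod_cast hz
    have hk : k ≤ finrank ℂ W := (Finset.card_le_univ _).trans (by simp)
    have hkn : k = finrank ℂ W := by
      have hr' : ((r - 1 : ℕ) : ℤ) = (r : ℤ) - 1 := by have := hr.two_le; omega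
      rw [hr'] at hz'
      have h4 : ((k : ℤ) - z) * ((r : ℤ) - 1) = (finrank ℂ W : ℤ) - k := by ring_nf; ring_nf at hz'; linarith
      rcases lt_trichotomy ((k : ℤ) - z) 0 with h5 | h5 | h5
      · nlinarith
      · rw [h5, zero_mul] at h4; omega
      · nlinarith
    have hall : ∀ i, μ i = 1 := fun i => by
      have := Finset.eq_univ_of_card _ (show k = Fintype.card (Fin (finrank ℂ W)) by simp [hkn])
      exact (Finset.mem_filter.1 (Finset.eq_univ_iff_forall.1 this i)).2
    have hx1 : x = 1 := by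
      apply hinj
      apply ContinuousLinearMap.coe_injective
      apply b.ext
      intro i
      have h := h2 1 i
      rw [pow_one, pow_one, hall, one_smul] at h
      rw [map_one]
      exact h
    rw [hx1, orderOf_one] at hx
    exact hr.ne_one hx.symm
  obtain ⟨m, hm, hmfix, hmne⟩ := key p hp.out hpn hpd
  obtain ⟨l, hl, hlfix, hlne⟩ := key q hq.out hqn hqd
  let χm : Cfsg.IrrCharacter G := ⟨_, CfsgLib.Char.isIrrCharacter_powMap hm χ⟩
  let χl : Cfsg.IrrCharacter G := ⟨_, CfsgLib.Char.isIrrCharacter_powMap hl χ⟩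
  have hzero : ∀ g : G, ((χ : G → ℂ) g - (χm : G → ℂ) g) * conj ((χ : G → ℂ) g - (χl : G → ℂ) g) = 0 := by
    intro g
    by_cases hgp : p ∣ orderOf g
    · by_cases hgq : q ∣ orderOf g
      · exfalso
        refine hno ⟨g ^ (orderOf g / p), g ^ (orderOf g / q), ?_, ?_, ?_⟩
        · exact orderOf_pow_orderOf_div (orderOf_pos g).ne' hgp
        · exact orderOf_pow_orderOf_div (orderOf_pos g).ne' hgq
        · exact (pow_mul_comm g _ _)
      · have : (χl : G → ℂ) g = (χ : G → ℂ) g := congrArg (χ : G → ℂ) (hlfix g hgq)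
        rw [this, sub_self, map_zero, mul_zero]
    · have : (χm : G → ℂ) g = (χ : G → ℂ) g := congrArg (χ : G → ℂ) (hmfix g hgp)
      rw [this, sub_self, zero_mul]
  have hne_m : χ ≠ χm := fun e => hmne (congrArg Subtype.val e).symm
  have hne_l : χ ≠ χl := fun e => hlne (congrArg Subtype.val e).symm
  have h0 : Cfsg.classInner ((χ : G → ℂ) - (χm : G → ℂ)) ((χ : G → ℂ) - (χl : G → ℂ)) = 0 := by
    simp only [Cfsg.classInner, Pi.sub_apply, hzero, Finset.sum_const_zero, mul_zero]
  rw [CfsgLib.Char.classInner_sub_left, CfsgLib.Char.classInner_sub_right,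
    CfsgLib.Char.classInner_sub_right, CfsgLib.Char.classInner_irr_self,
    CfsgLib.Char.classInner_irr_ne hne_l, CfsgLib.Char.classInner_irr_ne hne_m.symm] at h0
  by_cases e : χm = χl
  · rw [e, CfsgLib.Char.classInner_irr_self] at h0; norm_num at h0
  · rw [CfsgLib.Char.classInner_irr_ne e] at h0; norm_num at h0

end Unitary

theorem good_of_subgroup {N : ℕ} {G : Type v} [Group G] [Finite G] {C : Subgroup G}
    (hC : ∀ q, Big N q → ¬ q ∣ C.index) (h : Good N C) : Good N G := by
  obtain ⟨H, hH, hi⟩ := h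
  refine ⟨H.map C.subtype, ?_, fun q hq hd => ?_⟩
  · rintro _ ⟨a, ha, rfl⟩ _ ⟨b, hb, rfl⟩
    exact congrArg Subtype.val (hH a ha b hb)
  · rw [Subgroup.index_map_subtype] at hd
    exact (hq.1.dvd_mul.1 hd).elim (hi q hq) (hC q hq)

theorem exists_sylow_le {p : ℕ} [Fact p.Prime] {G : Type v} [Group G] [Finite G] {H : Subgroup G}
    (h : ¬ p ∣ H.index) : ∃ P : Sylow p G, (P : Subgroup G) ≤ H := by
  obtain ⟨Q⟩ : Nonempty (Sylow p H) := inferInstance
  have hd : ¬ p ∣ ((Q : Subgroup H).map H.subtype).index := by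
    rw [Subgroup.index_map_subtype]
    exact fun hd => ((Fact.out : p.Prime).dvd_mul.1 hd).elim Q.not_dvd_index h
  exact ⟨(Q.2.map H.subtype).toSylow hd, Subgroup.map_subtype_le _⟩

section Steps

variable {W : Type u} [NormedAddCommGroup W] [InnerProductSpace ℂ W] [FiniteDimensional ℂ W]
  {G : Type v} [Group G] [Finite G] (U : G →* (W →L[ℂ] W))
  (hU : ∀ g x y, ⟪U g x, U g y⟫_ℂ = ⟪x, y⟫_ℂ) (hinj : Function.Injective U)

/-- The action on an invariant subspace. -/
theorem exists_restrict (X : Submodule ℂ W) (hX : ∀ g, ∀ x ∈ X, U g x ∈ X) (C : Subgroup G) :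
    ∃ f : C →* (X →L[ℂ] X), ∀ (g : C) (x : X), ((f g x : X) : W) = U g x := by
  refine ⟨{ toFun := fun g => ((U g).comp X.subtypeL).codRestrict X (fun x => hX g x x.2),
            map_one' := ?_, map_mul' := fun a b => ?_ }, fun g x => rfl⟩
  · ext x; simp
  · apply ContinuousLinearMap.ext
    intro x
    apply Subtype.ext
    show U ((a : G) * b) x = U (a : G) (U (b : G) x)
    rw [U_mul_apply]

/-- `QuotientGroup.kerLift` for a monoid target. -/
def kerLiftM {C : Type v} [Group C] {M : Type u} [Monoid M] (f : C →* M) : C ⧸ f.ker →* M :=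
  QuotientGroup.lift f.ker f le_rfl

theorem kerLiftM_mk {C : Type v} [Group C] {M : Type u} [Monoid M] (f : C →* M) (c : C) :
    kerLiftM f (c : C ⧸ f.ker) = f c := rfl

theorem kerLiftM_injective {C : Type v} [Group C] {M : Type u} [Monoid M] (f : C →* M) :
    Function.Injective (kerLiftM f) := by
  intro a b h
  induction a using QuotientGroup.induction_on with
  | H a =>
    induction b using QuotientGroup.induction_on with
    | H b =>
      rw [kerLiftM_mk, kerLiftM_mk] at h
      rw [QuotientGroup.eq, MonoidHom.mem_ker, map_mul, ← h, ← map_mul, inv_mul_cancel, map_one]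

theorem kerLiftM_inner {C : Type v} [Group C] {X : Type u} [NormedAddCommGroup X]
    [InnerProductSpace ℂ X] (f : C →* (X →L[ℂ] X)) (h : ∀ g x y, ⟪f g x, f g y⟫_ℂ = ⟪x, y⟫_ℂ) :
    ∀ (g : C ⧸ f.ker) (x y : X), ⟪kerLiftM f g x, kerLiftM f g y⟫_ℂ = ⟪x, y⟫_ℂ := by
  intro g x y
  induction g using QuotientGroup.induction_on with
  | H c => exact h c x y

omit [Finite G] in
theorem isIrreducible_of_not_reducible [Nontrivial W]
    (h : ∀ V : Submodule ℂ W, V ≠ ⊥ → V ≠ ⊤ → (∀ g, ∀ x ∈ V, U g x ∈ V) → False) :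
    (rep U).IsIrreducible := by
  have : Nontrivial (Subrepresentation (rep U)) :=
    ⟨⟨⊥, ⊤, fun e => bot_ne_top (α := Submodule ℂ W) (congrArg Subrepresentation.toSubmodule e)⟩⟩
  refine ⟨fun S => ?_⟩
  by_contra hS
  push Not at hS
  exact h S.toSubmodule (fun e => hS.1 (Subrepresentation.toSubmodule_injective e))
    (fun e => hS.2 (Subrepresentation.toSubmodule_injective e))
    (fun g x hx => S.apply_mem_toSubmodule g hx)

include hinj in
theorem nontrivial_of_prime_dvd {p : ℕ} (hp : p.Prime) (hpd : p ∣ Nat.card G) : Nontrivial W := by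
  by_contra hW
  rw [not_nontrivial_iff_subsingleton] at hW
  haveI : Subsingleton G := ⟨fun a b => hinj (ContinuousLinearMap.ext fun x => Subsingleton.elim _ _)⟩
  rw [Nat.card_of_subsingleton 1] at hpd
  exact hp.ne_one (Nat.dvd_one.1 hpd)

include hU hinj in
theorem good_of_reducible {N : ℕ} (V : Submodule ℂ W) (hV0 : V ≠ ⊥) (hV1 : V ≠ ⊤)
    (hinv : ∀ g, ∀ x ∈ V, U g x ∈ V)
    (hih : ∀ (X : Submodule ℂ W), finrank ℂ X < finrank ℂ W → ∀ (C : Subgroup G)
      (f : C →* (X →L[ℂ] X)), (∀ (g : C) (x : X), ((f g x : X) : W) = U g x) →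
      Good N (C ⧸ f.ker)) : Good N G := by
  have hinv' : ∀ g, ∀ x ∈ Vᗮ, U g x ∈ Vᗮ := by
    intro g x hx
    rw [Submodule.mem_orthogonal] at hx ⊢
    intro v hv
    rw [← hU g⁻¹, U_inv_apply]
    exact hx _ (hinv g⁻¹ v hv)
  have hf := Submodule.finrank_add_finrank_orthogonal V
  have hV0' : 0 < finrank ℂ V :=
    Nat.pos_of_ne_zero fun e => hV0 (Submodule.finrank_eq_zero.1 e)
  have hV1' : 0 < finrank ℂ ↥Vᗮ := by
    have := Submodule.finrank_lt hV1
    omega
  have part : ∀ (X : Submodule ℂ W), finrank ℂ X < finrank ℂ W → ∀ (hX : ∀ g, ∀ x ∈ X, U g x ∈ X)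
      (C : Subgroup G), ∃ H : Subgroup G, H ≤ C ∧ (∀ q, Big N q → ¬ q ∣ H.relIndex C) ∧
        ∀ a ∈ H, ∀ b ∈ H, ∀ x ∈ X, U (a * b) x = U (b * a) x := by
    intro X hXlt hX C
    obtain ⟨f, hf⟩ := exists_restrict U X hX C
    obtain ⟨H, hH, hi⟩ := hih X hXlt C f hf
    refine ⟨(H.comap (QuotientGroup.mk' f.ker)).map C.subtype,
      Subgroup.map_subtype_le _, fun q hq => ?_, ?_⟩
    · rw [Subgroup.relIndex, Subgroup.subgroupOf, Subgroup.comap_map_eq_self_of_injective
        C.subtype_injective, Subgroup.index_comap_of_surjective _ (QuotientGroup.mk'_surjective _)]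
      exact hi q hq
    · rintro _ ⟨a, ha, rfl⟩ _ ⟨b, hb, rfl⟩ x hx
      have h := congrArg (kerLiftM f) (hH _ ha _ hb)
      rw [map_mul, map_mul, QuotientGroup.mk'_apply, QuotientGroup.mk'_apply, kerLiftM_mk,
        kerLiftM_mk, ← map_mul, ← map_mul] at h
      have h2 := congrArg Subtype.val (ContinuousLinearMap.ext_iff.1 h ⟨x, hx⟩)
      rw [hf, hf] at h2
      exact h2
  obtain ⟨H₁, -, hi₁, hc₁⟩ := part V (by omega) hinv ⊤
  obtain ⟨H₂, hle, hi₂, hc₂⟩ := part Vᗮ (by omega) hinv' H₁
  refine ⟨H₂, fun a ha b hb => ?_, fun q hq hd => ?_⟩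
  · apply hinj
    ext x
    obtain ⟨y, hy, z, hz, rfl⟩ := V.exists_add_mem_mem_orthogonal x
    rw [map_add, map_add, hc₁ a (hle ha) b (hle hb) y hy, hc₂ a ha b hb z hz]
  · rw [← Subgroup.relIndex_mul_index hle] at hd
    rcases hq.1.dvd_mul.1 hd with h | h
    · exact hi₂ q hq h
    · exact hi₁ q hq (by rwa [Subgroup.relIndex_top_right])

include hU hinj in
theorem false_of_p_quotient {N : ℕ} (hN : finrank ℂ W ≤ N)
    (hih : ∀ C : Subgroup G, C ≠ ⊤ → Good N C)
    (hsub : ∀ C : Subgroup G, (∀ q, Big N q → ¬ q ∣ C.index) → C = ⊤)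
    (hcenter : ¬ ∀ q, Big N q → ¬ q ∣ (Subgroup.center G).index)
    (r : ℕ) (hr : Big N r) (G₁ : Subgroup G) (hn : G₁.Normal) (hne : G₁ ≠ ⊤)
    (hq : IsPGroup r (G ⧸ G₁)) : False := by
  haveI := hn
  haveI := Fact.mk hr.1
  obtain ⟨H₁, hH₁, hi₁⟩ := hih G₁ hne
  have hbig : ∀ {r : ℕ}, Big N r → finrank ℂ W < r ∧ finrank ℂ W + 1 < r := fun h => by
    have := h.2; omega
  have hsylcomm : ∀ {r : ℕ}, Big N r → ∀ (R : Subgroup G), IsPGroup r R →
      R ≤ Subgroup.centralizer (R : Set G) := fun {r} hr R hR x hx =>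
    Subgroup.mem_centralizer_iff.2 fun y hy =>
      comm_of_large_pGroup U hU hinj hr.1 (hbig hr).1 hR y hy x hx
  have hcen : ∀ s, Big N s → s ≠ r → ¬ s ∣ (Subgroup.center G).index := by
    intro s hs hsr
    haveI := Fact.mk hs.1
    obtain ⟨Q₁, hQ₁⟩ := exists_sylow_le (hi₁ s hs)
    set Q := (Q₁ : Subgroup G₁).map G₁.subtype with hQ
    have hQc : ∀ x ∈ Q, ∀ y ∈ Q, x * y = y * x :=
      comm_of_large_pGroup U hU hinj hs.1 (hbig hs).1 (Q₁.2.map _)
    set C := Subgroup.centralizer (Q : Set G)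
    have hHC : H₁.map G₁.subtype ≤ C := by
      rintro _ ⟨h, hh, rfl⟩
      refine Subgroup.mem_centralizer_iff.2 ?_
      rintro _ ⟨y, hy, rfl⟩
      exact congrArg Subtype.val (hH₁ y (hQ₁ hy) h hh)
    obtain ⟨R⟩ : Nonempty (Sylow r ↥(Subgroup.normalizer (Q : Set G))) := inferInstance
    have hfrat : Subgroup.normalizer (Q : Set G) ⊔ G₁ = ⊤ := Sylow.normalizer_sup_eq_top Q₁
    have hRC : (R : Subgroup _).map (Subgroup.normalizer (Q : Set G)).subtype ≤ C := by
      rintro _ ⟨g, hg, rfl⟩
      obtain ⟨a, ha⟩ := IsPGroup.iff_orderOf.1 R.2 ⟨g, hg⟩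
      exact centralizes_of_normalizes U hU hinj hr.1 (hbig hr).1 hQc g.2 (a := a)
        (by rw [Subgroup.subtype_apply, Subgroup.orderOf_coe, ← ha]; exact (Subgroup.orderOf_mk g hg).symm)
    let π := (QuotientGroup.mk' G₁).comp (Subgroup.normalizer (Q : Set G)).subtype
    have hπ : Function.Surjective π := by
      intro y
      obtain ⟨g, rfl⟩ := QuotientGroup.mk'_surjective G₁ y
      obtain ⟨a, ha, b, hb, hab⟩ := Subgroup.mem_sup_of_normal_right.1
        (hfrat ▸ Subgroup.mem_top g)
      refine ⟨⟨a, ha⟩, QuotientGroup.eq.2 ?_⟩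
      rw [← hab, Subgroup.subtype_apply, inv_mul_cancel_left]
      exact hb
    have hRtop : ((R.mapSurjective hπ : Sylow r (G ⧸ G₁)) : Subgroup (G ⧸ G₁)) = ⊤ :=
      ((R.mapSurjective hπ).is_maximal' (hq.to_subgroup ⊤) le_top).symm
    rw [Sylow.coe_mapSurjective] at hRtop
    have hsup : C ⊔ G₁ = ⊤ := by
      refine eq_top_iff.2 fun g _ => ?_
      obtain ⟨y, hy, hye⟩ := (hRtop.ge (Subgroup.mem_top (QuotientGroup.mk' G₁ g)))
      have h := QuotientGroup.eq.1 (show ((y : G) : G ⧸ G₁) = (g : G ⧸ G₁) from hye)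
      have := mul_mem (Subgroup.mem_sup_left (T := G₁) (hRC ⟨y, hy, rfl⟩))
        (Subgroup.mem_sup_right (S := C) h)
      simpa using this
    have hindex : C.index ∣ H₁.index := by
      have e1 : G₁.relIndex C = G₁.index := by
        rw [← Subgroup.relIndex_sup_right C G₁, hsup, Subgroup.relIndex_top_right]
      have e2 : C.index * G₁.relIndex C = C.relIndex G₁ * G₁.index := by
        rw [← Subgroup.inf_relIndex_right G₁ C, ← Subgroup.inf_relIndex_right C G₁, mul_comm,
          Subgroup.relIndex_mul_index inf_le_right, inf_comm G₁ C,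
          Subgroup.relIndex_mul_index inf_le_right]
      rw [e1] at e2
      rw [Nat.eq_of_mul_eq_mul_right (Nat.pos_of_ne_zero Subgroup.index_ne_zero_of_finite) e2]
      have : H₁ ≤ C.subgroupOf G₁ := fun h hh => hHC ⟨h, hh, rfl⟩
      exact Subgroup.index_dvd_of_le this
    have hCtop := hsub C fun q hq hd => hi₁ q hq (hd.trans hindex)
    intro hd
    have hQZ : Q ≤ Subgroup.center G := fun x hx => Subgroup.mem_center_iff.2 fun g =>
      (Subgroup.mem_centralizer_iff.1 (hCtop ▸ Subgroup.mem_top g : g ∈ C) x hx).symm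
    have h1 := hd.trans (Subgroup.index_dvd_of_le hQZ)
    rw [hQ, Subgroup.index_map_subtype] at h1
    rcases hs.1.dvd_mul.1 h1 with h | h
    · exact Q₁.not_dvd_index h
    · obtain ⟨j, hj⟩ := IsPGroup.iff_card.1 hq
      rw [← Subgroup.index_eq_card] at hj
      exact hsr ((Nat.prime_dvd_prime_iff_eq hs.1 hr.1).1 (hs.1.dvd_of_dvd_pow (hj ▸ h)))
  obtain ⟨P⟩ : Nonempty (Sylow r G) := inferInstance
  have hC := hsub (Subgroup.centralizer ((P : Subgroup G) : Set G)) fun s hs hd => by
    by_cases hsr : s = r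
    · subst hsr
      exact P.not_dvd_index (hd.trans (Subgroup.index_dvd_of_le (hsylcomm hr _ P.2)))
    · exact hcen s hs hsr (hd.trans (Subgroup.index_dvd_of_le (Subgroup.center_le_centralizer _)))
  refine hcenter fun s hs hd => ?_
  by_cases hsr : s = r
  · subst hsr
    refine P.not_dvd_index (hd.trans (Subgroup.index_dvd_of_le fun x hx => ?_))
    exact Subgroup.mem_center_iff.2 fun g =>
      (Subgroup.mem_centralizer_iff.1 (hC ▸ Subgroup.mem_top g :
        g ∈ Subgroup.centralizer ((P : Subgroup G) : Set G)) x hx).symm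
  · exact hcen s hs hsr hd

end Steps

/-- **Blichfeldt**: an abelian subgroup whose index involves only primes at most `n + 1`. -/
theorem good_of_unitary (N : ℕ) : ∀ (k : ℕ) {W : Type u} [NormedAddCommGroup W]
    [InnerProductSpace ℂ W] [FiniteDimensional ℂ W] {G : Type v} [Group G] [Finite G]
    (U : G →* (W →L[ℂ] W)), (∀ g x y, ⟪U g x, U g y⟫_ℂ = ⟪x, y⟫_ℂ) → Function.Injective U →
    finrank ℂ W ≤ N → finrank ℂ W + Nat.card G = k → Good N G := by
  intro k
  induction k using Nat.strong_induction_on with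
  | _ k ih =>
    intro W _ _ _ G _ _ U hU hinj hN hk
    by_contra hbad
    have hih : ∀ C : Subgroup G, C ≠ ⊤ → Good N C := fun C hne => by
      have hlt : Nat.card C < Nat.card G := by
        refine lt_of_le_of_ne (Nat.le_of_dvd Nat.card_pos C.card_subgroup_dvd_card) fun e => hne ?_
        exact Subgroup.eq_top_of_card_eq _ e
      exact ih (finrank ℂ W + Nat.card C) (by omega) (U.comp C.subtype) (fun g => hU g)
        (hinj.comp C.subtype_injective) hN rfl
    -- proper subgroups have bad index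
    have hsub : ∀ C : Subgroup G, (∀ q, Big N q → ¬ q ∣ C.index) → C = ⊤ := by
      intro C hC
      by_contra hne
      exact hbad (good_of_subgroup hC (hih C hne))
    have hbig : ∀ {r : ℕ}, Big N r → finrank ℂ W < r ∧ finrank ℂ W + 1 < r := fun h => by
      have := h.2; omega
    have hcenter : ¬ ∀ q, Big N q → ¬ q ∣ (Subgroup.center G).index := fun h =>
      hbad ⟨Subgroup.center G, fun x hx y _ => (Subgroup.mem_center_iff.1 hx y).symm, h⟩
    obtain ⟨p, hpB, hpi⟩ : ∃ p, Big N p ∧ p ∣ (Subgroup.center G).index := by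
      simpa only [not_forall, not_not, exists_prop] using hcenter
    haveI hpf := Fact.mk hpB.1
    have hpd : p ∣ Nat.card G := hpi.trans (Subgroup.center G).index_dvd_card
    have hsylcomm : ∀ {r : ℕ}, Big N r → ∀ (R : Subgroup G), IsPGroup r R →
        R ≤ Subgroup.centralizer (R : Set G) := fun {r} hr R hR x hx =>
      Subgroup.mem_centralizer_iff.2 fun y hy =>
        comm_of_large_pGroup U hU hinj hr.1 (hbig hr).1 hR y hy x hx
    -- the representation is irreducible
    haveI hW : Nontrivial W := nontrivial_of_prime_dvd U hinj hpB.1 hpd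
    haveI hirr : (rep U).IsIrreducible := by
      refine isIrreducible_of_not_reducible U fun V hV0 hV1 hinv => hbad ?_
      refine good_of_reducible U hU hinj V hV0 hV1 hinv (fun X hX C f hf => ?_)
      have hQ : Nat.card (C ⧸ f.ker) ≤ Nat.card G :=
        (Nat.card_le_card_of_surjective _ Quotient.mk''_surjective).trans
          (Nat.le_of_dvd Nat.card_pos C.card_subgroup_dvd_card)
      have hfi : ∀ g x y, ⟪f g x, f g y⟫_ℂ = ⟪x, y⟫_ℂ := fun g x y => by
        rw [Submodule.coe_inner, Submodule.coe_inner, hf, hf, hU]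
      exact ih (finrank ℂ X + Nat.card (C ⧸ f.ker)) (by omega)
        (W := X) (G := C ⧸ f.ker) (kerLiftM f)
        (kerLiftM_inner f hfi) (kerLiftM_injective f) (by omega) rfl
    -- no nontrivial homomorphism onto a `r`-group, `r` big
    have hhom := false_of_p_quotient U hU hinj hN hih hsub hcenter
    -- no central element of big prime order
    have hZ : ∀ r, Big N r → ∀ z ∈ Subgroup.center G, orderOf z ≠ r := by
      intro r hr z hz hzo
      obtain ⟨c, hc⟩ := CfsgLib.Char.exists_scalar_of_mem_center (rep U) hz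
      have hdet : LinearMap.det (rep U z) = c ^ finrank ℂ W := by
        rw [hc, LinearMap.det_smul, LinearMap.det_id, mul_one]
      obtain ⟨v, hv⟩ := exists_ne (0 : W)
      have hscal : ∀ j : ℕ, ∀ x : W, rep U (z ^ j) x = c ^ j • x := by
        intro j
        induction j with
        | zero => intro x; simp
        | succ j ihj =>
          intro x
          rw [pow_succ, map_mul, Module.End.mul_apply, hc, LinearMap.smul_apply, LinearMap.id_apply,
            map_smul, ihj, smul_smul, pow_succ']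
      have hcr : c ^ r = 1 := by
        have := hscal r v
        rw [← hzo, pow_orderOf_eq_one, map_one, Module.End.one_apply, hzo] at this
        exact (smul_left_injective ℂ hv (show c ^ r • v = (1 : ℂ) • v by rw [one_smul, ← this])).symm ▸ rfl
      have hc1 : c ≠ 1 := fun e => by
        have : z = 1 := hinj (ContinuousLinearMap.ext fun x => by
          have := hscal 1 x
          rw [pow_one, pow_one, e, one_smul] at this
          rw [map_one]; exact this)
        rw [this, orderOf_one] at hzo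
        exact hr.1.ne_one hzo.symm
      have hoc : orderOf c = r := by
        haveI := Fact.mk hr.1
        exact orderOf_eq_prime hcr hc1
      set a := (Nat.card G).factorization r
      set s := Nat.card G / r ^ a
      let d : G →* ℂˣ := (powMonoidHom s).comp ((LinearMap.det.comp (rep U)).toHomUnits)
      have hdz : d z ≠ 1 := by
        intro e
        have e' : (c ^ finrank ℂ W) ^ s = 1 := by
          rw [← hdet]
          exact congrArg (Units.val) e
        rw [← pow_mul] at e'
        have := orderOf_dvd_of_pow_eq_one e'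
        rw [hoc] at this
        rcases hr.1.dvd_mul.1 this with h | h
        · have := Nat.le_of_dvd (finrank_pos (R := ℂ) (M := W)) h
          have := (hbig hr).1
          omega
        · exact Nat.not_dvd_ordCompl hr.1 Nat.card_pos.ne' h
      refine hhom r hr d.ker inferInstance (fun e => hdz (MonoidHom.mem_ker.1 (e ▸ Subgroup.mem_top z))) ?_
      intro y
      refine QuotientGroup.induction_on y fun g => ⟨a, ?_⟩
      rw [← QuotientGroup.mk_pow, QuotientGroup.eq_one_iff, MonoidHom.mem_ker, map_pow]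
      show ((LinearMap.det.comp (rep U)).toHomUnits g ^ s) ^ r ^ a = 1
      rw [← pow_mul, mul_comm, Nat.ordProj_mul_ordCompl_eq_self, ← map_pow, pow_card_eq_one', map_one]
    -- a second prime
    obtain ⟨P⟩ : Nonempty (Sylow p G) := inferInstance
    have hCP : Subgroup.centralizer ((P : Subgroup G) : Set G) ≠ ⊤ := by
      intro e
      obtain ⟨x, hx⟩ := exists_prime_orderOf_dvd_card' (G := ↥(P : Subgroup G)) p (P.dvd_card_of_dvd_card hpd)
      refine hZ p hpB x ?_ (by rw [Subgroup.orderOf_coe, hx])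
      exact Subgroup.mem_center_iff.2 fun g => (Subgroup.mem_centralizer_iff.1 (e ▸ Subgroup.mem_top g :
        g ∈ Subgroup.centralizer ((P : Subgroup G) : Set G)) x x.2).symm
    refine hCP (hsub _ fun q hqB hqd => ?_)
    haveI := Fact.mk hqB.1
    by_cases hpq : q = p
    · subst hpq
      exact P.not_dvd_index (hqd.trans (Subgroup.index_dvd_of_le (hsylcomm hqB _ P.2)))
    have hqG : q ∣ Nat.card G := hqd.trans (Subgroup.index_dvd_card _)
    obtain ⟨x, y, hx, hy, hxy⟩ := exists_commuting_pair U hU hinj (Ne.symm hpq) (hbig hpB).2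
      (hbig hqB).2 hpd hqG
    have hcen1 : ∀ (r : ℕ), Big N r → ∀ z : G, orderOf z = r →
        ∃ H : Subgroup G, (∀ u ∈ H, ∀ v ∈ H, u * v = v * u) ∧ H ≤ Subgroup.centralizer ({z} : Set G) ∧
          ¬ r ∣ (Subgroup.centralizer ({z} : Set G)).index ∧
          ∀ s, Big N s → ¬ s ∣ (H.subgroupOf (Subgroup.centralizer ({z} : Set G))).index := by
      intro r hr z hz
      haveI := Fact.mk hr.1
      set C := Subgroup.centralizer ({z} : Set G)
      have hne : C ≠ ⊤ := fun e => hZ r hr z (Subgroup.mem_center_iff.2 fun g =>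
        (Subgroup.mem_centralizer_singleton_iff.1 (e ▸ Subgroup.mem_top g : g ∈ C))) hz
      obtain ⟨H, hH, hi⟩ := hih C hne
      obtain ⟨R, hR⟩ := (IsPGroup.of_card (G := ↥(Subgroup.zpowers z)) (n := 1)
        (by rw [Nat.card_zpowers, hz, pow_one]) : IsPGroup r (Subgroup.zpowers z)).exists_le_sylow
      refine ⟨H.map C.subtype, ?_, Subgroup.map_subtype_le _, fun hd => ?_, fun s hs => ?_⟩
      · rintro _ ⟨a, ha, rfl⟩ _ ⟨b, hb, rfl⟩
        exact congrArg Subtype.val (hH a ha b hb)
      · refine R.not_dvd_index (hd.trans (Subgroup.index_dvd_of_le ?_))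
        exact (hsylcomm hr _ R.2).trans (Subgroup.centralizer_le
          (Set.singleton_subset_iff.2 (hR (Subgroup.mem_zpowers z))))
      · rw [Subgroup.subgroupOf, Subgroup.comap_map_eq_self_of_injective C.subtype_injective]
        exact hi s hs
    obtain ⟨Hx, hHx, hHxC, hCx, hHxi⟩ := hcen1 p hpB x hx
    have hHxp : ¬ p ∣ Hx.index := by
      rw [← Subgroup.relIndex_mul_index hHxC]
      exact fun hd => (hpB.1.dvd_mul.1 hd).elim (hHxi p hpB) hCx
    -- move `y` into `Hx`
    set Cx := Subgroup.centralizer ({x} : Set G)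
    obtain ⟨Qx, hQx⟩ := exists_sylow_le (H := Hx.subgroupOf Cx) (hHxi q hqB)
    have hyC : y ∈ Cx := Subgroup.mem_centralizer_singleton_iff.2 hxy.symm
    obtain ⟨g, hg⟩ := CfsgLib.Invol.exists_conj_le_sylow (G := ↥Cx) (Q := Subgroup.zpowers ⟨y, hyC⟩)
      (IsPGroup.of_card (n := 1) (by rw [Nat.card_zpowers, Subgroup.orderOf_mk, hy, pow_one])) Qx
    set y' : G := (g : G) * y * (g : G)⁻¹
    have hy'H : y' ∈ Hx := Subgroup.mem_subgroupOf.1 (hQx (hg _ (Subgroup.mem_zpowers _)))
    have hy' : orderOf y' = q := by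
      rw [show y' = (MulAut.conj (g : G)) y from rfl, MulEquiv.orderOf_eq, hy]
    obtain ⟨Hy, hHy, hHyC, hCy, hHyi⟩ := hcen1 q hqB y' hy'
    have hxy' : Hx ≤ Subgroup.centralizer ({y'} : Set G) := fun h hh =>
      Subgroup.mem_centralizer_singleton_iff.2 (hHx h hh y' hy'H)
    have hHyp : ¬ p ∣ Hy.index := by
      rw [← Subgroup.relIndex_mul_index hHyC]
      exact fun hd => (hpB.1.dvd_mul.1 hd).elim (hHyi p hpB)
        fun h => hHxp (h.trans (Subgroup.index_dvd_of_le hxy'))
    have hHyq : ¬ q ∣ Hy.index := by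
      rw [← Subgroup.relIndex_mul_index hHyC]
      exact fun hd => (hqB.1.dvd_mul.1 hd).elim (hHyi q hqB) hCy
    obtain ⟨P', hP'⟩ := exists_sylow_le hHyp
    obtain ⟨h, hh⟩ := MulAction.exists_smul_eq G P' P
    refine hHyq ?_
    have hle : Hy ≤ Subgroup.centralizer ((P' : Subgroup G) : Set G) := fun u hu =>
      Subgroup.mem_centralizer_iff.2 fun v hv => hHy v (hP' hv) u hu
    refine dvd_trans ?_ (Subgroup.index_dvd_of_le hle)
    have e : (Subgroup.centralizer ((P' : Subgroup G) : Set G)).map (MulAut.conj h).toMonoidHom =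
        Subgroup.centralizer ((P : Subgroup G) : Set G) := by
      rw [← hh, Sylow.coe_subgroup_smul]
      ext u
      rw [Subgroup.mem_map_equiv, Subgroup.mem_centralizer_iff, Subgroup.mem_centralizer_iff]
      constructor
      · rintro hu w ⟨v, hv, rfl⟩
        have := congrArg (MulAut.conj h) (hu v hv)
        rwa [map_mul, map_mul, MulEquiv.apply_symm_apply] at this
      · intro hu v hv
        apply (MulAut.conj h).injective
        rw [map_mul, map_mul, MulEquiv.apply_symm_apply]
        exact hu _ ⟨v, hv, rfl⟩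
    rw [← e] at hqd
    rw [Subgroup.index_map_of_bijective (f := (MulAut.conj h).toMonoidHom) (MulEquiv.bijective _)] at hqd
    exact hqd

theorem prod_ordProj_dvd (s : Finset ℕ) (hs : ∀ q ∈ s, q.Prime) (m : ℕ) :
    ∏ q ∈ s, q ^ m.factorization q ∣ m := by
  refine Finset.prod_dvd_of_isRelPrime (fun a ha b hb hab => ?_) fun q _ => Nat.ordProj_dvd m q
  exact Nat.coprime_iff_isRelPrime.1 ((Nat.coprime_primes (hs a ha) (hs b hb)).2 hab |>.pow _ _)

theorem prod_le_of_bound (m n c : ℕ) (hm : m ≠ 0) (hc : 0 < c)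
    (hsmall : ∀ q, q.Prime → q ≤ n + 1 → q ^ m.factorization q ≤ q ^ n.factorial.factorization q * c)
    (d : ℕ) (hd : d ≠ 0) (hdc : d ≤ c)
    (hbig : ∀ q, Big n q → m.factorization q ≤ d.factorization q) :
    m ≤ n.factorial * c ^ (Nat.primeCounting (n + 1) + 1) := by
  classical
  set s := m.primeFactors.filter (fun q => q ≤ n + 1)
  set t := m.primeFactors.filter (fun q => ¬ q ≤ n + 1)
  have hm' : m = (∏ q ∈ s, q ^ m.factorization q) * ∏ q ∈ t, q ^ m.factorization q := by
    rw [Finset.prod_filter_mul_prod_filter_not]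
    conv_lhs => rw [← Nat.prod_factorization_pow_eq_self hm]
    rfl
  have hs : ∀ q ∈ s, q.Prime ∧ q ≤ n + 1 := fun q hq =>
    ⟨Nat.prime_of_mem_primeFactors (Finset.mem_filter.1 hq).1, (Finset.mem_filter.1 hq).2⟩
  have ht : ∀ q ∈ t, Big n q := fun q hq =>
    ⟨Nat.prime_of_mem_primeFactors (Finset.mem_filter.1 hq).1, by
      have := (Finset.mem_filter.1 hq).2; omega⟩
  have h1 : ∏ q ∈ s, q ^ m.factorization q ≤ n.factorial * c ^ s.card := by
    refine (Finset.prod_le_prod' fun q hq => hsmall q (hs q hq).1 (hs q hq).2).trans ?_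
    rw [Finset.prod_mul_distrib, Finset.prod_const]
    exact Nat.mul_le_mul_right _
      (Nat.le_of_dvd (Nat.factorial_pos n) (prod_ordProj_dvd s (fun q hq => (hs q hq).1) _))
  have h2 : ∏ q ∈ t, q ^ m.factorization q ≤ c := by
    refine (Finset.prod_le_prod' fun q hq => Nat.pow_le_pow_right (ht q hq).1.pos (hbig q (ht q hq))).trans ?_
    exact (Nat.le_of_dvd (Nat.pos_of_ne_zero hd) (prod_ordProj_dvd t (fun q hq => (ht q hq).1) _)).trans hdc
  have h3 : s.card ≤ Nat.primeCounting (n + 1) := by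
    rw [Nat.primeCounting, Nat.primeCounting', Nat.count_eq_card_filter_range]
    exact Finset.card_le_card fun q hq => Finset.mem_filter.2
      ⟨Finset.mem_range.2 (Nat.lt_succ_of_le (hs q hq).2), (hs q hq).1⟩
  rw [hm', pow_succ, ← mul_assoc]
  exact Nat.mul_le_mul (h1.trans (Nat.mul_le_mul_left _ (Nat.pow_le_pow_right hc h3))) h2

/-- The classical bound for finite linear groups, in explicit form. Let the finite group G have a faithful character of degree n. Then G has an abelian normal subgroup whose index is at most n! · 12^(n·(π(n+1)+1)), π(k) denoting the number of primes not exceeding k. -/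
theorem result {G : Type*} [Group G] [Finite G] (χ : G → ℂ) (hχ : Cfsg.IsCharacter G χ) (hfaith : ∀ g : G, χ g = χ 1 → g = 1) (n : ℕ) (hn : Cfsg.charDegree χ = n) : ∃ A : Subgroup G, A.Normal ∧ (∀ x ∈ A, ∀ y ∈ A, x * y = y * x) ∧ A.index ≤ Nat.factorial n * 12 ^ (n * (Nat.primeCounting (n + 1) + 1)) := by
  obtain ⟨d, ρ, rfl⟩ := hχ
  have := Fintype.ofFinite G
  have hone : ρ.character 1 = (d : ℂ) := by rw [Representation.char_one, Module.finrank_fin_fun]
  have hnd : n = d := by rw [← hn, Cfsg.charDegree, hone, Complex.natCast_re, Nat.floor_natCast]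
  have hL : Function.Injective (embed ρ) := fun v w h => by
    funext i
    have := congrArg (fun x : EuclideanSpace ℂ (G × Fin d) => x (1, i)) h
    simpa [embed] using this
  let e := LinearEquiv.ofInjective (embed ρ) hL
  let U : G →* (LinearMap.range (embed ρ) →L[ℂ] LinearMap.range (embed ρ)) :=
    { toFun := fun g => LinearMap.toContinuousLinearMap (e.conj (ρ g))
      map_one' := by ext x; simp [LinearEquiv.conj_apply]
      map_mul' := fun a b => by
        apply ContinuousLinearMap.ext
        intro x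
        show e (ρ (a * b) (e.symm x)) = e (ρ a (e.symm (e (ρ b (e.symm x)))))
        rw [LinearEquiv.symm_apply_apply, map_mul]
        rfl }
  have hU : ∀ g x y, ⟪U g x, U g y⟫_ℂ = ⟪x, y⟫_ℂ := by
    intro g x y
    obtain ⟨v, rfl⟩ := e.surjective x
    obtain ⟨w, rfl⟩ := e.surjective y
    show ⟪e (ρ g (e.symm (e v))), e (ρ g (e.symm (e w)))⟫_ℂ = _
    rw [LinearEquiv.symm_apply_apply, LinearEquiv.symm_apply_apply, Submodule.coe_inner,
      Submodule.coe_inner]
    show ⟪embed ρ (ρ g v), embed ρ (ρ g w)⟫_ℂ = ⟪embed ρ v, embed ρ w⟫_ℂ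
    rw [PiLp.inner_apply, PiLp.inner_apply]
    refine Fintype.sum_equiv ((Equiv.mulRight g).prodCongr (Equiv.refl _)) _ _ fun q => ?_
    simp [embed]
  have hinj : Function.Injective U := by
    intro a b h
    refine inv_mul_eq_one.1 (hfaith _ ?_)
    have h1 : ∀ v, ρ a v = ρ b v := fun v => by
      have := congrArg (fun T : LinearMap.range (embed ρ) →L[ℂ] LinearMap.range (embed ρ) => T (e v)) h
      exact e.injective (by simpa [U, LinearEquiv.conj_apply] using this)
    have h2 : ρ (a⁻¹ * b) = ρ 1 := by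
      rw [map_mul, ← LinearMap.ext h1, ← map_mul, inv_mul_cancel]
    show LinearMap.trace ℂ _ (ρ _) = LinearMap.trace ℂ _ (ρ _)
    rw [h2]
  have hrank : Module.finrank ℂ ↥(LinearMap.range (embed ρ)) = n := by
    rw [← e.finrank_eq, Module.finrank_fin_fun, hnd]
  obtain ⟨A, h1, h2, h3⟩ := jordan_unitary (W := LinearMap.range (embed ρ)) U hU hinj
  obtain ⟨H, hH, hHi⟩ := good_of_unitary n _ (W := LinearMap.range (embed ρ)) U hU hinj hrank.le rfl
  rw [hrank] at h3
  refine ⟨A, h1, h2, ?_⟩
  rw [pow_mul]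
  have hsplit : ∀ B : Subgroup G, A.index ∣ (A.subgroupOf B).index * B.index := fun B => by
    have := Subgroup.index_dvd_of_le (inf_le_left : A ⊓ B ≤ A)
    rwa [← Subgroup.relIndex_mul_index (inf_le_right : A ⊓ B ≤ B), Subgroup.inf_relIndex_right] at this
  have hfac : ∀ (B : Subgroup G) (q : ℕ),
      A.index.factorization q ≤ (A.subgroupOf B).index.factorization q + B.index.factorization q := fun B q => by
    have := (Nat.factorization_le_iff_dvd Subgroup.index_ne_zero_of_finite
      (mul_ne_zero Subgroup.index_ne_zero_of_finite Subgroup.index_ne_zero_of_finite)).2 (hsplit B) q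
    rwa [Nat.factorization_mul Subgroup.index_ne_zero_of_finite Subgroup.index_ne_zero_of_finite,
      Finsupp.add_apply] at this
  refine prod_le_of_bound _ n _ Subgroup.index_ne_zero_of_finite (by positivity) (fun q hq _ => ?_)
    (A.subgroupOf H).index Subgroup.index_ne_zero_of_finite (h3 H hH) fun q hq => ?_
  · haveI := Fact.mk hq
    obtain ⟨P⟩ : Nonempty (Sylow q G) := inferInstance
    obtain ⟨B, hB, hBi⟩ := exists_sylow_abelian (W := LinearMap.range (embed ρ)) U hU hinj P
    rw [hrank] at hBi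
    calc q ^ A.index.factorization q
        ≤ q ^ ((A.subgroupOf B).index.factorization q + n.factorial.factorization q) :=
          Nat.pow_le_pow_right hq.pos ((hfac B q).trans (Nat.add_le_add_left hBi _))
      _ ≤ q ^ n.factorial.factorization q * 12 ^ n := by
          rw [pow_add, mul_comm]
          exact Nat.mul_le_mul_left _ ((Nat.le_of_dvd (Nat.pos_of_ne_zero Subgroup.index_ne_zero_of_finite)
            (Nat.ordProj_dvd _ q)).trans (h3 B hB))
  · have := hfac H q
    rwa [Nat.factorization_eq_zero_of_not_dvd (hHi q hq), add_zero] at this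

end Cfsg.Agent.S4469
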