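import Cfsg.Statements.S4471
import Cfsg.Agent.Lib.Char.LinearTwoP
-- import your own Cfsg.Agent.* helpers here

set_option autoImplicit false
open Cfsg

namespace Cfsg.Agent.S4471

/-- Let p ≥ 7 be a prime and let the finite group G have a faithful irreducible character of degree n with n < 2p and n ≠ p. If the Sylow p-subgroups of G are non-abelian then p² does not divide the index of O_p(G) in G; consequently, in every case G/O_p(G) has abelian Sylow p-subgroups. -/
theorem result {G : Type*} [Group G] [Finite G] (χ : Cfsg.IrrCharacter G) (hfaith : ∀ g : G, (χ : G → ℂ) g = (χ : G → ℂ) 1 → g = 1) (n : ℕ) (hn : Cfsg.charDegree (χ : G → ℂ) = n) (p : ℕ) (hp : p.Prime) (h7 : 7 ≤ p) (hn2 : n < 2 * p) (hnp : n ≠ p) : ((∃ P : Sylow p G, ∃ x ∈ (P : Subgroup G), ∃ y ∈ (P : Subgroup G), x * y ≠ y * x) → ¬ p ^ 2 ∣ (Cfsg.pCore p G).index) ∧ ∀ Q : Sylow p (G ⧸ Cfsg.pCore p G), ∀ x ∈ (Q : Subgroup (G ⧸ Cfsg.pCore p G)), ∀ y ∈ (Q : Subgroup (G ⧸ Cfsg.pCore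 p G)), x * y = y * x := by
  have : Fact p.Prime := ⟨hp⟩
  have hn1 : (χ : G → ℂ) 1 = n := by
    obtain ⟨d, _, hd⟩ := CfsgLib.Char.isIrrCharacter_degree χ.2
    rw [Cfsg.charDegree, hd, Complex.natCast_re, Nat.floor_natCast] at hn
    rw [hd, hn]
  have hmain : ∀ P : Sylow p G, (¬ ∀ a b : (P : Subgroup G), a * b = b * a) →
      ¬ p ^ 2 ∣ (Cfsg.pCore p G).index := fun P h =>
    CfsgLib.Char.LinearTwoP.not_sq_dvd_index_pCore hn1 h7 hn2 hnp hfaith P.2 h
  refine ⟨fun ⟨P, x, hx, y, hy, hxy⟩ => hmain P fun h =>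
    hxy (congrArg Subtype.val (h ⟨x, hx⟩ ⟨y, hy⟩)), fun Q => ?_⟩
  have hNn : (Cfsg.pCore p G).Normal := Subgroup.sSup_normal _ fun K hK => hK.1
  have hQ : ∀ a b : (Q : Subgroup (G ⧸ Cfsg.pCore p G)), a * b = b * a := by
    obtain ⟨P⟩ := (inferInstance : Nonempty (Sylow p G))
    by_cases hP : ∀ a b : (P : Subgroup G), a * b = b * a
    · set π := QuotientGroup.mk' (Cfsg.pCore p G)
      let P' : Sylow p (G ⧸ Cfsg.pCore p G) := P.mapSurjective (QuotientGroup.mk'_surjective _)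
      obtain ⟨g, hg⟩ := MulAction.exists_smul_eq (G ⧸ Cfsg.pCore p G) P' Q
      subst hg
      intro a b
      have ha := Subgroup.mem_pointwise_smul_iff_inv_smul_mem.1 a.2
      have hb := Subgroup.mem_pointwise_smul_iff_inv_smul_mem.1 b.2
      obtain ⟨u, hu, hu'⟩ := ha
      obtain ⟨v, hv, hv'⟩ := hb
      apply Subtype.ext
      apply (MulAut.conj g)⁻¹.injective
      show (MulAut.conj g)⁻¹ ((a : G ⧸ Cfsg.pCore p G) * b) = (MulAut.conj g)⁻¹ ((b : G ⧸ Cfsg.pCore p G) * a)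
      rw [map_mul, map_mul]
      change π u = (MulAut.conj g)⁻¹ (a : G ⧸ Cfsg.pCore p G) at hu'
      change π v = (MulAut.conj g)⁻¹ (b : G ⧸ Cfsg.pCore p G) at hv'
      rw [← hu', ← hv', ← map_mul, ← map_mul]
      exact congrArg π (congrArg Subtype.val (hP ⟨u, hu⟩ ⟨v, hv⟩))
    · have hle : Nat.card (Q : Subgroup (G ⧸ Cfsg.pCore p G)) ∣ p := by
        obtain ⟨k, hk⟩ := IsPGroup.iff_card.1 Q.2
        rw [hk]
        rcases Nat.lt_or_ge k 2 with h | h
        · interval_cases k <;> simp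
        · exfalso
          refine hmain P hP ((pow_dvd_pow p h).trans ?_)
          rw [← hk, Subgroup.index_eq_card]
          exact Subgroup.card_subgroup_dvd_card _
      intro a b
      rcases (Nat.dvd_prime hp).1 hle with h | h
      · have := (Nat.card_eq_one_iff_unique.1 h).1
        exact Subsingleton.elim _ _
      · have := isCyclic_of_prime_card h
        exact (IsCyclic.commGroup : CommGroup (Q : Subgroup (G ⧸ Cfsg.pCore p G))).mul_comm a b
  exact fun x hx y hy => congrArg Subtype.val (hQ ⟨x, hx⟩ ⟨y, hy⟩)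

end Cfsg.Agent.S4471
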