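import Cfsg.Statements.S4472
import Cfsg.Agent.Lib.Char.SchurRationalAction
import Cfsg.Agent.Lib.Char.TISmallDegree
import Cfsg.Agent.Lib.PGroup.PSolvable
import Cfsg.Agent.Lib.PGroup.ConjInvol.Cover
import Cfsg.Agent.Lib.Coprime.SchurZassenhaus
import Cfsg.Agent.Lib.Coprime.Core

set_option autoImplicit false
open Cfsg

namespace Cfsg.Agent.S4472

/-- Let the finite p-solvable group G have a faithful character of degree n, and let p^a be the index of O_p(G) in a Sylow p-subgroup of G (the p-part of [G : O_p(G)]). Then a ≤ Σ_{i ≥ 0} ⌊n / ((p − 1) p^i)⌋ (a finite sum; the terms vanish for p^i > n). -/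
theorem result {G : Type*} [Group G] [Finite G] (χ : G → ℂ) (hχ : Cfsg.IsCharacter G χ) (hfaith : ∀ g : G, χ g = χ 1 → g = 1) (n : ℕ) (hn : Cfsg.charDegree χ = n) (p : ℕ) (hp : p.Prime) (hsolv : Cfsg.IsPSolvable p G) : ((Cfsg.pCore p G).index).factorization p ≤ ∑ i ∈ Finset.range (n + 1), n / ((p - 1) * p ^ i) := by
  classical
  haveI : Fact p.Prime := ⟨hp⟩
  haveI := Fintype.ofFinite G
  obtain ⟨d, ρ, rfl⟩ := hχ
  have hd : ρ.character 1 = (n : ℂ) := by
    have h1 : ρ.character 1 = (d : ℂ) := by rw [Representation.char_one, Module.finrank_fin_fun]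
    rw [Cfsg.charDegree, h1, Complex.natCast_re, Nat.floor_natCast] at hn
    rw [h1, hn]
  set O := Cfsg.pCore p G with hO
  haveI : O.Normal := CfsgLib.Coprime.pCore_normal' p
  have hOp : IsPGroup p O := CfsgLib.Coprime.pCore_isPGroup p
  have hcore : Cfsg.pCore p (G ⧸ O) = ⊥ := CfsgLib.PGroup.ConjInvol.pCore_quotient_pCore O rfl
  set π := QuotientGroup.mk' O with hπ
  have hcent := CfsgLib.Char.TISmallDegree.centralizer_pPrimeCore_le
    (CfsgLib.PGroup.isPSolvable_quotient hp hsolv O) hcore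
  set H := Cfsg.pPrimeCore p (G ⧸ O) with hH
  have hHc : (Nat.card H).Coprime p := CfsgLib.Coprime.pPrimeCore_coprime (G := G ⧸ O) hp
  set M := H.comap π with hM
  have hOM : O ≤ M := fun x hx => by
    show π x ∈ H
    rw [show π x = 1 from (QuotientGroup.eq_one_iff x).2 hx]
    exact one_mem _
  set O' := O.subgroupOf M with hO'
  obtain ⟨a, ha⟩ := IsPGroup.iff_card.1 hOp
  have hidx : O'.index = Nat.card H := by
    have h1 : O'.index * Nat.card O' = Nat.card M := O'.index_mul_card
    have h2 : Nat.card M = Nat.card H * Nat.card O := by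
      haveI hOn : (O.subgroupOf M).Normal := inferInstance
      have := Subgroup.card_eq_card_quotient_mul_card_subgroup (O.subgroupOf M)
      rw [Nat.card_congr (Subgroup.subgroupOfEquivOfLe hOM).toEquiv] at this
      rw [this]
      congr 1
      let f : M →* H := (π.comp M.subtype).codRestrict H fun x => x.2
      have hf : Function.Surjective f := fun h => by
        obtain ⟨g, hg⟩ := QuotientGroup.mk'_surjective O (h : G ⧸ O)
        exact ⟨⟨g, show π g ∈ H by rw [hπ, hg]; exact h.2⟩, Subtype.ext hg⟩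
      have hk : f.ker = O.subgroupOf M := by
        ext x
        rw [MonoidHom.mem_ker, Subgroup.mem_subgroupOf, Subtype.ext_iff]
        exact QuotientGroup.eq_one_iff (x : G)
      rw [← hk]
      exact Nat.card_congr (QuotientGroup.quotientKerEquivOfSurjective f hf).toEquiv
    rw [Nat.card_congr (Subgroup.subgroupOfEquivOfLe hOM).toEquiv, h2] at h1
    exact Nat.eq_of_mul_eq_mul_right Nat.card_pos h1
  have hOc : (Nat.card O).Coprime (Nat.card H) := by rw [ha]; exact Nat.Coprime.pow_left a hHc.symm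
  obtain ⟨K0, hK0⟩ := Subgroup.exists_right_complement'_of_coprime (N := O')
    (by rw [hidx, Nat.card_congr (Subgroup.subgroupOfEquivOfLe hOM).toEquiv]; exact hOc)
  set K := K0.map M.subtype with hK
  have hKM : K ≤ M := Subgroup.map_subtype_le K0
  have hKc : Nat.card K = Nat.card H := by
    rw [hK, Subgroup.card_map_of_injective M.subtype_injective, ← hidx]
    exact hK0.symm.index_eq_card.symm
  have hMKO : M ≤ K ⊔ O := fun x hx => by
    obtain ⟨⟨o, k⟩, hok⟩ := hK0.2 ⟨x, hx⟩
    rw [sup_comm]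
    have := congrArg Subtype.val hok
    simp only [Subgroup.coe_mul] at this
    rw [← this]
    exact Subgroup.mul_mem_sup o.2 (Subgroup.mem_map_of_mem _ k.2)
  set N := Subgroup.normalizer (K : Set G) with hN
  have hfr : ∀ g : G, ∃ o ∈ O, o * g ∈ N := fun g => by
    haveI hMn : M.Normal := inferInstance
    obtain ⟨o, ho, hoK⟩ := CfsgLib.Coprime.sz_conj_in (A := K) (N := O)
      (B := CfsgLib.Coprime.conjBy g K)
      (by rw [Subgroup.normalizer_eq_top_iff.2 inferInstance]; exact le_top)
      (by rw [hKc]; exact hOc)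
      (fun x hx => hMKO (by
        rw [CfsgLib.Coprime.mem_conjBy] at hx
        have := hMn.conj_mem _ (hKM hx) g
        rwa [show g * (g⁻¹ * x * g) * g⁻¹ = x by group] at this))
      (CfsgLib.Coprime.card_conjBy g K) (Or.inr (by
        haveI := hOp.isNilpotent
        infer_instance))
    rw [CfsgLib.Coprime.conjBy_conjBy, CfsgLib.Coprime.conjBy_eq_self_iff] at hoK
    exact ⟨o, ho, hoK⟩
  obtain ⟨P⟩ : Nonempty (Sylow p G) := inferInstance
  have hOP : O ≤ (P : Subgroup G) := by
    have h := P.3 (P.2.to_sup_of_normal_right hOp) le_sup_left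
    exact le_sup_right.trans h.le
  set A := (P : Subgroup G) ⊓ N with hA
  have hPA : ∀ x ∈ (P : Subgroup G), x ∈ A ⊔ O := fun x hx => by
    obtain ⟨o, ho, hox⟩ := hfr x
    have : x = o⁻¹ * (o * x) := by group
    rw [this, sup_comm]
    exact Subgroup.mul_mem_sup (inv_mem ho) ⟨mul_mem (hOP ho) hx, hox⟩
  set Γ := K ⊔ A with hΓ
  haveI : Fintype Γ := Fintype.ofFinite _
  haveI hKn : (K.subgroupOf Γ).Normal := (Subgroup.normal_subgroupOf_iff_le_normalizer le_sup_left).2
    (sup_le Subgroup.le_normalizer inf_le_right)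
  have hKA : K.subgroupOf Γ ⊔ A.subgroupOf Γ = ⊤ := by
    rw [← Subgroup.subgroupOf_sup le_sup_left le_sup_right, Subgroup.subgroupOf_self]
  have hAp : IsPGroup p (A.subgroupOf Γ) :=
    (P.2.to_le inf_le_left).of_equiv (Subgroup.subgroupOfEquivOfLe le_sup_right).symm
  obtain ⟨C, hCA, hCK, hCb⟩ := CfsgLib.Char.SchurBound.exists_centralizing (K.subgroupOf Γ)
    (A.subgroupOf Γ) hAp hKA
    (by
      rw [Nat.card_congr (Subgroup.subgroupOfEquivOfLe le_sup_left).toEquiv, hKc]
      exact hp.coprime_iff_not_dvd.1 hHc.symm)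
    (fun k => ρ.character ((k : Γ) : G))
    (CfsgLib.Char.isCharacter_comp ⟨d, ρ, rfl⟩ (Γ.subtype.comp (K.subgroupOf Γ).subtype))
    (fun k hk => Subtype.ext (Subtype.ext (hfaith _ (by simpa using hk))))
    (fun g => funext fun k => by
      show ρ.character (((g : Γ) * (k : Γ) * (g : Γ)⁻¹ : Γ) : G) = ρ.character ((k : Γ) : G)
      rw [Subgroup.coe_mul, Subgroup.coe_mul, InvMemClass.coe_inv, Representation.char_conj])
    (n := n) (by simpa using hd)
  have hCO : C ≤ O.subgroupOf Γ := fun x hx => by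
    have hxA : (x : G) ∈ A := hCA hx
    have hxc : π x ∈ H := hcent (Subgroup.mem_centralizer_iff.2 fun y hy => by
      obtain ⟨g, rfl⟩ := QuotientGroup.mk'_surjective O y
      obtain ⟨o, ho, k, hk, rfl⟩ := Subgroup.mem_sup_of_normal_left.1
        ((sup_comm K O ▸ hMKO (show g ∈ M from hy) : g ∈ O ⊔ K))
      have hc := hCK x hx ⟨k, (le_sup_left : K ≤ Γ) hk⟩ hk
      have hc' : (x : G) * k = k * x := congrArg Subtype.val hc
      rw [map_mul, show QuotientGroup.mk' O o = 1 from (QuotientGroup.eq_one_iff o).2 ho, one_mul,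
        ← hπ, ← map_mul, ← map_mul, hc'])
    obtain ⟨j, hj⟩ := P.2 ⟨_, hxA.1⟩
    have h1 : orderOf (π x) ∣ p ^ j := orderOf_dvd_of_pow_eq_one (by
      rw [← map_pow, show (x : G) ^ p ^ j = 1 from congrArg Subtype.val hj, map_one])
    have h2 : π x = 1 := orderOf_eq_one_iff.1 (Nat.eq_one_of_dvd_coprimes
      (Nat.Coprime.pow_left j hHc.symm) h1 (Subgroup.orderOf_dvd_natCard H hxc))
    exact (QuotientGroup.eq_one_iff (N := O) (x : G)).1 h2
  have h3 : (O.subgroupOf Γ).relIndex (A.subgroupOf Γ) ∣ C.relIndex (A.subgroupOf Γ) :=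
    Subgroup.relIndex_dvd_of_le_left _ hCO
  rw [Subgroup.relIndex_subgroupOf le_sup_right] at h3
  have h4 : O.relIndex A = O.relIndex (P : Subgroup G) := by
    have hsup : A ⊔ O = (P : Subgroup G) := le_antisymm (sup_le inf_le_left hOP) hPA
    rw [← hsup, Subgroup.relIndex_sup_right]
  have h5 : O.index.factorization p = (O.relIndex (P : Subgroup G)).factorization p := by
    rw [← Subgroup.relIndex_mul_index hOP, Nat.factorization_mul
      (show O.relIndex (P : Subgroup G) ≠ 0 from Subgroup.index_ne_zero_of_finite)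
      (show (P : Subgroup G).index ≠ 0 from Subgroup.index_ne_zero_of_finite), Finsupp.add_apply,
      Nat.factorization_eq_zero_of_not_dvd (show ¬ p ∣ (P : Subgroup G).index from P.not_dvd_index), add_zero]
  rw [h5, ← h4]
  exact ((Nat.factorization_le_iff_dvd (Subgroup.index_ne_zero_of_finite)
    (Subgroup.index_ne_zero_of_finite)).2 h3 p).trans hCb

end Cfsg.Agent.S4472
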