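import Cfsg.Statements.S4473
import Cfsg.Agent.Lib.Char.Virtual
import Cfsg.Agent.Lib.Char.Inertia
import Cfsg.Agent.Lib.Char.Linear
import Cfsg.Agent.Lib.Char.Scalar
import Cfsg.Agent.Lib.Char.Determine

set_option autoImplicit false
open Cfsg

namespace Cfsg.Agent.S4473

section
open CfsgLib.Char Cfsg
open Module

universe u

private theorem arith_three (N a b c ea eb ec : ℕ) (ha : a * ea = N) (hb : b * eb = N) (hc : c * ec = N)
    (h3 : 3 ≤ a ∧ 3 ≤ b ∧ 3 ≤ c) (hea : 2 ≤ ea) (hab : ea ≤ eb) (hbc : eb ≤ ec)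
    (hsum : a + b + c = N + 2) : N = 12 ∨ N = 24 ∨ N = 60 := by
  obtain ⟨h3a, h3b, h3c⟩ := h3
  have hea2 : ea = 2 := by
    by_contra h
    have : 3 * a ≤ N := ha ▸ by rw [mul_comm a ea]; exact Nat.mul_le_mul_right a (by omega)
    have : 3 * b ≤ N := hb ▸ by rw [mul_comm b eb]; exact Nat.mul_le_mul_right b (by omega)
    have : 3 * c ≤ N := hc ▸ by rw [mul_comm c ec]; exact Nat.mul_le_mul_right c (by omega)
    omega
  subst hea2
  have heb3 : eb ≤ 3 := by
    by_contra h
    have : 4 * b ≤ N := hb ▸ by rw [mul_comm b eb]; exact Nat.mul_le_mul_right b (by omega)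
    have : 4 * c ≤ N := hc ▸ by rw [mul_comm c ec]; exact Nat.mul_le_mul_right c (by omega)
    omega
  have heb : eb = 3 := by
    by_contra h
    have : eb = 2 := by omega
    subst this
    omega
  subst heb
  have hec : ec < 6 := by
    by_contra h
    have : 6 * c ≤ N := hc ▸ by rw [mul_comm c ec]; exact Nat.mul_le_mul_right c (by omega)
    omega
  interval_cases ec <;> omega

private theorem arith {ι : Type u} [Fintype ι] (N : ℕ) (O : ι → ℕ) (hdvd : ∀ i, ∃ e, 2 ≤ e ∧ O i * e = N)
    (h3 : ∀ i, 3 ≤ O i) (hN : 2 ≤ N) (hsum : ∑ i, (N - O i) = 2 * (N - 1)) :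
    N = 12 ∨ N = 24 ∨ N = 60 := by
  classical
  have h2 : ∀ i, 2 * O i ≤ N := fun i => by
    obtain ⟨e, he, hO⟩ := hdvd i
    rw [← hO, mul_comm (O i) e]
    exact Nat.mul_le_mul_right _ he
  set r := Fintype.card ι with hr
  have hlo : r * N ≤ 2 * (2 * (N - 1)) := by
    rw [← hsum, Finset.mul_sum]
    calc r * N = ∑ _i : ι, N := by rw [Finset.sum_const, Finset.card_univ, smul_eq_mul]
      _ ≤ ∑ i, 2 * (N - O i) := Finset.sum_le_sum fun i _ => by have := h2 i; omega
  have hhi : 2 * (N - 1) ≤ r * (N - 3) := by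
    rw [← hsum]
    calc ∑ i, (N - O i) ≤ ∑ _i : ι, (N - 3) := Finset.sum_le_sum fun i _ => by have := h3 i; omega
      _ = r * (N - 3) := by rw [Finset.sum_const, Finset.card_univ, smul_eq_mul]
  have hr3 : r = 3 := by
    rcases Nat.lt_trichotomy r 3 with h | h | h
    · exfalso
      have := Nat.mul_le_mul_right (N - 3) (show r ≤ 2 by omega)
      omega
    · exact h
    · exfalso
      have := Nat.mul_le_mul_right N (show 4 ≤ r by omega)
      omega
  let f := (Fintype.equivFinOfCardEq hr3).symm
  rw [← Equiv.sum_comp f, Fin.sum_univ_three] at hsum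
  obtain ⟨ea, hea, ha⟩ := hdvd (f 0)
  obtain ⟨eb, heb, hb⟩ := hdvd (f 1)
  obtain ⟨ec, hec, hc⟩ := hdvd (f 2)
  have := h2 (f 0); have := h2 (f 1); have := h2 (f 2)
  have := h3 (f 0); have := h3 (f 1); have := h3 (f 2)
  generalize O (f 0) = a at *
  generalize O (f 1) = b at *
  generalize O (f 2) = c at *
  have hs : a + b + c = N + 2 := by omega
  rcases le_total ea eb with h | h <;> rcases le_total eb ec with h' | h' <;>
    rcases le_total ea ec with h'' | h''
  all_goals first
    | exact arith_three N a b c ea eb ec ha hb hc ⟨‹_›, ‹_›, ‹_›⟩ hea (by omega) (by omega) (by omega)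
    | exact arith_three N a c b ea ec eb ha hc hb ⟨‹_›, ‹_›, ‹_›⟩ hea (by omega) (by omega) (by omega)
    | exact arith_three N b a c eb ea ec hb ha hc ⟨‹_›, ‹_›, ‹_›⟩ heb (by omega) (by omega) (by omega)
    | exact arith_three N b c a eb ec ea hb hc ha ⟨‹_›, ‹_›, ‹_›⟩ heb (by omega) (by omega) (by omega)
    | exact arith_three N c a b ec ea eb hc ha hb ⟨‹_›, ‹_›, ‹_›⟩ hec (by omega) (by omega) (by omega)
    | exact arith_three N c b a ec eb ea hc hb ha ⟨‹_›, ‹_›, ‹_›⟩ hec (by omega) (by omega) (by omega)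

variable {G : Type u} [Group G] [Fintype G] (ρ : Representation ℂ G (Fin 2 → ℂ))

/-- The image of a line. -/
private def img (g : G) (L : Submodule ℂ (Fin 2 → ℂ)) : Submodule ℂ (Fin 2 → ℂ) := L.map (ρ g)

private theorem img_one (L : Submodule ℂ (Fin 2 → ℂ)) : img ρ 1 L = L := by
  rw [img, map_one]; exact Submodule.map_id L

private theorem img_mul (g h : G) (L : Submodule ℂ (Fin 2 → ℂ)) :
    img ρ (g * h) L = img ρ g (img ρ h L) := by
  rw [img, img, img, map_mul]; exact Submodule.map_comp (ρ h) (ρ g) L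

private theorem rho_injective (g : G) : Function.Injective (ρ g) := fun v w h => by
  have := congrArg (ρ g⁻¹) h
  rwa [← Module.End.mul_apply, ← Module.End.mul_apply, ← map_mul, inv_mul_cancel, map_one] at this

private theorem finrank_img (g : G) (L : Submodule ℂ (Fin 2 → ℂ)) :
    finrank ℂ (img ρ g L) = finrank ℂ L :=
  (Submodule.equivMapOfInjective (ρ g) (rho_injective ρ g) L).finrank_eq.symm

/-- The lines fixed by some non-central element. -/
private def Omega : Set (Submodule ℂ (Fin 2 → ℂ)) :=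
  {L | finrank ℂ L = 1 ∧ ∃ g : G, g ∉ Subgroup.center G ∧ img ρ g L = L}

private theorem img_mem_Omega (h : G) {L : Submodule ℂ (Fin 2 → ℂ)} (hL : L ∈ Omega ρ) :
    img ρ h L ∈ Omega ρ := by
  obtain ⟨h1, g, hg, hgL⟩ := hL
  refine ⟨by rw [finrank_img]; exact h1, h * g * h⁻¹, fun hc => hg ?_, ?_⟩
  · have := (inferInstance : (Subgroup.center G).Normal).conj_mem' _ hc h
    simpa [mul_assoc] using this
  · rw [← img_mul, inv_mul_cancel_right, img_mul, hgL]

private noncomputable instance lineAction : MulAction G (Omega ρ) where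
  smul g L := ⟨img ρ g L, img_mem_Omega ρ g L.2⟩
  one_smul L := Subtype.ext (img_one ρ L)
  mul_smul g h L := Subtype.ext (img_mul ρ g h L)

/-- A line invariant under a subgroup splits the character. -/
private theorem exists_linear_of_line (H : Subgroup G) [Fintype H] (L : Submodule ℂ (Fin 2 → ℂ))
    (hL : finrank ℂ L = 1) (hinv : ∀ h ∈ H, img ρ h L = L) :
    ∃ lam : IrrCharacter H, (lam : H → ℂ) 1 = 1 ∧
      classInner (fun h : H => ρ.character (h : G)) (lam : H → ℂ) ≠ 0 := by
  let σ : Representation ℂ H (Fin 2 → ℂ) := ρ.comp H.subtype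
  let S : Subrepresentation σ := ⟨L, fun h v hv => by
    have := hinv h h.2
    rw [← this]
    exact Submodule.mem_map_of_mem hv⟩
  have := complemented_subrep σ
  obtain ⟨T, hT⟩ := exists_isCompl S
  have hS : finrank ℂ S.toSubmodule = 1 := hL
  have hsum := finrank_compl hT
  rw [hS, Module.finrank_fin_fun] at hsum
  have hc := character_compl hT
  have hS1 : S.toRepresentation.character 1 = 1 := by rw [Representation.char_one, hS, Nat.cast_one]
  obtain ⟨ψ, hψ⟩ := exists_irr_inner_ne_zero (isCharacter_character S.toRepresentation)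
    (fun e => by have := congrFun e 1; rw [hS1] at this; exact one_ne_zero this)
  obtain ⟨d, hd0, hd⟩ := isIrrCharacter_degree ψ.2
  have hdle := (degree_le_of_constituent (isCharacter_character S.toRepresentation) ψ hψ
    (a := 1) (by rw [hS1]; simp) hd).1
  refine ⟨ψ, by rw [hd, show d = 1 by omega, Nat.cast_one], ?_⟩
  obtain ⟨m, hm⟩ := classInner_char_irr_nat (isCharacter_character S.toRepresentation) ψ
  obtain ⟨m', hm'⟩ := classInner_char_irr_nat (isCharacter_character T.toRepresentation) ψ
  have hm0 : m ≠ 0 := fun e => hψ (by rw [hm, e, Nat.cast_zero])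
  show classInner σ.character (ψ : H → ℂ) ≠ 0
  rw [hc, classInner_add_left, hm, hm', ← Nat.cast_add, Nat.cast_ne_zero]
  omega

/-- The two eigenlines of a non-central element. -/
private theorem fixed_two (hfaith : ∀ g : G, ρ g = 1 → g = 1) {g : G} (hg : g ∉ Subgroup.center G) :
    ∃ L₀ L₁ : Submodule ℂ (Fin 2 → ℂ), L₀ ≠ L₁ ∧ L₀ ∈ Omega ρ ∧ L₁ ∈ Omega ρ ∧
      img ρ g L₀ = L₀ ∧ img ρ g L₁ = L₁ ∧
      ∀ L : Submodule ℂ (Fin 2 → ℂ), finrank ℂ L = 1 → img ρ g L = L → L = L₀ ∨ L = L₁ := by
  obtain ⟨b', μ', hμ', hb'⟩ :=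
    exists_eigenbasis_of_pow_eq_one (ρ g) (orderOf_pos g).ne' (rho_pow_orderOf ρ g)
  have h2 : finrank ℂ (Fin 2 → ℂ) = 2 := Module.finrank_fin_fun ℂ
  let b := b'.reindex (finCongr h2)
  let μ : Fin 2 → ℂ := fun i => μ' ((finCongr h2).symm i)
  have hb : ∀ i, ρ g (b i) = μ i • b i := fun i => by
    simp only [b, μ, Basis.reindex_apply]; exact hb' _
  have hμ0 : ∀ i, μ i ≠ 0 := fun i e => by
    have := hμ' ((finCongr h2).symm i)
    rw [show μ' ((finCongr h2).symm i) = 0 from e, zero_pow (orderOf_pos g).ne'] at this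
    exact zero_ne_one this
  have hne : μ 0 ≠ μ 1 := by
    intro e
    apply hg
    have hsc : ρ g = μ 0 • (1 : Module.End ℂ (Fin 2 → ℂ)) := b.ext fun i => by
      fin_cases i
      · simpa using hb 0
      · simpa [e] using hb 1
    refine Subgroup.mem_center_iff.mpr fun x => ?_
    have hcomm : ρ (x * g) = ρ (g * x) := by
      rw [map_mul, map_mul, hsc, mul_smul_comm, smul_mul_assoc, mul_one, one_mul]
    have h1 : ρ ((g * x)⁻¹ * (x * g)) = 1 := by
      rw [map_mul, hcomm, ← map_mul, inv_mul_cancel, map_one]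
    exact (inv_mul_eq_one.mp (hfaith _ h1)).symm
  have hspan : ∀ i, img ρ g (ℂ ∙ b i) = ℂ ∙ b i := fun i => by
    rw [img, Submodule.map_span, Set.image_singleton, hb]
    exact Submodule.span_singleton_smul_eq (IsUnit.mk0 _ (hμ0 i)) _
  have hrank : ∀ i, finrank ℂ (ℂ ∙ b i) = 1 := fun i => finrank_span_singleton (b.ne_zero i)
  refine ⟨ℂ ∙ b 0, ℂ ∙ b 1, ?_, ⟨hrank 0, g, hg, hspan 0⟩, ⟨hrank 1, g, hg, hspan 1⟩,
    hspan 0, hspan 1, ?_⟩
  · intro e
    obtain ⟨c, hc⟩ := Submodule.mem_span_singleton.mp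
      (show b 1 ∈ ℂ ∙ b 0 from e ▸ Submodule.mem_span_singleton_self (b 1))
    have := congrArg (fun v => b.repr v 1) hc
    simp at this
  intro L hL hfix
  obtain ⟨v, hv, hv0⟩ := Submodule.exists_mem_ne_zero_of_ne_bot
    (show L ≠ ⊥ from fun e => by rw [e, finrank_bot] at hL; exact zero_ne_one hL)
  have hLv : L = ℂ ∙ v := (Submodule.eq_of_le_of_finrank_eq
    ((Submodule.span_singleton_le_iff_mem _ _).mpr hv) (by rw [finrank_span_singleton hv0, hL])).symm
  obtain ⟨t, ht⟩ := Submodule.mem_span_singleton.mp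
    (show ρ g v ∈ ℂ ∙ v by rw [← hLv, ← hfix]; exact Submodule.mem_map_of_mem hv)
  have hv' : v = b.repr v 0 • b 0 + b.repr v 1 • b 1 := by
    conv_lhs => rw [← b.sum_repr v, Fin.sum_univ_two]
  have key : ∀ i, b.repr v i * μ i = t * b.repr v i := fun i => by
    have h1 : b.repr (ρ g v) i = b.repr v i * μ i := by
      conv_lhs => rw [hv']
      rw [map_add, map_smul, map_smul, hb, hb]
      fin_cases i <;> simp [mul_comm]
    rw [← h1, ← ht]
    simp
  by_cases h0 : b.repr v 0 = 0
  · right
    rw [hLv, hv', h0, zero_smul, zero_add]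
    refine Submodule.span_singleton_smul_eq (IsUnit.mk0 _ fun h1 => hv0 ?_) _
    rw [hv', h0, h1, zero_smul, zero_smul, add_zero]
  · left
    have ht0 : t = μ 0 := mul_right_cancel₀ h0 (by rw [← key 0, mul_comm])
    have h1 : b.repr v 1 = 0 := by
      by_contra h1
      exact hne (ht0.symm.trans (mul_right_cancel₀ h1 (by rw [← key 1, mul_comm])))
    rw [hLv, hv', h1, zero_smul, add_zero]
    exact Submodule.span_singleton_smul_eq (IsUnit.mk0 _ h0) _

/-- Blichfeldt: the central quotient of a primitive group of degree two. -/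
private theorem main (hirr : ρ.IsIrreducible) (hfaith : ∀ g : G, ρ g = 1 → g = 1)
    (hprim : ∀ H : Subgroup G, H ≠ ⊤ → ∀ θ : H → ℂ, IsCharacter H θ → ρ.character ≠ indFun H θ) :
    (Subgroup.center G).index = 12 ∨ (Subgroup.center G).index = 24 ∨ (Subgroup.center G).index = 60 := by
  classical
  set Z := Subgroup.center G with hZ
  set N := Z.index with hNdef
  have hNz : N * Nat.card Z = Nat.card G := Subgroup.index_mul_card Z
  -- finiteness
  have hfin : (Omega ρ).Finite := by
    have h : ∀ g : G, {L : Submodule ℂ (Fin 2 → ℂ) | g ∉ Z ∧ finrank ℂ L = 1 ∧ img ρ g L = L}.Finite := by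
      intro g
      by_cases hg : g ∈ Z
      · exact Set.finite_empty.subset fun L hL => absurd hg hL.1
      · obtain ⟨L₀, L₁, -, -, -, -, -, h2⟩ := fixed_two ρ hfaith hg
        exact (Set.toFinite {L₀, L₁}).subset fun L hL => h2 L hL.2.1 hL.2.2
    exact (Set.finite_iUnion h).subset fun L ⟨h1, g, hg, hgL⟩ => Set.mem_iUnion.mpr ⟨g, hg, h1, hgL⟩
  let _ : Fintype (Omega ρ) := hfin.fintype
  -- no small orbits
  have hbig : ∀ x : Omega ρ, 3 ≤ Nat.card (MulAction.orbit G x) := by
    intro x
    have h0 : 0 < Nat.card (MulAction.orbit G x) :=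
      Nat.card_pos_iff.mpr ⟨⟨⟨x, MulAction.mem_orbit_self x⟩⟩, inferInstance⟩
    have hidx : (MulAction.stabilizer G x).index = Nat.card (MulAction.orbit G x) :=
      MulAction.index_stabilizer G x
    have hinv : ∀ h ∈ MulAction.stabilizer G x, img ρ h x.1 = x.1 := fun h hh => congrArg Subtype.val hh
    by_contra hlt
    by_cases htop : MulAction.stabilizer G x = ⊤
    · let S : Subrepresentation ρ := ⟨x.1, fun g v hv => by
        rw [← hinv g (htop ▸ Subgroup.mem_top g)]; exact Submodule.mem_map_of_mem hv⟩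
      rcases hirr.eq_bot_or_eq_top S with h | h
      · have := congrArg Subrepresentation.toSubmodule h
        have h2 := x.2.1
        rw [show (x.1 : Submodule ℂ (Fin 2 → ℂ)) = ⊥ from this, finrank_bot] at h2
        exact zero_ne_one h2
      · have := congrArg Subrepresentation.toSubmodule h
        have h2 := x.2.1
        rw [show (x.1 : Submodule ℂ (Fin 2 → ℂ)) = ⊤ from this, finrank_top, Module.finrank_fin_fun] at h2
        exact absurd h2 (by decide)
    · have h2 : (MulAction.stabilizer G x).index = 2 := by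
        have h1 : (MulAction.stabilizer G x).index ≠ 1 := fun h => htop (Subgroup.index_eq_one.mp h)
        omega
      obtain ⟨lam, hlam1, hlam⟩ := exists_linear_of_line ρ (MulAction.stabilizer G x) x.1 x.2.1 hinv
      refine hprim _ htop (lam : _ → ℂ) (isCharacter_irr lam) ?_
      have hne : classInner (indFun (MulAction.stabilizer G x) (lam : _ → ℂ)) ρ.character ≠ 0 := by
        rw [classInner_indFun _ _ _ (isClassFunction_of_isCharacter (isCharacter_character ρ)),
          ← classInner_conj]
        exact fun h => hlam (by simpa using h)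
      exact ((degree_le_of_constituent (isCharacter_indFun _ (isCharacter_irr lam))
        ⟨ρ.character, isIrrCharacter_character ρ⟩ hne (a := 2) (b := 2)
        (by rw [indFun_one, hlam1, h2]; simp)
        (by show ρ.character 1 = _; rw [Representation.char_one, Module.finrank_fin_fun])).2 rfl).symm
  -- stabilisers
  have hstab : ∀ x : Omega ρ, Z ≤ MulAction.stabilizer G x := by
    intro x z hz
    obtain ⟨h1, g, hg, hgL⟩ := x.2
    refine Subtype.ext ?_
    show img ρ z x.1 = x.1
    obtain ⟨c, hc⟩ := exists_scalar_of_mem_center ρ hz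
    have hc0 : c ≠ 0 := fun e => by
      have hz1 : ρ (z * z⁻¹) = 1 := by rw [mul_inv_cancel, map_one]
      rw [map_mul, hc, e, zero_smul, zero_mul] at hz1
      exact zero_ne_one hz1
    rw [img, hc, Submodule.map_smul _ _ _ hc0, Submodule.map_id]
  have hex : ∀ x : Omega ρ, ∃ e, 2 ≤ e ∧ Nat.card (MulAction.orbit G x) * e = N := by
    intro x
    obtain ⟨e, he⟩ := Subgroup.card_dvd_of_le (hstab x)
    refine ⟨e, ?_, ?_⟩
    · obtain ⟨-, g, hg, hgL⟩ := x.2
      have hlt : Z < MulAction.stabilizer G x :=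
        lt_of_le_not_ge (hstab x) fun h => hg (h (Subtype.ext hgL))
      by_contra h
      have : Nat.card (MulAction.stabilizer G x) ≤ Nat.card Z := by
        rw [he]
        exact (Nat.mul_le_mul_left _ (show e ≤ 1 by omega)).trans (mul_one _).le
      exact hlt.ne (Subgroup.eq_of_le_of_card_ge hlt.le this)
    · refine Nat.eq_of_mul_eq_mul_right (Nat.card_pos (α := Z)) ?_
      rw [hNz, ← Subgroup.index_mul_card (MulAction.stabilizer G x), MulAction.index_stabilizer, he]
      rw [Nat.card_coe_set_eq]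
      ring
  have hN : 2 ≤ N := by
    have h1 : N ≠ 1 := fun h => by
      have htop : Z = ⊤ := Subgroup.index_eq_one.mp h
      have := finrank_pos_of_irreducible ρ
      have hc : ∀ a b : G, a * b = b * a := fun a b =>
        Subgroup.mem_center_iff.mp (show b ∈ Z from htop ▸ Subgroup.mem_top b) a
      have h2 := degree_one_of_comm hc ⟨ρ.character, isIrrCharacter_character ρ⟩
      simp [Representation.char_one] at h2
    have := Subgroup.index_ne_zero_of_finite (H := Z)
    omega
  -- counting pairs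
  let S : Finset G := Finset.univ.filter fun g => g ∉ Z
  have hS : S.card = (N - 1) * Nat.card Z := by
    have h1 := Finset.card_filter_add_card_filter_not (s := (Finset.univ : Finset G)) (fun g => g ∈ Z)
    rw [Finset.card_univ, ← Fintype.card_subtype, ← Nat.card_eq_fintype_card,
      ← Nat.card_eq_fintype_card, ← hNz] at h1
    rw [Nat.sub_mul, one_mul]
    have : Nat.card Z = Nat.card {g : G // g ∈ Z} := rfl
    show (Finset.univ.filter fun g => g ∉ Z).card = _
    omega
  have hpairs : ∑ x : Omega ρ, (S.filter fun g => g • x = x).card = 2 * ((N - 1) * Nat.card Z) := by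
    rw [Finset.sum_congr rfl fun x _ => Finset.card_filter _ _, Finset.sum_comm,
      Finset.sum_congr rfl (g := fun _ => 2) fun g hg => ?_, Finset.sum_const, hS, smul_eq_mul, mul_comm]
    rw [← Finset.card_filter]
    obtain ⟨L₀, L₁, hne, hm0, hm1, h0, h1, h2⟩ := fixed_two ρ hfaith (Finset.mem_filter.mp hg).2
    rw [show (Finset.univ.filter fun x : Omega ρ => g • x = x) = {⟨L₀, hm0⟩, ⟨L₁, hm1⟩} from ?_,
      Finset.card_pair fun e => hne (congrArg Subtype.val e)]
    ext x
    simp only [Finset.mem_filter, Finset.mem_univ, true_and, Finset.mem_insert, Finset.mem_singleton]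
    constructor
    · intro hx
      rcases h2 x.1 x.2.1 (congrArg Subtype.val hx) with e | e
      · exact Or.inl (Subtype.ext e)
      · exact Or.inr (Subtype.ext e)
    · rintro (rfl | rfl)
      · exact Subtype.ext h0
      · exact Subtype.ext h1
  have hfix : ∀ x : Omega ρ, (S.filter fun g => g • x = x).card + Nat.card Z
      = Nat.card (MulAction.stabilizer G x) := by
    intro x
    rw [Nat.card_eq_fintype_card (α := MulAction.stabilizer G x), Fintype.card_subtype,
      Nat.card_eq_fintype_card (α := Z), Fintype.card_subtype,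
      ← Finset.card_union_of_disjoint]
    · congr 1
      ext g
      simp only [S, Finset.mem_union, Finset.mem_filter, Finset.mem_univ, true_and,
        MulAction.mem_stabilizer_iff]
      constructor
      · rintro (⟨-, h⟩ | h)
        · exact h
        · exact hstab x h
      · intro h
        by_cases hg : g ∈ Z
        · exact Or.inr hg
        · exact Or.inl ⟨hg, h⟩
    · rw [Finset.disjoint_left]
      intro g hg hg'
      exact (Finset.mem_filter.mp (Finset.mem_filter.mp hg).1).2 (Finset.mem_filter.mp hg').2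
  -- sum over orbits
  let _ : Fintype (MulAction.orbitRel.Quotient G (Omega ρ)) := Fintype.ofFinite _
  let O : MulAction.orbitRel.Quotient G (Omega ρ) → ℕ := fun ω => Nat.card (MulAction.orbit G ω.out)
  refine arith N O (fun ω => hex _) (fun ω => hbig _) hN ?_
  refine Nat.eq_of_mul_eq_mul_right (Nat.card_pos (α := Z)) ?_
  rw [mul_assoc, ← hpairs, Finset.sum_mul,
    ← Finset.sum_fiberwise Finset.univ
      (fun x : Omega ρ => (Quotient.mk'' x : MulAction.orbitRel.Quotient G (Omega ρ)))]
  refine Finset.sum_congr rfl fun ω _ => ?_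
  have horb : ∀ x : Omega ρ, (Quotient.mk'' x : MulAction.orbitRel.Quotient G (Omega ρ)) = ω ↔
      x ∈ MulAction.orbit G ω.out := by
    intro x
    conv_lhs => rw [← Quotient.out_eq' ω]
    rw [Quotient.eq'']
    rfl
  have hconst : ∀ x ∈ Finset.univ.filter (fun x : Omega ρ =>
      (Quotient.mk'' x : MulAction.orbitRel.Quotient G (Omega ρ)) = ω),
      Nat.card (MulAction.stabilizer G x) = Nat.card (MulAction.stabilizer G ω.out) := by
    intro x hx
    have he : MulAction.orbit G x = MulAction.orbit G ω.out :=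
      MulAction.orbit_eq_iff.mpr ((horb x).mp (Finset.mem_filter.mp hx).2)
    refine Nat.eq_of_mul_eq_mul_left (Nat.card_pos_iff.mpr ⟨⟨⟨x, MulAction.mem_orbit_self x⟩⟩,
      inferInstance⟩ : 0 < Nat.card (MulAction.orbit G x)) ?_
    conv_rhs => rw [he]
    rw [Nat.card_coe_set_eq, ← MulAction.index_stabilizer, Subgroup.index_mul_card,
      Nat.card_coe_set_eq, ← MulAction.index_stabilizer, Subgroup.index_mul_card]
  have hcardfib : (Finset.univ.filter (fun x : Omega ρ =>
      (Quotient.mk'' x : MulAction.orbitRel.Quotient G (Omega ρ)) = ω)).card = O ω := by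
    rw [← Fintype.card_subtype, ← Nat.card_eq_fintype_card]
    exact Nat.card_congr (Equiv.subtypeEquivRight horb)
  obtain ⟨e, -, he⟩ := hex ω.out
  have hcard : O ω * Nat.card (MulAction.stabilizer G ω.out) = N * Nat.card Z := by
    show Nat.card (MulAction.orbit G ω.out) * _ = _
    rw [hNz, Nat.card_coe_set_eq, ← MulAction.index_stabilizer, Subgroup.index_mul_card]
  rw [Finset.sum_congr rfl (g := fun _ => Nat.card (MulAction.stabilizer G ω.out) - Nat.card Z)
    fun x hx => by rw [← hconst x hx, ← hfix x, Nat.add_sub_cancel],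
    Finset.sum_const, hcardfib, smul_eq_mul, Nat.mul_sub, hcard, Nat.sub_mul]

end

open CfsgLib.Char

/-- Let the finite group G have a faithful irreducible character χ of degree 2 that is primitive: χ is not induced from a character of any proper subgroup. Then the centre of G has index 12, 24 or 60. -/
theorem result {G : Type*} [Group G] [Fintype G] (χ : Cfsg.IrrCharacter G) (hfaith : ∀ g : G, (χ : G → ℂ) g = (χ : G → ℂ) 1 → g = 1) (h2 : Cfsg.charDegree (χ : G → ℂ) = 2) (hprim : ∀ H : Subgroup G, H ≠ ⊤ → ∀ θ : H → ℂ, Cfsg.IsCharacter H θ → (χ : G → ℂ) ≠ Cfsg.indFun H θ) : (Subgroup.center G).index = 12 ∨ (Subgroup.center G).index = 24 ∨ (Subgroup.center G).index = 60 := by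
  obtain ⟨n, ρ, hρ, hρ'⟩ := χ.2
  have hn : n = 2 := by
    rw [← hρ'] at h2
    simpa [Cfsg.charDegree, Representation.char_one] using h2
  subst hn
  refine main ρ hρ (fun g hg => hfaith g ?_) (fun H hH θ hθ => by rw [hρ']; exact hprim H hH θ hθ)
  rw [← hρ', Representation.char_one]
  exact (char_eq_degree_iff ρ g).mpr hg

end Cfsg.Agent.S4473
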