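import Cfsg.Statements.S4474
import Mathlib
import Cfsg.Agent.Lib.Char.FrobeniusSchur

set_option autoImplicit false
open Cfsg

namespace Cfsg.Agent.S4474

namespace Aux

open scoped ComplexConjugate Matrix ComplexOrder
open CfsgLib.Char Module

variable {G : Type*} [Group G] [Fintype G] {m : ℕ}

noncomputable abbrev cj (A : Matrix (Fin m) (Fin m) ℂ) : Matrix (Fin m) (Fin m) ℂ :=
  Matrix.map A (starRingEnd ℂ)

theorem cj_mul (A B : Matrix (Fin m) (Fin m) ℂ) : cj (A * B) = cj A * cj B := Matrix.map_mul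

theorem cj_cj (A : Matrix (Fin m) (Fin m) ℂ) : cj (cj A) = A := by
  ext i j; simp

theorem cj_conjTranspose (A : Matrix (Fin m) (Fin m) ℂ) : (cj A)ᴴ = Aᵀ := by
  ext i j; simp

theorem cj_transpose (A : Matrix (Fin m) (Fin m) ℂ) : (cj A)ᵀ = Aᴴ := by
  ext i j; simp [Matrix.conjTranspose]

/-- The invariant symmetric form. -/
theorem exists_form (ρ : Representation ℂ G (Fin m → ℂ)) (hirr : ρ.IsIrreducible)
    (hind : (Nat.card G : ℂ)⁻¹ * ∑ s : G, ρ.character (s * s) = 1) :
    ∃ B : Matrix (Fin m) (Fin m) ℂ, B ≠ 0 ∧ Bᵀ = B ∧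
      ∀ g, (LinearMap.toMatrix' (ρ g))ᵀ * B * LinearMap.toMatrix' (ρ g) = B := by
  classical
  haveI := hirr
  have hcases := fs_indicator_cases ρ
  have hne : ¬ (Nat.card G : ℂ)⁻¹ * ∑ s : G, ρ.character (s * s) = 0 := by rw [hind]; exact one_ne_zero
  have hreal : ∀ g, (ρ.character g).im = 0 := fun g => by
    by_contra hc; exact hne (hcases.2.mpr ⟨g, hc⟩)
  have hχ : IsIrrCharacter G ρ.character := ⟨m, ρ, hirr, rfl⟩
  have hc : (fun g => conj (ρ.character g)) = ρ.character :=
    funext fun g => Complex.conj_eq_iff_im.mpr (hreal g)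
  have hproj := (LinearMap.isProj_range_iff_isIdempotentElem (formProj ρ)).mpr (formProj_idem ρ)
  have htr := trace_formProj ρ
  rw [hc, classInner_irr_self ⟨_, hχ⟩, hproj.trace] at htr
  have hd : finrank ℂ (LinearMap.range (formProj ρ)) = 1 := by exact_mod_cast htr
  obtain ⟨⟨B, hB⟩, hB0, hspan⟩ := finrank_eq_one_iff'.mp hd
  have hB0' : B ≠ 0 := fun e => hB0 (Subtype.ext e)
  have hswap : formSwap B ∈ LinearMap.range (formProj ρ) := by
    obtain ⟨X, rfl⟩ := hB
    exact ⟨formSwap X, (LinearMap.congr_fun (formSwap_comm ρ) X).symm⟩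
  obtain ⟨ε, hε⟩ := hspan ⟨_, hswap⟩
  have hεv : ε • B = formSwap B := congrArg Subtype.val hε
  have hQ : formSwap * formProj ρ = ε • formProj ρ := by
    refine LinearMap.ext fun X => ?_
    obtain ⟨c, hc⟩ := hspan ⟨_, LinearMap.mem_range_self (formProj ρ) X⟩
    have hcv : c • B = formProj ρ X := congrArg Subtype.val hc
    show formSwap (formProj ρ X) = ε • formProj ρ X
    rw [← hcv, map_smul, ← hεv, smul_comm]
  rw [← trace_formSwap_formProj, hQ, map_smul, hproj.trace, hd, Nat.cast_one, smul_eq_mul,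
    mul_one] at hind
  refine ⟨B, hB0', ?_, fun g => ?_⟩
  · rw [hind, one_smul] at hεv; exact hεv.symm
  · obtain ⟨X, rfl⟩ := hB
    have h1 : formAct (LinearMap.toMatrix' (ρ g)) * formProj ρ = formProj ρ := by
      simp only [formProj, mul_smul_comm, Finset.mul_sum]
      congr 1
      exact Fintype.sum_bijective (fun x => x * g) (Group.mulRight_bijective g) _ _ fun x => by
        rw [map_mul, LinearMap.toMatrix'_mul, formAct_mul]
    exact LinearMap.congr_fun h1 X

theorem schur_scalar (ρ : Representation ℂ G (Fin m → ℂ)) (hirr : ρ.IsIrreducible) (hm : 0 < m)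
    (A : Matrix (Fin m) (Fin m) ℂ)
    (hA : ∀ g, A * LinearMap.toMatrix' (ρ g) = LinearMap.toMatrix' (ρ g) * A) :
    ∃ l : ℂ, A = l • 1 := by
  haveI := hirr
  haveI : NeZero m := ⟨hm.ne'⟩
  obtain ⟨l, hl⟩ := Module.End.exists_eigenvalue (Matrix.toLin' A)
  refine ⟨l, ?_⟩
  let S : Subrepresentation ρ := ⟨Module.End.eigenspace (Matrix.toLin' A) l, fun g w hw => by
    rw [Module.End.mem_eigenspace_iff, Matrix.toLin'_apply] at hw ⊢
    rw [← LinearMap.toMatrix'_mulVec, Matrix.mulVec_mulVec, hA, ← Matrix.mulVec_mulVec, hw,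
      Matrix.mulVec_smul]⟩
  rcases hirr.eq_bot_or_eq_top S with e | e
  · exact absurd (congrArg Subrepresentation.toSubmodule e) hl
  · have h : ∀ w, Matrix.toLin' A w = l • w := fun w => Module.End.mem_eigenspace_iff.mp
      ((congrArg Subrepresentation.toSubmodule e).ge (Submodule.mem_top : w ∈ (⊤ : Submodule ℂ (Fin m → ℂ))))
    refine Matrix.toLin'.injective (LinearMap.ext fun w => ?_)
    rw [h, map_smul, Matrix.toLin'_one]; rfl

/-- Hilbert 90 for matrices. -/
theorem exists_conj_fixed (T : Matrix (Fin m) (Fin m) ℂ) (hT : T * cj T = 1) :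
    ∃ C : Matrix (Fin m) (Fin m) ℂ, IsUnit C.det ∧ T * cj C = C := by
  let Q : Matrix (Fin m) (Fin m) (Polynomial ℂ) :=
    (1 + T).map Polynomial.C + (Polynomial.X : Polynomial ℂ) • (Complex.I • (1 - T)).map Polynomial.C
  have hev : ∀ z : ℂ, Q.det.eval z = ((1 + T) + z • (Complex.I • (1 - T))).det := by
    intro z
    rw [← Polynomial.coe_evalRingHom, RingHom.map_det]
    congr 1
    ext i j
    simp [Q]
  have hne : Q.det ≠ 0 := by
    intro h
    have h1 := hev (-Complex.I)
    rw [h, Polynomial.eval_zero, smul_smul, neg_mul, Complex.I_mul_I, neg_neg, one_smul,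
      show (1 + T) + (1 - T) = (2 : ℂ) • (1 : Matrix (Fin m) (Fin m) ℂ) by rw [two_smul]; abel,
      Matrix.det_smul, Matrix.det_one, mul_one] at h1
    exact pow_ne_zero _ two_ne_zero h1.symm
  obtain ⟨r, hr⟩ := ((Set.infinite_range_of_injective Complex.ofReal_injective).sdiff
    (Polynomial.finite_setOf_isRoot hne)).nonempty
  obtain ⟨⟨r, rfl⟩, hr⟩ := hr
  refine ⟨(1 + T) + (r : ℂ) • (Complex.I • (1 - T)), ?_, ?_⟩
  · rw [isUnit_iff_ne_zero, ← hev]; exact hr
  · have e : cj ((1 + T) + (r : ℂ) • (Complex.I • (1 - T))) =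
        (1 + cj T) + (r : ℂ) • ((-Complex.I) • (1 - cj T)) := by
      ext i j
      by_cases hij : i = j <;> simp [hij]
    rw [e, Matrix.mul_add, Matrix.mul_add, Matrix.mul_smul, Matrix.mul_smul, Matrix.mul_sub,
      Matrix.mul_one, hT, neg_smul, ← smul_neg, neg_sub, add_comm T 1]

theorem exists_real (ρ : Representation ℂ G (Fin m → ℂ)) (hirr : ρ.IsIrreducible)
    (hind : (Nat.card G : ℂ)⁻¹ * ∑ s : G, ρ.character (s * s) = 1) :
    ∃ σ : Representation ℝ G (Fin m → ℝ),
      ∀ g, ((LinearMap.trace ℝ _ (σ g) : ℝ) : ℂ) = ρ.character g := by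
  classical
  obtain ⟨B, hB0, hBs, hBinv⟩ := exists_form ρ hirr hind
  have hm : 0 < m := Nat.pos_of_ne_zero fun e => by
    subst e; exact hB0 (Matrix.ext fun i => i.elim0)
  let M : G → Matrix (Fin m) (Fin m) ℂ := fun g => LinearMap.toMatrix' (ρ g)
  have hMmul : ∀ a b, M (a * b) = M a * M b := fun a b => by
    show LinearMap.toMatrix' _ = _; rw [map_mul, LinearMap.toMatrix'_mul]
  have hM1 : M 1 = 1 := by show LinearMap.toMatrix' _ = _; rw [map_one, LinearMap.toMatrix'_one]
  have hMinv : ∀ g, M g⁻¹ * M g = 1 := fun g => by rw [← hMmul, inv_mul_cancel, hM1]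
  have hMinv' : ∀ g, M g * M g⁻¹ = 1 := fun g => by rw [← hMmul, mul_inv_cancel, hM1]
  let H : Matrix (Fin m) (Fin m) ℂ := ∑ g, (M g)ᴴ * M g
  have hHpos : H.PosDef := by
    rw [show H = (M 1)ᴴ * M 1 + ∑ g ∈ Finset.univ.erase 1, (M g)ᴴ * M g from
      (Finset.add_sum_erase _ _ (Finset.mem_univ _)).symm, hM1, Matrix.conjTranspose_one, Matrix.one_mul]
    exact Matrix.PosDef.one.add_posSemidef
      (Matrix.posSemidef_sum _ fun g _ => Matrix.posSemidef_conjTranspose_mul_self (M g))
  have hHinv : ∀ g, (M g)ᴴ * H * M g = H := fun g => by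
    simp only [H, Finset.mul_sum, Finset.sum_mul]
    exact Fintype.sum_bijective (fun x => x * g) (Group.mulRight_bijective g) _ _ fun x => by
      rw [hMmul, Matrix.conjTranspose_mul]; simp only [Matrix.mul_assoc]
  have hHu : IsUnit H.det := isUnit_iff_ne_zero.mpr hHpos.det_pos.ne'
  let T0 : Matrix (Fin m) (Fin m) ℂ := H⁻¹ * cj B
  have hHT : H * T0 = cj B := by
    show H * (H⁻¹ * cj B) = _; rw [← Matrix.mul_assoc, Matrix.mul_nonsing_inv _ hHu, Matrix.one_mul]
  have hcomm : ∀ g, T0 * cj (M g) = M g * T0 := by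
    intro g
    have hBM : B * M g = (M g⁻¹)ᵀ * B := by
      conv_lhs => rw [← hBinv g⁻¹]
      rw [Matrix.mul_assoc, show LinearMap.toMatrix' (ρ g⁻¹) = M g⁻¹ from rfl, hMinv, Matrix.mul_one]
    have hHM : H * M g = (M g⁻¹)ᴴ * H := by
      conv_lhs => rw [← hHinv g⁻¹]
      rw [Matrix.mul_assoc, hMinv, Matrix.mul_one]
    have h1 : cj B * cj (M g) = (M g⁻¹)ᴴ * cj B := by
      rw [← cj_mul, hBM, cj_mul]
      congr 1
    have h2 : H * (T0 * cj (M g)) = H * (M g * T0) := by
      rw [← Matrix.mul_assoc, hHT, h1, ← Matrix.mul_assoc, hHM, Matrix.mul_assoc, hHT]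
    have := congrArg (fun X => H⁻¹ * X) h2
    simpa [← Matrix.mul_assoc, Matrix.nonsing_inv_mul _ hHu] using this
  obtain ⟨l, hl⟩ := schur_scalar ρ hirr hm (T0 * cj T0) fun g => by
    show T0 * cj T0 * M g = M g * (T0 * cj T0)
    have h := congrArg cj (hcomm g)
    rw [cj_mul T0 (cj (M g)), cj_mul (M g) T0, cj_cj] at h
    rw [Matrix.mul_assoc, h, ← Matrix.mul_assoc, hcomm, Matrix.mul_assoc]
  -- positivity
  have hHc : (cj H).PosDef := by
    have : cj H = Hᵀ := by
      ext i j
      have := congrFun (congrFun hHpos.isHermitian.eq j) i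
      simp only [Matrix.conjTranspose_apply] at this
      simpa using this.symm ▸ rfl
    rw [this]; exact hHpos.transpose
  have hlH : l • H = (cj T0)ᴴ * cj H * cj T0 := by
    have h := congrArg cj hHT
    rw [cj_mul H T0, cj_cj] at h
    have h2 : H * (T0 * cj T0) = cj B * cj T0 := by rw [← Matrix.mul_assoc, hHT]
    rw [hl, Matrix.mul_smul, Matrix.mul_one] at h2
    rw [h2, show cj B = (cj H * cj T0)ᴴ by rw [h]; ext i j; simp [← congrFun (congrFun hBs i) j],
      Matrix.conjTranspose_mul, hHc.isHermitian.eq]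
  have hl0 : l ≠ 0 := by
    intro e
    rw [e, zero_smul] at hlH
    have hT0 : cj T0 = 0 := by
      refine Matrix.ext fun i j => ?_
      by_contra hne
      have hv : (cj T0).mulVec (Pi.single j 1) ≠ 0 := fun h0 => hne (by
        have := congrFun h0 i
        simpa [Matrix.mulVec_single_one] using this)
      have := hHc.dotProduct_mulVec_pos hv
      rw [show star ((cj T0).mulVec (Pi.single j 1)) ⬝ᵥ (cj H).mulVec ((cj T0).mulVec (Pi.single j 1)) =
        star (Pi.single j 1 : Fin m → ℂ) ⬝ᵥ ((cj T0)ᴴ * cj H * cj T0).mulVec (Pi.single j 1) by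
          rw [Matrix.star_mulVec, ← Matrix.dotProduct_mulVec, Matrix.mulVec_mulVec, Matrix.mulVec_mulVec], ← hlH] at this
      simp at this
    apply hB0
    have h := congrArg cj hHT
    rw [cj_mul H T0, cj_cj, hT0, Matrix.mul_zero] at h
    exact h.symm
  let i0 : Fin m := ⟨0, hm⟩
  have hl_nonneg : 0 ≤ l * H i0 i0 := by
    have h := (hHc.posSemidef.conjTranspose_mul_mul_same (cj T0)).diag_nonneg (i := i0)
    rw [← hlH] at h
    simpa using h
  have hHii : 0 < H i0 i0 := hHpos.diag_pos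
  obtain ⟨r, hr, rfl⟩ : ∃ r : ℝ, 0 < r ∧ l = (r : ℂ) := by
    rw [Complex.lt_def] at hHii
    rw [Complex.le_def] at hl_nonneg
    simp only [Complex.zero_re, Complex.zero_im] at hHii hl_nonneg
    have hh : H i0 i0 = ((H i0 i0).re : ℂ) := Complex.ext rfl hHii.2.symm
    rw [hh] at hl_nonneg
    simp only [Complex.mul_re, Complex.mul_im, Complex.ofReal_re, Complex.ofReal_im, mul_zero, sub_zero,
      zero_add] at hl_nonneg
    have him : l.im = 0 := (mul_eq_zero.mp hl_nonneg.2.symm).resolve_right hHii.1.ne'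
    refine ⟨l.re, ?_, Complex.ext rfl (by simpa using him)⟩
    have h0 : 0 ≤ l.re := nonneg_of_mul_nonneg_left hl_nonneg.1 hHii.1
    exact lt_of_le_of_ne h0 fun e => hl0 (Complex.ext e.symm him)
  let T : Matrix (Fin m) (Fin m) ℂ := ((Real.sqrt r)⁻¹ : ℝ) • T0
  have hT : T * cj T = 1 := by
    have e : cj T = ((Real.sqrt r)⁻¹ : ℝ) • cj T0 := by ext i j; simp [T]
    rw [e]
    show (((Real.sqrt r)⁻¹ : ℝ) • T0) * (((Real.sqrt r)⁻¹ : ℝ) • cj T0) = 1
    rw [Matrix.smul_mul, Matrix.mul_smul, smul_smul, hl]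
    ext i j
    simp only [Matrix.smul_apply, Complex.real_smul, smul_eq_mul]
    rw [← mul_assoc, ← Complex.ofReal_mul, ← mul_inv, Real.mul_self_sqrt hr.le, inv_mul_cancel₀ hr.ne',
      Complex.ofReal_one, one_mul]
  obtain ⟨C, hCu, hC⟩ := exists_conj_fixed T hT
  let R : G → Matrix (Fin m) (Fin m) ℂ := fun g => C⁻¹ * M g * C
  have hRreal : ∀ g, cj (R g) = R g := by
    intro g
    have hCC : C * R g = M g * C := by
      show C * (C⁻¹ * M g * C) = _
      rw [← Matrix.mul_assoc, ← Matrix.mul_assoc, Matrix.mul_nonsing_inv _ hCu, Matrix.one_mul]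
    have hTM : T * cj (M g) = M g * T := by
      show (_ • T0) * _ = _ * (_ • T0); rw [Matrix.smul_mul, Matrix.mul_smul, hcomm]
    have h : C * cj (R g) = C * R g := by
      have h1 := congrArg cj hCC
      rw [cj_mul C (R g), cj_mul (M g) C] at h1
      calc C * cj (R g) = T * (cj C * cj (R g)) := by rw [← Matrix.mul_assoc, hC]
        _ = T * cj (M g) * cj C := by rw [h1, Matrix.mul_assoc]
        _ = C * R g := by rw [hTM, Matrix.mul_assoc, hC, hCC]
    have := congrArg (fun X => C⁻¹ * X) h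
    simpa [← Matrix.mul_assoc, Matrix.nonsing_inv_mul _ hCu] using this
  let S : G → Matrix (Fin m) (Fin m) ℝ := fun g => (R g).map Complex.re
  have hS : ∀ g, (S g).map ((↑) : ℝ → ℂ) = R g := fun g => by
    ext i j
    have := congrFun (congrFun (hRreal g) i) j
    simp only [Matrix.map_apply] at this
    exact Complex.conj_eq_iff_re.mp this
  have hSmul : ∀ a b, S (a * b) = S a * S b := fun a b => by
    refine Matrix.map_injective (Complex.ofReal_injective) ?_
    show (S (a * b)).map Complex.ofRealHom = (S a * S b).map Complex.ofRealHom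
    rw [Matrix.map_mul]
    show (S (a * b)).map ((↑) : ℝ → ℂ) = (S a).map ((↑) : ℝ → ℂ) * (S b).map ((↑) : ℝ → ℂ)
    rw [hS, hS, hS]
    show C⁻¹ * M (a * b) * C = C⁻¹ * M a * C * (C⁻¹ * M b * C)
    rw [hMmul]
    simp only [Matrix.mul_assoc]
    rw [← Matrix.mul_assoc C C⁻¹, Matrix.mul_nonsing_inv _ hCu, Matrix.one_mul]
  have hS1 : S 1 = 1 := by
    ext i j
    have : R 1 = 1 := by show C⁻¹ * M 1 * C = 1; rw [hM1, Matrix.mul_one, Matrix.nonsing_inv_mul _ hCu]
    show (R 1 i j).re = _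
    rw [this, Matrix.one_apply, Matrix.one_apply]; split_ifs <;> simp
  refine ⟨{ toFun := fun g => Matrix.toLin' (S g),
            map_one' := by rw [hS1, Matrix.toLin'_one]; rfl,
            map_mul' := fun a b => by rw [hSmul, Matrix.toLin'_mul]; rfl }, fun g => ?_⟩
  show ((LinearMap.trace ℝ _ (Matrix.toLin' (S g)) : ℝ) : ℂ) = _
  rw [Matrix.trace_toLin'_eq, ← toMatrix'_trace]
  have : (((S g).trace : ℝ) : ℂ) = (R g).trace := by
    rw [← hS g]; simp [Matrix.trace]
  rw [this]
  show (C⁻¹ * M g * C).trace = (M g).trace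
  rw [Matrix.trace_mul_comm, ← Matrix.mul_assoc, Matrix.mul_nonsing_inv _ hCu, Matrix.one_mul]

theorem indicator_of_real {n : ℕ} (σ : Representation ℝ G (Fin n → ℝ)) (χ : IrrCharacter G)
    (hχ : ∀ g, ((LinearMap.trace ℝ (Fin n → ℝ) (σ g) : ℝ) : ℂ) = (χ : G → ℂ) g) :
    (Nat.card G : ℂ)⁻¹ * ∑ s : G, (χ : G → ℂ) (s * s) = 1 := by
  classical
  let S : G → Matrix (Fin n) (Fin n) ℝ := fun g => LinearMap.toMatrix' (σ g)
  let ρ : Representation ℂ G (Fin n → ℂ) :=
    { toFun := fun g => Matrix.toLin' ((S g).map Complex.ofRealHom)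
      map_one' := by
        show Matrix.toLin' _ = _
        simp [S, Module.End.one_eq_id]
      map_mul' := fun a b => by
        show Matrix.toLin' _ = _
        simp only [S]
        rw [map_mul, LinearMap.toMatrix'_mul, Matrix.map_mul, Matrix.toLin'_mul]
        rfl }
  have hM : ∀ g, LinearMap.toMatrix' (ρ g) = (S g).map Complex.ofRealHom := fun g =>
    LinearMap.toMatrix'_toLin' _
  have hρ : ρ.character = (χ : G → ℂ) := by
    funext g
    rw [← toMatrix'_trace, hM, ← hχ g, LinearMap.trace_eq_matrix_trace ℝ (Pi.basisFun ℝ (Fin n))]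
    simp [Matrix.trace, S, LinearMap.toMatrix_eq_toMatrix']
  rw [← hρ]
  have hreal : ∀ g, conj ((χ : G → ℂ) g) = (χ : G → ℂ) g := fun g => by rw [← hχ g, Complex.conj_ofReal]
  let B : Matrix (Fin n) (Fin n) ℂ := (∑ g, (S g)ᵀ * S g).map Complex.ofRealHom
  have hBs : Bᵀ = B := by
    show ((∑ g, (S g)ᵀ * S g).map Complex.ofRealHom)ᵀ = _
    rw [← Matrix.transpose_map, Matrix.transpose_sum]
    simp [Matrix.transpose_mul, B]
  have hBinv : ∀ g, formAct (LinearMap.toMatrix' (ρ g)) B = B := fun g => by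
    show (LinearMap.toMatrix' (ρ g))ᵀ * B * LinearMap.toMatrix' (ρ g) = B
    rw [hM, ← Matrix.transpose_map, ← Matrix.map_mul, ← Matrix.map_mul]
    show _ = (∑ g, (S g)ᵀ * S g).map Complex.ofRealHom
    congr 1
    rw [Finset.mul_sum, Finset.sum_mul]
    exact Fintype.sum_bijective (fun x => x * g) (Group.mulRight_bijective g) _ _ fun x => by
      simp only [S, map_mul, LinearMap.toMatrix'_mul, Matrix.transpose_mul, Matrix.mul_assoc]
  have hPB : formProj ρ B = B := by
    show ((Nat.card G : ℂ)⁻¹ • ∑ g : G, formAct (LinearMap.toMatrix' (ρ g))) B = B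
    rw [LinearMap.smul_apply, LinearMap.sum_apply, Finset.sum_congr rfl fun g _ => hBinv g, Finset.sum_const,
      Finset.card_univ, ← Nat.cast_smul_eq_nsmul ℂ, smul_smul, ← Nat.card_eq_fintype_card,
      inv_mul_cancel₀ (Nat.cast_ne_zero.mpr Nat.card_pos.ne'), one_smul]
  have hB0 : B ≠ 0 := by
    intro e
    have h0 : (∑ g, (S g)ᵀ * S g).trace = 0 := by
      have := congrArg Matrix.trace e
      simp only [B, Matrix.trace_zero] at this
      have h2 : (((∑ g, (S g)ᵀ * S g).trace : ℝ) : ℂ) = 0 := by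
        rw [← this]; simp [Matrix.trace]
      exact_mod_cast h2
    rw [Matrix.trace_sum] at h0
    have hnn : ∀ g ∈ (Finset.univ : Finset G), 0 ≤ ((S g)ᵀ * S g).trace := fun g _ => by
      simp only [Matrix.trace, Matrix.diag_apply, Matrix.mul_apply, Matrix.transpose_apply]
      exact Finset.sum_nonneg fun i _ => Finset.sum_nonneg fun j _ => mul_self_nonneg _
    have h1 := (Finset.sum_eq_zero_iff_of_nonneg hnn).mp h0 1 (Finset.mem_univ _)
    have hS1 : S 1 = 1 := by simp [S, Module.End.one_eq_id]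
    rw [hS1, Matrix.transpose_one, Matrix.one_mul, Matrix.trace_one, Fintype.card_fin, Nat.cast_eq_zero] at h1
    subst h1
    have := hχ 1
    rw [map_one, LinearMap.trace_one, Module.finrank_fin_fun] at this
    exact irr_one_ne_zero χ (by simpa using this.symm)
  have hproj := (LinearMap.isProj_range_iff_isIdempotentElem (formProj ρ)).mpr (formProj_idem ρ)
  have htr := trace_formProj ρ
  rw [hρ, funext hreal, classInner_irr_self χ, hproj.trace] at htr
  have hd : finrank ℂ (LinearMap.range (formProj ρ)) = 1 := by exact_mod_cast htr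
  have hQ : formSwap * formProj ρ = formProj ρ := by
    refine LinearMap.ext fun X => ?_
    obtain ⟨c, hc⟩ := (finrank_eq_one_iff_of_nonzero' (⟨B, B, hPB⟩ : LinearMap.range (formProj ρ))
      (fun e => hB0 (congrArg Subtype.val e))).mp hd ⟨_, LinearMap.mem_range_self (formProj ρ) X⟩
    have hcv : c • B = formProj ρ X := congrArg Subtype.val hc
    show formSwap (formProj ρ X) = _
    rw [← hcv, map_smul]
    show c • Bᵀ = _
    rw [hBs]
  rw [← trace_formSwap_formProj, hQ, hproj.trace, hd, Nat.cast_one]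

end Aux

/-- Let χ be an irreducible character of the finite group G. Then the Frobenius–Schur indicator of χ (the average over s ∈ G of χ(s²)) equals 1 if and only if χ is afforded by a real representation: there is a representation of G on a real coordinate space whose trace function, viewed in ℂ, is χ. -/
theorem result {G : Type*} [Group G] [Fintype G] (χ : Cfsg.IrrCharacter G) : ((Nat.card G : ℂ)⁻¹ * ∑ s : G, (χ : G → ℂ) (s * s)) = 1 ↔ ∃ (n : ℕ) (ρ : Representation ℝ G (Fin n → ℝ)), ∀ g : G, ((LinearMap.trace ℝ (Fin n → ℝ) (ρ g) : ℝ) : ℂ) = (χ : G → ℂ) g := by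
  constructor
  · intro h
    obtain ⟨n, ρ, hirr, hρ⟩ := χ.2
    rw [← hρ] at h ⊢
    exact ⟨n, Aux.exists_real ρ hirr h⟩
  · rintro ⟨n, σ, hσ⟩
    exact Aux.indicator_of_real σ χ hσ

end Cfsg.Agent.S4474
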