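import Cfsg.Statements.S4476
import Cfsg.Agent.Lib.Char.SquareRoots
import Cfsg.Agent.Lib.Char.Counting

set_option autoImplicit false
open Cfsg

namespace Cfsg.Agent.S4476

/-- Let G be a finite group of even order g with exactly t involutions, and put α = (g − 1)/t (a rational number). Then (a) some non-identity element x of G has at most α² conjugates; and (b) some non-principal real-valued irreducible character of G has degree at most α. -/
theorem result {G : Type*} [Group G] [Fintype G] (heven : Even (Nat.card G)) (t : ℕ) (ht : Nat.card {x : G // orderOf x = 2} = t) : (∃ x : G, x ≠ 1 ∧ ((Subgroup.centralizer ({x} : Set G)).index : ℚ) ≤ (((Nat.card G : ℚ) - 1) / t) ^ 2) ∧ ∃ χ : Cfsg.IrrCharacter G, (χ : G → ℂ) ≠ (fun _ => 1) ∧ (∀ g : G, ((χ : G → ℂ) g).im = 0) ∧ (Cfsg.charDegree (χ : G → ℂ) : ℚ) ≤ ((Nat.card G : ℚ) - 1) / t := by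
  classical
  have := Fintype.ofFinite (IrrCharacter G)
  have := Fintype.ofFinite (ConjClasses G)
  choose d hd0 hd using fun χ : IrrCharacter G => CfsgLib.Char.isIrrCharacter_degree χ.2
  have hdd : ∀ χ : IrrCharacter G, Cfsg.charDegree (χ : G → ℂ) = d χ := fun χ => by
    rw [Cfsg.charDegree, hd χ, Complex.natCast_re, Nat.floor_natCast]
  let triv : IrrCharacter G := ⟨fun _ => 1, CfsgLib.Char.isIrrCharacter_one⟩
  have hd1 : d triv = 1 := Nat.cast_injective (R := ℂ) (by rw [← hd triv]; simp [triv])
  set ν : IrrCharacter G → ℂ := fun χ => CfsgLib.Char.sqInd (χ : G → ℂ) with hν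
  set S : Finset (IrrCharacter G) := Finset.univ.filter (fun χ => χ ≠ triv ∧ ν χ ≠ 0) with hS
  have ht0 : 0 < t := by
    obtain ⟨z, hz⟩ := exists_prime_orderOf_dvd_card' 2 (even_iff_two_dvd.mp heven)
    rw [← ht]
    exact Nat.card_pos_iff.mpr ⟨⟨⟨z, hz⟩⟩, inferInstance⟩
  have hone : Nat.card {s : G // s * s = 1} = t + 1 := by
    rw [← ht, Nat.card_eq_fintype_card, Fintype.card_subtype, Nat.card_eq_fintype_card,
      Fintype.card_subtype, ← Finset.card_insert_of_notMem (a := (1 : G)) (by simp)]
    congr 1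
    ext s
    simp only [Finset.mem_filter, Finset.mem_univ, true_and, Finset.mem_insert]
    refine ⟨fun h => or_iff_not_imp_left.mpr fun h1 => ?_, ?_⟩
    · haveI : Fact (Nat.Prime 2) := ⟨Nat.prime_two⟩
      exact orderOf_eq_prime (by rw [pow_two, h]) h1
    · rintro (rfl | h)
      · rw [mul_one]
      · rw [← pow_two, ← h, pow_orderOf_eq_one]
  -- the sum of the degrees of the real nontrivial characters
  have hA : t ≤ ∑ χ ∈ S, d χ := by
    have h := CfsgLib.Char.card_square_roots (1 : G)
    rw [hone, ← Finset.add_sum_erase _ _ (Finset.mem_univ triv)] at h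
    rw [show CfsgLib.Char.sqInd ((triv : IrrCharacter G) : G → ℂ) = 1 from CfsgLib.Char.sqInd_one,
      hd triv, hd1, Nat.cast_one, mul_one, Nat.cast_add, Nat.cast_one, add_comm (1 : ℂ)] at h
    have h' := add_right_cancel h
    have h2 : (t : ℝ) ≤ ∑ χ ∈ S, (d χ : ℝ) := by
      have h3 : (t : ℝ) = ∑ χ ∈ Finset.univ.erase triv, (ν χ * (χ : G → ℂ) 1).re := by
        rw [← Complex.re_sum, ← h', Complex.natCast_re]
      rw [h3, ← Finset.sum_subset (s₁ := S) (fun χ hχ => ?_) fun χ hχ hχS => ?_]
      · refine Finset.sum_le_sum fun χ _ => ?_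
        rw [hd χ]
        rcases (CfsgLib.Char.sqInd_cases χ).1 with e | e | e <;> simp [hν, e]
      · exact Finset.mem_erase.mpr ⟨(Finset.mem_filter.mp hχ).2.1, Finset.mem_univ _⟩
      · have : ν χ = 0 := by
          by_contra hne
          exact hχS (Finset.mem_filter.mpr ⟨Finset.mem_univ _, (Finset.mem_erase.mp hχ).1, hne⟩)
        simp [this]
    exact_mod_cast h2
  set n := Nat.card G - 1 with hn
  have hn1 : ((n : ℕ) : ℚ) = (Nat.card G : ℚ) - 1 := by
    rw [hn, Nat.cast_sub Nat.card_pos, Nat.cast_one]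
  have hB : ∑ χ ∈ S, d χ ^ 2 ≤ n := by
    have h := CfsgLib.Char.sum_degree_sq (G := G)
    simp only [hd] at h
    have h' : ∑ χ : IrrCharacter G, d χ ^ 2 = Nat.card G := by exact_mod_cast h
    rw [← Finset.add_sum_erase _ _ (Finset.mem_univ triv), hd1, one_pow] at h'
    have hle : ∑ χ ∈ S, d χ ^ 2 ≤ ∑ χ ∈ Finset.univ.erase triv, d χ ^ 2 :=
      Finset.sum_le_sum_of_subset fun χ hχ =>
        Finset.mem_erase.mpr ⟨(Finset.mem_filter.mp hχ).2.1, Finset.mem_univ _⟩
    omega
  have hSne : S.Nonempty := by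
    rw [Finset.nonempty_iff_ne_empty]
    intro h
    rw [h, Finset.sum_empty] at hA
    omega
  constructor
  · by_contra hc
    push Not at hc
    rw [← hn1] at hc
    -- few classes
    have hclasses : S.card + 1 ≤ Nat.card (ConjClasses G) := by
      rw [← CfsgLib.Char.card_irr_eq_card_conjClasses, Nat.card_eq_fintype_card,
        ← Finset.card_univ, ← Finset.card_insert_of_notMem (a := triv) (by simp [hS])]
      exact Finset.card_le_univ _
    have hcs : t ^ 2 ≤ S.card * n :=
      (Nat.pow_le_pow_left hA 2).trans (sq_sum_le_card_mul_sum_sq.trans (Nat.mul_le_mul_left _ hB))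
    set E : Finset G := Finset.univ.erase 1 with hE
    have himg : (E.image ConjClasses.mk).card + 1 = Nat.card (ConjClasses G) := by
      rw [Nat.card_eq_fintype_card, ← Finset.card_univ,
        ← Finset.card_insert_of_notMem (a := ConjClasses.mk (1 : G)) (by
          simp only [Finset.mem_image, hE, Finset.mem_erase, not_exists, not_and]
          rintro g ⟨hg, -⟩ e
          exact hg (isConj_one_left.mp (ConjClasses.mk_eq_mk_iff_isConj.mp e)))]
      congr 1
      refine Finset.eq_univ_iff_forall.mpr fun C => ?_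
      obtain ⟨g, rfl⟩ := ConjClasses.exists_rep C
      by_cases hg : g = 1
      · exact Finset.mem_insert.mpr (Or.inl (by rw [hg]))
      · exact Finset.mem_insert_of_mem (Finset.mem_image_of_mem _ (by simp [hE, hg]))
    have hsum := Finset.card_eq_sum_card_image ConjClasses.mk E
    have hEc : E.card = n := by
      rw [hE, Finset.card_erase_of_mem (Finset.mem_univ _), Finset.card_univ, hn,
        Nat.card_eq_fintype_card]
    have hne : (E.image ConjClasses.mk).Nonempty := by
      rw [Finset.image_nonempty]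
      obtain ⟨z, hz⟩ := exists_prime_orderOf_dvd_card' 2 (even_iff_two_dvd.mp heven)
      exact ⟨z, Finset.mem_erase.mpr ⟨fun e => by simp [e] at hz, Finset.mem_univ _⟩⟩
    have hlt : ((E.image ConjClasses.mk).card : ℚ) * ((n : ℚ) / t) ^ 2 < n := by
      conv_rhs => rw [← hEc, hsum]
      push_cast
      rw [← nsmul_eq_mul, ← Finset.sum_const]
      refine Finset.sum_lt_sum_of_nonempty hne fun C hC => ?_
      obtain ⟨g, hg, rfl⟩ := Finset.mem_image.mp hC
      have hg1 : g ≠ 1 := (Finset.mem_erase.mp hg).1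
      refine (hc g hg1).trans_le (le_of_eq ?_)
      rw [← CfsgLib.Char.card_isConj, Nat.card_eq_fintype_card, Fintype.card_subtype]
      congr 2
      ext a
      simp only [Finset.mem_filter, Finset.mem_univ, true_and, hE, Finset.mem_erase, and_true,
        ConjClasses.mk_eq_mk_iff_isConj]
      exact ⟨fun h => ⟨fun e => hg1 (by subst e; first | exact isConj_one_left.mp h | exact isConj_one_right.mp h | exact isConj_one_left.mp h.symm), by first | exact h | exact h.symm⟩,
        fun h => by first | exact h.2 | exact h.2.symm⟩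
    have hN : (0 : ℚ) < n := by
      have : 0 < n := by
        rw [← hEc]
        exact Finset.card_pos.mpr (Finset.image_nonempty.mp hne)
      exact_mod_cast this
    have htq : (0 : ℚ) < t := by exact_mod_cast ht0
    have hle : (S.card : ℚ) ≤ (E.image ConjClasses.mk).card := by
      exact_mod_cast (by omega : S.card ≤ (E.image ConjClasses.mk).card)
    have hcsq : (t : ℚ) ^ 2 ≤ (S.card : ℚ) * n := by exact_mod_cast hcs
    rw [div_pow, mul_div_assoc', div_lt_iff₀ (by positivity)] at hlt
    nlinarith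
  · by_contra hc
    push Not at hc
    have hbig : ∀ χ ∈ S, n + 1 ≤ d χ * t := by
      intro χ hχ
      obtain ⟨-, hne, hν0⟩ := Finset.mem_filter.mp hχ
      have h := hc χ (fun e => hne (Subtype.ext e)) (CfsgLib.Char.real_of_sqInd_ne_zero χ hν0)
      rw [hdd χ, ← hn1, div_lt_iff₀ (by exact_mod_cast ht0)] at h
      have h' : n < d χ * t := by exact_mod_cast h
      omega
    have h1 : (n + 1) * ∑ χ ∈ S, d χ ≤ t * ∑ χ ∈ S, d χ ^ 2 := by
      rw [Finset.mul_sum, Finset.mul_sum]
      exact Finset.sum_le_sum fun χ hχ => by nlinarith [hbig χ hχ]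
    have h2 : (n + 1) * t ≤ (n + 1) * ∑ χ ∈ S, d χ := Nat.mul_le_mul_left _ hA
    have h3 : t * ∑ χ ∈ S, d χ ^ 2 ≤ t * n := Nat.mul_le_mul_left _ hB
    nlinarith

end Cfsg.Agent.S4476
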