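import Cfsg.Statements.S4477
import Cfsg.Agent.Lib.Char.InvolutionsModFour

set_option autoImplicit false
open Cfsg

namespace Cfsg.Agent.S4477

/-- Let G be a finite 2-group whose number of involutions is congruent to 1 modulo 4. Then G is cyclic or its commutator subgroup has index 4. -/
theorem result {G : Type*} [Group G] [Finite G] (hG : IsPGroup 2 G) (ht : Nat.card {x : G // orderOf x = 2} % 4 = 1) : IsCyclic G ∨ (commutator G).index = 4 := by
  classical
  have := Fintype.ofFinite G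
  have := Fintype.ofFinite (IrrCharacter G)
  haveI : Finite (G →* ℂˣ) := Finite.of_equiv _ (CfsgLib.Char.linearCharEquiv (G := G)).symm
  have := Fintype.ofFinite (G →* ℂˣ)
  haveI : Fact (Nat.Prime 2) := ⟨Nat.prime_two⟩
  set t := Nat.card {x : G // orderOf x = 2} with htdef
  choose d hd0 hd using fun χ : IrrCharacter G => CfsgLib.Char.isIrrCharacter_degree χ.2
  obtain ⟨m, hm⟩ := IsPGroup.iff_card.mp hG
  have hdcases : ∀ χ, d χ = 1 ∨ d χ = 2 ∨ 4 ∣ d χ := by
    intro χ
    obtain ⟨j, -, hj⟩ := (Nat.dvd_prime_pow Nat.prime_two).mp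
      (hm ▸ CfsgLib.Char.degree_dvd_card χ (hd χ))
    match j, hj with
    | 0, h => exact Or.inl h
    | 1, h => exact Or.inr (Or.inl h)
    | j + 2, h => exact Or.inr (Or.inr ⟨2 ^ j, by rw [h, pow_add, mul_comm]; norm_num⟩)
  -- integral indicators
  have hνint : ∀ χ : IrrCharacter G, ∃ e : ℤ, CfsgLib.Char.sqInd (χ : G → ℂ) = e ∧
      (e = 0 ∨ e = 1 ∨ e = -1) := fun χ => by
    rcases (CfsgLib.Char.sqInd_cases χ).1 with h | h | h
    · exact ⟨0, by simp [h], Or.inl rfl⟩
    · exact ⟨1, by simp [h], Or.inr (Or.inl rfl)⟩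
    · exact ⟨-1, by simp [h], Or.inr (Or.inr rfl)⟩
  choose e he he' using hνint
  have hone : Nat.card {s : G // s * s = 1} = t + 1 := by
    rw [htdef, Nat.card_eq_fintype_card, Fintype.card_subtype, Nat.card_eq_fintype_card,
      Fintype.card_subtype, ← Finset.card_insert_of_notMem (a := (1 : G)) (by simp)]
    congr 1
    ext s
    simp only [Finset.mem_filter, Finset.mem_univ, true_and, Finset.mem_insert]
    refine ⟨fun h => or_iff_not_imp_left.mpr fun h1 => ?_, ?_⟩
    · exact orderOf_eq_prime (by rw [pow_two, h]) h1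
    · rintro (rfl | h)
      · rw [mul_one]
      · rw [← pow_two, ← h, pow_orderOf_eq_one]
  have hsum : ∑ χ : IrrCharacter G, e χ * (d χ : ℤ) = ((t + 1 : ℕ) : ℤ) := by
    have h := CfsgLib.Char.card_square_roots (1 : G)
    rw [hone] at h
    simp only [he, hd] at h
    exact_mod_cast h.symm
  have hreal : ∀ χ : IrrCharacter G, e χ ≠ 0 ↔ ∀ g : G, ((χ : G → ℂ) g).im = 0 := fun χ => by
    have h := (CfsgLib.Char.sqInd_cases χ).2
    rw [he, Int.cast_eq_zero] at h
    rw [ne_eq, h]; push Not; rfl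
  -- linear characters of square one
  have hlin2 : ∀ (lam : G →* ℂˣ) (g : G), lam g * lam g = 1 ↔ ((lam g : ℂˣ) : ℂ).im = 0 := by
    intro lam g
    have hn : ‖((lam g : ℂˣ) : ℂ)‖ = 1 := by
      refine Complex.norm_eq_one_of_pow_eq_one (n := Nat.card G) ?_ Nat.card_pos.ne'
      rw [← Units.val_pow_eq_pow_val, ← map_pow, pow_card_eq_one', map_one, Units.val_one]
    constructor
    · intro h
      have h' : ((lam g : ℂˣ) : ℂ) * ((lam g : ℂˣ) : ℂ) = 1 := by rw [← Units.val_mul, h, Units.val_one]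
      rcases mul_self_eq_one_iff.mp h' with h2 | h2 <;> rw [h2] <;> simp
    · intro h
      refine Units.ext ?_
      have h2 : ((lam g : ℂˣ) : ℂ) * (starRingEnd ℂ) ((lam g : ℂˣ) : ℂ) = 1 := by
        rw [Complex.mul_conj', hn]; simp
      rw [Complex.conj_eq_iff_im.mpr h] at h2
      rw [Units.val_mul, h2, Units.val_one]
  have hr2 : (Finset.univ.filter fun χ => d χ = 1 ∧ e χ ≠ 0).card =
      Nat.card {lam : G →* ℂˣ // lam * lam = 1} := by
    rw [Nat.card_eq_fintype_card, Fintype.card_subtype]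
    symm
    refine Finset.card_bij (fun lam _ => ((CfsgLib.Char.linearCharEquiv lam).1 : IrrCharacter G))
      (fun lam hlam => ?_) (fun a _ b _ h => CfsgLib.Char.linearCharEquiv.injective (Subtype.ext h))
      fun χ hχ => ?_
    · rw [Finset.mem_filter] at hlam ⊢
      refine ⟨Finset.mem_univ _, Nat.cast_injective (R := ℂ) ?_, (hreal _).mpr fun g => ?_⟩
      · rw [← hd]
        show ((lam 1 : ℂˣ) : ℂ) = _
        simp
      · exact (hlin2 lam g).mp (DFunLike.congr_fun hlam.2 g)
    · rw [Finset.mem_filter] at hχ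
      obtain ⟨lam, hlam⟩ := CfsgLib.Char.linearCharEquiv.surjective ⟨χ, by rw [hd, hχ.2.1]; simp⟩
      refine ⟨lam, Finset.mem_filter.mpr ⟨Finset.mem_univ _, MonoidHom.ext fun g => ?_⟩, congrArg Subtype.val hlam⟩
      refine (hlin2 lam g).mpr ?_
      have := (hreal χ).mp hχ.2.2 g
      rwa [show χ = (CfsgLib.Char.linearCharEquiv lam).1 from (congrArg Subtype.val hlam).symm] at this
  set F := Finset.univ.filter fun χ => d χ = 2 ∧ e χ ≠ 0 with hF
  have hmod : ((Nat.card {lam : G →* ℂˣ // lam * lam = 1} + 2 * F.card : ℕ) : ZMod 4) = 2 := by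
    have h1 : ((t + 1 : ℕ) : ZMod 4) = 2 := by
      rw [← ZMod.natCast_mod, Nat.add_mod, ht]; rfl
    rw [← h1, ← Int.cast_natCast (R := ZMod 4) (t + 1), ← hsum, ← hr2, hF]
    push_cast
    rw [Finset.natCast_card_filter, Finset.natCast_card_filter, Finset.mul_sum, ← Finset.sum_add_distrib]
    have hlin1 : ∀ χ, d χ = 1 → e χ ≠ 0 → e χ = 1 := by
      intro χ h1 hne
      obtain ⟨lam, hlam⟩ := CfsgLib.Char.linearCharEquiv.surjective ⟨χ, by rw [hd, h1]; simp⟩
      have hc : CfsgLib.Char.sqInd (χ : G → ℂ) = 1 := by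
        have hfun : (χ : G → ℂ) = fun g => ((lam g : ℂˣ) : ℂ) := (congrArg (fun w => (w.1 : G → ℂ)) hlam).symm
        rw [hfun, CfsgLib.Char.sqInd]
        have h2 : ∀ g, ((lam (g * g) : ℂˣ) : ℂ) = 1 := fun g => by
          rw [map_mul, (hlin2 lam g).mpr (by rw [← congrFun hfun g]; exact (hreal χ).mp hne g),
            Units.val_one]
        rw [Finset.sum_congr rfl fun g _ => h2 g]
        exact CfsgLib.Char.sqInd_one
      rw [he] at hc
      exact_mod_cast hc
    refine Finset.sum_congr rfl fun χ _ => ?_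
    rcases hdcases χ with h1 | h2 | h4
    · by_cases hne : e χ = 0
      · simp [h1, hne]
      · rw [hlin1 χ h1 hne]; simp [h1]
    · rcases he' χ with h | h | h <;> simp [h2, h] <;> decide
    · obtain ⟨q, hq⟩ := h4
      rw [hq]
      have : (4 : ZMod 4) = 0 := by decide
      push_cast
      rw [this, zero_mul, mul_zero, if_neg (fun h => by omega), if_neg (fun h => by omega)]
      simp
  by_cases hfew : Nat.card {lam : G →* ℂˣ // lam * lam = 1} ≤ 2
  · exact Or.inl (CfsgLib.Char.InvolutionsModFour.isCyclic_of_few hG hfew)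
  right
  let L2 : Subgroup (G →* ℂˣ) :=
    { carrier := {lam | ∀ g, lam g ^ 2 = 1}
      one_mem' := fun g => one_pow 2
      mul_mem' := fun {a b} ha hb g => by
        rw [MonoidHom.mul_apply, mul_pow, ha g, hb g, one_mul]
      inv_mem' := fun {a} ha g => by rw [MonoidHom.inv_apply, inv_pow, ha g, inv_one] }
  let L4 : Subgroup (G →* ℂˣ) :=
    { carrier := {lam | ∀ g, lam g ^ 4 = 1}
      one_mem' := fun g => one_pow 4
      mul_mem' := fun {a b} ha hb g => by
        rw [MonoidHom.mul_apply, mul_pow, ha g, hb g, one_mul]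
      inv_mem' := fun {a} ha g => by rw [MonoidHom.inv_apply, inv_pow, ha g, inv_one] }
  have hL2c : Nat.card L2 = Nat.card {lam : G →* ℂˣ // lam * lam = 1} :=
    Nat.card_congr (Equiv.subtypeEquivRight fun lam => ⟨fun h => MonoidHom.ext fun g => by
      rw [MonoidHom.mul_apply, MonoidHom.one_apply, ← pow_two]; exact h g,
      fun h g => by rw [pow_two]; exact DFunLike.congr_fun h g⟩)
  have hL2p : IsPGroup 2 L2 := fun lam => ⟨1, Subtype.ext (MonoidHom.ext fun g => by
    rw [pow_one, Subgroup.coe_pow]; exact lam.2 g)⟩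
  have hL4p : IsPGroup 2 L4 := fun lam => ⟨2, Subtype.ext (MonoidHom.ext fun g => by
    rw [Subgroup.coe_pow]; exact lam.2 g)⟩
  obtain ⟨r, hr⟩ := IsPGroup.iff_card.mp hL2p
  have hr' : 2 ≤ r := by
    by_contra h
    have : 2 ^ r ≤ 2 ^ 1 := Nat.pow_le_pow_right (by omega) (by omega)
    omega
  have hFodd : Odd F.card := by
    rw [← hL2c, hr] at hmod
    rw [Nat.odd_iff]
    by_contra hne
    obtain ⟨q, hq⟩ := Nat.dvd_of_mod_eq_zero (show F.card % 2 = 0 by omega)
    obtain ⟨r, rfl⟩ := Nat.exists_eq_add_of_le hr'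
    rw [hq, pow_add] at hmod
    push_cast at hmod
    rw [show (4 : ZMod 4) = 0 by decide, zero_mul, zero_add, ← mul_assoc,
      show (2 : ZMod 4) * 2 = 0 by decide, zero_mul] at hmod
    exact absurd hmod (by decide)
  -- twisting
  letI : MulAction (G →* ℂˣ) (IrrCharacter G) :=
    { smul := fun lam χ => ⟨_, CfsgLib.Char.isIrrCharacter_mul_linear χ lam⟩
      one_smul := fun χ => Subtype.ext (funext fun g => by
        show (((1 : G →* ℂˣ) g : ℂˣ) : ℂ) * (χ : G → ℂ) g = _
        simp)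
      mul_smul := fun a b χ => Subtype.ext (funext fun g => by
        show (((a * b) g : ℂˣ) : ℂ) * (χ : G → ℂ) g = (a g : ℂ) * ((b g : ℂ) * (χ : G → ℂ) g)
        simp [mul_assoc]) }
  have hsmul : ∀ (lam : G →* ℂˣ) (χ : IrrCharacter G) (g : G),
      ((lam • χ : IrrCharacter G) : G → ℂ) g = ((lam g : ℂˣ) : ℂ) * (χ : G → ℂ) g := fun _ _ _ => rfl
  have hdsmul : ∀ (lam : G →* ℂˣ) (χ : IrrCharacter G), d (lam • χ) = d χ := fun lam χ =>
    Nat.cast_injective (R := ℂ) (by rw [← hd, ← hd, hsmul]; simp)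
  let S1 : SubMulAction L2 (IrrCharacter G) :=
    { carrier := {χ | d χ = 2 ∧ e χ ≠ 0}
      smul_mem' := fun lam {χ} hχ => by
        refine ⟨(hdsmul lam χ).trans hχ.1, (hreal _).mpr fun g => ?_⟩
        show (((lam.1 g : ℂˣ) : ℂ) * (χ : G → ℂ) g).im = 0
        rw [Complex.mul_im, (hreal χ).mp hχ.2 g, (hlin2 lam.1 g).mp (by rw [← pow_two]; exact lam.2 g)]
        ring }
  have hS1 : Nat.card S1 = F.card := by
    rw [Nat.card_eq_fintype_card, Fintype.card_subtype]
    congr 1
    ext χ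
    simp only [Finset.mem_filter, Finset.mem_univ, true_and, hF]
    rfl
  have hfix1 := hL2p.card_modEq_card_fixedPoints (α := S1)
  rw [hS1] at hfix1
  let S2 : SubMulAction L4 (IrrCharacter G) :=
    { carrier := {χ | (d χ = 2 ∧ e χ ≠ 0) ∧ ∀ lam ∈ L2, lam • χ = χ}
      smul_mem' := fun lam {χ} hχ => by
        refine ⟨⟨(hdsmul lam χ).trans hχ.1.1, (hreal _).mpr fun g => ?_⟩, fun μ hμ => ?_⟩
        · show (((lam.1 g : ℂˣ) : ℂ) * (χ : G → ℂ) g).im = 0
          by_cases h0 : (χ : G → ℂ) g = 0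
          · rw [h0, mul_zero, Complex.zero_im]
          have h2 : lam.1 ^ 2 ∈ L2 := fun x => by
            rw [MonoidHom.pow_apply, ← pow_mul]; exact lam.2 x
          have h3 := congrFun (congrArg Subtype.val (hχ.2 _ h2)) g
          rw [hsmul] at h3
          have h4 : (lam.1 ^ 2) g = 1 := Units.ext ((mul_eq_right₀ h0).mp h3)
          rw [MonoidHom.pow_apply, pow_two] at h4
          rw [Complex.mul_im, (hreal χ).mp hχ.1.2 g, (hlin2 lam.1 g).mp h4]
          ring
        · show μ • (lam.1 • χ) = lam.1 • χ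
          refine Subtype.ext (funext fun g => ?_)
          have h5 := congrFun (congrArg Subtype.val (hχ.2 μ hμ)) g
          rw [hsmul] at h5
          rw [hsmul, hsmul, mul_left_comm, h5] }
  have hS2 : Nat.card S2 = Nat.card (MulAction.fixedPoints L2 S1) := by
    refine Nat.card_congr
      { toFun := fun χ => ⟨⟨χ.1, χ.2.1⟩, fun lam => Subtype.ext (χ.2.2 lam.1 lam.2)⟩
        invFun := fun χ => ⟨χ.1.1, χ.1.2, fun lam hlam => congrArg Subtype.val (χ.2 ⟨lam, hlam⟩)⟩
        left_inv := fun _ => rfl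
        right_inv := fun _ => rfl }
  have hfix2 := hL4p.card_modEq_card_fixedPoints (α := S2)
  rw [hS2] at hfix2
  have hpos : 0 < Nat.card (MulAction.fixedPoints L4 S2) := by
    have := Nat.odd_iff.mp hFodd
    unfold Nat.ModEq at hfix1 hfix2
    omega
  obtain ⟨⟨⟨χ, ⟨hχd, hχe⟩, hχ2⟩, hχ4⟩⟩ := (Nat.card_pos_iff.mp hpos).1
  have hχ1 : (χ : G → ℂ) 1 = 2 := by rw [hd, hχd]; norm_num
  have hle4 := CfsgLib.Char.InvolutionsModFour.card_le_four L4 χ hχ1 fun lam hlam g => by
    have := congrArg (fun w : S2 => ((w.1 : IrrCharacter G) : G → ℂ) g) (hχ4 ⟨lam, hlam⟩)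
    exact this
  have hsub : L2 ≤ L4 := fun lam h g => by
    rw [show (4 : ℕ) = 2 * 2 from rfl, pow_mul, h g, one_pow]
  have h2le : 4 ≤ Nat.card L2 := by
    rw [hr]; exact le_trans (le_of_eq (by norm_num)) (Nat.pow_le_pow_right (by omega) hr')
  have heq : L2 = L4 := Subgroup.eq_of_le_of_card_ge hsub (hle4.trans h2le)
  have hall : ∀ (j : ℕ) (lam : G →* ℂˣ), (∀ g, lam g ^ 2 ^ j = 1) → lam ∈ L2 := by
    intro j
    induction j with
    | zero => exact fun lam h g => by rw [show lam g = 1 by simpa using h g, one_pow]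
    | succ j ih =>
      intro lam h
      have h1 : lam ^ 2 ∈ L2 := ih _ fun g => by
        rw [MonoidHom.pow_apply, ← pow_mul, ← pow_succ']; exact h g
      have h4 : lam ∈ L4 := fun g => by
        have := h1 g
        rwa [MonoidHom.pow_apply, ← pow_mul] at this
      rw [heq]; exact h4
  have htop : L2 = ⊤ := eq_top_iff.mpr fun lam _ => hall m lam fun g => by
    rw [← map_pow, ← hm, pow_card_eq_one', map_one]
  rw [← CfsgLib.Char.card_linear, ← Nat.card_congr CfsgLib.Char.linearCharEquiv,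
    ← Subgroup.card_top, ← htop]
  exact le_antisymm (heq ▸ hle4) h2le

end Cfsg.Agent.S4477
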