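import Cfsg.Statements.S4478
import Mathlib
import Cfsg.Agent.Lib.Char.DefectZero
import Cfsg.Agent.Lib.Char.SquareRoots
import Cfsg.Agent.Lib.Char.Vanish
import Cfsg.Agent.Lib.Char.EigenDegree

set_option autoImplicit false
open Cfsg

namespace Cfsg.Agent.S4478

/-- Let G be a finite group of even order and χ an irreducible character of G whose degree x is divisible by the full power of 2 dividing the order of G and, for every odd prime p such that G has an element of order 2p, by the full power of p dividing the order of G. Then all involutions of G are conjugate, the centralizer of every involution has order exactly x with x coprime to its index, and the Frobenius–Schur indicator of χ equals 1. -/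
theorem result {G : Type*} [Group G] [Fintype G] (heven : Even (Nat.card G)) (χ : Cfsg.IrrCharacter G) (h2 : 2 ^ (Nat.card G).factorization 2 ∣ Cfsg.charDegree (χ : G → ℂ)) (hp : ∀ p : ℕ, p.Prime → p ≠ 2 → (∃ g : G, orderOf g = 2 * p) → p ^ (Nat.card G).factorization p ∣ Cfsg.charDegree (χ : G → ℂ)) : (∀ s t : G, orderOf s = 2 → orderOf t = 2 → IsConj s t) ∧ (∀ s : G, orderOf s = 2 → Nat.card (Subgroup.centralizer ({s} : Set G)) = Cfsg.charDegree (χ : G → ℂ) ∧ (Nat.card (Subgroup.centralizer ({s} : Set G))).Coprime (Subgroup.centralizer ({s} : Set G)).index) ∧ (Nat.card G : ℂ)⁻¹ * ∑ g : G, (χ : G → ℂ) (g * g) = 1 := by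
  classical
  have h2' : (2 : ℕ).Prime := Nat.prime_two
  haveI : Fact (Nat.Prime 2) := ⟨h2'⟩
  set d := Cfsg.charDegree (χ : G → ℂ) with hddef
  have hd : (χ : G → ℂ) 1 = (d : ℂ) := CfsgLib.Char.irr_one_eq_charDegree χ
  have hd0 : d ≠ 0 := fun e => CfsgLib.Char.irr_one_ne_zero χ (by rw [hd, e, Nat.cast_zero])
  have hG := Nat.card_pos (α := G)
  have hzero : ∀ r : ℕ, r.Prime → r ^ (Nat.card G).factorization r ∣ d → ∀ g : G, r ∣ orderOf g →
      (χ : G → ℂ) g = 0 := fun r hr hrd g hg => by
    haveI := Fact.mk hr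
    exact CfsgLib.Char.char_defect_zero_vanishes χ (Nat.ordProj_dvd _ _)
      (Nat.pow_succ_factorization_not_dvd hG.ne' hr) hd hrd hg
  have heven0 : ∀ g : G, 2 ∣ orderOf g → (χ : G → ℂ) g = 0 := hzero 2 h2' h2
  -- odd primes in centralisers of involutions
  have hmix : ∀ s : G, orderOf s = 2 → ∀ r : ℕ, r.Prime → r ≠ 2 → ∀ h : G, Commute s h → orderOf h = r →
      r ^ (Nat.card G).factorization r ∣ d := fun s hs r hr hr2 h hc ho =>
    hp r hr hr2 ⟨s * h, by
      rw [hc.orderOf_mul_eq_mul_orderOf_of_coprime (by rw [hs, ho]; exact (Nat.coprime_primes h2' hr).mpr (Ne.symm hr2)),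
        hs, ho]⟩
  have hcent0 : ∀ s : G, orderOf s = 2 → ∀ g : G, Commute s g → g ≠ 1 → (χ : G → ℂ) g = 0 := by
    intro s hs g hc hg
    have ho : orderOf g ≠ 1 := fun e => hg (orderOf_eq_one_iff.mp e)
    obtain ⟨r, hr, hrd⟩ := Nat.exists_prime_and_dvd ho
    by_cases hr2 : r = 2
    · exact heven0 g (hr2 ▸ hrd)
    · refine hzero r hr (hmix s hs r hr hr2 (g ^ (orderOf g / r)) (hc.pow_right _) ?_) g hrd
      exact orderOf_pow_orderOf_div (orderOf_pos g).ne' hrd
  have hCdvd : ∀ s : G, orderOf s = 2 → Nat.card (Subgroup.centralizer ({s} : Set G)) ∣ d := by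
    intro s hs
    haveI := Fintype.ofFinite (Subgroup.centralizer ({s} : Set G))
    obtain ⟨n, ρ, -, hρ⟩ := χ.2
    have h := CfsgLib.Char.classInner_one_eq_finrank_fixed
      (ρ.comp (Subgroup.centralizer ({s} : Set G)).subtype)
    rw [show Representation.character (ρ.comp (Subgroup.centralizer ({s} : Set G)).subtype) =
      fun c : Subgroup.centralizer ({s} : Set G) => ρ.character c from rfl, hρ, Cfsg.classInner,
      Finset.sum_eq_single_of_mem (1 : Subgroup.centralizer ({s} : Set G)) (Finset.mem_univ _) fun c _ hc => by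
        rw [hcent0 s hs (c : G) (Subgroup.mem_centralizer_singleton_iff.mp c.2).symm
          fun e => hc (Subtype.ext e), zero_mul], map_one, mul_one, OneMemClass.coe_one, hd,
      inv_mul_eq_iff_eq_mul₀ (Nat.cast_ne_zero.mpr Nat.card_pos.ne')] at h
    exact ⟨_, by exact_mod_cast h⟩
  -- nontrivial
  have hsum0 : ∑ g : G, (χ : G → ℂ) g = 0 := by
    have hne : χ ≠ (⟨fun _ => (1 : ℂ), CfsgLib.Char.isIrrCharacter_one⟩ : Cfsg.IrrCharacter G) := fun e => by
      have h1 : d = 1 := by
        have := hd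
        rw [e] at this
        simpa using this.symm
      rw [h1] at h2
      have := (Nat.Prime.dvd_iff_one_le_factorization h2' hG.ne').mp heven.two_dvd
      exact absurd (Nat.dvd_one.mp h2) (Nat.one_lt_pow (by omega) (by norm_num)).ne'
    have h := CfsgLib.Char.classInner_irr_ne hne
    simp [Cfsg.classInner] at h
    exact h
  -- the indicator
  let O : Finset G := Finset.univ.filter fun g => ¬ 2 ∣ orderOf g
  let I : Finset G := Finset.univ.filter fun g => orderOf g = 2
  have hodd : ∑ g ∈ O, (χ : G → ℂ) (g * g) = 0 := by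
    rw [← hsum0, ← Finset.sum_filter_add_sum_filter_not Finset.univ (fun g => ¬ 2 ∣ orderOf g),
      Finset.sum_eq_zero (s := Finset.univ.filter fun g => ¬ ¬ 2 ∣ orderOf g) fun g hg =>
        heven0 g (not_not.mp (Finset.mem_filter.mp hg).2), add_zero]
    refine Finset.sum_bij (fun g _ => g * g) (fun g hg => ?_) (fun a ha b hb e => ?_) (fun b hb => ?_) fun _ _ => rfl
    · refine Finset.mem_filter.mpr ⟨Finset.mem_univ _, fun h => (Finset.mem_filter.mp hg).2 ?_⟩
      exact h.trans (orderOf_dvd_of_mem_zpowers ⟨2, by show g ^ (2 : ℤ) = g * g; rw [zpow_two]⟩)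
    · have key : ∀ u : G, ¬ 2 ∣ orderOf u → (u * u) ^ ((orderOf u + 1) / 2) = u := fun u hu => by
        rw [← pow_two, ← pow_mul, Nat.mul_div_cancel' (by omega), pow_succ, pow_orderOf_eq_one, one_mul]
      have key2 : ∀ u : G, ¬ 2 ∣ orderOf u → orderOf (u * u) = orderOf u := fun u hu => by
        rw [← pow_two, orderOf_pow' u two_ne_zero,
          (Nat.coprime_comm.mp ((Nat.Prime.coprime_iff_not_dvd h2').mpr hu)).gcd_eq_one, Nat.div_one]
      rw [← key a (Finset.mem_filter.mp ha).2, ← key b (Finset.mem_filter.mp hb).2]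
      rw [← key2 a (Finset.mem_filter.mp ha).2, ← key2 b (Finset.mem_filter.mp hb).2, show a * a = b * b from e]
    · have hb' := (Finset.mem_filter.mp hb).2
      refine ⟨b ^ ((orderOf b + 1) / 2), Finset.mem_filter.mpr ⟨Finset.mem_univ _, fun h => hb' ?_⟩, ?_⟩
      · exact h.trans (orderOf_dvd_of_mem_zpowers ⟨(((orderOf b + 1) / 2 : ℕ) : ℤ), zpow_natCast b _⟩)
      · rw [← pow_add, ← two_mul, Nat.mul_div_cancel' (by omega), pow_succ, pow_orderOf_eq_one, one_mul]
  have hsum : ∑ g : G, (χ : G → ℂ) (g * g) = (I.card : ℂ) * d := by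
    rw [← Finset.sum_filter_add_sum_filter_not Finset.univ (fun g => ¬ 2 ∣ orderOf g), hodd, zero_add,
      ← nsmul_eq_mul, ← Finset.sum_const]
    symm
    rw [← Finset.sum_subset (s₁ := I) (s₂ := Finset.univ.filter fun g => ¬ ¬ 2 ∣ orderOf g)
      (fun g hg => Finset.mem_filter.mpr ⟨Finset.mem_univ _, by
        rw [(Finset.mem_filter.mp hg).2]; simp⟩) ?_]
    · refine Finset.sum_congr rfl fun g hg => ?_
      have := pow_orderOf_eq_one g
      rw [(Finset.mem_filter.mp hg).2, pow_two] at this
      rw [this, hd]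
    · intro g hg hgI
      have hev := not_not.mp (Finset.mem_filter.mp hg).2
      have hg2 : g * g ≠ 1 := fun e => hgI (Finset.mem_filter.mpr ⟨Finset.mem_univ _, by
        refine orderOf_eq_prime (by rw [pow_two]; exact e) fun e1 => ?_
        rw [e1, orderOf_one] at hev
        norm_num at hev⟩)
      exact hcent0 (g ^ (orderOf g / 2)) (orderOf_pow_orderOf_div (orderOf_pos g).ne' hev) (g * g)
        (((Commute.refl g).pow_left _).mul_right ((Commute.refl g).pow_left _)) hg2
  obtain ⟨s₀, hs₀⟩ := exists_prime_orderOf_dvd_card' (G := G) 2 heven.two_dvd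
  have hIpos : 0 < I.card := Finset.card_pos.mpr ⟨s₀, Finset.mem_filter.mpr ⟨Finset.mem_univ _, hs₀⟩⟩
  have hval : (Nat.card G : ℂ)⁻¹ * ∑ g : G, (χ : G → ℂ) (g * g) = ((I.card * d : ℕ) : ℂ) / Nat.card G := by
    rw [hsum]; push_cast; rw [div_eq_inv_mul]
  have hind : (Nat.card G : ℂ)⁻¹ * ∑ g : G, (χ : G → ℂ) (g * g) = 1 := by
    have hcases := (CfsgLib.Char.sqInd_cases χ).1
    simp only [CfsgLib.Char.sqInd] at hcases
    rcases hcases with h | h | h
    · exfalso
      rw [hval, div_eq_zero_iff] at h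
      rcases h with h | h
      · exact mul_ne_zero hIpos.ne' hd0 (by exact_mod_cast h)
      · exact hG.ne' (by exact_mod_cast h)
    · exact h
    · exfalso
      rw [hval, div_eq_iff (Nat.cast_ne_zero.mpr hG.ne'), neg_one_mul, eq_neg_iff_add_eq_zero] at h
      have : I.card * d + Nat.card G = 0 := by exact_mod_cast h
      omega
  have hId : I.card * d = Nat.card G := by
    rw [hval, div_eq_one_iff_eq (Nat.cast_ne_zero.mpr hG.ne')] at hind
    exact_mod_cast hind
  have hclass : ∀ s : G, orderOf s = 2 →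
      (∀ t : G, orderOf t = 2 → IsConj s t) ∧ Nat.card (Subgroup.centralizer ({s} : Set G)) = d := by
    intro s hs
    have hle := Nat.le_of_dvd (Nat.pos_of_ne_zero hd0) (hCdvd s hs)
    have hci := (Subgroup.centralizer ({s} : Set G)).card_mul_index
    have hsub : (Finset.univ.filter fun t => IsConj s t) ⊆ I := fun t ht => by
      obtain ⟨c, hc⟩ := isConj_iff.mp (Finset.mem_filter.mp ht).2
      exact Finset.mem_filter.mpr ⟨Finset.mem_univ _, by rw [← hc, ← MulAut.conj_apply, MulEquiv.orderOf_eq, hs]⟩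
    have hcard : (Finset.univ.filter fun t => IsConj s t).card = (Subgroup.centralizer ({s} : Set G)).index := by
      rw [← CfsgLib.Char.card_isConj, Nat.card_eq_fintype_card, Fintype.card_subtype]
    have h1 : (Subgroup.centralizer ({s} : Set G)).index ≤ I.card := hcard ▸ Finset.card_le_card hsub
    have h2 : (Subgroup.centralizer ({s} : Set G)).index = I.card := by
      refine le_antisymm h1 (Nat.le_of_mul_le_mul_right ?_ (Nat.pos_of_ne_zero hd0))
      rw [hId, ← hci, mul_comm]
      exact Nat.mul_le_mul_left _ hle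
    have h3 := Finset.eq_of_subset_of_card_le hsub (by rw [hcard, h2])
    refine ⟨fun t ht => ?_, Nat.eq_of_mul_eq_mul_right hIpos (by rw [mul_comm d, hId, ← hci, h2])⟩
    have : t ∈ Finset.univ.filter fun t => IsConj s t := h3.symm ▸ Finset.mem_filter.mpr ⟨Finset.mem_univ _, ht⟩
    exact (Finset.mem_filter.mp this).2
  refine ⟨fun s t hs ht => (hclass s hs).1 t ht, fun s hs => ⟨(hclass s hs).2, ?_⟩, hind⟩
  refine Nat.coprime_of_dvd fun r hr hrC hri => ?_
  haveI := Fact.mk hr
  have hfull : r ^ (Nat.card G).factorization r ∣ Nat.card (Subgroup.centralizer ({s} : Set G)) := by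
    rw [(hclass s hs).2]
    by_cases hr2 : r = 2
    · exact hr2 ▸ h2
    · obtain ⟨h, ho⟩ := exists_prime_orderOf_dvd_card' (G := Subgroup.centralizer ({s} : Set G)) r hrC
      exact hmix s hs r hr hr2 (h : G) (Subgroup.mem_centralizer_singleton_iff.mp h.2).symm
        ((Subgroup.orderOf_coe h).trans ho)
  refine Nat.pow_succ_factorization_not_dvd hG.ne' hr ?_
  rw [← (Subgroup.centralizer ({s} : Set G)).card_mul_index, pow_succ]
  exact mul_dvd_mul (by rw [(Subgroup.centralizer ({s} : Set G)).card_mul_index]; exact hfull) hri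

end Cfsg.Agent.S4478
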