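import Cfsg.Statements.S4479
import Cfsg.Agent.Lib.Block.KleinOrder
-- import your own Cfsg.Agent.* helpers here

set_option autoImplicit false
open Cfsg CfsgLib.Block

open Cfsg

namespace Cfsg.Agent.S4479

/-- An order formula from the principal 2-block. Let G be a finite group of order 4·g₀ with g₀ odd having no normal 2-complement (no normal subgroup of order g₀); let P be a Sylow 2-subgroup, J an involution of P, and fix a maximal ideal M of the algebraic integers containing 2. Suppose the principal 2-block consists of the principal character and three further distinct characters χ₁, χ₂, χ₃ of degrees x₁, x₂, x₃, with χ_i(J) = ε_i = ±1. Then, writing c(J) and c(P) for the orders of the centralizers of J and of P, the order of G equals 8·α·c(J)³/c(P)² with α = x₁x₂x₃ / ((x₁ + ε₁)(x₂ + ε₂)(x₃ + ε₃)). -/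
theorem result {G : Type*} [Group G] [Finite G] (M : Ideal Cfsg.AlgInt) (hM : Cfsg.IsPModular 2 M) (g₀ : ℕ) (hg₀ : Odd g₀) (hG : Nat.card G = 4 * g₀) (hnc : ¬ ∃ N : Subgroup G, N.Normal ∧ Nat.card N = g₀) (P : Sylow 2 G) (J : G) (hJ : J ∈ (P : Subgroup G)) (hJ2 : orderOf J = 2) (χ₁ χ₂ χ₃ : Cfsg.IrrCharacter G) (ε₁ ε₂ ε₃ : ℤ) (hB : Cfsg.principalBlock M G = {χ : Cfsg.IrrCharacter G | (χ : G → ℂ) = (fun _ => 1) ∨ χ = χ₁ ∨ χ = χ₂ ∨ χ = χ₃}) (hdist : (χ₁ : G → ℂ) ≠ (fun _ => 1) ∧ (χ₂ : G → ℂ) ≠ (fun _ => 1) ∧ (χ₃ : G → ℂ) ≠ (fun _ => 1) ∧ χ₁ ≠ χ₂ ∧ χ₁ ≠ χ₃ ∧ χ₂ ≠ χ₃) (hε : (ε₁ = 1 ∨ ε₁ = -1) ∧ (ε₂ = 1 ∨ ε₂ = -1) ∧ (ε₃ = 1 ∨ ε₃ = -1)) (hval : (χ₁ : G → ℂ) J = ε₁ ∧ (χ₂ : G → ℂ) J = ε₂ ∧ (χ₃ : G → ℂ) J = ε₃) : (Nat.card G : ℚ) = 8 * (((Cfsg.charDegree (χ₁ : G → ℂ) : ℚ) * Cfsg.charDegree (χ₂ : G → ℂ) * Cfsg.charDegree (χ₃ : G → ℂ)) / ((Cfsg.charDegree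 (χ₁ : G → ℂ) + ε₁) * (Cfsg.charDegree (χ₂ : G → ℂ) + ε₂) * (Cfsg.charDegree (χ₃ : G → ℂ) + ε₃))) * (Nat.card (Subgroup.centralizer ({J} : Set G)) : ℚ) ^ 3 / (Nat.card (Subgroup.centralizer ((P : Subgroup G) : Set G)) : ℚ) ^ 2 := by
  classical
  have := hM.2.1
  letI := Fintype.ofFinite G
  have := Fintype.ofFinite (IrrCharacter G)
  obtain ⟨hK, hone⟩ := klein_of_no_complement g₀ hg₀ hG hnc P
  have hs := exists_kleinSums hM P hK hone hJ hJ2 hB hdist.1 hdist.2.1 hdist.2.2.1 hdist.2.2.2.1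
    hdist.2.2.2.2.1 hdist.2.2.2.2.2 hval.1 hval.2.1 hval.2.2
  have horder := hs.order
  rw [(charDegree_eq χ₁).1, (charDegree_eq χ₂).1, (charDegree_eq χ₃).1] at horder
  have horth : ((1 : ℤ) + ε₁ * Cfsg.charDegree (χ₁ : G → ℂ) + ε₂ * Cfsg.charDegree (χ₂ : G → ℂ) +
    ε₃ * Cfsg.charDegree (χ₃ : G → ℂ) : ℚ) = 0 := by exact_mod_cast hs.orth
  have ha : ∀ χ : Cfsg.IrrCharacter G, (Cfsg.charDegree (χ : G → ℂ) : ℚ) ≠ 0 := fun χ =>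
    Nat.cast_ne_zero.mpr (charDegree_eq χ).2
  have q : ∀ e : ℤ, e = 1 ∨ e = -1 → (e : ℚ) * e = 1 := by
    rintro e (rfl | rfl) <;> norm_num
  have q1 := q _ hε.1
  have q2 := q _ hε.2.1
  have q3 := q _ hε.2.2
  have ha1 := ha χ₁
  have ha2 := ha χ₂
  have ha3 := ha χ₃
  set a₁ : ℚ := (Cfsg.charDegree (χ₁ : G → ℂ) : ℚ) with e1
  set a₂ : ℚ := (Cfsg.charDegree (χ₂ : G → ℂ) : ℚ) with e2
  set a₃ : ℚ := (Cfsg.charDegree (χ₃ : G → ℂ) : ℚ) with e3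
  set p : ℚ := (Nat.card (Subgroup.centralizer ((P : Subgroup G) : Set G)) : ℚ) with ep
  set c : ℚ := (Nat.card (Subgroup.centralizer ({J} : Set G)) : ℚ) with ec
  set S : ℚ := 1 + ε₁ / a₁ + ε₂ / a₂ + ε₃ / a₃ with eS
  have hq : (Nat.card G : ℚ) * S * p ^ 2 = 8 * c ^ 3 := by
    have h : (((Nat.card G : ℚ) * S * p ^ 2 : ℚ) : ℂ) = ((8 * c ^ 3 : ℚ) : ℂ) := by
      rw [eS, e1, e2, e3, ep, ec]
      push_cast
      exact horder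
    exact_mod_cast h
  have hp0 : p ≠ 0 := Nat.cast_ne_zero.mpr Nat.card_pos.ne'
  have hc0 : c ≠ 0 := Nat.cast_ne_zero.mpr Nat.card_pos.ne'
  have hS0 : S ≠ 0 := fun e => hc0 (pow_eq_zero_iff (n := 3) (by norm_num) |>.mp (by
    rw [e] at hq; linarith))
  have hprod : (a₁ + ε₁) * (a₂ + ε₂) * (a₃ + ε₃) = a₁ * a₂ * a₃ * S := by
    rw [eS]
    field_simp
    linear_combination ((ε₁ : ℚ) * ε₂ * ε₃) * horth - (a₁ * ε₂ * ε₃) * q1 -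
      (a₂ * ε₁ * ε₃) * q2 - (a₃ * ε₁ * ε₂) * q3
  rw [hprod, div_mul_cancel_left₀ (mul_ne_zero (mul_ne_zero ha1 ha2) ha3)]
  field_simp
  linear_combination hq

end Cfsg.Agent.S4479
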