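import Cfsg.Statements.S4483
import Cfsg.Agent.Lib.Block.RealBlocks
-- import your own Cfsg.Agent.* helpers here

set_option autoImplicit false
open Cfsg CfsgLib.Block

open Cfsg

namespace Cfsg.Agent.S4483

/-- Let G be a finite group of order 2^n·g₀ with g₀ odd, and M a maximal ideal of the algebraic integers containing 2. Every real-valued irreducible character of G of odd degree lies in the principal 2-block; consequently G has at most 2^(2n) real-valued irreducible characters of odd degree. -/
theorem result {G : Type*} [Group G] [Finite G] (M : Ideal Cfsg.AlgInt) (hM : Cfsg.IsPModular 2 M) : (∀ χ : Cfsg.IrrCharacter G, (∀ g : G, ((χ : G → ℂ) g).im = 0) → Odd (Cfsg.charDegree (χ : G → ℂ)) → χ ∈ Cfsg.principalBlock M G) ∧ Nat.card {χ : Cfsg.IrrCharacter G // (∀ g : G, ((χ : G → ℂ) g).im = 0) ∧ Odd (Cfsg.charDegree (χ : G → ℂ))} ≤ 2 ^ (2 * (Nat.card G).factorization 2) := by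
  classical
  have := hM.2.1
  letI := Fintype.ofFinite G
  have := Fintype.ofFinite (IrrCharacter G)
  have := Fintype.ofFinite (ConjClasses G)
  refine ⟨fun χ hr ho => mem_principalBlock_of_real_odd hM hr ho, ?_⟩
  set B := Cfsg.principalBlock M G with hBdef
  have h4 := four_mul_sum_sq_heights_le hM (isPBlock_principalBlock (M := M) (G := G))
  rw [← hBdef] at h4
  have h5 : (Finset.univ.filter (· ∈ B)).card ≤
      ∑ χ ∈ Finset.univ.filter (· ∈ B), 2 ^ (2 * blockHeight 2 B (χ : G → ℂ)) := by
    rw [Finset.card_eq_sum_ones]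
    exact Finset.sum_le_sum fun χ _ => Nat.one_le_two_pow
  have h6 : (2 ^ blockDefect 2 B) ^ 2 ≤ 2 ^ (2 * (Nat.card G).factorization 2) := by
    rw [← pow_mul, mul_comm]
    exact Nat.pow_le_pow_right (by norm_num) (Nat.mul_le_mul_left _ (Nat.sub_le _ _))
  refine le_trans ?_ (show (Finset.univ.filter (· ∈ B)).card ≤ 2 ^ (2 * (Nat.card G).factorization 2) by
    have := Nat.one_le_two_pow (n := 2 * (Nat.card G).factorization 2)
    omega)
  rw [Nat.card_eq_fintype_card, Fintype.card_subtype]
  refine Finset.card_le_card fun χ hχ => ?_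
  simp only [Finset.mem_filter, Finset.mem_univ, true_and] at hχ ⊢
  exact mem_principalBlock_of_real_odd hM hχ.1 hχ.2

end Cfsg.Agent.S4483
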