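import Cfsg.Statements.S4486
import Cfsg.Agent.Lib.Char.UniformSmallDegree
import Mathlib.GroupTheory.SchurZassenhaus
import Mathlib.GroupTheory.Transfer

set_option autoImplicit false
open Cfsg

namespace Cfsg.Agent.S4486

/-- Let G be a finite group and p a prime dividing its order such that every non-identity element of a Sylow p-subgroup P has the same centralizer as P; let p^n be the order of P. If G has a non-principal irreducible character χ of degree x with x² < p^n − 1, then either G has a proper normal subgroup containing P, or G has a normal subgroup of index p^n and x = 1. -/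
theorem result {G : Type*} [Group G] [Finite G] (p : ℕ) (hp : p.Prime) (hpG : p ∣ Nat.card G) (P : Sylow p G) (hstar : ∀ x ∈ (P : Subgroup G), x ≠ 1 → Subgroup.centralizer ({x} : Set G) = Subgroup.centralizer ((P : Subgroup G) : Set G)) (n : ℕ) (hn : Nat.card P = p ^ n) (χ : Cfsg.IrrCharacter G) (h1 : (χ : G → ℂ) ≠ fun _ => 1) (hdeg : Cfsg.charDegree (χ : G → ℂ) ^ 2 + 1 < p ^ n) : (∃ K : Subgroup G, K.Normal ∧ K ≠ ⊤ ∧ (P : Subgroup G) ≤ K) ∨ ((∃ N : Subgroup G, N.Normal ∧ N.index = p ^ n) ∧ Cfsg.charDegree (χ : G → ℂ) = 1) := by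
  classical
  have := Fact.mk hp
  have := Fintype.ofFinite G
  by_cases hK : ∃ K : Subgroup G, K.Normal ∧ K ≠ ⊤ ∧ (P : Subgroup G) ≤ K
  · exact Or.inl hK
  refine Or.inr ?_
  have hnc : Subgroup.normalClosure ((P : Subgroup G) : Set G) = ⊤ := by
    by_contra hne
    exact hK ⟨_, Subgroup.normalClosure_normal, hne, Subgroup.subset_normalClosure⟩
  set Q : Subgroup G := (P : Subgroup G) with hQ
  -- `P` is abelian
  have hnt : Nontrivial Q := by
    have h2 : 1 < Nat.card Q := by
      have hcard : Nat.card Q = p ^ n := hn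
      rw [hcard]; omega
    exact Finite.one_lt_card_iff_nontrivial.mp h2
  obtain ⟨z, hz1⟩ : ∃ z : Subgroup.center Q, z ≠ 1 := by have := IsPGroup.center_nontrivial P.2; exact exists_ne 1
  have hcomm : ∀ a ∈ Q, ∀ b ∈ Q, a * b = b * a := by
    intro a ha b hb
    have hzne : ((z : Q) : G) ≠ 1 := fun e => hz1 (Subtype.ext (Subtype.ext e))
    have ha' : a ∈ Subgroup.centralizer (Q : Set G) := by
      rw [← hstar _ (z : Q).2 hzne, Subgroup.mem_centralizer_singleton_iff]
      exact congrArg Subtype.val (Subgroup.mem_center_iff.mp z.2 ⟨a, ha⟩)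
    exact (Subgroup.mem_centralizer_iff.mp ha' b hb).symm
  set C := Subgroup.centralizer (Q : Set G) with hC
  have hQC : Q ≤ C := fun a ha => Subgroup.mem_centralizer_iff.mpr fun b hb => hcomm b hb a ha
  have hnorm : (Q.subgroupOf C).Normal := ⟨fun a ha c => by
    rw [Subgroup.mem_subgroupOf] at ha ⊢
    have hc := Subgroup.mem_centralizer_iff.mp c.2 _ ha
    show (c : G) * a * (c : G)⁻¹ ∈ Q
    rw [← hc, mul_inv_cancel_right]
    exact ha⟩
  have hcop : (Nat.card (Q.subgroupOf C)).Coprime (Q.subgroupOf C).index := by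
    rw [Nat.card_congr (Subgroup.subgroupOfEquivOfLe hQC).toEquiv]
    exact (P.card_coprime_index).coprime_dvd_right (Subgroup.relIndex_dvd_index_of_le hQC)
  obtain ⟨L, hL⟩ := Subgroup.exists_right_complement'_of_coprime hcop
  let V : Subgroup G := L.map C.subtype
  have hVC : V ≤ C := Subgroup.map_subtype_le L
  have huni : CfsgLib.Char.UniformCent.Uniform Q V :=
    { comm := hcomm
      cent := hstar
      vc := fun v hv u hu => Subgroup.mem_centralizer_iff.mp (hVC hv) u hu
      surj := fun c hc => by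
        obtain ⟨⟨⟨u, hu⟩, ⟨v, hv⟩⟩, e⟩ := hL.2 ⟨c, hc⟩
        exact ⟨u, hu, v, ⟨v, hv, rfl⟩, (congrArg Subtype.val e).symm⟩
      cop := by
        rw [show Nat.card V = Nat.card L from
          (Nat.card_congr (L.equivMapOfInjective C.subtype C.subtype_injective).toEquiv).symm,
          ← hL.symm.index_eq_card, ← Nat.card_congr (Subgroup.subgroupOfEquivOfLe hQC).toEquiv]
        exact hcop }
  have := Fintype.ofFinite Q
  have := Fintype.ofFinite V
  obtain ⟨x, hx⟩ := CfsgLib.Char.isCharacter_degree (CfsgLib.Char.isCharacter_irr χ)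
  have hxd : Cfsg.charDegree (χ : G → ℂ) = x := by simp [Cfsg.charDegree, hx]
  rw [hxd] at hdeg ⊢
  obtain ⟨hx1, hNC⟩ := CfsgLib.Char.UniformCent.degree_one_and_central huni hnc χ h1 hx (hn ▸ hdeg)
  exact ⟨⟨(MonoidHom.transferSylow P hNC).ker, inferInstance,
    (MonoidHom.ker_transferSylow_isComplement' P hNC).symm.index_eq_card.trans hn⟩, hx1⟩

end Cfsg.Agent.S4486
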