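import Cfsg.Statements.S4487
import Cfsg.Agent.Lib.Block.CentralQuot
import Cfsg.Agent.Lib.Block.NormalSupport
import Cfsg.Agent.Lib.Coprime.Core

/-!
# One block over a self-centralizing p-core
-/

set_option autoImplicit false
open Cfsg

namespace Cfsg.Agent.S4487

open CfsgLib CfsgLib.Block
open scoped ComplexConjugate

/-- Let G be a finite group and p a prime such that G has no non-trivial normal subgroup of order prime to p and C_G(O_p(G)) ≤ O_p(G). Then G has a single p-block: any two irreducible characters lie in the same block relative to every maximal ideal M of the algebraic integers containing p. -/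
theorem result {G : Type*} [Group G] [Finite G] (p : ℕ) [Fact p.Prime] (M : Ideal Cfsg.AlgInt) (hM : Cfsg.IsPModular p M) (hcore : Cfsg.pPrimeCore p G = ⊥) (hconstr : Subgroup.centralizer ((Cfsg.pCore p G) : Set G) ≤ Cfsg.pCore p G) (χ ψ : Cfsg.IrrCharacter G) : Cfsg.SameBlock M (χ : G → ℂ) (ψ : G → ℂ) := by
  classical
  have := hM.2.1
  let _ := Fintype.ofFinite G
  have : (Cfsg.pCore p G).Normal := Coprime.pCore_normal' p
  refine sameBlock_of_support hM fun g hg => ?_
  have hB := isPBlock_blockOf (M := M) χ
  have hreg := regular_of_coeffRes_ne_zero hM (IsBlockUnion.of_isPBlock hB) hg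
  have hP : IsPGroup p (Cfsg.pCore p G) := Coprime.pCore_isPGroup p
  have hgC : g ∈ Subgroup.centralizer (Cfsg.pCore p G : Set G) := by
    by_contra hn
    apply hg
    rw [coeffRes_eq_zero_iff hM (IsBlockUnion.of_isPBlock hB),
      blockCoeff_eq_zero_of_notMem_centralizer hM hP hB hn]
    exact ⟨0, 1, M.zero_mem, Ideal.IsPrime.one_notMem inferInstance, by simp⟩
  obtain ⟨j, hj⟩ := IsPGroup.iff_orderOf.mp hP ⟨g, hconstr hgC⟩
  rw [Subgroup.orderOf_mk] at hj
  obtain rfl : g = 1 := by
    rcases Nat.eq_zero_or_pos j with rfl | hpos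
    · exact orderOf_eq_one_iff.mp (by rw [hj, pow_zero])
    · exact absurd (hj ▸ dvd_pow_self p hpos.ne') hreg
  refine congrArg (res M) (Subtype.ext ?_)
  simp only [centralChar]
  field_simp [Char.irr_one_ne_zero χ, Char.irr_one_ne_zero ψ]

end Cfsg.Agent.S4487
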