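import Cfsg.Statements.S4488
import Cfsg.Agent.Lib.Char.Galois
import Cfsg.Agent.Lib.Char.Virtual
import Cfsg.Agent.Lib.Char.Orthogonality

set_option autoImplicit false
open Cfsg

namespace Cfsg.Agent.S4488

section
open CfsgLib.Char Subgroup
open scoped ComplexConjugate

universe u

variable {G : Type u} [Group G] [Finite G]

/-- A sum of roots of unity of `p`-power order that is an integer is congruent to its length. -/
private theorem congr_of_roots {ι : Type} [Fintype ι] (p : ℕ) [Fact p.Prime] (j : ℕ) (μ : ι → ℂ)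
    (hμ : ∀ i, μ i ^ p ^ j = 1) (z : ℤ) (hz : ∑ i, μ i = (z : ℂ)) :
    (p : ℤ) ∣ z - (Fintype.card ι : ℤ) := by
  have hp : p.Prime := Fact.out
  let O := integralClosure ℤ ℂ
  have hint : ∀ i, μ i ∈ O := fun i =>
    isIntegral_of_pow_eq_one (pow_pos hp.pos j).ne' (hμ i)
  let I : Ideal O := Ideal.span {(p : O)}
  have hI : I ≠ ⊤ := by
    rw [Ne, Ideal.span_singleton_eq_top, isUnit_iff_exists_inv]
    rintro ⟨⟨y, hy⟩, h⟩
    have h' : (p : ℂ) * y = 1 := by simpa using congrArg (Subtype.val) h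
    have hy' : y = algebraMap ℚ ℂ ((p : ℚ)⁻¹) := by
      rw [map_inv₀, map_natCast, eq_inv_of_mul_eq_one_right h']
    have hq : IsIntegral ℤ ((p : ℚ)⁻¹) :=
      (isIntegral_algebraMap_iff (algebraMap ℚ ℂ).injective).mp (hy' ▸ hy)
    obtain ⟨w, hw⟩ := IsIntegrallyClosed.isIntegral_iff.mp hq
    have h1 : ((p : ℤ) * w : ℤ) = 1 := by
      have : (p : ℚ) * (w : ℚ) = 1 := by
        rw [show (w : ℚ) = (p : ℚ)⁻¹ from hw, mul_inv_cancel₀ (Nat.cast_ne_zero.mpr hp.ne_zero)]
      exact_mod_cast this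
    have := Int.eq_one_of_mul_eq_one_right (Int.natCast_nonneg p) h1
    exact hp.ne_one (by exact_mod_cast this)
  have : Nontrivial (O ⧸ I) := Ideal.Quotient.nontrivial_iff.mpr hI
  have hp0 : ((p : ℕ) : O ⧸ I) = 0 := by
    rw [← map_natCast (Ideal.Quotient.mk I), Ideal.Quotient.eq_zero_iff_mem]
    exact Ideal.mem_span_singleton_self _
  have hchar : CharP (O ⧸ I) p := (CharP.charP_iff_prime_eq_zero hp).mpr hp0
  let f : ι → O ⧸ I := fun i => Ideal.Quotient.mk I ⟨μ i, hint i⟩
  have h1 : ∑ i, f i = (z : O ⧸ I) := by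
    rw [← map_intCast (Ideal.Quotient.mk I), ← map_sum]
    congr 1
    apply Subtype.ext
    push_cast
    exact hz
  have h2 : (z : O ⧸ I) ^ p ^ j = (Fintype.card ι : O ⧸ I) := by
    rw [← h1, sum_pow_char_pow p j]
    rw [Finset.sum_congr rfl (g := fun _ => (1 : O ⧸ I)) fun i _ => ?_]
    · simp
    · show Ideal.Quotient.mk I _ ^ p ^ j = 1
      rw [← map_pow, ← map_one (Ideal.Quotient.mk I)]
      congr 1
      exact Subtype.ext (by simpa using hμ i)
  have h3 : ((z ^ p ^ j - (Fintype.card ι : ℤ) : ℤ) : O ⧸ I) = 0 := by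
    push_cast; rw [h2, sub_self]
  rw [CharP.intCast_eq_zero_iff (O ⧸ I) p] at h3
  have h4 : ((z ^ p ^ j : ℤ) : ZMod p) = (z : ZMod p) := by
    push_cast; exact ZMod.pow_card_pow _
  have h5 : (p : ℤ) ∣ z ^ p ^ j - z := by
    rw [← ZMod.intCast_zmod_eq_zero_iff_dvd]
    rw [Int.cast_sub, h4, sub_self]
  have := h3.sub h5
  rwa [show z ^ p ^ j - (Fintype.card ι : ℤ) - (z ^ p ^ j - z) = z - (Fintype.card ι : ℤ) by ring]
    at this

/-- The values are invariant under prime-to-`p` powers of `p`-elements. -/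
private theorem pow_invariant (p : ℕ) [Fact p.Prime] {d : ℕ} (ρ : Representation ℂ G (Fin d → ℂ))
    (r : ℕ) (hr : 0 < r) (hpr : ¬ p ∣ r)
    (hrat : ∀ g : G, ρ.character g ∈
      IntermediateField.adjoin ℚ ({Complex.exp (2 * Real.pi * Complex.I / r)} : Set ℂ))
    (g : G) (j : ℕ) (hg : orderOf g = p ^ j) (k : ℕ) (hk : ¬ p ∣ k) :
    ρ.character (g ^ k) = ρ.character g := by
  have hp : p.Prime := Fact.out
  let σ : Representation ℂ (zpowers g) (Fin d → ℂ) := ρ.comp (zpowers g).subtype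
  have hcop : (p ^ j).Coprime r := Nat.Coprime.pow_left j ((hp.coprime_iff_not_dvd).mpr hpr)
  obtain ⟨K, hK1, hK2⟩ := Nat.chineseRemainder hcop k 1
  have hKr : K.Coprime r := by
    rw [Nat.coprime_iff_gcd_eq_one, Nat.ModEq.gcd_eq hK2]; simp
  have hKp : K.Coprime (p ^ j) := by
    rw [Nat.coprime_iff_gcd_eq_one, Nat.ModEq.gcd_eq hK1]
    exact Nat.Coprime.pow_right j ((hp.coprime_iff_not_dvd).mpr hk).symm
  obtain ⟨φ, hφ⟩ := exists_embedding_of_coprime (p ^ j * r) (Nat.mul_pos (pow_pos hp.pos j) hr).ne' K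
    (hKp.mul_right hKr)
  have hζ := Complex.isPrimitiveRoot_exp r hr.ne'
  have hfix : ∀ y ∈ IntermediateField.adjoin ℚ ({Complex.exp (2 * Real.pi * Complex.I / r)} : Set ℂ),
      ∃ h : y ∈ Alg, φ ⟨y, h⟩ = y := by
    intro y hy
    induction hy using IntermediateField.adjoin_induction with
    | mem x hx =>
      rw [Set.mem_singleton_iff] at hx
      subst hx
      refine ⟨mem_alg_of_isIntegral (hζ.isIntegral hr), ?_⟩
      rw [hφ _ (Subtype.ext (by simp [pow_mul', hζ.pow_eq_one]))]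
      show Complex.exp (2 * Real.pi * Complex.I / r) ^ K = _
      rw [← pow_one (Complex.exp (2 * Real.pi * Complex.I / r)), ← pow_mul, one_mul]
      exact pow_eq_pow_of_modEq hK2 hζ.pow_eq_one
    | algebraMap x => exact ⟨IntermediateField.algebraMap_mem _ x, φ.commutes x⟩
    | add x y _ _ hx hy =>
      exact ⟨add_mem hx.1 hy.1, (map_add φ ⟨x, hx.1⟩ ⟨y, hy.1⟩).trans (by rw [hx.2, hy.2])⟩
    | inv x _ hx => exact ⟨inv_mem hx.1, (map_inv₀ φ ⟨x, hx.1⟩).trans (by rw [hx.2])⟩
    | mul x y _ _ hx hy =>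
      exact ⟨mul_mem hx.1 hy.1, (map_mul φ ⟨x, hx.1⟩ ⟨y, hy.1⟩).trans (by rw [hx.2, hy.2])⟩
  obtain ⟨hmem, he⟩ := hfix _ (hrat g)
  have h1 := char_apply_embedding σ φ K (fun x hx => hφ x (by
    rw [pow_mul, ← hg, ← Nat.card_zpowers, hx, one_pow])) ⟨g, mem_zpowers g⟩ ⟨_, hmem⟩ rfl
  rw [he] at h1
  have h2 : σ.character ((⟨g, mem_zpowers g⟩ : zpowers g) ^ K) = ρ.character (g ^ K) := rfl
  rw [h2, pow_eq_pow_of_modEq hK1 (hg ▸ pow_orderOf_eq_one g)] at h1
  exact h1.symm

/-- The values at nontrivial `p`-elements of a faithful `p`-rational character. -/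
private theorem value_shape (p : ℕ) [Fact p.Prime] {d : ℕ} (ρ : Representation ℂ G (Fin d → ℂ))
    (hfaith : ∀ g : G, ρ.character g = ρ.character 1 → g = 1)
    (r : ℕ) (hr : 0 < r) (hpr : ¬ p ∣ r)
    (hrat : ∀ g : G, ρ.character g ∈
      IntermediateField.adjoin ℚ ({Complex.exp (2 * Real.pi * Complex.I / r)} : Set ℂ))
    (g : G) (hg1 : g ≠ 1) (hg : ∃ j : ℕ, orderOf g = p ^ j) :
    ∃ k : ℕ, 0 < k ∧ k ≤ d / (p - 1) ∧ ρ.character g = (d : ℂ) - (p : ℂ) * (k : ℂ) := by
  classical
  have hp : p.Prime := Fact.out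
  obtain ⟨j, hj⟩ := hg
  obtain ⟨i, rfl⟩ : ∃ i, j = i + 1 := Nat.exists_eq_succ_of_ne_zero fun h => hg1
    (orderOf_eq_one_iff.mp (by rw [hj, h, pow_zero]))
  obtain ⟨b, μ, h1, -, h3⟩ := exists_eigen_data ρ g
  rw [hj] at h1
  set q : ℕ := p ^ i with hq
  have hq0 : 0 < q := pow_pos hp.pos i
  have hroot : ∀ (N : ℕ), 0 < N → ∀ x : ℂ, x ^ N = 1 →
      ∑ l ∈ Finset.range N, x ^ l = if x = 1 then (N : ℂ) else 0 := by
    intro N hN x hx
    split_ifs with h
    · simp [h]
    · rw [geom_sum_eq h, hx, sub_self, zero_div]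
  set A := Finset.univ.filter (fun a => μ a = 1) with hA
  set B := Finset.univ.filter (fun a => μ a ^ p = 1) with hB
  have hsA : ∑ l ∈ Finset.range (p * q), ρ.character (g ^ l) = (p * q : ℕ) * (A.card : ℂ) := by
    simp only [h3]
    rw [Finset.sum_comm, Finset.sum_congr rfl fun a _ => hroot (p * q) (Nat.mul_pos hp.pos hq0) (μ a)
      (by rw [hq, ← pow_succ']; exact h1 a), ← Finset.sum_filter, Finset.sum_const, nsmul_eq_mul]
    ring
  have hsB : ∑ l ∈ Finset.range q, ρ.character (g ^ (p * l)) = (q : ℂ) * (B.card : ℂ) := by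
    simp only [h3]
    simp only [pow_mul]
    rw [Finset.sum_comm, Finset.sum_congr rfl fun a _ => hroot q hq0 (μ a ^ p)
      (by rw [hq, ← pow_mul, ← pow_succ']; exact h1 a), ← Finset.sum_filter, Finset.sum_const,
      nsmul_eq_mul]
    ring
  set S := (Finset.range (p * q)).filter (fun l => p ∣ l) with hS
  have hSim : S = (Finset.range q).image (fun l => p * l) := by
    ext l
    simp only [hS, Finset.mem_filter, Finset.mem_range, Finset.mem_image]
    constructor
    · rintro ⟨hl, c, rfl⟩; exact ⟨c, Nat.lt_of_mul_lt_mul_left hl, rfl⟩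
    · rintro ⟨c, hc, rfl⟩; exact ⟨Nat.mul_lt_mul_of_pos_left hc hp.pos, dvd_mul_right p c⟩
  have hScard : S.card = q := by
    rw [hSim, Finset.card_image_of_injective _ fun a b h => mul_left_cancel₀ hp.ne_zero h,
      Finset.card_range]
  have hkey : ((p : ℂ) - 1) * ρ.character g = (p : ℂ) * A.card - B.card := by
    have hsplit := Finset.sum_filter_add_sum_filter_not (Finset.range (p * q)) (fun l => p ∣ l)
      (fun l => ρ.character (g ^ l))
    rw [← hS, hSim, Finset.sum_image (fun a _ b _ h => mul_left_cancel₀ hp.ne_zero h), hsB, hsA,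
      Finset.sum_congr rfl (g := fun _ => ρ.character g) fun l hl =>
        pow_invariant p ρ r hr hpr hrat g (i + 1) hj l (Finset.mem_filter.mp hl).2,
      Finset.sum_const, nsmul_eq_mul] at hsplit
    have hc := Finset.card_filter_add_card_filter_not (s := Finset.range (p * q))
      (fun l => p ∣ l)
    rw [← hS, hScard, Finset.card_range] at hc
    have hc' : ((Finset.range (p * q)).filter (fun l => ¬ p ∣ l)).card = (p : ℂ) * q - q := by
      rw [eq_sub_iff_add_eq, add_comm]; exact_mod_cast hc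
    rw [hc'] at hsplit
    push_cast at hsplit
    exact mul_left_cancel₀ (Nat.cast_ne_zero.mpr hq0.ne' : (q : ℂ) ≠ 0) (by linear_combination hsplit)
  have hp1 : ((p : ℂ) - 1) ≠ 0 := by
    rw [sub_ne_zero]; exact_mod_cast hp.ne_one
  obtain ⟨z, hz⟩ : ∃ z : ℤ, ρ.character g = z := by
    have hqc : ρ.character g = algebraMap ℚ ℂ (((p : ℚ) * A.card - B.card) / ((p : ℚ) - 1)) := by
      rw [map_div₀, map_sub, map_sub, map_mul, map_natCast, map_natCast, map_natCast, map_one,
        eq_div_iff hp1, mul_comm, hkey]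
    have hint := char_pow_eq_sum_isIntegral ρ g
    rw [hqc] at hint
    obtain ⟨z, hz⟩ := IsIntegrallyClosed.isIntegral_iff.mp
      ((isIntegral_algebraMap_iff (algebraMap ℚ ℂ).injective).mp hint)
    exact ⟨z, by rw [hqc, ← hz]; simp⟩
  have hd : ρ.character 1 = (d : ℂ) := by simp [Representation.char_one]
  have hkey' : ((p : ℤ) - 1) * z = (p : ℤ) * A.card - B.card := by
    rw [hz] at hkey; exact_mod_cast hkey
  have hcard : Fintype.card (Fin (Module.finrank ℂ (Fin d → ℂ))) = d := by simp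
  have hcon : (p : ℤ) ∣ z - (d : ℤ) := by
    have := congr_of_roots p (i + 1) μ h1 z (by rw [← hz]; simpa using (h3 1).symm)
    rwa [hcard] at this
  have hAB : A.card ≤ B.card := Finset.card_le_card fun a ha => by
    simp only [hA, hB, Finset.mem_filter] at ha ⊢
    exact ⟨ha.1, by rw [ha.2, one_pow]⟩
  have hBd : B.card ≤ d := (Finset.card_le_univ B).trans hcard.le
  have hne : z ≠ (d : ℤ) := fun e => hg1 (hfaith g (by rw [hd, hz, e]; simp))
  have hp2 : (2 : ℤ) ≤ p := by exact_mod_cast hp.two_le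
  have hle : z ≤ (d : ℤ) := by
    have : ((p : ℤ) - 1) * z ≤ ((p : ℤ) - 1) * d := by rw [hkey']; nlinarith [hAB, hBd]
    exact le_of_mul_le_mul_left this (by omega)
  obtain ⟨k, hk⟩ := dvd_sub_comm.mp hcon
  have hk0 : 0 < k := by
    rcases lt_trichotomy k 0 with h | h | h
    · nlinarith
    · subst h; omega
    · exact h
  lift k to ℕ using hk0.le
  refine ⟨k, by exact_mod_cast hk0, ?_, ?_⟩
  · rw [Nat.le_div_iff_mul_le (by have := hp.two_le; omega)]
    have hb : ((k : ℤ) * ((p : ℤ) - 1)) * p ≤ (d : ℤ) * p := by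
      have : (p : ℤ) * k * ((p : ℤ) - 1) = ((p : ℤ) - 1) * d - ((p : ℤ) - 1) * z := by
        rw [← hk]; ring
      have hA0 : (0 : ℤ) ≤ p * (A.card : ℤ) := by positivity
      have hBd' : (B.card : ℤ) ≤ d := by exact_mod_cast hBd
      nlinarith
    have := le_of_mul_le_mul_right hb (by omega)
    have e : ((k * (p - 1) : ℕ) : ℤ) = (k : ℤ) * ((p : ℤ) - 1) := by
      push_cast [Nat.cast_sub hp.one_le]; ring
    exact_mod_cast e ▸ this
  · rw [hz]
    have : z = (d : ℤ) - (p : ℤ) * k := by linarith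
    rw [this]; push_cast; ring

/-- Schur: the order of a group with such values divides a product of differences. -/
private theorem sylow_bound (p : ℕ) [Fact p.Prime] (P : Sylow p G) {χ : G → ℂ}
    (hχ : IsCharacter G χ) (d : ℕ) (hd : χ 1 = d) (M : ℕ)
    (hval : ∀ g ∈ (P : Subgroup G), g ≠ 1 → ∃ k : ℕ, 0 < k ∧ k ≤ M ∧ χ g = (d : ℂ) - (p : ℂ) * k) :
    Nat.card (P : Subgroup G) ∣ p ^ M * M.factorial := by
  classical
  have := Fintype.ofFinite (P : Subgroup G)
  have hall : ∀ S : Finset ℕ, IsGeneralizedCharacter (P : Subgroup G)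
      (fun x : (P : Subgroup G) => ∏ k ∈ S, (χ (x : G) - ((d : ℂ) - (p : ℂ) * k))) := by
    intro S
    induction S using Finset.induction_on with
    | empty =>
      simp only [Finset.prod_empty]
      exact isGeneralizedCharacter_of_isCharacter (isCharacter_of_isIrr isIrrCharacter_one)
    | insert a s ha ih =>
      have hc : IsGeneralizedCharacter (P : Subgroup G)
          (fun x : (P : Subgroup G) => χ (x : G) - ((d : ℂ) - (p : ℂ) * a)) := by
        have h := isGeneralizedCharacter_sub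
          (isGeneralizedCharacter_of_isCharacter (isCharacter_comp hχ (P : Subgroup G).subtype))
          (isGeneralizedCharacter_zsmul
            (isGeneralizedCharacter_of_isCharacter
              (isCharacter_of_isIrr (isIrrCharacter_one (G := (P : Subgroup G))))) ((d : ℤ) - p * a))
        convert h using 1
        funext x
        simp
      convert isGeneralizedCharacter_mul hc ih using 1
      funext x
      simp [Finset.prod_insert ha]
  obtain ⟨m, hm⟩ := classInner_generalized_int (hall (Finset.Icc 1 M))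
    (isGeneralizedCharacter_of_isCharacter
      (isCharacter_of_isIrr (isIrrCharacter_one (G := (P : Subgroup G)))))
  rw [classInner, Finset.sum_eq_single (1 : (P : Subgroup G))] at hm
  · simp only [OneMemClass.coe_one, hd, map_one, mul_one, sub_sub_cancel] at hm
    rw [Finset.prod_mul_distrib, Finset.prod_const, Nat.card_Icc, Nat.add_sub_cancel,
      ← Nat.cast_prod,
      show ∏ k ∈ Finset.Icc 1 M, k = M.factorial from Finset.prod_Ico_id_eq_factorial M,
      inv_mul_eq_iff_eq_mul₀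
        (Nat.cast_ne_zero.mpr Nat.card_pos.ne')] at hm
    have : ((p ^ M * M.factorial : ℕ) : ℤ) = (Nat.card (P : Subgroup G) : ℤ) * m := by
      exact_mod_cast hm
    exact Int.natCast_dvd_natCast.mp ⟨m, this⟩
  · intro x _ hx
    obtain ⟨k, hk0, hkM, hk⟩ := hval x x.2 fun e => hx (Subtype.ext e)
    rw [Finset.prod_eq_zero (Finset.mem_Icc.mpr ⟨hk0, hkM⟩) (by rw [hk, sub_self]), zero_mul]
  · exact fun h => absurd (Finset.mem_univ _) h

end

open CfsgLib.Char

/-- Let the finite group G have a faithful p-rational character χ of degree n (all values of χ lie in the field generated over ℚ by a root of unity of order prime to p), and let p^a be the order of a Sylow p-subgroup of G. Then a ≤ Σ_{i ≥ 0} ⌊n / ((p − 1)·p^i)⌋ (a finite sum; the terms vanish once (p − 1)p^i > n). -/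
theorem result {G : Type*} [Group G] [Finite G] (p : ℕ) (hp : p.Prime) (χ : G → ℂ) (hχ : Cfsg.IsCharacter G χ) (hfaith : ∀ g : G, χ g = χ 1 → g = 1) (hrat : (∃ r : ℕ, 0 < r ∧ ¬ p ∣ r ∧ ∀ g : G, χ g ∈ IntermediateField.adjoin ℚ ({Complex.exp (2 * Real.pi * Complex.I / r)} : Set ℂ))) (n : ℕ) (hn : Cfsg.charDegree χ = n) : (Nat.card G).factorization p ≤ ∑ i ∈ Finset.range (n + 1), n / ((p - 1) * p ^ i) := by
  have := Fact.mk hp
  obtain ⟨r, hr, hpr, hrat⟩ := hrat
  obtain ⟨d, ρ, rfl⟩ := hχ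
  have hd : ρ.character 1 = (d : ℂ) := by simp [Representation.char_one]
  have hnd : n = d := by rw [← hn]; simp [Cfsg.charDegree, hd]
  subst hnd
  let P : Sylow p G := default
  have h := sylow_bound p P (isCharacter_character ρ) _ hd (_ / (p - 1)) fun g hg hg1 =>
    value_shape p ρ hfaith r hr hpr hrat g hg1 (by
      obtain ⟨k, hk⟩ := (IsPGroup.iff_orderOf (p := p)).1 P.isPGroup' ⟨g, hg⟩
      exact ⟨k, (Subgroup.orderOf_coe ⟨g, hg⟩).trans hk⟩)
  rw [P.card_eq_multiplicity, hp.pow_dvd_iff_le_factorization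
    (Nat.mul_pos (pow_pos hp.pos _) (Nat.factorial_pos _)).ne',
    Nat.factorization_mul (pow_ne_zero _ hp.ne_zero) (Nat.factorial_pos _).ne', Finsupp.add_apply,
    Nat.factorization_pow_self hp] at h
  refine h.trans (le_of_eq ?_)
  rw [Nat.factorization_def _ hp, padicValNat_factorial (b := n + 1)
    (lt_of_le_of_lt ((Nat.log_le_self _ _).trans (Nat.div_le_self _ _)) (Nat.lt_succ_self n)),
    Finset.range_eq_Ico, Finset.sum_eq_sum_Ico_succ_bot (Nat.succ_pos n)]
  simp [Nat.div_div_eq_div_mul]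

end Cfsg.Agent.S4488
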