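import Cfsg.Statements.S4489
import Cfsg.Agent.Lib.Char.NilMonomial
import Cfsg.Agent.Lib.Char.Galois
import Cfsg.Agent.Lib.Char.PowTwist
import Cfsg.Agent.Lib.Char.CoreInduced
import Cfsg.Agent.Lib.Coprime.PGroupFrattini

set_option autoImplicit false
open Cfsg

namespace Cfsg.Agent.S4489

section
open CfsgLib.Char

universe u

/-- The Galois orbit of a function, through power maps with exponents modulo `N`. -/
private def twist {Q : Type u} [Group Q] {N : ℕ} (f : Q → ℂ) (m : (ZMod N)ˣ) : Q → ℂ :=
  fun g => f (g ^ (m : ZMod N).val)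

private theorem twist_mul {Q : Type u} [Group Q] {N : ℕ} [NeZero N] (hN : Nat.card Q ∣ N) (f : Q → ℂ)
    (a b : (ZMod N)ˣ) : twist f (a * b) = twist (twist f a) b := by
  funext g
  simp only [twist, ← pow_mul, Units.val_mul]
  congr 1
  refine pow_eq_pow_of_modEq ?_ (orderOf_dvd_iff_pow_eq_one.mp ((orderOf_dvd_natCard g).trans hN))
  rw [ZMod.val_mul, mul_comm (b : ZMod N).val]
  exact Nat.mod_modEq _ _

private theorem twist_one {Q : Type u} [Group Q] {N : ℕ} [NeZero N] (hN : Nat.card Q ∣ N)
    (f : Q → ℂ) : twist f (1 : (ZMod N)ˣ) = f := by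
  funext g
  simp only [twist, Units.val_one]
  rcases Nat.eq_or_lt_of_le (NeZero.one_le (n := N)) with h | h
  · subst h
    have : g = 1 := orderOf_eq_one_iff.mp (Nat.dvd_one.mp ((orderOf_dvd_natCard g).trans hN))
    rw [this, one_pow]
  · have : Fact (1 < N) := ⟨h⟩
    rw [ZMod.val_one, pow_one]

private theorem coprime_val {Q : Type u} [Group Q] {N : ℕ} (hN : Nat.card Q ∣ N) (m : (ZMod N)ˣ) :
    Nat.Coprime (Nat.card Q) (m : ZMod N).val :=
  ((ZMod.val_coe_unit_coprime m).coprime_dvd_right hN).symm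

/-- The units fixing a function. -/
private def stab {Q : Type u} [Group Q] {N : ℕ} [NeZero N] (hN : Nat.card Q ∣ N) (f : Q → ℂ) :
    Subgroup (ZMod N)ˣ where
  carrier := {m | twist f m = f}
  one_mem' := twist_one hN f
  mul_mem' := fun {a b} (ha : twist f a = f) (hb : twist f b = f) => by
    show twist f (a * b) = f
    rw [twist_mul hN, ha, hb]
  inv_mem' := fun {a} (ha : twist f a = f) => by
    show twist f a⁻¹ = f
    conv_lhs => rw [← ha]
    rw [← twist_mul hN, mul_inv_cancel, twist_one hN]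

private theorem index_stab_eq_ncard {Q : Type u} [Group Q] [Finite Q] {N : ℕ} [NeZero N]
    (hN : Nat.card Q ∣ N) (f : Q → ℂ) :
    (stab hN f).index = (Set.range (twist (N := N) f)).ncard := by
  rw [Subgroup.index_eq_card, ← Nat.card_coe_set_eq]
  have hkey : ∀ a b : (ZMod N)ˣ, twist f a = twist f b ↔ a⁻¹ * b ∈ stab hN f := by
    intro a b
    constructor
    · intro h
      show twist f (a⁻¹ * b) = f
      rw [mul_comm, twist_mul hN, ← h, ← twist_mul hN, mul_inv_cancel, twist_one hN]
    · intro h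
      have h' : twist f (a⁻¹ * b) = f := h
      conv_lhs => rw [← h', ← twist_mul hN, mul_comm, mul_inv_cancel_left]
  refine Nat.card_congr (Equiv.ofBijective (fun x => Quotient.liftOn' x
    (fun m => (⟨twist f m, m, rfl⟩ : Set.range (twist (N := N) f)))
    (fun a b h => Subtype.ext ((hkey a b).mpr (QuotientGroup.leftRel_apply.mp h)))) ⟨?_, ?_⟩)
  · rintro ⟨a⟩ ⟨b⟩ h
    exact Quotient.sound' (QuotientGroup.leftRel_apply.mpr ((hkey a b).mp (congrArg Subtype.val h)))
  · rintro ⟨_, m, rfl⟩
    exact ⟨QuotientGroup.mk m, rfl⟩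

/-- The degree of the field of values is the length of the Galois orbit. -/
private theorem finrank_values {Q : Type u} [Group Q] [Finite Q] {N : ℕ} [NeZero N]
    (hN : Nat.card Q = N) (χ : IrrCharacter Q) :
    Module.finrank ℚ (IntermediateField.adjoin ℚ (Set.range (χ : Q → ℂ))) =
      (stab hN.dvd (χ : Q → ℂ)).index := by
  classical
  rw [index_stab_eq_ncard]
  have := isAlgebraic_alg
  let v : Q → Alg := fun g => ⟨(χ : Q → ℂ) g, mem_alg_of_isIntegral
    (isCharacter_isIntegral (isCharacter_irr χ) g)⟩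
  let K' : IntermediateField ℚ Alg := IntermediateField.adjoin ℚ (Set.range v)
  let ι : Alg →ₐ[ℚ] ℂ := (algebraMap Alg ℂ).toRatAlgHom
  have hmap : K'.map ι = IntermediateField.adjoin ℚ (Set.range (χ : Q → ℂ)) := by
    rw [IntermediateField.adjoin_map, ← Set.range_comp]
    rfl
  rw [← hmap, ← (IntermediateField.equivMap K' ι).toLinearEquiv.finrank_eq]
  have : Finite (Set.range v) := (Set.finite_range v).to_subtype
  have hfd : FiniteDimensional ℚ K' := IntermediateField.finiteDimensional_adjoin
    (fun x _ => Algebra.IsIntegral.isIntegral x)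
  rw [← AlgHom.card ℚ K' ℂ, ← Nat.card_eq_fintype_card, ← Nat.card_coe_set_eq]
  have hgen : ∀ g, v g ∈ K' := fun g => IntermediateField.subset_adjoin ℚ _ ⟨g, rfl⟩
  have hext : ∀ τ : K' →ₐ[ℚ] ℂ, ∃ φ : Alg →ₐ[ℚ] ℂ, φ.comp K'.val = τ := fun τ =>
    IntermediateField.exists_algHom_of_splits
      (fun x => ⟨Algebra.IsIntegral.isIntegral x, IsAlgClosed.splits _⟩) τ
  have hto : ∀ τ : K' →ₐ[ℚ] ℂ, (fun g => τ ⟨v g, hgen g⟩) ∈ Set.range (twist (N := N) (χ : Q → ℂ)) := by
    intro τ
    obtain ⟨φ, hφ⟩ := hext τ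
    obtain ⟨m, hm, hm'⟩ := exists_char_twist (G := Q) φ
    refine ⟨ZMod.unitOfCoprime m (hN ▸ hm), funext fun g => ?_⟩
    rw [← hφ]
    show _ = φ (v g)
    rw [hm' _ (isCharacter_irr χ) g (v g) rfl, twist, ZMod.coe_unitOfCoprime, ZMod.val_natCast]
    exact congrArg (χ : Q → ℂ) (pow_eq_pow_of_modEq (Nat.mod_modEq m N) (hN ▸ pow_card_eq_one'))
  refine Nat.card_congr (Equiv.ofBijective
    (fun τ => (⟨fun g => τ ⟨v g, hgen g⟩, hto τ⟩ : Set.range (twist (N := N) (χ : Q → ℂ)))) ⟨?_, ?_⟩)
  · intro τ τ' h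
    have h' := congrArg Subtype.val h
    refine IntermediateField.algHom_ext_of_eq_adjoin (s := Set.range v) ℚ (S := K') rfl ?_
    rintro _ ⟨g, rfl⟩
    exact congrFun h' g
  · rintro ⟨_, m, rfl⟩
    obtain ⟨φ, hφ⟩ := exists_embedding_of_coprime (Nat.card Q) Nat.card_pos.ne' (m : ZMod N).val
      (coprime_val hN.dvd m).symm
    refine ⟨φ.comp K'.val, Subtype.ext (funext fun g => ?_)⟩
    obtain ⟨n, ρ, hρ, hρ'⟩ := χ.2
    show φ (v g) = (χ : Q → ℂ) (g ^ (m : ZMod N).val)
    rw [← hρ']
    exact char_apply_embedding ρ φ _ hφ g (v g) (congrFun hρ' g).symm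

/-- A character induced to an irreducible one is irreducible. -/
private theorem isIrr_of_indFun {Q : Type u} [Group Q] [Fintype Q] (M : Subgroup Q) [Fintype M]
    {θ : M → ℂ} (hθ : IsCharacter M θ) (h : IsIrrCharacter Q (indFun M θ)) : IsIrrCharacter M θ := by
  classical
  have hne : θ ≠ 0 := fun e => irr_one_ne_zero ⟨_, h⟩ (by simp [e, indFun_zero])
  obtain ⟨ψ, hψ⟩ := exists_irr_inner_ne_zero hθ hne
  have hr := isCharacter_sub_constituent hθ ψ hψ
  have hiψ := isCharacter_indFun M (isCharacter_irr ψ)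
  have hne' : indFun M (ψ : M → ℂ) ≠ 0 := fun e => irr_one_ne_zero ψ (by
    have := congrFun e 1
    rw [indFun_one] at this
    exact (mul_eq_zero.mp this).resolve_left (Nat.cast_ne_zero.mpr Subgroup.index_ne_zero_of_finite))
  obtain ⟨φ, hφ⟩ := exists_irr_inner_ne_zero hiψ hne'
  obtain ⟨a, ha⟩ := classInner_char_irr_nat hiψ φ
  obtain ⟨b, hb⟩ := classInner_char_irr_nat (isCharacter_indFun M hr) φ
  have hsum : classInner (indFun M θ) (φ : Q → ℂ) = ((a + b : ℕ) : ℂ) := by
    rw [Nat.cast_add, ← ha, ← hb, ← classInner_add_left, ← indFun_add, add_sub_cancel]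
  have ha0 : a ≠ 0 := fun e => hφ (by rw [ha, e, Nat.cast_zero])
  have hφeq : (⟨_, h⟩ : IrrCharacter Q) = φ := irr_eq_of_inner_ne_zero
    (show classInner (indFun M θ) (φ : Q → ℂ) ≠ 0 by rw [hsum]; exact Nat.cast_ne_zero.mpr (by omega))
  obtain ⟨c, hc⟩ := isCharacter_degree hθ
  obtain ⟨d, hd⟩ := isCharacter_degree (isCharacter_irr ψ)
  have h1 := (degree_le_of_constituent hθ ψ hψ hc hd)
  have h2 := (degree_le_of_constituent hiψ φ hφ (a := M.index * d) (b := M.index * c)
    (by rw [indFun_one, hd]; push_cast; ring)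
    (by rw [← hφeq]; show indFun M θ 1 = _; rw [indFun_one, hc]; push_cast; ring)).1
  have hcd : c = d := le_antisymm (Nat.le_of_mul_le_mul_left h2
    (Nat.pos_of_ne_zero Subgroup.index_ne_zero_of_finite)) h1.1
  rw [h1.2 hcd]
  exact ψ.2

/-- Division by the kernel. -/
private theorem exists_quotient_char {Q : Type u} [Group Q] [Finite Q] (θ : IrrCharacter Q) :
    ∃ (K : Subgroup Q) (_ : K.Normal) (θ' : IrrCharacter (Q ⧸ K)),
      (∀ g : Q, g ∈ K ↔ (θ : Q → ℂ) g = (θ : Q → ℂ) 1) ∧
      (∀ g : Q, (θ' : Q ⧸ K → ℂ) (g : Q ⧸ K) = (θ : Q → ℂ) g) ∧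
      ∀ x : Q ⧸ K, (θ' : Q ⧸ K → ℂ) x = (θ' : Q ⧸ K → ℂ) 1 → x = 1 := by
  obtain ⟨n, ρ, hρ, hρ'⟩ := θ.2
  have hker : ∀ g : Q, (θ : Q → ℂ) g = (θ : Q → ℂ) 1 ↔ g ∈ ρ.ker := by
    intro g
    rw [← hρ', Representation.char_one, char_eq_degree_iff, MonoidHom.mem_ker]
    rfl
  let ρ' : Representation ℂ (Q ⧸ ρ.ker) (Fin n → ℂ) := QuotientGroup.lift ρ.ker ρ le_rfl
  have hcomp : (fun g : Q => ρ'.character (g : Q ⧸ ρ.ker)) = ρ.character := rfl
  have := Fintype.ofFinite Q
  have := Fintype.ofFinite (Q ⧸ ρ.ker)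
  have hirr : IsIrrCharacter (Q ⧸ ρ.ker) ρ'.character :=
    CfsgLib.Char.CoreInduced.isIrr_of_comp (QuotientGroup.mk' ρ.ker) (isCharacter_character ρ')
      (show IsIrrCharacter Q (fun g : Q => ρ'.character (g : Q ⧸ ρ.ker)) by
        rw [hcomp, hρ']; exact θ.2)
  refine ⟨ρ.ker, inferInstance, ⟨_, hirr⟩, fun g => (hker g).symm, fun g => by rw [← hρ']; rfl, ?_⟩
  intro x hx
  obtain ⟨g, rfl⟩ := QuotientGroup.mk_surjective x
  refine (QuotientGroup.eq_one_iff g).mpr ((hker g).mp ?_)
  rw [← hρ']
  exact hx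

private theorem stab_comp {Q R : Type u} [Group Q] [Group R] {N : ℕ} [NeZero N] (hQ : Nat.card Q ∣ N)
    (hR : Nat.card R ∣ N) (π : Q →* R) (hπ : Function.Surjective π) (θ : Q → ℂ) (θ' : R → ℂ)
    (h : ∀ g, θ' (π g) = θ g) : stab hR θ' = stab hQ θ := by
  ext m
  show twist θ' m = θ' ↔ twist θ m = θ
  constructor
  · intro e
    funext g
    have := congrFun e (π g)
    simp only [twist, ← map_pow, h] at this
    exact this
  · intro e
    funext x
    obtain ⟨g, rfl⟩ := hπ x
    simp only [twist, ← map_pow, h]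
    exact congrFun e g

/-- Schur's bound, by induction on the order. -/
private theorem bound (p : ℕ) [Fact p.Prime] (A : ℕ) [NeZero (p ^ A)] :
    ∀ (a : ℕ) (Q : Type u) [Group Q] [Finite Q] (hQ : Nat.card Q = p ^ a) (hN : Nat.card Q ∣ p ^ A)
      (χ : IrrCharacter Q), (∀ g : Q, (χ : Q → ℂ) g = (χ : Q → ℂ) 1 → g = 1) →
      ∀ (f t : ℕ), (χ : Q → ℂ) 1 = f → (stab hN (χ : Q → ℂ)).index ∣ (p - 1) * p ^ t →
      (p - 1) * a ≤ (f - 1) + (p - 1) * (t + 1) * f := by
  intro a
  induction a using Nat.strong_induction_on with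
  | _ a ih =>
    intro Q _ _ hQ hN χ hfaith f t hf hidx
    classical
    have hp : p.Prime := Fact.out
    have := Fintype.ofFinite Q
    have hf0 : f ≠ 0 := fun e => irr_one_ne_zero χ (by rw [hf, e, Nat.cast_zero])
    rcases Nat.eq_zero_or_pos a with rfl | ha
    · simp
    have haA : a ≤ A := (Nat.pow_dvd_pow_iff_le_right hp.one_lt).mp (hQ ▸ hN)
    have hA : 0 < A := ha.trans_le haA
    have hU : Nat.card (ZMod (p ^ A))ˣ = p ^ (A - 1) * (p - 1) := by
      rw [Nat.card_eq_fintype_card, ZMod.card_units_eq_totient, Nat.totient_prime_pow hp hA]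
    by_cases hlin : f = 1
    · subst hlin
      rw [Nat.cast_one] at hf
      -- a faithful linear character: cyclic, with the full field of roots of unity
      obtain ⟨lam, hlam⟩ := (linearCharEquiv (G := Q)).surjective ⟨χ, hf⟩
      have e : (χ : Q → ℂ) = fun g => (lam g : ℂ) :=
        (congrArg (fun z : {χ : IrrCharacter Q // (χ : Q → ℂ) 1 = 1} =>
          ((z.1 : IrrCharacter Q) : Q → ℂ)) hlam).symm
      have hinj : Function.Injective lam := (injective_iff_map_eq_one lam).mpr fun g hg =>
        hfaith g (by rw [e]; simp [hg])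
      have hcyc : IsCyclic Q := isCyclic_of_subgroup_isDomain ((Units.coeHom ℂ).comp lam)
        (Units.val_injective.comp hinj)
      obtain ⟨g, hg⟩ := hcyc.exists_ofOrder_eq_natCard
      -- the stabilizer fixes `g`
      have hsub : ∀ m ∈ stab hN (χ : Q → ℂ), ((m : ZMod (p ^ A)).val : ZMod (p ^ a)) = 1 := by
        intro m hm
        have h1 := congrFun (show twist (χ : Q → ℂ) m = (χ : Q → ℂ) from hm) g
        simp only [twist, e] at h1
        have h2 : g ^ (m : ZMod (p ^ A)).val = g ^ 1 := by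
          rw [pow_one]; exact hinj (Units.ext h1)
        rw [pow_eq_pow_iff_modEq, hg, hQ, ← ZMod.natCast_eq_natCast_iff] at h2
        simpa using h2
      let π : (ZMod (p ^ A))ˣ →* (ZMod (p ^ a))ˣ := ZMod.unitsMap (pow_dvd_pow p haA)
      have hle : stab hN (χ : Q → ℂ) ≤ π.ker := fun m hm => by
        rw [MonoidHom.mem_ker]
        refine Units.ext ?_
        rw [Units.val_one, ← hsub m hm, ZMod.natCast_val]
        rfl
      have h3 : π.ker.index ∣ (stab hN (χ : Q → ℂ)).index := Subgroup.index_dvd_of_le hle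
      rw [Subgroup.index_ker, MonoidHom.range_eq_top.mpr (ZMod.unitsMap_surjective _),
        Subgroup.card_top, Nat.card_eq_fintype_card, ZMod.card_units_eq_totient,
        Nat.totient_prime_pow hp ha] at h3
      have h4 := h3.trans hidx
      rw [mul_comm] at h4
      have h5 := Nat.dvd_of_mul_dvd_mul_left (by have := hp.two_le; omega) h4
      have h6 : a - 1 ≤ t := (Nat.pow_dvd_pow_iff_le_right hp.one_lt).mp h5
      simp only [Nat.sub_self, zero_add, mul_one]
      exact Nat.mul_le_mul_left _ (by omega)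
    -- a nonlinear character is induced from a subgroup of index `p`
    have hpG : IsPGroup p Q := IsPGroup.of_card hQ
    have := hpG.isNilpotent
    obtain ⟨U, lam, hUlam⟩ := CfsgLib.Char.nilpotent_monomial Q (χ : Q → ℂ) χ.2
    have hUtop : U ≠ ⊤ := fun h => hlin (by
      have h1 := congrFun hUlam 1
      have hUi : U.index = 1 := by rw [h]; exact Subgroup.index_top
      rw [hf, indFun_one, hUi] at h1
      simp at h1
      exact_mod_cast h1)
    obtain ⟨M, hM, hUM⟩ := (eq_top_or_exists_le_coatom U).resolve_left hUtop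
    obtain ⟨hMn, hMidx⟩ := CfsgLib.Coprime.coatom_data_of_pGroup hpG hM
    have := Fintype.ofFinite M
    let θ : M → ℂ := indFun (U.subgroupOf M)
      (fun x => (lam ⟨((x : M) : Q), Subgroup.mem_subgroupOf.mp x.2⟩ : ℂ))
    have hind : indFun M θ = (χ : Q → ℂ) := by
      have h0 := indFun_trans U M hUM (fun u : U => (lam u : ℂ))
      rw [hUlam, ← h0]
    have hθc : IsCharacter M θ := by
      have h1 := isIrrCharacter_lin (lam.comp (Subgroup.subgroupOfEquivOfLe hUM).toMonoidHom)
      have h2 : IsCharacter (U.subgroupOf M)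
          (fun x => (lam ⟨((x : M) : Q), Subgroup.mem_subgroupOf.mp x.2⟩ : ℂ)) := by
        convert isCharacter_of_isIrr h1 using 1
        funext x
        rfl
      exact isCharacter_indFun _ h2
    have hθ : IsIrrCharacter M θ := isIrr_of_indFun M hθc (hind.symm ▸ χ.2)
    obtain ⟨g, hg⟩ := isCharacter_degree hθc
    have hfg : f = p * g := by
      have h1 := congrFun hind 1
      rw [indFun_one, hMidx, hg, hf] at h1
      exact_mod_cast h1.symm
    have hg0 : g ≠ 0 := fun e => hf0 (by rw [hfg, e, mul_zero])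
    have hMcard : Nat.card M = p ^ (a - 1) := by
      have h1 := Subgroup.index_mul_card M
      rw [hMidx, hQ, show p ^ a = p * p ^ (a - 1) by rw [← pow_succ', Nat.sub_add_cancel ha]] at h1
      exact Nat.eq_of_mul_eq_mul_left hp.pos h1
    have hMN : Nat.card M ∣ p ^ A := (Subgroup.card_subgroup_dvd_card M).trans hN
    -- conjugates
    let conj : Q → (M → ℂ) := fun x => conjFun M θ x
    have hconj_coset : ∀ x y : Q, x * y⁻¹ ∈ M → conj x = conj y := by
      intro x y h
      show conjFun M θ x = conjFun M θ y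
      rw [show x = (x * y⁻¹) * y by group, conjFun_mul,
        show conjFun M θ (x * y⁻¹) = θ from
          (mem_inertia M θ _).mp (le_inertia M (isClassFunction_of_isCharacter hθc) h)]
    have hrange : (Set.range conj).ncard ≤ p := by
      rw [← hMidx, Subgroup.index_eq_card, ← Nat.card_coe_set_eq]
      refine Nat.card_le_card_of_surjective (fun c : Q ⧸ M => Quotient.liftOn' c
        (fun x => (⟨conj x⁻¹, x⁻¹, rfl⟩ : Set.range conj))
        (fun x y h => Subtype.ext (hconj_coset _ _ (by
          rw [inv_inv]; exact QuotientGroup.leftRel_apply.mp h)))) ?_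
      rintro ⟨_, x, rfl⟩
      exact ⟨QuotientGroup.mk x⁻¹, Subtype.ext (by show conj x⁻¹⁻¹ = conj x; rw [inv_inv])⟩
    -- a Galois conjugate inducing `χ` is a conjugate
    have hgal : ∀ m ∈ stab hN (χ : Q → ℂ), twist θ m ∈ Set.range conj := by
      intro m hm
      have hc := coprime_val hN m
      have hφirr : IsIrrCharacter M (twist θ m) := isIrrCharacter_powMap
        (coprime_val hMN m) ⟨θ, hθ⟩
      have hindφ : indFun M (twist θ m) = (χ : Q → ℂ) := by
        funext x
        show indFun M (fun h : M => θ (h ^ (m : ZMod (p ^ A)).val)) x = _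
        rw [← indFun_powMap hc M θ x, hind]
        exact congrFun (show twist (χ : Q → ℂ) m = (χ : Q → ℂ) from hm) x
      have h1 : classInner (fun h : M => indFun M θ h) (twist θ m) ≠ 0 := by
        rw [hind, ← classInner_indFun_right M (twist θ m) _ (isClassFunction_irr χ), hindφ,
          classInner_irr_self]
        exact one_ne_zero
      have h2 : (fun h : M => indFun M θ h)
          = (Nat.card M : ℂ)⁻¹ • ∑ x : Q, conj x := by
        funext h
        rw [indFun_normal_mem, Pi.smul_apply, Finset.sum_apply, smul_eq_mul]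
        rfl
      rw [h2, classInner_smul_left, classInner_sum_left] at h1
      obtain ⟨x, -, hx⟩ := Finset.exists_ne_zero_of_sum_ne_zero (right_ne_zero_of_mul h1)
      exact ⟨x, congrArg Subtype.val (irr_eq_of_inner_ne_zero
        (χ := ⟨conj x, isIrrCharacter_conjFun M hθ x⟩) (ψ := ⟨twist θ m, hφirr⟩) hx)⟩
    obtain ⟨K, hKn, θ', hK, hθ', hfaith'⟩ := exists_quotient_char (⟨θ, hθ⟩ : IrrCharacter M)
    have hKN : Nat.card (M ⧸ K) ∣ p ^ A := (Subgroup.card_quotient_dvd_card K).trans hMN
    have hstabK : stab hKN (θ' : M ⧸ K → ℂ) = stab hMN θ :=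
      stab_comp hMN hKN (QuotientGroup.mk' K) (QuotientGroup.mk'_surjective K) _ _ hθ'
    obtain ⟨b, hbA, hb⟩ := (Nat.dvd_prime_pow hp).mp
      ((Subgroup.card_quotient_dvd_card K).trans hMcard.dvd)
    have hba : b < a := by omega
    have hθ'1 : (θ' : M ⧸ K → ℂ) 1 = (g : ℂ) := by
      rw [← QuotientGroup.mk_one, hθ']; exact hg
    have hp2 := hp.two_le
    by_cases hsame : stab hN (χ : Q → ℂ) ≤ stab hMN θ
    · -- the conjugates of `θ` are rational over the field of `χ`
      have hidx' : (stab hKN (θ' : M ⧸ K → ℂ)).index ∣ (p - 1) * p ^ t := by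
        rw [hstabK]
        exact (Subgroup.index_dvd_of_le hsame).trans hidx
      have hrec := ih b hba (M ⧸ K) hb hKN θ' hfaith' g t hθ'1 hidx'
      -- faithfulness embeds `M` in the product of the quotients
      let T : Q ⧸ M → Q := fun c => c.out
      let F : M → (Q ⧸ M → M ⧸ K) := fun h c =>
        QuotientGroup.mk' K (normalConjHom M (T c)⁻¹ h)
      have hF : Function.Injective F := by
        intro h h' e
        have hmem : ∀ x : Q, normalConjHom M x (h⁻¹ * h') ∈ K := by
          intro x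
          have e1 := congrFun e (QuotientGroup.mk x⁻¹)
          have e2 : normalConjHom M (T (QuotientGroup.mk x⁻¹))⁻¹ (h⁻¹ * h') ∈ K := by
            rw [map_mul, map_inv]
            exact QuotientGroup.eq.mp e1
          have hc : conj x = conj (T (QuotientGroup.mk x⁻¹))⁻¹ := by
            refine hconj_coset _ _ ?_
            have hh : (QuotientGroup.mk (T (QuotientGroup.mk x⁻¹)) : Q ⧸ M) = QuotientGroup.mk x⁻¹ :=
              Quotient.out_eq' _
            rw [inv_inv]
            have := QuotientGroup.eq.mp hh.symm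
            rwa [inv_inv] at this
          refine (hK _).mpr ?_
          have e3 := (hK _).mp e2
          exact (congrFun hc (h⁻¹ * h')).trans e3
        have h1 : (χ : Q → ℂ) ((h⁻¹ * h' : M) : Q) = (χ : Q → ℂ) 1 := by
          rw [← congrFun hind, ← congrFun hind 1, indFun_normal_mem, indFun_one]
          have hs : ∀ x : Q, θ (normalConjHom M x (h⁻¹ * h')) = θ 1 := fun x => (hK _).mp (hmem x)
          change _ * (∑ x : Q, θ (normalConjHom M x (h⁻¹ * h'))) = _
          rw [Finset.sum_congr rfl fun x _ => hs x,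
            Finset.sum_const, Finset.card_univ, nsmul_eq_mul, ← mul_assoc, ← Nat.card_eq_fintype_card,
            ← Subgroup.index_mul_card M]
          have : (Nat.card M : ℂ) ≠ 0 := Nat.cast_ne_zero.mpr Nat.card_pos.ne'
          push_cast
          field_simp
        exact inv_mul_eq_one.mp (Subtype.ext (hfaith _ h1))
      have hcard := Nat.card_le_card_of_injective F hF
      rw [Nat.card_fun, hb, hMcard, show Nat.card (Q ⧸ M) = p from (Subgroup.index_eq_card M).symm.trans hMidx,
        ← pow_mul] at hcard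
      have hab : a - 1 ≤ b * p := (Nat.pow_le_pow_iff_right hp.one_lt).mp hcard
      have h1 : (p - 1) * a ≤ (p - 1) + p * ((p - 1) * b) :=
        calc (p - 1) * a ≤ (p - 1) * (1 + b * p) := Nat.mul_le_mul_left _ (by omega)
          _ = (p - 1) + p * ((p - 1) * b) := by ring
      have h2 := Nat.mul_le_mul_left p hrec
      rw [hfg]
      have h3 : p * (g - 1 + (p - 1) * (t + 1) * g) + (p - 1)
          = p * g - 1 + (p - 1) * (t + 1) * (p * g) := by
        have : p ≤ p * g := Nat.le_mul_of_pos_right p (Nat.pos_of_ne_zero hg0)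
        rw [Nat.mul_add, Nat.mul_sub, mul_one, show p * ((p - 1) * (t + 1) * g)
          = (p - 1) * (t + 1) * (p * g) by ring]
        omega
      omega
    · -- the conjugates are Galois conjugates, so `θ` is faithful
      obtain ⟨m, hm, hmθ⟩ := SetLike.not_le_iff_exists.mp hsame
      obtain ⟨x, hx⟩ := hgal m hm
      have hKbot : K = ⊥ := by
        have hxM : x ∉ M := fun h => hmθ (by
          show twist θ m = θ
          rw [← hx]
          exact (hconj_coset x 1 (by simpa using h)).trans (conjFun_one M θ))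
        have hKiff : ∀ y : M, normalConjHom M x y ∈ K ↔ y ∈ K := by
          intro y
          rw [hK, hK]
          show conj x y = θ 1 ↔ θ y = θ 1
          rw [hx]
          have key : ∀ (k : ℕ) (z : M), θ z = θ 1 → θ (z ^ k) = θ 1 := fun k z hz =>
            (hK _).mp (pow_mem ((hK z).mpr hz) k)
          constructor
          · intro h
            obtain ⟨z, hz⟩ : ∃ z : ℕ, (y ^ (m : ZMod (p ^ A)).val) ^ z = y := by
              refine ⟨((m⁻¹ : (ZMod (p ^ A))ˣ) : ZMod (p ^ A)).val, ?_⟩
              conv_rhs => rw [← pow_one y]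
              rw [← pow_mul]
              refine pow_eq_pow_of_modEq ?_
                (orderOf_dvd_iff_pow_eq_one.mp ((orderOf_dvd_natCard y).trans hMN))
              rw [← ZMod.natCast_eq_natCast_iff, Nat.cast_mul, ZMod.natCast_zmod_val,
                ZMod.natCast_zmod_val, Nat.cast_one, ← Units.val_mul, mul_inv_cancel, Units.val_one]
            rw [← hz]
            exact key z _ h
          · exact key _ y
        let L : Subgroup Q := K.map M.subtype
        have hML : M ≤ Subgroup.normalizer (L : Set Q) := fun h hh => by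
          refine Subgroup.mem_normalizer_iff.mpr fun y => ?_
          constructor
          · rintro ⟨k, hk, rfl⟩
            exact ⟨⟨h, hh⟩ * k * ⟨h, hh⟩⁻¹, hKn.conj_mem k hk _, by simp⟩
          · rintro ⟨k, hk, e⟩
            refine ⟨⟨h, hh⟩⁻¹ * k * ⟨h, hh⟩, by simpa using hKn.conj_mem' k hk ⟨h, hh⟩, ?_⟩
            simp only [Subgroup.coe_subtype] at e
            simp [e, mul_assoc]
        have hxL : x ∈ Subgroup.normalizer (L : Set Q) := by
          refine Subgroup.mem_normalizer_iff.mpr fun y => ?_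
          constructor
          · rintro ⟨k, hk, rfl⟩
            exact ⟨normalConjHom M x k, (hKiff k).mpr hk, rfl⟩
          · rintro ⟨k, hk, e⟩
            have hyM : y ∈ M := by
              have := hMn.conj_mem' (k : Q) k.2 x
              rw [show ((k : M) : Q) = x * y * x⁻¹ from e] at this
              simpa [mul_assoc] using this
            have hk' : normalConjHom M x ⟨y, hyM⟩ = k := Subtype.ext e.symm
            exact ⟨⟨y, hyM⟩, (hKiff _).mp (hk' ▸ hk), rfl⟩
        have htop : Subgroup.normalizer (L : Set Q) = ⊤ :=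
          hM.2 _ (lt_of_le_not_ge hML fun h => hxM (h hxL))
        have hLn : L.Normal := Subgroup.normalizer_eq_top_iff.mp htop
        refine (eq_bot_iff).mpr fun k hk => Subgroup.mem_bot.mpr (Subtype.ext (hfaith _ ?_))
        rw [← congrFun hind, ← congrFun hind 1, indFun_normal_mem, indFun_one]
        rw [Finset.sum_congr rfl (g := fun _ => θ 1) fun z _ => ?_, Finset.sum_const, Finset.card_univ,
          nsmul_eq_mul, ← mul_assoc, ← Nat.card_eq_fintype_card, ← Subgroup.index_mul_card M]
        · have : (Nat.card M : ℂ) ≠ 0 := Nat.cast_ne_zero.mpr Nat.card_pos.ne'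
          push_cast
          field_simp
        · obtain ⟨k', hk', e⟩ := hLn.conj_mem _ ⟨k, hk, rfl⟩ z
          rw [show (⟨z * (k : Q) * z⁻¹, hMn.conj_mem _ k.2 z⟩ : M) = k' from Subtype.ext e.symm]
          exact (hK _).mp hk'
      have hbeq : b = a - 1 := by
        have h1 : Nat.card (M ⧸ K) = Nat.card M := by
          rw [← Subgroup.index_eq_card, hKbot, Subgroup.index_bot]
        rw [hb, hMcard] at h1
        exact Nat.pow_right_injective hp.two_le h1
      have hrel : (stab hMN θ).index ≤ p * (stab hN (χ : Q → ℂ)).index := by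
        have hle : stab hMN θ ≤ stab hN (χ : Q → ℂ) := by
          intro n hn
          show twist (χ : Q → ℂ) n = (χ : Q → ℂ)
          funext y
          show (χ : Q → ℂ) (y ^ (n : ZMod (p ^ A)).val) = (χ : Q → ℂ) y
          rw [← hind, indFun_powMap (coprime_val hN n) M θ y]
          rw [show (fun h : M => θ (h ^ (n : ZMod (p ^ A)).val)) = θ from hn]
        rw [← Subgroup.relIndex_mul_index hle]
        refine Nat.mul_le_mul_right _ (le_trans ?_ hrange)
        show ((stab hMN θ).subgroupOf (stab hN (χ : Q → ℂ))).index ≤ _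
        rw [Subgroup.index_eq_card, ← Nat.card_coe_set_eq]
        have : Finite (Set.range conj) := (Set.finite_range conj).to_subtype
        refine Nat.card_le_card_of_injective (fun c => Quotient.liftOn' c
          (fun n => (⟨twist θ (n : (ZMod (p ^ A))ˣ), hgal _ n.2⟩ : Set.range conj))
          (fun n n' h => Subtype.ext ?_)) ?_
        · have h' : twist θ ((n⁻¹ * n' : stab hN (χ : Q → ℂ)) : (ZMod (p ^ A))ˣ) = θ :=
            QuotientGroup.leftRel_apply.mp h
          rw [Subgroup.coe_mul, Subgroup.coe_inv] at h'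
          show twist θ (n : (ZMod (p ^ A))ˣ) = twist θ (n' : (ZMod (p ^ A))ˣ)
          conv_lhs => rw [← h', ← twist_mul hMN, mul_comm, mul_inv_cancel_left]
        · rintro ⟨n⟩ ⟨n'⟩ h
          refine Quotient.sound' (QuotientGroup.leftRel_apply.mpr ?_)
          show twist θ ((n⁻¹ * n' : stab hN (χ : Q → ℂ)) : (ZMod (p ^ A))ˣ) = θ
          have h' : twist θ (n : (ZMod (p ^ A))ˣ) = twist θ (n' : (ZMod (p ^ A))ˣ) :=
            congrArg Subtype.val h
          rw [Subgroup.coe_mul, Subgroup.coe_inv, mul_comm, twist_mul hMN, ← h', ← twist_mul hMN,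
            mul_inv_cancel, twist_one hMN]
      have hdvd : (stab hMN θ).index ∣ (p - 1) * p ^ (t + 1) := by
        have h1 : (stab hMN θ).index ∣ (p - 1) * p ^ (A - 1) := by
          rw [mul_comm, ← hU]; exact Subgroup.index_dvd_card _
        obtain ⟨d, e, hd, he, hde⟩ := exists_dvd_and_dvd_of_dvd_mul h1
        obtain ⟨j, -, rfl⟩ := (Nat.dvd_prime_pow hp).mp he
        rw [hde]
        refine mul_dvd_mul hd (pow_dvd_pow p ?_)
        have h2 := hrel.trans (Nat.mul_le_mul_left p
          (Nat.le_of_dvd (Nat.mul_pos (by omega) (pow_pos hp.pos t)) hidx))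
        rw [hde] at h2
        have hd0 : 0 < d := Nat.pos_of_ne_zero fun h0 => by
          rw [h0, Nat.zero_dvd] at hd; omega
        have h3 : p ^ j < p ^ (t + 2) :=
          calc p ^ j ≤ d * p ^ j := Nat.le_mul_of_pos_left _ hd0
            _ ≤ p * ((p - 1) * p ^ t) := h2
            _ < p * (p * p ^ t) := Nat.mul_lt_mul_of_pos_left
                (Nat.mul_lt_mul_of_pos_right (by omega) (pow_pos hp.pos t)) hp.pos
            _ = p ^ (t + 2) := by ring
        have := (Nat.pow_lt_pow_iff_right hp.one_lt).mp h3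
        omega
      have hrec := ih b hba (M ⧸ K) hb hKN θ' hfaith' g (t + 1) hθ'1 (hstabK ▸ hdvd)
      rw [hbeq] at hrec
      rw [hfg]
      have h1 : (p - 1) * a = (p - 1) * (a - 1) + (p - 1) := by
        rw [← Nat.mul_succ, Nat.succ_eq_add_one, Nat.sub_add_cancel ha]
      have hkey : (p - 1) * (t + 1 + 1) * g + g + (p - 1)
          ≤ p * g + (p - 1) * (t + 1) * (p * g) := by
        obtain ⟨k, rfl⟩ : ∃ k, p = k + 2 := ⟨p - 2, by omega⟩
        obtain ⟨i, rfl⟩ : ∃ i, g = i + 1 := ⟨g - 1, by omega⟩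
        simp only [show k + 2 - 1 = k + 1 from rfl]
        nlinarith [Nat.zero_le (k * t * i), Nat.zero_le (k * i), Nat.zero_le (k * t), Nat.zero_le (t * i),
          Nat.zero_le (k * k * t * i), Nat.zero_le (k * k * i), Nat.zero_le (k * k * t)]
      have hpg : p ≤ p * g := Nat.le_mul_of_pos_right p (Nat.pos_of_ne_zero hg0)
      omega

end

open CfsgLib.Char

/-- Let P be a finite p-group of order p^a with a > 0, and χ a faithful irreducible character of P of degree f whose field of values ℚ(χ) has degree (p − 1)·p^t over ℚ. Then a ≤ (f − 1)/(p − 1) + (t + 1)·f; in integer form, (p − 1)·a ≤ (f − 1) + (p − 1)(t + 1)·f. -/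
theorem result {P : Type*} [Group P] [Finite P] (p a : ℕ) (hp : p.Prime) (ha : 0 < a) (hP : Nat.card P = p ^ a) (χ : Cfsg.IrrCharacter P) (hfaith : ∀ g : P, (χ : P → ℂ) g = (χ : P → ℂ) 1 → g = 1) (f t : ℕ) (hf : Cfsg.charDegree (χ : P → ℂ) = f) (hfield : Module.finrank ℚ (IntermediateField.adjoin ℚ (Set.range (χ : P → ℂ))) = (p - 1) * p ^ t) : (p - 1) * a ≤ (f - 1) + (p - 1) * (t + 1) * f := by
  have := Fact.mk hp
  have : NeZero (p ^ a) := ⟨pow_ne_zero a hp.ne_zero⟩
  obtain ⟨d, hd⟩ := isCharacter_degree (isCharacter_irr χ)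
  have hdf : d = f := by rw [← hf]; simp [Cfsg.charDegree, hd]
  subst hdf
  exact bound p a a P hP hP.dvd χ hfaith _ t hd ((finrank_values hP χ).symm.trans hfield).dvd

end Cfsg.Agent.S4489
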