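import Cfsg.Statements.S4491
import Cfsg.Agent.Lib.Block.BrauerFeit

set_option autoImplicit false
open Cfsg CfsgLib.Block

namespace Cfsg.Agent.S4491

/-- Let B be a p-block of defect d of the finite group G (relative to a maximal ideal M of the algebraic integers containing p), and let p^a be the p-part of the order of G. Then the exact power of p dividing the sum of the squares of the degrees of the irreducible characters in B is p^(2a − d). -/
theorem result {G : Type*} [Group G] [Finite G] (p : ℕ) [Fact p.Prime] (M : Ideal Cfsg.AlgInt) (hM : Cfsg.IsPModular p M) (B : Set (Cfsg.IrrCharacter G)) (hB : Cfsg.IsPBlock M B) : (∑ᶠ χ ∈ B, Cfsg.charDegree (χ : G → ℂ) ^ 2).factorization p = 2 * (Nat.card G).factorization p - Cfsg.blockDefect p B := by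
  classical
  have := hM.2.1
  letI := Fintype.ofFinite G
  have := Fintype.ofFinite (IrrCharacter G)
  have := Fintype.ofFinite (ConjClasses G)
  obtain ⟨t, ht, hsum⟩ := exists_sum_degree_sq hM hB
  rw [finsum_mem_eq_toFinset_sum,
    Finset.sum_congr (show B.toFinset = Finset.univ.filter (· ∈ B) by ext; simp) fun _ _ => rfl]
  set S := ∑ χ ∈ Finset.univ.filter (· ∈ B), charDegree (χ : G → ℂ) ^ 2 with hSdef
  obtain ⟨χ₀, hχ₀, he⟩ := exists_minDeg (p := p) (isPBlock_nonempty hB)
  set n := (Nat.card G).factorization p with hn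
  have ha0 : minDeg p B ≤ n := he ▸ degVal_le_card χ₀
  have hd : 2 * n - blockDefect p B = n + minDeg p B := by
    show 2 * n - (n - minDeg p B) = _
    omega
  rw [hd]
  have hS0 : S ≠ 0 := by
    rw [hSdef]
    refine (Finset.sum_pos (fun χ _ => pow_pos (Nat.pos_of_ne_zero (charDegree_eq χ).2) 2)
      ⟨χ₀, by simp [hχ₀]⟩).ne'
  have := charP_resField hM
  have hp0 : (p : ℂ) ≠ 0 := Nat.cast_ne_zero.mpr hM.1.ne_zero
  have eS : (S : ℂ) = (p : ℂ) ^ S.factorization p * (ordCompl[p] S : ℕ) := by
    exact_mod_cast (Nat.ordProj_mul_ordCompl_eq_self S p).symm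
  have eG : (Nat.card G : ℂ) = (p : ℂ) ^ n * (ordCompl[p] (Nat.card G) : ℕ) := by
    exact_mod_cast (Nat.ordProj_mul_ordCompl_eq_self (Nat.card G) p).symm
  have hS' := Nat.not_dvd_ordCompl hM.1 hS0
  have hG' := Nat.not_dvd_ordCompl hM.1 (Nat.card_pos (α := G)).ne'
  generalize ordCompl[p] S = S' at eS hS'
  generalize ordCompl[p] (Nat.card G) = G' at eG hG'
  rw [eS, eG] at hsum
  have hpL : res M (p : locRing M) = 0 := by rw [res_natCast]; exact CharP.cast_eq_zero _ p
  have hu : ∀ {a : ℕ}, ¬ p ∣ a → res M (a : locRing M) ≠ 0 := fun ha => by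
    rw [res_natCast]; exact fun h => ha ((CharP.cast_eq_zero_iff _ p _).mp h)
  rcases lt_trichotomy (S.factorization p) (n + minDeg p B) with hlt | heq | hgt
  · exfalso
    obtain ⟨e, he'⟩ := Nat.exists_eq_add_of_lt hlt
    have : (S' : locRing M) = (p : locRing M) * ((p : locRing M) ^ e * G' * t) := by
      apply Subtype.ext
      push_cast
      apply mul_left_cancel₀ (pow_ne_zero (S.factorization p) hp0)
      rw [hsum, mul_right_comm ((p : ℂ) ^ n) _ ((p : ℂ) ^ minDeg p B), ← pow_add, he', pow_succ, pow_add]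
      ring
    exact hu hS' (by rw [this, map_mul, hpL, zero_mul])
  · exact heq
  · exfalso
    obtain ⟨e, he'⟩ := Nat.exists_eq_add_of_lt hgt
    have : (G' : locRing M) * t = (p : locRing M) * ((p : locRing M) ^ e * S') := by
      apply Subtype.ext
      push_cast
      apply mul_left_cancel₀ (pow_ne_zero (n + minDeg p B) hp0)
      rw [he', pow_succ, pow_add] at hsum
      linear_combination -hsum
    have h2 := congrArg (res M) this
    rw [map_mul, map_mul, hpL, zero_mul] at h2
    exact mul_ne_zero (hu hG') ht h2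

end Cfsg.Agent.S4491
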