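import Cfsg.Statements.S4492
import Cfsg.Agent.Lib.Block.CoprimeCover
import Cfsg.Agent.Lib.Block.PSolvableOne
import Cfsg.Agent.Lib.PGroup.PSolvable

set_option autoImplicit false
open Cfsg CfsgLib.Block

namespace Cfsg.Agent.S4492

/-- Let G be a finite p-solvable group, N = O_{p'}(G) its largest normal subgroup of order prime to p, and θ an irreducible character of N invariant under conjugation by G; fix a maximal ideal M of the algebraic integers containing p. Then the irreducible characters of G lying over θ (those whose restriction to N contains θ) form a single p-block of G, and the defect groups of that block are exactly the Sylow p-subgroups of G. -/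
theorem result {G : Type*} [Group G] [Fintype G] (p : ℕ) [Fact p.Prime] (M : Ideal Cfsg.AlgInt) (hM : Cfsg.IsPModular p M) (hsolv : Cfsg.IsPSolvable p G) (N : Subgroup G) [hN : N.Normal] [Fintype N] (hNdef : N = Cfsg.pPrimeCore p G) (θ : Cfsg.IrrCharacter N) (hinv : ∀ (g : G) (n : N), (θ : N → ℂ) ⟨g * n * g⁻¹, hN.conj_mem n n.2 g⟩ = (θ : N → ℂ) n) : ∃ B : Set (Cfsg.IrrCharacter G), Cfsg.IsPBlock M B ∧ (∀ χ : Cfsg.IrrCharacter G, χ ∈ B ↔ Cfsg.classInner (fun n : N => (χ : G → ℂ) n) (θ : N → ℂ) ≠ 0) ∧ (∀ P : Sylow p G, Cfsg.IsDefectGroup p M B (P : Subgroup G)) ∧ ∀ D : Subgroup G, Cfsg.IsDefectGroup p M B D → ∃ P : Sylow p G, D = (P : Subgroup G) := by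
  classical
  have := hM.2.1
  subst hNdef
  have hpK : ¬ p ∣ Nat.card (Cfsg.pPrimeCore p G) := CfsgLib.Coprime.pPrimeCore_not_dvd Fact.out
  set π := QuotientGroup.mk' (Cfsg.pPrimeCore p G) with hπ
  obtain ⟨P⟩ : Nonempty (Sylow p (Cfsg.pPrimePCore p G)) := inferInstance
  set Q := (P : Subgroup (Cfsg.pPrimePCore p G)).map (Subgroup.subtype _) with hQ
  have hQS : ¬ p ∣ Q.relIndex (Cfsg.pPrimePCore p G) := by
    rw [hQ, Subgroup.relIndex, Subgroup.subgroupOf,
      Subgroup.comap_map_eq_self_of_injective Subtype.val_injective]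
    exact P.not_dvd_index
  have hsup := CoprimeCover.sup_eq_pPrimePCore (Subgroup.map_subtype_le _) hQS
  have hcore := CfsgLib.Block.centralizer_pCore_le_of_isPSolvable
    (CfsgLib.PGroup.isPSolvable_quotient Fact.out hsolv (Cfsg.pPrimeCore p G))
    (CfsgLib.Coprime.pPrimeCore_quotient_eq_bot Fact.out)
  have hQmap : Q.map π = Cfsg.pCore p (G ⧸ Cfsg.pPrimeCore p G) := by
    have h : (Cfsg.pPrimeCore p G ⊔ Q).map π = Q.map π := by
      rw [Subgroup.map_sup, hπ, QuotientGroup.map_mk'_self, bot_sup_eq]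
    rw [← h, hsup, Cfsg.pPrimePCore, hπ,
      Subgroup.map_comap_eq_self_of_surjective (QuotientGroup.mk'_surjective _)]
  have hCQ : Subgroup.centralizer (Q : Set G) ≤ Cfsg.pPrimeCore p G ⊔ Q := fun x hx => by
    rw [hsup]
    show π x ∈ Cfsg.pCore p (G ⧸ Cfsg.pPrimeCore p G)
    refine hcore (Subgroup.mem_centralizer_iff.mpr fun z hz => ?_)
    obtain ⟨q, hq, rfl⟩ := hQmap ▸ hz
    rw [← map_mul, ← map_mul, Subgroup.mem_centralizer_iff.mp hx q hq]
  have hLn : (Cfsg.pPrimeCore p G ⊔ Q).Normal := by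
    rw [hsup]
    exact ((CfsgLib.Coprime.pCore_normal' p).comap _)
  have hst : ∀ g : G, cjN g θ = θ := fun g => Subtype.ext (funext fun k => by
    rw [cjN_apply, ← hinv g⁻¹ k]
    exact congrArg _ (Subtype.ext (by simp)))
  obtain ⟨hB, -⟩ :=
    CoprimeCover.isPBlock_and_principalType hM hpK hst (P.isPGroup'.map _) hCQ
  have hdef : ∀ S : Sylow p G, IsDefectGroup p M (CoprimeCover.overSet θ) (S : Subgroup G) :=
    fun S => CoprimeCover.isDefectGroup_of_not_dvd_index hM hpK hst hB S.isPGroup' S.not_dvd_index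
  refine ⟨CoprimeCover.overSet θ, hB, fun χ => Iff.rfl, hdef, fun D hD => ?_⟩
  obtain ⟨T, hT⟩ := (isPGroup_defectGroup hM hB hD).exists_le_sylow
  obtain ⟨x, hx⟩ := defectGroup_conj hM hB (hdef T) hD
  refine ⟨T, Subgroup.eq_of_le_of_card_ge hT ?_⟩
  rw [← hx, Subgroup.card_map_of_injective (MulAut.conj x).injective]

end Cfsg.Agent.S4492
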