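import Cfsg.Statements.S4493
import Cfsg.Agent.Lib.Block.ItoMichler
import Cfsg.Agent.Lib.PGroup.MaxPNilpotent

set_option autoImplicit false
open Cfsg

namespace Cfsg.Agent.S4493

/-- Let G be a finite solvable group and p a prime. Then G has a normal abelian Sylow p-subgroup if and only if no irreducible character degree of G is divisible by p. -/
theorem result {G : Type*} [Group G] [Finite G] (hsolv : Group.IsSolvable G) (p : ℕ) (hp : p.Prime) : (∃ P : Subgroup G, P.Normal ∧ (∀ x ∈ P, ∀ y ∈ P, x * y = y * x) ∧ IsPGroup p P ∧ ¬ p ∣ P.index) ↔ ∀ χ : Cfsg.IrrCharacter G, ¬ p ∣ Cfsg.charDegree (χ : G → ℂ) := by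
  haveI : Fact p.Prime := ⟨hp⟩
  constructor
  · rintro ⟨P, hn, hc, -, hidx⟩ χ
    exact CfsgLib.Block.ItoMichler.degrees_of_abelian P hc hidx χ
  · intro h
    obtain ⟨P⟩ : Nonempty (Sylow p G) := inferInstance
    haveI := hsolv
    have hs : Cfsg.IsPSolvable p G :=
      CfsgLib.PGroup.MaxPNilpotent.isPSolvable_of_solvable hp (Nat.card G) G rfl hsolv
    have hn := CfsgLib.Block.ItoMichler.normal_sylow G hs h P
    have hab := CfsgLib.Block.ItoMichler.comm_of_degrees h (P : Subgroup G) P.2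
    exact ⟨P, hn, fun x hx y hy => congrArg Subtype.val (hab.is_comm.comm ⟨x, hx⟩ ⟨y, hy⟩), P.2,
      P.not_dvd_index⟩

end Cfsg.Agent.S4493
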