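import Cfsg.Statements.S4495
import Cfsg.Agent.Lib.Char.SelfCentPrime

set_option autoImplicit false
open Cfsg

namespace Cfsg.Agent.S4495

/-- Let the finite group G contain an element x of prime order p with C_G(x) = ⟨x⟩, and let t be the number of conjugacy classes of elements of order p. If t ≠ p − 1 then the commutator subgroup has index at most (p − 1)/t; if t = p − 1 it has index exactly p. -/
theorem result {G : Type*} [Group G] [Finite G] (p : ℕ) (hp : p.Prime) (x : G) (hx : orderOf x = p) (hC : Subgroup.centralizer ({x} : Set G) = Subgroup.zpowers x) (t : ℕ) (ht : Nat.card {C : ConjClasses G // ∃ g ∈ C.carrier, orderOf g = p} = t) : (t ≠ p - 1 → (commutator G).index * t ≤ p - 1) ∧ (t = p - 1 → (commutator G).index = p) := by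
  classical
  have h : CfsgLib.Char.SelfCentPrime.Hyp p x := ⟨hp, hx, hC⟩
  refine ⟨fun hne => ?_, fun he => (h.case_trivial ((h.normalizer_eq_iff ht).mpr he)).2.1⟩
  have hN : Subgroup.normalizer (Subgroup.zpowers x : Set G) ≠ Subgroup.zpowers x :=
    fun e => hne ((h.normalizer_eq_iff ht).mp e)
  have hx' := h.x_mem_commutator hN
  have hf := h.frattini (commutator G) hx'
  rw [← Subgroup.relIndex_top_right, ← hf, Subgroup.relIndex_sup_right]
  have hd := Subgroup.relIndex_dvd_of_le_left (L := Subgroup.normalizer (Subgroup.zpowers x : Set G))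
    (Subgroup.zpowers_le.mpr hx')
  rw [← h.class_count_relIndex ht, mul_comm t]
  refine Nat.mul_le_mul_right t (Nat.le_of_dvd ?_ hd)
  exact Nat.pos_of_ne_zero Subgroup.index_ne_zero_of_finite

end Cfsg.Agent.S4495
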