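import Cfsg.Statements.S4496
import Mathlib
-- import your own Cfsg.Agent.* helpers here

set_option autoImplicit false
open Cfsg
open scoped commutatorElement

open Cfsg

namespace Cfsg.Agent.S4496

/-- Let the finite group G contain an element x of prime order p with C_G(x) = ⟨x⟩. Then: (a) every normal subgroup of order divisible by p contains the commutator subgroup; (b) every normal subgroup S of order prime to p has order dividing the number of subgroups of order p of G and congruent to 1 modulo p, and in G/S the image of x again has prime order p and commutes only with its own powers. -/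
theorem result {G : Type*} [Group G] [Finite G] (p : ℕ) (hp : p.Prime) (x : G) (hx : orderOf x = p) (hC : Subgroup.centralizer ({x} : Set G) = Subgroup.zpowers x) (S : Subgroup G) [S.Normal] : (p ∣ Nat.card S → commutator G ≤ S) ∧ (¬ p ∣ Nat.card S → Nat.card S ∣ Nat.card {H : Subgroup G // Nat.card H = p} ∧ Nat.card S % p = 1 ∧ orderOf (QuotientGroup.mk x : G ⧸ S) = p ∧ Subgroup.centralizer ({(QuotientGroup.mk x : G ⧸ S)} : Set (G ⧸ S)) = Subgroup.zpowers (QuotientGroup.mk x : G ⧸ S)) := by
  classical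
  have := Fact.mk hp
  set X := Subgroup.zpowers x with hX
  have hXc : Nat.card X = p := by rw [hX, Nat.card_zpowers, hx]
  have hXp : IsPGroup p X := IsPGroup.of_card (n := 1) (by rw [hXc, pow_one])
  obtain ⟨P, hPX⟩ := hXp.exists_le_sylow
  have hPeq : (P : Subgroup G) = X := by
    have hx1 : x ≠ 1 := fun h => hp.ne_one (by rw [← hx, h, orderOf_one])
    have : Nontrivial (P : Subgroup G) := ⟨⟨x, hPX (Subgroup.mem_zpowers x)⟩, 1, fun h => hx1 (congrArg Subtype.val h)⟩
    have := P.isPGroup'.center_nontrivial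
    obtain ⟨z, hz1⟩ := exists_ne (1 : Subgroup.center (P : Subgroup G))
    have hzX : ((z : (P : Subgroup G)) : G) ∈ X := by
      show _ ∈ X
      rw [← hC, Subgroup.mem_centralizer_singleton_iff]
      exact (congrArg Subtype.val (Subgroup.mem_center_iff.mp z.2 ⟨x, hPX (Subgroup.mem_zpowers x)⟩)).symm
    have hgen : Subgroup.zpowers ((z : (P : Subgroup G)) : G) = X := by
      refine Subgroup.eq_of_le_of_card_ge (Subgroup.zpowers_le.mpr hzX) ?_
      have h1 := Subgroup.card_dvd_of_le (Subgroup.zpowers_le.mpr hzX)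
      rw [hXc] at h1
      rcases (Nat.dvd_prime hp).mp h1 with h2 | h2
      · rw [Nat.card_zpowers, orderOf_eq_one_iff] at h2
        exact absurd (Subtype.ext (Subtype.ext h2)) hz1
      · rw [h2, hXc]
    refine le_antisymm (fun y hy => ?_) hPX
    show _ ∈ X
    rw [← hC, Subgroup.mem_centralizer_singleton_iff]
    obtain ⟨i, hi⟩ := Subgroup.mem_zpowers_iff.mp (hgen.symm ▸ Subgroup.mem_zpowers x : x ∈ Subgroup.zpowers ((z : (P : Subgroup G)) : G))
    rw [← hi]
    have hcom : Commute y ((z : (P : Subgroup G)) : G) :=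
      congrArg Subtype.val (Subgroup.mem_center_iff.mp z.2 ⟨y, hy⟩)
    exact (hcom.zpow_right i).eq
  set N := Subgroup.normalizer (X : Set G) with hN
  constructor
  · intro hpS
    have := Fintype.ofFinite S
    obtain ⟨y, hy⟩ := exists_prime_orderOf_dvd_card' (G := S) p hpS
    obtain ⟨Q, hQ⟩ := (IsPGroup.of_card (n := 1) (G := Subgroup.zpowers (y : G))
      (by rw [Nat.card_zpowers, Subgroup.orderOf_coe, hy, pow_one])).exists_le_sylow
    have hQeq : (Q : Subgroup G) = Subgroup.zpowers (y : G) := by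
      refine (Subgroup.eq_of_le_of_card_ge hQ (le_of_eq ?_)).symm
      rw [Nat.card_congr (Sylow.equiv Q P).toEquiv, hPeq, hXc, Nat.card_zpowers, Subgroup.orderOf_coe, hy]
    obtain ⟨g, hg⟩ := MulAction.exists_smul_eq G Q P
    have hXS : (P : Subgroup G) ≤ S := by
      intro z hz
      rw [← hg] at hz
      obtain ⟨w, hw, rfl⟩ := hz
      refine Subgroup.Normal.conj_mem inferInstance w ?_ g
      exact (Subgroup.zpowers_le.mpr y.2) (hQeq ▸ hw)
    have htop : Subgroup.normalizer (X : Set G) ⊔ S = ⊤ := by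
      rw [← hPeq]; exact Sylow.normalizer_sup_eq_top' P hXS
    rw [commutator_def, Subgroup.commutator_le]
    intro a _ b _
    obtain ⟨a', ha', s, hs, rfl⟩ := Subgroup.mem_sup_of_normal_right.mp (htop.symm ▸ Subgroup.mem_top a : a ∈ Subgroup.normalizer (X : Set G) ⊔ S)
    obtain ⟨b', hb', t, ht, rfl⟩ := Subgroup.mem_sup_of_normal_right.mp (htop.symm ▸ Subgroup.mem_top b : b ∈ Subgroup.normalizer (X : Set G) ⊔ S)
    rw [← QuotientGroup.eq_one_iff, ← QuotientGroup.mk'_apply, map_commutatorElement, map_mul, map_mul,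
      show QuotientGroup.mk' S s = 1 from (QuotientGroup.eq_one_iff s).mpr hs,
      show QuotientGroup.mk' S t = 1 from (QuotientGroup.eq_one_iff t).mpr ht, mul_one, mul_one,
      ← map_commutatorElement, QuotientGroup.mk'_apply, QuotientGroup.eq_one_iff]
    refine hXS (hPeq ▸ ?_)
    have key : ∀ u ∈ Subgroup.normalizer (X : Set G), ∀ v ∈ Subgroup.normalizer (X : Set G),
        u * v * x * (u * v)⁻¹ = v * u * x * (v * u)⁻¹ := by
      intro u hu v hv
      obtain ⟨i, hi⟩ := Subgroup.mem_zpowers_iff.mp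
        ((Subgroup.mem_normalizer_iff.mp hu x).mp (Subgroup.mem_zpowers x))
      obtain ⟨j, hj⟩ := Subgroup.mem_zpowers_iff.mp
        ((Subgroup.mem_normalizer_iff.mp hv x).mp (Subgroup.mem_zpowers x))
      calc u * v * x * (u * v)⁻¹ = u * (v * x * v⁻¹) * u⁻¹ := by group
        _ = (x ^ i) ^ j := by rw [← hj, ← conj_zpow, ← hi]
        _ = (x ^ j) ^ i := by rw [← zpow_mul, ← zpow_mul, mul_comm]
        _ = v * (u * x * u⁻¹) * v⁻¹ := by rw [hj, conj_zpow, hi]
        _ = v * u * x * (v * u)⁻¹ := by group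
    show ⁅a', b'⁆ ∈ X
    rw [← hC, Subgroup.mem_centralizer_singleton_iff]
    have e := key a'⁻¹ (inv_mem ha') b'⁻¹ (inv_mem hb')
    calc ⁅a', b'⁆ * x = a' * b' * (a'⁻¹ * b'⁻¹ * x * (a'⁻¹ * b'⁻¹)⁻¹) * (a'⁻¹ * b'⁻¹) := by
          rw [commutatorElement_def]; group
      _ = x * ⁅a', b'⁆ := by rw [e, commutatorElement_def]; group
  · intro hpS
    have hSX : ∀ y ∈ S, y ∈ X → y = 1 := by
      intro y hy hyX
      have h1 : orderOf y ∣ Nat.card S := Subgroup.orderOf_dvd_natCard S hy
      have h2 : orderOf y ∣ p := hXc ▸ Subgroup.orderOf_dvd_natCard X hyX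
      rcases (Nat.dvd_prime hp).mp h2 with h | h
      · exact orderOf_eq_one_iff.mp h
      · exact absurd (h ▸ h1) hpS
    have hxS : x ∉ S := fun h => hp.ne_one (by rw [← hx, hSX x h (Subgroup.mem_zpowers x), orderOf_one])
    have hSN : ∀ y ∈ S, y ∈ N → y = 1 := by
      intro y hy hyN
      refine hSX y hy ?_
      show _ ∈ X
      rw [← hC, Subgroup.mem_centralizer_singleton_iff]
      have h1 : y * x * y⁻¹ * x⁻¹ = 1 := by
        refine hSX _ ?_ (mul_mem ((Subgroup.mem_normalizer_iff.mp hyN x).mp (Subgroup.mem_zpowers x))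
          (inv_mem (Subgroup.mem_zpowers x)))
        rw [show y * x * y⁻¹ * x⁻¹ = y * (x * y⁻¹ * x⁻¹) by group]
        exact mul_mem hy (Subgroup.Normal.conj_mem inferInstance _ (inv_mem hy) x)
      rw [mul_inv_eq_one, mul_inv_eq_iff_eq_mul] at h1
      exact h1
    refine ⟨?_, ?_, ?_, ?_⟩
    · have hcount : Nat.card {H : Subgroup G // Nat.card H = p} = N.index := by
        rw [hN, ← hPeq]; refine Eq.trans ?_ (Sylow.card_eq_index_normalizer P)
        refine (Nat.card_congr (Equiv.ofBijective (fun Q : Sylow p G => (⟨(Q : Subgroup G), by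
          rw [Nat.card_congr (Sylow.equiv Q P).toEquiv, hPeq, hXc]⟩ : {H : Subgroup G // Nat.card H = p}))
          ⟨fun a b h => Sylow.ext (congrArg Subtype.val h), fun H => ?_⟩)).symm
        obtain ⟨Q, hQ⟩ := (IsPGroup.of_card (n := 1) (G := (H : Subgroup G)) (by rw [H.2, pow_one])).exists_le_sylow
        refine ⟨Q, Subtype.ext (Subgroup.eq_of_le_of_card_ge hQ (le_of_eq ?_)).symm⟩
        rw [Nat.card_congr (Sylow.equiv Q P).toEquiv, hPeq, hXc, H.2]
      rw [hcount]
      have hinj : Function.Injective ((QuotientGroup.mk' S).comp N.subtype) := by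
        rw [injective_iff_map_eq_one]
        intro a ha
        exact Subtype.ext (hSN _ ((QuotientGroup.eq_one_iff _).mp ha) a.2)
      have h1 : Nat.card N ∣ Nat.card (G ⧸ S) := Subgroup.card_dvd_of_injective _ hinj
      have h2 : Nat.card N * Nat.card S ∣ N.index * Nat.card N := by
        rw [N.index_mul_card, Subgroup.card_eq_card_quotient_mul_card_subgroup S]
        exact Nat.mul_dvd_mul_right h1 _
      rw [mul_comm N.index] at h2
      exact Nat.dvd_of_mul_dvd_mul_left Nat.card_pos h2
    · have := Fintype.ofFinite S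
      letI : MulAction X S := MulAction.compHom S
        ((MulAut.conjNormal : G →* MulAut S).comp X.subtype)
      have hfix : MulAction.fixedPoints X S = {1} := by
        ext s
        rw [MulAction.mem_fixedPoints, Set.mem_singleton_iff]
        constructor
        · intro h
          have h1 : x * (s : G) * x⁻¹ = s := congrArg Subtype.val (h ⟨x, Subgroup.mem_zpowers x⟩)
          refine Subtype.ext (hSX _ s.2 ?_)
          show _ ∈ X
          rw [← hC, Subgroup.mem_centralizer_singleton_iff]
          exact (mul_inv_eq_iff_eq_mul.mp h1).symm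
        · rintro rfl y
          exact map_one ((MulAut.conjNormal : G →* MulAut S) y)
      have h1 := hXp.card_modEq_card_fixedPoints S
      rw [hfix, Nat.card_coe_set_eq, Set.ncard_singleton] at h1
      rw [h1, Nat.one_mod_eq_one]
      exact hp.ne_one
    · have h2 := orderOf_map_dvd (QuotientGroup.mk' S) x
      rw [hx] at h2
      rcases (Nat.dvd_prime hp).mp h2 with h | h
      · exact absurd ((QuotientGroup.eq_one_iff x).mp (orderOf_eq_one_iff.mp h)) hxS
      · exact h
    · refine le_antisymm (fun q hq => ?_) (Subgroup.zpowers_le.mpr (Subgroup.mem_centralizer_singleton_iff.mpr rfl))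
      obtain ⟨g, rfl⟩ := QuotientGroup.mk_surjective q
      rw [Subgroup.mem_centralizer_singleton_iff] at hq
      have hgS : g * x * g⁻¹ * x⁻¹ ∈ S := by
        rw [← QuotientGroup.eq_one_iff, QuotientGroup.mk_mul, QuotientGroup.mk_mul, QuotientGroup.mk_mul,
          QuotientGroup.mk_inv, QuotientGroup.mk_inv, hq]
        simp [mul_assoc]
      have := Fintype.ofFinite S
      let ψ : S → S := fun s => ⟨(s : G) * x * (s : G)⁻¹ * x⁻¹, by
        rw [show (s : G) * x * (s : G)⁻¹ * x⁻¹ = s * (x * (s : G)⁻¹ * x⁻¹) by group]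
        exact mul_mem s.2 (Subgroup.Normal.conj_mem inferInstance _ (inv_mem s.2) x)⟩
      have hψ : Function.Injective ψ := by
        intro s t h
        have h1 : (s : G) * x * (s : G)⁻¹ = t * x * (t : G)⁻¹ := mul_right_cancel (congrArg Subtype.val h)
        refine Subtype.ext (inv_mul_eq_one.mp (hSX ((s : G)⁻¹ * t) (mul_mem (inv_mem s.2) t.2) ?_))
        show _ ∈ X
        rw [← hC, Subgroup.mem_centralizer_singleton_iff]
        calc (s : G)⁻¹ * t * x = (s : G)⁻¹ * (t * x * (t : G)⁻¹) * t := by group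
          _ = x * ((s : G)⁻¹ * t) := by rw [← h1]; group
      obtain ⟨s, hs⟩ := (Finite.injective_iff_surjective.mp hψ) ⟨_, hgS⟩
      have h1 : (s : G) * x * (s : G)⁻¹ = g * x * g⁻¹ := mul_right_cancel (congrArg Subtype.val hs)
      obtain ⟨i, hi⟩ := Subgroup.mem_zpowers_iff.mp (show (s : G)⁻¹ * g ∈ X by
        rw [← hC, Subgroup.mem_centralizer_singleton_iff]
        calc (s : G)⁻¹ * g * x = (s : G)⁻¹ * (g * x * g⁻¹) * g := by group
          _ = x * ((s : G)⁻¹ * g) := by rw [← h1]; group)
      refine Subgroup.mem_zpowers_iff.mpr ⟨i, ?_⟩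
      rw [← QuotientGroup.mk_zpow, hi, QuotientGroup.mk_mul, QuotientGroup.mk_inv,
        (QuotientGroup.eq_one_iff (s : G)).mpr s.2, inv_one, one_mul]

end Cfsg.Agent.S4496
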