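import Cfsg.Statements.S4497
import Cfsg.Agent.Lib.Char.SelfCentPrime

set_option autoImplicit false
open Cfsg

namespace Cfsg.Agent.S4497

/-- Let the finite group G contain an element x of prime order p with C_G(x) = ⟨x⟩, let t be the number of conjugacy classes of elements of order p, and let S* = O_{p′}(G) be the largest normal subgroup of order prime to p. Then S* ≤ G′; if t ≠ p − 1 the quotient G′/S* is simple (in particular non-trivial); if t = p − 1 then G′ = S*. -/
theorem result {G : Type*} [Group G] [Finite G] (p : ℕ) (hp : p.Prime) (x : G) (hx : orderOf x = p) (hC : Subgroup.centralizer ({x} : Set G) = Subgroup.zpowers x) (t : ℕ) (ht : Nat.card {C : ConjClasses G // ∃ g ∈ C.carrier, orderOf g = p} = t) : Cfsg.pPrimeCore p G ≤ commutator G ∧ (t ≠ p - 1 → ∀ h : ((Cfsg.pPrimeCore p G).subgroupOf (commutator G)).Normal, IsSimpleGroup (↥(commutator G) ⧸ (Cfsg.pPrimeCore p G).subgroupOf (commutator G))) ∧ (t = p - 1 → commutator G = Cfsg.pPrimeCore p G) := by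
  classical
  have h : CfsgLib.Char.SelfCentPrime.Hyp p x := ⟨hp, hx, hC⟩
  refine ⟨h.core_le_commutator, fun hne hK => ?_,
    fun he => (h.case_trivial ((h.normalizer_eq_iff ht).mpr he)).1⟩
  have hN : Subgroup.normalizer (Subgroup.zpowers x : Set G) ≠ Subgroup.zpowers x :=
    fun e => hne ((h.normalizer_eq_iff ht).mp e)
  have hx' := h.x_mem_commutator hN
  set D := commutator G with hD
  set K' := (Cfsg.pPrimeCore p G).subgroupOf D with hK'
  haveI : Nontrivial (↥D ⧸ K') := by
    refine ⟨⟨((⟨x, hx'⟩ : D) : ↥D ⧸ K'), 1, fun e => h.not_mem_core ?_⟩⟩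
    exact (QuotientGroup.eq_one_iff (⟨x, hx'⟩ : D)).mp e
  refine ⟨fun Lb hLb => ?_⟩
  set L : Subgroup D := Lb.comap (QuotientGroup.mk' K') with hL
  haveI : L.Normal := hLb.comap _
  have hKL : K' ≤ L := fun z hz => by
    show (QuotientGroup.mk' K') z ∈ Lb
    rw [QuotientGroup.mk'_apply, (QuotientGroup.eq_one_iff z).mpr hz]
    exact Lb.one_mem
  have hLb' : Lb = L.map (QuotientGroup.mk' K') :=
    (Subgroup.map_comap_eq_self_of_surjective (QuotientGroup.mk'_surjective K') Lb).symm
  by_cases hd : p ∣ Nat.card L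
  · right
    suffices hLtop : L = ⊤ by rw [hLb', hLtop, ← MonoidHom.range_eq_map, MonoidHom.range_eq_top]; exact QuotientGroup.mk'_surjective K'
    -- all elements of order `p` lie in `L`
    have hall : ∀ y : G, orderOf y = p → ∃ hy : y ∈ D, (⟨y, hy⟩ : D) ∈ L := by
      haveI : Fact p.Prime := ⟨hp⟩
      obtain ⟨l, hl⟩ := exists_prime_orderOf_dvd_card' (G := L) p hd
      have hl' : orderOf ((l : D) : G) = p := by rw [Subgroup.orderOf_coe, Subgroup.orderOf_coe, hl]
      intro y hy
      obtain ⟨g, hg⟩ := h.exists_conj_mem hy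
      have hyD : y ∈ D := by
        have : g * y * g⁻¹ ∈ D := (Subgroup.zpowers_le.mpr hx') hg
        simpa [mul_assoc] using Subgroup.Normal.conj_mem inferInstance _ this g⁻¹
      refine ⟨hyD, ?_⟩
      -- Sylow subgroups of `D` are conjugate in `D`
      obtain ⟨Q₁, hQ₁⟩ := (IsPGroup.of_card (n := 1) (by
        rw [Nat.card_zpowers, pow_one, Subgroup.orderOf_coe, hl]) :
        IsPGroup p (Subgroup.zpowers (l : D))).exists_le_sylow
      obtain ⟨Q₂, hQ₂⟩ := (IsPGroup.of_card (n := 1) (by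
        rw [Nat.card_zpowers, pow_one, Subgroup.orderOf_mk, hy]) :
        IsPGroup p (Subgroup.zpowers (⟨y, hyD⟩ : D))).exists_le_sylow
      obtain ⟨d, rfl⟩ := MulAction.exists_smul_eq D Q₁ Q₂
      have hQcard : Nat.card (Q₁ : Subgroup D) ≤ p := by
        have h1 := Q₁.card_eq_multiplicity
        have h2 : ¬ p ^ 2 ∣ Nat.card D := fun e => h.not_sq (e.trans (Subgroup.card_subgroup_dvd_card D))
        rw [h1]
        refine (Nat.pow_le_pow_right hp.pos ?_).trans (pow_one p).le
        by_contra hc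
        exact h2 ((hp.pow_dvd_iff_le_factorization Nat.card_pos.ne').mpr (by omega))
      have hQ₁' : Subgroup.zpowers (l : D) = Q₁ :=
        Subgroup.eq_of_le_of_card_ge hQ₁ (hQcard.trans (le_of_eq (by
          rw [Nat.card_zpowers, Subgroup.orderOf_coe, hl])))
      have hy2 := hQ₂ (Subgroup.mem_zpowers _)
      rw [Sylow.coe_subgroup_smul, ← hQ₁', Subgroup.mem_pointwise_smul_iff_inv_smul_mem] at hy2
      have := (Subgroup.zpowers_le.mpr l.2) hy2
      have h3 := Subgroup.Normal.conj_mem (H := L) inferInstance _ this d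
      simpa [MulAut.conj_inv_apply, mul_assoc] using h3
    set L0 : Subgroup G := Subgroup.normalClosure {y : G | orderOf y = p} with hL0
    have h0 : D ≤ L0 := h.commutator_le L0 (Subgroup.subset_normalClosure hx)
    have h1 : L0 ≤ L.map D.subtype := (Subgroup.closure_le _).mpr fun y hy => by
      obtain ⟨z, hz, hzy⟩ := Group.mem_conjugatesOfSet_iff.mp hy
      obtain ⟨c, hc⟩ := isConj_iff.mp hzy
      obtain ⟨hyD, hyL⟩ := hall y (by rw [← hc, ← MulAut.conj_apply, MulEquiv.orderOf_eq]; exact hz)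
      exact ⟨⟨y, hyD⟩, hyL, rfl⟩
    rw [eq_top_iff]
    intro z _
    obtain ⟨z', hz', e⟩ := h1 (h0 z.2)
    rwa [← (D.subtype_injective e)]
  · left
    have h1 : L ≤ Cfsg.pPrimeCore p D := CfsgLib.Coprime.le_pPrimeCore_of_not_dvd hp hd
    haveI := CfsgLib.Coprime.pPrimeCore_characteristic (G := D) p
    have h2 : (Cfsg.pPrimeCore p D).map D.subtype ≤ Cfsg.pPrimeCore p G := by
      refine CfsgLib.Coprime.le_pPrimeCore_of_not_dvd hp ?_
      rw [Nat.card_congr ((Cfsg.pPrimeCore p D).equivMapOfInjective D.subtype D.subtype_injective).toEquiv.symm]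
      exact CfsgLib.Coprime.pPrimeCore_not_dvd hp
    have h3 : L = K' := le_antisymm (fun z hz => h2 ⟨z, h1 hz, rfl⟩) hKL
    rw [hLb', h3, eq_bot_iff]
    rintro _ ⟨z, hz, rfl⟩
    exact (QuotientGroup.eq_one_iff z).mpr hz

end Cfsg.Agent.S4497
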