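import Cfsg.Statements.S4498
import Cfsg.Agent.Lib.Block.PQBlocks
import Cfsg.Agent.Lib.Block.Principal

/-!
# A common character of two principal blocks
-/

set_option autoImplicit false
open Cfsg

namespace Cfsg.Agent.S4498

open CfsgLib CfsgLib.Block
open scoped ComplexConjugate

/-- Let p and q be distinct primes dividing the order of the finite group G, and suppose G has no element of order p·q. Fix maximal ideals M_p over p and M_q over q of the algebraic integers. Then the principal p-block and the principal q-block of G have a non-principal irreducible character in common. -/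
theorem result {G : Type*} [Group G] [Finite G] (p q : ℕ) [Fact p.Prime] [Fact q.Prime] (hpq : p ≠ q) (hp : p ∣ Nat.card G) (hq : q ∣ Nat.card G) (hno : ∀ g : G, orderOf g ≠ p * q) (Mp Mq : Ideal Cfsg.AlgInt) (hMp : Cfsg.IsPModular p Mp) (hMq : Cfsg.IsPModular q Mq) : ∃ χ : Cfsg.IrrCharacter G, (χ : G → ℂ) ≠ (fun _ => 1) ∧ χ ∈ Cfsg.principalBlock Mp G ∧ χ ∈ Cfsg.principalBlock Mq G := by
  classical
  have := hMp.2.1
  have := hMq.2.1
  let _ := Fintype.ofFinite G
  let _ := Fintype.ofFinite (IrrCharacter G)
  by_contra hcon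
  push Not at hcon
  obtain ⟨y, hy⟩ := exists_prime_orderOf_dvd_card' (G := G) p hp
  obtain ⟨ω, hω⟩ := intersection_congr hMp hMq hpq hno rfl (isPBlock_principalBlock (M := Mp) (G := G))
    (isPBlock_principalBlock (M := Mq) (G := G)) (hy ▸ dvd_rfl : p ∣ orderOf y)
  have he : Cfsg.principalBlock Mp G ∩ Cfsg.principalBlock Mq G = {oneChar G} := by
    ext χ
    constructor
    · intro h
      by_contra hne
      exact hcon χ (fun h1 => hne (Subtype.ext h1)) h.1 h.2
    · rintro rfl
      exact ⟨one_mem_principalBlock, one_mem_principalBlock⟩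
  rw [he, finsum_mem_singleton] at hω
  have h1 : (charDegree (oneChar G : G → ℂ) : ℂ) * (oneChar G : G → ℂ) y = 1 := by simp [oneChar, charDegree]
  rw [h1] at hω
  set b := (Nat.card G).factorization q with hb
  have hb0 : b ≠ 0 := ((Fact.out : q.Prime).factorization_pos_of_dvd Nat.card_pos.ne' hq).ne'
  have hmem : ((q : AlgInt) ^ b * ω) ∈ Mq :=
    Ideal.mul_mem_right _ _ (Ideal.pow_mem_of_mem _ hMq.2.2 _ (Nat.pos_of_ne_zero hb0))
  refine Ideal.IsPrime.ne_top (inferInstance : Mq.IsPrime) ((Ideal.eq_top_iff_one _).mpr ?_)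
  convert hmem using 1
  exact Subtype.ext (by push_cast; exact hω)

end Cfsg.Agent.S4498
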