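import Cfsg.Statements.S4501
import Cfsg.Agent.Lib.Char.SmallCofactor.Four
import Cfsg.Agent.Lib.Char.SmallCofactor.Three
import Cfsg.Agent.Lib.Fusion.Abelian
import Cfsg.Agent.S0084
import Cfsg.Agent.Lib.Perm.Dickson.Bridge
-- import your own Cfsg.Agent.* helpers here

set_option autoImplicit false
open Cfsg

namespace Cfsg.Agent.S4501


open CfsgLib CfsgLib.Char CfsgLib.Char.SmallCofactor CfsgLib.Char.FewSylow in
private theorem sixty_of_four {G : Type*} [Group G] [Finite G] [IsSimpleGroup G] (hG : ¬ IsCyclic G)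
    {p q a b : ℕ} (hp : p.Prime) (hq : q.Prime) (hpq : p ≠ q) (ha : a ≤ 2)
    (h : Nat.card G = 4 * p ^ a * q ^ b) : Nat.card G = 60 := by
  classical
  letI := Fintype.ofFinite G
  haveI : Fact (Nat.Prime 2) := ⟨Nat.prime_two⟩
  by_cases hp2 : p = 2
  · exact (three_primes hG Nat.prime_two hq (a + 2) b (by rw [h, hp2]; ring)).elim
  by_cases hq2 : q = 2
  · exact (three_primes hG Nat.prime_two hp (b + 2) a (by rw [h, hq2]; ring)).elim
  have h3 : 3 ∣ Nat.card G := by
    by_contra h3
    obtain ⟨T⟩ := (inferInstance : Nonempty (Sylow 2 G))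
    have ho : ∀ {r : ℕ}, r.Prime → r ≠ 2 → ∀ k, Odd (r ^ k) := fun hr hr2 k =>
      (hr.odd_of_ne_two hr2).pow
    have hodd : Odd (p ^ a * q ^ b) := (ho hp hp2 a).mul (ho hq hq2 b)
    have hcard : Nat.card G = 4 * (p ^ a * q ^ b) := by rw [h, mul_assoc]
    have hnc : ¬ ∃ N : Subgroup G, N.Normal ∧ Nat.card N = p ^ a * q ^ b := by
      rintro ⟨N, hN, hNc⟩
      rcases hN.eq_bot_or_eq_top with e | e
      · rw [e, Subgroup.card_bot] at hNc
        exact three_primes hG Nat.prime_two Nat.prime_two 2 0 (by rw [hcard, ← hNc]; rfl)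
      · rw [e, Subgroup.card_top, hcard] at hNc
        have := hodd.pos
        omega
    obtain ⟨hK, -⟩ := CfsgLib.Block.klein_of_no_complement _ hodd hcard hnc T
    obtain ⟨Q, N, hN, hc⟩ := Cfsg.Agent.S0084.result T hK h3
    refine hnc ⟨N, hN, ?_⟩
    have hm := hc.card_mul
    rw [Q.card_eq_multiplicity, ← T.card_eq_multiplicity, hK.card_four, hcard] at hm
    omega
  by_cases hp3 : p = 3
  · exact card_eq_sixty hG hq hq2 (fun e => hpq (hp3.trans e.symm)) (Or.inl ha) (hp3 ▸ h)
  by_cases hq3 : q = 3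
  · exact card_eq_sixty hG (c := b) (d := a) hp hp2 hp3 (Or.inr ha) (by rw [h, hq3]; ring)
  exfalso
  rw [h] at h3
  rcases Nat.prime_three.dvd_mul.mp h3 with h3 | h3
  · rcases Nat.prime_three.dvd_mul.mp h3 with h3 | h3
    · norm_num at h3
    · exact hp3 ((Nat.prime_dvd_prime_iff_eq Nat.prime_three hp).mp
        (Nat.prime_three.dvd_of_dvd_pow h3)).symm
  · exact hq3 ((Nat.prime_dvd_prime_iff_eq Nat.prime_three hq).mp
      (Nat.prime_three.dvd_of_dvd_pow h3)).symm

open CfsgLib CfsgLib.Char CfsgLib.Char.SmallCofactor CfsgLib.Char.FewSylow in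
private theorem three_case {G : Type*} [Group G] [Finite G] [IsSimpleGroup G] (hG : ¬ IsCyclic G)
    {p q a b : ℕ} (hp : p.Prime) (hq : q.Prime) (hpq : p ≠ q) (ha : a ≤ 2)
    (h : Nat.card G = 3 * p ^ a * q ^ b) :
    Nat.card G = 60 ∨ Nonempty (G ≃* Matrix.ProjectiveSpecialLinearGroup (Fin 2) (ZMod 7)) := by
  classical
  letI := Fintype.ofFinite G
  by_cases hp3 : p = 3
  · exact (three_primes hG Nat.prime_three hq (a + 1) b (by rw [h, hp3]; ring)).elim
  by_cases hq3 : q = 3
  · exact (three_primes hG Nat.prime_three hp (b + 1) a (by rw [h, hq3]; ring)).elim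
  interval_cases a
  · exact (three_primes hG Nat.prime_three hq 1 b (by rw [h]; ring)).elim
  · rcases QPower.classify_three_primes (p := 3) (r := p) (b := b) hG Nat.prime_three hq hp
      (Ne.symm hq3) (Ne.symm hp3) hpq.symm (by rw [h]; ring) with
      ⟨F, iF, iFF, hF, ⟨e⟩⟩ | ⟨F, iF, iFF, hF, ⟨e⟩⟩
    · left
      have hc := CfsgLib.Classical.card_psl2 (F := F)
      rw [← Nat.card_congr e.toEquiv, hF, show Nat.gcd 2 (5 - 1) = 2 from rfl] at hc
      omega
    · right
      haveI : Fact (Nat.Prime 7) := ⟨by norm_num⟩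
      obtain ⟨ε⟩ : Nonempty (F ≃+* ZMod 7) := ⟨FiniteField.ringEquivOfCardEq
        (by rw [hF, ZMod.card])⟩
      exact ⟨e.trans (CfsgLib.Perm.Dickson.s2Congr ε)⟩
  · by_cases hp2 : p = 2
    · exact Or.inl (sixty_of_four hG (p := 3) (a := 1) (b := b) Nat.prime_three hq (Ne.symm hq3)
        (by norm_num) (by rw [h, hp2]; ring))
    have hp5 : 5 ≤ p := by
      have h4 : p ≠ 4 := fun e => by rw [e] at hp; norm_num at hp
      have := hp.two_le
      omega
    by_cases hq2 : q = 2
    · exact (no_three_sq hG hp hp5 (hq2 ▸ h)).elim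
    exfalso
    haveI : Fact (Nat.Prime 3) := ⟨Nat.prime_three⟩
    obtain ⟨P⟩ := (inferInstance : Nonempty (Sylow 3 G))
    have hsq : ¬ 3 ^ 2 ∣ Nat.card G := by
      intro h9
      rw [h, mul_assoc, sq, Nat.mul_dvd_mul_iff_left (by norm_num : 0 < 3)] at h9
      rcases Nat.prime_three.dvd_mul.mp h9 with e | e
      · exact hp3 ((Nat.prime_dvd_prime_iff_eq Nat.prime_three hp).mp
          (Nat.prime_three.dvd_of_dvd_pow e)).symm
      · exact hq3 ((Nat.prime_dvd_prime_iff_eq Nat.prime_three hq).mp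
          (Nat.prime_three.dvd_of_dvd_pow e)).symm
    have hd3 : 3 ∣ Nat.card G := h ▸ dvd_mul_of_dvd_left (dvd_mul_right 3 _) _
    have hP : Nat.card (P : Subgroup G) = 3 := by
      rw [P.card_eq_multiplicity, CfsgLib.Block.Cyclic.factorization_eq_one hd3 hsq, pow_one]
    refine not_normalizer_le_centralizer (perfect_of_simple hG) P hP
      (IsCyclic.normalizer_le_centralizer ?_ (isCyclic_of_prime_card hP))
    have hne : Nat.card G ≠ 1 := fun e => by rw [e] at hd3; norm_num at hd3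
    have hle := Nat.minFac_le_of_dvd (le_refl 2 |>.trans (by norm_num : 2 ≤ 3)) hd3
    have hmp := Nat.minFac_prime hne
    by_contra hne3
    have h2 : (Nat.card G).minFac = 2 := by
      have := hmp.two_le
      omega
    have hev : 2 ∣ 3 * p ^ 2 * q ^ b := h ▸ h2 ▸ Nat.minFac_dvd _
    rcases Nat.prime_two.dvd_mul.mp hev with e | e
    · rcases Nat.prime_two.dvd_mul.mp e with e | e
      · norm_num at e
      · exact hp2 ((Nat.prime_dvd_prime_iff_eq Nat.prime_two hp).mp
          (Nat.prime_two.dvd_of_dvd_pow e)).symm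
    · exact hq2 ((Nat.prime_dvd_prime_iff_eq Nat.prime_two hq).mp
        (Nat.prime_two.dvd_of_dvd_pow e)).symm

/-- Let G be a non-abelian finite simple group and p, q distinct primes. If the order of G is 4·p^a·q^b with a ≤ 2, then G is isomorphic to the alternating group of degree 5. If the order of G is 3·p^a·q^b with a ≤ 2, then G is isomorphic to the alternating group of degree 5 or to PSL(2,7). -/
theorem result {G : Type*} [Group G] [Finite G] [IsSimpleGroup G] (hna : ∃ x y : G, x * y ≠ y * x) (p q a b : ℕ) (hp : p.Prime) (hq : q.Prime) (hpq : p ≠ q) (ha : a ≤ 2) : (Nat.card G = 4 * p ^ a * q ^ b → Nonempty (G ≃* alternatingGroup (Fin 5))) ∧ (Nat.card G = 3 * p ^ a * q ^ b → Nonempty (G ≃* alternatingGroup (Fin 5)) ∨ Nonempty (G ≃* Matrix.ProjectiveSpecialLinearGroup (Fin 2) (ZMod 7))) := by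
  have hG : ¬ IsCyclic G := fun hc => by
    obtain ⟨x, y, hxy⟩ := hna
    exact hxy (@IsCyclic.commGroup G _ hc |>.mul_comm x y)
  refine ⟨fun h => CfsgLib.Invol.mulEquiv_alternating_five (sixty_of_four hG hp hq hpq ha h),
    fun h => ?_⟩
  exact (three_case hG hp hq hpq ha h).imp_left CfsgLib.Invol.mulEquiv_alternating_five

end Cfsg.Agent.S4501
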