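import Cfsg.Statements.S4502
import Cfsg.Agent.Lib.Block.Cyclic.SylowCount
import Cfsg.Agent.Lib.Block.Local
-- import your own Cfsg.Agent.* helpers here

set_option autoImplicit false
open Cfsg CfsgLib.Block

open Cfsg

namespace Cfsg.Agent.S4502

/-- Let G be a finite group whose order is divisible by the prime p exactly once, and let P be a Sylow p-subgroup. Then the number of irreducible characters of G of degree not divisible by p equals the number of conjugacy classes of the normalizer of P. -/
theorem result {G : Type*} [Group G] [Finite G] (p : ℕ) [Fact p.Prime] (hdiv : p ∣ Nat.card G) (hsq : ¬ p ^ 2 ∣ Nat.card G) (P : Sylow p G) : Nat.card {χ : Cfsg.IrrCharacter G // ¬ p ∣ Cfsg.charDegree (χ : G → ℂ)} = Nat.card (ConjClasses (Subgroup.normalizer ((P : Subgroup G) : Set G))) := by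
  classical
  letI := Fintype.ofFinite G
  obtain ⟨M, hM⟩ := CfsgLib.Block.exists_pModular (Fact.out : p.Prime)
  have := hM.2.1
  refine CfsgLib.Block.Cyclic.card_pPrime_eq_classes hM hsq ?_
  rw [P.card_eq_multiplicity]
  refine (congrArg (p ^ ·) ?_).trans (pow_one p)
  have h1 := (Fact.out : p.Prime).factorization_pos_of_dvd Nat.card_pos.ne' hdiv
  have h2 : ¬ 2 ≤ (Nat.card G).factorization p := fun h => hsq
    (((Fact.out : p.Prime).pow_dvd_iff_le_factorization Nat.card_pos.ne').mpr h)
  omega

end Cfsg.Agent.S4502
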