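import Cfsg.Statements.S4504
import Cfsg.Agent.Lib.Char.HalfDegree.Main

set_option autoImplicit false
open Cfsg

namespace Cfsg.Agent.S4504

/-- Let G be a finite group whose order is divisible by the prime p exactly once and which has no normal subgroup of order p. If G has a faithful character of degree exactly (p − 1)/2, then G modulo its centre is isomorphic to PSL(2, p). -/
theorem result {G : Type*} [Group G] [Finite G] (p : ℕ) (hp : p.Prime) (hdiv : p ∣ Nat.card G) (hsq : ¬ p ^ 2 ∣ Nat.card G) (hnn : ∀ H : Subgroup G, H.Normal → Nat.card H ≠ p) (χ : G → ℂ) (hχ : Cfsg.IsCharacter G χ) (hfaith : ∀ g : G, χ g = χ 1 → g = 1) (hdeg : 2 * Cfsg.charDegree χ + 1 = p) : Nonempty ((G ⧸ Subgroup.center G) ≃* Matrix.ProjectiveSpecialLinearGroup (Fin 2) (ZMod p)) := by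
  classical
  have hpf : Fact p.Prime := ⟨hp⟩
  obtain ⟨n, ρ, rfl⟩ := hχ
  have hn : Cfsg.charDegree ρ.character = n := by
    rw [Cfsg.charDegree, Representation.char_one, Module.finrank_fin_fun]
    simp
  rw [hn] at hdeg
  have hinj : ∀ g : G, ρ g = 1 → g = 1 := fun g hg => hfaith g (by simp [Representation.character, hg])
  rcases Nat.lt_or_ge n 2 with hsmall | h2
  · exfalso
    obtain ⟨x, hx⟩ := exists_prime_orderOf_dvd_card' (G := G) p hdiv
    have hcomm : ∀ a b : G, a * b = b * a := by
      intro a b
      have e : ρ (a * b * a⁻¹ * b⁻¹) = 1 := by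
        have hc : ρ a * ρ b = ρ b * ρ a := by
          rcases Nat.eq_zero_or_pos n with h | h
          · exact absurd hp (by rw [← hdeg, h]; exact Nat.not_prime_one)
          · obtain rfl : n = 1 := by omega
            refine LinearMap.toMatrix'.injective ?_
            rw [LinearMap.toMatrix'_mul, LinearMap.toMatrix'_mul]
            ext i j
            fin_cases i
            fin_cases j
            simp [Matrix.mul_apply, mul_comm]
        rw [map_mul, map_mul, map_mul, hc, mul_assoc (ρ b), ← map_mul ρ a, mul_inv_cancel, map_one, mul_one,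
          ← map_mul, mul_inv_cancel, map_one]
      exact mul_inv_eq_iff_eq_mul.1 (mul_inv_eq_one.1 (hinj _ e))
    refine hnn (Subgroup.zpowers x) ⟨fun z hz g => ?_⟩ (by rw [Nat.card_zpowers, hx])
    rw [hcomm g z, mul_inv_cancel_right]
    exact hz
  · exact CfsgLib.Char.HalfDegree.psl_of_half_degree (by omega) hdiv hsq hnn hdeg ρ hfaith

end Cfsg.Agent.S4504
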