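import Cfsg.Statements.S4505
import Cfsg.Agent.Lib.Block.BlockCount
-- import your own Cfsg.Agent.* helpers here

set_option autoImplicit false
open Cfsg CfsgLib.Block
open scoped ComplexConjugate

open Cfsg

namespace Cfsg.Agent.S4505

/-- Let G be a finite group, p a prime and M a maximal ideal of the algebraic integers containing p. For every σ, the number of p-blocks of defect exactly σ is at most the number of conjugacy classes of p-regular elements whose centralizer has order divisible by p^σ but not by p^(σ+1). -/
theorem result {G : Type*} [Group G] [Finite G] (p : ℕ) [Fact p.Prime] (M : Ideal Cfsg.AlgInt) (hM : Cfsg.IsPModular p M) (σ : ℕ) : Nat.card {B : Set (Cfsg.IrrCharacter G) // Cfsg.IsPBlock M B ∧ Cfsg.blockDefect p B = σ} ≤ Nat.card {C : ConjClasses G // ∃ g : G, ConjClasses.mk g = C ∧ ¬ p ∣ orderOf g ∧ (Nat.card (Subgroup.centralizer ({g} : Set G))).factorization p = σ} := by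
  classical
  have := hM.2.1
  letI := Fintype.ofFinite G
  refine (card_blocks_defect_eq_le hM σ).trans (le_of_eq (Nat.card_congr
    (Equiv.subtypeEquivRight fun C => ⟨fun h => ⟨rep C, mk_rep C, h.1, h.2⟩, ?_⟩)))
  rintro ⟨g, rfl, h1, h2⟩
  obtain ⟨c, hc⟩ := isConj_iff.mp (isConj_rep g).symm
  rw [← hc]
  refine ⟨by rwa [show orderOf (c * g * c⁻¹) = orderOf g from MulEquiv.orderOf_eq (MulAut.conj c) g], ?_⟩
  rw [← show MulAut.conj c g = c * g * c⁻¹ from rfl, ← centralizer_map_singleton (MulAut.conj c),
    Subgroup.card_map_of_injective (f := (MulAut.conj c).toMonoidHom) (MulAut.conj c).injective, h2]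

end Cfsg.Agent.S4505
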