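import Cfsg.Statements.S4506
import Cfsg.Agent.Lib.Block.Orthogonality
import Cfsg.Agent.Lib.Block.Cyclic.LocalMult

/-!
# The number of `p`-conjugates times the degree
-/

set_option autoImplicit false
open Cfsg

namespace Cfsg.Agent.S4506

open CfsgLib CfsgLib.Block
open scoped ComplexConjugate

universe u

theorem pow_eq_of_modEq {z : ℂ} {N i j : ℕ} (hz : z ^ N = 1) (h : i ≡ j [MOD N]) : z ^ i = z ^ j := by
  have key : ∀ k, z ^ k = z ^ (k % N) := fun k => by
    conv_lhs => rw [← Nat.mod_add_div k N, pow_add, pow_mul, hz, one_pow, mul_one]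
  rw [key i, key j, h]

/-- Splitting an exponent into the two coprime parts. -/
theorem exists_split {n1 n2 : ℕ} (hcop : n1.Coprime n2) : ∃ e1 e2 : ℕ, ∀ x : ℂ, x ^ (n1 * n2) = 1 →
    (x ^ e1) ^ n1 = 1 ∧ (x ^ e2) ^ n2 = 1 ∧ x = x ^ e1 * x ^ e2 := by
  obtain ⟨e1, a1, a2⟩ := Nat.chineseRemainder hcop 1 0
  obtain ⟨e2, b1, b2⟩ := Nat.chineseRemainder hcop 0 1
  refine ⟨e1, e2, fun x hx => ⟨?_, ?_, ?_⟩⟩
  · obtain ⟨c, rfl⟩ := Nat.modEq_zero_iff_dvd.1 a2
    rw [← pow_mul, show n2 * c * n1 = n1 * n2 * c by ring, pow_mul, hx, one_pow]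
  · obtain ⟨c, rfl⟩ := Nat.modEq_zero_iff_dvd.1 b1
    rw [← pow_mul, show n1 * c * n2 = n1 * n2 * c by ring, pow_mul, hx, one_pow]
  · rw [← pow_add]
    conv_lhs => rw [← pow_one x]
    refine pow_eq_of_modEq hx ((Nat.modEq_and_modEq_iff_modEq_mul hcop).1 ⟨?_, ?_⟩)
    · simpa using (a1.add b1).symm
    · simpa using (a2.add b2).symm

theorem root_agree {n1 n2 : ℕ} [NeZero n1] [NeZero n2] (hcop : n1.Coprime n2) {σ τ : ℂ ≃+* ℂ}
    (h1 : σ (Complex.exp (2 * Real.pi * Complex.I / (n1 : ℕ))) =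
      τ (Complex.exp (2 * Real.pi * Complex.I / (n1 : ℕ))))
    (h2 : σ (Complex.exp (2 * Real.pi * Complex.I / (n2 : ℕ))) =
      τ (Complex.exp (2 * Real.pi * Complex.I / (n2 : ℕ)))) {x : ℂ} (hx : x ^ (n1 * n2) = 1) :
    σ x = τ x := by
  obtain ⟨e1, e2, he⟩ := exists_split hcop
  obtain ⟨hy, hz, hxe⟩ := he x hx
  obtain ⟨i, -, hi⟩ := (Complex.isPrimitiveRoot_exp n1 (NeZero.ne n1)).eq_pow_of_pow_eq_one hy
  obtain ⟨j, -, hj⟩ := (Complex.isPrimitiveRoot_exp n2 (NeZero.ne n2)).eq_pow_of_pow_eq_one hz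
  rw [hxe, ← hi, ← hj]
  simp only [map_mul, map_pow, h1, h2]

theorem char_agree {G : Type u} [Group G] [Finite G] {n1 n2 : ℕ} [NeZero n1] [NeZero n2]
    (hcop : n1.Coprime n2) (hn : Nat.card G = n1 * n2) {σ τ : ℂ ≃+* ℂ}
    (h1 : σ (Complex.exp (2 * Real.pi * Complex.I / (n1 : ℕ))) =
      τ (Complex.exp (2 * Real.pi * Complex.I / (n1 : ℕ))))
    (h2 : σ (Complex.exp (2 * Real.pi * Complex.I / (n2 : ℕ))) =
      τ (Complex.exp (2 * Real.pi * Complex.I / (n2 : ℕ)))) {χ : G → ℂ} (hχ : IsCharacter G χ)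
    (g : G) : σ (χ g) = τ (χ g) := by
  obtain ⟨d, ρ, rfl⟩ := hχ
  obtain ⟨b, μ, hμ, -, h3⟩ := Char.exists_eigen_data ρ g
  have h := h3 1
  simp only [pow_one] at h
  rw [h, map_sum, map_sum]
  refine Finset.sum_congr rfl fun i _ => root_agree hcop h1 h2 ?_
  obtain ⟨k, hk⟩ := orderOf_dvd_natCard g
  rw [← hn, hk, pow_mul, hμ, one_pow]

theorem sum_range_pow {N : ℕ} {ν : ℂ} (hν : ν ^ N = 1) :
    ∃ c : ℤ, ∑ i ∈ Finset.range N, ν ^ i = (N : ℂ) * c := by
  by_cases h : ν = 1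
  · exact ⟨1, by simp [h]⟩
  · exact ⟨0, by rw [geom_sum_eq h, hν]; simp⟩

/-- The Ramanujan sum is divisible by `p ^ b`. -/
theorem sum_units_pow {p : ℕ} (hp : p.Prime) (b : ℕ) [NeZero (p ^ (b + 1))] {ν : ℂ}
    (hν : ν ^ p ^ (b + 1) = 1) :
    ∃ c : ℤ, ∑ k : (ZMod (p ^ (b + 1)))ˣ, ν ^ (k : ZMod (p ^ (b + 1))).val = ((p ^ b : ℕ) : ℂ) * c := by
  classical
  set N := p ^ (b + 1)
  have hcop : ∀ i, i.Coprime N ↔ ¬ p ∣ i := fun i => by
    rw [Nat.coprime_pow_right_iff (Nat.succ_pos b), Nat.coprime_comm, hp.coprime_iff_not_dvd]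
  have hbij : ∑ k : (ZMod N)ˣ, ν ^ (k : ZMod N).val =
      ∑ i ∈ (Finset.range N).filter (fun i => ¬ p ∣ i), ν ^ i := by
    refine Finset.sum_bij' (fun k _ => (k : ZMod N).val)
      (fun i hi => ZMod.unitOfCoprime i ((hcop i).2 (Finset.mem_filter.1 hi).2))
      (fun k _ => Finset.mem_filter.2 ⟨Finset.mem_range.2 (ZMod.val_lt _),
        (hcop _).1 (ZMod.val_coe_unit_coprime k)⟩)
      (fun _ _ => Finset.mem_univ _) (fun k _ => Units.ext ?_) (fun i hi => ?_) (fun _ _ => rfl)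
    · rw [ZMod.coe_unitOfCoprime, ZMod.natCast_zmod_val]
    · rw [ZMod.coe_unitOfCoprime, ZMod.val_natCast,
        Nat.mod_eq_of_lt (Finset.mem_range.1 (Finset.mem_filter.1 hi).1)]
  have himg : (Finset.range N).filter (fun i => p ∣ i) = (Finset.range (p ^ b)).image (p * ·) := by
    ext i
    simp only [Finset.mem_filter, Finset.mem_range, Finset.mem_image]
    constructor
    · rintro ⟨hi, j, rfl⟩
      exact ⟨j, Nat.lt_of_mul_lt_mul_left (a := p) (by rwa [← pow_succ']), rfl⟩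
    · rintro ⟨j, hj, rfl⟩
      refine ⟨?_, dvd_mul_right p j⟩
      show p * j < p ^ (b + 1)
      rw [pow_succ']
      exact Nat.mul_lt_mul_of_pos_left hj hp.pos
  obtain ⟨c1, h1⟩ := sum_range_pow hν
  obtain ⟨c2, h2⟩ := sum_range_pow (N := p ^ b) (ν := ν ^ p) (by rw [← pow_mul, ← pow_succ']; exact hν)
  refine ⟨p * c1 - c2, ?_⟩
  have hsp := Finset.sum_filter_add_sum_filter_not (Finset.range N) (fun i => p ∣ i) (fun i => ν ^ i)
  rw [himg, Finset.sum_image (fun i _ j _ h => Nat.eq_of_mul_eq_mul_left hp.pos h), h1,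
    Finset.sum_congr rfl (g := fun i => (ν ^ p) ^ i) (fun i _ => pow_mul ν p i), h2] at hsp
  rw [hbij]
  have hN : (N : ℂ) = (p : ℂ) * ((p ^ b : ℕ) : ℂ) := by
    simp only [N, pow_succ]
    push_cast
    ring
  rw [hN] at hsp
  push_cast at hsp ⊢
  linear_combination hsp

/-- The twist of an irreducible character by an automorphism of `ℂ` is irreducible. -/
theorem isIrr_twist {G : Type u} [Group G] [Finite G] (χ : IrrCharacter G) (σ : ℂ ≃+* ℂ) :
    IsIrrCharacter G fun g => σ ((χ : G → ℂ) g) := by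
  classical
  let _ := Fintype.ofFinite G
  let _ := Fintype.ofFinite (IrrCharacter G)
  have hc := Cyclic.isCharacter_autTwist (Char.isCharacter_irr χ) σ
  refine Char.isIrr_of_isCharacter_norm_one hc ?_
  have h := congrArg σ (Char.classInner_irr_self χ)
  rw [map_one] at h
  refine Eq.trans ?_ h
  simp only [classInner, map_mul, map_inv₀, map_natCast, map_sum]
  congr 1
  refine Finset.sum_congr rfl fun g _ => ?_
  rw [← Char.isCharacter_inv hc, ← Char.irr_inv χ]

/-- A sum against a class function, by classes. -/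
theorem sum_eq_sum_centralChar {G : Type u} [Group G] [Fintype G] [DecidableEq G]
    [Fintype (ConjClasses G)] {f : G → ℂ} (hf : IsClassFunction G f) (θ : IrrCharacter G) :
    (∑ g, f g * (θ : G → ℂ) g) / (θ : G → ℂ) 1 =
      ∑ c : ConjClasses G, f (Function.surjInv ConjClasses.mk_surjective c) *
        centralChar (θ : G → ℂ) (Function.surjInv ConjClasses.mk_surjective c) := by
  classical
  rw [← Finset.sum_fiberwise (s := Finset.univ) (g := ConjClasses.mk), Finset.sum_div]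
  refine Finset.sum_congr rfl fun c _ => ?_
  set g0 := Function.surjInv ConjClasses.mk_surjective c
  have h0 : ConjClasses.mk g0 = c := Function.surjInv_eq _ c
  rw [← omega_classSum (Char.isClassFunction_irr θ) g0, omega, ← mul_div_assoc, Finset.mul_sum,
    Finset.sum_filter]
  congr 1
  refine Finset.sum_congr rfl fun g _ => ?_
  simp only [classSum, coeff_gaOfFun]
  by_cases hg : IsConj g0 g
  · rw [if_pos (by rw [← h0]; exact (ConjClasses.mk_eq_mk_iff_isConj.2 hg).symm), if_pos hg, one_mul,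
      Char.classFun_isConj hf hg]
  · rw [if_neg (fun h => hg (ConjClasses.mk_eq_mk_iff_isConj.1 (h0.trans h.symm))), if_neg hg,
      zero_mul, mul_zero]

theorem exists_nat_of_mul {z : ℂ} (hz : IsIntegral ℤ z) {a b : ℕ} (hb : b ≠ 0)
    (h : (b : ℂ) * z = a) : ∃ m : ℕ, z = m ∧ b * m = a := by
  have e : z = (((a : ℚ) / b : ℚ) : ℂ) := by
    have : (b : ℂ) ≠ 0 := by exact_mod_cast hb
    push_cast
    field_simp
    linear_combination h
  have h' : IsIntegral ℤ ((a : ℚ) / b) := by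
    rw [← isIntegral_algebraMap_iff (algebraMap ℚ ℂ).injective (A := ℚ) (B := ℂ)]
    rw [eq_ratCast, ← e]; exact hz
  obtain ⟨m, hm⟩ := IsIntegrallyClosed.isIntegral_iff.1 h'
  have he : z = (m : ℂ) := by rw [e, ← hm]; simp
  have h2 : (b : ℤ) * m = a := by rw [he] at h; exact_mod_cast h
  have hm0 : 0 ≤ m := nonneg_of_mul_nonneg_right (h2 ▸ Int.natCast_nonneg a) (by positivity)
  obtain ⟨k, rfl⟩ := Int.eq_ofNat_of_zero_le hm0
  exact ⟨k, by simpa using he, by exact_mod_cast h2⟩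

/-- The data: a family of `p`-conjugates indexed by the units of `ZMod (p ^ (b + 1))`. -/
theorem exists_family {G : Type u} [Group G] [Finite G] {p : ℕ} (hp : p.Prime) {b g' : ℕ}
    [NeZero g'] [NeZero (p ^ (b + 1))] (hn : Nat.card G = g' * p ^ (b + 1)) (hcop : g'.Coprime (p ^ (b + 1)))
    (χ : IrrCharacter G) :
    ∃ (Ψ : (ZMod (p ^ (b + 1)))ˣ → IrrCharacter G),
      (∀ k l, ∃ σ : ℂ ≃+* ℂ, ∀ g, (Ψ (l * k) : G → ℂ) g = σ ((Ψ k : G → ℂ) g) ∧
          (Ψ l : G → ℂ) g = σ ((χ : G → ℂ) g)) ∧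
      (∀ ψ : IrrCharacter G, (∃ k, Ψ k = ψ) ↔ ∃ σ : ℂ ≃+* ℂ,
        σ (Complex.exp (2 * Real.pi * Complex.I / (g' : ℕ))) =
            Complex.exp (2 * Real.pi * Complex.I / (g' : ℕ)) ∧
          (ψ : G → ℂ) = fun g => σ ((χ : G → ℂ) g)) ∧
      ∀ g, ∃ c : ℂ, IsIntegral ℤ c ∧ ∑ k, (Ψ k : G → ℂ) g = ((p ^ b : ℕ) : ℂ) * c := by
  classical
  set N := p ^ (b + 1) with hN
  choose σ hσ1 hσ2 using fun k : (ZMod N)ˣ => Char.exists_aut_fix_pow (NeZero.ne g') (NeZero.ne N)
    hcop (ZMod.val_coe_unit_coprime k)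
  have hζ := (Complex.isPrimitiveRoot_exp N (NeZero.ne N)).pow_eq_one
  have hχc := Char.isCharacter_irr χ
  refine ⟨fun k => ⟨_, isIrr_twist χ (σ k)⟩, fun k l => ⟨σ l, fun g => ⟨?_, rfl⟩⟩,
    fun ψ => ⟨?_, ?_⟩, fun g => ?_⟩
  · show σ (l * k) ((χ : G → ℂ) g) = σ l (σ k ((χ : G → ℂ) g))
    refine char_agree (τ := (σ k).trans (σ l)) hcop hn ?_ ?_ hχc g
    · rw [RingEquiv.trans_apply, hσ1 k, hσ1 l, hσ1 (l * k)]
    · rw [RingEquiv.trans_apply, hσ2 k, map_pow, hσ2 l, hσ2 (l * k), ← pow_mul]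
      refine pow_eq_of_modEq hζ ?_
      rw [Units.val_mul, ZMod.val_mul]
      exact Nat.mod_modEq _ _
  · rintro ⟨k, rfl⟩
    exact ⟨σ k, hσ1 k, rfl⟩
  · rintro ⟨τ, hτ, hψ⟩
    have hζN := Complex.isPrimitiveRoot_exp N (NeZero.ne N)
    obtain ⟨i, -, hi, hie⟩ := hζN.isPrimitiveRoot_iff.mp (hζN.map_of_injective τ.injective)
    refine ⟨ZMod.unitOfCoprime i hi, Subtype.ext ?_⟩
    rw [hψ]
    funext x
    refine char_agree hcop hn ((hσ1 _).trans hτ.symm) ?_ hχc x
    rw [hσ2, ← hie, ZMod.coe_unitOfCoprime, ZMod.val_natCast]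
    exact pow_eq_of_modEq hζ (Nat.mod_modEq _ _)
  · obtain ⟨d, ρ, hρ⟩ := hχc
    obtain ⟨bas, μ, hμ, -, h3⟩ := Char.exists_eigen_data ρ g
    have h := h3 1
    simp only [pow_one] at h
    obtain ⟨e1, e2, he⟩ := exists_split hcop
    have hμn : ∀ i, μ i ^ (g' * N) = 1 := fun i => by
      obtain ⟨k, hk⟩ := orderOf_dvd_natCard g
      rw [← hn, hk, pow_mul, hμ, one_pow]
    choose c hc using fun i => sum_units_pow hp b (he (μ i) (hμn i)).2.1
    refine ⟨∑ i, μ i ^ e1 * (c i : ℂ), IsIntegral.sum _ fun i _ => IsIntegral.mul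
      (isIntegral_of_pow_eq_one (NeZero.pos g') (he (μ i) (hμn i)).1) isIntegral_algebraMap, ?_⟩
    have hk : ∀ k : (ZMod N)ˣ, σ k ((χ : G → ℂ) g) =
        ∑ i, μ i ^ e1 * (μ i ^ e2) ^ (k : ZMod N).val := fun k => by
      rw [← hρ, h, map_sum]
      refine Finset.sum_congr rfl fun i _ => ?_
      conv_lhs => rw [(he (μ i) (hμn i)).2.2, map_mul,
        Char.fix_root_of_fix_exp (hσ1 k) (he (μ i) (hμn i)).1]
      congr 1
      obtain ⟨j, -, hj⟩ := (Complex.isPrimitiveRoot_exp N (NeZero.ne N)).eq_pow_of_pow_eq_one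
        (he (μ i) (hμn i)).2.1
      rw [← hj, map_pow, hσ2, pow_right_comm]
    show ∑ k, σ k ((χ : G → ℂ) g) = _
    rw [Finset.sum_congr rfl fun k _ => hk k, Finset.sum_comm, Finset.mul_sum]
    refine Finset.sum_congr rfl fun i _ => ?_
    rw [← Finset.mul_sum, hc i]
    ring

/-- The core, for a positive exponent. -/
theorem core {G : Type u} [Group G] [Fintype G] [DecidableEq G] {p : ℕ} (hp : p.Prime) {b g' : ℕ}
    [NeZero g'] (hn : Nat.card G = g' * p ^ (b + 1)) (hg' : ¬ p ∣ g') (χ : IrrCharacter G)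
    {S : Set (IrrCharacter G)} (hS : ∀ ψ : IrrCharacter G, ψ ∈ S ↔ ∃ σ : ℂ ≃+* ℂ,
        σ (Complex.exp (2 * Real.pi * Complex.I / (g' : ℕ))) =
            Complex.exp (2 * Real.pi * Complex.I / (g' : ℕ)) ∧
          (ψ : G → ℂ) = fun g => σ ((χ : G → ℂ) g)) :
    (Nat.card S * charDegree (χ : G → ℂ)).factorization p ≤ b + 1 ∧
      (p ^ (b + 1) ∣ Nat.card S * charDegree (χ : G → ℂ) →
        p ^ (b + 1) ∣ charDegree (χ : G → ℂ)) := by
  classical
  let _ := Fintype.ofFinite (IrrCharacter G)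
  let _ : Fintype (ConjClasses G) := Fintype.ofFinite _
  have : Fact p.Prime := ⟨hp⟩
  have : NeZero (p ^ (b + 1)) := ⟨pow_ne_zero _ hp.ne_zero⟩
  have hcop : g'.Coprime (p ^ (b + 1)) := (Nat.Coprime.pow_right _ ((hp.coprime_iff_not_dvd.2 hg').symm))
  obtain ⟨Ψ, hmul, hmem, hint⟩ := exists_family hp hn hcop χ
  choose c hc1 hc2 using hint
  set d := charDegree (χ : G → ℂ) with hd
  obtain ⟨hd1, hd0⟩ := charDegree_eq χ
  rw [← hd] at hd1 hd0
  have hSim : S = ↑(Finset.univ.image Ψ) := by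
    ext ψ
    rw [hS, ← hmem]
    simp
  set r := Nat.card S with hr
  have hrc : r = (Finset.univ.image Ψ).card := by
    rw [hr, hSim]
    exact Nat.card_eq_finsetCard _
  -- all fibres have the same size
  have hΨχ : ∀ g, (Ψ 1 : G → ℂ) g = (χ : G → ℂ) g := fun g => by
    obtain ⟨σ, hσ⟩ := hmul 1 1
    have a := (hσ g).1
    rw [mul_one] at a
    exact σ.injective (a.symm.trans (hσ g).2)
  obtain ⟨h, hfib⟩ : ∃ h, ∀ θ ∈ Finset.univ.image Ψ,
      (Finset.univ.filter fun k => Ψ k = θ).card = h := by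
    refine ⟨(Finset.univ.filter fun k => Ψ k = Ψ 1).card, fun θ hθ => ?_⟩
    obtain ⟨l, -, rfl⟩ := Finset.mem_image.1 hθ
    symm
    refine Finset.card_bij' (fun k _ => l * k) (fun k _ => l⁻¹ * k) (fun k hk => ?_) (fun k hk => ?_)
      (fun k _ => inv_mul_cancel_left l k) (fun k _ => mul_inv_cancel_left l k)
    · simp only [Finset.mem_filter, Finset.mem_univ, true_and] at hk ⊢
      obtain ⟨σ, hσ⟩ := hmul k l
      refine Subtype.ext (funext fun g => ?_)
      rw [(hσ g).1, hk, hΨχ g, (hσ g).2]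
    · simp only [Finset.mem_filter, Finset.mem_univ, true_and] at hk ⊢
      obtain ⟨σ, hσ⟩ := hmul (l⁻¹ * k) l
      refine Subtype.ext (funext fun g => σ.injective ?_)
      rw [← (hσ g).1, mul_inv_cancel_left, hk, (hσ g).2, hΨχ g]
  have hrh : r * h = p ^ b * (p - 1) := by
    rw [← Nat.totient_prime_pow_succ hp b, ← ZMod.card_units_eq_totient, ← Finset.card_univ,
      Finset.card_eq_sum_card_image Ψ, Finset.sum_congr rfl hfib, Finset.sum_const, smul_eq_mul,
      ← hrc]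
  -- degrees
  have hdeg : ∀ k, (Ψ k : G → ℂ) 1 = (d : ℂ) := fun k => by
    obtain ⟨σ, -, hσ⟩ := (hmem (Ψ k)).1 ⟨k, rfl⟩
    rw [hσ]
    show σ ((χ : G → ℂ) 1) = _
    rw [hd1, map_natCast]
  -- the class function `c`
  have hTcl : IsClassFunction G fun g => c g⁻¹ := fun g x => by
    have hpb : ((p ^ b : ℕ) : ℂ) ≠ 0 := Nat.cast_ne_zero.2 (pow_ne_zero _ hp.ne_zero)
    apply mul_left_cancel₀ hpb
    rw [← hc2, ← hc2]
    refine Finset.sum_congr rfl fun k _ => ?_
    rw [show (x * g * x⁻¹)⁻¹ = x * g⁻¹ * x⁻¹ by group]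
    exact Char.isClassFunction_irr (Ψ k) g⁻¹ x
  have hZ : ∀ θ : IrrCharacter G, ((p ^ b : ℕ) : ℂ) * (∑ g, c g⁻¹ * (θ : G → ℂ) g) =
      (Nat.card G : ℂ) * ((Finset.univ.filter fun k => Ψ k = θ).card : ℂ) := by
    intro θ
    have h1 : classInner (∑ k, (Ψ k : G → ℂ)) (θ : G → ℂ) =
        ((Finset.univ.filter fun k => Ψ k = θ).card : ℂ) := by
      rw [Char.classInner_sum_left, Finset.sum_congr rfl (g := fun k => if Ψ k = θ then (1 : ℂ) else 0)
        (fun k _ => by rw [Char.classInner_irr]), Finset.sum_boole]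
    rw [← h1, classInner, ← mul_assoc, mul_inv_cancel₀ (Char.card_ne_zero' (G := G)), one_mul,
      Finset.mul_sum]
    refine Fintype.sum_equiv (Equiv.inv G) _ _ fun g => ?_
    simp only [Equiv.inv_apply, Finset.sum_apply]
    rw [← Char.irr_inv, inv_inv, hc2, mul_assoc]
  have hΨ1 : Ψ 1 ∈ Finset.univ.image Ψ := Finset.mem_image.2 ⟨1, Finset.mem_univ _, rfl⟩
  set z : IrrCharacter G → ℂ := fun θ => (∑ g, c g⁻¹ * (θ : G → ℂ) g) / (θ : G → ℂ) 1 with hz
  have hzI : ∀ θ, IsIntegral ℤ (z θ) := fun θ => by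
    rw [hz]
    simp only
    rw [sum_eq_sum_centralChar hTcl θ]
    exact IsIntegral.sum _ fun C _ => (hc1 _).mul (isIntegral_centralChar θ.2 _)
  obtain ⟨Z, hZe, hZn⟩ : ∃ Z : ℕ, z (Ψ 1) = Z ∧ p ^ b * d * Z = Nat.card G * h := by
    refine exists_nat_of_mul (hzI _) (mul_ne_zero (pow_ne_zero _ hp.ne_zero) hd0) ?_
    have h1 := hZ (Ψ 1)
    rw [hfib _ hΨ1] at h1
    rw [hz]
    simp only [hdeg]
    have : (d : ℂ) ≠ 0 := Nat.cast_ne_zero.2 hd0
    push_cast at h1 ⊢
    field_simp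
    linear_combination h1
  have hkey : r * d * Z = g' * (p - 1) * p ^ (b + 1) := by
    have e : p ^ b * (r * d * Z) = p ^ b * (g' * (p - 1) * p ^ (b + 1)) := by
      calc p ^ b * (r * d * Z) = r * (p ^ b * d * Z) := by ring
        _ = Nat.card G * (r * h) := by rw [hZn]; ring
        _ = _ := by rw [hrh, hn]; ring
    exact Nat.eq_of_mul_eq_mul_left (pow_pos hp.pos b) e
  have hp1 : ¬ p ∣ g' * (p - 1) := by
    rw [hp.dvd_mul, not_or]
    have := hp.two_le
    exact ⟨hg', fun h => absurd (Nat.le_of_dvd (by omega) h) (by omega)⟩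
  have hg0 : g' * (p - 1) ≠ 0 := fun h => hp1 (h ▸ dvd_zero p)
  have hne : r * d * Z ≠ 0 := by
    rw [hkey]
    exact mul_ne_zero hg0 (pow_ne_zero _ hp.ne_zero)
  have hrd0 : r * d ≠ 0 := left_ne_zero_of_mul hne
  have hZ0 : Z ≠ 0 := right_ne_zero_of_mul hne
  have hfac : (r * d).factorization p + Z.factorization p = b + 1 := by
    have e := congrArg (fun x => x.factorization p) hkey
    simp only [Nat.factorization_mul hrd0 hZ0, Nat.factorization_mul hg0 (pow_ne_zero _ hp.ne_zero),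
      Finsupp.add_apply, hp.factorization_pow, Finsupp.single_eq_same,
      Nat.factorization_eq_zero_of_not_dvd hp1, zero_add] at e
    exact e
  refine ⟨by omega, fun hdiv => ?_⟩
  have hpZ : ¬ p ∣ Z := fun hpz => by
    have h1 := (hp.pow_dvd_iff_le_factorization hrd0).1 hdiv
    have h2 := hp.factorization_pos_of_dvd hZ0 hpz
    omega
  obtain ⟨M, hM⟩ := exists_pModular hp
  have : M.IsMaximal := hM.2.1
  -- the orbit is a union of blocks
  have hU : IsBlockUnion M S := by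
    intro θ hθ η hsb
    by_contra hη
    rw [hSim, Finset.mem_coe] at hθ hη
    have hθZ : z θ = Z := by
      rw [← hZe, hz]
      simp only
      obtain ⟨l, -, rfl⟩ := Finset.mem_image.1 hθ
      rw [hdeg, hdeg]
      congr 1
      have hpb : ((p ^ b : ℕ) : ℂ) ≠ 0 := Nat.cast_ne_zero.2 (pow_ne_zero _ hp.ne_zero)
      apply mul_left_cancel₀ hpb
      rw [hZ, hZ, hfib _ hθ, hfib _ hΨ1]
    have hη0 : z η = 0 := by
      have h1 := hZ η
      have : (Finset.univ.filter fun k => Ψ k = η) = ∅ := Finset.filter_eq_empty_iff.2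
        fun {k} _ hk => hη (Finset.mem_image.2 ⟨k, Finset.mem_univ _, hk⟩)
      rw [this, Finset.card_empty, Nat.cast_zero, mul_zero, mul_eq_zero] at h1
      rw [hz]
      simp only
      rw [h1.resolve_left (Nat.cast_ne_zero.2 (pow_ne_zero _ hp.ne_zero)), zero_div]
    apply hpZ
    rw [← memLocalIdeal_natCast hM, show (Z : ℂ) = z θ - z η by rw [hθZ, hη0, sub_zero], hz]
    simp only
    rw [sum_eq_sum_centralChar hTcl θ, sum_eq_sum_centralChar hTcl η, ← Finset.sum_sub_distrib]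
    refine Finset.sum_induction _ (MemLocalIdeal M) (fun _ _ => memLocalIdeal_add)
      ((memLocalIdeal_natCast hM 0).2 (dvd_zero p) |> fun h => by simpa using h) fun C _ => ?_
    rw [← mul_sub]
    obtain ⟨h1, h2⟩ := memLocalIdeal_iff.mp (hsb (Function.surjInv ConjClasses.mk_surjective C))
    refine memLocalIdeal_iff.mpr ⟨(locRing M).mul_mem (integral_mem M (hc1 _)) h1, ?_⟩
    have h3 := map_mul (res M) ⟨_, integral_mem M (hc1
      (Function.surjInv ConjClasses.mk_surjective C)⁻¹)⟩ ⟨_, h1⟩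
    rw [h2, mul_zero] at h3
    exact h3
  -- the orbit sum vanishes at the singular elements
  have hvan : ∀ u : G, p ∣ orderOf u → ∑ θ ∈ Finset.univ.image Ψ, (θ : G → ℂ) u = 0 := by
    intro u hu
    have h1 := blockUnion_orthogonal_regular_singular hM hU (g := 1) (h := u)
      (by rw [orderOf_one, Nat.dvd_one]; exact hp.ne_one) hu
    rw [hSim, finsum_mem_coe_finset] at h1
    have h2 : (d : ℂ) * conj (∑ θ ∈ Finset.univ.image Ψ, (θ : G → ℂ) u) = 0 := by
      rw [map_sum, Finset.mul_sum, ← h1]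
      refine Finset.sum_congr rfl fun θ hθ => ?_
      obtain ⟨l, -, rfl⟩ := Finset.mem_image.1 hθ
      rw [hdeg]
    have h3 := congrArg conj ((mul_eq_zero.1 h2).resolve_left (Nat.cast_ne_zero.2 hd0))
    simpa using h3
  -- restrict to a Sylow subgroup
  obtain ⟨P⟩ : Nonempty (Sylow p G) := inferInstance
  have hPc : Nat.card (P : Subgroup G) = p ^ (b + 1) := by
    rw [P.card_eq_multiplicity, hn, Nat.factorization_mul (NeZero.ne g') (pow_ne_zero _ hp.ne_zero),
      Finsupp.add_apply, hp.factorization_pow, Finsupp.single_eq_same,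
      Nat.factorization_eq_zero_of_not_dvd hg', zero_add]
  let _ : Fintype (P : Subgroup G) := Fintype.ofFinite _
  obtain ⟨m, hm⟩ := Char.classInner_char_irr_nat
    (Char.isCharacter_comp (Char.isCharacter_irr χ) (P : Subgroup G).subtype)
    (⟨_, Char.isIrrCharacter_one⟩ : IrrCharacter (P : Subgroup G))
  have hsum : ∀ θ ∈ Finset.univ.image Ψ, ∑ u : (P : Subgroup G), (θ : G → ℂ) u =
      ((p ^ (b + 1) * m : ℕ) : ℂ) := by
    intro θ hθ
    have hχs : ∑ u : (P : Subgroup G), (χ : G → ℂ) u = ((p ^ (b + 1) * m : ℕ) : ℂ) := by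
      simp only [classInner, map_one, mul_one, hPc] at hm
      rw [Nat.cast_mul, ← hm, ← mul_assoc, mul_inv_cancel₀
        (Nat.cast_ne_zero.2 (pow_ne_zero _ hp.ne_zero)), one_mul]
      rfl
    obtain ⟨l, -, rfl⟩ := Finset.mem_image.1 hθ
    obtain ⟨σ, -, hσ⟩ := (hmem (Ψ l)).1 ⟨l, rfl⟩
    rw [hσ, ← map_sum, hχs, map_natCast]
  have e : ((r * (p ^ (b + 1) * m) : ℕ) : ℂ) = ((r * d : ℕ) : ℂ) := by
    rw [Nat.cast_mul r (p ^ (b + 1) * m), Nat.cast_mul r d, hrc, ← nsmul_eq_mul, ← nsmul_eq_mul,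
      ← Finset.sum_const, ← Finset.sum_congr rfl hsum, Finset.sum_comm, Finset.sum_eq_single 1]
    · rw [← Finset.sum_const]
      refine Finset.sum_congr rfl fun θ hθ => ?_
      obtain ⟨l, -, rfl⟩ := Finset.mem_image.1 hθ
      rw [OneMemClass.coe_one, hdeg]
    · intro u _ hu
      refine hvan _ ?_
      rw [Subgroup.orderOf_coe]
      obtain ⟨k, hk⟩ := IsPGroup.iff_orderOf.1 P.2 u
      have hk0 : k ≠ 0 := fun h0 => hu (orderOf_eq_one_iff.1 (by rw [hk, h0, pow_zero]))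
      exact hk ▸ dvd_pow_self p hk0
    · simp
  have h5 : p ^ (b + 1) * m = d :=
    Nat.eq_of_mul_eq_mul_left (Nat.pos_of_ne_zero (left_ne_zero_of_mul hrd0)) (Nat.cast_injective e)
  exact h5 ▸ dvd_mul_right _ m

/-- Let G be a finite group, p a prime, p^a the p-part of the order of G and g′ its p′-part. Call two irreducible characters p-conjugate when one is obtained from the other by applying a field automorphism of ℂ that fixes the g′-th roots of unity, and let r be the number of characters p-conjugate to the irreducible character χ (χ included). Then the exponent of p in r·χ(1) is at most a; and if p^a divides r·χ(1) then p^a already divides χ(1). -/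
theorem result {G : Type*} [Group G] [Finite G] (p : ℕ) (hp : p.Prime) (χ : Cfsg.IrrCharacter G) (r : ℕ) (hr : Nat.card {ψ : Cfsg.IrrCharacter G // ∃ σ : ℂ ≃+* ℂ, σ (Complex.exp (2 * Real.pi * Complex.I / ((Nat.card G / p ^ (Nat.card G).factorization p) : ℕ))) = Complex.exp (2 * Real.pi * Complex.I / ((Nat.card G / p ^ (Nat.card G).factorization p) : ℕ)) ∧ (ψ : G → ℂ) = fun g => σ ((χ : G → ℂ) g)} = r) : (r * Cfsg.charDegree (χ : G → ℂ)).factorization p ≤ (Nat.card G).factorization p ∧ (p ^ (Nat.card G).factorization p ∣ r * Cfsg.charDegree (χ : G → ℂ) → p ^ (Nat.card G).factorization p ∣ Cfsg.charDegree (χ : G → ℂ)) := by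
  classical
  let _ := Fintype.ofFinite G
  have hn0 : Nat.card G ≠ 0 := Nat.card_pos.ne'
  have hg' : ¬ p ∣ Nat.card G / p ^ (Nat.card G).factorization p :=
    Nat.not_dvd_ordCompl hp hn0
  have hsplit := Nat.ordProj_mul_ordCompl_eq_self (Nat.card G) p
  generalize (Nat.card G).factorization p = a at *
  generalize Nat.card G / p ^ a = g' at *
  have : NeZero g' := ⟨fun h => hg' (h ▸ dvd_zero p)⟩
  rcases a with _ | b
  · rw [pow_zero, one_mul] at hsplit
    refine ⟨?_, fun _ => by simp⟩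
    have hr1 : r = 1 := by
      rw [← hr, Nat.card_eq_one_iff_unique]
      refine ⟨⟨fun x y => ?_⟩, ⟨⟨χ, RingEquiv.refl ℂ, rfl, rfl⟩⟩⟩
      obtain ⟨x, σ, hσ, hx⟩ := x
      obtain ⟨y, τ, hτ, hy⟩ := y
      refine Subtype.ext (Subtype.ext (funext fun g => ?_))
      show (x : G → ℂ) g = (y : G → ℂ) g
      rw [hx, hy]
      have hfix : ∀ {s : ℂ ≃+* ℂ}, s (Complex.exp (2 * Real.pi * Complex.I / (g' : ℕ))) =
          Complex.exp (2 * Real.pi * Complex.I / (g' : ℕ)) → s ((χ : G → ℂ) g) = (χ : G → ℂ) g :=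
        fun hs => Char.fix_char_of_fix_exp hs (Char.isCharacter_irr χ) (hsplit ▸ orderOf_dvd_natCard g)
      show σ ((χ : G → ℂ) g) = τ ((χ : G → ℂ) g)
      rw [hfix hσ, hfix hτ]
    rw [hr1, one_mul, Nat.factorization_eq_zero_of_not_dvd fun h => hg' ?_]
    exact hsplit ▸ h.trans (Char.degree_dvd_card χ (charDegree_eq χ).1)
  · subst hr
    exact core hp (by rw [← hsplit, mul_comm]) hg' χ (S := {ψ | _}) fun ψ => Iff.rfl

end Cfsg.Agent.S4506
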