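import Cfsg.Statements.S4507
import Cfsg.Agent.Lib.Block.Cyclic.SylowGalois
-- import your own Cfsg.Agent.* helpers here

set_option autoImplicit false
open Cfsg CfsgLib.Block

open Cfsg

namespace Cfsg.Agent.S4507

/-- Let G be a finite group whose order g is divisible by the prime p exactly once, g′ = g/p, and fix a maximal ideal M of the algebraic integers containing p. Call two irreducible characters p-conjugate when a field automorphism of ℂ fixing the g′-th roots of unity carries one to the other. Let B be a p-block of positive defect (its defect group is a Sylow p-subgroup). Then B contains a subset Y (the exceptional family) such that: Y is a full p-conjugacy class (its members are pairwise p-conjugate and every p-conjugate of a member of Y lies in Y); every member of B outside Y is p-conjugate only to itself; the size t of Y divides p − 1 and B has exactly t + (p − 1)/t members; and there are signs δ_χ = ±1 (χ ∈ B) such that for every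 p-regular element x and every θ ∈ Y, Σ_{χ ∈ B ∖ Y} δ_χ χ(x) + δ_θ θ(x) = 0. -/
theorem result {G : Type*} [Group G] [Finite G] (p : ℕ) [Fact p.Prime] (M : Ideal Cfsg.AlgInt) (hM : Cfsg.IsPModular p M) (hdiv : p ∣ Nat.card G) (hsq : ¬ p ^ 2 ∣ Nat.card G) (B : Set (Cfsg.IrrCharacter G)) (hB : Cfsg.IsPBlock M B) (hd : 0 < Cfsg.blockDefect p B) : ∃ Y : Set (Cfsg.IrrCharacter G), Y ⊆ B ∧ Y.Nonempty ∧ (∀ θ ∈ Y, ∀ ψ : Cfsg.IrrCharacter G, (∃ σ : ℂ ≃+* ℂ, σ (Complex.exp (2 * Real.pi * Complex.I / ((Nat.card G / p ^ (Nat.card G).factorization p) : ℕ))) = Complex.exp (2 * Real.pi * Complex.I / ((Nat.card G / p ^ (Nat.card G).factorization p) : ℕ)) ∧ (ψ : G → ℂ) = fun g => σ ((θ : G → ℂ) g)) ↔ ψ ∈ Y) ∧ (∀ χ ∈ B, χ ∉ Y → ∀ ψ : Cfsg.IrrCharacter G, (∃ σ : ℂ ≃+* ℂ, σ (Complex.exp (2 * Real.pi * Complex.I / ((Nat.card G / p ^ (Nat.card G).factorization p) : ℕ))) = Complex.exp (2 * Real.pi * Complex.I / ((Nat.card G / p ^ (Nat.card G).factorization p) : ℕ))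 ∧ (ψ : G → ℂ) = fun g => σ ((χ : G → ℂ) g)) → ψ = χ) ∧ Nat.card Y ∣ p - 1 ∧ Nat.card B = Nat.card Y + (p - 1) / Nat.card Y ∧ ∃ δ : Cfsg.IrrCharacter G → ℤ, (∀ χ ∈ B, δ χ = 1 ∨ δ χ = -1) ∧ ∀ x : G, ¬ p ∣ orderOf x → ∀ θ ∈ Y, (∑ᶠ χ ∈ B \ Y, (δ χ : ℂ) * (χ : G → ℂ) x) + (δ θ : ℂ) * (θ : G → ℂ) x = 0 := by
  classical
  have := hM.2.1
  let _ := Fintype.ofFinite G
  have hp : p.Prime := Fact.out
  obtain ⟨D, hDK, hBD⟩ := CfsgLib.Block.Cyclic.CycSetup.exists_of_defect_pos hM hsq hB hd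
  obtain ⟨E⟩ := D.exists_exceptional_family hM hBD
  set n := Nat.card G / p ^ (Nat.card G).factorization p with hn
  obtain ⟨hcop, hn0⟩ := CfsgLib.Block.Cyclic.CycSetup.card_pPrime_coprime (p := p) (G := G)
  have : NeZero n := ⟨hn0⟩
  have hcard : Nat.card (Set.range E.Y) * Nat.card D.expE = p - 1 := by
    rw [Nat.card_range_of_injective E.inj, ← D.expE.card_eq_card_quotient_mul_card_subgroup,
      Nat.card_eq_fintype_card, ZMod.card_units_eq_totient, Nat.totient_prime hp]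
  refine ⟨Set.range E.Y, fun χ hχ => (E.mem χ).mpr (Or.inr hχ), Set.range_nonempty _, ?_, ?_,
    Dvd.intro _ hcard, ?_, fun χ => if E.u χ = 0 then E.δ else E.u χ, ?_, ?_⟩
  · rintro θ ⟨k, rfl⟩ ψ
    constructor
    · rintro ⟨σ, hσ, hψ⟩
      obtain ⟨a, ha⟩ := CfsgLib.Block.Cyclic.exists_unit_map_stdPsi p σ
      exact ⟨_, Subtype.ext ((funext fun g => (E.twist_Y hBD hn hσ ha k g).symm).trans hψ.symm)⟩
    · rintro ⟨l, rfl⟩
      obtain ⟨a, ha⟩ := QuotientGroup.mk_surjective (l * k⁻¹)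
      obtain ⟨σ, hσ, hσa⟩ := CfsgLib.Block.Cyclic.exists_aut_stdPsi p hn0 hcop a
      refine ⟨σ, hσ, funext fun g => ?_⟩
      show _ = σ _
      rw [E.twist_Y hBD hn hσ hσa k g, ha, inv_mul_cancel_right]
  · rintro χ hχ hχY ψ ⟨σ, hσ, hψ⟩
    have hu : E.u χ ≠ 0 := ((E.mem χ).mp hχ).resolve_right hχY
    exact Subtype.ext (hψ.trans (funext fun g => E.twist_u hBD hn hσ hu g))
  · rw [E.card_block, ← hcard, Nat.mul_div_cancel_left _ (Nat.card_pos (α := Set.range E.Y)),
      hcard, E.card_range, add_comm]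
  · intro χ _
    show (if E.u χ = 0 then E.δ else E.u χ) = 1 ∨ (if E.u χ = 0 then E.δ else E.u χ) = -1
    split_ifs with h
    · exact E.sign
    · exact (E.u_cases χ).resolve_left h
  · rintro x hx θ ⟨k, rfl⟩
    have hset : B \ Set.range E.Y = {χ | E.u χ ≠ 0} := by
      ext χ
      simp only [Set.mem_diff, E.mem, Set.mem_ofPred_eq]
      refine ⟨fun h => h.1.resolve_right h.2, fun h => ⟨Or.inl h, ?_⟩⟩
      rintro ⟨l, rfl⟩
      exact h (E.u_Y l)
    simp only [hset, E.u_Y, if_true]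
    refine Eq.trans ?_ (E.relation k hx)
    congr 1
    refine finsum_mem_congr rfl fun χ hχ => ?_
    rw [if_neg hχ]

end Cfsg.Agent.S4507
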