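import Cfsg.Statements.S4508
import Cfsg.Agent.Lib.Char.SelfCentPrime
import Cfsg.Agent.Lib.Char.Linear
import Cfsg.Agent.Lib.Char.ExtendChar
import Cfsg.Agent.Lib.Char.Vanish
import Cfsg.Agent.Lib.Char.EigenDegree

set_option autoImplicit false
open Cfsg

namespace Cfsg.Agent.S4508

namespace Aux

open scoped ComplexConjugate
open CfsgLib.Char CfsgLib.Char.SelfCentPrime

variable {G : Type*} [Group G] [Fintype G] {p : ℕ} {x : G} [Fintype (Subgroup.zpowers x)]

local notation "P" => Subgroup.zpowers x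
local notation "N" => Subgroup.normalizer (Subgroup.zpowers x : Set G)

noncomputable def aa (χ : IrrCharacter G) (ν : P →* ℂˣ) : ℂ :=
  classInner (fun y : P => (χ : G → ℂ) y) (fun y => ((ν y : ℂˣ) : ℂ))

noncomputable def tw (n : N) (ν : P →* ℂˣ) : P →* ℂˣ :=
  ν.comp (Subgroup.normalizerMonoidHom (Subgroup.zpowers x) n).toMonoidHom

theorem aa_nat (χ : IrrCharacter G) (ν : P →* ℂˣ) : ∃ m : ℕ, aa χ ν = m :=
  classInner_char_irr_nat (isCharacter_comp (isCharacter_irr χ) (Subgroup.zpowers x).subtype)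
    ((linearCharEquiv ν).1)

theorem orth (ν μ : P →* ℂˣ) [Decidable (ν = μ)] :
    classInner (fun y : P => ((ν y : ℂˣ) : ℂ)) (fun y => ((μ y : ℂˣ) : ℂ)) = if ν = μ then 1 else 0 := by
  classical
  refine (classInner_irr (linearCharEquiv ν).1 (linearCharEquiv μ).1).trans ?_
  by_cases h : ν = μ
  · subst h; simp
  · rw [if_neg h, if_neg fun e => h (linearCharEquiv.injective (Subtype.ext e))]

theorem conj_eq (hh : Hyp p x) {g y : G} (hy : y ∈ P) (hy1 : y ≠ 1) (hz : g * y * g⁻¹ ∈ P) :
    g ∈ N := by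
  have key : ∀ u ∈ P, g * u * g⁻¹ ∈ P := by
    intro u hu
    rw [← hh.P_eq_zpowers hy hy1] at hu
    obtain ⟨i, rfl⟩ := hu
    show g * y ^ i * g⁻¹ ∈ P
    rw [← conj_zpow]
    exact (Subgroup.zpowers x).zpow_mem hz i
  have e : (Subgroup.zpowers x).map (MulAut.conj g).toMonoidHom = Subgroup.zpowers x := by
    refine Subgroup.eq_of_le_of_card_ge ?_ ?_
    · rintro _ ⟨u, hu, rfl⟩; exact key u hu
    · exact (Nat.card_congr ((Subgroup.zpowers x).equivMapOfInjective _ (MulAut.conj g).injective).toEquiv).le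
  rw [Subgroup.mem_normalizer_iff]
  refine fun u => ⟨key u, fun hu => ?_⟩
  rw [← e] at hu
  obtain ⟨v, hv, hvu⟩ := hu
  rwa [← (MulAut.conj g).injective hvu]

theorem cent_eq (hh : Hyp p x) {y : G} (hy : y ∈ P) (hy1 : y ≠ 1) :
    Subgroup.centralizer ({y} : Set G) = P := by
  refine le_antisymm (fun u hu => ?_) fun u hu => ?_
  · rw [Subgroup.mem_centralizer_singleton_iff] at hu
    obtain ⟨i, hi⟩ := Subgroup.mem_zpowers_iff.mp
      ((hh.P_eq_zpowers hy hy1).symm ▸ Subgroup.mem_zpowers x : x ∈ Subgroup.zpowers y)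
    exact hh.mem_P_of_comm (hi ▸ (show Commute u y from hu).zpow_right i).eq
  · rw [← hh.cent_P] at hu
    exact Subgroup.mem_centralizer_singleton_iff.mpr (Subgroup.mem_centralizer_iff.mp hu y hy).symm

theorem conj_count (hh : Hyp p x) [Fintype N] [DecidableEq P] {y : P} (hy : y ≠ 1) (z : P)
    [Decidable (IsConj (y : G) (z : G))] :
    (if IsConj (y : G) (z : G) then (Nat.card (Subgroup.centralizer ({(y : G)} : Set G)) : ℂ) else 0) =
      ∑ n : N, if Subgroup.normalizerMonoidHom (Subgroup.zpowers x) n y = z then 1 else 0 := by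
  have hy1 : (y : G) ≠ 1 := fun e => hy (Subtype.ext e)
  rw [Finset.sum_boole]
  split_ifs with h
  · obtain ⟨g, hg⟩ := isConj_iff.mp h
    have hgN : g ∈ N := conj_eq hh y.2 hy1 (hg.symm ▸ z.2)
    congr 1
    rw [cent_eq hh y.2 hy1, ← Fintype.card_subtype, ← Nat.card_eq_fintype_card]
    refine Nat.card_congr
      { toFun := fun u => ⟨⟨g * u, mul_mem hgN (Subgroup.le_normalizer u.2)⟩, Subtype.ext ?_⟩
        invFun := fun n => ⟨g⁻¹ * n.1.1, ?_⟩
        left_inv := fun u => Subtype.ext (inv_mul_cancel_left g u)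
        right_inv := fun n => Subtype.ext (Subtype.ext (mul_inv_cancel_left g _)) }
    · show g * u * (y : G) * (g * u)⁻¹ = z
      have hu : (u : G) ∈ Subgroup.centralizer ({(y : G)} : Set G) := by
        rw [cent_eq hh y.2 hy1]; exact u.2
      rw [← hg, mul_assoc g (u : G) y, Subgroup.mem_centralizer_singleton_iff.mp hu]
      group
    · refine (cent_eq hh y.2 hy1).le ?_
      rw [Subgroup.mem_centralizer_singleton_iff]
      have := congrArg Subtype.val n.2
      change (n.1 : G) * y * (n.1 : G)⁻¹ = z at this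
      rw [← hg] at this
      calc g⁻¹ * (n.1 : G) * y = g⁻¹ * ((n.1 : G) * y * (n.1 : G)⁻¹) * n.1 := by group
        _ = y * (g⁻¹ * n.1) := by rw [this]; group
  · symm
    rw [Nat.cast_eq_zero, Finset.card_eq_zero, Finset.filter_eq_empty_iff]
    intro n _ e
    exact h (isConj_iff.mpr ⟨n, (congrArg Subtype.val e :)⟩)

theorem sum_norm (hh : Hyp p x) [Fintype N] [Fintype (IrrCharacter G)] (ν μ : P →* ℂˣ) :
    (p : ℂ) * ∑ χ : IrrCharacter G, (aa χ ν - aa χ μ) * conj (aa χ ν - aa χ μ) =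
      ∑ n : N, (classInner (fun y : P => ((tw n ν y : ℂˣ) : ℂ)) (fun y => ((ν y : ℂˣ) : ℂ))
        - classInner (fun y : P => ((tw n ν y : ℂˣ) : ℂ)) (fun y => ((μ y : ℂˣ) : ℂ))
        - classInner (fun y : P => ((tw n μ y : ℂˣ) : ℂ)) (fun y => ((ν y : ℂˣ) : ℂ))
        + classInner (fun y : P => ((tw n μ y : ℂˣ) : ℂ)) (fun y => ((μ y : ℂˣ) : ℂ))) := by
  classical
  have hp0 : (p : ℂ) ≠ 0 := Nat.cast_ne_zero.mpr hh.prime.ne_zero
  let f : P → ℂ := fun y => ((ν y : ℂˣ) : ℂ) - ((μ y : ℂˣ) : ℂ)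
  have hd : ∀ χ : IrrCharacter G, aa χ ν - aa χ μ = (p : ℂ)⁻¹ * ∑ y : P, (χ : G → ℂ) y * conj (f y) := by
    intro χ
    simp only [aa, classInner, hh.card_P, f, map_sub, mul_sub, Finset.sum_sub_distrib]
  calc (p : ℂ) * ∑ χ : IrrCharacter G, (aa χ ν - aa χ μ) * conj (aa χ ν - aa χ μ)
      = (p : ℂ)⁻¹ * ∑ y : P, ∑ z : P, conj (f y) * f z *
          ∑ χ : IrrCharacter G, (χ : G → ℂ) y * conj ((χ : G → ℂ) z) := by
        simp only [hd, map_mul, map_sum, map_inv₀, map_natCast, Complex.conj_conj, Finset.mul_sum, Finset.sum_mul]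
        rw [Finset.sum_comm]
        conv_rhs => rw [Finset.sum_comm]
        refine Finset.sum_congr rfl fun z _ => ?_
        rw [Finset.sum_comm]
        refine Finset.sum_congr rfl fun y _ => Finset.sum_congr rfl fun χ _ => ?_
        field_simp
    _ = (p : ℂ)⁻¹ * ∑ y : P, ∑ n : N, conj (f y) * f (Subgroup.normalizerMonoidHom (Subgroup.zpowers x) n y) := by
        refine congrArg _ (Finset.sum_congr rfl fun y _ => ?_)
        by_cases hy : y = 1
        · subst hy; simp [f]
        rw [Finset.sum_congr rfl fun z _ => by rw [sum_irr_mul_conj, conj_count hh hy z, Finset.mul_sum]]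
        rw [Finset.sum_comm]
        refine Finset.sum_congr rfl fun n _ => ?_
        simp
    _ = _ := by
        rw [Finset.sum_comm, Finset.mul_sum]
        refine Finset.sum_congr rfl fun n _ => ?_
        simp only [classInner, hh.card_P, ← mul_sub, ← mul_add, ← Finset.sum_sub_distrib, ← Finset.sum_add_distrib]
        refine congrArg _ (Finset.sum_congr rfl fun y _ => ?_)
        simp only [tw, MonoidHom.comp_apply, MulEquiv.coe_toMonoidHom, f, map_sub]
        ring

theorem stab (hh : Hyp p x) {ν : P →* ℂˣ} (hν : ν ≠ 1) {n : N} (h : tw n ν = ν) : (n : G) ∈ P := by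
  have hinj : Function.Injective ν := by
    haveI : Fact p.Prime := ⟨hh.prime⟩
    rw [← MonoidHom.ker_eq_bot_iff]
    refine (ν.ker.eq_bot_or_eq_top_of_prime_card (hp := ⟨hh.card_P ▸ hh.prime⟩)).resolve_right fun e => hν ?_
    exact MonoidHom.ker_eq_top_iff.mp e
  refine hh.mem_P_of_comm ?_
  have := congrArg Subtype.val (hinj (DFunLike.congr_fun h ⟨x, Subgroup.mem_zpowers x⟩))
  change (n : G) * x * (n : G)⁻¹ = x at this
  calc (n : G) * x = (n : G) * x * (n : G)⁻¹ * n := by group
    _ = x * n := by rw [this]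

theorem card_stab (hh : Hyp p x) [Fintype N] {ν : P →* ℂˣ} (hν : ν ≠ 1) [DecidableEq (P →* ℂˣ)] :
    (Finset.univ.filter fun n : N => tw n ν = ν).card ≤ p := by
  classical
  rw [← hh.card_P, Nat.card_eq_fintype_card, ← Finset.card_univ]
  refine Finset.card_le_card_of_injOn (fun n : N => if h : (n : G) ∈ P then (⟨n, h⟩ : P) else 1)
    (fun _ _ => Finset.mem_coe.mpr (Finset.mem_univ _)) ?_
  intro a ha b hb e
  have ha' := stab hh hν (Finset.mem_filter.mp ha).2
  have hb' := stab hh hν (Finset.mem_filter.mp hb).2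
  simp only [dif_pos ha', dif_pos hb'] at e
  exact Subtype.ext (congrArg Subtype.val e :)

theorem sum_norm_int (hh : Hyp p x) [Fintype N] [Fintype (IrrCharacter G)] [DecidableEq (P →* ℂˣ)]
    (ν μ : P →* ℂˣ) (a b : IrrCharacter G → ℕ) (ha : ∀ χ, aa χ ν = a χ) (hb : ∀ χ, aa χ μ = b χ) :
    (p : ℤ) * ∑ χ : IrrCharacter G, ((a χ : ℤ) - b χ) ^ 2 =
      ∑ n : N, ((if tw n ν = ν then (1 : ℤ) else 0) - (if tw n ν = μ then 1 else 0)
        - (if tw n μ = ν then 1 else 0) + (if tw n μ = μ then 1 else 0)) := by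
  have h := sum_norm hh ν μ
  simp only [ha, hb, orth, map_sub, map_natCast] at h
  refine Int.cast_injective (α := ℂ) ?_
  push_cast
  simp only [sq]
  exact h

theorem tw_one (n : N) : tw n (1 : P →* ℂˣ) = 1 := MonoidHom.one_comp _

theorem tw_ne_one (n : N) {ν : P →* ℂˣ} (hν : ν ≠ 1) : tw n ν ≠ 1 := fun e => hν (by
  refine MonoidHom.ext fun y => ?_
  have := DFunLike.congr_fun e ((Subgroup.normalizerMonoidHom (Subgroup.zpowers x) n).symm y)
  simpa [tw] using this)

theorem fibre (hh : Hyp p x) [Fintype N] [DecidableEq (P →* ℂˣ)] {ν : P →* ℂˣ} (hν : ν ≠ 1)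
    (μ : P →* ℂˣ) : (Finset.univ.filter fun n : N => tw n ν = μ).card ≤ p := by
  rcases (Finset.univ.filter fun n : N => tw n ν = μ).eq_empty_or_nonempty with h | ⟨m, hm⟩
  · simp [h]
  refine le_trans ?_ (card_stab hh hν)
  have hm' := (Finset.mem_filter.mp hm).2
  refine Finset.card_le_card_of_injOn (fun n => n * m⁻¹) (fun n hn => ?_) fun a _ b _ e => mul_right_cancel e
  have hn' := (Finset.mem_filter.mp (Finset.mem_coe.mp hn)).2
  refine Finset.mem_coe.mpr (Finset.mem_filter.mpr ⟨Finset.mem_univ _, MonoidHom.ext fun y => ?_⟩)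
  have := DFunLike.congr_fun (hn'.trans hm'.symm) ((Subgroup.normalizerMonoidHom (Subgroup.zpowers x) m⁻¹) y)
  simp only [tw, MonoidHom.comp_apply, MulEquiv.coe_toMonoidHom, map_mul, MulAut.mul_apply] at this ⊢
  rw [this, ← MulAut.mul_apply, ← map_mul, mul_inv_cancel, map_one, MulAut.one_apply]

theorem aa_tw (χ : IrrCharacter G) (n : N) (ν : P →* ℂˣ) : aa χ (tw n ν) = aa χ ν := by
  unfold aa classInner
  refine congrArg _ (Fintype.sum_equiv (Subgroup.normalizerMonoidHom (Subgroup.zpowers x) n).toEquiv _ _ fun y => ?_)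
  show (χ : G → ℂ) y * conj ((ν (Subgroup.normalizerMonoidHom (Subgroup.zpowers x) n y) : ℂˣ) : ℂ) =
    (χ : G → ℂ) ((n : G) * y * (n : G)⁻¹) * _
  rw [isClassFunction_irr χ (y : G) (n : G)]
  rfl

theorem sum_aa (hh : Hyp p x) [Fintype (P →* ℂˣ)] (χ : IrrCharacter G) :
    ∑ ν : P →* ℂˣ, aa χ ν = (χ : G → ℂ) 1 := by
  classical
  have hp0 : (p : ℂ) ≠ 0 := Nat.cast_ne_zero.mpr hh.prime.ne_zero
  have := Fintype.ofFinite (IrrCharacter P)
  have hcomm : ∀ a b : P, a * b = b * a := fun a b => mul_comm' a b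
  let e : (P →* ℂˣ) ≃ IrrCharacter P := linearCharEquiv.trans
    (Equiv.subtypeUnivEquiv fun ψ => degree_one_of_comm hcomm ψ)
  calc ∑ ν : P →* ℂˣ, aa χ ν
      = ∑ ψ : IrrCharacter P, (Nat.card P : ℂ)⁻¹ * ∑ y : P, (χ : G → ℂ) y * conj ((ψ : P → ℂ) y) :=
        Fintype.sum_equiv e _ _ fun ν => rfl
    _ = (Nat.card P : ℂ)⁻¹ * ∑ y : P, (χ : G → ℂ) y *
          ∑ ψ : IrrCharacter P, (ψ : P → ℂ) 1 * conj ((ψ : P → ℂ) y) := by
        rw [← Finset.mul_sum, Finset.sum_comm]
        simp only [Finset.mul_sum, degree_one_of_comm hcomm, one_mul]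
    _ = _ := by
        rw [Finset.sum_eq_single_of_mem (1 : P) (Finset.mem_univ _) fun y _ hy => by
          rw [sum_irr_mul_conj, if_neg fun e => hy (isConj_one_right.mp e), mul_zero]]
        rw [sum_irr_mul_conj, if_pos (IsConj.refl _)]
        have h1 : Subgroup.centralizer ({(1 : P)} : Set P) = ⊤ := eq_top_iff.mpr fun a _ => by
          rw [Subgroup.mem_centralizer_singleton_iff, mul_one, one_mul]
        rw [h1, Subgroup.card_top, hh.card_P, OneMemClass.coe_one]
        field_simp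

theorem aa_one_zero (hh : Hyp p x) (hne : N ≠ P) (hp2 : p ≠ 2) (χ : IrrCharacter G)
    (hχ : (χ : G → ℂ) 1 + 1 = p) : aa (x := x) χ 1 = 0 := by
  classical
  have := Fintype.ofFinite (IrrCharacter G)
  have := Fintype.ofFinite N
  have : Finite (P →* ℂˣ) := Finite.of_equiv _ linearCharEquiv.symm
  have := Fintype.ofFinite (P →* ℂˣ)
  have hnat : ∀ (η : IrrCharacter G) (ν : P →* ℂˣ), ∃ m : ℕ, aa η ν = m := fun η ν => aa_nat η ν
  choose a ha using hnat
  have hp := hh.prime
  set e := Subgroup.relIndex P N with he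
  have hN : Nat.card N = p * e := by
    rw [← Subgroup.relIndex_bot_left, ← Subgroup.relIndex_mul_relIndex ⊥ P N bot_le Subgroup.le_normalizer,
      Subgroup.relIndex_bot_left, hh.card_P]
  have he2 : 2 ≤ e := by
    have h0 : e ≠ 0 := Subgroup.index_ne_zero_of_finite
    have h1 : e ≠ 1 := fun e1 => hne (le_antisymm (Subgroup.relIndex_eq_one.mp e1) Subgroup.le_normalizer)
    omega
  let one : IrrCharacter G := ⟨fun g => (((1 : G →* ℂˣ) g : ℂˣ) : ℂ), isIrrCharacter_lin 1⟩
  have hχ1 : χ ≠ one := fun e1 => hp2 (by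
    have : ((p : ℕ) : ℂ) = 2 := by
      rw [← hχ, e1]; show (((1 : G →* ℂˣ) (1 : G) : ℂˣ) : ℂ) + 1 = 2
      simp; norm_num
    exact_mod_cast this)
  have hone : ∀ ν : P →* ℂˣ, a one ν = if ν = 1 then 1 else 0 := by
    intro ν
    have h := orth (1 : P →* ℂˣ) ν
    have h2 : aa one ν = classInner (fun y : P => (((1 : P →* ℂˣ) y : ℂˣ) : ℂ)) (fun y => ((ν y : ℂˣ) : ℂ)) := rfl
    rw [← h2, ha] at h
    split_ifs with h3
    · subst h3; simpa using h
    · rw [if_neg (Ne.symm h3)] at h; exact_mod_cast h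
  by_contra h0
  have ha0 : 1 ≤ a χ 1 := Nat.one_le_iff_ne_zero.mpr fun e1 => h0 (by rw [ha, e1, Nat.cast_zero])
  have hsum : ∑ ν : P →* ℂˣ, a χ ν + 1 = p := by
    have h := sum_aa hh χ
    simp only [ha] at h
    have : ((∑ ν : P →* ℂˣ, a χ ν : ℕ) : ℂ) + 1 = (p : ℂ) := by rw [Nat.cast_sum, h, hχ]
    exact_mod_cast this
  have hcard : Fintype.card (P →* ℂˣ) = p := by
    rw [← Nat.card_eq_fintype_card, Nat.card_congr linearCharEquiv, card_linear]
    rw [show commutator P = ⊥ from Subgroup.commutator_eq_bot_iff_le_centralizer.mpr fun a _ => by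
      rw [Subgroup.mem_centralizer_iff]; exact fun b _ => mul_comm' b a]
    rw [Subgroup.index_bot, hh.card_P]
  -- some nontrivial multiplicity vanishes
  obtain ⟨ν₀, hν₀, hz⟩ : ∃ ν : P →* ℂˣ, ν ≠ 1 ∧ a χ ν = 0 := by
    by_contra hc
    push Not at hc
    have : ∑ ν : P →* ℂˣ, 1 ≤ ∑ ν : P →* ℂˣ, a χ ν := Finset.sum_le_sum fun ν _ => by
      by_cases hν : ν = 1
      · exact hν ▸ ha0
      · exact Nat.one_le_iff_ne_zero.mpr (hc ν hν)
    rw [Finset.sum_const, Finset.card_univ, hcard, smul_eq_mul, mul_one] at this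
    omega
  -- bound against the trivial character
  have hB : (a χ 1 : ℤ) ^ 2 ≤ e := by
    have h := sum_norm_int hh 1 ν₀ (fun η => a η 1) (fun η => a η ν₀) (fun η => ha η 1) fun η => ha η ν₀
    simp only [tw_one, if_true, if_neg (Ne.symm hν₀), tw_ne_one _ hν₀, if_false, sub_zero] at h
    rw [Finset.sum_add_distrib, Finset.sum_const, Finset.card_univ, ← Nat.card_eq_fintype_card, hN,
      Finset.sum_boole] at h
    have hf := card_stab hh hν₀
    have hsub : ((a one 1 : ℤ) - a one ν₀) ^ 2 + ((a χ 1 : ℤ) - a χ ν₀) ^ 2 ≤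
        ∑ η : IrrCharacter G, ((a η 1 : ℤ) - a η ν₀) ^ 2 := by
      rw [← Finset.sum_pair (f := fun η => ((a η 1 : ℤ) - a η ν₀) ^ 2) (Ne.symm hχ1)]
      exact Finset.sum_le_sum_of_subset_of_nonneg (Finset.subset_univ _) fun η _ _ => sq_nonneg _
    rw [hone, hone, if_pos rfl, if_neg hν₀, hz] at hsub
    simp only [Nat.cast_one, Nat.cast_zero, sub_zero, one_pow] at hsub
    push_cast at h
    have hf' : ((Finset.univ.filter fun n : N => tw n ν₀ = ν₀).card : ℤ) ≤ p := by exact_mod_cast hf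
    simp only [nsmul_eq_mul, mul_one] at h
    push_cast at h
    have hp' : (0 : ℤ) < p := by exact_mod_cast hp.pos
    nlinarith [mul_le_mul_of_nonneg_left hsub hp'.le]
  -- multiplicities of nontrivial characters are at most one
  have hle : ∀ ν : P →* ℂˣ, ν ≠ 1 → a χ ν ≤ 1 := by
    intro ν hν
    have h := sum_norm_int hh ν ν₀ (fun η => a η ν) (fun η => a η ν₀) (fun η => ha η ν) fun η => ha η ν₀
    have h1 : ((a χ ν : ℤ) - a χ ν₀) ^ 2 ≤ ∑ η : IrrCharacter G, ((a η ν : ℤ) - a η ν₀) ^ 2 :=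
      Finset.single_le_sum (f := fun η => ((a η ν : ℤ) - a η ν₀) ^ 2) (fun η _ => sq_nonneg _) (Finset.mem_univ χ)
    have h2 : (p : ℤ) * ∑ η : IrrCharacter G, ((a η ν : ℤ) - a η ν₀) ^ 2 ≤ p * 2 := by
      rw [h]
      calc _ ≤ ∑ n : N, ((if tw n ν = ν then (1 : ℤ) else 0) + if tw n ν₀ = ν₀ then 1 else 0) := by
            refine Finset.sum_le_sum fun n _ => ?_
            split_ifs <;> norm_num
        _ ≤ _ := by
            rw [Finset.sum_add_distrib, Finset.sum_boole, Finset.sum_boole]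
            have e1 : ((Finset.univ.filter fun n : N => tw n ν = ν).card : ℤ) ≤ p := by
              exact_mod_cast card_stab hh hν
            have e2 : ((Finset.univ.filter fun n : N => tw n ν₀ = ν₀).card : ℤ) ≤ p := by
              exact_mod_cast card_stab hh hν₀
            refine le_trans (le_of_eq ?_) ((add_le_add e1 e2).trans (le_of_eq (by ring)))
            congr!
    have h3 := le_trans h1 (le_of_mul_le_mul_left h2 (by exact_mod_cast hp.pos))
    rw [hz, Nat.cast_zero, sub_zero] at h3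
    by_contra hc
    have : (2 : ℤ) ≤ a χ ν := by exact_mod_cast Nat.lt_of_not_le hc
    nlinarith
  -- zeros come in orbits of length `e`
  set Z := Finset.univ.filter fun ν : P →* ℂˣ => ν ≠ 1 ∧ a χ ν = 0 with hZ
  have hZe : e ≤ Z.card := by
    have h : Nat.card N ≤ p * Z.card := by
      rw [Nat.card_eq_fintype_card, ← Finset.card_univ]
      refine Finset.card_le_mul_card_image_of_maps_to (f := fun n : N => tw n ν₀) (fun n _ => ?_) p
        fun μ _ => fibre hh hν₀ μ
      refine Finset.mem_filter.mpr ⟨Finset.mem_univ _, tw_ne_one n hν₀, ?_⟩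
      have := aa_tw χ n ν₀
      rw [ha, ha, hz, Nat.cast_zero] at this
      exact_mod_cast this
    rw [hN] at h
    exact Nat.le_of_mul_le_mul_left h hp.pos
  have hS : ∑ ν : P →* ℂˣ, a χ ν + Z.card = a χ 1 + (p - 1) := by
    rw [← Finset.add_sum_erase _ _ (Finset.mem_univ (1 : P →* ℂˣ)), add_assoc]
    congr 1
    rw [← hcard, ← Finset.card_univ, ← Finset.card_erase_of_mem (Finset.mem_univ (1 : P →* ℂˣ)),
      show Z = (Finset.univ.erase (1 : P →* ℂˣ)).filter (fun ν => a χ ν = 0) by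
        ext ν; simp [hZ, and_comm],
      Finset.card_filter, ← Finset.sum_add_distrib, Finset.card_eq_sum_ones]
    refine Finset.sum_congr rfl fun ν hν => ?_
    have := hle ν (Finset.ne_of_mem_erase hν)
    split_ifs <;> omega
  have hge : (e : ℤ) ≤ a χ 1 := by exact_mod_cast (show e ≤ a χ 1 by omega)
  have he2' : (2 : ℤ) ≤ e := by exact_mod_cast he2
  nlinarith

theorem vanish (hh : Hyp p x) {d : ℕ} (ρ : Representation ℂ G (Fin d → ℂ))
    (h0 : classInner (fun y : P => ρ.character y) (fun _ => (1 : ℂ)) = 0) {c : G} (hcN : c ∈ N) (hcP : c ∉ P) : ρ.character c = 0 := by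
  classical
  let σ : Representation ℂ P (Fin d → ℂ) := ρ.comp (Subgroup.zpowers x).subtype
  have hinv : Module.finrank ℂ σ.invariants = 0 := by
    have h := classInner_one_eq_finrank_fixed σ
    rw [show classInner σ.character (fun _ => (1 : ℂ)) =
      classInner (fun y : P => ρ.character y) (fun _ => (1 : ℂ)) from rfl, h0] at h
    exact_mod_cast h.symm
  have hbot : σ.invariants = ⊥ := Submodule.finrank_eq_zero.mp hinv
  have hsum : ∑ y : P, ρ y = 0 := by
    refine LinearMap.ext fun v => ?_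
    have hm : (∑ y : P, ρ y) v ∈ σ.invariants := fun z => by
      show ρ z ((∑ y : P, ρ y) v) = _
      rw [LinearMap.sum_apply, map_sum]
      exact Fintype.sum_equiv (Equiv.mulLeft z) _ _ fun y => by
        rw [← Module.End.mul_apply, ← map_mul]; rfl
    rw [hbot, Submodule.mem_bot] at hm
    rw [hm]; rfl
  have htr : ∑ y : P, ρ.character (c * y) = 0 := by
    calc ∑ y : P, ρ.character (c * y) = LinearMap.trace ℂ _ (ρ c * ∑ y : P, ρ y) := by
          rw [Finset.mul_sum, map_sum]
          refine Finset.sum_congr rfl fun y _ => ?_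
          rw [Representation.character, map_mul]
      _ = 0 := by rw [hsum, mul_zero, map_zero]
  have hconst : ∀ y : P, ρ.character (c * y) = ρ.character c := by
    let φ : P → P := fun y => ⟨c⁻¹ * y * c * (y : G)⁻¹, mul_mem (by
      simpa using (Subgroup.mem_normalizer_iff.mp (inv_mem hcN) y).mp y.2) (inv_mem y.2)⟩
    have hφ : Function.Injective φ := fun a b e => by
      have e' : c⁻¹ * a * c * (a : G)⁻¹ = c⁻¹ * b * c * (b : G)⁻¹ := congrArg Subtype.val e
      by_contra hne
      refine hcP ?_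
      have hy : (b : G)⁻¹ * a ≠ 1 := fun e1 => hne (Subtype.ext (inv_mul_eq_one.mp e1).symm)
      rw [← cent_eq hh (mul_mem (inv_mem b.2) a.2) hy, Subgroup.mem_centralizer_singleton_iff]
      have e2 : (a : G) * c * (a : G)⁻¹ = (b : G) * c * (b : G)⁻¹ := by
        have := congrArg (fun z => c * z) e'
        simpa [mul_assoc] using this
      calc c * ((b : G)⁻¹ * a) = (b : G)⁻¹ * ((b : G) * c * (b : G)⁻¹) * a := by group
        _ = (b : G)⁻¹ * ((a : G) * c * (a : G)⁻¹) * a := by rw [e2]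
        _ = (b : G)⁻¹ * a * c := by group
    intro y
    obtain ⟨z, hz⟩ := Finite.surjective_of_injective hφ y
    rw [← hz]
    show ρ.character (c * (c⁻¹ * z * c * (z : G)⁻¹)) = _
    rw [show c * (c⁻¹ * z * c * (z : G)⁻¹) = (z : G) * c * (z : G)⁻¹ by group, Representation.char_conj]
  rw [Finset.sum_congr rfl fun y _ => hconst y, Finset.sum_const, nsmul_eq_mul] at htr
  exact (mul_eq_zero.mp htr).resolve_left (Nat.cast_ne_zero.mpr Finset.univ_nonempty.card_pos.ne')

/-- Determinant of an element whose proper powers have trace zero. -/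
theorem det_eq {H : Type*} [Group H] [Finite H] {n : ℕ} (τ : Representation ℂ H (Fin n → ℂ))
    (d : H) {k : ℕ} (hk : k * orderOf d = n)
    (h0 : ∀ c ∈ Subgroup.zpowers d, c ≠ 1 → τ.character c = 0) :
    LinearMap.det (τ d) = ((-1 : ℂ) ^ (orderOf d - 1)) ^ k := by
  classical
  haveI := Fintype.ofFinite H
  haveI := Fintype.ofFinite (Subgroup.zpowers d)
  let C := Subgroup.zpowers d
  have hm : orderOf d = Nat.card C := (Nat.card_zpowers d).symm
  let fe : Fin (orderOf d) ≃ C := finEquivZPowers (isOfFinOrder_of_finite d)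
  let e : Fin n ≃ Fin k × C :=
    (finCongr hk.symm).trans (finProdFinEquiv.symm.trans (Equiv.prodCongr (Equiv.refl _) fe))
  let π : C → Equiv.Perm (Fin n) := fun c => e.symm.permCongr (Equiv.prodCongrRight fun _ => Equiv.mulLeft c)
  have hπ : ∀ a b, π (a * b) = π b * π a := fun a b => Equiv.ext fun i => by
    obtain ⟨q, hq⟩ : ∃ q, e i = q := ⟨_, rfl⟩
    obtain ⟨q1, q2⟩ := q
    simp [π, hq, mul_comm' a b, mul_assoc]
  have hπ1 : π 1 = 1 := Equiv.ext fun i => by
    obtain ⟨q, hq⟩ : ∃ q, e i = q := ⟨_, rfl⟩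
    obtain ⟨q1, q2⟩ := q
    simp [π, hq]
    rw [← hq, Equiv.symm_apply_apply]
  let σ : Representation ℂ C (Fin n → ℂ) :=
    { toFun := fun c => Matrix.toLin' ((π c).permMatrix ℂ)
      map_one' := by
        have : π 1 = 1 := hπ1
        rw [this]; simp [Module.End.one_eq_id]
      map_mul' := fun a b => by
        rw [hπ, Module.End.mul_eq_comp, ← Matrix.toLin'_mul]
        congr 1
        rw [Matrix.permMatrix_mul] }
  have hchar : σ.character = Representation.character (τ.comp C.subtype) := by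
    funext c
    show LinearMap.trace ℂ _ (Matrix.toLin' ((π c).permMatrix ℂ)) = τ.character c
    rw [Matrix.trace_toLin'_eq, Matrix.trace_permutation]
    by_cases hc : c = 1
    · subst hc
      have : π 1 = 1 := hπ1
      rw [this, OneMemClass.coe_one, Representation.char_one, Module.finrank_fin_fun]
      simp [Set.ncard_univ]
    · rw [h0 c c.2 fun e1 => hc (Subtype.ext e1)]
      have : Function.fixedPoints (π c) = ∅ := Set.eq_empty_iff_forall_notMem.mpr fun i hi => hc (by
        have h := congrArg e hi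
        simp only [π, Equiv.permCongr_apply, Equiv.symm_symm, Equiv.apply_symm_apply] at h
        have h2 := congrArg Prod.snd h
        simpa using h2)
      rw [this]; simp
  obtain ⟨φ⟩ := nonempty_equiv_of_character_eq σ (τ.comp C.subtype) hchar
  have hdet := det_eq_of_equiv φ ⟨d, Subgroup.mem_zpowers d⟩
  change LinearMap.det (τ d) = LinearMap.det (Matrix.toLin' ((π ⟨d, Subgroup.mem_zpowers d⟩).permMatrix ℂ)) at hdet
  rw [hdet, LinearMap.det_toLin', Matrix.det_permutation, Equiv.Perm.sign_permCongr,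
    Equiv.Perm.sign_prodCongrRight, Finset.prod_const, Finset.card_univ, Fintype.card_fin]
  have hrot : Equiv.mulLeft (⟨d, Subgroup.mem_zpowers d⟩ : C) = fe.permCongr (finRotate (orderOf d)) := by
    refine Equiv.ext fun c => ?_
    obtain ⟨i, rfl⟩ := fe.surjective c
    rw [Equiv.permCongr_apply, Equiv.symm_apply_apply]
    refine Subtype.ext ?_
    haveI := i.neZero
    rw [Equiv.coe_mulLeft, finRotate_apply]
    show d * d ^ (i : ℕ) = d ^ ((i + 1 : Fin (orderOf d)) : ℕ)
    rw [Fin.val_add, Fin.val_one', Nat.add_mod_mod, pow_mod_orderOf, pow_succ']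
  rw [hrot, Equiv.Perm.sign_permCongr, sign_finRotate]
  push_cast
  rfl

end Aux

/-- Let the finite group G contain an element x of prime order p with C_G(x) = ⟨x⟩, and let t be the number of conjugacy classes of elements of order p. If G has an irreducible character of degree p − 1, then t is even or the commutator subgroup has even index. -/
theorem result {G : Type*} [Group G] [Finite G] (p : ℕ) (hp : p.Prime) (x : G) (hx : orderOf x = p) (hC : Subgroup.centralizer ({x} : Set G) = Subgroup.zpowers x) (t : ℕ) (ht : Nat.card {C : ConjClasses G // ∃ g ∈ C.carrier, orderOf g = p} = t) (χ : Cfsg.IrrCharacter G) (hχ : Cfsg.charDegree (χ : G → ℂ) + 1 = p) : Even t ∨ Even (commutator G).index := by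
  classical
  haveI := Fintype.ofFinite G
  haveI := Fintype.ofFinite (Subgroup.zpowers x)
  have h : CfsgLib.Char.SelfCentPrime.Hyp p x := ⟨hp, hx, hC⟩
  have ht1 := h.class_count ht
  by_cases hN : Subgroup.normalizer (Subgroup.zpowers x : Set G) = Subgroup.zpowers x
  · have ht' := (h.normalizer_eq_iff ht).mp hN
    rcases hp.eq_two_or_odd' with rfl | hodd
    · exact Or.inr (by rw [(h.case_trivial hN).2.1]; exact even_two)
    · exact Or.inl (by rw [ht']; exact Nat.Odd.sub_odd hodd odd_one)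
  rcases hp.eq_two_or_odd' with rfl | hodd
  · exfalso
    have h1 := h.class_count_relIndex ht
    exact hN ((h.normalizer_eq_iff ht).mpr (Nat.eq_one_of_mul_eq_one_right (h1 : t * _ = 1)))
  by_contra hc
  rw [not_or] at hc
  obtain ⟨htodd, hidx⟩ := hc
  rw [Nat.not_even_iff_odd] at htodd hidx
  have hp2 : p ≠ 2 := fun e => by subst e; exact absurd hodd (by decide)
  have hdeg : (χ : G → ℂ) 1 + 1 = p := by
    rw [CfsgLib.Char.irr_one_eq_charDegree, ← hχ]; push_cast; rfl
  have hz := Aux.aa_one_zero h hN hp2 χ hdeg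
  obtain ⟨n, ρ, -, hρ⟩ := χ.2
  have h0 : Cfsg.classInner (fun y : Subgroup.zpowers x => ρ.character y) (fun _ => (1 : ℂ)) = 0 := by
    rw [hρ]
    refine Eq.trans ?_ hz
    simp [Aux.aa]
  have hn : n + 1 = p := by
    rw [← hρ, Representation.char_one, Module.finrank_fin_fun] at hdeg
    exact_mod_cast hdeg
  haveI : Fact p.Prime := ⟨hp⟩
  haveI : Fact (Nat.Prime 2) := ⟨Nat.prime_two⟩
  set P := Subgroup.zpowers x with hPdef
  set N := Subgroup.normalizer (P : Set G) with hNdef
  let S : Sylow 2 N := default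
  have hker : (Subgroup.normalizerMonoidHom P).ker = P.subgroupOf N := by
    rw [Subgroup.normalizerMonoidHom_ker, h.cent_P]
  have hdisj : ∀ s ∈ (S : Subgroup N), (s : G) ∈ P → s = 1 := by
    intro s hs hsP
    have h1 : orderOf (s : G) ∣ p := by
      have := orderOf_dvd_natCard (⟨(s : G), hsP⟩ : P)
      rwa [h.card_P, Subgroup.orderOf_mk] at this
    obtain ⟨j, hj⟩ := IsPGroup.iff_orderOf.mp S.2 ⟨s, hs⟩
    rw [Subgroup.orderOf_mk] at hj
    rw [Subgroup.orderOf_coe, hj] at h1
    rcases hp.eq_one_or_self_of_dvd _ h1 with e | e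
    · rw [← hj] at e; exact orderOf_eq_one_iff.mp e
    · rcases Nat.eq_zero_or_pos j with rfl | hj'
      · rw [pow_zero] at e; exact absurd e.symm hp.ne_one
      · exact absurd (Nat.prime_dvd_prime_iff_eq Nat.prime_two hp |>.mp (e ▸ dvd_pow_self 2 hj'.ne')) (Ne.symm hp2)
  haveI : IsCyclic P := inferInstance
  haveI : IsCyclic (MulAut P) := by
    haveI : Fact (Nat.card P).Prime := ⟨h.card_P.symm ▸ hp⟩
    exact isCyclic_of_surjective (IsCyclic.mulAutMulEquiv (G := P)).symm.toMonoidHom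
      (IsCyclic.mulAutMulEquiv (G := P)).symm.surjective
  haveI : IsCyclic (S : Subgroup N) := by
    refine isCyclic_of_injective ((Subgroup.normalizerMonoidHom P).comp (S : Subgroup N).subtype) ?_
    rw [← MonoidHom.ker_eq_bot_iff, Subgroup.eq_bot_iff_forall]
    intro s hs
    have hs' : (s : N) ∈ (Subgroup.normalizerMonoidHom P).ker := hs
    rw [hker] at hs'
    exact Subtype.ext (hdisj s s.2 hs')
  obtain ⟨d, hd⟩ := IsCyclic.exists_generator (α := (S : Subgroup N))
  have hod : orderOf ((d : N) : G) = Nat.card (S : Subgroup N) := by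
    rw [Subgroup.orderOf_coe, Subgroup.orderOf_coe, orderOf_eq_card_of_forall_mem_zpowers hd]
  have hSN := (S : Subgroup N).card_mul_index
  obtain ⟨j, hj⟩ := (IsPGroup.iff_card).mp S.2
  have hcop : Nat.Coprime (Nat.card (S : Subgroup N)) p := by
    rw [hj]; exact Nat.Coprime.pow_left _ ((Nat.coprime_primes Nat.prime_two hp).mpr (Ne.symm hp2))
  obtain ⟨k, hk⟩ : Nat.card (S : Subgroup N) ∣ p - 1 :=
    hcop.dvd_of_dvd_mul_left (ht1 ▸ Dvd.dvd.mul_left ⟨_, hSN.symm⟩ t)
  have hi : ¬ 2 ∣ (S : Subgroup N).index := S.not_dvd_index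
  have hti : t * (S : Subgroup N).index = p * k := by
    refine Nat.eq_of_mul_eq_mul_left (Nat.card_pos (α := (S : Subgroup N))) ?_
    calc Nat.card (S : Subgroup N) * (t * (S : Subgroup N).index)
        = t * Nat.card N := by rw [← hSN]; ring
      _ = _ := by rw [ht1, hk]; ring
  have hkodd : Odd k := by
    have : Odd (p * k) := hti ▸ htodd.mul (Nat.odd_iff.mpr (Nat.two_dvd_ne_zero.mp hi))
    exact (Nat.odd_mul.mp this).2
  have hj0 : j ≠ 0 := fun e => by
    rw [hj, e, pow_zero, one_mul] at hk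
    have : Even (p - 1) := Nat.Odd.sub_odd hodd odd_one
    rw [hk] at this
    exact (Nat.not_even_iff_odd.mpr hkodd) this
  have hdet := Aux.det_eq ρ ((d : N) : G) (k := k) (by rw [hod, mul_comm, ← hk]; omega) fun c hc hc1 => by
    obtain ⟨i, rfl⟩ := hc
    refine Aux.vanish (x := x) h ρ (by convert h0) (zpow_mem (d : N).2 i) fun hcP => hc1 ?_
    have := hdisj ((d : N) ^ i) (zpow_mem d.2 i) (by simpa using hcP)
    simpa using congrArg Subtype.val this
  have hmone : LinearMap.det (ρ ((d : N) : G)) = -1 := by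
    rw [hdet, hod, hj, (Nat.Even.sub_odd (Nat.one_le_pow _ _ two_pos) (Nat.even_pow.mpr ⟨even_two, hj0⟩) odd_one).neg_one_pow,
      hkodd.neg_one_pow]
  have hker' : ((d : N) : G) ^ (commutator G).index ∈ commutator G := Subgroup.pow_index_mem _ _
  have hone := Abelianization.commutator_subset_ker (CfsgLib.Char.detHom ρ) hker'
  rw [MonoidHom.mem_ker, map_pow] at hone
  have hcast := congrArg (fun u : ℂˣ => (u : ℂ)) hone
  simp only [Units.val_pow_eq_pow_val, CfsgLib.Char.detHom_coe, hmone, hidx.neg_one_pow, Units.val_one] at hcast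
  norm_num at hcast

end Cfsg.Agent.S4508
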