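import Cfsg.Statements.S4509
import Cfsg.Agent.Lib.Char.SelfCentPrime

set_option autoImplicit false
open Cfsg
open scoped commutatorElement

namespace Cfsg.Agent.S4509

/-- Let the finite group G contain an element x of prime order p with C_G(x) = ⟨x⟩; let t be the number of conjugacy classes of elements of order p and 1 + n·p the number of subgroups of order p. Then G has a normal subgroup of order 1 + n·p if and only if either t = p − 1, or t < p − 1 and G″ ≠ G′. Moreover, if t = p − 1 then G′ has order 1 + n·p and G/G′ is cyclic of order p; and if t < p − 1 and G″ ≠ G′ then G″ has order 1 + n·p and G′ has order p·(1 + n·p). -/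
theorem result {G : Type*} [Group G] [Finite G] (p : ℕ) (hp : p.Prime) (x : G) (hx : orderOf x = p) (hC : Subgroup.centralizer ({x} : Set G) = Subgroup.zpowers x) (t : ℕ) (ht : Nat.card {C : ConjClasses G // ∃ g ∈ C.carrier, orderOf g = p} = t) (n : ℕ) (hn : Nat.card {H : Subgroup G // Nat.card H = p} = 1 + n * p) : ((∃ S : Subgroup G, S.Normal ∧ Nat.card S = 1 + n * p) ↔ (t = p - 1 ∨ (t < p - 1 ∧ derivedSeries G 2 ≠ derivedSeries G 1))) ∧ (t = p - 1 → Nat.card (commutator G) = 1 + n * p ∧ IsCyclic (G ⧸ commutator G) ∧ (commutator G).index = p) ∧ (t < p - 1 → derivedSeries G 2 ≠ derivedSeries G 1 → Nat.card (derivedSeries G 2) = 1 + n * p ∧ Nat.card (commutator G) = p * (1 + n * p)) := by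
  classical
  have h : CfsgLib.Char.SelfCentPrime.Hyp p x := ⟨hp, hx, hC⟩
  haveI : Fact p.Prime := ⟨hp⟩
  set P := Subgroup.zpowers x with hPdef
  set N := Subgroup.normalizer (P : Set G) with hNdef
  set K := Cfsg.pPrimeCore p G with hKdef
  haveI : K.Normal := Subgroup.sSup_normal _ (fun _ hh => hh.1)
  have hidx : N.index = 1 + n * p := h.card_subgroups.symm.trans hn
  have ht1 : t * P.relIndex N = p - 1 := h.class_count_relIndex ht
  have hrel : P.relIndex N ≠ 0 := Subgroup.index_ne_zero_of_finite
  have htle : t ≤ p - 1 := by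
    rw [← ht1]; exact Nat.le_mul_of_pos_right t (Nat.pos_of_ne_zero hrel)
  have hD1 : derivedSeries G 1 = commutator G := derivedSeries_one G
  have hD2 : derivedSeries G 2 = ⁅commutator G, commutator G⁆ := by
    rw [derivedSeries_succ, hD1]
  have hcardN : N.index * Nat.card N = Nat.card G := N.index_mul_card
  -- `K` meets `N` trivially
  have hKle : Nat.card K * Nat.card N = Nat.card (K ⊔ N : Subgroup G) := by
    have e1 : K.relIndex (K ⊔ N) = Nat.card N := by
      rw [sup_comm, Subgroup.relIndex_sup_right, ← Subgroup.inf_relIndex_right,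
        h.core_inf_normalizer, Subgroup.relIndex_bot_left]
    have e2 := Subgroup.relIndex_mul_relIndex (⊥ : Subgroup G) K (K ⊔ N) bot_le le_sup_left
    rwa [Subgroup.relIndex_bot_left, Subgroup.relIndex_bot_left, e1] at e2
  have hKle' : Nat.card K ≤ N.index := by
    refine Nat.le_of_mul_le_mul_right ?_ (Nat.card_pos (α := N))
    rw [hcardN, hKle]
    exact Subgroup.card_le_card_group _
  have htop : Nat.card K = N.index → K ⊔ N = ⊤ := fun e => by
    refine Subgroup.eq_top_of_card_eq _ ?_
    rw [← hKle, e, hcardN]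
  have hNKP : N ≤ Subgroup.normalizer ((K ⊔ P : Subgroup G) : Set G) := by
    intro g hg
    have key : ∀ e ∈ N, ∀ y ∈ K ⊔ P, e * y * e⁻¹ ∈ K ⊔ P := by
      intro e he
      have : K ⊔ P ≤ (K ⊔ P).comap (MulAut.conj e).toMonoidHom := sup_le
        (fun y hy => Subgroup.mem_sup_left (Subgroup.Normal.conj_mem inferInstance y hy e))
        (fun y hy => Subgroup.mem_sup_right ((Subgroup.mem_normalizer_iff.mp he y).mp hy))
      exact fun y hy => this hy
    rw [Subgroup.mem_normalizer_iff]
    refine fun y => ⟨key g hg y, fun hy => ?_⟩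
    have := key g⁻¹ (inv_mem hg) _ hy
    simpa [mul_assoc] using this
  -- the case `t < p - 1`
  have hB : t < p - 1 → (Nat.card K = N.index ↔ ⁅commutator G, commutator G⁆ ≠ commutator G) ∧
      (⁅commutator G, commutator G⁆ ≠ commutator G → ⁅commutator G, commutator G⁆ = K ∧
        commutator G = K ⊔ P) := by
    intro hlt
    have hN : N ≠ P := fun e => hlt.ne ((h.normalizer_eq_iff ht).mp e)
    have hxD : x ∈ commutator G := h.x_mem_commutator hN
    have hPD : P ≤ commutator G := Subgroup.zpowers_le.mpr hxD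
    have hKD : K ≤ ⁅commutator G, commutator G⁆ := h.core_le_of_mem h.core_le_commutator hxD
    have hDD : ⁅commutator G, commutator G⁆ ≤ commutator G := Subgroup.commutator_le_left _ _
    have hB1 : ⁅commutator G, commutator G⁆ ≠ commutator G →
        ⁅commutator G, commutator G⁆ = K ∧ commutator G = K ⊔ P := by
      intro hne
      have hxnot : x ∉ ⁅commutator G, commutator G⁆ := fun hh =>
        hne (le_antisymm hDD (h.commutator_le _ hh))
      have hKeq : ⁅commutator G, commutator G⁆ = K := le_antisymm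
        (CfsgLib.Coprime.le_pPrimeCore_of_not_dvd hp fun hd => hxnot (h.mem_of_dvd_normal _ hd)) hKD
      refine ⟨hKeq, le_antisymm ?_ (sup_le h.core_le_commutator hPD)⟩
      haveI hnorm : (K ⊔ P).Normal := by
        refine Subgroup.normalizer_eq_top_iff.mp (top_le_iff.mp ?_)
        rw [← h.frattini (commutator G) hxD]
        refine sup_le ?_ ?_
        · exact hNKP
        · intro d hd
          rw [Subgroup.mem_normalizer_iff]
          have key : ∀ e ∈ commutator G, ∀ y ∈ K ⊔ P, e * y * e⁻¹ ∈ K ⊔ P := by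
            intro e he y hy
            have h1 : ⁅e, y⁆ ∈ K ⊔ P := by
              refine le_sup_left (b := P) ?_
              show ⁅e, y⁆ ∈ K
              rw [← hKeq]
              exact Subgroup.commutator_mem_commutator he (sup_le h.core_le_commutator hPD hy)
            rw [show e * y * e⁻¹ = ⁅e, y⁆ * y by rw [commutatorElement_def]; group]
            exact mul_mem h1 hy
          refine fun y => ⟨key d hd y, fun hy => ?_⟩
          have := key d⁻¹ (inv_mem hd) _ hy
          simpa [mul_assoc] using this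
      exact h.commutator_le _ (Subgroup.mem_sup_right (Subgroup.mem_zpowers x))
    refine ⟨⟨fun e he => ?_, fun hne => ?_⟩, hB1⟩
    · -- `G = K N` forces `G' ≤ K P`, whose derived subgroup is in `K`
      have hnormKP : (K ⊔ P).Normal := by
        refine Subgroup.normalizer_eq_top_iff.mp (top_le_iff.mp ?_)
        rw [← htop e]
        exact sup_le (le_trans le_sup_left Subgroup.le_normalizer) hNKP
      have hD : commutator G ≤ K ⊔ P := h.commutator_le _ (Subgroup.mem_sup_right (Subgroup.mem_zpowers x))
      have h2 : ⁅commutator G, commutator G⁆ ≤ K := by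
        refine Subgroup.commutator_le.mpr fun a ha b hb => ?_
        obtain ⟨k, hk, _, ⟨i, rfl⟩, rfl⟩ := Subgroup.mem_sup_of_normal_left.mp (hD ha)
        obtain ⟨l, hl, _, ⟨j, rfl⟩, rfl⟩ := Subgroup.mem_sup_of_normal_left.mp (hD hb)
        rw [← QuotientGroup.eq_one_iff]
        have hk1 : (k : G ⧸ K) = 1 := (QuotientGroup.eq_one_iff k).mpr hk
        have hl1 : (l : G ⧸ K) = 1 := (QuotientGroup.eq_one_iff l).mpr hl
        have hc : (x : G ⧸ K) ^ i * (x : G ⧸ K) ^ j = (x : G ⧸ K) ^ j * (x : G ⧸ K) ^ i := by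
          rw [← zpow_add, ← zpow_add, add_comm]
        simp only [commutatorElement_def, QuotientGroup.mk_mul, QuotientGroup.mk_inv, QuotientGroup.mk_zpow,
          hk1, hl1, one_mul]
        rw [hc]; group
      rw [he] at h2
      exact h.not_mem_core (h2 hxD)
    · obtain ⟨-, hDKP⟩ := hB1 hne
      refine le_antisymm hKle' (Nat.le_of_mul_le_mul_right ?_ (Nat.card_pos (α := N)))
      have hT : K ⊔ N = ⊤ := by
        rw [← top_le_iff, ← h.frattini (commutator G) hxD, hDKP]
        exact sup_le le_sup_right (sup_le le_sup_left (le_trans Subgroup.le_normalizer le_sup_right))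
      rw [hcardN, hKle, hT, Subgroup.card_top]
  have hA : t = p - 1 → Nat.card (commutator G) = N.index ∧ commutator G = K ∧ (commutator G).index = p := fun e =>
    let h' := h.case_trivial ((h.normalizer_eq_iff ht).mpr e)
    ⟨h'.2.2, h'.1, h'.2.1⟩
  refine ⟨⟨?_, ?_⟩, fun e => ?_, fun hlt hne => ?_⟩
  · rintro ⟨S, hS, hScard⟩
    rcases htle.lt_or_eq with hlt | he
    · refine Or.inr ⟨hlt, ?_⟩
      haveI := hS
      have hSK : S ≤ K := CfsgLib.Coprime.le_pPrimeCore_of_not_dvd hp fun hd => by
        rw [hScard] at hd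
        exact hp.one_lt.ne' (Nat.dvd_one.mp ((Nat.dvd_add_left (dvd_mul_left p n)).mp hd))
      have hKc : Nat.card K = N.index :=
        le_antisymm hKle' (hidx ▸ hScard ▸ Subgroup.card_le_of_le hSK)
      rw [hD2, hD1]
      exact (hB hlt).1.mp hKc
    · exact Or.inl he
  · rintro (he | ⟨hlt, hne⟩)
    · exact ⟨commutator G, inferInstance, (hA he).1.trans hidx⟩
    · rw [hD2, hD1] at hne
      exact ⟨K, inferInstance, ((hB hlt).1.mpr hne).trans hidx⟩
  · refine ⟨(hA e).1.trans hidx, isCyclic_of_prime_card (show Nat.card (G ⧸ commutator G) = p from (hA e).2.2), (hA e).2.2⟩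
  · rw [hD2, hD1] at hne
    obtain ⟨h1, h2⟩ := (hB hlt).2 hne
    have hKc := ((hB hlt).1.mpr hne).trans hidx
    refine ⟨by rw [hD2, h1, hKc], ?_⟩
    have e1 : K.relIndex (K ⊔ P) = p := by
      rw [sup_comm, Subgroup.relIndex_sup_right, ← Subgroup.inf_relIndex_right,
        eq_bot_iff.mpr ((inf_le_inf le_rfl Subgroup.le_normalizer).trans h.core_inf_normalizer.le),
        Subgroup.relIndex_bot_left, h.card_P]
    have e2 := Subgroup.relIndex_mul_relIndex (⊥ : Subgroup G) K (K ⊔ P) bot_le le_sup_left
    rw [Subgroup.relIndex_bot_left, Subgroup.relIndex_bot_left, e1] at e2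
    rw [h2, ← e2, hKc, mul_comm]

end Cfsg.Agent.S4509
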