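import Cfsg.Statements.S4513
import Cfsg.Agent.Lib.Block.CentralDefect
import Cfsg.Agent.Lib.Block.Subsection
import Cfsg.Agent.Lib.Block.Contributions
-- import your own Cfsg.Agent.* helpers here

set_option autoImplicit false
open Cfsg CfsgLib.Block
open scoped CfsgLib.Block.Pair ComplexConjugate

namespace Cfsg.Agent.S4513

/-- Blocks of defect one for p = 2. Let M be a maximal ideal of the algebraic integers containing 2, B a 2-block of the finite group G whose defect group is the subgroup generated by an involution x, C = C_G(x), b a block of C inducing B and θ a member of b taking the same value at x as at 1 (there is exactly one). Then B consists of exactly two irreducible characters, which agree on every element of odd order, and they can be labelled χ₁, χ₂ with signs ε₁, ε₂ = ±1, ε₁ε₂ = −1, such that χᵢ(x y) = εᵢ θ(y) for every element y of C of odd order. -/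
theorem result {G : Type*} [Group G] [Finite G] (M : Ideal Cfsg.AlgInt) (hM : Cfsg.IsPModular 2 M) (x : G) (hx : orderOf x = 2)
    (B : Set (Cfsg.IrrCharacter G)) (hB : Cfsg.IsPBlock M B) (hBD : Cfsg.IsDefectGroup 2 M B (Subgroup.zpowers x))
    (b : Set (Cfsg.IrrCharacter ↥(Subgroup.centralizer ({x} : Set G)))) (hb : Cfsg.IsInducedBlock M (Subgroup.centralizer ({x} : Set G)) b B)
    (θ : Cfsg.IrrCharacter ↥(Subgroup.centralizer ({x} : Set G))) (hθ : θ ∈ b)
    (hθx : ∀ z : ↥(Subgroup.centralizer ({x} : Set G)), (z : G) = x → (θ : ↥(Subgroup.centralizer ({x} : Set G)) → ℂ) z = (θ : ↥(Subgroup.centralizer ({x} : Set G)) → ℂ) 1) :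
    Nat.card B = 2 ∧ (∀ χ ∈ B, ∀ ψ ∈ B, ∀ g : G, ¬ 2 ∣ orderOf g → (χ : G → ℂ) g = (ψ : G → ℂ) g) ∧
      ∃ χ₁ ∈ B, ∃ χ₂ ∈ B, χ₁ ≠ χ₂ ∧ ∃ ε₁ ε₂ : ℤ, (ε₁ = 1 ∨ ε₁ = -1) ∧ (ε₂ = 1 ∨ ε₂ = -1) ∧ ε₁ * ε₂ = -1 ∧
        ∀ y : ↥(Subgroup.centralizer ({x} : Set G)), ¬ 2 ∣ orderOf y →
          (χ₁ : G → ℂ) (x * y) = (ε₁ : ℂ) * (θ : ↥(Subgroup.centralizer ({x} : Set G)) → ℂ) y ∧ (χ₂ : G → ℂ) (x * y) = (ε₂ : ℂ) * (θ : ↥(Subgroup.centralizer ({x} : Set G)) → ℂ) y := by
  classical
  have := hM.2.1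
  letI := Fintype.ofFinite G
  have := Fintype.ofFinite (IrrCharacter G)
  have := Fintype.ofFinite (IrrCharacter ↥(Subgroup.centralizer ({x} : Set G)))
  have hp : Fact (Nat.Prime 2) := ⟨Nat.prime_two⟩
  have hC : ∀ t : G, t ∈ Subgroup.centralizer ({x} : Set G) ↔ Commute t x := fun t =>
    Subgroup.mem_centralizer_singleton_iff
  set P := Subgroup.zpowers x with hPdef
  have hP2 : Nat.card P = 2 := by rw [hPdef, Nat.card_zpowers, hx]
  have hPp : IsPGroup 2 P := IsPGroup.of_card (n := 1) (by rw [hP2]; rfl)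
  have hxk : ∃ k : ℕ, orderOf x = 2 ^ k := ⟨1, by rw [hx]; rfl⟩
  have hCQ : CQ P = Subgroup.centralizer ({x} : Set G) := by
    rw [CQ, hPdef, Subgroup.zpowers_eq_closure, Subgroup.centralizer_closure]
  have hPC : P ≤ Subgroup.centralizer ({x} : Set G) := by
    rw [hPdef, Subgroup.zpowers_le, hC]
  have hCN : Subgroup.centralizer ({x} : Set G) ≤ Subgroup.normalizer (P : Set G) :=
    hCQ ▸ centralizer_le_normalizer' P
  have hNC : Subgroup.normalizer (P : Set G) ≤ Subgroup.centralizer ({x} : Set G) := by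
    intro n hn
    have h1 : n * x * n⁻¹ ∈ P :=
      (Subgroup.mem_normalizer_iff.mp hn x).mp (Subgroup.mem_zpowers x)
    obtain ⟨j, hj⟩ := Subgroup.mem_zpowers_iff.mp h1
    have h2 : n * x * n⁻¹ = x := by
      rcases Int.emod_two_eq_zero_or_one j with h | h
      · exfalso
        rw [← zpow_mod_orderOf, hx, Nat.cast_ofNat, h, zpow_zero] at hj
        have : x = 1 := by simpa using hj.symm
        rw [this, orderOf_one] at hx
        norm_num at hx
      · rw [← hj, ← zpow_mod_orderOf, hx, Nat.cast_ofNat, h, zpow_one]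
    exact (hC n).mpr (mul_inv_eq_iff_eq_mul.mp h2)
  have hdB : blockDefect 2 B = 1 := by
    have h := defectGroup_card hM hB hBD
    rw [hP2] at h
    exact (Nat.pow_right_injective le_rfl (show 2 ^ 1 = 2 ^ blockDefect 2 B from h)).symm
  have huniq : ∀ b', IsInducedBlock M (Subgroup.centralizer ({x} : Set G)) b' B → b' = b := by
    intro b' hb'
    obtain ⟨n, hn, hne⟩ := exists_conj_of_induced_defect hM hPC (hCQ ▸ le_rfl) hCN
      (fun n hn g => ⟨fun hg => mul_mem (mul_mem (hNC hn) hg) (inv_mem (hNC hn)),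
        fun hg => by
          have h1 := mul_mem (mul_mem (inv_mem (hNC hn)) hg) (hNC hn)
          rwa [show n⁻¹ * (n * g * n⁻¹) * n = g by group] at h1⟩) hBD hb hb'
    rw [← hne]
    refine eG_inj hM (hne.symm ▸ hb'.1) hb.1 ?_
    rw [eG_conjSet (K := Subgroup.centralizer ({x} : Set G))
      (K' := Subgroup.centralizer ({x} : Set G))
      (fun g => ⟨fun hg => mul_mem (mul_mem (hNC hn) hg) (inv_mem (hNC hn)),
        fun hg => by
          have h1 := mul_mem (mul_mem (inv_mem (hNC hn)) hg) (hNC hn)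
          rwa [show n⁻¹ * (n * g * n⁻¹) * n = g by group] at h1⟩) b]
    exact cinv_iff_cj.mp (cinv_eG b) n (hNC hn)
  set x' : ↥(Subgroup.centralizer ({x} : Set G)) := ⟨x, (hC x).mpr (Commute.refl x)⟩ with hx'
  set N := P.subgroupOf (Subgroup.centralizer ({x} : Set G)) with hNdef
  have hN2 : Nat.card N = 2 := by rw [← hP2]; exact Nat.card_congr (Subgroup.subgroupOfEquivOfLe hPC).toEquiv
  have hNcen : N ≤ Subgroup.center ↥(Subgroup.centralizer ({x} : Set G)) := fun z hz =>
    Subgroup.mem_center_iff.mpr fun c => Subtype.ext (by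
      obtain ⟨j, hj⟩ := Subgroup.mem_zpowers_iff.mp (Subgroup.mem_subgroupOf.mp hz)
      show (c : G) * (z : G) = (z : G) * c
      rw [← hj]
      exact (((hC c).mp c.2).zpow_right j).eq)
  have hNp : IsPGroup 2 N := IsPGroup.of_card (n := 1) (by rw [hN2]; rfl)
  have hNn : N.Normal := ⟨fun z hz g => by
    rwa [Subgroup.mem_center_iff.mp (hNcen hz) g, mul_inv_cancel_right]⟩
  have hdb : blockDefect 2 b = 1 := by
    obtain ⟨D, hD⟩ := exists_defectGroup hM hb.1
    obtain ⟨E, hE, hle⟩ := exists_defectGroup_ge hM hb hD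
    have h1 := Subgroup.card_dvd_of_le (normal_le_defectGroup hM hb.1 hD hNp)
    have h2 := Subgroup.card_dvd_of_le hle
    rw [Subgroup.card_map_of_injective Subtype.val_injective, defectGroup_card hM hb.1 hD,
      defectGroup_card hM hB hE, hdB] at h2
    rw [hN2, defectGroup_card hM hb.1 hD] at h1
    have h3 := (Nat.pow_dvd_pow_iff_le_right Nat.one_lt_two).mp h2
    have h4 := (Nat.pow_dvd_pow_iff_le_right Nat.one_lt_two).mp
      (show 2 ^ 1 ∣ 2 ^ blockDefect 2 b from h1)
    omega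
  have hd' : blockDefect 2 b = (Nat.card N).factorization 2 := by
    rw [hdb, hN2, Nat.Prime.factorization_self Nat.prime_two]
  have hker : ∀ z ∈ N, (θ : ↥(Subgroup.centralizer ({x} : Set G)) → ℂ) z =
      (θ : ↥(Subgroup.centralizer ({x} : Set G)) → ℂ) 1 := by
    intro z hz
    obtain ⟨j, hj⟩ := Subgroup.mem_zpowers_iff.mp (Subgroup.mem_subgroupOf.mp hz)
    rw [← zpow_mod_orderOf, hx, Nat.cast_ofNat] at hj
    rcases Int.emod_two_eq_zero_or_one j with h | h
    · rw [h, zpow_zero] at hj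
      rw [show z = 1 from Subtype.ext hj.symm]
    · rw [h, zpow_one] at hj
      exact hθx z hj.symm
  obtain ⟨hdeg, -, hprop, hkey⟩ := central_defect_rank_one hM hb.1 hNcen hNp hd' hθ hker
  set sb := Finset.univ.filter (· ∈ b) with hsb
  -- the values on the section of `x`
  have hval : ∀ χ : Cfsg.IrrCharacter G, χ ∈ B → ∃ a : ℤ,
      ∀ y : ↥(Subgroup.centralizer ({x} : Set G)), ¬ 2 ∣ orderOf y →
      (χ : G → ℂ) (x * y) = (a : ℂ) * (θ : ↥(Subgroup.centralizer ({x} : Set G)) → ℂ) y := by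
    intro χ hχ
    have hC' : ∀ t : ↥(Subgroup.centralizer ({x} : Set G)), Commute (t : G) x := fun t => (hC t).mp t.2
    have hx'2 : x' ^ 2 = 1 := Subtype.ext (by
      rw [hx', Subgroup.coe_pow, OneMemClass.coe_one, ← hx]
      exact pow_orderOf_eq_one x)
    choose lam hlam hlamt using fun η : IrrCharacter ↥(Subgroup.centralizer ({x} : Set G)) =>
      exists_central_scalar η (z := x') (fun t => Subtype.ext (hC' t).symm.eq) hx'2
    have hint : ∀ η : IrrCharacter ↥(Subgroup.centralizer ({x} : Set G)), ∃ n : ℤ, classInner (secFun x _ χ)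
        (η : ↥(Subgroup.centralizer ({x} : Set G)) → ℂ) = n := by
      intro η
      refine ⟨(resMult χ η : ℤ) * if lam η = 1 then 1 else -1, ?_⟩
      have hl : lam η = ((if lam η = 1 then 1 else -1 : ℤ) : ℂ) := by
        rcases sq_eq_one_iff.mp (hlam η) with e | e
        · simp [e]
        · rw [e, if_neg (by norm_num)]; norm_num
      have hsec : secFun x (Subgroup.centralizer ({x} : Set G)) χ =
          ∑ ξ : IrrCharacter ↥(Subgroup.centralizer ({x} : Set G)),
            ((resMult χ ξ : ℂ) * lam ξ) • (ξ : ↥(Subgroup.centralizer ({x} : Set G)) → ℂ) := by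
        funext t
        show (χ : G → ℂ) ((x' * t : ↥(Subgroup.centralizer ({x} : Set G))) : G) = _
        rw [res_eq_sum_resMult, Finset.sum_apply]
        exact Finset.sum_congr rfl fun ξ _ => by rw [hlamt, Pi.smul_apply, smul_eq_mul]; ring
      rw [hsec, CfsgLib.Char.classInner_sum_left, Finset.sum_eq_single η]
      · rw [CfsgLib.Char.classInner_smul_left, CfsgLib.Char.classInner_irr_self, mul_one, Int.cast_mul,
          Int.cast_natCast, ← hl]
      · intro ξ _ hne
        rw [CfsgLib.Char.classInner_smul_left, CfsgLib.Char.classInner_irr_ne hne, mul_zero]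
      · simp
    choose nn hnn using hint
    have := Fintype.ofFinite (ConjClasses ↥(Subgroup.centralizer ({x} : Set G)))
    have hle : (Nat.card ↥(Subgroup.centralizer ({x} : Set G))).factorization 2 ≤ degVal 2 θ + 1 := by
      rw [hN2, Nat.Prime.factorization_self Nat.prime_two] at hdeg
      exact hdeg.ge
    choose zz hzz hzz' using fun η => exists_scaled_regInner hM hle η
    refine ⟨∑ η ∈ sb, nn η * zz η, fun y hy => ?_⟩
    let U : Finset (Set (IrrCharacter ↥(Subgroup.centralizer ({x} : Set G)))) :=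
      Finset.univ.filter (fun b' => IsPBlock M b')
    have hU : ∀ b', b' ∈ U ↔ IsPBlock M b' := fun b' => by simp [U]
    rw [show (χ : G → ℂ) (x * y) = secFun x _ χ y from rfl,
      secFun_eq_sum_blockPart hM hC' χ y U hU, Finset.sum_eq_single b]
    · rw [blockPart_eq, Int.cast_sum, Finset.sum_mul]
      refine Finset.sum_congr rfl fun η hη => ?_
      rw [hnn, hprop η (Finset.mem_filter.mp hη).2 y hy, hN2, Nat.cast_ofNat, Int.cast_mul, ← hzz η,
        pow_one]
      push_cast
      ring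
    · intro b' hb' hne
      obtain ⟨B', hB'⟩ := exists_induced_centralizer hM hxk hC ((hU b').mp hb')
      refine blockPart_secFun_eq_zero hM hxk hC hB' (fun hmem => hne (huniq b' ?_)) hy
      rwa [isPBlock_eq_of_mem hB hB'.2.1 hχ hmem]
    · exact fun h => absurd ((hU b).mpr hb.1) h
  choose! a ha using hval
  set sB := Finset.univ.filter (· ∈ B) with hsB
  have hmem : ∀ {χ}, χ ∈ sB ↔ χ ∈ B := fun {χ} => by simp [hsB]
  have hθ1 : (θ : ↥(Subgroup.centralizer ({x} : Set G)) → ℂ) 1 ≠ 0 := CfsgLib.Char.irr_one_ne_zero θ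
  have hx1 : ∀ χ ∈ B, (χ : G → ℂ) x =
      (a χ : ℂ) * (θ : ↥(Subgroup.centralizer ({x} : Set G)) → ℂ) 1 := fun χ hχ => by
    have := ha χ hχ 1 (by simp)
    rwa [OneMemClass.coe_one, mul_one] at this
  have hsum : ∑ χ ∈ sB, a χ * a χ = 2 := by
    have h := sum_mem_block_secFun hM hxk hC hB {b} (fun b' => by
      rw [Finset.mem_singleton]; exact ⟨fun e => e ▸ hb, huniq b'⟩) (y := 1) (z := 1)
      (by simp) (by simp)
    rw [Finset.sum_singleton, OneMemClass.coe_one, mul_one, finsum_mem_eq_toFinset_sum,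
      Finset.sum_congr (s₂ := sb) (by ext; simp [hsb]) (fun _ _ => rfl), hkey 1 1 (by simp) (by simp),
      Finset.sum_congr rfl fun χ hχ => by
        rw [hx1 χ (hmem.mp hχ), map_mul, map_intCast, mul_mul_mul_comm, ← Int.cast_mul],
      ← Finset.sum_mul, hN2, Nat.cast_ofNat] at h
    have h' := mul_right_cancel₀ (mul_ne_zero hθ1 (by simp [hθ1])) h
    apply Int.cast_injective (α := ℂ)
    rw [Int.cast_sum, Int.cast_ofNat, ← h']
  -- singular values
  have hsing : ∀ χ ∈ B, a χ = 0 → ∀ g : G, 2 ∣ orderOf g → (χ : G → ℂ) g = 0 := by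
    intro χ hχ h0 g hg
    obtain ⟨v, hv⟩ := exists_isPPart (p := 2) Nat.prime_two g
    by_cases hcj : ∃ c : G, c * v * c⁻¹ ∈ Subgroup.zpowers x
    · obtain ⟨c, hc⟩ := hcj
      obtain ⟨y, rfl, hvy, hvk, hy⟩ := hv
      have hv1 : v ≠ 1 := fun h => hy (by rwa [h, one_mul] at hg)
      obtain ⟨j, hj⟩ := Subgroup.mem_zpowers_iff.mp hc
      have hcv : c * v * c⁻¹ = x := by
        rcases Int.emod_two_eq_zero_or_one j with h | h
        · exfalso
          rw [← zpow_mod_orderOf, hx, Nat.cast_ofNat, h, zpow_zero] at hj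
          exact hv1 (by simpa using hj.symm)
        · rw [← hj, ← zpow_mod_orderOf, hx, Nat.cast_ofNat, h, zpow_one]
      have hcy : c * y * c⁻¹ ∈ Subgroup.centralizer ({x} : Set G) := (hC _).mpr (by
        rw [← hcv]
        exact (hvy.map (MulAut.conj c).toMonoidHom).symm)
      have h1 := ha χ hχ ⟨_, hcy⟩ (by
        rw [← Subgroup.orderOf_coe, show orderOf (c * y * c⁻¹) = orderOf y from orderOf_conj_eq c y]
        exact hy)
      rw [h0, Int.cast_zero, zero_mul] at h1
      rw [← CfsgLib.Char.isClassFunction_irr χ _ c, show c * (v * y) * c⁻¹ = x * (c * y * c⁻¹) by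
        rw [← hcv]; group]
      exact h1
    · push Not at hcj
      exact irr_eq_zero_of_not_mem_defect hM hB hBD hv hcj hχ
  have hne0 : ∀ χ ∈ B, a χ ≠ 0 := by
    intro χ hχ h0
    have hreg : ∀ ψ : IrrCharacter G, regInner 2 χ ψ = if χ = ψ then 1 else 0 := by
      intro ψ
      rw [← CfsgLib.Char.classInner_irr χ ψ, regInner]
      congr 1
      funext g
      by_cases hg : 2 ∣ orderOf g
      · simp [regFun, hg, hsing χ hχ h0 g hg]
      · simp [regFun, hg]
    have := Fintype.ofFinite (ConjClasses G)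
    obtain ⟨ψ, hψ, hψd⟩ := exists_minDeg (p := 2) (isPBlock_nonempty hB)
    obtain ⟨I, hI, -, hI2⟩ := regInner_valuation hM χ ψ
    have hne := (regN_ne_zero_iff hM hB hχ hψ).mpr (fun η hη => hψd ▸ minDeg_le hη)
    by_cases hχψ : χ = ψ
    · subst hχψ
      rw [hreg, if_pos rfl, mul_one] at hI
      refine hne (hI2.mp ?_)
      have h2 : (I : ℤ) = 2 ^ (Nat.card G).factorization 2 := by exact_mod_cast hI.symm
      rw [h2]
      refine pow_dvd_pow _ ?_
      have h3 : (Nat.card G).factorization 2 - minDeg 2 B = 1 := hdB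
      omega
    · rw [hreg, if_neg hχψ, mul_zero] at hI
      refine hne (hI2.mp ?_)
      rw [show I = 0 by exact_mod_cast hI.symm]
      exact dvd_zero _
  have hone : ∀ χ ∈ B, a χ = 1 ∨ a χ = -1 := by
    intro χ hχ
    by_contra hno
    simp only [not_or] at hno
    have h1 := Finset.single_le_sum (f := fun ψ => a ψ * a ψ) (fun ψ _ => mul_self_nonneg _) (hmem.mpr hχ)
    rw [hsum] at h1
    rcases lt_trichotomy (a χ) 0 with h | h | h
    · nlinarith [show a χ ≤ -2 by omega]
    · exact hne0 χ hχ h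
    · nlinarith [show 2 ≤ a χ by omega]
  have hcard : sB.card = 2 := by
    rw [Finset.sum_congr rfl (g := fun _ => (1 : ℤ)) fun χ hχ => by
      rcases hone χ (hmem.mp hχ) with e | e <;> simp [e]] at hsum
    rw [Finset.sum_const, nsmul_eq_mul, mul_one] at hsum
    exact_mod_cast hsum
  obtain ⟨χ₁, χ₂, h12, hs⟩ := Finset.card_eq_two.mp hcard
  have h1B : χ₁ ∈ B := hmem.mp (by rw [hs]; simp)
  have h2B : χ₂ ∈ B := hmem.mp (by rw [hs]; simp)
  have horth : ∀ g : G, ¬ 2 ∣ orderOf g →
      (a χ₁ : ℂ) * (χ₁ : G → ℂ) g + (a χ₂ : ℂ) * (χ₂ : G → ℂ) g = 0 := by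
    intro g hg
    have h := blockUnion_orthogonal_regular_singular hM (IsBlockUnion.of_isPBlock hB) hg
      (show 2 ∣ orderOf x by rw [hx])
    rw [finsum_mem_eq_toFinset_sum, Finset.sum_congr (s₂ := sB) (by ext; simp [hsB]) (fun _ _ => rfl),
      hs, Finset.sum_pair h12, hx1 _ h1B, hx1 _ h2B, map_mul, map_mul, map_intCast, map_intCast] at h
    apply mul_right_cancel₀ (show conj ((θ : ↥(Subgroup.centralizer ({x} : Set G)) → ℂ) 1) ≠ 0 by
      simp [hθ1])
    rw [zero_mul, ← h]
    ring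
  have hprod : a χ₁ * a χ₂ = -1 := by
    obtain ⟨e1, e1'⟩ := charDegree_eq χ₁
    obtain ⟨e2, e2'⟩ := charDegree_eq χ₂
    have h := horth 1 (by simp)
    rw [e1, e2] at h
    have h' : a χ₁ * (Cfsg.charDegree (χ₁ : G → ℂ) : ℤ) + a χ₂ * (Cfsg.charDegree (χ₂ : G → ℂ) : ℤ) = 0 := by
      exact_mod_cast h
    have p1 : (0 : ℤ) < Cfsg.charDegree (χ₁ : G → ℂ) := by exact_mod_cast Nat.pos_of_ne_zero e1'
    have p2 : (0 : ℤ) < Cfsg.charDegree (χ₂ : G → ℂ) := by exact_mod_cast Nat.pos_of_ne_zero e2'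
    rcases hone _ h1B with u1 | u1 <;> rcases hone _ h2B with u2 | u2 <;> rw [u1, u2] at h' ⊢ <;>
      first | (norm_num; done) | linarith
  have heq : ∀ g : G, ¬ 2 ∣ orderOf g → (χ₁ : G → ℂ) g = (χ₂ : G → ℂ) g := by
    intro g hg
    have h := horth g hg
    rcases hone _ h1B with u1 | u1 <;> rcases hone _ h2B with u2 | u2 <;> rw [u1, u2] at h hprod <;>
      norm_num at hprod <;> push_cast at h
    · linear_combination h
    · linear_combination -h
  refine ⟨?_, ?_, χ₁, h1B, χ₂, h2B, h12, a χ₁, a χ₂, hone _ h1B, hone _ h2B, hprod,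
    fun y hy => ⟨ha χ₁ h1B y hy, ha χ₂ h2B y hy⟩⟩
  · rw [Nat.card_eq_fintype_card, ← Set.toFinset_card, ← hcard, hsB]
    exact congrArg Finset.card (by ext; simp)
  · intro χ hχ ψ hψ g hg
    have h3 : ∀ ξ ∈ B, (ξ : G → ℂ) g = (χ₁ : G → ℂ) g := by
      intro ξ hξ
      have h4 := hmem.mpr hξ
      rw [hs, Finset.mem_insert, Finset.mem_singleton] at h4
      rcases h4 with rfl | rfl
      · rfl
      · exact (heq g hg).symm
    rw [h3 χ hχ, h3 ψ hψ]

end Cfsg.Agent.S4513
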