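import Cfsg.Statements.S4514
import Cfsg.Agent.Lib.Block.ConstDiff.Final

set_option autoImplicit false
open Cfsg
open CfsgLib.Block CfsgLib.Block.PrincipalCore CfsgLib.Block.Cyclic

namespace Cfsg.Agent.S4514

/-- Let G be a finite group, u an element of G, and fix a maximal ideal M of the algebraic integers containing 2 (defining the 2-blocks). There is a complex number k with χ(1) − χ(u) = k for every non-principal irreducible character χ in the principal 2-block if and only if one of the following holds: u lies in O(G); or G/O(G) has order 2 and u ∉ O(G); or G/O(G) ≅ PSL(2, 2ⁿ) for some n ≥ 2, u ∉ O(G) and u² ∈ O(G). -/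
theorem result {G : Type*} [Group G] [Finite G] (M : Ideal Cfsg.AlgInt) (hM : Cfsg.IsPModular 2 M) (u : G) :
    (∃ k : ℂ, ∀ χ : Cfsg.IrrCharacter G, χ ∈ Cfsg.principalBlock M G → (χ : G → ℂ) ≠ (fun _ => 1) →
        (χ : G → ℂ) 1 - (χ : G → ℂ) u = k) ↔
      (u ∈ Cfsg.oddCore G ∨ (Nat.card (G ⧸ Cfsg.oddCore G) = 2 ∧ u ∉ Cfsg.oddCore G) ∨
        (∃ (F : Type) (_ : Field F) (_ : Fintype F) (n : ℕ), 2 ≤ n ∧ Fintype.card F = 2 ^ n ∧
          Nonempty (G ⧸ Cfsg.oddCore G ≃* Matrix.ProjectiveSpecialLinearGroup (Fin 2) F) ∧ u ∉ Cfsg.oddCore G ∧ u ^ 2 ∈ Cfsg.oddCore G)) := by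
  classical
  haveI : M.IsMaximal := hM.2.1
  haveI : Fact (Nat.Prime 2) := ⟨Nat.prime_two⟩
  haveI := Fintype.ofFinite G
  haveI := Fintype.ofFinite (Cfsg.oddCore G)
  haveI := Fintype.ofFinite (G ⧸ Cfsg.oddCore G)
  have hodd : ¬ 2 ∣ Nat.card (Cfsg.oddCore G) := CfsgLib.Coprime.pPrimeCore_not_dvd Nat.prime_two
  have hne : ∀ θ : IrrCharacter (G ⧸ Cfsg.oddCore G), θ ≠ oneChar _ →
      ((inflQ θ : IrrCharacter G) : G → ℂ) ≠ fun _ => 1 := fun θ hθ e => hθ (Subtype.ext (funext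
    fun z => by
      obtain ⟨g, rfl⟩ := QuotientGroup.mk_surjective z
      exact congrFun e g))
  have hdefl : ∀ χ : IrrCharacter G, χ ∈ principalBlock M G → (χ : G → ℂ) ≠ (fun _ => 1) →
      ∃ θ : IrrCharacter (G ⧸ Cfsg.oddCore G), θ ≠ oneChar _ ∧ inflQ θ = χ := fun χ hχ hχ1 => by
    obtain ⟨θ, -, hθ⟩ := exists_inflQ_eq (N := Cfsg.oddCore G) hM hodd hχ
    refine ⟨θ, fun e => hχ1 ?_, hθ⟩
    rw [← hθ, e]
    rfl
  constructor
  · rintro ⟨k, hk⟩
    by_cases hu : u ∈ Cfsg.oddCore G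
    · exact Or.inl hu
    refine Or.inr ?_
    have h : CfsgLib.Block.ConstDiff.Hyp M (u : G ⧸ Cfsg.oddCore G) k :=
      { modular := hM
        core := CfsgLib.Coprime.pPrimeCore_quotient_eq_bot Nat.prime_two
        ne_one := fun e => hu ((QuotientGroup.eq_one_iff u).mp e)
        eq := fun θ hθ => by
          obtain ⟨h1, h2⟩ := CfsgLib.Block.ConstDiff.mem_pb'.mp hθ
          have := hk (inflQ θ) ((inflQ_mem_iff hM hodd θ).mpr h2) (hne θ h1)
          simpa [inflQ_apply] using this }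
    rcases CfsgLib.Block.ConstDiff.forward h with h2 | ⟨F, iF, iFF, n, hn, hcard, hiso, hv⟩
    · exact Or.inl ⟨h2, hu⟩
    · refine Or.inr ⟨F, iF, iFF, n, hn, hcard, hiso, hu, ?_⟩
      rwa [← QuotientGroup.mk_pow, QuotientGroup.eq_one_iff] at hv
  · rintro (hu | ⟨h2, -⟩ | ⟨F, iF, iFF, n, hn, hcard, ⟨e⟩, hu, hu2⟩)
    · refine ⟨0, fun χ hχ _ => ?_⟩
      rw [trivial_of_sameBlock (N := Cfsg.oddCore G) hM hodd (χ := oneChar G) hχ (fun _ _ => rfl) hu,
        sub_self]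
    · by_cases hex : ∃ θ : IrrCharacter (G ⧸ Cfsg.oddCore G), θ ≠ oneChar _
      · obtain ⟨θ₀, hθ₀⟩ := hex
        refine ⟨(θ₀ : G ⧸ Cfsg.oddCore G → ℂ) 1 - (θ₀ : G ⧸ Cfsg.oddCore G → ℂ) u,
          fun χ hχ hχ1 => ?_⟩
        obtain ⟨θ, hθ, rfl⟩ := hdefl χ hχ hχ1
        obtain rfl := CfsgLib.Block.ConstDiff.eq_of_card_two h2 hθ hθ₀
        simp [inflQ_apply]
      · refine ⟨0, fun χ hχ hχ1 => ?_⟩
        obtain ⟨θ, hθ, -⟩ := hdefl χ hχ hχ1
        exact absurd ⟨θ, hθ⟩ hex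
    · refine ⟨(Fintype.card F : ℂ), fun χ hχ hχ1 => ?_⟩
      obtain ⟨θ, hθ, rfl⟩ := hdefl χ hχ hχ1
      have := CfsgLib.Block.ConstDiff.psl_two_value hn hcard e
        (v := (u : G ⧸ Cfsg.oddCore G))
        (by rw [← QuotientGroup.mk_mul, ← pow_two, QuotientGroup.eq_one_iff]; exact hu2)
        (fun e1 => hu ((QuotientGroup.eq_one_iff u).mp e1))
        (θ := θ) (fun e1 => hθ (Subtype.ext e1))
      simpa [inflQ_apply] using this

end Cfsg.Agent.S4514
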