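import Cfsg.Statements.S4517
import Cfsg.Agent.Lib.Block.RealBlocks
-- import your own Cfsg.Agent.* helpers here

set_option autoImplicit false
open Cfsg CfsgLib.Block

open Cfsg

namespace Cfsg.Agent.S4517

/-- Let G be a finite group, M a maximal ideal of the algebraic integers containing 2, and k a natural number coprime to the order of G with g ^ k = g⁻¹ for every element g of odd order (so that g ↦ g ^ k induces a field automorphism of the character values inverting the roots of unity of odd order). If B is a 2-block of full defect (its defect equals the exponent of 2 in the order of G) that is stable under χ ↦ χ ∘ (· ^ k), then B is the principal 2-block. -/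
theorem result {G : Type*} [Group G] [Finite G] (M : Ideal Cfsg.AlgInt) (hM : Cfsg.IsPModular 2 M) (k : ℕ) (hk : Nat.Coprime k (Nat.card G)) (hk₂ : ∀ g : G, Odd (orderOf g) → g ^ k = g⁻¹) (B : Set (Cfsg.IrrCharacter G)) (hB : Cfsg.IsPBlock M B) (hdef : Cfsg.blockDefect 2 B = (Nat.card G).factorization 2) (hstab : ∀ χ ∈ B, ∃ ψ ∈ B, ∀ g : G, (ψ : G → ℂ) g = (χ : G → ℂ) (g ^ k)) : B = Cfsg.principalBlock M G := by
  classical
  have := hM.2.1
  letI := Fintype.ofFinite G
  have := Fintype.ofFinite (IrrCharacter G)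
  refine isPBlock_eq_principal_of_real hM hB hdef fun χ hχ => ?_
  obtain ⟨ψ, hψ, hψv⟩ := hstab χ hχ
  have hreg : ∀ g : G, ¬ 2 ∣ orderOf g → (ψ : G → ℂ) g = (conjChar χ : G → ℂ) g := fun g hg => by
    rw [hψv g, hk₂ g (Nat.odd_iff.mpr (Nat.two_dvd_ne_zero.mp hg)), conjChar_eq_inv]
  by_contra hnot
  have h0 := regInner_eq_zero_of_not_mem hM (IsBlockUnion.of_isPBlock hB) hψ hnot
  have h1 : regInner 2 ψ (conjChar χ) = (Nat.card G : ℂ)⁻¹ *
      ((∑ g ∈ Finset.univ.filter (fun g : G => ¬ 2 ∣ orderOf g),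
        Complex.normSq ((conjChar χ : G → ℂ) g) : ℝ) : ℂ) := by
    rw [regInner, classInner, Complex.ofReal_sum, Finset.sum_filter]
    congr 1
    refine Finset.sum_congr rfl fun g _ => ?_
    by_cases hg : 2 ∣ orderOf g
    · simp [regFun, hg]
    · rw [if_pos hg, regFun, if_neg hg, hreg g hg, Complex.mul_conj]
  rw [h0, eq_comm, mul_eq_zero] at h1
  have h2 : (0 : ℝ) < ∑ g ∈ Finset.univ.filter (fun g : G => ¬ 2 ∣ orderOf g),
      Complex.normSq ((conjChar χ : G → ℂ) g) :=
    Finset.sum_pos' (fun g _ => Complex.normSq_nonneg _)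
      ⟨1, by simp, Complex.normSq_pos.mpr (CfsgLib.Char.irr_one_ne_zero _)⟩
  rcases h1 with h1 | h1
  · exact Nat.card_pos.ne' (Nat.cast_eq_zero.mp (inv_eq_zero.mp h1))
  · exact h2.ne' (Complex.ofReal_eq_zero.mp h1)

end Cfsg.Agent.S4517
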