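import Cfsg.Statements.S4518
import Cfsg.Agent.Lib.Char.Inertia
import Cfsg.Agent.Lib.Char.PowTwist

set_option autoImplicit false
open Cfsg

namespace Cfsg.Agent.S4518

/-- Let N be a normal subgroup of the finite group G whose index is not divisible by the prime p, and let k be coprime to the order of G with k ^ (p ^ e) ≡ 1 modulo the order of G for some e (so g ↦ g ^ k induces a field automorphism of p-power order on character values). If an irreducible character χ of G satisfies χ (g ^ k) = χ g for all g, then every irreducible constituent θ of the restriction of χ to N satisfies θ (n ^ k) = θ n for all n. -/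
theorem result {G : Type*} [Group G] [Fintype G] (p : ℕ) [Fact p.Prime] (N : Subgroup G) [N.Normal] [Fintype N] (hidx : ¬ p ∣ N.index) (k e : ℕ) (hk : Nat.Coprime k (Nat.card G)) (hke : k ^ (p ^ e) ≡ 1 [MOD Nat.card G]) (χ : Cfsg.IrrCharacter G) (hχ : ∀ g : G, (χ : G → ℂ) (g ^ k) = (χ : G → ℂ) g) (θ : Cfsg.IrrCharacter N) (hθ : Cfsg.classInner (fun n : N => (χ : G → ℂ) n) (θ : N → ℂ) ≠ 0) : ∀ n : N, (θ : N → ℂ) (n ^ k) = (θ : N → ℂ) n := by
  classical
  have hkN : (Nat.card N).Coprime k :=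
    (Nat.Coprime.coprime_dvd_right (Subgroup.card_subgroup_dvd_card N) hk).symm
  let tw : Cfsg.IrrCharacter N → Cfsg.IrrCharacter N := fun φ =>
    ⟨fun n => (φ : N → ℂ) (n ^ k), CfsgLib.Char.isIrrCharacter_powMap hkN φ⟩
  have hinner : ∀ φ : Cfsg.IrrCharacter N,
      Cfsg.classInner (fun n : N => (χ : G → ℂ) n) (tw φ : N → ℂ) =
        Cfsg.classInner (fun n : N => (χ : G → ℂ) n) (φ : N → ℂ) := by
    intro φ
    simp only [Cfsg.classInner, tw]
    congr 1
    refine Fintype.sum_equiv (powCoprime hkN) _ _ fun n => ?_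
    rw [powCoprime_apply, SubmonoidClass.coe_pow, hχ]
  let O := {φ : Cfsg.IrrCharacter N // Cfsg.classInner (fun n : N => (χ : G → ℂ) n) (φ : N → ℂ) ≠ 0}
  letI := Fintype.ofFinite O
  let f : O → O := fun φ => ⟨tw φ.1, by rw [hinner]; exact φ.2⟩
  have hfinj : Function.Injective f := fun a b h => by
    refine Subtype.ext (Subtype.ext (funext fun n => ?_))
    obtain ⟨m, rfl⟩ := (powCoprime hkN).surjective n
    exact congrFun (congrArg (fun z : O => ((z.1 : Cfsg.IrrCharacter N) : N → ℂ)) h) m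
  let σ : Equiv.Perm O := Equiv.ofBijective f (Finite.injective_iff_bijective.1 hfinj)
  have hiter : ∀ (j : ℕ) (φ : O) (n : N),
      (((σ ^ j) φ).1 : N → ℂ) n = (φ.1 : N → ℂ) (n ^ (k ^ j)) := by
    intro j
    induction j with
    | zero => intro φ n; simp
    | succ j ih =>
      intro φ n
      rw [pow_succ' σ j, Equiv.Perm.mul_apply]
      show (((σ ^ j) φ).1 : N → ℂ) (n ^ k) = _
      rw [ih, ← pow_mul, ← pow_succ']
  have hσ : σ ^ p ^ e = 1 := Equiv.ext fun φ => Subtype.ext (Subtype.ext (funext fun n => by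
    rw [hiter, Equiv.Perm.one_apply]
    refine congrArg _ (Subtype.ext ?_)
    rw [SubmonoidClass.coe_pow, ← pow_mod_natCard, show k ^ p ^ e % Nat.card G = 1 % Nat.card G from hke,
      pow_mod_natCard, pow_one]))
  have hconj : ∀ φ : O, ∀ ψ : O, ∃ g : G,
      CfsgLib.Char.conjFun N (φ.1 : N → ℂ) g = (ψ.1 : N → ℂ) := fun φ ψ => by
    by_contra hn
    push Not at hn
    exact ψ.2 (CfsgLib.Char.classInner_restrict_zero N χ.2 φ.1.2 ψ.1.2 φ.2 hn)
  have hcard : ¬ p ∣ Fintype.card O := by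
    let orb : G → O := fun g => ⟨⟨_, CfsgLib.Char.isIrrCharacter_conjFun N θ.2 g⟩, by
      rw [CfsgLib.Char.classInner_restrict_conj N (CfsgLib.Char.isClassFunction_irr χ)]; exact hθ⟩
    have hfib : ∀ φ : O, (Finset.univ.filter fun g => orb g = φ).card =
        Nat.card (CfsgLib.Char.inertia N (θ : N → ℂ)) := fun φ => by
      obtain ⟨g₀, hg₀⟩ := hconj ⟨θ, hθ⟩ φ
      rw [← Fintype.card_subtype, ← Nat.card_eq_fintype_card,
        ← CfsgLib.Char.card_fiber_conjFun N (θ : N → ℂ) g₀]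
      refine Nat.card_congr (Equiv.subtypeEquivRight fun g => ?_)
      rw [Subtype.ext_iff, Subtype.ext_iff, hg₀]
    have h1 : Nat.card G = Fintype.card O * Nat.card (CfsgLib.Char.inertia N (θ : N → ℂ)) := by
      rw [Nat.card_eq_fintype_card, ← Finset.card_univ,
        Finset.card_eq_sum_card_fiberwise (f := orb) (t := Finset.univ) fun g _ => Finset.mem_univ _,
        Finset.sum_congr rfl fun φ _ => hfib φ, Finset.sum_const, Finset.card_univ, smul_eq_mul]
    rw [← (CfsgLib.Char.inertia N (θ : N → ℂ)).index_mul_card] at h1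
    rw [← Nat.eq_of_mul_eq_mul_right Nat.card_pos h1]
    exact fun h => hidx (h.trans (Subgroup.index_dvd_of_le
      (CfsgLib.Char.le_inertia N (CfsgLib.Char.isClassFunction_irr θ))))
  obtain ⟨φ₀, hφ₀⟩ := Equiv.Perm.exists_fixed_point_of_prime hcard hσ
  have hfix : ∀ n : N, (φ₀.1 : N → ℂ) (n ^ k) = (φ₀.1 : N → ℂ) n := fun n =>
    congrFun (congrArg (fun z : O => ((z.1 : Cfsg.IrrCharacter N) : N → ℂ)) hφ₀) n
  obtain ⟨g, hg⟩ := hconj φ₀ ⟨θ, hθ⟩
  intro n
  have hg' : ∀ m : N, (θ : N → ℂ) m = (φ₀.1 : N → ℂ) (CfsgLib.Char.normalConjHom N g m) :=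
    fun m => (congrFun hg m).symm
  rw [hg', hg', map_pow, hfix]

end Cfsg.Agent.S4518
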