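import Cfsg.Statements.S4523
import Cfsg.Agent.Lib.Walter.Consumers.RealElement
-- import your own Cfsg.Agent.* helpers here

set_option autoImplicit false
open Cfsg

namespace Cfsg.Agent.S4523

/-- Let S be a non-abelian finite simple group with commutative Sylow 2-subgroups and M a maximal ideal of the algebraic integers containing 2. Let k be a natural number with g ^ k = g for every 2-element g and g ^ k = g⁻¹ for every element g of odd order. Then S has an irreducible character χ₁ of even degree with χ₁ (g ^ k) = χ₁ g for all g, and its principal 2-block contains a character χ₂ other than the principal character with χ₂ (g ^ k) = χ₂ g for all g. -/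
theorem result {S : Type*} [Group S] [Finite S] [IsSimpleGroup S] (hna : ¬ IsMulCommutative S) (P : Sylow 2 S) (hP : IsMulCommutative P) (M : Ideal Cfsg.AlgInt) (hM : Cfsg.IsPModular 2 M) (k : ℕ) (hk₁ : ∀ g : S, (∃ j : ℕ, orderOf g = 2 ^ j) → g ^ k = g) (hk₂ : ∀ g : S, Odd (orderOf g) → g ^ k = g⁻¹) : (∃ χ₁ : Cfsg.IrrCharacter S, Even (Cfsg.charDegree (χ₁ : S → ℂ)) ∧ ∀ g : S, (χ₁ : S → ℂ) (g ^ k) = (χ₁ : S → ℂ) g) ∧ ∃ χ₂ ∈ Cfsg.principalBlock M S, (χ₂ : S → ℂ) ≠ (fun _ => 1) ∧ ∀ g : S, (χ₂ : S → ℂ) (g ^ k) = (χ₂ : S → ℂ) g := by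
  classical
  haveI := Fact.mk Nat.prime_two
  have hab : CfsgLib.Walter.AbTwo S := CfsgLib.Walter.abTwo_of_sylow P hP
  have hc : CfsgLib.Walter.CentForm S := CfsgLib.Walter.classified S inferInstance hna hab
  -- `g ^ k = g⁻¹` for every element
  have hinv : ∀ g : S, g ^ k = g⁻¹ := by
    intro g
    obtain ⟨a, b, hb, hab'⟩ := Nat.exists_eq_two_pow_mul_odd (orderOf_pos g).ne'
    have h2 : orderOf (g ^ b) = 2 ^ a := by
      rw [orderOf_pow_of_dvd hb.pos.ne' (hab' ▸ dvd_mul_left b _), hab', Nat.mul_div_cancel _ hb.pos]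
    have hodd : orderOf (g ^ 2 ^ a) = b := by
      rw [orderOf_pow_of_dvd (by positivity) (hab' ▸ dvd_mul_right _ b), hab',
        Nat.mul_div_cancel_left _ (by positivity)]
    -- a `2`-element squares to one
    obtain ⟨Q, hQ⟩ := (IsPGroup.of_card (G := Subgroup.zpowers (g ^ b)) (p := 2) (n := a)
      (by rw [Nat.card_zpowers, h2])).exists_le_sylow
    have hsq : g ^ b * g ^ b = 1 :=
      (CfsgLib.Walter.Rank.sylow_elementary inferInstance hc Q).2 _ (hQ (Subgroup.mem_zpowers _))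
    have hA : g ^ (b * (k + 1)) = 1 := by
      rw [pow_mul, pow_succ, hk₁ _ ⟨a, h2⟩, hsq]
    have hB : g ^ (2 ^ a * (k + 1)) = 1 := by
      rw [pow_mul, pow_succ, hk₂ _ (hodd.symm ▸ hb), inv_mul_cancel]
    have hA' := orderOf_dvd_of_pow_eq_one hA
    have hB' := orderOf_dvd_of_pow_eq_one hB
    rw [hab', mul_comm b] at hA'
    rw [hab'] at hB'
    have h1 : 2 ^ a ∣ k + 1 := Nat.dvd_of_mul_dvd_mul_right hb.pos hA'
    have h3 : b ∣ k + 1 := Nat.dvd_of_mul_dvd_mul_left (by positivity) hB'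
    have h4 : orderOf g ∣ k + 1 := hab' ▸ (Nat.Coprime.pow_left a
      (Nat.coprime_two_left.2 hb)).mul_dvd_of_dvd_of_dvd h1 h3
    rw [orderOf_dvd_iff_pow_eq_one, pow_succ] at h4
    exact eq_inv_of_mul_eq_one_left h4
  simp only [hinv]
  obtain ⟨y, hy, hreal, hoddC⟩ := CfsgLib.Walter.Consumers.RealElement.exists_real_odd hab hc
  refine ⟨CfsgLib.Char.RealEven.exists_real_even_degree y hy hreal
    (CfsgLib.Char.Strunkov.card_roots_eq_one y hoddC), ?_⟩
  refine CfsgLib.Char.RealEven.exists_real_ne_one M hM ?_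
  have h4 := (CfsgLib.Walter.Rank.sylow_elementary inferInstance hc P).1
  obtain ⟨j, hj⟩ := P.2.exists_card_eq
  have hj0 : j ≠ 0 := fun e => by rw [hj, e, pow_zero] at h4; omega
  exact (dvd_pow_self 2 hj0).trans (hj ▸ Subgroup.card_subgroup_dvd_card (P : Subgroup S))

end Cfsg.Agent.S4523
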