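import Cfsg.Statements.S4531
import Cfsg.Agent.Lib.Block.Tame.TameSolvable

set_option autoImplicit false
open Cfsg

namespace Cfsg.Agent.S4531



/-- Let the finite group G have a 2-block B (relative to a maximal ideal M of the algebraic integers containing 2) of 2-regular rank three (three irreducible Brauer characters) whose defect group D is dihedral of order 2 ^ n with n ≥ 3 or semidihedral. Then the centre of G has odd order and G is not solvable. -/
theorem result {G : Type*} [Group G] [Finite G] (M : Ideal Cfsg.AlgInt) (hM : Cfsg.IsPModular 2 M) (B : Set (Cfsg.IrrCharacter G)) (hB : Cfsg.IsPBlock M B) (D : Subgroup G) (hD : Cfsg.IsDefectGroup 2 M B D) (hD' : (∃ n : ℕ, 3 ≤ n ∧ Nonempty (D ≃* DihedralGroup (2 ^ (n - 1)))) ∨ Cfsg.IsQuasiDihedral D) (hl : Cfsg.blockRank 2 B = 3) : Odd (Nat.card (Subgroup.center G)) ∧ ¬ Group.IsSolvable G := by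
  haveI := hM.2.1
  classical
  letI := Fintype.ofFinite G
  haveI := Fintype.ofFinite (IrrCharacter G)
  obtain ⟨J, hJ⟩ := (CfsgLib.Block.Tame.rank_le_three hM hB hD hD').2 hl
  refine ⟨?_, CfsgLib.Block.Tame.not_isSolvable_of_rank_three (M := M) _ G le_rfl hM B hB D hD hD' hl⟩
  by_contra hodd
  rw [Nat.not_odd_iff_even, even_iff_two_dvd] at hodd
  haveI : Fact (Nat.Prime 2) := ⟨Nat.prime_two⟩
  obtain ⟨z, hz⟩ := exists_prime_orderOf_dvd_card' 2 hodd
  rw [← Subgroup.orderOf_coe] at hz
  haveI : (Subgroup.zpowers (z : G)).Normal := ⟨fun a ha g => by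
    rw [Subgroup.mem_center_iff.1 (Subgroup.zpowers_le.2 z.2 ha) g, mul_inv_cancel_right]; exact ha⟩
  have hle := CfsgLib.Block.normal_le_defectGroup hM hB hD (Q := Subgroup.zpowers (z : G))
    (IsPGroup.of_card (n := 1) (by rw [Nat.card_zpowers, hz, pow_one]))
  refine hJ.not_mem_center (hle (Subgroup.mem_zpowers _)) (fun e0 => ?_) z.2
  rw [e0, orderOf_one] at hz
  exact absurd hz (by norm_num)

end Cfsg.Agent.S4531
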