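import Cfsg.Statements.S4534
import Cfsg.Agent.Lib.SymBlock.Defect
import Cfsg.Agent.Lib.SymBlock.Witness
import Cfsg.Agent.Lib.SymBlock.Classes

set_option autoImplicit false
open Cfsg

namespace Cfsg.Agent.S4534

open CfsgLib.SymBlock

/-- Let B be a p-block of a finite symmetric group (relative to a maximal ideal M of the algebraic integers containing p) with a nontrivial defect group D all of whose sections have p-rank at most s. Then the p-regular rank of B is less than p ^ s. -/
theorem result (n : ℕ) (p : ℕ) [Fact p.Prime] (M : Ideal Cfsg.AlgInt) (hM : Cfsg.IsPModular p M) (B : Set (Cfsg.IrrCharacter (Equiv.Perm (Fin n)))) (hB : Cfsg.IsPBlock M B) (D : Subgroup (Equiv.Perm (Fin n))) (hD : Cfsg.IsDefectGroup p M B D) (hD1 : D ≠ ⊥) (s : ℕ) (hs : Cfsg.SectionalPRankLE p s D) : Cfsg.blockRank p B < p ^ s := by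
  classical
  haveI : M.IsMaximal := hM.2.1
  have hp : p.Prime := hM.1
  have hN : n ≤ n := le_rfl
  obtain ⟨χ, hχ⟩ := CfsgLib.Block.isPBlock_nonempty hB
  set β₀ := (stEquiv hN).symm χ with hβ₀
  have hmem : stEquiv hN β₀ ∈ B := by rwa [hβ₀, Equiv.apply_symm_apply]
  set b₀ := natBead β₀ with hb₀
  have hint : ∀ β : St n n, intBead (natBead β) = β.1 := fun β =>
    funext fun i => Int.toNat_of_nonneg (β.2.2.1 i)
  have hsum : ∀ β : St n n, ∑ i, natBead β i = n + ∑ i : Fin n, (i : ℕ) := by
    intro β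
    have h := β.2.2.2
    rw [← hint β] at h
    simp only [intBead] at h
    exact_mod_cast h
  have hw : 0 < Runner.weight p b₀ :=
    Nat.pos_of_ne_zero fun h => hD1 (defect_eq_bot_of_weight_eq_zero hN hM hB hD hmem h)
  -- the rank of the defect group
  obtain ⟨x, hx, hxs, hxne⟩ := exists_perm_chi_ne_zero hp b₀ (natBead_injective β₀) (hsum β₀)
  have hws : Runner.weight p b₀ ≤ s := by
    refine le_rank_of_irr_ne_zero hM hB hD hx hxs hmem ?_ hs
    rw [irr_eq, ← hint β₀]
    rcases eps_sq β₀ with h | h <;> simpa [h] using hxne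
  -- the span
  have hle : Cfsg.blockRank p B ≤ Module.finrank ℂ (Submodule.span ℂ (regVec n p ''
      {b | Function.Injective b ∧ Runner.SameCnt p b b₀ ∧ ∑ i, b i = ∑ i, b₀ i})) := by
    refine Submodule.finrank_mono (Submodule.span_le.mpr ?_)
    rintro _ ⟨ψ, hψ, rfl⟩
    obtain ⟨β, hβ, rfl⟩ := block_subset_countClass hN hM hB hmem hψ
    have : Cfsg.pRegularPart p ((stEquiv hN β : IrrCharacter (Equiv.Perm (Fin n))) : _ → ℂ) =
        (eps β : ℂ) • regVec n p (natBead β) := by
      funext g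
      simp only [regVec, Cfsg.pRegularPart, Pi.smul_apply, smul_eq_mul, mul_ite, mul_zero, hint,
        irr_eq hN β g]
    show Cfsg.pRegularPart p _ ∈ _
    rw [this]
    exact Submodule.smul_mem _ _ (Submodule.subset_span ⟨natBead β,
      ⟨natBead_injective β, (sameRes_iff_sameCnt β β₀).mp hβ, by rw [hsum, hsum]⟩, rfl⟩)
  calc Cfsg.blockRank p B ≤ _ := hle
    _ < p ^ Runner.weight p b₀ :=
      finrank_regular_span_lt hp le_rfl b₀ (natBead_injective β₀) (hsum β₀) hw
    _ ≤ p ^ s := Nat.pow_le_pow_right hp.pos hws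

end Cfsg.Agent.S4534
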