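import Cfsg.Statements.S4535
import Cfsg.Agent.Lib.SymBlock.AltRank

set_option autoImplicit false
open Cfsg

namespace Cfsg.Agent.S4535

open CfsgLib.SymBlock CfsgLib.Block

/-- Let B be a p-block of a finite alternating group (relative to a maximal ideal M of the algebraic integers containing p) with a nontrivial defect group D all of whose sections have p-rank at most s. Then the p-regular rank of B is less than p ^ s. -/
theorem result (n : ℕ) (p : ℕ) [Fact p.Prime] (M : Ideal Cfsg.AlgInt) (hM : Cfsg.IsPModular p M) (B : Set (Cfsg.IrrCharacter (alternatingGroup (Fin n)))) (hB : Cfsg.IsPBlock M B) (D : Subgroup (alternatingGroup (Fin n))) (hD : Cfsg.IsDefectGroup p M B D) (hD1 : D ≠ ⊥) (s : ℕ) (hs : Cfsg.SectionalPRankLE p s D) : Cfsg.blockRank p B < p ^ s := by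
  classical
  haveI : M.IsMaximal := hM.2.1
  have hp : p.Prime := hM.1
  haveI : Nontrivial D := (Subgroup.nontrivial_iff_ne_bot D).2 hD1
  haveI : Nontrivial (alternatingGroup (Fin n)) := Function.Injective.nontrivial (Subgroup.subtype_injective D)
  haveI : Nontrivial (Fin n) := by
    by_contra hn
    haveI := not_nontrivial_iff_subsingleton.1 hn
    exact not_subsingleton (alternatingGroup (Fin n)) inferInstance
  letI := Fintype.ofFinite (ConjClasses (alternatingGroup (Fin n)))
  letI := Fintype.ofFinite (Equiv.Perm (Fin n) ⧸ alternatingGroup (Fin n))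
  obtain ⟨B', hB', hcov⟩ := exists_covers (G := Equiv.Perm (Fin n)) hB
  set Q := D.map (alternatingGroup (Fin n)).subtype with hQdef
  have hQA : Q ≤ alternatingGroup (Fin n) := Subgroup.map_subtype_le D
  have hQD : IsDefectGroup p M B (Q.subgroupOf (alternatingGroup (Fin n))) := by
    rwa [Subgroup.subgroupOf, hQdef, Subgroup.comap_map_eq_self_of_injective (Subgroup.subtype_injective _)]
  obtain ⟨P, hP, hPQ⟩ := hcov.exists_defect_inf hM hB' hB hQA hQD
  -- transport to the defect group
  let emb : ∀ {K : Subgroup (Equiv.Perm (Fin n))}, K ≤ Q → (K →* D) := fun hK =>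
    ((D.equivMapOfInjective _ (Subgroup.subtype_injective _)).symm.toMonoidHom).comp (Subgroup.inclusion hK)
  have hemb : ∀ {K : Subgroup (Equiv.Perm (Fin n))} (hK : K ≤ Q), Function.Injective (emb hK) := fun hK =>
    (D.equivMapOfInjective _ (Subgroup.subtype_injective _)).symm.injective.comp (Subgroup.inclusion_injective hK)
  have hs1 : 1 ≤ s := by
    have hpD : p ∣ Nat.card D := by
      obtain ⟨k, hk⟩ := (isPGroup_defectGroup hM hB hD).exists_card_eq
      have := Finite.one_lt_card (α := D)
      rcases k with _ | k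
      · rw [hk, pow_zero] at this; omega
      · exact hk ▸ dvd_pow_self p k.succ_ne_zero
    obtain ⟨a, ha⟩ := exists_prime_orderOf_dvd_card' p hpD
    refine le_of_elementary hp.one_lt (Subgroup.zpowers a).subtype Subtype.val_injective hs
      (fun x y => mul_comm' x y) (fun x => ?_) (by rw [Nat.card_zpowers, ha, pow_one])
    have := pow_card_eq_one' (x := x)
    rwa [Nat.card_zpowers, ha] at this
  obtain ⟨χ', hχ'⟩ := CfsgLib.Block.isPBlock_nonempty hB'
  set β₀ := (stEquiv (le_refl n)).symm χ' with hβ₀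
  have hmem : stEquiv (le_refl n) β₀ ∈ B' := by rwa [hβ₀, Equiv.apply_symm_apply]
  have hw : 0 < Runner.weight p (natBead β₀) := Nat.pos_of_ne_zero fun h => by
    have hPb := defect_eq_bot_of_weight_eq_zero (le_refl n) hM hB' hP hmem h
    rw [hPb, bot_inf_eq] at hPQ
    exact hD1 ((Subgroup.map_eq_bot_iff_of_injective D (Subgroup.subtype_injective _)).1 hPQ.symm)
  refine blockRank_alt_lt hM hB' hB hcov hmem hw hs1 ?_
  obtain ⟨x, hx, hxs, hxne⟩ :=
    exists_perm_chi_ne_zero hp (natBead β₀) (natBead_injective β₀) (sum_natBead β₀)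
  have hne : (stEquiv (le_refl n) β₀ : Equiv.Perm (Fin n) → ℂ) x ≠ 0 := by
    rw [irr_eq, ← intBead_natBead]
    rcases eps_sq β₀ with h | h <;> simpa [h] using hxne
  by_cases h2 : p = 2
  · subst h2
    rw [if_pos rfl]
    obtain ⟨E, hEP, hEA, hcard, hexp, hcomm⟩ := exists_even_elementary hM hB' hP hx hxs hmem hne
    have hEQ : E ≤ Q := hPQ ▸ le_inf hEP hEA
    exact le_of_elementary (by norm_num) (emb hEQ) (hemb hEQ) hs
      (fun a b => Subtype.ext (hcomm a a.2 b b.2)) (fun a => Subtype.ext (hexp a a.2)) hcard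
  · rw [if_neg h2]
    have hPA : P ≤ alternatingGroup (Fin n) := fun a ha => by
      obtain ⟨k, hk⟩ := (IsPGroup.iff_orderOf.mp (isPGroup_defectGroup hM hB' hP)) ⟨a, ha⟩
      rw [Subgroup.orderOf_mk] at hk
      have h1 : Equiv.Perm.sign a ^ p ^ k = 1 := by rw [← map_pow, ← hk, pow_orderOf_eq_one, map_one]
      rw [Equiv.Perm.mem_alternatingGroup]
      rcases Int.units_eq_one_or (Equiv.Perm.sign a) with e | e
      · exact e
      · rw [e, ((hp.odd_of_ne_two h2).pow).neg_one_pow] at h1
        exact e.trans h1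
    have hle : P ≤ Q := hPQ ▸ le_inf le_rfl hPA
    exact le_rank_of_irr_ne_zero hM hB' hP hx hxs hmem hne (sectional_of_injective (emb hle) (hemb hle) hs)

end Cfsg.Agent.S4535
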