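import Cfsg.Statements.S4540
import Cfsg.Agent.Lib.Block.DyadicMajor

/-!
# A major subsection of rank at most three at the prime two
-/

set_option autoImplicit false
open Cfsg

namespace Cfsg.Agent.S4540

open CfsgLib CfsgLib.Block
open scoped ComplexConjugate Pair

/-- Let B be a 2-block of the finite group G (relative to a maximal ideal M of the algebraic integers containing 2) of defect d with defect group D. Let z be an element of D commuting with every element of D, and let b be a block of the centralizer C of z with defect group D that induces B (a major subsection (z, b)). If b has 2-regular rank at most three, then 3·k(B) ≤ 3·k₀(B) + 2·Σ 2 ^ h(χ), where k(B) is the number of members of B, k₀(B) the number of members of height zero, and the sum runs over the members χ of B of positive height h(χ); this bound is at most 3·2 ^ d, so in particular B contains at most 2 ^ d irreducible characters. -/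
theorem result {G : Type*} [Group G] [Finite G] (M : Ideal Cfsg.AlgInt) (hM : Cfsg.IsPModular 2 M) (B : Set (Cfsg.IrrCharacter G)) (hB : Cfsg.IsPBlock M B) (D : Subgroup G) (hD : Cfsg.IsDefectGroup 2 M B D) (z : G) (hzD : z ∈ D) (hzc : ∀ d ∈ D, d * z = z * d) (b : Set (Cfsg.IrrCharacter ↥(Subgroup.centralizer ({z} : Set G)))) (hb : Cfsg.IsInducedBlock M (Subgroup.centralizer ({z} : Set G)) b B) (hbD : Cfsg.IsDefectGroup 2 M b (D.subgroupOf (Subgroup.centralizer ({z} : Set G)))) (hl : Cfsg.blockRank 2 b ≤ 3) : 3 * Nat.card B ≤ 3 * Nat.card {χ : Cfsg.IrrCharacter G // χ ∈ B ∧ Cfsg.blockHeight 2 B (χ : G → ℂ) = 0} + 2 * (∑ᶠ χ ∈ {χ : Cfsg.IrrCharacter G | χ ∈ B ∧ 1 ≤ Cfsg.blockHeight 2 B (χ : G → ℂ)}, 2 ^ Cfsg.blockHeight 2 B (χ : G → ℂ)) ∧ 3 * Nat.card {χ : Cfsg.IrrCharacter G // χ ∈ B ∧ Cfsg.blockHeight 2 B (χ : G → ℂ) = 0} + 2 * (∑ᶠ χ ∈ {χ : Cfsg.IrrCharacter G | χ ∈ B ∧ 1 ≤ Cfsg.blockHeight 2 B (χ : G → ℂ)}, 2 ^ Cfsg.blockHeight 2 B (χ : G → ℂ))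 ≤ 3 * 2 ^ Cfsg.blockDefect 2 B := by
  classical
  have := hM.2.1
  let _ := Fintype.ofFinite G
  let _ := Fintype.ofFinite (IrrCharacter G)
  let _ := Fintype.ofFinite (IrrCharacter (Subgroup.centralizer ({z} : Set G)))
  have hC : ∀ t : G, t ∈ Subgroup.centralizer ({z} : Set G) ↔ Commute t z := fun t => Subgroup.mem_centralizer_singleton_iff
  have hDC : D ≤ Subgroup.centralizer ({z} : Set G) := fun d hd => (hC d).mpr (hzc d hd)
  have hd := major_defect_eq hM hB hD hDC hb.1 hbD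
  obtain ⟨k, hk⟩ := IsPGroup.iff_orderOf.mp (isPGroup_defectGroup hM hB hD) ⟨z, hzD⟩
  rw [Subgroup.orderOf_mk] at hk
  obtain ⟨A, S, hS0, hSsymm, hA0, hrow, hsum, hodd, hS1, hmaj⟩ := exists_avg_matrix hM hk hC hb
  rw [hd] at hrow hsum
  obtain ⟨χ₀, hχ₀, h00⟩ := exists_height_zero hM hB
  have hR0 : ∀ χ ∈ B, ∀ ψ ∈ B, blockHeight 2 B (χ : G → ℂ) = 0 →
      (4 : ℤ) ^ blockHeight 2 B (ψ : G → ℂ) ≤ S χ ψ := by
    intro χ hχ ψ hψ h0
    rcases Nat.eq_zero_or_pos (blockHeight 2 B (ψ : G → ℂ)) with h1 | h1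
    · rw [h1, pow_zero]; exact hS1 χ hχ ψ hψ h0 h1
    · rw [hSsymm]; exact (hmaj hd ψ hψ h1).2 χ hχ h0
  refine two_major_count_nat (two_major_count (Finset.univ.filter (· ∈ B))
    (fun χ => blockHeight 2 B (χ : G → ℂ)) A S hS0
    (fun i hi => hrow i (Finset.mem_filter.mp hi).2)
    (fun i hi => hodd i (Finset.mem_filter.mp hi).2) (fun i _ => hA0 i) (fun i hi hpos => ?_)
    (fun i hi j hj => hR0 i (Finset.mem_filter.mp hi).2 j (Finset.mem_filter.mp hj).2) ?_)
  · have hiB := (Finset.mem_filter.mp hi).2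
    refine ⟨(hmaj hd i hiB hpos).1, fun hzero => ?_⟩
    have h1 := hrow i hiB
    have h2 := Finset.single_le_sum (f := fun ψ => S i ψ)
      (s := (Finset.univ.filter (· ∈ B)).erase i) (fun ψ _ => hS0 i ψ) (a := χ₀)
      (Finset.mem_erase.mpr ⟨fun e => by rw [e] at h00; omega, by simp [hχ₀]⟩)
    have h3 := (hmaj hd i hiB hpos).2 χ₀ hχ₀ h00
    have h4 : (0 : ℤ) < 4 ^ blockHeight 2 B (i : G → ℂ) := by positivity
    rw [hzero] at h1
    omega
  · rw [hsum, mul_comm (3 : ℤ)]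
    exact mul_le_mul_of_nonneg_left (by exact_mod_cast hl) (by positivity)

end Cfsg.Agent.S4540
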