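import Cfsg.Statements.S4541
import Cfsg.Agent.Lib.Block.DyadicMajor

/-!
# Height zero characters and the rank of a subsection at the prime two
-/

set_option autoImplicit false
open Cfsg

namespace Cfsg.Agent.S4541

open CfsgLib CfsgLib.Block
open scoped ComplexConjugate Pair

/-- Let B be a 2-block of the finite group G (relative to a maximal ideal M of the algebraic integers containing 2), u a 2-element, and b a block of the centralizer of u inducing B (a subsection (u, b)), of defect q and 2-regular rank l; write s for the integer square root of l and k₀(B) for the number of members of B of height zero. If s is odd then k₀(B) ≤ s·2 ^ q, and otherwise (s + 1)·k₀(B) ≤ l·2 ^ q; in particular k₀(B) ≤ 2 ^ q when l ≤ 3. -/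
theorem result {G : Type*} [Group G] [Finite G] (M : Ideal Cfsg.AlgInt) (hM : Cfsg.IsPModular 2 M) (B : Set (Cfsg.IrrCharacter G)) (hB : Cfsg.IsPBlock M B) (u : G) (hu : ∃ j : ℕ, orderOf u = 2 ^ j) (b : Set (Cfsg.IrrCharacter ↥(Subgroup.centralizer ({u} : Set G)))) (hb : Cfsg.IsInducedBlock M (Subgroup.centralizer ({u} : Set G)) b B) : (Odd (Nat.sqrt (Cfsg.blockRank 2 b)) → Nat.card {χ : Cfsg.IrrCharacter G // χ ∈ B ∧ Cfsg.blockHeight 2 B (χ : G → ℂ) = 0} ≤ Nat.sqrt (Cfsg.blockRank 2 b) * 2 ^ Cfsg.blockDefect 2 b) ∧ (¬ Odd (Nat.sqrt (Cfsg.blockRank 2 b)) → (Nat.sqrt (Cfsg.blockRank 2 b) + 1) * Nat.card {χ : Cfsg.IrrCharacter G // χ ∈ B ∧ Cfsg.blockHeight 2 B (χ : G → ℂ) = 0} ≤ Cfsg.blockRank 2 b * 2 ^ Cfsg.blockDefect 2 b) ∧ (Cfsg.blockRank 2 b ≤ 3 → Nat.card {χ : Cfsg.IrrCharacter G // χ ∈ B ∧ Cfsg.blockHeight 2 B (χ : G → ℂ) = 0} ≤ 2 ^ Cfsg.blockDefect 2 b) := by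
  classical
  have := hM.2.1
  let _ := Fintype.ofFinite G
  let _ := Fintype.ofFinite (IrrCharacter G)
  let _ := Fintype.ofFinite (IrrCharacter (Subgroup.centralizer ({u} : Set G)))
  have hC : ∀ t : G, t ∈ Subgroup.centralizer ({u} : Set G) ↔ Commute t u := fun t => Subgroup.mem_centralizer_singleton_iff
  obtain ⟨k, hk⟩ := hu
  obtain ⟨A, S, hS0, -, hA0, hrow, hsum, hodd, hS1, -⟩ := exists_avg_matrix hM hk hC hb
  set q := (2 : ℤ) ^ blockDefect 2 b with hq
  have hq0 : 0 < q := by positivity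
  set s := Finset.univ.filter (fun χ : IrrCharacter G => χ ∈ B) with hs
  set Z := s.filter (fun χ : IrrCharacter G => blockHeight 2 B (χ : G → ℂ) = 0) with hZ
  have hZc : Nat.card {χ : IrrCharacter G // χ ∈ B ∧ blockHeight 2 B (χ : G → ℂ) = 0} = Z.card := by
    rw [Nat.card_eq_fintype_card, Fintype.card_subtype, hZ, hs, Finset.filter_filter]
  have hrow' : ∀ χ ∈ Z, A χ * A χ + ((Z.card : ℤ) - 1) ≤ q * A χ ∧ A χ % 2 = 1 ∧ 0 ≤ A χ := by
    intro χ hχ
    obtain ⟨hχs, h0⟩ := Finset.mem_filter.mp hχ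
    have hχB := (Finset.mem_filter.mp hχs).2
    refine ⟨?_, hodd χ hχB h0, hA0 χ⟩
    have h1 : ∑ _ψ ∈ Z.erase χ, (1 : ℤ) ≤ ∑ ψ ∈ Z.erase χ, S χ ψ := Finset.sum_le_sum fun ψ hψ => by
      obtain ⟨hψs, hψ0⟩ := Finset.mem_filter.mp (Finset.mem_of_mem_erase hψ)
      exact hS1 χ hχB ψ (Finset.mem_filter.mp hψs).2 h0 hψ0
    have h2 : ∑ ψ ∈ Z.erase χ, S χ ψ ≤ ∑ ψ ∈ s.erase χ, S χ ψ := Finset.sum_le_sum_of_subset_of_nonneg
      (Finset.erase_subset_erase χ (Finset.filter_subset _ _)) fun ψ _ _ => hS0 χ ψ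
    rw [Finset.sum_const, Finset.card_erase_of_mem hχ, nsmul_eq_mul, mul_one] at h1
    have := hrow χ hχB
    have := Finset.card_pos.mpr ⟨χ, hχ⟩
    omega
  have hsumZ : ∑ χ ∈ Z, A χ ≤ q * blockRank 2 b :=
    hsum ▸ Finset.sum_le_sum_of_subset_of_nonneg (Finset.filter_subset _ _) fun χ _ _ => hA0 χ
  have hlow : ∀ c : ℤ, (∀ χ ∈ Z, c ≤ A χ) → c * Z.card ≤ q * blockRank 2 b := fun c hc => by
    refine le_trans ?_ ((Finset.sum_le_sum hc).trans hsumZ)
    rw [Finset.sum_const, nsmul_eq_mul, mul_comm]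
  set l := blockRank 2 b with hl
  set r := Nat.sqrt l with hr
  have hr1 : r * r ≤ l := Nat.sqrt_le l
  have hr2 : l < (r + 1) * (r + 1) := Nat.lt_succ_sqrt l
  have hr1' : (r : ℤ) * r ≤ l := by exact_mod_cast hr1
  have hr2' : (l : ℤ) + 1 ≤ ((r : ℤ) + 1) * (r + 1) := by exact_mod_cast hr2
  have hbound : ∀ χ ∈ Z, ∀ c : ℤ, A χ ≤ c → (Z.card : ℤ) ≤ q * c := by
    intro χ hχ c hc
    obtain ⟨h1, h2, h3⟩ := hrow' χ hχ
    have : (1 : ℤ) ≤ A χ * A χ := one_le_mul_of_one_le_of_one_le (by omega) (by omega)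
    have : q * A χ ≤ q * c := mul_le_mul_of_nonneg_left hc hq0.le
    omega
  have hoddcase : Odd r → Z.card ≤ r * 2 ^ blockDefect 2 b := by
    intro hodd'
    by_contra hgt
    have hgt' : q * r + 1 ≤ (Z.card : ℤ) := by
      rw [hq, mul_comm]
      exact_mod_cast not_le.mp hgt
    have h1 := hlow ((r : ℤ) + 2) fun χ hχ => by
      by_contra hlt
      obtain ⟨-, h2, -⟩ := hrow' χ hχ
      obtain ⟨j, hj⟩ := hodd'
      have := hbound χ hχ r (by omega)
      omega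
    nlinarith
  have hevencase : ¬ Odd r → (r + 1) * Z.card ≤ l * 2 ^ blockDefect 2 b := by
    intro hev
    suffices ((r : ℤ) + 1) * Z.card ≤ q * l by
      rw [hq, mul_comm (_ ^ _)] at this
      exact_mod_cast this
    by_cases hall : ∀ χ ∈ Z, (r : ℤ) + 1 ≤ A χ
    · exact hlow _ hall
    push Not at hall
    obtain ⟨χ, hχ, hlt⟩ := hall
    obtain ⟨-, h2, -⟩ := hrow' χ hχ
    obtain ⟨j, hj⟩ := Nat.not_odd_iff_even.mp hev
    have h3 := hbound χ hχ ((r : ℤ) - 1) (by omega)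
    have h4 : ((r : ℤ) + 1) * Z.card ≤ ((r : ℤ) + 1) * (q * ((r : ℤ) - 1)) :=
      mul_le_mul_of_nonneg_left h3 (by omega)
    nlinarith
  rw [hZc]
  refine ⟨hoddcase, hevencase, fun hl3 => ?_⟩
  have hr3 : r ≤ 1 := by
    by_contra h
    have : 2 * 2 ≤ r * r := Nat.mul_le_mul (by omega) (by omega)
    omega
  rcases Nat.le_one_iff_eq_zero_or_eq_one.mp hr3 with h0 | h1
  · have := hevencase (by rw [h0]; decide)
    rw [h0] at this
    have hl0 : l = 0 := by rw [h0] at hr2; omega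
    rw [hl0, zero_mul, zero_add, one_mul] at this
    exact this.trans (Nat.zero_le _)
  · have := hoddcase (by rw [h1]; exact odd_one)
    rwa [h1, one_mul] at this

end Cfsg.Agent.S4541
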