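import Cfsg.Statements.S4550
import Cfsg.Agent.Lib.Block.PrincipalResidual
import Cfsg.Agent.Lib.Char.PowTwist
import Mathlib.GroupTheory.Perm.Cycle.Type

set_option autoImplicit false
open Cfsg CfsgLib CfsgLib.Block

namespace Cfsg.Agent.S4550

/-- Let G be a finite group of even order and M a maximal ideal of the algebraic integers containing 2. Let k be a natural number with g ^ k = g ^ 3 for every 2-element g and g ^ k = g for every element g of odd order (such k exist); an irreducible character χ is unchanged by g ↦ g ^ k exactly when it is fixed by the field automorphism that cubes the 2-power roots of unity and fixes the roots of unity of odd order. Then the number of members χ of the principal 2-block of odd degree with χ (g ^ k) = χ g for all g is even. -/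
theorem result {G : Type*} [Group G] [Finite G] (M : Ideal Cfsg.AlgInt) (hM : Cfsg.IsPModular 2 M) (hev : Even (Nat.card G)) (k : ℕ) (hk₁ : ∀ g : G, (∃ j : ℕ, orderOf g = 2 ^ j) → g ^ k = g ^ 3) (hk₂ : ∀ g : G, Odd (orderOf g) → g ^ k = g) : Even (Nat.card {χ : Cfsg.IrrCharacter G // χ ∈ Cfsg.principalBlock M G ∧ Odd (Cfsg.charDegree (χ : G → ℂ)) ∧ ∀ g : G, (χ : G → ℂ) (g ^ k) = (χ : G → ℂ) g}) := by
  classical
  have := Fintype.ofFinite G
  have : M.IsMaximal := hM.2.1
  have : Fact (Nat.Prime 2) := ⟨Nat.prime_two⟩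
  have := Fintype.ofFinite (IrrCharacter G)
  have := charP_resField hM
  have hcop : Nat.Coprime (Nat.card G) k := by
    refine Nat.coprime_of_dvd' fun q hq hqG hqk => ?_
    have : Fact q.Prime := ⟨hq⟩
    obtain ⟨g, hg⟩ := exists_prime_orderOf_dvd_card' (G := G) q hqG
    obtain ⟨c, hc⟩ := hqk
    have hgk : g ^ k = 1 := by rw [hc, ← hg, pow_mul, pow_orderOf_eq_one, one_pow]
    have hne : g ≠ 1 := fun h => hq.one_lt.ne' (by rw [← hg, h, orderOf_one])
    rcases hq.eq_two_or_odd' with rfl | hodd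
    · rw [hk₁ g ⟨1, by rw [hg, pow_one]⟩, ← orderOf_dvd_iff_pow_eq_one, hg] at hgk
      omega
    · exact absurd ((hk₂ g (hg ▸ hodd)).symm.trans hgk) hne
  set m := Nat.card G with hm
  have hpow : ∀ g : G, g ^ k ^ 2 ^ m = g := by
    intro g
    obtain ⟨u, s, hus, hc, ⟨j, hj⟩, hs⟩ := exists_isPPart (p := 2) Nat.prime_two g
    have hs' : Odd (orderOf s) := Nat.odd_iff.mpr (Nat.two_dvd_ne_zero.mp hs)
    have hsn : ∀ n, s ^ k ^ n = s := by
      intro n
      induction n with
      | zero => rw [pow_zero, pow_one]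
      | succ n ih => rw [pow_succ, pow_mul, ih, hk₂ s hs']
    have hun : ∀ n, u ^ k ^ n = u ^ 3 ^ n := by
      intro n
      induction n with
      | zero => rfl
      | succ n ih =>
        rw [pow_succ, pow_mul, ih, pow_succ, pow_mul]
        obtain ⟨i, -, hi⟩ := (Nat.dvd_prime_pow Nat.prime_two).mp
          (hj ▸ orderOf_pow_dvd (x := u) (3 ^ n))
        exact hk₁ _ ⟨i, hi⟩
    have h3 : u ^ 3 ^ 2 ^ m = u := by
      have hjm : orderOf u ∣ 2 ^ m := by
        rw [hj]
        refine pow_dvd_pow 2 (le_of_lt ?_)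
        calc j < 2 ^ j := Nat.lt_two_pow_self
          _ ≤ m := by rw [← hj, hm]; exact Nat.le_of_dvd Nat.card_pos (orderOf_dvd_natCard u)
      have h1 : 3 ^ 2 ^ m ≡ 1 [MOD 2 ^ m] := by
        obtain ⟨d, hd⟩ : Nat.totient (2 ^ m) ∣ 2 ^ m := by
          rw [Nat.totient_prime_pow Nat.prime_two (hm ▸ Nat.card_pos), show (2 - 1 : ℕ) = 1 from rfl,
            mul_one]
          exact pow_dvd_pow 2 (Nat.sub_le m 1)
        have h2 := (Nat.ModEq.pow_totient (x := 3) (n := 2 ^ m)
          (Nat.Coprime.pow_right m (by decide))).pow d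
        rwa [← pow_mul, ← hd, one_pow] at h2
      conv_rhs => rw [← pow_one u]
      exact pow_eq_pow_iff_modEq.mpr (h1.of_dvd hjm)
    rw [← hus, hc.mul_pow, hun, h3, hsn]
  let tw : IrrCharacter G → IrrCharacter G := fun χ => ⟨_, Char.isIrrCharacter_powMap hcop χ⟩
  have hreg : ∀ χ : IrrCharacter G, ∀ g : G, ¬ 2 ∣ orderOf g → (tw χ : G → ℂ) g = (χ : G → ℂ) g :=
    fun χ g hg => congrArg (χ : G → ℂ) (hk₂ g (Nat.odd_iff.mpr (Nat.two_dvd_ne_zero.mp hg)))
  have hdeg : ∀ χ : IrrCharacter G, charDegree (tw χ : G → ℂ) = charDegree (χ : G → ℂ) := fun χ => by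
    simp only [charDegree, hreg χ 1 (by rw [orderOf_one]; decide)]
  have hB : ∀ χ ∈ principalBlock M G, tw χ ∈ principalBlock M G := by
    intro χ hχ
    have h := omegaBar_regBar_ne_zero (p := 2) hM hχ
    rw [mem_principalBlock_iff hM]
    have := Fintype.ofFinite (ConjClasses G)
    rw [omegaBar_regBar_eq_regN] at h ⊢
    obtain ⟨R, hR, hRres⟩ := exists_regN_lift (p := 2) (M := M) χ (oneChar G)
    obtain ⟨R', hR', hR'res⟩ := exists_regN_lift (p := 2) (M := M) (tw χ) (oneChar G)
    have e : R' = R := Subtype.ext (mul_right_cancel₀ (Char.irr_one_ne_zero χ) (by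
      rw [hR, show (χ : G → ℂ) 1 = (tw χ : G → ℂ) 1 from (hreg χ 1 (by rw [orderOf_one]; decide)).symm,
        hR']
      congr 1
      simp only [regInner]
      congr 1
      funext g
      simp only [regFun]
      split_ifs with hg
      · rfl
      · exact hreg χ g hg))
    rw [← hR'res, e, hRres]
    exact h
  let X := {χ : IrrCharacter G // χ ∈ principalBlock M G ∧ Odd (charDegree (χ : G → ℂ))}
  let f : X → X := fun χ => ⟨tw χ.1, hB _ χ.2.1, by rw [hdeg]; exact χ.2.2⟩
  have hval : ∀ (n : ℕ) (χ : X) (g : G), ((f^[n] χ).1 : G → ℂ) g = (χ.1 : G → ℂ) (g ^ k ^ n) := by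
    intro n
    induction n with
    | zero => intro χ g; rw [pow_zero, pow_one]; rfl
    | succ n ih =>
      intro χ g
      rw [Function.iterate_succ_apply', show ((f (f^[n] χ)).1 : G → ℂ) g =
        ((f^[n] χ).1 : G → ℂ) (g ^ k) from rfl, ih, ← pow_mul, pow_succ']
  have hinv : f^[2 ^ m] = id := funext fun χ => Subtype.ext (Subtype.ext (funext fun g => by
    rw [hval, hpow]; rfl))
  have hbij : Function.Bijective f := by
    obtain ⟨n, hn⟩ : ∃ n, 2 ^ m = n + 1 := ⟨2 ^ m - 1, by have := Nat.two_pow_pos m; omega⟩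
    rw [hn] at hinv
    exact ⟨fun a b h => by
      have := congrArg f^[n] h
      rwa [← Function.iterate_succ_apply, ← Function.iterate_succ_apply, hinv] at this,
      fun a => ⟨f^[n] a, by rw [← Function.iterate_succ_apply' f n a, hinv]; rfl⟩⟩
  set σ : Equiv.Perm X := Equiv.ofBijective f hbij with hσ
  have hσp : σ ^ 2 ^ m = 1 := Equiv.ext fun χ => by
    rw [← Equiv.Perm.iterate_eq_pow]
    exact congrFun hinv χ
  have h1 := Equiv.Perm.card_compl_support_modEq (p := 2) hσp
  have hall : Fintype.card X % 2 = 0 := by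
    have h0 := sum_degree_sq_eq_zero hM (even_iff_two_dvd.mp hev)
      (IsBlockUnion.of_isPBlock (isPBlock_principalBlock (M := M) (G := G)))
    rw [← Finset.sum_subset (Finset.filter_subset (fun χ : IrrCharacter G => Odd (charDegree (χ : G → ℂ)))
      (Finset.univ.filter (· ∈ principalBlock M G)))
      (fun χ hχ hn => ?_)] at h0
    swap
    · obtain ⟨d, hd⟩ := Nat.not_odd_iff_even.mp fun h => hn (Finset.mem_filter.mpr ⟨hχ, h⟩)
      rw [(CharP.cast_eq_zero_iff (ResField M) 2 _).mpr (show 2 ∣ charDegree (χ : G → ℂ) by omega),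
        zero_mul]
    rw [Finset.sum_congr rfl (g := fun _ => (1 : ResField M)) fun χ hχ => ?_, Finset.sum_const,
      nsmul_one, CharP.cast_eq_zero_iff (ResField M) 2, Finset.filter_filter,
      ← Fintype.card_subtype] at h0
    · exact Nat.mod_eq_zero_of_dvd h0 |> id
    · obtain ⟨d, hd⟩ := (Finset.mem_filter.mp hχ).2
      rw [hd, Nat.cast_add, Nat.cast_mul, show ((2 : ℕ) : ResField M) = 0 from
        (CharP.cast_eq_zero_iff (ResField M) 2 2).mpr dvd_rfl, zero_mul, zero_add, Nat.cast_one, mul_one]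
  have hcount : Nat.card {χ : IrrCharacter G // χ ∈ principalBlock M G ∧
      Odd (charDegree (χ : G → ℂ)) ∧ ∀ g : G, (χ : G → ℂ) (g ^ k) = (χ : G → ℂ) g} = σ.supportᶜ.card := by
    rw [← Fintype.card_coe, Nat.card_eq_fintype_card]
    refine Fintype.card_congr
      { toFun := fun χ => ⟨⟨χ.1, χ.2.1, χ.2.2.1⟩, by
          rw [Finset.mem_compl, Equiv.Perm.notMem_support]
          exact Subtype.ext (Subtype.ext (funext χ.2.2.2))⟩
        invFun := fun χ => ⟨χ.1.1, χ.1.2.1, χ.1.2.2, fun g => by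
          have h := Equiv.Perm.notMem_support.mp (Finset.mem_compl.mp χ.2)
          exact congrFun (congrArg (fun z : X => (z.1 : G → ℂ)) h) g⟩
        left_inv := fun _ => rfl
        right_inv := fun _ => rfl }
  rw [hcount, Nat.even_iff]
  exact (show _ % 2 = _ from h1).trans hall

end Cfsg.Agent.S4550
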