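import Cfsg.Statements.S4552
import Cfsg.Agent.Lib.Block.FreeInertial.FourTorsion

set_option autoImplicit false
open Cfsg

namespace Cfsg.Agent.S4552

section helpers

private theorem card_two_torsion {m : ℕ} (hm : 1 ≤ m) :
    Nat.card {a : ZMod (2 ^ m) // a + a = 0} = 2 := by
  classical
  haveI : NeZero (2 ^ m) := ⟨pow_ne_zero _ two_ne_zero⟩
  obtain ⟨k, rfl⟩ : ∃ k, m = k + 1 := ⟨m - 1, by omega⟩
  have hpow : 2 ^ (k + 1) = 2 ^ k + 2 ^ k := by rw [pow_succ]; ring
  have hpos : 0 < 2 ^ k := pow_pos two_pos k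
  set c : ZMod (2 ^ (k + 1)) := ((2 ^ k : ℕ) : ZMod (2 ^ (k + 1))) with hc
  have hcval : c.val = 2 ^ k := ZMod.val_natCast_of_lt (by omega)
  have hne : (0 : ZMod (2 ^ (k + 1))) ≠ c := fun h => by
    rw [← h, ZMod.val_zero] at hcval
    omega
  have hset : ∀ a : ZMod (2 ^ (k + 1)), a + a = 0 ↔ a ∈ ({0, c} : Finset (ZMod (2 ^ (k + 1)))) := by
    intro a
    rw [Finset.mem_insert, Finset.mem_singleton]
    constructor
    · intro h
      have h1 : ((a.val + a.val : ℕ) : ZMod (2 ^ (k + 1))) = 0 := by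
        rw [Nat.cast_add, ZMod.natCast_zmod_val, h]
      rw [ZMod.natCast_eq_zero_iff] at h1
      obtain ⟨d, hd⟩ := h1
      have hlt := ZMod.val_lt a
      rcases d with _ | _ | d
      · left
        exact (ZMod.val_eq_zero a).mp (by omega)
      · right
        exact ZMod.val_injective _ (by omega)
      · exfalso
        rw [Nat.mul_add, Nat.mul_add, mul_one] at hd
        omega
    · rintro (rfl | rfl)
      · simp
      · rw [hc, ← Nat.cast_add, ← hpow, ZMod.natCast_self]
  rw [Nat.card_congr (Equiv.subtypeEquivRight hset), Nat.card_eq_fintype_card, Fintype.card_coe,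
    Finset.card_pair hne]

private theorem card_sq_one {A : Type*} [Group A] {m : ℕ} (hm : 1 ≤ m)
    (f : A ≃* Multiplicative (ZMod (2 ^ m) × ZMod (2 ^ m))) :
    Nat.card {x : A // x ^ 2 = 1} = 4 := by
  have e : {x : A // x ^ 2 = 1} ≃ {a : ZMod (2 ^ m) // a + a = 0} × {a : ZMod (2 ^ m) // a + a = 0} :=
    ((f.toEquiv.trans Multiplicative.toAdd).subtypeEquiv
      (q := fun v : ZMod (2 ^ m) × ZMod (2 ^ m) => (fun a => a + a = 0) v.1 ∧ (fun a => a + a = 0) v.2) fun x => by
        rw [← f.map_eq_one_iff, map_pow, pow_two]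
        exact Prod.ext_iff).trans (Equiv.subtypeProdEquivProd (p := fun a : ZMod (2 ^ m) => a + a = 0) (q := fun a : ZMod (2 ^ m) => a + a = 0))
  rw [Nat.card_congr e, Nat.card_prod, card_two_torsion hm]

end helpers

/-- Let B be a 2-block of the finite group G (relative to a maximal ideal M of the algebraic integers containing 2) whose defect group D is the direct product of two cyclic groups of the same order 2 ^ m, m ≥ 2. Then either B has 2-regular rank one and exactly 4 ^ m irreducible characters, or B has 2-regular rank three and exactly (4 ^ m + 8) / 3 irreducible characters. -/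
theorem result {G : Type*} [Group G] [Finite G] (M : Ideal Cfsg.AlgInt) (hM : Cfsg.IsPModular 2 M) (B : Set (Cfsg.IrrCharacter G)) (hB : Cfsg.IsPBlock M B) (D : Subgroup G) (hD : Cfsg.IsDefectGroup 2 M B D) (m : ℕ) (hm : 2 ≤ m) (hiso : Nonempty (D ≃* Multiplicative (ZMod (2 ^ m) × ZMod (2 ^ m)))) : (Cfsg.blockRank 2 B = 1 ∧ Nat.card B = 4 ^ m) ∨ (Cfsg.blockRank 2 B = 3 ∧ 3 * Nat.card B = 4 ^ m + 8) := by
  classical
  have : M.IsMaximal := hM.2.1
  have := Fintype.ofFinite G
  have := Fintype.ofFinite (IrrCharacter G)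
  obtain ⟨f⟩ := hiso
  have hab : ∀ x ∈ D, ∀ y ∈ D, x * y = y * x := fun x hx y hy =>
    congrArg Subtype.val (f.injective (by rw [map_mul, map_mul, mul_comm]) :
      (⟨x, hx⟩ : D) * ⟨y, hy⟩ = ⟨y, hy⟩ * ⟨x, hx⟩)
  have hcard : Nat.card D = 4 ^ m := by
    rw [Nat.card_congr (f.toEquiv.trans Multiplicative.toAdd), Nat.card_prod, Nat.card_zmod,
      ← mul_pow]
    norm_num
  have h4 := card_sq_one (by omega) f
  rcases CfsgLib.Block.FreeInertial.counts_fourTorsion hM hB hD hab h4 with ⟨h1, h2⟩ | ⟨h1, h2⟩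
  · exact Or.inl ⟨h1, h2.trans hcard⟩
  · exact Or.inr ⟨h1, by rw [h2, hcard]⟩

end Cfsg.Agent.S4552
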