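import Cfsg.Statements.S4553
import Cfsg.Agent.S0867
import Cfsg.Agent.Lib.Block.PrincipalResidual
import Cfsg.Agent.Lib.Char.InvariantAbove
import Cfsg.Agent.Lib.Char.CoprimeCyclicAction
import Cfsg.Agent.Lib.Char.AutExtend
import Cfsg.Agent.Lib.Char.Inertia
import Cfsg.Agent.Lib.Fusion.Residual
import Mathlib.RingTheory.RootsOfUnity.Complex

set_option autoImplicit false
open Cfsg

namespace Cfsg.Agent.S4553

section
open scoped ComplexConjugate
open CfsgLib.Char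

universe u

variable {p : ℕ} [hp : Fact p.Prime] {G : Type u} [Group G] [Fintype G]

private theorem charDegree_cast {A : Type u} [Group A] [Finite A] {χ : A → ℂ} (hχ : IsCharacter A χ) :
    χ 1 = (charDegree χ : ℂ) := by
  obtain ⟨d, hd⟩ := isCharacter_degree hχ
  simp [Cfsg.charDegree, hd]

private theorem residual_hom (N : Subgroup G) (hN : N = Cfsg.pResidual p G) (f : ↥N →* ℂˣ) :
    ¬ p ∣ orderOf f := by
  subst hN
  intro hf
  set m := ordCompl[p] (Nat.card ↥(pResidual p G))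
  have hker : f ^ m = 1 := by
    refine MonoidHom.ext fun n => ?_
    have htop : (⊤ : Subgroup ↥(pResidual p G)) ≤ (f ^ m).ker := by
      refine (le_of_eq (CfsgLib.Fusion.pResidual_pResidual (G := G) (p := p)).symm).trans
        ((Subgroup.closure_le _).2 ?_)
      intro g hg
      rw [SetLike.mem_coe, MonoidHom.mem_ker, MonoidHom.pow_apply, ← map_pow,
        orderOf_dvd_iff_pow_eq_one.mp ?_, map_one]
      have hg' : Nat.Coprime (orderOf g) (p ^ (Nat.card ↥(pResidual p G)).factorization p) :=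
        hg.pow_right _
      refine hg'.dvd_of_dvd_mul_left ?_
      rw [Nat.ordProj_mul_ordCompl_eq_self]
      exact orderOf_dvd_natCard g
    exact htop (Subgroup.mem_top n)
  exact Nat.not_dvd_ordCompl hp.out Nat.card_pos.ne' (hf.trans (orderOf_dvd_of_pow_eq_one hker))

private theorem coprime_exponent (k : ℕ) (hk₁ : ∀ g : G, (∃ j : ℕ, orderOf g = p ^ j) → g ^ k = g ^ (1 + p))
    (hk₂ : ∀ g : G, Nat.Coprime (orderOf g) p → g ^ k = g) : k.Coprime (Nat.card G) := by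
  refine Nat.coprime_of_dvd' fun r hr hrk hrG => ?_
  haveI : Fact r.Prime := ⟨hr⟩
  obtain ⟨g, hg⟩ := exists_prime_orderOf_dvd_card' r hrG
  have h0 : g ^ k = 1 := orderOf_dvd_iff_pow_eq_one.1 (hg ▸ hrk)
  have hg1 : g ≠ 1 := fun e => hr.one_lt.ne' (hg.symm.trans (e ▸ orderOf_one))
  exfalso
  by_cases hrp : r = p
  · subst hrp
    rw [hk₁ g ⟨1, by rw [hg, pow_one]⟩, pow_add, pow_one, ← hg, pow_orderOf_eq_one, mul_one] at h0
    exact hg1 h0
  · rw [hk₂ g (hg ▸ (Nat.coprime_primes hr hp.out).2 hrp)] at h0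
    exact hg1 h0

private theorem exists_auto (k : ℕ) (hk : k.Coprime (Nat.card G)) :
    ∃ τ : ℂ ≃+* ℂ, ∀ (χ : G → ℂ), IsCharacter G χ → ∀ g : G, τ (χ g) = χ (g ^ k) := by
  obtain ⟨φ, hφ⟩ := exists_embedding_of_coprime (Nat.card G) Nat.card_pos.ne' k hk
  obtain ⟨τ, hτ⟩ := exists_ringEquiv_extend φ
  refine ⟨τ, fun χ hχ g => ?_⟩
  obtain ⟨d, ρ, rfl⟩ := hχ
  have h := char_apply_embedding ρ φ k hφ g
    ⟨_, mem_alg_of_isIntegral (isCharacter_isIntegral ⟨d, ρ, rfl⟩ g)⟩ rfl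
  rw [← h, ← hτ]

/-- A linear character of `p`-power order fixing a character of degree prime to `p` is trivial. -/
private theorem lin_eq_one {χ : G → ℂ} (hχ : IsCharacter G χ) (hd : ¬ p ∣ charDegree χ) (f : G →* ℂˣ)
    {a : ℕ} (hf : f ^ p ^ a = 1) (h : ∀ g, (f g : ℂ) * χ g = χ g) : f = 1 := by
  obtain ⟨d, ρ, rfl⟩ := hχ
  have e : (twistRep ρ f).character = ρ.character := funext fun g => by
    rw [← h g]
    show LinearMap.trace ℂ _ ((f g : ℂ) • ρ g) = _
    rw [map_smul, smul_eq_mul]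
    rfl
  have h1 := detChar_eq (twistRep ρ f)
  rw [e, detChar_eq] at h1
  have h2 : detHom ρ = detHom ρ * f ^ d := by
    have h3 : detHom ρ = detHom (twistRep ρ f) :=
      MonoidHom.ext fun g => Units.ext (congrFun h1 g)
    rwa [detHom_twistRep, Module.finrank_fin_fun] at h3
  have h4 : f ^ d = 1 := MonoidHom.ext fun g => by
    have h5 := DFunLike.congr_fun h2 g
    rw [MonoidHom.mul_apply, left_eq_mul] at h5
    exact h5
  refine eq_one_of_pow_coprime (A := G →* ℂˣ) hf h4 (Nat.Coprime.pow_left a ?_)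
  rw [hp.out.coprime_iff_not_dvd]
  rwa [Cfsg.charDegree, Representation.char_one, Module.finrank_fin_fun, Complex.natCast_re,
    Nat.floor_natCast] at hd

/-- The linear characters of exponent `p` of a cyclic quotient of `p`-power order. -/
private theorem card_lin (N : Subgroup G) [N.Normal] (hc : IsCyclic (G ⧸ N)) {a : ℕ}
    (hidx : N.index = p ^ a) (ha : 1 ≤ a) :
    Nat.card {f : G →* ℂˣ // (∀ n : N, f n = 1) ∧ f ^ p = 1} = p := by
  obtain ⟨x, hx⟩ := hc.exists_generator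
  obtain ⟨g, rfl⟩ := QuotientGroup.mk'_surjective N x
  haveI : NeZero p := ⟨hp.out.ne_zero⟩
  have hord : orderOf (QuotientGroup.mk' N g) = p ^ a := by
    rw [orderOf_eq_card_of_forall_mem_zpowers hx, ← Subgroup.index_eq_card, hidx]
  refine (Nat.card_congr (Equiv.ofBijective
    (fun f : {f : G →* ℂˣ // (∀ n : N, f n = 1) ∧ f ^ p = 1} =>
      (⟨f.1 g, by rw [mem_rootsOfUnity, ← MonoidHom.pow_apply, f.2.2, MonoidHom.one_apply]⟩ :
        rootsOfUnity p ℂ)) ⟨fun f f' h => ?_, fun z => ?_⟩)).trans (Complex.card_rootsOfUnity p)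
  · refine Subtype.ext (MonoidHom.ext fun y => ?_)
    obtain ⟨i, hi⟩ := Subgroup.mem_zpowers_iff.1 (hx (QuotientGroup.mk' N y))
    rw [← map_zpow] at hi
    have hn : (g ^ i)⁻¹ * y ∈ N := QuotientGroup.eq.1 hi
    have e : y = g ^ i * ((g ^ i)⁻¹ * y) := by group
    have hg : f.1 g = f'.1 g := congrArg Subtype.val h
    rw [e, map_mul f.1, map_mul f'.1, map_zpow f.1, map_zpow f'.1, hg, f.2.1 ⟨_, hn⟩, f'.2.1 ⟨_, hn⟩]
  · have hz : (z : ℂˣ) ^ p = 1 := (mem_rootsOfUnity _ _).1 z.2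
    let F : G ⧸ N →* ℂˣ := monoidHomOfForallMemZpowers hx (g' := (z : ℂˣ)) (by
      rw [hord]
      exact (orderOf_dvd_of_pow_eq_one hz).trans (dvd_pow_self p (Nat.one_le_iff_ne_zero.1 ha)))
    have hF : F (QuotientGroup.mk' N g) = (z : ℂˣ) := monoidHomOfForallMemZpowers_apply_gen hx _
    refine ⟨⟨F.comp (QuotientGroup.mk' N), fun n => ?_, ?_⟩, Subtype.ext hF⟩
    · rw [MonoidHom.comp_apply, show QuotientGroup.mk' N (n : G) = 1 from
        (QuotientGroup.eq_one_iff (n : G)).2 n.2, map_one]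
    · refine MonoidHom.ext fun y => ?_
      obtain ⟨i, hi⟩ := Subgroup.mem_zpowers_iff.1 (hx (QuotientGroup.mk' N y))
      rw [MonoidHom.pow_apply, MonoidHom.comp_apply, ← hi, map_zpow, hF, MonoidHom.one_apply,
        ← zpow_natCast, ← zpow_mul, mul_comm, zpow_mul, zpow_natCast, hz, one_zpow]


end

/-- Let G be a finite group, p a prime, P a Sylow p-subgroup, N the p-residual of G (the subgroup generated by the elements of order prime to p, the smallest normal subgroup with G/N a p-group), and M a maximal ideal of the algebraic integers containing p; suppose G/N is cyclic and nontrivial. Let k be a natural number with g ^ k = g ^ (1 + p) for every p-element g and g ^ k = g for every element g of order prime to p (so that χ (g ^ k) is the image of χ g under the field automorphism that raises p-power roots of unity to the power 1 + p and fixes the roots of unity of order prime to p). Then the number of members χ of the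 principal block of G of degree prime to p with χ (g ^ k) = χ g for all g equals p times the number of members θ of the principal block of N of degree prime to p that are invariant under conjugation by P and satisfy θ (n ^ k) = θ n for all n. -/
theorem result {G : Type*} [Group G] [Finite G] (p : ℕ) [Fact p.Prime] (M : Ideal Cfsg.AlgInt) (hM : Cfsg.IsPModular p M) (P : Sylow p G) (N : Subgroup G) [hN : N.Normal] (hNres : N = Cfsg.pResidual p G) (hcyc : IsCyclic (G ⧸ N)) (hnt : N ≠ ⊤) (k : ℕ) (hk₁ : ∀ g : G, (∃ j : ℕ, orderOf g = p ^ j) → g ^ k = g ^ (1 + p)) (hk₂ : ∀ g : G, Nat.Coprime (orderOf g) p → g ^ k = g) : Nat.card {χ : Cfsg.IrrCharacter G // χ ∈ Cfsg.principalBlock M G ∧ ¬ p ∣ Cfsg.charDegree (χ : G → ℂ) ∧ ∀ g : G, (χ : G → ℂ) (g ^ k) = (χ : G → ℂ) g} = p * Nat.card {θ : Cfsg.IrrCharacter ↥N // θ ∈ Cfsg.principalBlock M ↥N ∧ ¬ p ∣ Cfsg.charDegree (θ : ↥N → ℂ) ∧ (∀ x ∈ (P : Subgroup G), ∀ n : ↥N, (θ : ↥N → ℂ) ⟨x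 * n * x⁻¹, hN.conj_mem n n.2 x⟩ = (θ : ↥N → ℂ) n) ∧ ∀ n : ↥N, (θ : ↥N → ℂ) (n ^ k) = (θ : ↥N → ℂ) n} := by
  classical
  haveI := Fintype.ofFinite G
  haveI := Fintype.ofFinite N
  haveI := hM.2.1
  obtain ⟨a, ha⟩ : ∃ a : ℕ, N.index = p ^ a := hNres ▸ CfsgLib.Fusion.exists_index_pResidual
  have ha1 : 1 ≤ a := Nat.one_le_iff_ne_zero.2 fun h0 =>
    hnt (Subgroup.index_eq_one.1 (by rw [ha, h0, pow_zero]))
  have hreg : ∀ g : G, ¬ p ∣ orderOf g → g ∈ N := fun g hg => hNres ▸ CfsgLib.Fusion.mem_pResidual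
    (Nat.coprime_comm.1 ((Fact.out : p.Prime).coprime_iff_not_dvd.2 hg))
  have hord := residual_hom (p := p) N hNres
  have hk : k.Coprime (Nat.card G) := coprime_exponent k hk₁ hk₂
  obtain ⟨τ, hτ⟩ := exists_auto k hk
  have hNP : N ⊔ (P : Subgroup G) = ⊤ := hNres ▸ CfsgLib.Fusion.pResidual_sup_sylow P
  have hinvall : ∀ θ : Cfsg.IrrCharacter ↥N, (∀ x ∈ (P : Subgroup G), ∀ n : ↥N,
      (θ : ↥N → ℂ) ⟨x * n * x⁻¹, hN.conj_mem n n.2 x⟩ = (θ : ↥N → ℂ) n) →
      ∀ (g : G) (n : ↥N), (θ : ↥N → ℂ) ⟨g * n * g⁻¹, hN.conj_mem n n.2 g⟩ = (θ : ↥N → ℂ) n := by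
    intro θ h g n
    have htop : (⊤ : Subgroup G) ≤ CfsgLib.Char.inertia N (θ : ↥N → ℂ) := by
      rw [← hNP]
      exact sup_le (CfsgLib.Char.le_inertia N (CfsgLib.Char.isClassFunction_irr θ))
        fun x hx => funext fun m => h x hx m
    exact congrFun ((CfsgLib.Char.mem_inertia N _ g).1 (htop (Subgroup.mem_top g))) n
  have hcop : ∀ θ : Cfsg.IrrCharacter ↥N, ¬ p ∣ Cfsg.charDegree (θ : ↥N → ℂ) →
      Nat.Coprime N.index (Cfsg.detOrder (θ : ↥N → ℂ) * Cfsg.charDegree (θ : ↥N → ℂ)) := by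
    intro θ hθ
    rw [ha]
    refine Nat.Coprime.pow_left a ((Fact.out : p.Prime).coprime_iff_not_dvd.2 fun h => ?_)
    rcases (Fact.out : p.Prime).dvd_mul.1 h with h | h
    · obtain ⟨m, ρ, hρ, he⟩ := θ.2
      rw [← he, Cfsg.detOrder, CfsgLib.Char.detChar_eq, CfsgLib.Char.orderOf_fun_hom] at h
      exact hord _ h
    · exact hθ h
  set B := {θ : Cfsg.IrrCharacter ↥N // θ ∈ Cfsg.principalBlock M ↥N ∧ ¬ p ∣ Cfsg.charDegree (θ : ↥N → ℂ) ∧
      (∀ x ∈ (P : Subgroup G), ∀ n : ↥N, (θ : ↥N → ℂ) ⟨x * n * x⁻¹, hN.conj_mem n n.2 x⟩ = (θ : ↥N → ℂ) n) ∧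
      ∀ n : ↥N, (θ : ↥N → ℂ) (n ^ k) = (θ : ↥N → ℂ) n}
  set F := {f : G →* ℂˣ // (∀ n : N, f n = 1) ∧ f ^ p = 1}
  have hcan : ∀ θ : B, ∃ χ : G → ℂ, Cfsg.IsIrrCharacter G χ ∧ (∀ n : N, χ n = (θ.1 : ↥N → ℂ) n) ∧
      ∀ g : G, χ (g ^ k) = χ g := by
    intro θ
    obtain ⟨χ, ⟨h1, h2, h3⟩, huniq⟩ := Cfsg.Agent.S0867.result N _ θ.1.2 (hinvall θ.1 θ.2.2.2.1) _
      (charDegree_cast (CfsgLib.Char.isCharacter_irr θ.1)) (hcop θ.1 θ.2.2.1)
    refine ⟨χ, h1, h2, ?_⟩
    obtain ⟨m, ρ, hρ, he⟩ := h1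
    set ψ := (CfsgLib.Char.CoprimeCyclic.galoisRep τ ρ).character with hψ
    have hval : ∀ y, ψ y = χ (y ^ k) := fun y => by
      rw [hψ, CfsgLib.Char.CoprimeCyclic.galoisRep_character, he, hτ χ ⟨m, ρ, he⟩]
    have hres : ∀ n : N, ψ n = (θ.1 : ↥N → ℂ) n := fun n => by
      rw [hval, ← SubgroupClass.coe_pow, h2]
      exact θ.2.2.2.2 n
    have hψc : Cfsg.IsCharacter G ψ := ⟨m, _, rfl⟩
    have hirr : Cfsg.IsIrrCharacter G ψ := by
      obtain ⟨d₀, ρ₀, hρ₀, he₀⟩ := θ.1.2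
      obtain ⟨σ', hσ', hσ''⟩ := CfsgLib.Char.exists_rep_extension_top N ρ₀ hψc fun x =>
        (hres x).trans (congrFun he₀.symm x)
      rw [← hσ'']
      exact CfsgLib.Char.isIrrCharacter_of_extends N ρ₀ hσ'
    have hdet : Nat.Coprime N.index (Cfsg.detOrder ψ) := by
      have h' := h3
      rw [← he, Cfsg.detOrder, CfsgLib.Char.detChar_eq] at h'
      rw [hψ, Cfsg.detOrder, CfsgLib.Char.detChar_eq,
        show (fun g => (CfsgLib.Char.detHom (CfsgLib.Char.CoprimeCyclic.galoisRep τ ρ) g : ℂ)) =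
          (τ.toRingHom.toMonoidHom.compLeft G) (fun g => (CfsgLib.Char.detHom ρ g : ℂ)) from
            funext fun g => CfsgLib.Char.CoprimeCyclic.galoisRep_det τ ρ g,
        orderOf_injective (τ.toRingHom.toMonoidHom.compLeft G) fun f f' e => funext fun g =>
          τ.injective (congrFun e g), h']
      exact (hcop θ.1 θ.2.2.1).coprime_mul_right_right
    intro g
    rw [← hval, huniq ψ hirr hres hdet]
  choose χ0 hirr0 hres0 hfix0 using hcan
  have hdeg0 : ∀ θ : B, ¬ p ∣ Cfsg.charDegree (χ0 θ) := fun θ => by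
    have : Cfsg.charDegree (χ0 θ) = Cfsg.charDegree (θ.1 : ↥N → ℂ) := by
      rw [Cfsg.charDegree, Cfsg.charDegree, ← hres0 θ 1, OneMemClass.coe_one]
    rw [this]
    exact θ.2.2.1
  have hpa : ∀ f : G →* ℂˣ, (∀ n : N, f n = 1) → f ^ p ^ a = 1 := fun f hf =>
    ha ▸ CfsgLib.Char.pow_index_eq_one_of_trivial N f hf
  -- the action of `g ↦ g ^ k` on linear characters trivial on `N`
  have hlin : ∀ f : G →* ℂˣ, (∀ n : N, f n = 1) → ∀ g : G, f (g ^ k) = f g * (f g) ^ p := by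
    intro f hf g
    obtain ⟨n, hn, x, hx, rfl⟩ := Subgroup.mem_sup_of_normal_left.1
      (hNP.symm ▸ Subgroup.mem_top g : g ∈ N ⊔ (P : Subgroup G))
    obtain ⟨j, hj⟩ := P.2 ⟨x, hx⟩
    obtain ⟨i, -, hi⟩ := (Nat.dvd_prime_pow (Fact.out : p.Prime)).1
      (orderOf_dvd_of_pow_eq_one (show x ^ p ^ j = 1 from congrArg Subtype.val hj))
    have e := congrArg f (hk₁ x ⟨i, hi⟩)
    rw [map_pow, map_pow] at e
    have hn1 : f n = 1 := hf ⟨n, hn⟩
    rw [map_pow, map_mul, hn1, one_mul, e, pow_add, pow_one]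
  let Φ : B × F → {χ : Cfsg.IrrCharacter G // χ ∈ Cfsg.principalBlock M G ∧
      ¬ p ∣ Cfsg.charDegree (χ : G → ℂ) ∧ ∀ g : G, (χ : G → ℂ) (g ^ k) = (χ : G → ℂ) g} := fun x =>
    ⟨⟨fun g => (x.2.1 g : ℂ) * χ0 x.1 g, CfsgLib.Char.isIrrCharacter_mul_linear ⟨χ0 x.1, hirr0 x.1⟩ x.2.1⟩, by
      have hres : (fun n : N => (x.2.1 (n : G) : ℂ) * χ0 x.1 n) = (x.1.1 : ↥N → ℂ) := funext fun n => by
        rw [x.2.2.1, Units.val_one, one_mul, hres0]
      refine ⟨(CfsgLib.Block.mem_principalBlock_iff_constituent hM N hreg (θ := x.1.1) ?_).2 x.1.2.1,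
        ?_, fun g => ?_⟩
      · show Cfsg.classInner (fun n : N => (x.2.1 (n : G) : ℂ) * χ0 x.1 n) (x.1.1 : ↥N → ℂ) ≠ 0
        rw [hres, CfsgLib.Char.classInner_irr_self]
        exact one_ne_zero
      · have e : Cfsg.charDegree (fun g => (x.2.1 g : ℂ) * χ0 x.1 g) = Cfsg.charDegree (χ0 x.1) := by
          simp [Cfsg.charDegree]
        show ¬ p ∣ Cfsg.charDegree (fun g => (x.2.1 g : ℂ) * χ0 x.1 g)
        rw [e]
        exact hdeg0 x.1
      · show (x.2.1 (g ^ k) : ℂ) * χ0 x.1 (g ^ k) = (x.2.1 g : ℂ) * χ0 x.1 g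
        rw [hfix0, hlin _ x.2.2.1, ← MonoidHom.pow_apply, x.2.2.2, MonoidHom.one_apply, mul_one]⟩
  have hinj : Function.Injective Φ := by
    rintro ⟨θ, f⟩ ⟨θ', f'⟩ h
    have h1 : ∀ g, (f.1 g : ℂ) * χ0 θ g = (f'.1 g : ℂ) * χ0 θ' g := fun g =>
      congrFun (congrArg (fun z => ((z.1 : Cfsg.IrrCharacter G) : G → ℂ)) h) g
    obtain rfl : θ = θ' := Subtype.ext (Subtype.ext (funext fun n => by
      have := h1 n
      rwa [f.2.1, f'.2.1, Units.val_one, one_mul, one_mul, hres0, hres0] at this))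
    refine Prod.ext rfl (Subtype.ext ?_)
    have hc := CfsgLib.Char.isCharacter_of_isIrr (hirr0 θ)
    have h2 : f.1 * f'.1⁻¹ = 1 := lin_eq_one (p := p) hc (hdeg0 θ) _ (a := a)
      (hpa _ fun n => by rw [MonoidHom.mul_apply, MonoidHom.inv_apply, f.2.1, f'.2.1, inv_one, mul_one])
      fun g => by
        rw [MonoidHom.mul_apply, MonoidHom.inv_apply, mul_comm (f.1 g), Units.val_mul, mul_assoc, h1 g,
          ← mul_assoc, Units.inv_mul, one_mul]
    exact mul_inv_eq_one.1 h2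
  have hsurj : Function.Surjective Φ := by
    rintro ⟨χ, hχB, hχd, hχk⟩
    obtain ⟨θ, hθ⟩ : ∃ θ : Cfsg.IrrCharacter ↥N,
        Cfsg.classInner (fun n : N => (χ : G → ℂ) n) (θ : ↥N → ℂ) ≠ 0 := by
      by_contra hc
      push Not at hc
      exact CfsgLib.Char.irr_one_ne_zero χ (congrFun (CfsgLib.Char.classFun_eq_zero_of_perp
        (CfsgLib.Char.isClassFunction_of_isCharacter
          (CfsgLib.Char.isCharacter_comp (CfsgLib.Char.isCharacter_irr χ) N.subtype)) hc) 1)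
    have hc1 := charDegree_cast (CfsgLib.Char.isCharacter_irr χ)
    have hd1 := charDegree_cast (CfsgLib.Char.isCharacter_irr θ)
    obtain ⟨hdvd, hdiv⟩ := CfsgLib.Char.ratio_dvd_index N χ.2 θ.2 hθ hc1 hd1
    rw [ha] at hdiv
    obtain ⟨i, -, hi⟩ := (Nat.dvd_prime_pow (Fact.out : p.Prime)).1 hdiv
    have hi0 : i = 0 := by
      by_contra h0
      exact hχd ((dvd_pow_self p h0).trans (hi ▸ Nat.div_dvd_of_dvd hdvd))
    have heq : Cfsg.charDegree (χ : G → ℂ) = Cfsg.charDegree (θ : ↥N → ℂ) := by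
      rw [← Nat.div_mul_cancel hdvd, hi, hi0, pow_zero, one_mul]
    have hres : ∀ n : N, (χ : G → ℂ) n = (θ : ↥N → ℂ) n := fun n =>
      congrFun ((CfsgLib.Char.degree_le_of_constituent
        (CfsgLib.Char.isCharacter_comp (CfsgLib.Char.isCharacter_irr χ) N.subtype) θ hθ
        (a := Cfsg.charDegree (χ : G → ℂ)) (b := Cfsg.charDegree (θ : ↥N → ℂ))
        (by simpa using hc1) hd1).2 heq) n
    let θB : B := ⟨θ, (CfsgLib.Block.mem_principalBlock_iff_constituent hM N hreg hθ).1 hχB,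
      heq ▸ hχd, fun x _ n => by
        rw [← hres, ← hres]
        exact CfsgLib.Char.isClassFunction_irr χ (n : G) x, fun n => by
        rw [← hres, ← hres, SubgroupClass.coe_pow, hχk]⟩
    obtain ⟨d₀, ρ₀, hρ₀, he₀⟩ := θ.2
    obtain ⟨σ, hσ, hσc⟩ := CfsgLib.Char.exists_rep_extension_top N ρ₀
      (CfsgLib.Char.isCharacter_of_isIrr (hirr0 θB)) fun x => (hres0 θB x).trans (congrFun he₀.symm x)
    obtain ⟨σ', hσ', hσc'⟩ := CfsgLib.Char.exists_rep_extension_top N ρ₀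
      (CfsgLib.Char.isCharacter_irr χ) fun x => (hres x).trans (congrFun he₀.symm x)
    obtain ⟨ν, hν, hνe⟩ := CfsgLib.Char.exists_twist_eq N ρ₀ hσ hσ'
    have hχν : ∀ g, (χ : G → ℂ) g = (ν g : ℂ) * χ0 θB g := fun g => by
      rw [← hσc', hνe, ← hσc]
      show LinearMap.trace ℂ _ ((ν g : ℂ) • σ g) = _
      rw [map_smul, smul_eq_mul]
      rfl
    have hνp : ν ^ p = 1 := by
      refine lin_eq_one (p := p) (CfsgLib.Char.isCharacter_irr χ) hχd _ (a := a)
        (hpa _ fun n => by rw [MonoidHom.pow_apply, hν, one_pow]) fun g => ?_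
      have e1 := hχk g
      rw [hχν, hχν, hfix0, hlin ν hν, Units.val_mul] at e1
      rw [hχν, MonoidHom.pow_apply]
      linear_combination e1
    exact ⟨⟨θB, ⟨ν, hν, hνp⟩⟩, Subtype.ext (Subtype.ext (funext fun g => (hχν g).symm))⟩
  rw [← Nat.card_congr (Equiv.ofBijective Φ ⟨hinj, hsurj⟩), Nat.card_prod,
    card_lin N hcyc ha ha1, mul_comm]

end Cfsg.Agent.S4553
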