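import Cfsg.Statements.S4561
import Cfsg.Agent.Lib.Char.CentralTypeEmbedding

set_option autoImplicit false
universe u
open Cfsg

namespace Cfsg.Agent.S4561

/-- For every finite solvable group G there is a finite group H with a faithful irreducible character χ whose degree squared equals the index of the centre Z(H) (so χ is fully ramified over the centre), such that G is isomorphic to a subgroup of H/Z(H), the primes dividing the orders of H, of Z(H) and of G are the same, and the order of Z(H) is squarefree. -/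
theorem result {G : Type u} [Group G] [Finite G] (hsolv : Group.IsSolvable G) : ∃ (H : Type u) (_ : Group H) (_ : Finite H) (χ : Cfsg.IrrCharacter H), (∀ h : H, (χ : H → ℂ) h = (χ : H → ℂ) 1 → h = 1) ∧ (Cfsg.charDegree (χ : H → ℂ)) ^ 2 = (Subgroup.center H).index ∧ (∃ f : G →* H ⧸ Subgroup.center H, Function.Injective f) ∧ (∀ p : ℕ, p.Prime → ((p ∣ Nat.card H ↔ p ∣ Nat.card G) ∧ (p ∣ Nat.card (Subgroup.center H) ↔ p ∣ Nat.card G))) ∧ Squarefree (Nat.card (Subgroup.center H)) := by
  classical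
  obtain ⟨m, ι, _, _, R, _, _, B, f, hf, hι, hsq, hmp, hιp⟩ :=
    CfsgLib.Char.CentralTypeEmbedding.good_of_solvable _ G rfl hsolv
  haveI : NeZero m := ⟨hsq.ne_zero⟩
  have hι0 : (Fintype.card ι : ℂ) ≠ 0 := by exact_mod_cast hι.ne'
  haveI : Nonempty ι := Fintype.card_pos_iff.1 hι
  -- units
  have hrep0 : ∀ a, ∃ d : ℂ, d ≠ 0 ∧ B.rep a * B.rep a⁻¹ = d • 1 ∧ B.rep a⁻¹ * B.rep a = d • 1 := by
    intro a
    obtain ⟨d, hd, e⟩ := B.rep_mul a a⁻¹
    obtain ⟨d', hd', e'⟩ := B.rep_mul a⁻¹ a
    rw [mul_inv_cancel, B.rep_one] at e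
    rw [inv_mul_cancel, B.rep_one] at e'
    have hd0 : d ≠ 0 := fun h => by rw [h, zero_pow (NeZero.ne m)] at hd; exact zero_ne_one hd
    have h1 : B.rep a * (d⁻¹ • B.rep a⁻¹) = 1 := by rw [mul_smul_comm, e, inv_smul_smul₀ hd0]
    have h2 := mul_eq_one_comm.1 h1
    rw [smul_mul_assoc, e', smul_smul] at h2
    have h3 := congrArg Matrix.trace h2
    rw [Matrix.trace_smul, Matrix.trace_one, smul_eq_mul] at h3
    have h4 : d⁻¹ * d' = 1 := (mul_eq_right₀ hι0).1 h3
    rw [inv_mul_eq_one₀ hd0] at h4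
    exact ⟨d, hd0, e, by rw [e', h4]⟩
  -- uniqueness of the coordinates
  have huniq : ∀ (a b : R) (c c' : ℂ), c ≠ 0 → c • B.rep a = c' • B.rep b → a = b ∧ c = c' := by
    intro a b c c' hc h
    obtain ⟨d, hd0, hd, -⟩ := hrep0 a
    have h1 := congrArg (fun X => Matrix.trace (X * B.rep a⁻¹)) h
    simp only [smul_mul_assoc, hd, Matrix.trace_smul, Matrix.trace_one, smul_eq_mul] at h1
    have hab : a = b := by
      by_contra hne
      obtain ⟨d', -, e⟩ := B.rep_mul b a⁻¹
      rw [e, Matrix.trace_smul, B.trace_zero _ (fun h0 => hne (mul_inv_eq_one.1 h0).symm), smul_zero, mul_zero] at h1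
      exact mul_ne_zero hc (mul_ne_zero hd0 hι0) h1
    subst hab
    rw [hd, Matrix.trace_smul, Matrix.trace_one, smul_eq_mul] at h1
    exact ⟨rfl, mul_right_cancel₀ (mul_ne_zero hd0 hι0) h1⟩
  have hc0 : ∀ c : ℂ, c ^ m = 1 → c ≠ 0 := fun c hc h => by
    rw [h, zero_pow (NeZero.ne m)] at hc; exact zero_ne_one hc
  -- the group
  let S : Set (Matrix ι ι ℂ)ˣ := {x | ∃ (c : ℂ) (a : R), c ^ m = 1 ∧ (x : Matrix ι ι ℂ) = c • B.rep a}
  have hSmul : ∀ x y, x ∈ S → y ∈ S → x * y ∈ S := by
    rintro x y ⟨c, a, hc, hx⟩ ⟨c', a', hc', hy⟩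
    obtain ⟨d, hd, e⟩ := B.rep_mul a a'
    refine ⟨c * c' * d, a * a', by rw [mul_pow, mul_pow, hc, hc', hd, one_mul, one_mul], ?_⟩
    rw [Units.val_mul, hx, hy, smul_mul_smul_comm, e, smul_smul]
  let H : Subgroup (Matrix ι ι ℂ)ˣ :=
    { carrier := S
      one_mem' := ⟨1, 1, one_pow m, by rw [B.rep_one, one_smul, Units.val_one]⟩
      mul_mem' := fun {x y} hx hy => hSmul x y hx hy
      inv_mem' := by
        rintro x ⟨c, a, hc, hx⟩
        obtain ⟨d, hd, e⟩ := B.rep_mul a a⁻¹
        rw [mul_inv_cancel, B.rep_one] at e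
        refine ⟨(c * d)⁻¹, a⁻¹, by rw [inv_pow, mul_pow, hc, hd, one_mul, inv_one], ?_⟩
        have h1 : (x : Matrix ι ι ℂ) * ((c * d)⁻¹ • B.rep a⁻¹) = 1 := by
          rw [hx, smul_mul_smul_comm, e, smul_smul, mul_comm c, mul_assoc,
            inv_mul_cancel₀ (mul_ne_zero (hc0 c hc) (hc0 d hd)), one_smul]
        calc ((x⁻¹ : (Matrix ι ι ℂ)ˣ) : Matrix ι ι ℂ)
            = (x⁻¹ : (Matrix ι ι ℂ)ˣ) * ((x : Matrix ι ι ℂ) * ((c * d)⁻¹ • B.rep a⁻¹)) := by rw [h1, mul_one]
          _ = _ := by rw [← mul_assoc, Units.inv_mul, one_mul] }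
  choose cH aH hcH hxH using fun x : H => (x.2 : (x : (Matrix ι ι ℂ)ˣ) ∈ S)
  let F : H → rootsOfUnity m ℂ × R := fun x => (rootsOfUnity.mkOfPowEq (cH x) (hcH x), aH x)
  have hFv : ∀ x, (((F x).1 : ℂˣ) : ℂ) = cH x := fun x => rfl
  have hbij : Function.Bijective F := by
    refine ⟨fun x y h => ?_, fun z => ?_⟩
    · have h1 := congrArg (fun z : rootsOfUnity m ℂ × R => ((z.1 : ℂˣ) : ℂ)) h
      have h2 := congrArg Prod.snd h
      simp only [hFv] at h1
      exact Subtype.ext (Units.ext (by rw [hxH, hxH, h1, show aH x = aH y from h2]))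
    · obtain ⟨d, hd0, e, e'⟩ := hrep0 z.2
      have hz : ((z.1 : ℂˣ) : ℂ) ^ m = 1 := by
        have := (mem_rootsOfUnity m (z.1 : ℂˣ)).1 z.1.2
        rw [← Units.val_pow_eq_pow_val, this, Units.val_one]
      have hne := hc0 _ hz
      let x : (Matrix ι ι ℂ)ˣ :=
        ⟨((z.1 : ℂˣ) : ℂ) • B.rep z.2, (((z.1 : ℂˣ) : ℂ) * d)⁻¹ • B.rep z.2⁻¹,
          by rw [smul_mul_smul_comm, e, smul_smul, mul_inv, ← mul_assoc, mul_inv_cancel₀ hne, one_mul,
            inv_mul_cancel₀ hd0, one_smul],
          by rw [smul_mul_smul_comm, e', smul_smul]; convert one_smul ℂ (1 : Matrix ι ι ℂ) using 2; field_simp⟩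
      have hxS : x ∈ H := ⟨_, z.2, hz, rfl⟩
      obtain ⟨h1, h2⟩ := huniq z.2 (aH ⟨x, hxS⟩) _ _ hne ((hxH ⟨x, hxS⟩).symm.trans rfl).symm
      exact ⟨⟨x, hxS⟩, Prod.ext (Subtype.ext (Units.ext ((hFv ⟨x, hxS⟩).trans h2.symm))) h1.symm⟩
  haveI : Finite H := Finite.of_injective F hbij.1
  have hcard : Nat.card H = m * Fintype.card ι ^ 2 := by
    rw [Nat.card_congr (Equiv.ofBijective F hbij), Nat.card_prod, Complex.card_rootsOfUnity, B.card_eq]
  -- the projection
  have hmulA : ∀ x y : H, aH (x * y) = aH x * aH y := by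
    intro x y
    obtain ⟨d, hd, e⟩ := B.rep_mul (aH x) (aH y)
    refine (huniq _ _ (cH x * cH y * d) (cH (x * y))
      (mul_ne_zero (mul_ne_zero (hc0 _ (hcH x)) (hc0 _ (hcH y))) (hc0 d hd)) ?_).1.symm
    rw [← hxH, Subgroup.coe_mul, Units.val_mul, hxH, hxH, smul_mul_smul_comm, e, smul_smul]
  let π : H →* R := MonoidHom.mk' aH hmulA
  have hπs : Function.Surjective π := fun a => by
    obtain ⟨x, hx⟩ := hbij.2 (1, a)
    exact ⟨x, congrArg Prod.snd hx⟩
  have htr : ∀ x : H, aH x ≠ 1 → Matrix.trace ((x : (Matrix ι ι ℂ)ˣ) : Matrix ι ι ℂ) = 0 := fun x hx => by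
    rw [hxH, Matrix.trace_smul, B.trace_zero _ hx, smul_zero]
  have hsc : ∀ x : H, aH x = 1 → ((x : (Matrix ι ι ℂ)ˣ) : Matrix ι ι ℂ) = cH x • 1 := fun x hx => by
    rw [hxH, hx, B.rep_one]
  have hcen : π.ker = Subgroup.center H := by
    ext x
    rw [MonoidHom.mem_ker, Subgroup.mem_center_iff]
    constructor
    · intro hx y
      refine Subtype.ext (Units.ext ?_)
      rw [Subgroup.coe_mul, Subgroup.coe_mul, Units.val_mul, Units.val_mul, hsc x hx, mul_smul_comm, smul_mul_assoc,
        mul_one, one_mul]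
    · intro hx
      -- `x` commutes with every matrix
      by_contra hne
      have hcomm : ∀ a : R, B.rep a * ((x : (Matrix ι ι ℂ)ˣ) : Matrix ι ι ℂ) =
          ((x : (Matrix ι ι ℂ)ˣ) : Matrix ι ι ℂ) * B.rep a := by
        intro a
        obtain ⟨y, hy⟩ := hπs a
        have h1 := congrArg (fun z : H => ((z : (Matrix ι ι ℂ)ˣ) : Matrix ι ι ℂ)) (hx y)
        simp only [Subgroup.coe_mul, Units.val_mul] at h1
        rw [hxH y, show aH y = a from hy, smul_mul_assoc, mul_smul_comm] at h1
        exact smul_right_injective _ (hc0 _ (hcH y)) h1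
      have hli : LinearIndependent ℂ B.rep := by
        haveI := Fintype.ofFinite R
        rw [Fintype.linearIndependent_iff]
        intro g hg r
        obtain ⟨d, hd0, e, -⟩ := hrep0 r
        have h1 := congrArg (fun X => Matrix.trace (X * B.rep r⁻¹)) hg
        simp only [Finset.sum_mul, smul_mul_assoc, Matrix.trace_sum, Matrix.trace_smul, zero_mul, Matrix.trace_zero,
          smul_eq_mul] at h1
        rw [Finset.sum_eq_single r, e, Matrix.trace_smul, Matrix.trace_one, smul_eq_mul] at h1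
        · exact (mul_eq_zero.1 h1).resolve_right (mul_ne_zero hd0 hι0)
        · intro q _ hq
          obtain ⟨d', -, e'⟩ := B.rep_mul q r⁻¹
          rw [e', Matrix.trace_smul, B.trace_zero _ (fun h => hq (mul_inv_eq_one.1 h)), smul_zero, mul_zero]
        · exact fun h => absurd (Finset.mem_univ r) h
      haveI := Fintype.ofFinite R
      have hspan : Submodule.span ℂ (Set.range B.rep) = ⊤ :=
        hli.span_eq_top_of_card_eq_finrank' (by
          rw [← Nat.card_eq_fintype_card, B.card_eq, Module.finrank_matrix, Module.finrank_self]; ring)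
      have hall : ∀ X : Matrix ι ι ℂ, Commute X ((x : (Matrix ι ι ℂ)ˣ) : Matrix ι ι ℂ) := fun X => by
        have hX : X ∈ Submodule.span ℂ (Set.range B.rep) := hspan ▸ Submodule.mem_top
        induction hX using Submodule.span_induction with
        | mem X hX => obtain ⟨a, rfl⟩ := hX; exact hcomm a
        | zero => exact Commute.zero_left _
        | add X Y _ _ h1 h2 => exact h1.add_left h2
        | smul c X _ h1 => exact h1.smul_left c
      obtain ⟨r, hr⟩ := Matrix.mem_range_scalar_of_commute_single fun i j _ => hall (Matrix.single i j 1)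
      rw [Matrix.scalar_apply, ← Matrix.smul_one_eq_diagonal] at hr
      have h1 : cH x • B.rep (aH x) = r • B.rep 1 := by rw [← hxH, ← hr, B.rep_one]
      exact hne (huniq _ _ _ _ (hc0 _ (hcH x)) h1).1
  -- the character
  let φ : H →* Module.End ℂ (ι → ℂ) :=
    (Matrix.toLinAlgEquiv' (R := ℂ) (n := ι)).toAlgHom.toMonoidHom.comp ((Units.coeHom _).comp H.subtype)
  let ρ : Representation ℂ H (ι → ℂ) := φ
  haveI := Fintype.ofFinite H
  have hχ : ∀ x : H, ρ.character x = Matrix.trace ((x : (Matrix ι ι ℂ)ˣ) : Matrix ι ι ℂ) := fun x =>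
    Matrix.trace_toLin'_eq _
  have hirr : Cfsg.IsIrrCharacter H ρ.character := by
    refine CfsgLib.Char.isIrr_of_norm_one (CfsgLib.Char.isGeneralizedCharacter_of_isCharacter
      (CfsgLib.Char.isCharacter_character ρ)) ?_ ?_
    · have h1 : ∀ x : H, ‖ρ.character x‖ ^ 2 = if aH x = 1 then (Fintype.card ι : ℝ) ^ 2 else 0 := fun x => by
        rw [hχ]
        split_ifs with hx
        · rw [hsc x hx, Matrix.trace_smul, Matrix.trace_one, smul_eq_mul, norm_mul, Complex.norm_natCast,
            Complex.norm_eq_one_of_pow_eq_one (hcH x) (NeZero.ne m), one_mul]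
        · rw [htr x hx, norm_zero]; ring
      have hk : (Finset.univ.filter fun x : H => aH x = 1).card = m := by
        have h2 := π.ker.card_mul_index
        rw [Subgroup.index_ker, π.range_eq_top.2 hπs, Subgroup.card_top, hcard, B.card_eq] at h2
        have h3 : Nat.card π.ker = m := Nat.eq_of_mul_eq_mul_right (pow_pos hι 2) h2
        rw [← h3, ← Fintype.card_subtype, ← Nat.card_eq_fintype_card]
        exact Nat.card_congr (Equiv.subtypeEquivRight fun x => (MonoidHom.mem_ker (f := π)).symm)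
      rw [CfsgLib.Char.classInner_self, Finset.sum_congr rfl fun x _ => h1 x, Finset.sum_ite, Finset.sum_const_zero,
        add_zero, Finset.sum_const, hk, nsmul_eq_mul, hcard]
      push_cast
      field_simp
      exact div_self (by exact_mod_cast NeZero.ne m)
    · rw [Representation.char_one, Complex.natCast_re, Module.finrank_fintype_fun_eq_card]
      exact_mod_cast hι
  have hιn : Cfsg.charDegree ρ.character = Fintype.card ι := by
    have h1 : ρ.character 1 = (Fintype.card ι : ℂ) := by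
      rw [Representation.char_one, Module.finrank_fintype_fun_eq_card]
    rw [Cfsg.charDegree, h1]
    simp
  have hker_card : Nat.card π.ker = m := by
    have h2 := π.ker.card_mul_index
    rw [Subgroup.index_ker, π.range_eq_top.2 hπs, Subgroup.card_top, hcard, B.card_eq] at h2
    exact Nat.eq_of_mul_eq_mul_right (pow_pos hι 2) h2
  let e : ULift.{u} H ≃* H := MulEquiv.ulift
  let π' : ULift.{u} H →* R := π.comp e.toMonoidHom
  have hπ's : Function.Surjective π' := hπs.comp e.surjective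
  have hker' : π'.ker = Subgroup.center (ULift.{u} H) := by
    ext x
    have h1 : x ∈ π'.ker ↔ e x ∈ Subgroup.center H := by rw [← hcen]; rfl
    rw [h1, Subgroup.mem_center_iff, Subgroup.mem_center_iff]
    exact ⟨fun h y => e.injective (by rw [map_mul, map_mul]; exact h (e y)), fun h y => by
      obtain ⟨y, rfl⟩ := e.surjective y
      rw [← map_mul, ← map_mul, h y]⟩
  have hcH' : Nat.card (ULift.{u} H) = m * Fintype.card ι ^ 2 := by rw [Nat.card_congr e.toEquiv, hcard]
  have hindex : (Subgroup.center (ULift.{u} H)).index = Fintype.card ι ^ 2 := by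
    rw [← hker', Subgroup.index_ker, π'.range_eq_top.2 hπ's, Subgroup.card_top, B.card_eq]
  have hZcard : Nat.card (Subgroup.center (ULift.{u} H)) = m := by
    have h2 := (Subgroup.center (ULift.{u} H)).card_mul_index
    rw [hindex, hcH'] at h2
    exact Nat.eq_of_mul_eq_mul_right (pow_pos hι 2) h2
  refine ⟨ULift.{u} H, inferInstance, inferInstance, ⟨fun x => ρ.character (e x),
    CfsgLib.Char.isIrrCharacter_comp_surjective hirr e.toMonoidHom e.surjective⟩, ?_, ?_,
    ⟨((QuotientGroup.quotientMulEquivOfEq hker').toMonoidHom.comp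
      (QuotientGroup.quotientKerEquivOfSurjective π' hπ's).symm.toMonoidHom).comp f,
      ((QuotientGroup.quotientMulEquivOfEq hker').injective.comp
      (QuotientGroup.quotientKerEquivOfSurjective π' hπ's).symm.injective).comp hf⟩, ?_, hZcard ▸ hsq⟩
  · intro x hx
    have h1 : ρ.character (e x) = ρ.character 1 := by rw [← map_one e]; exact hx
    rw [hχ, hχ, OneMemClass.coe_one, Units.val_one, Matrix.trace_one] at h1
    have h2 : aH (e x) = 1 := by
      by_contra hne
      rw [htr _ hne] at h1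
      exact hι0 h1.symm
    rw [hsc _ h2, Matrix.trace_smul, Matrix.trace_one, smul_eq_mul] at h1
    have h3 : cH (e x) = 1 := (mul_eq_right₀ hι0).1 h1
    refine e.injective ((Subtype.ext (Units.ext ?_) : e x = 1).trans (map_one e).symm)
    rw [hsc _ h2, h3, one_smul, OneMemClass.coe_one, Units.val_one]
  · rw [hindex]
    show Cfsg.charDegree (fun x => ρ.character (e x)) ^ 2 = _
    rw [← hιn]
    simp only [Cfsg.charDegree, map_one]
  · intro q hq
    refine ⟨?_, by rw [hZcard]; exact hmp q hq⟩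
    rw [hcH', hq.dvd_mul]
    exact ⟨fun h => h.elim (hmp q hq).1 fun h => hιp q hq (hq.dvd_of_dvd_pow h), fun h => Or.inl ((hmp q hq).2 h)⟩

end Cfsg.Agent.S4561
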