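import Cfsg.Statements.S4563
import Cfsg.Agent.Lib.Char.FullyRamifiedSection
import Cfsg.Agent.Lib.Block.Covering

set_option autoImplicit false
open Cfsg

namespace Cfsg.Agent.S4563

open CfsgLib CfsgLib.Char CfsgLib.Char.FullyRam in
theorem exists_orbit {H : Type*} [Group H] [Fintype H] (Z : Subgroup H) [Z.Normal] {χ : IrrCharacter H}
    (K : Subgroup H) [K.Normal] (hZK : Z ≤ K) (θ : IrrCharacter Z) {e : ℕ} (he : e ^ 2 = Z.index)
    (h : FR Z θ χ) (φ : K → ℂ) (hφ : IsCharacter K φ) (a : ℕ)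
    (hφres : (fun z : Z => φ (Subgroup.inclusion hZK z)) = (a : ℂ) • (θ : Z → ℂ)) (hea : e = K.index * a)
    {p : ℕ} [hp : Fact p.Prime] (T : Subgroup H) (hZT : Z ≤ T) (ψ : IrrCharacter T)
    (hψ : FR (Z.subgroupOf T) (subθ θ hZT) ψ) (hb : ∃ b, Z.relIndex T = p ^ b) (hTp : ¬ p ∣ T.index)
    [Fintype (K.subgroupOf T)] [Fintype ((Z.subgroupOf T).subgroupOf (K.subgroupOf T))] :
    ∃ η : IrrCharacter (K.subgroupOf T),
      Over η (subθ (subθ θ hZT) (Subgroup.comap_mono hZK : Z.subgroupOf T ≤ K.subgroupOf T)) ∧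
      inertia (K.subgroupOf T) (η : K.subgroupOf T → ℂ) = K.subgroupOf T := by
  classical
  obtain ⟨b, hb⟩ := hb
  have := Fintype.ofFinite Z
  have := Fintype.ofFinite T
  have := Fintype.ofFinite (Z.subgroupOf T)
  have hZS : Z.subgroupOf T ≤ K.subgroupOf T := Subgroup.comap_mono hZK
  set θ₀ := subθ (subθ θ hZT) hZS with hθ₀
  obtain ⟨η₀, hη₀⟩ := Block.ItoMichler.exists_irr_over ((Z.subgroupOf T).subgroupOf (K.subgroupOf T)) θ₀
  refine ⟨η₀, hη₀, orbit_of_degree (K.subgroupOf T) hZS hψ η₀ hη₀ ?_⟩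
  -- all characters over `θ` have the degree of `η₀`
  have hsame : ∀ η : IrrCharacter (K.subgroupOf T), Over η θ₀ →
      (η : K.subgroupOf T → ℂ) 1 = (η₀ : K.subgroupOf T → ℂ) 1 := by
    intro η hη
    by_contra hne
    refine over_chi (K.subgroupOf T) hZS hψ η hη
      (classInner_restrict_zero (K.subgroupOf T) ψ.2 η₀.2 η.2 (over_chi (K.subgroupOf T) hZS hψ η₀ hη₀)
        fun g hg => hne ?_)
    rw [← hg]
    show (η₀ : K.subgroupOf T → ℂ) ⟨g * ((1 : K.subgroupOf T) : T) * g⁻¹, _⟩ = _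
    exact congrArg _ (Subtype.ext (by simp))
  -- the restriction of `φ`
  let j : K.subgroupOf T →* K :=
    { toFun := fun s => ⟨((s : T) : H), Subgroup.mem_subgroupOf.1 s.2⟩
      map_one' := rfl
      map_mul' := fun _ _ => rfl }
  have hΦc : IsCharacter (K.subgroupOf T) fun s => φ (j s) := isCharacter_comp hφ j
  have hΦres : ∀ z : (Z.subgroupOf T).subgroupOf (K.subgroupOf T),
      φ (j z) = (a : ℂ) * (θ₀ : (Z.subgroupOf T).subgroupOf (K.subgroupOf T) → ℂ) z := fun z =>
    congrFun hφres (Subgroup.subgroupOfEquivOfLe hZT (Subgroup.subgroupOfEquivOfLe hZS z))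
  have hoverη : ∀ η : IrrCharacter (K.subgroupOf T),
      classInner (fun s => φ (j s)) (η : K.subgroupOf T → ℂ) ≠ 0 → Over η θ₀ := by
    intro η hη
    obtain ⟨θ', hθ'⟩ := Block.exists_constituent (N := (Z.subgroupOf T).subgroupOf (K.subgroupOf T)) η
    by_cases hθ : θ' = θ₀
    · exact hθ ▸ hθ'
    · exfalso
      refine hθ' ?_
      have hrest := isCharacter_sub_constituent hΦc η hη
      obtain ⟨m, hm⟩ := classInner_char_irr_nat
        (isCharacter_comp (isCharacter_irr η) ((Z.subgroupOf T).subgroupOf (K.subgroupOf T)).subtype) θ'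
      obtain ⟨m', hm'⟩ := classInner_char_irr_nat
        (isCharacter_comp hrest ((Z.subgroupOf T).subgroupOf (K.subgroupOf T)).subtype) θ'
      have hsum : classInner (fun z : (Z.subgroupOf T).subgroupOf (K.subgroupOf T) => φ (j z))
          (θ' : _ → ℂ) = (m : ℂ) + m' := by
        rw [← hm, ← hm', ← classInner_add_left]
        congr 1
        funext z
        simp
      rw [show (fun z : (Z.subgroupOf T).subgroupOf (K.subgroupOf T) => φ (j z)) =
          (a : ℂ) • (θ₀ : _ → ℂ) from funext hΦres, classInner_smul_left, classInner_irr,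
        if_neg (Ne.symm hθ), mul_zero, ← Nat.cast_add, eq_comm, Nat.cast_eq_zero] at hsum
      have hm0 : m = 0 := by omega
      rw [hm0, Nat.cast_zero] at hm
      exact hm
  -- degrees
  obtain ⟨f, hf0, -, hfres⟩ := restrict_eq_smul_of_invariant ((Z.subgroupOf T).subgroupOf (K.subgroupOf T))
    η₀.2 θ₀.2 hη₀ (subθ_inv hψ hZS)
  have hη1 : (η₀ : K.subgroupOf T → ℂ) 1 = (f : ℂ) * (θ : Z → ℂ) 1 := by
    have h1 := congrFun hfres 1
    simpa [hθ₀, subθ] using h1
  obtain ⟨N, hN⟩ : ∃ N : ℕ, φ 1 = (N : ℂ) * (η₀ : K.subgroupOf T → ℂ) 1 := by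
    have := Fintype.ofFinite (IrrCharacter (K.subgroupOf T))
    choose n hn using fun η : IrrCharacter (K.subgroupOf T) => classInner_char_irr_nat hΦc η
    refine ⟨∑ η, n η, ?_⟩
    have h1 := congrFun (classFun_expand (isClassFunction_of_isCharacter hΦc)) 1
    rw [show j 1 = (1 : K) from map_one j, Finset.sum_apply] at h1
    rw [h1, Nat.cast_sum, Finset.sum_mul]
    refine Finset.sum_congr rfl fun η _ => ?_
    rw [Pi.smul_apply, smul_eq_mul, hn η]
    by_cases hnη : n η = 0
    · simp [hnη]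
    · rw [hsame η (hoverη η (by rw [hn η]; exact_mod_cast hnη))]
  have hfa : f ∣ a := by
    refine ⟨N, ?_⟩
    have h1 := congrFun hφres 1
    rw [map_one, hN, hη1, Pi.smul_apply, smul_eq_mul, ← mul_assoc] at h1
    have h2 : ((N * f : ℕ) : ℂ) = (a : ℂ) := by
      push_cast
      exact mul_right_cancel₀ (irr_one_ne_zero θ) h1
    rw [mul_comm, ← (Nat.cast_injective h2 : N * f = a)]
  obtain ⟨g, hg, hψres⟩ := hψ.mult
  have hψ1 : (ψ : T → ℂ) 1 = (g : ℂ) * (θ : Z → ℂ) 1 := by
    have h1 := hψres 1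
    simpa [subθ] using h1
  have hfb : f ∣ p ^ b := by
    obtain ⟨c, hc, hdvd⟩ := ratio_dvd_index_invariant ((Z.subgroupOf T).subgroupOf (K.subgroupOf T)) η₀
      θ₀.2 (subθ_inv hψ hZS) hη₀ (Block.ItoMichler.one_eq_cast η₀) (Block.ItoMichler.one_eq_cast θ₀)
    have h1 : c = f := by
      have h2 := congrFun hfres 1
      rw [OneMemClass.coe_one, Pi.smul_apply, smul_eq_mul, Block.ItoMichler.one_eq_cast η₀,
        Block.ItoMichler.one_eq_cast θ₀, hc, Nat.cast_mul, mul_comm] at h2
      exact_mod_cast mul_right_cancel₀ (fun h0 => irr_one_ne_zero θ₀ (by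
        rw [Block.ItoMichler.one_eq_cast θ₀, h0])) h2
    rw [← hb, ← h1]
    refine hdvd.trans ⟨(K.subgroupOf T).index, ?_⟩
    exact (Subgroup.relIndex_mul_index hZS).symm
  have hSb : (K.subgroupOf T).index ∣ p ^ b := hb ▸ Subgroup.index_dvd_of_le hZS
  have hSK : (K.subgroupOf T).index ∣ K.index := Subgroup.relIndex_dvd_index_of_normal K T
  have hle : (K.subgroupOf T).index * f ≤ g := by
    set s := (K.subgroupOf T).index
    have h1 : (s * f) ^ 2 ∣ p ^ b * T.index := by
      rw [← hb, Subgroup.relIndex_mul_index hZT, ← he, hea]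
      exact pow_dvd_pow_of_dvd (mul_dvd_mul hSK hfa) 2
    obtain ⟨x, -, hx⟩ := (Nat.dvd_prime_pow hp.out).1 hSb
    obtain ⟨y, -, hy⟩ := (Nat.dvd_prime_pow hp.out).1 hfb
    have h2 : Nat.Coprime ((s * f) ^ 2) T.index := by
      rw [hx, hy, ← pow_add, ← pow_mul]
      exact Nat.Coprime.pow_left _ ((Nat.Prime.coprime_iff_not_dvd hp.out).2 hTp)
    have h3 := Nat.le_of_dvd (pow_pos hp.out.pos b) (h2.dvd_of_dvd_mul_right h1)
    have hg' : g ^ 2 = p ^ b := hg.trans hb
    rw [← hg'] at h3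
    exact le_of_pow_le_pow_left₀ two_ne_zero (Nat.zero_le _) h3
  have hdeg : ((( K.subgroupOf T).index * charDegree (η₀ : K.subgroupOf T → ℂ) : ℕ) : ℂ) * g =
      ((((K.subgroupOf T).index * f : ℕ)) : ℂ) * charDegree (ψ : T → ℂ) := by
    push_cast
    rw [← Block.ItoMichler.one_eq_cast η₀, ← Block.ItoMichler.one_eq_cast ψ, hη1, hψ1]
    ring
  have hdeg' := (Nat.cast_injective (R := ℂ) (by exact_mod_cast hdeg :
    (((K.subgroupOf T).index * charDegree (η₀ : K.subgroupOf T → ℂ) * g : ℕ) : ℂ) =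
      (((K.subgroupOf T).index * f * charDegree (ψ : T → ℂ) : ℕ) : ℂ)))
  have hg0 : 0 < g := by
    rcases Nat.eq_zero_or_pos g with h0 | h0
    · exact absurd (by rw [← hg.trans hb, h0]; rfl : p ^ b = 0) (pow_ne_zero _ hp.out.ne_zero)
    · exact h0
  refine Nat.le_of_mul_le_mul_right (hdeg'.trans_le ?_) hg0
  rw [mul_comm (charDegree (ψ : T → ℂ))]
  exact Nat.mul_le_mul_right _ hle

/-- Let χ be an irreducible character of the finite group H that is fully ramified over the normal subgroup Z: the restriction of χ to Z is e times an irreducible character of Z with e ^ 2 equal to the index of Z. If K is a proper normal subgroup of H containing Z and χ is induced from a character of K, then H/K is solvable; in particular, if K is solvable then so is H. -/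
theorem result {H : Type*} [Group H] [Fintype H] (Z : Subgroup H) [Z.Normal] (χ : Cfsg.IrrCharacter H) (hfr : ∃ (θ : Cfsg.IrrCharacter ↥Z) (e : ℕ), e ^ 2 = Z.index ∧ ∀ z : ↥Z, (χ : H → ℂ) z = (e : ℂ) * (θ : ↥Z → ℂ) z) (K : Subgroup H) [K.Normal] [Fintype K] (hZK : Z ≤ K) (hK : K ≠ ⊤) (φ : ↥K → ℂ) (hφ : Cfsg.IsCharacter ↥K φ) (hind : Cfsg.indFun K φ = (χ : H → ℂ)) : Group.IsSolvable (H ⧸ K) ∧ (Group.IsSolvable ↥K → Group.IsSolvable H) := by
  classical
  obtain ⟨θ, e, he, hres⟩ := hfr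
  have h : CfsgLib.Char.FullyRam.FR Z θ χ := ⟨⟨e, he, hres⟩⟩
  have key : Group.IsSolvable (H ⧸ K) := by
    have := Fintype.ofFinite Z
    -- `φ` is a multiple of `θ` on `Z`
    let r : K → ℂ := φ
    let φZ : Z → ℂ := fun z => φ (Subgroup.inclusion hZK z)
    have hφZc : IsCharacter Z φZ := CfsgLib.Char.isCharacter_comp hφ (Subgroup.inclusion hZK)
    have hother : ∀ θ' : IrrCharacter Z, θ' ≠ θ → classInner φZ (θ' : Z → ℂ) = 0 := by
      intro θ' hne
      have hsum : (fun z : Z => (χ : H → ℂ) z) =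
          (Nat.card K : ℂ)⁻¹ • ∑ x : H, CfsgLib.Char.conjFun Z φZ x := by
        funext z
        have h1 := CfsgLib.Char.indFun_normal_mem K φ (Subgroup.inclusion hZK z)
        rw [hind] at h1
        rw [Pi.smul_apply, Finset.sum_apply, smul_eq_mul]
        exact h1
      have h0 : classInner (fun z : Z => (χ : H → ℂ) z) (θ' : Z → ℂ) = 0 := by
        rw [show (fun z : Z => (χ : H → ℂ) z) = (e : ℂ) • (θ : Z → ℂ) from funext hres,
          CfsgLib.Char.classInner_smul_left, CfsgLib.Char.classInner_irr, if_neg hne.symm, mul_zero]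
      rw [hsum, CfsgLib.Char.classInner_smul_left, mul_eq_zero, CfsgLib.Char.classInner_sum_left] at h0
      have h2 := h0.resolve_left (inv_ne_zero (by exact_mod_cast Nat.card_pos.ne'))
      choose m hm using fun x : H => CfsgLib.Char.classInner_char_irr_nat
        (CfsgLib.Char.isCharacter_comp hφZc (CfsgLib.Char.normalConjHom Z x)) θ'
      have hm' : ∀ x, classInner (CfsgLib.Char.conjFun Z φZ x) (θ' : Z → ℂ) = (m x : ℂ) := hm
      simp only [hm'] at h2
      rw [← Nat.cast_sum, Nat.cast_eq_zero, Finset.sum_eq_zero_iff] at h2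
      have h3 := hm' 1
      rwa [CfsgLib.Char.conjFun_one, h2 1 (Finset.mem_univ _), Nat.cast_zero] at h3
    obtain ⟨a, ha⟩ := CfsgLib.Char.classInner_char_irr_nat hφZc θ
    have hφres : φZ = (a : ℂ) • (θ : Z → ℂ) := by
      have := Fintype.ofFinite (IrrCharacter Z)
      have h1 := CfsgLib.Char.classFun_expand (CfsgLib.Char.isClassFunction_of_isCharacter hφZc)
      rw [Finset.sum_eq_single θ (fun θ' _ hne => by rw [hother θ' hne, zero_smul]) (by simp), ha] at h1
      exact h1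
    have hφ1 : φ 1 = (a : ℂ) * (θ : Z → ℂ) 1 := by
      have := congrFun hφres 1
      simpa [φZ] using this
    have hea : e = K.index * a := by
      have h1 : (χ : H → ℂ) 1 = (K.index : ℂ) * φ 1 := by rw [← hind, CfsgLib.Char.indFun_one]
      have h2 := hres 1
      rw [OneMemClass.coe_one, h1, hφ1, ← mul_assoc] at h2
      exact_mod_cast (mul_right_cancel₀ (CfsgLib.Char.irr_one_ne_zero θ) h2).symm
    refine CfsgLib.Coprime.isSolvable_of_hall_complements fun p hp => ?_
    haveI : Fact p.Prime := ⟨hp⟩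
    refine CfsgLib.Char.FullyRam.exists_pComplement h K hZK p fun T hZT ψ hψ hb hTp _ _ => ?_
    exact exists_orbit Z K hZK θ he h φ hφ a hφres hea T hZT ψ hψ hb hTp
  refine ⟨key, fun hsK => ?_⟩
  haveI := hsK
  haveI := key
  exact Group.isSolvable_of_ker_le_range K.subtype (QuotientGroup.mk' K) (by simp)

end Cfsg.Agent.S4563
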