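import Cfsg.Statements.S4564
import Cfsg.Agent.Lib.Char.FullyRamifiedSection

set_option autoImplicit false
open Cfsg

namespace Cfsg.Agent.S4564

/-- Let χ be an irreducible character of the finite group H that is fully ramified over the normal subgroup Z: the restriction of χ to Z is e times an irreducible character of Z with e ^ 2 equal to the index of Z. Let K be a normal subgroup of H containing Z and P a cyclic Sylow p-subgroup of H/K. Then P has a complement in H/K: a subgroup meeting P trivially whose product with P is the whole group. -/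
theorem result {H : Type*} [Group H] [Finite H] (Z : Subgroup H) [Z.Normal] (χ : Cfsg.IrrCharacter H) (hfr : ∃ (θ : Cfsg.IrrCharacter ↥Z) (e : ℕ), e ^ 2 = Z.index ∧ ∀ z : ↥Z, (χ : H → ℂ) z = (e : ℂ) * (θ : ↥Z → ℂ) z) (K : Subgroup H) [K.Normal] (hZK : Z ≤ K) (p : ℕ) [Fact p.Prime] (P : Sylow p (H ⧸ K)) (hcyc : IsCyclic P) : ∃ M : Subgroup (H ⧸ K), M.IsComplement' (P : Subgroup (H ⧸ K)) := by
  classical
  have := Fintype.ofFinite H
  obtain ⟨θ, e, he, hres⟩ := hfr
  have h : CfsgLib.Char.FullyRam.FR Z θ χ := ⟨⟨e, he, hres⟩⟩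
  haveI := hcyc
  obtain ⟨M, hM⟩ := CfsgLib.Char.FullyRam.exists_pComplement h K hZK p fun T hZT ψ hψ hb _ _ _ => by
    classical
    obtain ⟨b, hb⟩ := hb
    have hZS : Z.subgroupOf T ≤ K.subgroupOf T := Subgroup.comap_mono hZK
    obtain ⟨η, hη⟩ := CfsgLib.Block.ItoMichler.exists_irr_over ((Z.subgroupOf T).subgroupOf (K.subgroupOf T))
      (CfsgLib.Char.FullyRam.subθ (CfsgLib.Char.FullyRam.subθ θ hZT) hZS)
    refine ⟨η, hη, CfsgLib.Char.FullyRam.orbit_of_cyclic (K.subgroupOf T) hZS hψ η hη ?_⟩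
    let φ : ↥T ⧸ K.subgroupOf T →* H ⧸ K :=
      QuotientGroup.map (K.subgroupOf T) K T.subtype fun x hx => Subgroup.mem_subgroupOf.1 hx
    have hinj : Function.Injective φ := (injective_iff_map_eq_one φ).2 fun q hq => by
      obtain ⟨x, rfl⟩ := QuotientGroup.mk_surjective q
      exact (QuotientGroup.eq_one_iff x).2 (Subgroup.mem_subgroupOf.2 ((QuotientGroup.eq_one_iff (x : H)).1 hq))
    have hp' : IsPGroup p (↥T ⧸ K.subgroupOf T) := by
      have hd : (K.subgroupOf T).index ∣ p ^ b := by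
        rw [← hb]
        exact Subgroup.index_dvd_of_le hZS
      obtain ⟨c, -, hc⟩ := (Nat.dvd_prime_pow (Fact.out : p.Prime)).1 hd
      exact IsPGroup.of_card ((Subgroup.index_eq_card (H := K.subgroupOf T)).symm.trans hc)
    obtain ⟨Q, hQ⟩ := (hp'.of_surjective φ.rangeRestrict φ.rangeRestrict_surjective).exists_le_sylow
    haveI : IsCyclic (Q : Subgroup (H ⧸ K)) :=
      isCyclic_of_injective (Q.equiv P).toMonoidHom (Q.equiv P).injective
    refine isCyclic_of_injective (φ.codRestrict (Q : Subgroup (H ⧸ K)) fun x => hQ ⟨x, rfl⟩) fun x y hxy => ?_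
    exact hinj (congrArg Subtype.val hxy)
  refine ⟨M, ?_⟩
  have hP := P.card_eq_multiplicity
  have h1 : Nat.card M * Nat.card (P : Subgroup (H ⧸ K)) = Nat.card (H ⧸ K) := by
    rw [hP, ← hM]
    exact M.card_mul_index
  refine Subgroup.isComplement'_of_coprime h1 ?_
  rw [hP]
  refine Nat.Coprime.pow_right _ (Nat.Coprime.symm ((Nat.Prime.coprime_iff_not_dvd Fact.out).2 fun hd => ?_))
  have h2 : (Nat.card (H ⧸ K)).factorization p ≠ (Nat.card (H ⧸ K)).factorization p + 1 := by omega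
  apply h2
  obtain ⟨k, hk⟩ := hd
  have h3 : p ^ ((Nat.card (H ⧸ K)).factorization p + 1) ∣ Nat.card (H ⧸ K) :=
    ⟨k, h1.symm.trans (by rw [hP, hk, pow_succ]; ring)⟩
  have h4 := ((Fact.out : p.Prime).pow_dvd_iff_le_factorization Nat.card_pos.ne').1 h3
  omega

end Cfsg.Agent.S4564
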