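import Cfsg.Statements.S4566
import Cfsg.Agent.Lib.Block.DefectCentral
-- import your own Cfsg.Agent.* helpers here

set_option autoImplicit false
open Cfsg CfsgLib.Block

open Cfsg

namespace Cfsg.Agent.S4566

/-- Let N be a central subgroup of the finite group G, ψ a faithful irreducible (hence degree-one) character of N, and χ an irreducible character of G whose restriction to N contains ψ. If g ∈ G and some x ∈ G has commutator x⁻¹ g⁻¹ x g in N but different from 1, then χ g = 0. -/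
theorem result {G : Type*} [Group G] [Fintype G] (N : Subgroup G) [Fintype N] (hN : N ≤ Subgroup.center G) (ψ : Cfsg.IrrCharacter ↥N) (hfaith : ∀ n : ↥N, (ψ : ↥N → ℂ) n = (ψ : ↥N → ℂ) 1 → n = 1) (χ : Cfsg.IrrCharacter G) (hover : Cfsg.classInner (fun n : ↥N => (χ : G → ℂ) n) (ψ : ↥N → ℂ) ≠ 0) (g x : G) (hcomm : x⁻¹ * g⁻¹ * x * g ∈ N) (hne : x⁻¹ * g⁻¹ * x * g ≠ 1) : (χ : G → ℂ) g = 0 := by
  classical
  have hNc : ∀ m : N, (m : G) ∈ Subgroup.center G := fun m => hN m.2
  have : IsMulCommutative N := ⟨⟨fun a b => Subtype.ext (Subgroup.mem_center_iff.mp (hNc b) a)⟩⟩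
  obtain ⟨c, hc1, -, hc⟩ := exists_central_char χ
  obtain ⟨c', hc'1, -, hc'⟩ := exists_central_char ψ
  set n : G := x⁻¹ * g⁻¹ * x * g with hn
  by_contra hg0
  have hln : c (n : G) = 1 := by
    have h1 : (χ : G → ℂ) (n⁻¹ * g) = (χ : G → ℂ) g := by
      have hz := Subgroup.mem_center_iff.mp (inv_mem (hN hcomm)) g
      rw [← hz, show g * n⁻¹ = x⁻¹ * g * x⁻¹⁻¹ by rw [hn]; group]
      exact CfsgLib.Char.isClassFunction_irr χ g x⁻¹
    rw [hc _ _ (inv_mem (hN hcomm))] at h1
    have h2 : c n⁻¹ = 1 := by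
      exact (mul_eq_right₀ hg0).mp h1
    have h3 := hc n n⁻¹ (hN hcomm)
    rw [mul_inv_cancel, ← mul_one n⁻¹, hc _ _ (inv_mem (hN hcomm)), h2, one_mul] at h3
    exact (mul_eq_right₀ (CfsgLib.Char.irr_one_ne_zero χ)).mp h3.symm
  set m : N := ⟨n, hcomm⟩ with hm
  have hmc : m ∈ Subgroup.center N := Subgroup.mem_center_iff.mpr fun a => mul_comm' a m
  have hcm : c' m = 1 := by
    by_contra hne'
    refine hover ?_
    set S := classInner (fun k : N => (χ : G → ℂ) k) (ψ : N → ℂ) with hS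
    have h1 : S = (starRingEnd ℂ) (c' m) * S := by
      simp only [hS, classInner, Finset.mul_sum]
      refine (Fintype.sum_equiv (Equiv.mulLeft m) _ _ fun k => ?_).symm
      simp only [Equiv.coe_mulLeft, Subgroup.coe_mul, hc _ _ (hNc m), hc' _ _ hmc, map_mul]
      rw [show (m : G) = n from rfl, hln]
      ring
    by_contra h0
    have h2 : (starRingEnd ℂ) (c' m) = 1 := mul_right_cancel₀ h0 (h1.symm.trans (one_mul S).symm)
    exact hne' (by simpa using congrArg (starRingEnd ℂ) h2)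
  refine hne (congrArg Subtype.val (hfaith m ?_))
  rw [← mul_one m, hc' _ _ hmc, hcm, one_mul]

end Cfsg.Agent.S4566
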