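import Cfsg.Statements.S4567
import Cfsg.Agent.Lib.Char.Linear
import Cfsg.Agent.Lib.Block.Cyclic.PrincipalSq

set_option autoImplicit false
open Cfsg

namespace Cfsg.Agent.S4567

/-- Let N be a central subgroup of the finite group G and ψ a faithful irreducible (hence degree-one) character of N. Call a coset g N special when every x ∈ G whose commutator x⁻¹ g⁻¹ x g lies in N actually commutes with g (this depends only on the coset). Then the number of irreducible characters of G whose restriction to N contains ψ equals the number of conjugacy classes of G/N consisting of special cosets. -/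
theorem result {G : Type*} [Group G] [Fintype G] (N : Subgroup G) [N.Normal] [Fintype N] (hN : N ≤ Subgroup.center G) (ψ : Cfsg.IrrCharacter ↥N) (hfaith : ∀ n : ↥N, (ψ : ↥N → ℂ) n = (ψ : ↥N → ℂ) 1 → n = 1) : Nat.card {χ : Cfsg.IrrCharacter G // Cfsg.classInner (fun n : ↥N => (χ : G → ℂ) n) (ψ : ↥N → ℂ) ≠ 0} = Nat.card {C : ConjClasses (G ⧸ N) // ∃ g : G, ConjClasses.mk (g : G ⧸ N) = C ∧ ∀ x : G, x⁻¹ * g⁻¹ * x * g ∈ N → x * g = g * x} := by
  classical
  have := Fintype.ofFinite (IrrCharacter G)
  have := Fintype.ofFinite (G ⧸ N)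
  have hcomm : ∀ a b : N, a * b = b * a := fun a b =>
    Subtype.ext (Subgroup.mem_center_iff.mp (hN b.2) (a : G))
  obtain ⟨lam, hlam⟩ := CfsgLib.Char.linearCharEquiv.surjective ⟨ψ, CfsgLib.Char.degree_one_of_comm hcomm ψ⟩
  have hψ : ∀ n, (ψ : N → ℂ) n = ((lam n : ℂˣ) : ℂ) := fun n =>
    (congrFun (congrArg (fun w => (w.1 : N → ℂ)) hlam) n).symm
  have hinj : ∀ n, lam n = 1 → n = 1 := fun n h => hfaith n (by rw [hψ, hψ, h, map_one])
  let good : G → Prop := fun g => ∀ x : G, x⁻¹ * g⁻¹ * x * g ∈ N → x * g = g * x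
  have hgood : ∀ g, good g ↔ ∀ n : N, IsConj ((n : G) * g) g → n = 1 := by
    intro g
    constructor
    · intro h n hn
      obtain ⟨a, ha⟩ := isConj_iff.mp hn.symm
      have h1 : a⁻¹⁻¹ * g⁻¹ * a⁻¹ * g = (n : G)⁻¹ := by
        rw [inv_inv, show a * g⁻¹ * a⁻¹ = (a * g * a⁻¹)⁻¹ by group, ha]
        rw [mul_inv_rev, mul_assoc, ← Subgroup.mem_center_iff.mp (Subgroup.inv_mem _ (hN n.2)) g]
        group
      have h2 := h a⁻¹ (h1 ▸ N.inv_mem n.2)
      refine Subtype.ext (mul_right_cancel (b := g) ?_)
      rw [← ha, OneMemClass.coe_one, one_mul]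
      calc a * g * a⁻¹ = a * (g * a⁻¹) := by group
        _ = a * (a⁻¹ * g) := by rw [h2]
        _ = g := by group
    · intro h x hx
      have hz := Subgroup.mem_center_iff.mp (hN hx)
      have h1 := h ⟨_, hx⟩⁻¹ (isConj_iff.mpr ⟨x, ?_⟩)
      · have h2 : x⁻¹ * g⁻¹ * x * g = 1 := by
          have := congrArg Subtype.val (inv_eq_one.mp h1); exact this
        calc x * g = g * x * (x⁻¹ * g⁻¹ * x * g) := by group
          _ = g * x := by rw [h2, mul_one]
      · have e : x⁻¹ * g⁻¹ * x * g = g * x⁻¹ * g⁻¹ * x := by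
          calc x⁻¹ * g⁻¹ * x * g = (x⁻¹ * g⁻¹ * x * g) * g * g⁻¹ := by group
            _ = g * (x⁻¹ * g⁻¹ * x * g) * g⁻¹ := by rw [hz g]
            _ = g * x⁻¹ * g⁻¹ * x := by group
        show x * ((x⁻¹ * g⁻¹ * x * g)⁻¹ * g) * x⁻¹ = g
        rw [e]
        group
  -- invariance of good cosets
  have hgn : ∀ (g : G) (m : N), good g → good ((m : G) * g) := fun g m h => (hgood _).mpr fun n hn => by
    refine (hgood g).mp h n ?_
    obtain ⟨a, ha⟩ := isConj_iff.mp hn
    refine isConj_iff.mpr ⟨a, mul_left_cancel (a := (m : G)) ?_⟩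
    rw [← ha]
    have hm := Subgroup.mem_center_iff.mp (hN m.2)
    simp only [← mul_assoc]
    rw [← hm a, mul_assoc a (n : G) (m : G), hm n, ← mul_assoc]
  have hgc : ∀ (g a : G), good g → good (a * g * a⁻¹) := fun g a h => (hgood _).mpr fun n hn => by
    refine (hgood g).mp h n ?_
    refine ((isConj_iff.mpr ⟨a, ?_⟩ : IsConj ((n : G) * g) ((n : G) * (a * g * a⁻¹))).trans hn).trans
      (isConj_iff.mpr ⟨a, rfl⟩ : IsConj g (a * g * a⁻¹)).symm
    have hm := Subgroup.mem_center_iff.mp (hN n.2)
    rw [← mul_assoc a, hm a]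
    group
  let goodQ : G ⧸ N → Prop := fun q => ∃ g : G, (g : G ⧸ N) = q ∧ good g
  have hgq : ∀ g : G, goodQ g ↔ good g := fun g => by
    refine ⟨?_, fun h => ⟨g, rfl, h⟩⟩
    rintro ⟨g', he, h⟩
    have h1 : g * g'⁻¹ ∈ N := by
      rw [← QuotientGroup.eq_one_iff, QuotientGroup.mk_mul, QuotientGroup.mk_inv, he, mul_inv_cancel]
    simpa using hgn g' ⟨_, h1⟩ h
  -- the central characters
  have hw : ∀ χ : IrrCharacter G, ∀ n : N, ∃ w : ℂ, ∀ g : G, (χ : G → ℂ) ((n : G) * g) = w * (χ : G → ℂ) g :=
    fun χ n => by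
      obtain ⟨w, -, hw⟩ := CfsgLib.Block.Cyclic.irr_central_mul (hN n.2) (pow_orderOf_eq_one (n : G)) χ
      exact ⟨w, hw⟩
  choose w hw using hw
  have hwone : ∀ (χ : IrrCharacter G) (n : N), (χ : G → ℂ) (n : G) = w χ n * (χ : G → ℂ) 1 := fun χ n => by
    rw [← hw χ n 1, mul_one]
  have hwhom : ∀ χ : IrrCharacter G, ∃ om : N →* ℂˣ, ∀ n, ((om n : ℂˣ) : ℂ) = w χ n := fun χ => by
    have h0 := CfsgLib.Char.irr_one_ne_zero χ
    let f : N →* ℂ :=
      { toFun := w χ
        map_one' := mul_right_cancel₀ h0 (by rw [← hwone, OneMemClass.coe_one, one_mul])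
        map_mul' := fun a b => mul_right_cancel₀ h0 (by
          rw [← hwone, Subgroup.coe_mul, hw χ a, hwone χ b, mul_assoc]) }
    exact ⟨f.toHomUnits, fun n => rfl⟩
  choose om hom using hwhom
  have hI : ∀ χ : IrrCharacter G,
      (Nat.card N : ℂ)⁻¹ * ∑ n : N, w χ n * (starRingEnd ℂ) ((lam n : ℂˣ) : ℂ) =
        if Cfsg.classInner (fun n : N => (χ : G → ℂ) n) (ψ : N → ℂ) ≠ 0 then 1 else 0 := by
    intro χ
    have h1 : Cfsg.classInner (fun n : N => (χ : G → ℂ) n) (ψ : N → ℂ) =
        (χ : G → ℂ) 1 * ((Nat.card N : ℂ)⁻¹ * ∑ n : N, w χ n * (starRingEnd ℂ) ((lam n : ℂˣ) : ℂ)) := by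
      simp only [Cfsg.classInner, Finset.mul_sum]
      refine Finset.sum_congr rfl fun n _ => ?_
      rw [hwone, hψ]; ring
    have h2 : (Nat.card N : ℂ)⁻¹ * ∑ n : N, w χ n * (starRingEnd ℂ) ((lam n : ℂˣ) : ℂ) =
        Cfsg.classInner (((CfsgLib.Char.linearCharEquiv (om χ)).1 : IrrCharacter N) : N → ℂ)
          (((CfsgLib.Char.linearCharEquiv lam).1 : IrrCharacter N) : N → ℂ) := by
      rw [Cfsg.classInner]
      refine congrArg _ (Finset.sum_congr rfl fun n _ => ?_)
      rw [← hom]
      rfl
    rw [h1, h2, CfsgLib.Char.classInner_irr]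
    by_cases hb : (CfsgLib.Char.linearCharEquiv (om χ)).1 = (CfsgLib.Char.linearCharEquiv lam).1
    · rw [if_pos hb, if_pos (by simpa using CfsgLib.Char.irr_one_ne_zero χ)]
    · rw [if_neg hb, if_neg (by simp)]
  -- the count
  have key : (Nat.card {χ : Cfsg.IrrCharacter G //
      Cfsg.classInner (fun n : N => (χ : G → ℂ) n) (ψ : N → ℂ) ≠ 0} : ℂ) =
      (Nat.card G : ℂ)⁻¹ * (Nat.card N : ℂ)⁻¹ *
        ∑ g : G, if good g then (Nat.card (Subgroup.centralizer ({g} : Set G)) : ℂ) else 0 := by
    rw [Nat.card_eq_fintype_card, Fintype.card_subtype, Finset.natCast_card_filter]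
    calc _ = ∑ χ : IrrCharacter G, ((Nat.card N : ℂ)⁻¹ * ∑ n : N, w χ n * (starRingEnd ℂ) ((lam n : ℂˣ) : ℂ)) *
          ((Nat.card G : ℂ)⁻¹ * ∑ g : G, (χ : G → ℂ) g * (starRingEnd ℂ) ((χ : G → ℂ) g)) := by
          refine Finset.sum_congr rfl fun χ _ => ?_
          rw [hI, show (Nat.card G : ℂ)⁻¹ * ∑ g : G, (χ : G → ℂ) g * (starRingEnd ℂ) ((χ : G → ℂ) g) = 1
            from CfsgLib.Char.classInner_irr_self χ, mul_one]
      _ = (Nat.card G : ℂ)⁻¹ * (Nat.card N : ℂ)⁻¹ * ∑ g : G, ∑ n : N, (starRingEnd ℂ) ((lam n : ℂˣ) : ℂ) *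
          ∑ χ : IrrCharacter G, (χ : G → ℂ) ((n : G) * g) * (starRingEnd ℂ) ((χ : G → ℂ) g) := by
          simp only [Finset.mul_sum, Finset.sum_mul]
          rw [Finset.sum_comm]
          refine Finset.sum_congr rfl fun g _ => ?_
          rw [Finset.sum_comm]
          refine Finset.sum_congr rfl fun n _ => Finset.sum_congr rfl fun χ _ => ?_
          rw [hw χ n]; ring
      _ = _ := by
          refine congrArg _ (Finset.sum_congr rfl fun g _ => ?_)
          have hC : ∀ n : N, IsConj ((n : G) * g) g → Nat.card (Subgroup.centralizer ({(n : G) * g} : Set G)) =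
              Nat.card (Subgroup.centralizer ({g} : Set G)) := fun n _ => by
            have : Subgroup.centralizer ({(n : G) * g} : Set G) = Subgroup.centralizer ({g} : Set G) := by
              ext y
              rw [Subgroup.mem_centralizer_singleton_iff, Subgroup.mem_centralizer_singleton_iff,
                ← mul_assoc, Subgroup.mem_center_iff.mp (hN n.2) y, mul_assoc, mul_assoc]
              exact mul_right_inj _
            rw [this]
          let L : Subgroup N :=
            { carrier := {n | IsConj ((n : G) * g) g}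
              one_mem' := isConj_iff.mpr ⟨1, by simp⟩
              mul_mem' := fun {a b} ha hb => by
                obtain ⟨u, hu⟩ := isConj_iff.mp ha
                obtain ⟨v, hv⟩ := isConj_iff.mp hb
                refine isConj_iff.mpr ⟨v * u, ?_⟩
                have hb' := Subgroup.mem_center_iff.mp (hN b.2)
                rw [Subgroup.coe_mul, hb' (a : G)]
                calc v * u * ((b : G) * (a : G) * g) * (v * u)⁻¹
                    = v * ((u * (b : G)) * ((a : G) * g) * u⁻¹) * v⁻¹ := by group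
                  _ = v * (((b : G) * u) * ((a : G) * g) * u⁻¹) * v⁻¹ := by rw [hb' u]
                  _ = v * ((b : G) * (u * ((a : G) * g) * u⁻¹)) * v⁻¹ := by group
                  _ = v * ((b : G) * g) * v⁻¹ := by rw [hu]
                  _ = g := hv
              inv_mem' := fun {a} ha => by
                obtain ⟨u, hu⟩ := isConj_iff.mp ha
                refine isConj_iff.mpr ⟨u⁻¹, ?_⟩
                have ha' := Subgroup.mem_center_iff.mp (Subgroup.inv_mem _ (hN a.2))
                have hu' : u⁻¹ * g * u = (a : G) * g := by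
                  conv_lhs => rw [← hu]
                  group
                rw [InvMemClass.coe_inv]
                calc u⁻¹ * ((a : G)⁻¹ * g) * u⁻¹⁻¹ = (u⁻¹ * (a : G)⁻¹) * g * u := by group
                  _ = ((a : G)⁻¹ * u⁻¹) * g * u := by rw [ha' u⁻¹]
                  _ = (a : G)⁻¹ * (u⁻¹ * g * u) := by group
                  _ = (a : G)⁻¹ * ((a : G) * g) := by rw [hu']
                  _ = g := by group }
          calc _ = ∑ n : N, if n ∈ L then (starRingEnd ℂ) ((lam n : ℂˣ) : ℂ) *
                (Nat.card (Subgroup.centralizer ({g} : Set G)) : ℂ) else 0 := by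
                refine Finset.sum_congr rfl fun n _ => ?_
                rw [CfsgLib.Char.sum_irr_mul_conj]
                by_cases h : IsConj ((n : G) * g) g
                · rw [if_pos h, if_pos (show n ∈ L from h), hC n h]
                · rw [if_neg h, if_neg (show n ∉ L from h), mul_zero]
            _ = _ := by
                by_cases hg : good g
                · rw [if_pos hg]
                  refine (Finset.sum_eq_single_of_mem (1 : N) (Finset.mem_univ _)
                    fun n _ hn => if_neg fun h => hn ((hgood g).mp hg n h)).trans ?_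
                  rw [if_pos (show IsConj (((1 : N) : G) * g) g from isConj_iff.mpr ⟨1, by simp⟩)]
                  simp
                · rw [if_neg hg]
                  rw [hgood] at hg; push Not at hg
                  obtain ⟨m, hm, hm1⟩ := hg
                  set T := ∑ n : N, if n ∈ L then (starRingEnd ℂ) ((lam n : ℂˣ) : ℂ) *
                    (Nat.card (Subgroup.centralizer ({g} : Set G)) : ℂ) else 0 with hT
                  have e : (starRingEnd ℂ) ((lam m : ℂˣ) : ℂ) * T = T := by
                    rw [hT, Finset.mul_sum]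
                    refine Fintype.sum_bijective (fun n => m * n) (Group.mulLeft_bijective m) _ _ fun n => ?_
                    have : m * n ∈ L ↔ n ∈ L := L.mul_mem_cancel_left hm
                    rw [map_mul, Units.val_mul, map_mul]
                    by_cases hn : n ∈ L
                    · rw [if_pos hn, if_pos (this.mpr hn), mul_assoc]
                    · rw [if_neg hn, if_neg (this.not.mpr hn), mul_zero]
                  by_contra hne
                  refine hm1 (hinj m (Units.ext ?_))
                  exact (starRingEnd ℂ).injective (((mul_eq_right₀ hne).mp e).trans (map_one _).symm)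
  -- the classes
  have hclass : ∑ q : G ⧸ N, (if goodQ q then (Nat.card (Subgroup.centralizer ({q} : Set (G ⧸ N))) : ℂ) else 0) =
      (Nat.card {C : ConjClasses (G ⧸ N) // ∃ g : G, ConjClasses.mk (g : G ⧸ N) = C ∧ good g} : ℂ) *
        (Nat.card (G ⧸ N) : ℂ) := by
    have := Fintype.ofFinite (ConjClasses (G ⧸ N))
    rw [Nat.card_eq_fintype_card (α := {C : ConjClasses (G ⧸ N) // _}), Fintype.card_subtype,
      Finset.natCast_card_filter, Finset.sum_mul, ← Finset.sum_fiberwise Finset.univ ConjClasses.mk]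
    refine Finset.sum_congr rfl fun C _ => ?_
    obtain ⟨q₀, rfl⟩ := ConjClasses.exists_rep C
    have hsame : ∀ q, ConjClasses.mk q = ConjClasses.mk q₀ →
        (goodQ q ↔ ∃ g : G, ConjClasses.mk (g : G ⧸ N) = ConjClasses.mk q₀ ∧ good g) := by
      intro q hq
      refine ⟨fun ⟨g, hg, h⟩ => ⟨g, by rw [hg, hq], h⟩, fun ⟨g, hg, h⟩ => ?_⟩
      obtain ⟨b, hb⟩ := isConj_iff.mp (ConjClasses.mk_eq_mk_iff_isConj.mp (hg.trans hq.symm))
      obtain ⟨a, rfl⟩ := QuotientGroup.mk_surjective b
      exact ⟨a * g * a⁻¹, by rw [← hb]; rfl, hgc g a h⟩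
    by_cases h : ∃ g : G, ConjClasses.mk (g : G ⧸ N) = ConjClasses.mk q₀ ∧ good g
    · rw [if_pos h, one_mul, Finset.sum_congr rfl (g := fun _ => (Nat.card (Subgroup.centralizer ({q₀} : Set (G ⧸ N))) : ℂ))
        fun q hq => ?_]
      · rw [Finset.sum_const, nsmul_eq_mul, ← Subgroup.card_mul_index (Subgroup.centralizer ({q₀} : Set (G ⧸ N))),
          Nat.cast_mul, mul_comm]
        congr 2
        rw [← CfsgLib.Char.card_isConj, Nat.card_eq_fintype_card, Fintype.card_subtype]
        congr 1
        ext q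
        simp only [Finset.mem_filter, Finset.mem_univ, true_and, ConjClasses.mk_eq_mk_iff_isConj]
        exact ⟨IsConj.symm, IsConj.symm⟩
      · have hq' := (Finset.mem_filter.mp hq).2
        rw [if_pos ((hsame q hq').mpr h)]
        obtain ⟨b, hb⟩ := isConj_iff.mp (ConjClasses.mk_eq_mk_iff_isConj.mp hq').symm
        have h1 : Nat.card {z // IsConj q z} = Nat.card {z // IsConj q₀ z} :=
          Nat.card_congr (Equiv.subtypeEquivRight fun z =>
            have hc := ConjClasses.mk_eq_mk_iff_isConj.mp hq'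
            ⟨fun e => hc.symm.trans e, fun e => hc.trans e⟩)
        rw [CfsgLib.Char.card_isConj, CfsgLib.Char.card_isConj] at h1
        have e1 := (Subgroup.centralizer ({q} : Set (G ⧸ N))).card_mul_index
        rw [h1, ← (Subgroup.centralizer ({q₀} : Set (G ⧸ N))).card_mul_index] at e1
        rw [Nat.eq_of_mul_eq_mul_right (Nat.pos_of_ne_zero Subgroup.index_ne_zero_of_finite) e1]
    · rw [if_neg h, zero_mul]
      exact Finset.sum_eq_zero fun q hq => if_neg fun e => h ((hsame q (Finset.mem_filter.mp hq).2).mp e)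
  have hlift : ∑ g : G, (if good g then (Nat.card (Subgroup.centralizer ({g} : Set G)) : ℂ) else 0) =
      (Nat.card N : ℂ) * (Nat.card N : ℂ) *
        ∑ q : G ⧸ N, (if goodQ q then (Nat.card (Subgroup.centralizer ({q} : Set (G ⧸ N))) : ℂ) else 0) := by
    rw [Finset.mul_sum, ← Finset.sum_fiberwise Finset.univ (fun g : G => (g : G ⧸ N))]
    refine Finset.sum_congr rfl fun q _ => ?_
    obtain ⟨g₀, rfl⟩ := QuotientGroup.mk_surjective q
    by_cases h : good g₀
    · rw [if_pos ((hgq g₀).mpr h), Finset.sum_congr rfl (g := fun _ =>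
        (Nat.card N : ℂ) * (Nat.card (Subgroup.centralizer ({(g₀ : G ⧸ N)} : Set (G ⧸ N))) : ℂ)) fun g hg => ?_]
      · rw [Finset.sum_const, nsmul_eq_mul, mul_assoc]
        congr 2
        rw [Nat.card_eq_fintype_card, ← Finset.card_univ]
        refine Finset.card_bij' (fun g _ => (⟨g * g₀⁻¹, ?_⟩ : N)) (fun n _ => (n : G) * g₀) (fun _ _ => Finset.mem_univ _)
          (fun n _ => ?_) (fun g _ => by simp) (fun n _ => by simp)
        · have := (Finset.mem_filter.mp ‹g ∈ _›).2
          rw [← QuotientGroup.eq_one_iff, QuotientGroup.mk_mul, QuotientGroup.mk_inv, this, mul_inv_cancel]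
        · simp [(QuotientGroup.eq_one_iff (N := N) (n : G)).mpr n.2]
      · have hg' := (Finset.mem_filter.mp hg).2
        have hgood' : good g := (hgq g).mp (hg'.symm ▸ (hgq g₀).mpr h)
        rw [if_pos hgood', ← hg']
        have hpre : Subgroup.centralizer ({g} : Set G) =
            (Subgroup.centralizer ({(g : G ⧸ N)} : Set (G ⧸ N))).comap (QuotientGroup.mk' N) := by
          ext y
          rw [Subgroup.mem_comap, Subgroup.mem_centralizer_singleton_iff, Subgroup.mem_centralizer_singleton_iff]
          refine ⟨fun e => congrArg (QuotientGroup.mk : G → G ⧸ N) e, fun e => hgood' y ?_⟩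
          rw [← QuotientGroup.eq_one_iff]
          simp only [QuotientGroup.mk_mul, QuotientGroup.mk_inv]
          calc ((y : G ⧸ N))⁻¹ * (g : G ⧸ N)⁻¹ * (y : G ⧸ N) * (g : G ⧸ N)
              = (y : G ⧸ N)⁻¹ * (g : G ⧸ N)⁻¹ * ((y : G ⧸ N) * (g : G ⧸ N)) := by group
            _ = 1 := by rw [show (y : G ⧸ N) * g = g * y from e]; group
        rw [hpre]
        have hc : ∀ S : Subgroup (G ⧸ N), Nat.card (S.comap (QuotientGroup.mk' N)) = Nat.card N * Nat.card S := by
          intro S
          have e1 := (S.comap (QuotientGroup.mk' N)).card_mul_index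
          rw [Subgroup.index_comap_of_surjective S (QuotientGroup.mk'_surjective N),
            Subgroup.card_eq_card_quotient_mul_card_subgroup N, ← S.card_mul_index] at e1
          exact Nat.eq_of_mul_eq_mul_right (Nat.pos_of_ne_zero Subgroup.index_ne_zero_of_finite)
            (e1.trans (by ring))
        rw [hc]; push_cast; rfl
    · rw [if_neg ((hgq g₀).not.mpr h), mul_zero]
      refine Finset.sum_eq_zero fun g hg => if_neg fun e => h ((hgq g₀).mp ?_)
      rw [← (Finset.mem_filter.mp hg).2]
      exact (hgq g).mpr e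
  rw [hlift, hclass] at key
  have hGN := Subgroup.card_eq_card_quotient_mul_card_subgroup N
  have hNpos : (Nat.card N : ℂ) ≠ 0 := Nat.cast_ne_zero.mpr Nat.card_pos.ne'
  have hQpos : (Nat.card (G ⧸ N) : ℂ) ≠ 0 := Nat.cast_ne_zero.mpr Nat.card_pos.ne'
  rw [hGN, Nat.cast_mul] at key
  field_simp at key
  exact_mod_cast key

end Cfsg.Agent.S4567
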