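import Cfsg.Statements.S4571
import Cfsg.Agent.Lib.Block.NormalPQuot

/-!
# Principal block rank modulo a centralized normal `p`-subgroup
-/

set_option autoImplicit false
open Cfsg

namespace Cfsg.Agent.S4571

open CfsgLib CfsgLib.Block CfsgLib.Block.Cyclic

/-- Let Q be a normal p-subgroup of the finite group G with G = Q·C_G(Q), and M a maximal ideal of the algebraic integers containing p. Then the principal p-blocks of G and of G/Q have the same p-regular rank (the same number of irreducible Brauer characters). -/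
theorem result {G : Type*} [Group G] [Finite G] (p : ℕ) [Fact p.Prime] (M : Ideal Cfsg.AlgInt) (hM : Cfsg.IsPModular p M) (Q : Subgroup G) [Q.Normal] (hQ : IsPGroup p Q) (hsup : Q ⊔ Subgroup.centralizer (Q : Set G) = ⊤) : Cfsg.blockRank p (Cfsg.principalBlock M G) = Cfsg.blockRank p (Cfsg.principalBlock M (G ⧸ Q)) := by
  classical
  have := Fintype.ofFinite G
  have := Fintype.ofFinite (G ⧸ Q)
  haveI : M.IsMaximal := hM.2.1
  have hC : NormalPQuot.RegCentral p Q := by
    intro y hy
    obtain ⟨q, hq, c, hc, rfl⟩ : ∃ q ∈ Q, ∃ c ∈ Subgroup.centralizer (Q : Set G), q * c = y := by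
      have h : y ∈ ((Q ⊔ Subgroup.centralizer (Q : Set G) : Subgroup G) : Set G) := hsup ▸ Subgroup.mem_top y
      rw [Subgroup.normal_mul Q (Subgroup.centralizer (Q : Set G))] at h
      exact Set.mem_mul.mp h
    obtain ⟨k, hk⟩ := hQ ⟨q, hq⟩
    have hk' : q ^ p ^ k = 1 := congrArg Subtype.val hk
    have hcomm : Commute q c := Subgroup.mem_centralizer_iff.mp hc q hq
    have hmem : (q * c) ^ p ^ k ∈ Subgroup.centralizer (Q : Set G) := by
      rw [hcomm.mul_pow, hk', one_mul]
      exact Subgroup.pow_mem _ hc _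
    have hcop : (orderOf (q * c)).Coprime (p ^ k) :=
      ((hM.1.coprime_iff_not_dvd.mpr hy).symm).pow_right k
    obtain ⟨m, hm⟩ := exists_pow_eq_self_of_coprime hcop.symm
    rw [← hm]
    exact Subgroup.pow_mem _ hmem _
  rw [NormalPQuot.blockRank_quotSet hM hQ hC isPBlock_principalBlock]
  congr 1
  ext θ
  exact NormalPQuot.sameBlock_inflQ_iff hM hQ hC (oneChar (G ⧸ Q)) θ

end Cfsg.Agent.S4571
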