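import Cfsg.Statements.S4574
import Cfsg.Agent.Lib.Block.Cyclic.PrincipalSq

set_option autoImplicit false
open Cfsg

namespace Cfsg.Agent.S4574

/-- Let χ be an irreducible character of the finite group G, of degree d, and let Z(χ) be the set of elements g with |χ g| = d (the centre of χ). Then χ vanishes on at least (d ^ 2 - 1) · |Z(χ)| elements of G, with equality when every value |χ g| is 0, 1 or d. -/
theorem result {G : Type*} [Group G] [Fintype G] [DecidableEq G] (χ : G → ℂ) (hχ : Cfsg.IsIrrCharacter G χ) : (Cfsg.charDegree χ ^ 2 - 1) * (Finset.univ.filter (fun g : G => ‖χ g‖ = (Cfsg.charDegree χ : ℝ))).card ≤ (Finset.univ.filter (fun g : G => χ g = 0)).card ∧ ((∀ g : G, ‖χ g‖ = 0 ∨ ‖χ g‖ = 1 ∨ ‖χ g‖ = (Cfsg.charDegree χ : ℝ)) → (Cfsg.charDegree χ ^ 2 - 1) * (Finset.univ.filter (fun g : G => ‖χ g‖ = (Cfsg.charDegree χ : ℝ))).card = (Finset.univ.filter (fun g : G => χ g = 0)).card) := by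
  classical
  obtain ⟨d, hd0, hd⟩ := CfsgLib.Char.isIrrCharacter_degree hχ
  have hdd : Cfsg.charDegree χ = d := by
    rw [Cfsg.charDegree, hd, Complex.natCast_re, Nat.floor_natCast]
  rw [hdd]
  set Z := Finset.univ.filter (fun g : G => ‖χ g‖ = (d : ℝ)) with hZ
  set O := Finset.univ.filter (fun g : G => χ g = 0) with hO
  set R := Finset.univ.filter (fun g : G => ¬ χ g = 0 ∧ ¬ ‖χ g‖ = (d : ℝ)) with hR
  have hsplit : ∀ f : G → ℝ, ∑ g : G, f g = ∑ g ∈ O, f g + ∑ g ∈ Z, f g + ∑ g ∈ R, f g := fun f => by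
    rw [hO, hZ, hR, Finset.sum_filter, Finset.sum_filter, Finset.sum_filter, ← Finset.sum_add_distrib,
      ← Finset.sum_add_distrib]
    refine Finset.sum_congr rfl fun g _ => ?_
    by_cases h0 : χ g = 0
    · have : ¬ ‖χ g‖ = (d : ℝ) := by
        rw [h0, norm_zero]; exact_mod_cast hd0.ne
      rw [if_pos h0, if_neg this, if_neg (fun e => e.1 h0)]; simp
    · by_cases hn : ‖χ g‖ = (d : ℝ) <;> simp [h0, hn]
  have hcard : (Nat.card G : ℝ) = O.card + Z.card + R.card := by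
    have h := hsplit fun _ => (1 : ℝ)
    simpa [Nat.card_eq_fintype_card] using h
  have hnorm : ∑ g : G, ‖χ g‖ ^ 2 = (Nat.card G : ℝ) := by
    have h := CfsgLib.Char.classInner_irr_self (⟨χ, hχ⟩ : IrrCharacter G)
    rw [CfsgLib.Char.classInner_self, Complex.ofReal_eq_one,
      inv_mul_eq_one₀ (by exact_mod_cast Nat.card_pos.ne')] at h
    exact h.symm
  have hZs : ∑ g ∈ Z, ‖χ g‖ ^ 2 = (d : ℝ) ^ 2 * Z.card := by
    rw [Finset.sum_congr rfl fun g hg => by rw [(Finset.mem_filter.mp hg).2]]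
    rw [Finset.sum_const, nsmul_eq_mul, mul_comm]
  have hOs : ∑ g ∈ O, ‖χ g‖ ^ 2 = 0 := Finset.sum_eq_zero fun g hg => by
    rw [(Finset.mem_filter.mp hg).2]; simp
  have hRs : ∑ g ∈ R, ‖χ g‖ ^ 2 = (Nat.card G : ℝ) - (d : ℝ) ^ 2 * Z.card := by
    have h := hsplit fun g => ‖χ g‖ ^ 2
    rw [hnorm, hOs, hZs] at h
    linarith
  have hle : (R.card : ℤ) ≤ (Nat.card G : ℤ) - (d : ℤ) ^ 2 * Z.card := by
    have h := CfsgLib.Block.card_le_sum_normSq (Nat.card_pos (α := G)).ne'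
      (fun g : R => ⟨χ g, CfsgLib.Block.Cyclic.char_mem_cycInt (CfsgLib.Char.isCharacter_of_isIrr hχ)
        (pow_card_eq_one' (x := (g : G)))⟩)
      (fun g => (Finset.mem_filter.mp g.2).2.1) (N := (Nat.card G : ℤ) - (d : ℤ) ^ 2 * Z.card) (by
        show ∑ g : R, χ g * (starRingEnd ℂ) (χ g) = _
        rw [Finset.sum_coe_sort R fun g => χ g * (starRingEnd ℂ) (χ g)]
        simp only [Complex.mul_conj', ← Complex.ofReal_pow]
        rw [← Complex.ofReal_sum, hRs]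
        push_cast; ring)
    rwa [Fintype.card_coe] at h
  have hd1 : ((d ^ 2 - 1 : ℕ) : ℝ) = (d : ℝ) ^ 2 - 1 := by
    rw [Nat.cast_sub (Nat.one_le_pow _ _ hd0)]; push_cast; ring
  refine ⟨?_, fun h => ?_⟩
  · have hle' : (R.card : ℝ) ≤ (Nat.card G : ℝ) - (d : ℝ) ^ 2 * Z.card := by exact_mod_cast hle
    have : ((d ^ 2 - 1 : ℕ) : ℝ) * Z.card ≤ O.card := by rw [hd1]; nlinarith
    exact_mod_cast this
  · have hR1 : ∑ g ∈ R, ‖χ g‖ ^ 2 = R.card := by
      rw [Finset.sum_congr rfl (g := fun _ => (1 : ℝ)) fun g hg => ?_]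
      · simp
      obtain ⟨h0, hn⟩ := (Finset.mem_filter.mp hg).2
      rcases h g with e | e | e
      · exact absurd (norm_eq_zero.mp e) h0
      · rw [e, one_pow]
      · exact absurd (hdd ▸ e) hn
    have : ((d ^ 2 - 1 : ℕ) : ℝ) * Z.card = O.card := by rw [hd1]; nlinarith
    exact_mod_cast this

end Cfsg.Agent.S4574
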