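import Cfsg.Statements.S4575
import Cfsg.Agent.Lib.Block.DyadicMajor

/-!
# A major subsection of small corank at the prime two
-/

set_option autoImplicit false
open Cfsg

namespace Cfsg.Agent.S4575

open CfsgLib CfsgLib.Block
open scoped ComplexConjugate Pair

/-- Let B be a 2-block of the finite group G (relative to a maximal ideal M of the algebraic integers containing 2) of defect d with defect group D. Let z be an element of D commuting with every element of D, and let b be a block of the centralizer of z with defect group D that induces B (a major subsection (z, b)). If the number of irreducible characters in B exceeds the 2-regular rank of b by at most three, then B contains at most 2 ^ d irreducible characters. -/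
theorem result {G : Type*} [Group G] [Finite G] (M : Ideal Cfsg.AlgInt) (hM : Cfsg.IsPModular 2 M) (B : Set (Cfsg.IrrCharacter G)) (hB : Cfsg.IsPBlock M B) (D : Subgroup G) (hD : Cfsg.IsDefectGroup 2 M B D) (z : G) (hzD : z ∈ D) (hzc : ∀ d ∈ D, d * z = z * d) (b : Set (Cfsg.IrrCharacter ↥(Subgroup.centralizer ({z} : Set G)))) (hb : Cfsg.IsInducedBlock M (Subgroup.centralizer ({z} : Set G)) b B) (hbD : Cfsg.IsDefectGroup 2 M b (D.subgroupOf (Subgroup.centralizer ({z} : Set G)))) (h : Nat.card B ≤ Cfsg.blockRank 2 b + 3) : Nat.card B ≤ 2 ^ Cfsg.blockDefect 2 B := by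
  classical
  have := hM.2.1
  let _ := Fintype.ofFinite G
  let _ := Fintype.ofFinite (IrrCharacter G)
  let _ := Fintype.ofFinite (IrrCharacter (Subgroup.centralizer ({z} : Set G)))
  have hC : ∀ t : G, t ∈ Subgroup.centralizer ({z} : Set G) ↔ Commute t z := fun t => Subgroup.mem_centralizer_singleton_iff
  have hDC : D ≤ Subgroup.centralizer ({z} : Set G) := fun d hd => (hC d).mpr (hzc d hd)
  have hd := major_defect_eq hM hB hD hDC hb.1 hbD
  obtain ⟨k, hk⟩ := IsPGroup.iff_orderOf.mp (isPGroup_defectGroup hM hB hD) ⟨z, hzD⟩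
  rw [Subgroup.orderOf_mk] at hk
  obtain ⟨A, S, hS0, hSsymm, hA0, hrow, hsum, hodd, hS1, hmaj⟩ := exists_avg_matrix hM hk hC hb
  rw [hd] at hrow hsum
  set q : ℤ := (2 : ℤ) ^ blockDefect 2 B with hq
  obtain ⟨χ₀, hχ₀, h00⟩ := exists_height_zero hM hB
  have hR0 : ∀ χ ∈ B, ∀ ψ ∈ B, blockHeight 2 B (χ : G → ℂ) = 0 →
      (4 : ℤ) ^ blockHeight 2 B (ψ : G → ℂ) ≤ S χ ψ := by
    intro χ hχ ψ hψ h0
    rcases Nat.eq_zero_or_pos (blockHeight 2 B (ψ : G → ℂ)) with h1 | h1
    · rw [h1, pow_zero]; exact hS1 χ hχ ψ hψ h0 h1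
    · rw [hSsymm]; exact (hmaj hd ψ hψ h1).2 χ hχ h0
  set s := Finset.univ.filter (fun χ : IrrCharacter G => χ ∈ B) with hs
  have hmem : ∀ {χ}, χ ∈ s ↔ χ ∈ B := fun {χ} => by simp [hs]
  have hoff : ∀ χ ∈ B, (0 : ℤ) ≤ ∑ ψ ∈ s.erase χ, S χ ψ := fun χ _ =>
    Finset.sum_nonneg fun ψ _ => hS0 χ ψ
  have hle : ∀ χ ∈ B, A χ ≤ q := by
    intro χ hχ
    have h1 := hrow χ hχ
    have h2 := hoff χ hχ
    by_contra hlt
    have : q * A χ < A χ * A χ := mul_lt_mul_of_pos_right (not_le.mp hlt)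
      (lt_of_lt_of_le (by positivity) (not_le.mp hlt).le)
    omega
  have hcard : (Nat.card B : ℤ) = s.card := by
    rw [Nat.card_eq_fintype_card, Fintype.card_subtype]
  have hpos : ∀ χ ∈ B, 0 < blockHeight 2 B (χ : G → ℂ) →
      (4 : ℤ) ^ blockHeight 2 B (χ : G → ℂ) ≤ A χ * (q - A χ) ∧
      blockHeight 2 B (χ : G → ℂ) + 1 ≤ blockDefect 2 B := by
    intro χ hχ h
    have h1 := hrow χ hχ
    have h2 := Finset.single_le_sum (f := fun ψ => S χ ψ) (s := s.erase χ) (fun ψ _ => hS0 χ ψ) (a := χ₀)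
      (Finset.mem_erase.mpr ⟨fun e => by rw [e] at h00; omega, hmem.mpr hχ₀⟩)
    have h3 := (hmaj hd χ hχ h).2 χ₀ hχ₀ h00
    have h4 : (4 : ℤ) ^ blockHeight 2 B (χ : G → ℂ) ≤ A χ * (q - A χ) := by
      rw [mul_sub, mul_comm _ q]
      omega
    refine ⟨h4, ?_⟩
    by_contra hcon
    have h5 : q ≤ (2 : ℤ) ^ blockHeight 2 B (χ : G → ℂ) := pow_le_pow_right₀ (by norm_num) (by omega)
    have h6 : (4 : ℤ) ^ blockHeight 2 B (χ : G → ℂ) =
        2 ^ blockHeight 2 B (χ : G → ℂ) * 2 ^ blockHeight 2 B (χ : G → ℂ) := by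
      rw [← mul_pow]; norm_num
    have h7 : (0 : ℤ) < 2 ^ blockHeight 2 B (χ : G → ℂ) := by positivity
    have h8 : (0 : ℤ) ≤ q := by positivity
    nlinarith [sq_nonneg (q - 2 * A χ)]
  suffices (Nat.card B : ℤ) ≤ q by rw [hq] at this; exact_mod_cast this
  rw [hcard]
  rcases Nat.eq_zero_or_pos (blockDefect 2 B) with hd0 | hdpos
  · have hq1 : q = 1 := by rw [hq, hd0, pow_zero]
    have hall : ∀ χ ∈ s, blockHeight 2 B (χ : G → ℂ) = 0 := fun χ hχ => by
      by_contra h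
      have := (hpos χ (hmem.mp hχ) (Nat.pos_of_ne_zero h)).2
      omega
    have hA1 : A χ₀ = 1 := by
      have := hle χ₀ hχ₀
      have := hodd χ₀ hχ₀ h00
      have := hA0 χ₀
      omega
    have h1 := hrow χ₀ hχ₀
    have h2 : ∑ _ψ ∈ s.erase χ₀, (1 : ℤ) ≤ ∑ ψ ∈ s.erase χ₀, S χ₀ ψ := Finset.sum_le_sum fun ψ hψ =>
      hS1 χ₀ hχ₀ ψ (hmem.mp (Finset.mem_of_mem_erase hψ)) h00 (hall ψ (Finset.mem_of_mem_erase hψ))
    rw [Finset.sum_const, Finset.card_erase_of_mem (hmem.mpr hχ₀), nsmul_eq_mul, mul_one] at h2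
    rw [hA1, hq1] at h1
    omega
  have heven : (2 : ℤ) ∣ q := dvd_pow_self 2 hdpos.ne'
  have hcount := two_major_count (q := q) s (fun χ => blockHeight 2 B (χ : G → ℂ)) (fun χ => q - A χ) S hS0
    (fun i hi => by
      have := hrow i (hmem.mp hi)
      nlinarith)
    (fun i hi h0 => by have := hodd i (hmem.mp hi) h0; omega)
    (fun i hi => sub_nonneg.mpr (hle i (hmem.mp hi)))
    (fun i hi h => by
      obtain ⟨h1, h2⟩ := hpos i (hmem.mp hi) h
      refine ⟨dvd_sub (pow_dvd_pow 2 h2) (hmaj hd i (hmem.mp hi) h).1, fun hz => ?_⟩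
      rw [hz, mul_zero] at h1
      exact absurd h1 (not_le.mpr (by positivity)))
    (fun i hi j hj => hR0 i (hmem.mp hi) j (hmem.mp hj)) (by
      rw [Finset.sum_sub_distrib, hsum, Finset.sum_const, nsmul_eq_mul, ← hcard]
      have : (Nat.card B : ℤ) ≤ (blockRank 2 b : ℤ) + 3 := by exact_mod_cast h
      have : (0 : ℤ) ≤ q := by positivity
      nlinarith)
  linarith [hcount.1, hcount.2]

end Cfsg.Agent.S4575
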