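import Cfsg.Statements.S4582
import Cfsg.Agent.Lib.Char.SylowTwoAbelianization

set_option autoImplicit false
open Cfsg

namespace Cfsg.Agent.S4582

/-- Let N be a normal subgroup of the finite group G, P a Sylow 2-subgroup of G and Q = P ∩ N. Suppose that P/QP' and Q/Q' are elementary abelian (every square of an element of P lies in the subgroup generated by Q and the derived subgroup of P, and every square of an element of Q lies in the derived subgroup of Q), and that the commutator factor group N/N' has odd order. Then P/P' is elementary abelian. -/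
theorem result {G : Type*} [Group G] [Finite G] (N : Subgroup G) [N.Normal] (P : Sylow 2 G)
    (hP : ∀ x ∈ (P : Subgroup G), x ^ 2 ∈ ((P : Subgroup G) ⊓ N) ⊔ ⁅(P : Subgroup G), (P : Subgroup G)⁆)
    (hQ : ∀ x ∈ (P : Subgroup G) ⊓ N, x ^ 2 ∈ ⁅(P : Subgroup G) ⊓ N, (P : Subgroup G) ⊓ N⁆)
    (hodd : Odd (Nat.card (Abelianization N))) :
    ∀ x ∈ (P : Subgroup G), x ^ 2 ∈ ⁅(P : Subgroup G), (P : Subgroup G)⁆ := by
  intro x hx
  let H : Subgroup G := N ⊔ P
  have hNH : N ≤ H := le_sup_left
  have hPH : (P : Subgroup G) ≤ H := le_sup_right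
  let N' := N.subgroupOf H
  let P' := (P : Subgroup G).subgroupOf H
  have hmapN : N'.map H.subtype = N := Subgroup.map_subgroupOf_eq_of_le hNH
  have hmapP : P'.map H.subtype = P := Subgroup.map_subgroupOf_eq_of_le hPH
  have hmapI : (P' ⊓ N').map H.subtype = (P : Subgroup G) ⊓ N := by
    rw [Subgroup.map_inf _ _ _ H.subtype_injective, hmapP, hmapN]
  have htop : N' ⊔ P' = ⊤ := by
    rw [← Subgroup.subgroupOf_sup hNH hPH, Subgroup.subgroupOf_self]
  have hidx : Odd P'.index := by
    have h1 : Odd (P : Subgroup G).index := Nat.not_even_iff_odd.1 fun he =>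
      P.not_dvd_index (even_iff_two_dvd.1 he)
    have h2 := Subgroup.relIndex_mul_index hPH
    rw [← h2] at h1
    exact (Nat.odd_mul.1 h1).1
  have hodd' : Odd (Nat.card (Abelianization N')) := by
    rwa [Nat.card_congr (Subgroup.subgroupOfEquivOfLe hNH).abelianizationCongr.toEquiv]
  have hP' : ∀ y ∈ P', y ^ 2 ∈ (P' ⊓ N') ⊔ ⁅P', P'⁆ := by
    intro y hy
    rw [← Subgroup.mem_map_iff_mem H.subtype_injective, Subgroup.map_sup, hmapI, Subgroup.map_commutator,
      hmapP]
    exact hP _ hy
  have hQ' : ∀ y ∈ P' ⊓ N', y ^ 2 ∈ ⁅P' ⊓ N', P' ⊓ N'⁆ := by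
    intro y hy
    rw [← Subgroup.mem_map_iff_mem H.subtype_injective, Subgroup.map_commutator, hmapI]
    exact hQ _ hy
  have h := CfsgLib.Char.SylowTwoAb.sq_mem_commutator N' P' htop hidx hP' hQ' hodd'
    ⟨⟨x, hPH hx⟩, hx⟩
  have h2 := Subgroup.mem_map_of_mem (H.subtype.comp P'.subtype) h
  rw [← Subgroup.map_map, commutator_def, Subgroup.map_commutator, ← MonoidHom.range_eq_map,
    Subgroup.range_subtype, Subgroup.map_commutator, hmapP] at h2
  exact h2

end Cfsg.Agent.S4582
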