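import Cfsg.Statements.S4583
import Cfsg.Agent.Lib.Block.PrincipalInduce
import Cfsg.Agent.Lib.Block.SourceIdem

/-!
# S4583: a principal block character of p'-degree over an extendible one
-/

set_option autoImplicit false
open Cfsg

namespace Cfsg.Agent.S4583

open CfsgLib CfsgLib.Block

/-- Let N be a normal subgroup of the finite group G, p a prime, M a maximal ideal of the algebraic integers containing p, and P a Sylow p-subgroup of G. Let θ be an irreducible character of N of degree prime to p lying in the principal p-block of N, and suppose θ extends to the subgroup NP (some irreducible character of NP restricts to θ). Then some irreducible character χ of G of degree prime to p in the principal p-block of G lies over θ (θ is a constituent of the restriction of χ to N). -/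
theorem result {G : Type*} [Group G] [Finite G] (N : Subgroup G) [N.Normal] (p : ℕ) [Fact p.Prime] (M : Ideal Cfsg.AlgInt) (hM : Cfsg.IsPModular p M) (P : Sylow p G)
    (θ : Cfsg.IrrCharacter N) (hθ : θ ∈ Cfsg.principalBlock M N) (hdeg : ¬ p ∣ Cfsg.charDegree (θ : N → ℂ))
    (hext : ∃ η : Cfsg.IrrCharacter ↥(N ⊔ (P : Subgroup G)), ∀ n : N, (η : ↥(N ⊔ (P : Subgroup G)) → ℂ) (Subgroup.inclusion le_sup_left n) = (θ : N → ℂ) n) :
    ∃ χ : Cfsg.IrrCharacter G, χ ∈ Cfsg.principalBlock M G ∧ ¬ p ∣ Cfsg.charDegree (χ : G → ℂ) ∧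
      haveI := Fintype.ofFinite N; Cfsg.classInner (fun n : N => (χ : G → ℂ) n) (θ : N → ℂ) ≠ 0 := by
  classical
  have := hM.2.1
  letI := Fintype.ofFinite G
  letI := Fintype.ofFinite N
  set H : Subgroup G := N ⊔ (P : Subgroup G) with hH
  letI := Fintype.ofFinite H
  letI := Fintype.ofFinite (Subgroup.centralizer ((P : Subgroup G) : Set G))
  letI := Fintype.ofFinite (IrrCharacter G)
  letI := Fintype.ofFinite (IrrCharacter H)
  letI := Fintype.ofFinite (IrrCharacter N)
  letI := Fintype.ofFinite (ConjClasses H)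
  letI := Fintype.ofFinite (ConjClasses N)
  obtain ⟨η, hη⟩ := hext
  have hreg : ∀ h : H, ¬ p ∣ orderOf h → (h : G) ∈ N := by
    intro h hr
    obtain ⟨n, hn, u, hu, hnu⟩ := Subgroup.mem_sup_of_normal_left.mp h.2
    obtain ⟨k, hk⟩ := P.isPGroup' ⟨u, hu⟩
    have hk' : u ^ p ^ k = 1 := congrArg Subtype.val hk
    rw [← QuotientGroup.eq_one_iff, ← orderOf_eq_one_iff]
    refine Nat.eq_one_of_dvd_coprimes
      ((((Fact.out : p.Prime).coprime_iff_not_dvd.mpr hr)).pow_left k) ?_
      (Subgroup.orderOf_coe h ▸ orderOf_map_dvd (QuotientGroup.mk' N) (h : G))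
    rw [← hnu, QuotientGroup.mk_mul, (QuotientGroup.eq_one_iff n).mpr hn, one_mul]
    exact orderOf_dvd_of_pow_eq_one (by rw [← QuotientGroup.mk_pow, hk', QuotientGroup.mk_one])
  have h1 : (η : H → ℂ) 1 = (θ : N → ℂ) 1 := by
    have e := hη 1
    rwa [map_one] at e
  have hηB : η ∈ principalBlock M H := by
    obtain ⟨R, hR, hRres⟩ := exists_regN_lift (p := p) (M := M) η (oneChar H)
    obtain ⟨R', hR', hR'res⟩ := exists_regN_lift (p := p) (M := M) θ (oneChar N)
    have hRR : R = R' := by
      refine Subtype.ext (mul_right_cancel₀ (Char.irr_one_ne_zero θ) ?_)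
      rw [hR', ← h1, hR, card_mul_regInner, card_mul_regInner]
      simp only [oneChar, mul_one]
      refine Finset.sum_bij' (fun h hh => (⟨(h : G), hreg h (Finset.mem_filter.mp hh).2⟩ : N))
        (fun n _ => Subgroup.inclusion le_sup_left n) ?_ ?_ ?_ ?_ ?_
      · intro h hh
        refine Finset.mem_filter.mpr ⟨Finset.mem_univ _, ?_⟩
        rw [← Subgroup.orderOf_coe]
        show ¬ p ∣ orderOf (h : G)
        rw [Subgroup.orderOf_coe]
        exact (Finset.mem_filter.mp hh).2
      · intro n hn
        refine Finset.mem_filter.mpr ⟨Finset.mem_univ _, ?_⟩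
        rw [← Subgroup.orderOf_coe, Subgroup.coe_inclusion, Subgroup.orderOf_coe]
        exact (Finset.mem_filter.mp hn).2
      · intro h _
        exact Subtype.ext rfl
      · intro n _
        exact Subtype.ext rfl
      · intro h hh
        exact hη ⟨(h : G), hreg h (Finset.mem_filter.mp hh).2⟩
    rw [mem_principalBlock_iff hM, omegaBar_regBar_eq_regN, ← hRres, hRR, hR'res,
      ← omegaBar_regBar_eq_regN, ← mem_principalBlock_iff hM]
    exact hθ
  have hηdeg : ¬ p ∣ charDegree (η : H → ℂ) := by
    have e : charDegree (η : H → ℂ) = charDegree (θ : N → ℂ) := by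
      exact_mod_cast (charDegree_eq η).1.symm.trans (h1.trans (charDegree_eq θ).1)
    rwa [e]
  obtain ⟨χ, hχ, hχd, hne⟩ :=
    PrincipalInduce.exists_constituent_principal P hM le_sup_right hηB hηdeg
  refine ⟨χ, hχ, hχd, ?_⟩
  choose c hc using fun φ : IrrCharacter H => Char.classInner_char_irr_nat
    (Char.isCharacter_comp (Char.isCharacter_irr φ)
      (Subgroup.inclusion (le_sup_left : N ≤ H))) θ
  have hdec : (fun n : N => (χ : G → ℂ) n) = ∑ φ : IrrCharacter H, (resMult χ φ : ℂ) •
      ((φ : H → ℂ) ∘ ⇑(Subgroup.inclusion (le_sup_left : N ≤ H))) := by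
    funext n
    simp only [Finset.sum_apply, Pi.smul_apply, smul_eq_mul, Function.comp_apply]
    exact res_eq_sum_resMult χ (Subgroup.inclusion (le_sup_left : N ≤ H) n)
  have hη1 : c η = 1 := by
    have e := hc η
    rw [show (fun x => (η : H → ℂ) (Subgroup.inclusion (le_sup_left : N ≤ H) x)) = (θ : N → ℂ) from
      funext hη, Char.classInner_irr_self] at e
    exact_mod_cast e.symm
  have hm : resMult χ η ≠ 0 := by
    intro h0
    rw [classInner_res χ η, h0] at hne
    exact hne Nat.cast_zero
  show classInner (fun n : N => (χ : G → ℂ) n) (θ : N → ℂ) ≠ 0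
  rw [hdec, Char.classInner_sum_left]
  rw [Finset.sum_congr rfl fun φ _ => by
    rw [Char.classInner_smul_left, show classInner ((φ : H → ℂ) ∘ _) (θ : N → ℂ) = _ from hc φ]]
  rw [Finset.sum_congr rfl fun φ _ => (Nat.cast_mul _ _).symm, ← Nat.cast_sum, Nat.cast_ne_zero]
  intro h0
  have := Finset.sum_eq_zero_iff.mp h0 η (Finset.mem_univ _)
  rw [hη1, mul_one] at this
  exact hm this

end Cfsg.Agent.S4583
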