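import Cfsg.Statements.S4585
import Cfsg.Agent.Lib.Block.POrderFour
-- import your own Cfsg.Agent.* helpers here

set_option autoImplicit false
open Cfsg CfsgLib.Block
open scoped commutatorElement

open Cfsg

namespace Cfsg.Agent.S4585

/-- Let p be a prime and P a group of order p^4. Then P' has index p^2 in P if and only if P has maximal nilpotency class, that is, nilpotency class exactly 3. -/
theorem result {P : Type*} [Group P] [Finite P] (p : ℕ) [Fact p.Prime] (hP : Nat.card P = p ^ 4) :
    (commutator P).index = p ^ 2 ↔ Group.nilpotencyClass P = 3 := by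
  classical
  have hp : p.Prime := Fact.out
  have hPP : IsPGroup p P := IsPGroup.of_card hP
  have hnil := hPP.isNilpotent
  set Z := Subgroup.center P with hZ
  -- class at most two means that the derived group is central
  have h2 : Group.nilpotencyClass P ≤ 2 ↔ commutator P ≤ Z := by
    have h1 := nilpotencyClass_quotient_center (G := P)
    rw [show Group.nilpotencyClass P ≤ 2 ↔ Group.nilpotencyClass (P ⧸ Z) ≤ 1 by rw [h1]; omega,
      Group.IsNilpotent.nilpotencyClass_le_one_iff]
    constructor
    · intro h
      rw [commutator_def, Subgroup.commutator_le]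
      intro a _ b _
      rw [← QuotientGroup.eq_one_iff, ← QuotientGroup.mk'_apply, map_commutatorElement,
        commutatorElement_eq_one_iff_mul_comm]
      exact mul_comm' _ _
    · intro h
      refine ⟨⟨fun a b => ?_⟩⟩
      obtain ⟨a, rfl⟩ := QuotientGroup.mk'_surjective Z a
      obtain ⟨b, rfl⟩ := QuotientGroup.mk'_surjective Z b
      rw [← commutatorElement_eq_one_iff_mul_comm, ← map_commutatorElement, QuotientGroup.mk'_apply,
        QuotientGroup.eq_one_iff]
      exact h (Subgroup.commutator_mem_commutator (Subgroup.mem_top a) (Subgroup.mem_top b))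
  -- a group of order at most `p ^ 4` has class at most three
  have h3 : Group.nilpotencyClass P ≤ 3 := by
    have : Nontrivial P := by
      rw [← Finite.one_lt_card_iff_nontrivial, hP]; exact one_lt_pow₀ hp.one_lt (by norm_num)
    have := hPP.center_nontrivial
    set Q := P ⧸ Z
    have hQnil : Group.IsNilpotent Q := (hPP.to_quotient Z).isNilpotent
    have hc1 : Group.nilpotencyClass Q = Group.nilpotencyClass P - 1 := Group.nilpotencyClass_quotient_center
    have hc2 := nilpotencyClass_quotient_center (G := Q)
    have hQ : Nat.card Q ∣ p ^ 3 := by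
      have e := Subgroup.card_eq_card_quotient_mul_card_subgroup Z
      obtain ⟨k, hk⟩ := IsPGroup.iff_card.mp (hPP.to_subgroup Z)
      have hk1 : k ≠ 0 := fun h => (not_subsingleton Z) (Nat.card_eq_one_iff_unique.mp (by rw [hk, h, pow_zero])).1
      rw [hP, hk, show k = (k - 1) + 1 by omega, pow_succ p 3, pow_succ p (k - 1), ← mul_assoc] at e
      exact ⟨p ^ (k - 1), Nat.eq_of_mul_eq_mul_right hp.pos e⟩
    by_cases hQt : Nontrivial Q
    · have := (hPP.to_quotient Z).center_nontrivial
      have hQQ : Nat.card (Q ⧸ Subgroup.center Q) ∣ p ^ 2 := by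
        have e := Subgroup.card_eq_card_quotient_mul_card_subgroup (Subgroup.center Q)
        obtain ⟨k, hk⟩ := IsPGroup.iff_card.mp ((hPP.to_quotient Z).to_subgroup (Subgroup.center Q))
        have hk1 : k ≠ 0 := fun h => (not_subsingleton (Subgroup.center Q)) (Nat.card_eq_one_iff_unique.mp (by rw [hk, h, pow_zero])).1
        rw [e, hk, show k = (k - 1) + 1 by omega, pow_succ p (k - 1), pow_succ p 2, ← mul_assoc] at hQ
        exact dvd_trans (dvd_mul_right _ _) (Nat.dvd_of_mul_dvd_mul_right hp.pos hQ)
      obtain ⟨k, hk, hk'⟩ := (Nat.dvd_prime_pow hp).mp hQQ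
      have hcomm : IsMulCommutative (Q ⧸ Subgroup.center Q) := by
        interval_cases k
        · have : Subsingleton (Q ⧸ Subgroup.center Q) := (Nat.card_eq_one_iff_unique.mp (by simpa using hk')).1
          exact ⟨⟨fun a b => Subsingleton.elim _ _⟩⟩
        · have := isCyclic_of_prime_card (α := Q ⧸ Subgroup.center Q) (p := p) (by simpa using hk')
          infer_instance
        · exact ⟨⟨fun a b => by letI := IsPGroup.commGroupOfCardEqPrimeSq hk'; exact mul_comm a b⟩⟩
      have hQQnil : Group.IsNilpotent (Q ⧸ Subgroup.center Q) :=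
        ((hPP.to_quotient Z).to_quotient _).isNilpotent
      have := Group.IsNilpotent.nilpotencyClass_le_one_iff.mpr hcomm
      omega
    · have : Subsingleton Q := not_nontrivial_iff_subsingleton.mp hQt
      have : Group.nilpotencyClass Q = 0 := nilpotencyClass_zero_iff_subsingleton.mpr this
      omega
  have hidx := (commutator P).index_mul_card
  rw [hP] at hidx
  have hcases := commutator_eq_bot_or_index hPP
  constructor
  · intro h
    have hc : Nat.card (commutator P) = p ^ 2 := by
      rw [h, show (4 : ℕ) = 2 + 2 from rfl, pow_add] at hidx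
      exact Nat.eq_of_mul_eq_mul_left (pow_pos hp.pos 2) hidx
    have hnot : ¬ commutator P ≤ Z := by
      intro hle
      have hnc : commutator P ≠ ⊥ := fun hb => (one_lt_pow₀ hp.one_lt two_ne_zero).ne'
        (by rw [← hc, hb, Subgroup.card_bot])
      have hZi : Z.index ∣ p ^ 2 := h ▸ Subgroup.index_dvd_of_le hle
      obtain ⟨k, hk, hk'⟩ := (Nat.dvd_prime_pow hp).mp hZi
      interval_cases k
      · refine hnc ?_
        rw [pow_zero, Subgroup.index_eq_one] at hk'
        rw [commutator_def, Subgroup.commutator_eq_bot_iff_le_centralizer]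
        intro a _ b _
        have ha : a ∈ Z := by rw [hk']; exact Subgroup.mem_top a
        exact Subgroup.mem_center_iff.mp ha b
      · exact center_index_ne_prime hnc (by rw [hk', pow_one])
      · rw [card_commutator_of_center_index hk'] at hc
        exact (lt_self_pow₀ hp.one_lt one_lt_two).ne hc
    have := mt h2.mp hnot
    omega
  · intro h
    have hnot : ¬ commutator P ≤ Z := fun hle => by have := h2.mpr hle; omega
    rcases hcases with hb | hb
    · exact absurd (hb ▸ bot_le) hnot
    obtain ⟨k, hk, hk'⟩ := (Nat.dvd_prime_pow hp).mp (hP ▸ Subgroup.index_dvd_card (commutator P))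
    have hk2 : 2 ≤ k := (Nat.pow_dvd_pow_iff_le_right hp.one_lt).mp (hk' ▸ hb)
    rw [hk', show (4 : ℕ) = k + (4 - k) by omega, pow_add] at hidx
    have hcard := Nat.eq_of_mul_eq_mul_left (pow_pos hp.pos k) hidx
    have hk3 : k ≠ 3 := fun h3' => hnot (by
      rw [h3', show (4 : ℕ) - 3 = 1 from rfl, pow_one] at hcard
      have hz := center_index_of_card_commutator hP hcard
      rw [commutator_def, Subgroup.commutator_le]
      intro a _ b _
      rw [← QuotientGroup.eq_one_iff, ← QuotientGroup.mk'_apply, map_commutatorElement,
        commutatorElement_eq_one_iff_mul_comm]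
      letI := IsPGroup.commGroupOfCardEqPrimeSq (G := P ⧸ Z) (p := p) (by rw [← Subgroup.index_eq_card]; exact hz)
      exact mul_comm _ _)
    have hk4 : k ≠ 4 := fun h4' => hnot (by
      rw [h4', Nat.sub_self, pow_zero, Subgroup.card_eq_one] at hcard
      exact hcard ▸ bot_le)
    rw [hk', show k = 2 by omega]

end Cfsg.Agent.S4585
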