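import Cfsg.Statements.S4586
import Cfsg.Agent.Lib.Block.POrderFour
-- import your own Cfsg.Agent.* helpers here

set_option autoImplicit false
open Cfsg CfsgLib.Block
open scoped commutatorElement


open Cfsg

namespace Cfsg.Agent.S4586

/-- Let p be a prime, P a finite p-group and N a normal subgroup of P of index p. For x ∈ P write c(x) for the number of elements n of N whose commutator x n x⁻¹ n⁻¹ lies in the derived subgroup N' (so c(x)/#N' is the order of the centralizer of x acting on N/N'). Then [P : P'] = p² if and only if c(x) = p·#N' for every x ∈ P outside N, and also if and only if c(x) = p·#N' for some x ∈ P outside N. -/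
theorem result {P : Type*} [Group P] [Finite P] (p : ℕ) [Fact p.Prime] (hP : IsPGroup p P) (N : Subgroup P) [N.Normal] (hN : N.index = p) :
    ((commutator P).index = p ^ 2 ↔ ∀ x : P, x ∉ N →
        Nat.card {n : N // x * n * x⁻¹ * (n : P)⁻¹ ∈ (commutator N).map N.subtype} = p * Nat.card (commutator N)) ∧
    ((commutator P).index = p ^ 2 ↔ ∃ x : P, x ∉ N ∧
        Nat.card {n : N // x * n * x⁻¹ * (n : P)⁻¹ ∈ (commutator N).map N.subtype} = p * Nat.card (commutator N)) := by
  classical
  have hp : p.Prime := Fact.out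
  set N' : Subgroup P := (commutator N).map N.subtype with hN'
  have hchar : (commutator N).Characteristic := inferInstance
  have hN'n : N'.Normal := ConjAct.normal_of_characteristic_of_normal
  suffices key : ∀ x : P, x ∉ N →
      (commutator P).index * Nat.card (commutator N) =
        p * Nat.card {n : N // x * n * x⁻¹ * (n : P)⁻¹ ∈ (commutator N).map N.subtype} by
    have hp0 := hp.pos
    have hcpos : 0 < Nat.card (commutator N) := Nat.card_pos
    have hiff : ∀ x : P, x ∉ N → ((commutator P).index = p ^ 2 ↔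
        Nat.card {n : N // x * n * x⁻¹ * (n : P)⁻¹ ∈ (commutator N).map N.subtype} =
          p * Nat.card (commutator N)) := by
      intro x hx
      have := key x hx
      constructor
      · intro h
        rw [h, sq, mul_assoc] at this
        exact (Nat.eq_of_mul_eq_mul_left hp0 this).symm
      · intro h
        rw [h, ← mul_assoc, ← sq] at this
        exact Nat.eq_of_mul_eq_mul_right hcpos this
    refine ⟨⟨fun h x hx => (hiff x hx).mp h, fun h => ?_⟩, ⟨fun h => ?_, fun ⟨x, hx, h⟩ => (hiff x hx).mpr h⟩⟩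
    · obtain ⟨x, hx⟩ : ∃ x : P, x ∉ N := by
        by_contra hno; push Not at hno
        rw [Subgroup.eq_top_iff' N |>.mpr hno, Subgroup.index_top] at hN
        exact hp.ne_one hN.symm
      exact (hiff x hx).mpr (h x hx)
    · obtain ⟨x, hx⟩ : ∃ x : P, x ∉ N := by
        by_contra hno; push Not at hno
        rw [Subgroup.eq_top_iff' N |>.mpr hno, Subgroup.index_top] at hN
        exact hp.ne_one hN.symm
      exact ⟨x, hx, (hiff x hx).mp h⟩
  intro x hx
  have hN'le : N' ≤ N := by rw [hN']; exact Subgroup.map_subtype_le _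
  have hNcomm : ∀ a b : P, a ∈ N → b ∈ N → (a : P ⧸ N') * b = b * a := by
    intro a b ha hb
    rw [← commutatorElement_eq_one_iff_mul_comm, ← QuotientGroup.mk'_apply, ← QuotientGroup.mk'_apply,
      ← map_commutatorElement, QuotientGroup.mk'_apply, QuotientGroup.eq_one_iff]
    exact ⟨⁅(⟨a, ha⟩ : N), ⟨b, hb⟩⁆, Subgroup.commutator_mem_commutator (Subgroup.mem_top _) (Subgroup.mem_top _),
      map_commutatorElement N.subtype _ _⟩
  have hxN : ∀ n : N, x * n * x⁻¹ * (n : P)⁻¹ ∈ N := fun n =>
    mul_mem (Subgroup.Normal.conj_mem inferInstance _ n.2 x) (inv_mem n.2)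
  let φ : N →* P ⧸ N' :=
    { toFun := fun n => ((x * n * x⁻¹ * (n : P)⁻¹ : P) : P ⧸ N')
      map_one' := by simp
      map_mul' := fun a b => by
        have e : x * ((a * b : N) : P) * x⁻¹ * ((a * b : N) : P)⁻¹ =
            (x * a * x⁻¹ * (a : P)⁻¹) * ((a : P) * (x * b * x⁻¹ * (b : P)⁻¹) * (a : P)⁻¹) := by
          rw [Subgroup.coe_mul]; group
        rw [e, QuotientGroup.mk_mul]
        congr 1
        rw [QuotientGroup.mk_mul, QuotientGroup.mk_mul, hNcomm _ _ a.2 (hxN b), mul_assoc,
          ← QuotientGroup.mk_mul, mul_inv_cancel, QuotientGroup.mk_one, mul_one] }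
  set R := φ.range.comap (QuotientGroup.mk' N') with hR
  have hN'R : N' ≤ R := fun z hz => ⟨1, by rw [map_one, QuotientGroup.mk'_apply, (QuotientGroup.eq_one_iff z).mpr hz]⟩
  have hRmem : ∀ n : N, x * n * x⁻¹ * (n : P)⁻¹ ∈ R := fun n => ⟨n, rfl⟩
  have hRN : R ≤ N := by
    rintro z ⟨n, hn⟩
    change ((x * n * x⁻¹ * (n : P)⁻¹ : P) : P ⧸ N') = (z : P ⧸ N') at hn
    rw [QuotientGroup.eq] at hn
    have := mul_mem (hxN n) (hN'le hn)
    rwa [mul_inv_cancel_left] at this
  have htop : Subgroup.zpowers x ⊔ N = ⊤ := by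
    have h1 := Subgroup.relIndex_mul_index (le_sup_right : N ≤ Subgroup.zpowers x ⊔ N)
    rw [hN] at h1
    rcases (Nat.dvd_prime hp).mp (h1 ▸ dvd_mul_left _ _ : (Subgroup.zpowers x ⊔ N).index ∣ p) with h | h
    · exact Subgroup.index_eq_one.mp h
    · exfalso
      rw [h, mul_eq_right₀ hp.ne_zero, Subgroup.relIndex_eq_one] at h1
      exact hx (h1 (Subgroup.mem_sup_left (Subgroup.mem_zpowers x)))
  have hRn : R.Normal := by
    rw [← Subgroup.normalizer_eq_top_iff, eq_top_iff, ← htop, sup_le_iff, Subgroup.zpowers_le]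
    refine ⟨Subgroup.mem_normalizer_iff_map_conj_eq.mpr (Subgroup.eq_of_le_of_card_ge ?_
      (le_of_eq (Subgroup.card_map_of_injective (MulAut.conj x).injective).symm)), fun n hn => ?_⟩
    · rintro _ ⟨z, ⟨m, hm⟩, rfl⟩
      refine ⟨⟨x * m * x⁻¹, Subgroup.Normal.conj_mem inferInstance _ m.2 x⟩, ?_⟩
      change ((x * (x * m * x⁻¹) * x⁻¹ * (x * m * x⁻¹ : P)⁻¹ : P) : P ⧸ N') = ((x * z * x⁻¹ : P) : P ⧸ N')
      rw [show ((x * z * x⁻¹ : P) : P ⧸ N') =
          (x : P ⧸ N') * ((x * m * x⁻¹ * (m : P)⁻¹ : P) : P ⧸ N') * (x : P ⧸ N')⁻¹ by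
        rw [show ((x * m * x⁻¹ * (m : P)⁻¹ : P) : P ⧸ N') = (z : P ⧸ N') from hm]; rfl,
        ← QuotientGroup.mk_inv, ← QuotientGroup.mk_mul, ← QuotientGroup.mk_mul]
      congr 1
      group
    · refine Subgroup.mem_normalizer_iff.mpr fun z => ?_
      have hfix : ∀ (n : P), n ∈ N → ∀ z : P, z ∈ R → n * z * n⁻¹ ∈ R := by
        intro n hn z hz
        have hq : ((n * z * n⁻¹ : P) : P ⧸ N') = (z : P ⧸ N') := by
          rw [QuotientGroup.mk_mul, QuotientGroup.mk_mul, hNcomm _ _ hn (hRN hz), mul_assoc,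
            ← QuotientGroup.mk_mul, mul_inv_cancel, QuotientGroup.mk_one, mul_one]
        show ((n * z * n⁻¹ : P) : P ⧸ N') ∈ φ.range
        rw [hq]; exact hz
      exact ⟨hfix n hn z, fun h => by simpa [mul_assoc] using hfix n⁻¹ (inv_mem hn) _ h⟩
  have hcomm : commutator P = R := by
    refine le_antisymm ?_ ?_
    · rw [commutator_def, Subgroup.commutator_le]
      intro a _ b _
      rw [← QuotientGroup.eq_one_iff, ← QuotientGroup.mk'_apply, map_commutatorElement,
        commutatorElement_eq_one_iff_mul_comm]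
      have hcent : ∀ n ∈ N, Commute ((QuotientGroup.mk' R) x) (QuotientGroup.mk' R n) := fun n hn => by
        rw [← commutatorElement_eq_one_iff_commute, ← map_commutatorElement, QuotientGroup.mk'_apply,
          QuotientGroup.eq_one_iff]
        exact hRmem ⟨n, hn⟩
      have hNN : ∀ n ∈ N, ∀ m ∈ N, Commute (QuotientGroup.mk' R n) (QuotientGroup.mk' R m) := fun n hn m hm => by
        rw [← commutatorElement_eq_one_iff_commute, ← map_commutatorElement, QuotientGroup.mk'_apply,
          QuotientGroup.eq_one_iff]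
        exact hN'R ⟨⁅(⟨n, hn⟩ : N), ⟨m, hm⟩⁆, Subgroup.commutator_mem_commutator (Subgroup.mem_top _) (Subgroup.mem_top _),
          map_commutatorElement N.subtype _ _⟩
      have hrep : ∀ g : P, ∃ (i : ℤ), ∃ n ∈ N, g = x ^ i * n := fun g => by
        obtain ⟨u, hu, n, hn, rfl⟩ := Subgroup.mem_sup_of_normal_right.mp (htop ▸ Subgroup.mem_top g)
        obtain ⟨i, rfl⟩ := Subgroup.mem_zpowers_iff.mp hu
        exact ⟨i, n, hn, rfl⟩
      obtain ⟨i, n, hn, rfl⟩ := hrep a
      obtain ⟨j, m, hm, rfl⟩ := hrep b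
      simp only [map_mul, map_zpow]
      exact (((Commute.zpow_zpow (Commute.refl _) i j).mul_right ((hcent m hm).zpow_left i)).mul_left
        (((hcent n hn).zpow_left j).symm.mul_right (hNN n hn m hm))).eq
    · rintro z ⟨n, hn⟩
      change ((x * n * x⁻¹ * (n : P)⁻¹ : P) : P ⧸ N') = (z : P ⧸ N') at hn
      rw [QuotientGroup.eq] at hn
      have h1 : x * n * x⁻¹ * (n : P)⁻¹ ∈ commutator P := by
        have : ⁅x, (n : P)⁆ ∈ commutator P := Subgroup.commutator_mem_commutator (Subgroup.mem_top x) (Subgroup.mem_top _)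
        exact this
      have h2 : N' ≤ commutator P := by
        rw [hN', commutator_def, Subgroup.map_commutator, commutator_def]
        exact Subgroup.commutator_mono le_top le_top
      have := mul_mem h1 (h2 hn)
      rwa [mul_inv_cancel_left] at this
  have hker : Nat.card {n : N // x * n * x⁻¹ * (n : P)⁻¹ ∈ N'} = Nat.card φ.ker :=
    Nat.card_congr (Equiv.subtypeEquivRight fun n => (QuotientGroup.eq_one_iff _).symm)
  rw [hker, hcomm]
  have hidx : R.index = φ.range.index := Subgroup.index_comap_of_surjective _ (QuotientGroup.mk'_surjective N')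
  rw [hidx]
  have e1 := φ.range.index_mul_card
  have e2 := Subgroup.card_eq_card_quotient_mul_card_subgroup φ.ker
  rw [Nat.card_congr (QuotientGroup.quotientKerEquivRange φ).toEquiv] at e2
  have e3 := Subgroup.card_eq_card_quotient_mul_card_subgroup N'
  have e4 : Nat.card N' = Nat.card (commutator N) := Subgroup.card_map_of_injective N.subtype_injective
  have e5 := N.index_mul_card
  rw [hN] at e5
  have hpos : 0 < Nat.card φ.range := Nat.card_pos
  apply Nat.eq_of_mul_eq_mul_left hpos
  calc Nat.card φ.range * (φ.range.index * Nat.card (commutator N))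
      = Nat.card (P ⧸ N') * Nat.card N' := by rw [← e1, e4]; ring
    _ = p * (Nat.card φ.range * Nat.card φ.ker) := by rw [← e3, ← e5, e2]
    _ = _ := by ring

end Cfsg.Agent.S4586
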