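import Cfsg.Statements.S4587
import Cfsg.Agent.Lib.PGroup.Basic
import Cfsg.Agent.Lib.Coprime.PGroupFrattini
import Cfsg.Agent.Lib.Fusion.Tate

set_option autoImplicit false
open Cfsg

namespace Cfsg.Agent.S4587

open scoped commutatorElement

section PGroup

variable {Q : Type*} [Group Q] [Finite Q] {p : ℕ} [Fact p.Prime]

/-- In a `p`-group a commutator index at most `p` forces a commutative group. -/
theorem comm_of_index_le (hQ : IsPGroup p Q) (h : (commutator Q).index ≤ p) :
    ∀ a b : Q, a * b = b * a := by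
  have hp := (Fact.out : p.Prime)
  obtain ⟨y, hy⟩ : ∃ y : Q, Subgroup.zpowers y ⊔ commutator Q = ⊤ := by
    by_cases htop : commutator Q = ⊤
    · exact ⟨1, by rw [htop, sup_top_eq]⟩
    · obtain ⟨y, hy⟩ : ∃ y : Q, y ∉ commutator Q := by
        by_contra hc
        push Not at hc
        exact htop ((Subgroup.eq_top_iff' _).2 hc)
      refine ⟨y, ?_⟩
      obtain ⟨j, hj⟩ := hQ.index (commutator Q)
      have hj1 : j ≤ 1 := by
        by_contra hj2
        have h2 : p ^ 2 ≤ p ^ j := Nat.pow_le_pow_right hp.pos (by omega)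
        have h3 := hj ▸ h
        nlinarith [hp.two_le]
      rw [← Subgroup.index_eq_one]
      have hdvd := Subgroup.index_dvd_of_le (le_sup_right : commutator Q ≤ Subgroup.zpowers y ⊔ commutator Q)
      have hne : (Subgroup.zpowers y ⊔ commutator Q).index ≠ (commutator Q).index := by
        intro he
        have h4 := Subgroup.relIndex_mul_index
          (le_sup_right : commutator Q ≤ Subgroup.zpowers y ⊔ commutator Q)
        rw [he] at h4
        have h5 : (commutator Q).relIndex (Subgroup.zpowers y ⊔ commutator Q) = 1 := by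
          have hpos : 0 < (commutator Q).index := Nat.pos_of_ne_zero Subgroup.index_ne_zero_of_finite
          nlinarith
        exact hy (Subgroup.relIndex_eq_one.1 h5
          (Subgroup.mem_sup_left (Subgroup.mem_zpowers y)))
      rw [hj] at hdvd hne
      interval_cases j
      · simpa using hdvd
      · rcases (Nat.dvd_prime hp).1 (by simpa using hdvd) with h6 | h6
        · exact h6
        · exact absurd (by simpa using h6) hne
  have htop : Subgroup.zpowers y = ⊤ := by
    apply frattini_nongenerating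
    rw [eq_top_iff, ← hy]
    exact sup_le_sup_left (CfsgLib.Coprime.commutator_le_frattini hQ) _
  intro a b
  obtain ⟨i, rfl⟩ := Subgroup.mem_zpowers_iff.1 (htop ▸ Subgroup.mem_top a)
  obtain ⟨k, rfl⟩ := Subgroup.mem_zpowers_iff.1 (htop ▸ Subgroup.mem_top b)
  exact ((Commute.refl y).zpow_zpow i k).eq

theorem sq_le_index (hQ : IsPGroup p Q) (hbig : p ^ 2 ≤ Nat.card Q) :
    p ^ 2 ≤ (commutator Q).index := by
  by_contra hlt
  have hp := (Fact.out : p.Prime)
  obtain ⟨j, hj⟩ := hQ.index (commutator Q)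
  have hj1 : j ≤ 1 := by
    by_contra h2
    exact hlt (hj ▸ Nat.pow_le_pow_right hp.pos (by omega))
  have hle : (commutator Q).index ≤ p := by
    rw [hj]
    exact (Nat.pow_le_pow_right hp.pos hj1).trans (pow_one p).le
  have hc := comm_of_index_le hQ hle
  have hbot : commutator Q = ⊥ := by
    rw [commutator_def, Subgroup.commutator_eq_bot_iff_le_centralizer]
    intro a _
    exact Subgroup.mem_centralizer_iff.2 fun b _ => hc b a
  rw [hbot, Subgroup.index_bot] at hlt
  exact hlt hbig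

omit [Fact p.Prime] in
/-- The class of an element lies in a coset of the commutator subgroup. -/
theorem index_le_card_centralizer (x : Q) :
    (commutator Q).index ≤ Nat.card (Subgroup.centralizer ({x} : Set Q)) := by
  set C := Subgroup.centralizer ({x} : Set Q)
  have hle : C.index ≤ Nat.card (commutator Q) := by
    rw [Subgroup.index_eq_card]
    have hwd : ∀ g h : Q, QuotientGroup.leftRel C g h →
        (⟨g * x * g⁻¹ * x⁻¹, Subgroup.commutator_mem_commutator (Subgroup.mem_top g)
          (Subgroup.mem_top x)⟩ : commutator Q) =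
        ⟨h * x * h⁻¹ * x⁻¹, Subgroup.commutator_mem_commutator (Subgroup.mem_top h)
          (Subgroup.mem_top x)⟩ := by
      intro g h hgh
      rw [QuotientGroup.leftRel_apply, Subgroup.mem_centralizer_singleton_iff] at hgh
      refine Subtype.ext ?_
      show g * x * g⁻¹ * x⁻¹ = h * x * h⁻¹ * x⁻¹
      have e : g * (g⁻¹ * h * x) * h⁻¹ = g * (x * (g⁻¹ * h)) * h⁻¹ := by rw [hgh]
      have e1 : g * (g⁻¹ * h * x) * h⁻¹ = h * x * h⁻¹ := by group
      have e2 : g * (x * (g⁻¹ * h)) * h⁻¹ = g * x * g⁻¹ := by group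
      rw [e1, e2] at e
      rw [e]
    refine Nat.card_le_card_of_injective (Quotient.lift (fun g => (⟨g * x * g⁻¹ * x⁻¹,
      Subgroup.commutator_mem_commutator (Subgroup.mem_top g)
          (Subgroup.mem_top x)⟩ : commutator Q)) hwd) ?_
    rintro a b hab
    induction a using Quotient.inductionOn with
    | _ g =>
    induction b using Quotient.inductionOn with
    | _ h =>
    have h1 : g * x * g⁻¹ * x⁻¹ = h * x * h⁻¹ * x⁻¹ := congrArg Subtype.val hab
    refine Quotient.sound ?_
    show QuotientGroup.leftRel C g h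
    rw [QuotientGroup.leftRel_apply, Subgroup.mem_centralizer_singleton_iff]
    have h2 := mul_right_cancel h1
    calc g⁻¹ * h * x = g⁻¹ * (h * x * h⁻¹) * h := by group
      _ = g⁻¹ * (g * x * g⁻¹) * h := by rw [h2]
      _ = x * (g⁻¹ * h) := by group
  have h3 := Subgroup.card_mul_index (commutator Q)
  have h4 := Subgroup.card_mul_index C
  have hpos : 0 < Nat.card (commutator Q) := Nat.card_pos
  nlinarith

end PGroup

section Gen

variable {Q : Type*} [Group Q]

/-- A group generated by an abelian-modulo-`K` normal subgroup and one element. -/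
theorem commutator_le_of_gen (A K : Subgroup Q) [A.Normal] (y : Q)
    (hgen : A ⊔ Subgroup.zpowers y = ⊤) (hKA : K ≤ A)
    (hKn : ∀ a ∈ A, ∀ k ∈ K, a * k * a⁻¹ ∈ K) (hKy : ∀ k ∈ K, y * k * y⁻¹ ∈ K ∧ y⁻¹ * k * y ∈ K)
    (hAA : ∀ a ∈ A, ∀ b ∈ A, a * b * a⁻¹ * b⁻¹ ∈ K)
    (hAy : ∀ a ∈ A, y * a * y⁻¹ * a⁻¹ ∈ K) : commutator Q ≤ K := by
  haveI hn : K.Normal := by
    refine Subgroup.normalizer_eq_top_iff.1 ?_
    rw [eq_top_iff, ← hgen, sup_le_iff, Subgroup.zpowers_le]
    refine ⟨fun a ha => Subgroup.mem_normalizer_iff.2 fun k => ?_,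
      Subgroup.mem_normalizer_iff.2 fun k => ?_⟩
    · refine ⟨fun hk => hKn a ha k hk, fun hk => ?_⟩
      simpa [mul_assoc] using hKn a⁻¹ (inv_mem ha) _ hk
    · refine ⟨fun hk => (hKy k hk).1, fun hk => ?_⟩
      simpa [mul_assoc] using (hKy _ hk).2
  have hcomm : ∀ u v : Q, (QuotientGroup.mk' K u) * QuotientGroup.mk' K v =
      QuotientGroup.mk' K v * QuotientGroup.mk' K u := by
    have hkey : ∀ u v : Q, u * v * u⁻¹ * v⁻¹ ∈ K → Commute (QuotientGroup.mk' K u) (QuotientGroup.mk' K v) := by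
      intro u v h
      show _ = _
      have h1 : QuotientGroup.mk' K (u * v * u⁻¹ * v⁻¹) = 1 := (QuotientGroup.eq_one_iff _).2 h
      rw [map_mul, map_mul, map_mul, map_inv, map_inv, mul_inv_eq_one, mul_inv_eq_iff_eq_mul] at h1
      exact h1
    intro u v
    obtain ⟨a, ha, c, hc, rfl⟩ :=
      Subgroup.mem_sup_of_normal_left.1 (hgen ▸ Subgroup.mem_top u)
    obtain ⟨b, hb, d, hd, rfl⟩ :=
      Subgroup.mem_sup_of_normal_left.1 (hgen ▸ Subgroup.mem_top v)
    obtain ⟨i, rfl⟩ := Subgroup.mem_zpowers_iff.1 hc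
    obtain ⟨j, rfl⟩ := Subgroup.mem_zpowers_iff.1 hd
    have hab := hkey a b (hAA a ha b hb)
    have hya := (hkey y a (hAy a ha)).zpow_left j
    have hyb := (hkey y b (hAy b hb)).zpow_left i
    rw [map_mul, map_mul, map_zpow, map_zpow]
    exact ((hab.mul_right hya.symm).mul_left
      (hyb.mul_right ((Commute.refl _).zpow_zpow i j))).eq
  rw [commutator_def, Subgroup.commutator_le]
  intro u _ v _
  rw [← QuotientGroup.eq_one_iff (N := K)]
  show QuotientGroup.mk' K ⁅u, v⁆ = 1
  rw [map_commutatorElement, commutatorElement_eq_one_iff_mul_comm]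
  exact hcomm u v

/-- A conjugation invariant homomorphism on `A` with commutative image kills the commutators. -/
theorem commutator_le_ker (A : Subgroup Q) [hA : A.Normal] (y : Q)
    (hgen : A ⊔ Subgroup.zpowers y = ⊤) {X : Type*} [Group X] (h : A →* X)
    (hc : ∀ a b : A, h a * h b = h b * h a)
    (hy : ∀ a : A, h ⟨y * (a : Q) * y⁻¹, hA.conj_mem _ a.2 y⟩ = h a) :
    commutator Q ≤ h.ker.map A.subtype := by
  refine commutator_le_of_gen A _ y hgen (Subgroup.map_subtype_le _) ?_ ?_ ?_ ?_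
  · rintro a ha _ ⟨k, hk, rfl⟩
    exact ⟨⟨a, ha⟩ * k * ⟨a, ha⟩⁻¹, (MonoidHom.normal_ker h).conj_mem k hk _, rfl⟩
  · rintro _ ⟨k, hk, rfl⟩
    refine ⟨⟨⟨y * (k : Q) * y⁻¹, hA.conj_mem _ k.2 y⟩, ?_, rfl⟩,
      ⟨⟨y⁻¹ * (k : Q) * y, ?_⟩, ?_, rfl⟩⟩
    · show h _ = 1
      rw [hy]; exact hk
    · simpa using hA.conj_mem _ k.2 y⁻¹
    · show h _ = 1
      rw [← hy]
      convert (MonoidHom.mem_ker.1 hk) using 2
      exact Subtype.ext (by simp [mul_assoc])
  · intro a ha b hb
    refine ⟨⁅(⟨a, ha⟩ : A), ⟨b, hb⟩⁆, ?_, rfl⟩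
    show h _ = 1
    rw [map_commutatorElement, commutatorElement_eq_one_iff_mul_comm]
    exact hc _ _
  · intro a ha
    refine ⟨⟨y * a * y⁻¹, hA.conj_mem _ ha y⟩ * ⟨a, ha⟩⁻¹, ?_, rfl⟩
    show h _ = 1
    rw [map_mul, map_inv, hy ⟨a, ha⟩, mul_inv_cancel]

theorem commutator_le_ker' (A : Subgroup Q) [hA : A.Normal] (y : Q)
    (hgen : A ⊔ Subgroup.zpowers y = ⊤) (c : A →* A)
    (hcy : ∀ a : A, c a = ⟨y * (a : Q) * y⁻¹, hA.conj_mem _ a.2 y⟩) {X : Type*} [Group X]
    (h : A →* X) (hc : ∀ a b : A, h a * h b = h b * h a) (hy : ∀ a, h (c a) = h a) :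
    commutator Q ≤ h.ker.map A.subtype :=
  commutator_le_ker A y hgen h hc fun a => by rw [← hcy]; exact hy a

/-- A nontrivial normal subgroup of a nilpotent group is not its own commutator with the group. -/
theorem not_le_commutator_top [Group.IsNilpotent Q] (H : Subgroup Q) (hH : H ≠ ⊥) :
    ¬ H ≤ ⁅H, (⊤ : Subgroup Q)⁆ := by
  intro hle
  apply hH
  have hall : ∀ n, H ≤ (⊤ : Subgroup Q).lowerCentralSeries n := by
    intro n
    induction n with
    | zero => simp
    | succ n ih => exact hle.trans (Subgroup.commutator_mono ih le_rfl)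
  obtain ⟨n, hn⟩ := nilpotent_iff_lowerCentralSeries.1 ‹Group.IsNilpotent Q›
  exact le_bot_iff.1 (hn ▸ hall n)

end Gen

section Meet

variable {G : Type*} [Group G] [Finite G] {p : ℕ} [Fact p.Prime]

/-- A Sylow subgroup meets a normal subgroup in a Sylow subgroup. -/
theorem meet_relIndex (P : Sylow p G) (N : Subgroup G) [N.Normal] :
    ¬ p ∣ (N ⊓ (P : Subgroup G)).relIndex N := by
  intro h
  refine P.not_dvd_index (h.trans ?_)
  rw [inf_comm, Subgroup.inf_relIndex_right]
  exact CfsgLib.PGroup.relIndex_dvd_index_normal_right _ N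

/-- A `p`-subgroup above a subgroup of index prime to `p`. -/
theorem eq_of_pgroup {A X V : Subgroup G} (hAX : A ≤ X) (hXV : X ≤ V) (hX : IsPGroup p X)
    (h : ¬ p ∣ A.relIndex V) : X ≤ A := by
  obtain ⟨k, hk⟩ := hX.index (A.subgroupOf X)
  refine Subgroup.relIndex_eq_one.1 ?_
  rw [Subgroup.relIndex, hk]
  rcases Nat.eq_zero_or_pos k with rfl | hk0
  · exact pow_zero _
  · refine absurd (Dvd.dvd.trans ?_ (Dvd.intro _ (Subgroup.relIndex_mul_relIndex A X V hAX hXV))) h
    rw [Subgroup.relIndex, hk]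
    exact dvd_pow_self p hk0.ne'

end Meet

section Blocks

variable {G : Type*} [Group G] [Finite G] {p : ℕ} [Fact p.Prime]

/-- An independent conjugation invariant family of at least two subgroups, pairwise commuting,
each of order divisible by `p`, meets a Sylow subgroup in an abelian subgroup, if `|P : P'| = p²`. -/
theorem abelian_meet (P : Sylow p G) (hbig : p ^ 2 < Nat.card (P : Subgroup G))
    (hP2 : (commutator (P : Subgroup G)).index = p ^ 2)
    {ι : Type*} [Fintype ι] (B : ι → Subgroup G) (hind : iSupIndep B)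
    (hcomm : Pairwise fun i j => ∀ x y : G, x ∈ B i → y ∈ B j → Commute x y)
    (hperm : ∀ (g : G) (i : ι), ∃ j, (B i).map (MulAut.conj g).toMonoidHom = B j)
    {i₀ j₀ : ι} (hne : i₀ ≠ j₀) (hdvd : ∀ i, p ∣ Nat.card (B i)) (N : Subgroup G) [N.Normal]
    (hN : ⨆ i, B i = N) (hA : ¬ N.subgroupOf (P : Subgroup G) ≤ commutator (P : Subgroup G)) :
    ∀ a b : N.subgroupOf (P : Subgroup G), a * b = b * a := by
  classical
  have hp := (Fact.out : p.Prime)
  set Q := (P : Subgroup G) with hQ
  set A := N.subgroupOf Q with hAdef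
  haveI : Group.IsNilpotent Q := P.2.isNilpotent
  -- the decomposition
  let Φ : (∀ i, B i) →* G := Subgroup.noncommPiCoprod hcomm
  have hΦi : Function.Injective Φ := Subgroup.injective_noncommPiCoprod_of_iSupIndep hind
  have hΦr : Φ.range = N := (Subgroup.noncommPiCoprod_range (hcomm := hcomm)).trans hN
  let e : (∀ i, B i) ≃* N := (MonoidHom.ofInjective hΦi).trans (MulEquiv.subgroupCongr hΦr)
  let π : ι → (N →* G) := fun i => (B i).subtype.comp ((Pi.evalMonoidHom _ i).comp e.symm.toMonoidHom)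
  have hπmem : ∀ i n, π i n ∈ B i := fun i n => SetLike.coe_mem _
  have hBN : ∀ i, B i ≤ N := fun i => hN ▸ le_iSup B i
  have hes : ∀ i (b : G) (hb : b ∈ B i), e.symm ⟨b, hBN i hb⟩ = Pi.mulSingle i ⟨b, hb⟩ := by
    intro i b hb
    rw [MulEquiv.symm_apply_eq]
    apply Subtype.ext
    show b = Φ (Pi.mulSingle i ⟨b, hb⟩)
    exact (Subgroup.noncommPiCoprod_mulSingle i ⟨b, hb⟩).symm
  have hπself : ∀ i (b : G) (hb : b ∈ B i), π i ⟨b, hBN i hb⟩ = b := by
    intro i b hb
    show ((e.symm ⟨b, hBN i hb⟩ i : B i) : G) = b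
    rw [hes i b hb, Pi.mulSingle_eq_same]
  have hπother : ∀ i j (b : G) (hb : b ∈ B j), i ≠ j → π i ⟨b, hBN j hb⟩ = 1 := by
    intro i j b hb hij
    show ((e.symm ⟨b, hBN j hb⟩ i : B i) : G) = 1
    rw [hes j b hb, Pi.mulSingle_eq_of_ne hij]
    rfl
  have hπext : ∀ n m : N, (∀ i, π i n = π i m) → n = m := fun n m h =>
    e.symm.injective (funext fun i => Subtype.ext (h i))
  have hBn : ∀ i, ∀ n ∈ N, ∀ b ∈ B i, n * b * n⁻¹ ∈ B i := by
    intro i n hn b hb
    have key : (⟨n, hn⟩ * ⟨b, hBN i hb⟩ * ⟨n, hn⟩⁻¹ : N) =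
        ⟨π i (⟨n, hn⟩ * ⟨b, hBN i hb⟩ * ⟨n, hn⟩⁻¹), hBN i (hπmem _ _)⟩ := by
      refine hπext _ _ fun j => ?_
      rcases eq_or_ne j i with rfl | hji
      · exact (hπself j _ (hπmem _ _)).symm
      · rw [hπother j i _ (hπmem _ _) hji, map_mul, map_mul, hπother j i b hb hji, map_inv]
        group
    have := congrArg (Subtype.val : N → G) key
    rw [show n * b * n⁻¹ = π i (⟨n, hn⟩ * ⟨b, hBN i hb⟩ * ⟨n, hn⟩⁻¹) from this]
    exact hπmem _ _
  -- the images of `A` are the Sylow subgroups of the factors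
  have hsyl : ∀ i, ¬ p ∣ (B i ⊓ Q).relIndex (B i) := by
    intro i
    haveI : ((B i).subgroupOf N).Normal := ⟨fun b hb n => hBn i n n.2 b hb⟩
    have h3 := CfsgLib.PGroup.relIndex_dvd_index_normal_right (Q.subgroupOf N) ((B i).subgroupOf N)
    rw [Subgroup.relIndex_subgroupOf (hBN i)] at h3
    intro h
    refine meet_relIndex P N (Dvd.dvd.trans ?_ (h3.trans (dvd_of_eq ?_)))
    · rwa [inf_comm, Subgroup.inf_relIndex_right] at h
    · rw [inf_comm, Subgroup.inf_relIndex_right]; rfl
  have hπA : ∀ i (a : G) (haQ : a ∈ Q) (haN : a ∈ N), π i ⟨a, haN⟩ ∈ Q := by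
    intro i
    set Y := (Q.subgroupOf N).map (π i) with hY
    have hYp : IsPGroup p Y := by
      rintro ⟨_, ⟨a, ha, rfl⟩⟩
      obtain ⟨k, hk⟩ := P.2 ⟨(a : G), ha⟩
      refine ⟨k, Subtype.ext ?_⟩
      show (π i a) ^ p ^ k = 1
      rw [← map_pow, ← map_one (π i)]
      exact congrArg _ (Subtype.ext (congrArg Subtype.val hk :))
    have hYB : Y ≤ B i := by rintro _ ⟨a, _, rfl⟩; exact hπmem _ _
    have hle : B i ⊓ Q ≤ Y := fun b hb => ⟨⟨b, hBN i hb.1⟩, hb.2, hπself i b hb.1⟩
    have h1 : (B i ⊓ Q).relIndex Y ∣ (B i ⊓ Q).relIndex (B i) :=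
      Dvd.intro _ (Subgroup.relIndex_mul_relIndex _ _ _ hle hYB)
    obtain ⟨k, hk⟩ := hYp.index ((B i ⊓ Q).subgroupOf Y)
    have h2 : (B i ⊓ Q).relIndex Y = 1 := by
      rw [Subgroup.relIndex, hk]
      rcases Nat.eq_zero_or_pos k with rfl | hk0
      · simp
      · exact absurd ((dvd_pow_self p hk0.ne').trans (hk ▸ h1)) (hsyl i)
    intro a haQ haN
    exact (Subgroup.relIndex_eq_one.1 h2 ⟨⟨a, haN⟩, haQ, rfl⟩).2
  let Al : ι → Subgroup Q := fun i => (B i).subgroupOf Q
  have hAlA : ∀ i, Al i ≤ A := fun i x hx => hBN i hx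
  let ρ : ∀ i, A →* Al i := fun i =>
    { toFun := fun a => ⟨⟨π i ⟨((a : Q) : G), a.2⟩, hπA i _ (a : Q).2 a.2⟩, hπmem _ _⟩
      map_one' := Subtype.ext (Subtype.ext (map_one (π i)))
      map_mul' := fun a b => Subtype.ext (Subtype.ext (map_mul (π i) ⟨_, a.2⟩ ⟨_, b.2⟩)) }
  have hρself : ∀ i (a : A) (h : (a : Q) ∈ Al i), ρ i a = ⟨a, h⟩ := fun i a h =>
    Subtype.ext (Subtype.ext (hπself i _ h))
  have hρother : ∀ i j (a : A), i ≠ j → (a : Q) ∈ Al j → ρ i a = 1 := fun i j a hij h =>
    Subtype.ext (Subtype.ext (hπother i j _ h hij))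
  have hρext : ∀ a b : A, (∀ i, ρ i a = ρ i b) → a = b := fun a b h =>
    Subtype.ext (Subtype.ext (congrArg (Subtype.val : N → G)
      (hπext ⟨_, a.2⟩ ⟨_, b.2⟩ fun i => congrArg (fun x : Al i => ((x : Q) : G)) (h i)) :))
  have hAlne : ∀ i, Al i ≠ ⊥ := by
    intro i h
    refine hsyl i ?_
    have : B i ⊓ Q = ⊥ := by
      rw [eq_bot_iff]
      intro x hx
      have : (⟨x, hx.2⟩ : Q) ∈ (⊥ : Subgroup Q) := h ▸ hx.1
      exact congrArg Subtype.val (Subgroup.mem_bot.1 this)
    rw [this, Subgroup.relIndex_bot_left]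
    exact hdvd i
  -- it is enough that the factors are commutative
  suffices hAl : ∀ i, ∀ a b : Al i, a * b = b * a by
    intro a b
    exact hρext _ _ fun i => by rw [map_mul, map_mul, hAl]
  -- a generator modulo `A`
  haveI hAn : A.Normal := (inferInstance : N.Normal).subgroupOf Q
  have hqab : (commutator Q).relIndex (A ⊔ commutator Q) * (A ⊔ commutator Q).index = p ^ 2 :=
    hP2 ▸ Subgroup.relIndex_mul_index le_sup_right
  have hidx : (A ⊔ commutator Q).index ≤ p := by
    obtain ⟨j, hj⟩ := P.2.index (A ⊔ commutator Q)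
    by_contra hlt
    have h1 : (commutator Q).relIndex (A ⊔ commutator Q) ≠ 1 := fun h =>
      hA (le_sup_left.trans (Subgroup.relIndex_eq_one.1 h))
    have h2 : 2 ≤ (commutator Q).relIndex (A ⊔ commutator Q) := by
      have : (commutator Q).relIndex (A ⊔ commutator Q) ≠ 0 := Subgroup.index_ne_zero_of_finite
      omega
    have hj2 : 2 ≤ j := by
      by_contra hj1
      exact hlt (hj ▸ (Nat.pow_le_pow_right hp.pos (by omega)).trans (pow_one p).le)
    have : p ^ 2 ≤ (A ⊔ commutator Q).index := hj ▸ Nat.pow_le_pow_right hp.pos hj2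
    nlinarith
  obtain ⟨y, hy⟩ : ∃ y : Q, A ⊔ Subgroup.zpowers y = ⊤ := by
    obtain ⟨y, hy⟩ : ∃ y : Q, A ⊔ Subgroup.zpowers y ⊔ commutator Q = ⊤ := by
      by_cases htop : A ⊔ commutator Q = ⊤
      · exact ⟨1, by rw [Subgroup.zpowers_one_eq_bot, sup_bot_eq, htop]⟩
      · obtain ⟨y, hy⟩ : ∃ y : Q, y ∉ A ⊔ commutator Q := by
          by_contra hc
          push Not at hc
          exact htop ((Subgroup.eq_top_iff' _).2 hc)
        refine ⟨y, ?_⟩
        by_contra hc
        have hle : A ⊔ commutator Q ≤ A ⊔ Subgroup.zpowers y ⊔ commutator Q :=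
          sup_le (le_sup_left.trans le_sup_left) le_sup_right
        have h1 := Subgroup.relIndex_mul_index hle
        obtain ⟨j, hj⟩ := P.2.index (A ⊔ Subgroup.zpowers y ⊔ commutator Q)
        have hj0 : 0 < j := Nat.pos_of_ne_zero fun h0 =>
          hc (Subgroup.index_eq_one.1 (by rw [hj, h0, pow_zero]))
        have h2 : p ≤ (A ⊔ Subgroup.zpowers y ⊔ commutator Q).index := hj ▸ Nat.le_self_pow hj0.ne' p
        have h3 : (A ⊔ commutator Q).relIndex (A ⊔ Subgroup.zpowers y ⊔ commutator Q) ≠ 1 := fun h =>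
          hy (Subgroup.relIndex_eq_one.1 h
            (Subgroup.mem_sup_left (Subgroup.mem_sup_right (Subgroup.mem_zpowers y))))
        have h4 : (A ⊔ commutator Q).relIndex (A ⊔ Subgroup.zpowers y ⊔ commutator Q) ≠ 0 :=
          Subgroup.index_ne_zero_of_finite
        have h5 : 2 * p ≤ (A ⊔ commutator Q).index :=
          h1 ▸ Nat.mul_le_mul (by omega) h2
        linarith [hp.two_le]
    refine ⟨y, frattini_nongenerating ?_⟩
    rw [eq_top_iff, ← hy]
    exact sup_le_sup_left (CfsgLib.Coprime.commutator_le_frattini P.2) _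
  have hQA : commutator Q ≤ A := by
    refine commutator_le_of_gen A A y hy le_rfl (fun a _ k hk => hAn.conj_mem k hk a)
      (fun k hk => ⟨hAn.conj_mem k hk y, by simpa using hAn.conj_mem k hk y⁻¹⟩)
      (fun a ha b hb => mul_mem (mul_mem (mul_mem ha hb) (inv_mem ha)) (inv_mem hb))
      (fun a ha => mul_mem (hAn.conj_mem a ha y) (inv_mem ha))
  have hmul : (commutator Q).relIndex A * A.index = p ^ 2 :=
    hP2 ▸ Subgroup.relIndex_mul_index hQA
  have hyp : y ^ p ∈ A := by
    obtain ⟨j, hj⟩ := P.2.index A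
    have hj1 : j ≤ 1 := by
      have h0 : A.index ≤ p := by
        rwa [sup_eq_left.2 hQA] at hidx
      by_contra h2
      have : p ^ 2 ≤ A.index := hj ▸ Nat.pow_le_pow_right hp.pos (by omega)
      nlinarith [hp.two_le]
    have h2 := Subgroup.pow_index_mem A y
    rw [hj] at h2
    rcases Nat.le_one_iff_eq_zero_or_eq_one.1 hj1 with rfl | rfl
    · rw [pow_zero, pow_one] at h2
      exact pow_mem h2 p
    · rwa [pow_one] at h2
  -- conjugation by `y`
  let cy : A →* A := (MulAut.conjNormal y : MulAut A).toMonoidHom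
  have hcy : ∀ a : A, cy a = ⟨y * (a : Q) * y⁻¹, hAn.conj_mem _ a.2 y⟩ := fun a =>
    Subtype.ext (MulAut.conjNormal_apply _ _)
  have hiter : ∀ (j : ℕ) (a : A), (((cy)^[j] a : A) : Q) = y ^ j * (a : Q) * (y ^ j)⁻¹ := by
    intro j a
    induction j with
    | zero => simp
    | succ j ih =>
      rw [Function.iterate_succ_apply', hcy]
      show y * (((cy)^[j] a : A) : Q) * y⁻¹ = _
      rw [ih, pow_succ']
      group
  -- the normalizer of a factor
  have hnorm : ∀ i, ∀ g : G, (∀ b ∈ B i, g * b * g⁻¹ ∈ B i) → g ∈ Subgroup.normalizer (B i : Set G) :=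
    fun i g h => Subgroup.mem_normalizer_fintype h
  have hNnorm : ∀ i, N ≤ Subgroup.normalizer (B i : Set G) := fun i n hn => hnorm i n (hBn i n hn)
  -- kernels of the homomorphisms used below contain the commutators
  -- a chain below `A`
  have hchain : ∀ K L : Subgroup Q, commutator Q ≤ K → commutator Q ≤ L → K ≤ A → L ≤ A →
      (∃ a ∈ L, a ∉ K) → p * L.relIndex A ≤ (commutator Q).relIndex A := by
    rintro K L hK hL hKA hLA ⟨a, haL, haK⟩
    have h1 := Subgroup.relIndex_mul_relIndex (commutator Q) (K ⊓ L) A (le_inf hK hL)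
      (inf_le_right.trans hLA)
    have h2 := Subgroup.relIndex_mul_relIndex (K ⊓ L) L A inf_le_right hLA
    have h3 : p ≤ (K ⊓ L).relIndex L := by
      obtain ⟨k, hk⟩ := (P.2.to_subgroup L).index ((K ⊓ L).subgroupOf L)
      rw [Subgroup.relIndex, hk]
      refine Nat.le_self_pow ?_ p
      rintro rfl
      rw [pow_zero] at hk
      exact haK (Subgroup.relIndex_eq_one.1 hk haL).1
    have h4 : 0 < (commutator Q).relIndex (K ⊓ L) :=
      Nat.pos_of_ne_zero Subgroup.index_ne_zero_of_finite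
    calc p * L.relIndex A ≤ (K ⊓ L).relIndex L * L.relIndex A := Nat.mul_le_mul_right _ h3
      _ = (K ⊓ L).relIndex A := h2
      _ ≤ (commutator Q).relIndex (K ⊓ L) * (K ⊓ L).relIndex A := Nat.le_mul_of_pos_left _ h4
      _ = _ := h1
  -- the abelianized projections
  let α : ∀ i, A →* Abelianization (Al i) := fun i => Abelianization.of.comp (ρ i)
  have hαconj : ∀ i (n : A) (a : A), α i (n * a * n⁻¹) = α i a := fun i n a => by
    rw [map_mul, map_mul, map_inv, mul_comm (α i n) (α i a), mul_inv_cancel_right]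
  have hαidx : ∀ i, ((α i).ker.map A.subtype).relIndex A = (commutator (Al i)).index := by
    intro i
    rw [Subgroup.relIndex, Subgroup.subgroupOf,
      Subgroup.comap_map_eq_self_of_injective A.subtype_injective, Subgroup.index_ker]
    have : (α i).range = ⊤ := by
      rw [eq_top_iff]
      intro v _
      obtain ⟨v, rfl⟩ := QuotientGroup.mk_surjective v
      exact ⟨⟨(v : Q), hAlA i v.2⟩, congrArg Abelianization.of (hρself i _ v.2)⟩
    rw [this, Subgroup.card_top, Subgroup.index_eq_card]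
    rfl
  have hab : ∀ i, 1 < (commutator (Al i)).index := by
    intro i
    have hpm := P.2.to_subgroup (Al i)
    haveI : Group.IsNilpotent (Al i) := hpm.isNilpotent
    have h0 : (commutator (Al i)).index ≠ 0 := Subgroup.index_ne_zero_of_finite
    have h1 : (commutator (Al i)).index ≠ 1 := by
      intro h
      rw [Subgroup.index_eq_one] at h
      refine not_le_commutator_top (Q := ↥(Al i)) (⊤ : Subgroup (Al i)) ?_ (by rw [← commutator_def, h])
      intro h0'
      exact hAlne i ((Subgroup.eq_bot_iff_forall _).2 fun x hx => by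
        have h1 : (⟨x, hx⟩ : Al i) ∈ (⊥ : Subgroup (Al i)) := h0' ▸ Subgroup.mem_top _
        exact congrArg Subtype.val (Subgroup.mem_bot.1 h1))
    omega
  have hother : ∀ l, ∃ m, m ≠ l := fun l => by
    rcases eq_or_ne l i₀ with rfl | h
    exacts [⟨j₀, hne.symm⟩, ⟨i₀, h.symm⟩]
  have hbot : ∀ i, Nat.card (B i) ≠ 1 := fun i h => hp.ne_one (Nat.dvd_one.1 (h ▸ hdvd i))
  by_cases hyA : y ∈ A
  · -- `P` lies in `N`
    have htop : A = ⊤ := by rw [← hy, sup_eq_left.2 (Subgroup.zpowers_le.2 hyA)]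
    have hk : ∀ i, commutator Q ≤ (α i).ker.map A.subtype := fun i =>
      commutator_le_ker' A y hy cy hcy (α i) (fun a b => mul_comm _ _) fun a => by
        rw [show cy a = ⟨y, hyA⟩ * a * ⟨y, hyA⟩⁻¹ from Subtype.ext (MulAut.conjNormal_apply _ _)]
        exact hαconj i _ a
    intro l
    obtain ⟨m, hml⟩ := hother l
    obtain ⟨u, hu⟩ : ∃ u : Al m, Abelianization.of u ≠ 1 := by
      by_contra hc'
      push Not at hc'
      have := hab m
      rw [Subgroup.index_eq_one.2 ((Subgroup.eq_top_iff' _).2 fun u => (Abelianization.ker_of (G := Al m)) ▸ hc' u)] at this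
      omega
    have h1 := hchain ((α m).ker.map A.subtype) ((α l).ker.map A.subtype) (hk m) (hk l)
      (Subgroup.map_subtype_le _) (Subgroup.map_subtype_le _) ⟨(u : Q), ⟨⟨(u : Q), hAlA m u.2⟩, by
        show α l _ = 1
        show Abelianization.of (ρ l _) = 1
        rw [hρother l m _ hml.symm u.2, map_one], rfl⟩, by
        rintro ⟨a, ha, hau⟩
        apply hu
        have e : a = ⟨(u : Q), hAlA m u.2⟩ := Subtype.ext hau
        subst e
        have h2 : Abelianization.of (ρ m ⟨(u : Q), hAlA m u.2⟩) = 1 := ha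
        rwa [hρself m ⟨(u : Q), hAlA m u.2⟩ u.2] at h2⟩
    rw [hαidx, htop, Subgroup.relIndex_top_right, hP2, sq] at h1
    exact comm_of_index_le (P.2.to_subgroup (Al l)) (Nat.le_of_mul_le_mul_left h1 hp.pos)
  -- now `A` has index `p`
  have hAp : (commutator Q).relIndex A ≤ p := by
    obtain ⟨j, hj⟩ := P.2.index A
    have : p ≤ A.index := by
      rw [hj]
      refine Nat.le_self_pow ?_ p
      rintro rfl
      rw [pow_zero] at hj
      exact hyA (Subgroup.index_eq_one.1 hj ▸ Subgroup.mem_top y)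
    by_contra hlt
    have : (p + 1) * p ≤ (commutator Q).relIndex A * A.index := Nat.mul_le_mul (by omega) this
    nlinarith [hp.pos]
  -- projections commute with conjugation by `y` on the fixed factors
  let cl : N →* N := (MulAut.conjNormal (y : G) : MulAut N).toMonoidHom
  have hcl : ∀ l, (y : G) ∈ Subgroup.normalizer (B l : Set G) →
      ∀ n : N, π l (cl n) = (y : G) * π l n * (y : G)⁻¹ := by
    intro l hl
    have key : (π l).comp cl = (MulAut.conj (y : G)).toMonoidHom.comp (π l) := by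
      have hgenN : N ≤ (((π l).comp cl).eqLocus
          ((MulAut.conj (y : G)).toMonoidHom.comp (π l))).map N.subtype := by
        refine hN.ge.trans (iSup_le fun j b hb => ⟨⟨b, hBN j hb⟩, ?_, rfl⟩)
        show π l (cl ⟨b, hBN j hb⟩) = (y : G) * π l ⟨b, hBN j hb⟩ * (y : G)⁻¹
        obtain ⟨j', hj'⟩ := hperm (y : G) j
        have hmem : (y : G) * b * (y : G)⁻¹ ∈ B j' := hj' ▸ ⟨_, hb, rfl⟩
        have hclb : cl ⟨b, hBN j hb⟩ = ⟨_, hBN j' hmem⟩ :=
          Subtype.ext (MulAut.conjNormal_apply _ _)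
        rw [hclb]
        by_cases hjl : j = l
        · subst hjl
          have : (y : G) * b * (y : G)⁻¹ ∈ B j := (Subgroup.mem_normalizer_iff.1 hl b).1 hb
          rw [hπself j _ this, hπself j _ hb]
        · have hj'l : l ≠ j' := by
            intro h
            subst h
            apply hbot j
            rw [Subgroup.card_eq_one, Subgroup.eq_bot_iff_forall]
            intro c hc
            have h1 : (y : G) * c * (y : G)⁻¹ ∈ B l := hj' ▸ ⟨_, hc, rfl⟩
            exact Subgroup.mem_bot.1 (Disjoint.le_bot (hind.pairwiseDisjoint hjl)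
              ⟨hc, (Subgroup.mem_normalizer_iff.1 hl c).2 h1⟩)
          rw [hπother l j' _ hmem hj'l, hπother l j _ hb (Ne.symm hjl)]
          group
      refine MonoidHom.ext fun n => ?_
      obtain ⟨m, hm, he⟩ := hgenN n.2
      exact (Subtype.ext he : m = n) ▸ hm
    exact fun n => DFunLike.congr_fun key n
  -- every factor gives a proper subgroup containing the commutators
  let ψ : ∀ i, A →* Abelianization (Al i) := fun i =>
    { toFun := fun a => ∏ j ∈ Finset.range p, α i ((cy)^[j] a)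
      map_one' := Finset.prod_eq_one fun j _ => by
        rw [Function.iterate_fixed (map_one cy) j, map_one]
      map_mul' := fun a b => by
        rw [← Finset.prod_mul_distrib]
        refine Finset.prod_congr rfl fun j _ => ?_
        rw [iterate_map_mul, map_mul] }
  have hψy : ∀ i a, ψ i (cy a) = ψ i a := by
    intro i a
    show ∏ j ∈ Finset.range p, α i ((cy)^[j] (cy a)) = ∏ j ∈ Finset.range p, α i ((cy)^[j] a)
    have hF : α i ((cy)^[p] a) = α i ((cy)^[0] a) := by
      rw [show (cy)^[p] a = ⟨y ^ p, hyp⟩ * a * ⟨y ^ p, hyp⟩⁻¹ from Subtype.ext (hiter p a), hαconj]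
      rfl
    have h1 := Finset.prod_range_succ' (fun j => α i ((cy)^[j] a)) p
    rw [Finset.prod_range_succ, hF] at h1
    refine Eq.trans ?_ (mul_right_cancel h1).symm
    exact Finset.prod_congr rfl fun j _ => by rw [← Function.iterate_succ_apply]
  have hψself : ∀ l, (y : G) ∉ Subgroup.normalizer (B l : Set G) → ∀ u : Al l,
      ψ l ⟨(u : Q), hAlA l u.2⟩ = Abelianization.of u := by
    intro l hl u
    have hmove : ∀ j ∈ Finset.range p, j ≠ 0 → ρ l ((cy)^[j] ⟨(u : Q), hAlA l u.2⟩) = 1 := by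
      intro j hj hj0
      obtain ⟨m, hm⟩ := hperm ((y : G) ^ j) l
      have hm' : (((cy)^[j] ⟨(u : Q), hAlA l u.2⟩ : A) : Q) ∈ Al m := by
        rw [hiter, Subgroup.mem_subgroupOf]
        exact hm ▸ ⟨_, u.2, by rw [MulEquiv.coe_toMonoidHom, MulAut.conj_apply]; norm_cast⟩
      refine hρother l m _ ?_ hm'
      rintro rfl
      apply hl
      have hyj : (y : G) ^ j ∈ Subgroup.normalizer (B l : Set G) :=
        hnorm l _ fun b hb => hm ▸ ⟨b, hb, rfl⟩
      have hypn : (y : G) ^ p ∈ Subgroup.normalizer (B l : Set G) := hNnorm l hyp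
      have hco : Nat.Coprime j p := (hp.coprime_iff_not_dvd.2 (Nat.not_dvd_of_pos_of_lt
        (Nat.pos_of_ne_zero hj0) (Finset.mem_range.1 hj))).symm
      have e1 : (y : G) = ((y : G) ^ j) ^ (Nat.gcdA j p) * ((y : G) ^ p) ^ (Nat.gcdB j p) := by
        have hb := Nat.gcd_eq_gcd_ab j p
        rw [hco.gcd_eq_one] at hb
        rw [← zpow_natCast (y : G) j, ← zpow_natCast (y : G) p, ← zpow_mul, ← zpow_mul, ← zpow_add,
          ← hb, Nat.cast_one, zpow_one]
      rw [e1]
      exact mul_mem (zpow_mem hyj _) (zpow_mem hypn _)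
    show ∏ j ∈ Finset.range p, α l ((cy)^[j] ⟨(u : Q), hAlA l u.2⟩) = _
    rw [Finset.prod_eq_single_of_mem 0 (Finset.mem_range.2 hp.pos) fun j hj hj0 => by
      show Abelianization.of (ρ l _) = 1
      rw [hmove j hj hj0, map_one]]
    show Abelianization.of (ρ l _) = _
    rw [Function.iterate_zero, id, hρself l ⟨(u : Q), hAlA l u.2⟩ u.2]
  have hsep : ∀ i, ∃ K : Subgroup Q, commutator Q ≤ K ∧ K ≤ A ∧ (∃ a ∈ Al i, a ∉ K) ∧
      ∀ l, l ≠ i → (y : G) ∈ Subgroup.normalizer (B l : Set G) → Al l ≤ K := by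
    intro i
    by_cases hi : (y : G) ∈ Subgroup.normalizer (B i : Set G)
    · haveI hn : (Al i).Normal := by
        refine Subgroup.normalizer_eq_top_iff.1 ?_
        rw [eq_top_iff, ← hy, sup_le_iff, Subgroup.zpowers_le]
        exact ⟨fun a ha => Subgroup.mem_normalizer_fintype fun x hx => hBn i _ ha _ hx,
          Subgroup.mem_normalizer_fintype fun x hx => (Subgroup.mem_normalizer_iff.1 hi _).1 hx⟩
      have hρy : ∀ a : A, (ρ i (cy a) : Q) = y * (ρ i a : Q) * y⁻¹ := by
        intro a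
        apply Subtype.ext
        show π i _ = (y : G) * π i ⟨((a : Q) : G), a.2⟩ * (y : G)⁻¹
        rw [← hcl i hi]
        refine congrArg (π i) (Subtype.ext ?_)
        show (((cy a : A) : Q) : G) = _
        rw [hcy, MulEquiv.coe_toMonoidHom, MulAut.conjNormal_apply]
        rfl
      let ω : A →* Q ⧸ ⁅Al i, (⊤ : Subgroup Q)⁆ :=
        (QuotientGroup.mk' _).comp ((Al i).subtype.comp (ρ i))
      have hωc : ∀ a : A, ∀ u : Q, Commute (ω a) (QuotientGroup.mk' ⁅Al i, (⊤ : Subgroup Q)⁆ u) := by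
        intro a u
        show _ = _
        rw [← commutatorElement_eq_one_iff_mul_comm]
        show ⁅QuotientGroup.mk' ⁅Al i, (⊤ : Subgroup Q)⁆ (ρ i a : Q), QuotientGroup.mk' _ u⁆ = 1
        rw [← map_commutatorElement]
        exact (QuotientGroup.eq_one_iff _).2 (Subgroup.commutator_mem_commutator (ρ i a).2 trivial)
      refine ⟨ω.ker.map A.subtype, commutator_le_ker' A y hy cy hcy ω (fun a b => (hωc a _).eq) fun a => ?_,
        Subgroup.map_subtype_le _, ?_, ?_⟩
      · show QuotientGroup.mk' ⁅Al i, (⊤ : Subgroup Q)⁆ (ρ i (cy a) : Q) = ω a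
        rw [hρy, map_mul, map_mul, map_inv]
        show _ * ω a * _ = _
        rw [← (hωc a y).eq, mul_inv_cancel_right]
      · by_contra hc'
        push Not at hc'
        refine not_le_commutator_top (Al i) (hAlne i) fun a ha => ?_
        obtain ⟨a', ha', rfl⟩ := hc' a ha
        have h1 : QuotientGroup.mk' ⁅Al i, (⊤ : Subgroup Q)⁆ (ρ i a' : Q) = 1 := ha'
        rw [hρself i a' ha] at h1
        exact (QuotientGroup.eq_one_iff _).1 h1
      · intro l hli _ x hx
        refine ⟨⟨x, hAlA l hx⟩, ?_, rfl⟩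
        show QuotientGroup.mk' ⁅Al i, (⊤ : Subgroup Q)⁆ (ρ i ⟨x, hAlA l hx⟩ : Q) = 1
        rw [hρother i l ⟨x, hAlA l hx⟩ (Ne.symm hli) hx, Subgroup.coe_one, map_one]
    · refine ⟨(ψ i).ker.map A.subtype, commutator_le_ker' A y hy cy hcy (ψ i) (fun a b => mul_comm _ _) (hψy i),
        Subgroup.map_subtype_le _, ?_, ?_⟩
      · by_contra hc'
        push Not at hc'
        have := hab i
        rw [Subgroup.index_eq_one.2 ((Subgroup.eq_top_iff' _).2 fun u => ?_)] at this
        · omega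
        · obtain ⟨a', ha', he'⟩ := hc' (u : Q) u.2
          rw [← Abelianization.ker_of (G := Al i)]
          have e1 : a' = ⟨(u : Q), hAlA i u.2⟩ := Subtype.ext he'
          have h1 : ψ i a' = 1 := ha'
          rw [e1, hψself i hi u] at h1
          exact h1
      · intro l hli hl x hx
        refine ⟨⟨x, hAlA l hx⟩, ?_, rfl⟩
        show ∏ j ∈ Finset.range p, α i ((cy)^[j] ⟨x, hAlA l hx⟩) = 1
        refine Finset.prod_eq_one fun j _ => ?_
        show Abelianization.of (ρ i _) = 1
        rw [hρother i l _ (Ne.symm hli) ?_, map_one]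
        rw [hiter, Subgroup.mem_subgroupOf]
        exact (Subgroup.mem_normalizer_iff.1 (pow_mem hl j) _).1 hx
  -- all factors are moved
  intro l
  have hl : (y : G) ∉ Subgroup.normalizer (B l : Set G) := by
    intro hl
    obtain ⟨m, hml⟩ := hother l
    obtain ⟨K, hK, hKA, hKl, -⟩ := hsep l
    obtain ⟨L, hL, hLA, hLm, hLl⟩ := hsep m
    obtain ⟨a, ha, haK⟩ := hKl
    have h1 := hchain K L hK hL hKA hLA ⟨a, hLl l (Ne.symm hml) hl ha, haK⟩
    obtain ⟨b, hb, hbL⟩ := hLm
    have h2 : 2 ≤ L.relIndex A := by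
      have h0 : L.relIndex A ≠ 0 := Subgroup.index_ne_zero_of_finite
      have h1' : L.relIndex A ≠ 1 := fun h => hbL (Subgroup.relIndex_eq_one.1 h (hAlA m hb))
      omega
    nlinarith [hp.two_le]
  refine comm_of_index_le (P.2.to_subgroup (Al l)) (le_trans ?_ hAp)
  refine le_trans (le_of_eq ?_) (Nat.le_of_dvd (Nat.pos_of_ne_zero Subgroup.index_ne_zero_of_finite)
    (Subgroup.relIndex_dvd_of_le_left A (commutator_le_ker' A y hy cy hcy (ψ l) (fun a b => mul_comm _ _) (hψy l))))
  rw [Subgroup.relIndex, Subgroup.subgroupOf,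
    Subgroup.comap_map_eq_self_of_injective A.subtype_injective, Subgroup.index_ker]
  have : (ψ l).range = ⊤ := by
    rw [eq_top_iff]
    intro v _
    obtain ⟨v, rfl⟩ := QuotientGroup.mk_surjective v
    exact ⟨_, hψself l hl v⟩
  rw [this, Subgroup.card_top, Subgroup.index_eq_card]
  rfl

end Blocks

section Struct

variable {G : Type*} [Group G] [Finite G] {p : ℕ} [Fact p.Prime]

theorem characteristic_of_coprime {H : Type*} [Group H] [Finite H] (K : Subgroup H) [K.Normal]
    (hco : (Nat.card K).Coprime K.index) : K.Characteristic := by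
  refine Subgroup.characteristic_iff_map_le.2 fun φ => ?_
  set L := K.map φ.toMonoidHom
  have hL : Nat.card L = Nat.card K := Subgroup.card_map_of_injective φ.injective
  have hKS : K ≤ K ⊔ L := le_sup_left
  have h1 : K.relIndex (K ⊔ L) ∣ K.index :=
    Dvd.intro _ (Subgroup.relIndex_mul_index hKS)
  have h2 : K.relIndex (K ⊔ L) ∣ Nat.card K := by
    have h3 := CfsgLib.PGroup.card_sup_dvd_of_normal L K
    rw [sup_comm, hL] at h3
    have h4 : Nat.card K * K.relIndex (K ⊔ L) = Nat.card ↥(K ⊔ L) :=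
      by
      rw [Subgroup.relIndex, ← Nat.card_congr (Subgroup.subgroupOfEquivOfLe hKS).toEquiv, Subgroup.card_mul_index]
    rw [← h4] at h3
    exact (mul_dvd_mul_iff_left (Nat.card_pos (α := K)).ne').1 h3
  have h5 : K.relIndex (K ⊔ L) = 1 := Nat.dvd_one.1 (hco ▸ Nat.dvd_gcd h2 h1)
  exact le_sup_right.trans (Subgroup.relIndex_eq_one.1 h5)

theorem exists_minimal_normal (C : Subgroup G) [C.Normal] (hC : C ≠ ⊥) :
    ∃ M : Subgroup G, M.Normal ∧ M ≠ ⊥ ∧ M ≤ C ∧
      ∀ K : Subgroup G, K.Normal → K ≠ ⊥ → K ≤ M → K = M := by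
  classical
  obtain ⟨M, hM⟩ := Set.Finite.exists_minimal (Set.toFinite {M : Subgroup G | M.Normal ∧ M ≠ ⊥ ∧ M ≤ C})
    ⟨C, ‹_›, hC, le_rfl⟩
  exact ⟨M, hM.prop.1, hM.prop.2.1, hM.prop.2.2, fun K hK hK0 hKM =>
    le_antisymm hKM (hM.2 ⟨hK, hK0, hKM.trans hM.prop.2.2⟩ hKM)⟩

/-- Some normal subgroup meets the Sylow subgroup in an abelian subgroup outside `P'`. -/
theorem exists_meet (P : Sylow p G) (hbig : p ^ 2 < Nat.card (P : Subgroup G))
    (hP2 : (commutator (P : Subgroup G)).index = p ^ 2) (hcore : Cfsg.pPrimeCore p G = ⊥)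
    (hcore' : (⁅(P : Subgroup G), (P : Subgroup G)⁆).normalCore = ⊥)
    (hnas : ¬ ∃ S : Subgroup G, S.Normal ∧ IsSimpleGroup S ∧ ¬ IsMulCommutative S ∧
      Subgroup.centralizer (S : Set G) = ⊥) :
    ∃ N : Subgroup G, N.Normal ∧
      (∀ a b : N.subgroupOf (P : Subgroup G), a * b = b * a) ∧
      ¬ N.subgroupOf (P : Subgroup G) ≤ commutator (P : Subgroup G) := by
  classical
  have hp := (Fact.out : p.Prime)
  set Q := (P : Subgroup G) with hQ
  have hdiv : ∀ N : Subgroup G, N.Normal → N ≠ ⊥ → p ∣ Nat.card N := by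
    intro N hN hN0
    by_contra h
    refine hN0 (le_bot_iff.1 ?_)
    rw [← hcore]
    exact le_sSup ⟨hN, (hp.coprime_iff_not_dvd.2 h).symm⟩
  by_cases hab : ∃ V : Subgroup G, V.Normal ∧ V ≠ ⊥ ∧ ∀ a ∈ V, ∀ b ∈ V, a * b = b * a
  · obtain ⟨V, hV, hV0, hVc⟩ := hab
    haveI := hV
    refine ⟨V, hV, fun a b => Subtype.ext (Subtype.ext (hVc _ a.2 _ b.2)), fun h => ?_⟩
    have hle : V ⊓ Q ≤ ⁅Q, Q⁆ := by
      rw [← Q.map_subtype_commutator]
      exact fun x hx => ⟨⟨x, hx.2⟩, h hx.1, rfl⟩
    haveI hn : (V ⊓ Q).Normal := by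
      refine ⟨fun a ha g => ?_⟩
      set A := V ⊓ Q
      set A' := A.map (MulAut.conj g).toMonoidHom
      have hA'V : A' ≤ V := by
        rintro _ ⟨b, hb, rfl⟩
        exact hV.conj_mem b hb.1 g
      have hsup : IsPGroup p ↥(A ⊔ A') := by
        refine (P.2.to_le inf_le_right).to_sup_of_normal_right'
          ((P.2.to_le inf_le_right).map _) fun x hx => Subgroup.mem_normalizer_fintype fun z hz => ?_
        have : x * z * x⁻¹ = z := by
          rw [hVc x hx.1 z (hA'V hz), mul_inv_cancel_right]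
        exact this.symm ▸ hz
      exact eq_of_pgroup le_sup_left (sup_le inf_le_left hA'V) hsup (meet_relIndex P V)
        (Subgroup.mem_sup_right ⟨a, ha, rfl⟩)
    have hbot : V ⊓ Q = ⊥ := le_bot_iff.1 (hcore' ▸ Subgroup.normal_le_normalCore.2 hle)
    have h1 := meet_relIndex P V
    rw [hbot, Subgroup.relIndex_bot_left] at h1
    exact h1 (hdiv V hV hV0)
  push Not at hab
  -- no abelian normal subgroup: Tate
  have hout : ∀ N : Subgroup G, N.Normal → N ≠ ⊥ → ¬ N.subgroupOf Q ≤ commutator Q := by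
    intro N hN hN0 h
    haveI := hN
    have hle : N ⊓ Q ≤ (frattini Q).map Q.subtype := fun x hx =>
      ⟨⟨x, hx.2⟩, CfsgLib.Coprime.commutator_le_frattini P.2 (h hx.1), rfl⟩
    obtain ⟨S, K, hK, hKS⟩ := CfsgLib.Fusion.hasNormalPComplement_of_inf_le_frattini P N hle
    haveI := hK
    have hKidx : K.index = Nat.card S := hKS.symm.index_eq_card
    obtain ⟨k, hk⟩ := IsPGroup.iff_card.1 S.2
    have hKcard : ¬ p ∣ Nat.card K := by
      rw [← hKS.index_eq_card]
      exact S.not_dvd_index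
    haveI : K.Characteristic := by
      refine characteristic_of_coprime K ?_
      rw [hKidx, hk]
      exact Nat.Coprime.pow_right k ((hp.coprime_iff_not_dvd.2 hKcard).symm)
    have hKbot : K = ⊥ := by
      by_contra hK0
      have h2 := hdiv (K.map N.subtype) inferInstance
        ((Subgroup.map_eq_bot_iff_of_injective K N.subtype_injective).not.2 hK0)
      rw [Subgroup.card_map_of_injective N.subtype_injective] at h2
      exact hKcard h2
    have hpN : IsPGroup p N := by
      rw [IsPGroup.iff_card]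
      refine ⟨k, ?_⟩
      rw [← hk, ← hKidx, hKbot, Subgroup.index_bot]
    haveI : Nontrivial N := (Subgroup.nontrivial_iff_ne_bot N).2 hN0
    haveI := hpN.center_nontrivial
    have hZ : (Subgroup.center N).map N.subtype ≠ ⊥ :=
      (Subgroup.map_eq_bot_iff_of_injective _ N.subtype_injective).not.2
        ((Subgroup.nontrivial_iff_ne_bot _).1 inferInstance)
    obtain ⟨_, ⟨a, ha, rfl⟩, _, ⟨b, _, rfl⟩, hne⟩ := hab _ inferInstance hZ
    exact hne (congrArg Subtype.val (Subgroup.mem_center_iff.1 ha b).symm)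
  obtain ⟨N, hN, hN0, -, hmin⟩ := exists_minimal_normal (⊤ : Subgroup G) (by
    intro h
    have h2 : Nat.card Q = 1 := by
      rw [Subgroup.card_eq_one]
      exact le_bot_iff.1 (h ▸ le_top)
    have := hbig
    rw [h2] at this
    exact absurd this (by have := hp.pos; have := Nat.one_le_pow 2 p this; omega))
  haveI := hN
  -- a minimal normal subgroup of `N` and its conjugates
  obtain ⟨T, hT⟩ := Set.Finite.exists_minimal (Set.toFinite
    {T : Subgroup G | T ≤ N ∧ T ≠ ⊥ ∧ N ≤ Subgroup.normalizer (T : Set G)})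
    ⟨N, le_rfl, hN0, Subgroup.le_normalizer⟩
  obtain ⟨⟨hTN, hT0, hTn⟩, hTmin⟩ := hT
  let cj : G → Subgroup G := fun g => T.map (MulAut.conj g).toMonoidHom
  have hcjN : ∀ g, cj g ≤ N := fun g => by
    rintro _ ⟨t, ht, rfl⟩
    exact hN.conj_mem t (hTN ht) g
  have hcjn : ∀ g, ∀ n ∈ N, ∀ x ∈ cj g, n * x * n⁻¹ ∈ cj g := by
    rintro g n hn _ ⟨t, ht, rfl⟩
    refine ⟨(g⁻¹ * n * g) * t * (g⁻¹ * n * g)⁻¹,
      (Subgroup.mem_normalizer_iff.1 (hTn (by simpa using hN.conj_mem n hn g⁻¹)) t).1 ht, ?_⟩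
    simp [MulAut.conj_apply, mul_assoc]
  have hcjmin : ∀ g, ∀ K : Subgroup G, K ≤ cj g → K ≠ ⊥ → (∀ n ∈ N, ∀ x ∈ K, n * x * n⁻¹ ∈ K) →
      K = cj g := by
    intro g K hK hK0 hKn
    refine le_antisymm hK ?_
    set K' := K.map (MulAut.conj g⁻¹).toMonoidHom
    have hK' : K' ≤ T := by
      rintro _ ⟨x, hx, rfl⟩
      obtain ⟨t, ht, rfl⟩ := hK hx
      simpa [MulAut.conj_apply, mul_assoc] using ht
    have hmem : T ≤ K' := hTmin ⟨hK'.trans hTN, (Subgroup.map_eq_bot_iff_of_injective _
        (MulEquiv.injective _)).not.2 hK0, fun n hn => Subgroup.mem_normalizer_fintype (by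
        rintro _ ⟨x, hx, rfl⟩
        exact ⟨(g * n * g⁻¹) * x * (g * n * g⁻¹)⁻¹, hKn _ (hN.conj_mem n hn g) x hx,
          by simp [MulAut.conj_apply, mul_assoc]⟩)⟩ hK'
    rintro _ ⟨t, ht, rfl⟩
    obtain ⟨x, hx, hxt⟩ := hmem ht
    rw [← hxt]
    simpa [MulAut.conj_apply, mul_assoc] using hx
  have hcomm : ∀ g h, cj g ≠ cj h → ∀ x y : G, x ∈ cj g → y ∈ cj h → Commute x y := by
    intro g h hne x y hx hy
    have hbot : cj g ⊓ cj h = ⊥ := by
      by_contra h0
      have hn' : ∀ n ∈ N, ∀ x ∈ cj g ⊓ cj h, n * x * n⁻¹ ∈ cj g ⊓ cj h := fun n hn x hx =>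
        ⟨hcjn g n hn x hx.1, hcjn h n hn x hx.2⟩
      exact hne ((hcjmin g _ inf_le_left h0 hn').symm.trans (hcjmin h _ inf_le_right h0 hn'))
    have h1 : x * y * x⁻¹ * y⁻¹ ∈ cj g ⊓ cj h :=
      ⟨by
        rw [show x * y * x⁻¹ * y⁻¹ = x * (y * x⁻¹ * y⁻¹) by group]
        exact mul_mem hx (hcjn g y (hcjN h hy) _ ((cj g).inv_mem hx)),
      mul_mem (hcjn h x (hcjN g hx) _ hy) ((cj h).inv_mem hy)⟩
    rw [hbot, Subgroup.mem_bot, mul_inv_eq_one, mul_inv_eq_iff_eq_mul] at h1
    exact h1
  by_cases hone : ∀ g, cj g = cj 1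
  · -- `N` is simple
    have hT1 : cj 1 = T := by
      show T.map _ = T
      rw [map_one]
      exact Subgroup.map_id T
    have hTN' : T = N := hmin T ⟨fun t ht g => by
      have : g * t * g⁻¹ ∈ cj g := ⟨t, ht, rfl⟩
      rwa [hone g, hT1] at this⟩ hT0 hTN
    subst hTN'
    haveI : Nontrivial T := (Subgroup.nontrivial_iff_ne_bot T).2 hT0
    have hsimp : IsSimpleGroup T := by
      refine ⟨fun K hK => ?_⟩
      haveI := hK
      rcases eq_or_ne K ⊥ with h | h
      · exact Or.inl h
      · refine Or.inr (Subgroup.map_injective T.subtype_injective ?_)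
        have h1 := hcjmin 1 (K.map T.subtype) (hT1.symm ▸ Subgroup.map_subtype_le K)
          ((Subgroup.map_eq_bot_iff_of_injective _ T.subtype_injective).not.2 h) (by
            rintro n hn _ ⟨x, hx, rfl⟩
            exact ⟨⟨n, hn⟩ * x * ⟨n, hn⟩⁻¹, hK.conj_mem x hx _, rfl⟩)
        rw [h1, hT1, ← MonoidHom.range_eq_map, T.range_subtype]
    have hnc : ¬ IsMulCommutative T := fun h => by
      obtain ⟨a, ha, b, hb, hne⟩ := hab T inferInstance hT0
      exact hne (congrArg Subtype.val (h.is_comm.comm (⟨a, ha⟩ : T) ⟨b, hb⟩))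
    have hC0 : Subgroup.centralizer (T : Set G) ≠ ⊥ := fun h =>
      hnas ⟨T, inferInstance, hsimp, hnc, h⟩
    obtain ⟨M, hM, hM0, hMC, -⟩ := exists_minimal_normal (Subgroup.centralizer (T : Set G)) hC0
    haveI := hM
    have hTM : T ⊓ M = ⊥ := by
      by_contra h0
      obtain ⟨a, ha, b, hb, hne⟩ := hab (T ⊓ M) inferInstance h0
      exact hne (Subgroup.mem_centralizer_iff.1 (hMC hb.2) a ha.1)
    let B : Bool → Subgroup G := fun i => bif i then T else M
    have hBn : ∀ i, (B i).Normal := fun i => by cases i <;> assumption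
    refine ⟨T ⊔ M, inferInstance, ?_, hout _ inferInstance (fun h => hT0 (le_bot_iff.1 (h ▸ le_sup_left)))⟩
    refine abelian_meet P hbig hP2 B ?_ ?_ (fun g i => ⟨i, ?_⟩) (i₀ := true) (j₀ := false)
      Bool.noConfusion ?_ (T ⊔ M) iSup_bool_eq (hout _ inferInstance
        (fun h => hT0 (le_bot_iff.1 (h ▸ le_sup_left))))
    · rw [iSupIndep_pair (i := true) (j := false) Bool.noConfusion (fun k => by cases k <;> simp)]
      exact disjoint_iff.2 hTM
    · intro i j hij x z hx hz
      cases i <;> cases j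
      · exact absurd rfl hij
      · exact (Subgroup.mem_centralizer_iff.1 (hMC hx) z hz).symm
      · exact Subgroup.mem_centralizer_iff.1 (hMC hz) x hx
      · exact absurd rfl hij
    · exact @Subgroup.Normal.map_conj_eq _ _ _ (hBn i) g
    · intro i
      cases i
      · exact hdiv M hM hM0
      · exact hdiv T inferInstance hT0
  · push Not at hone
    obtain ⟨g₁, hg₁⟩ := hone
    let ι := {X : Subgroup G // ∃ g, X = cj g}
    haveI : Fintype ι := Fintype.ofFinite ι
    let B : ι → Subgroup G := Subtype.val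
    have hBcomm : Pairwise fun i j => ∀ x y : G, x ∈ B i → y ∈ B j → Commute x y := by
      rintro ⟨_, g, rfl⟩ ⟨_, h, rfl⟩ hij
      exact hcomm g h fun e => hij (Subtype.ext e)
    have hperm : ∀ (g : G) (i : ι), ∃ j, (B i).map (MulAut.conj g).toMonoidHom = B j := by
      rintro g ⟨_, h, rfl⟩
      refine ⟨⟨_, g * h, rfl⟩, ?_⟩
      show (T.map _).map _ = T.map _
      rw [Subgroup.map_map]
      congr 1
      ext t
      simp [MulAut.conj_apply, mul_assoc]
    have hle : ⨆ i, B i ≤ N := iSup_le (by rintro ⟨_, g, rfl⟩; exact hcjN g)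
    have hsup : ⨆ i, B i = N := by
      refine hmin _ ⟨fun x hx g => ?_⟩ ?_ hle
      · have : (⨆ i, B i).map (MulAut.conj g).toMonoidHom ≤ ⨆ i, B i := by
          rw [Subgroup.map_iSup]
          refine iSup_le fun i => ?_
          obtain ⟨j, hj⟩ := hperm g i
          rw [hj]
          exact le_iSup B j
        exact this ⟨x, hx, rfl⟩
      · intro h
        apply hT0
        rw [← show cj 1 = T by show T.map _ = T; rw [map_one]; exact Subgroup.map_id T]
        exact le_bot_iff.1 (h ▸ le_iSup B ⟨cj 1, 1, rfl⟩)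
    have hind : iSupIndep B := by
      rintro ⟨_, g, rfl⟩
      rw [disjoint_iff]
      by_contra h0
      have hn' : ∀ n ∈ N, ∀ x ∈ cj g ⊓ ⨆ j, ⨆ (_ : j ≠ (⟨cj g, g, rfl⟩ : ι)), B j,
          n * x * n⁻¹ ∈ cj g ⊓ ⨆ j, ⨆ (_ : j ≠ (⟨cj g, g, rfl⟩ : ι)), B j := by
        intro n hn x hx
        refine ⟨hcjn g n hn x hx.1, ?_⟩
        have : (⨆ j, ⨆ (_ : j ≠ (⟨cj g, g, rfl⟩ : ι)), B j) ≤
            (⨆ j, ⨆ (_ : j ≠ (⟨cj g, g, rfl⟩ : ι)), B j).comap (MulAut.conj n).toMonoidHom := by
          refine iSup₂_le fun j hj z hz => ?_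
          obtain ⟨h, hh⟩ := j.2
          refine Subgroup.mem_iSup_of_mem j (Subgroup.mem_iSup_of_mem hj ?_)
          show n * z * n⁻¹ ∈ B j
          rw [show B j = cj h from hh] at hz ⊢
          exact hcjn h n hn z hz
        exact this hx.2
      have h1 := (hcjmin g _ inf_le_left h0 hn')
      rw [inf_eq_left] at h1
      have hTc : ∀ x ∈ cj g, ∀ y ∈ cj g, x * y = y * x := by
        intro x hx y hy
        have : (⨆ j, ⨆ (_ : j ≠ (⟨cj g, g, rfl⟩ : ι)), B j) ≤ Subgroup.centralizer ({x} : Set G) :=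
          iSup₂_le fun j hj z hz => Subgroup.mem_centralizer_singleton_iff.2
            (hBcomm hj z x hz hx).eq
        exact (Subgroup.mem_centralizer_singleton_iff.1 (this (h1 hy))).symm
      have hall : ∀ h, ∀ x ∈ cj h, ∀ y ∈ cj h, x * y = y * x := by
        rintro h _ ⟨s, hs, rfl⟩ _ ⟨t, ht, rfl⟩
        have := hTc _ ⟨s, hs, rfl⟩ _ ⟨t, ht, rfl⟩
        simp only [MulEquiv.coe_toMonoidHom, ← map_mul] at this ⊢
        exact congrArg _ ((MulAut.conj g).injective this)
      obtain ⟨a, ha, b, hb, hne⟩ := hab N hN hN0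
      have hNc : N ≤ Subgroup.centralizer ((⨆ i, B i : Subgroup G) : Set G) := by
        rw [← hsup]
        refine iSup_le fun i x hx => ?_
        rw [hsup, Subgroup.mem_centralizer_iff]
        intro z hz
        have : N ≤ Subgroup.centralizer ({x} : Set G) := by
          rw [← hsup]
          refine iSup_le fun j w hw => Subgroup.mem_centralizer_singleton_iff.2 ?_
          rcases eq_or_ne j i with rfl | hji
          · obtain ⟨h, hh⟩ := j.2
            rw [show B j = cj h from hh] at hw hx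
            exact hall h w hw x hx
          · exact (hBcomm hji w x hw hx).eq
        exact Subgroup.mem_centralizer_singleton_iff.1 (this hz)
      exact hne (Subgroup.mem_centralizer_iff.1 (hNc hb) a (hsup.symm ▸ ha))
    have hdvd : ∀ i, p ∣ Nat.card (B i) := by
      have hall : ∀ i, Nat.card (B i) = Nat.card T := by
        rintro ⟨_, g, rfl⟩
        exact Subgroup.card_map_of_injective (MulEquiv.injective _)
      intro i
      rw [hall i]
      let e := MonoidHom.ofInjective (Subgroup.injective_noncommPiCoprod_of_iSupIndep (hcomm := hBcomm) hind)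
      have h1 : p ∣ Nat.card (∀ i, B i) := by
        rw [Nat.card_congr e.toEquiv, Subgroup.noncommPiCoprod_range (hcomm := hBcomm), hsup]
        exact hdiv N hN hN0
      rw [Nat.card_pi] at h1
      obtain ⟨j, -, hj⟩ := (hp.prime.dvd_finsetProd_iff _).1 h1
      exact hall j ▸ hj
    exact ⟨N, hN, abelian_meet P hbig hP2 B hind hBcomm hperm (i₀ := ⟨cj g₁, g₁, rfl⟩)
      (j₀ := ⟨cj 1, 1, rfl⟩) (fun e => hg₁ (congrArg Subtype.val e)) hdvd N hsup
      (hout N hN hN0), hout N hN hN0⟩

/-- The centralizer of an element outside the meet. -/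
theorem card_centralizer_eq (Q : Subgroup G) (hQp : IsPGroup p Q) (hbig : p ^ 2 < Nat.card Q)
    (hP2 : (commutator Q).index = p ^ 2) (N : Subgroup G) [N.Normal]
    (hAc : ∀ a b : N.subgroupOf Q, a * b = b * a)
    (hA : ¬ N.subgroupOf Q ≤ commutator Q)
    (y : Q) (hy : (y : G) ∉ N) :
    Nat.card (Subgroup.centralizer ({y} : Set Q)) = p ^ 2 := by
  classical
  have hp := (Fact.out : p.Prime)
  set A := N.subgroupOf Q with hAdef
  haveI hAn : A.Normal := (inferInstance : N.Normal).subgroupOf Q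
  have hyA : y ∉ A := fun h => hy h
  -- `A` has index `p`
  have hidx : A.index = p ∧ commutator Q ≤ A := by
    have hle : commutator Q < A ⊔ commutator Q := lt_of_le_of_ne le_sup_right fun h =>
      hA (h ▸ le_sup_left)
    have h1 : (commutator Q).relIndex (A ⊔ commutator Q) * (A ⊔ commutator Q).index = p ^ 2 :=
      hP2 ▸ Subgroup.relIndex_mul_index hle.le
    obtain ⟨j, hj⟩ := hQp.index (A ⊔ commutator Q)
    obtain ⟨i, hi⟩ := (hQp.to_subgroup (A ⊔ commutator Q)).index ((commutator Q).subgroupOf (A ⊔ commutator Q))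
    have hi0 : i ≠ 0 := by
      rintro rfl
      rw [pow_zero] at hi
      exact hle.not_ge (Subgroup.relIndex_eq_one.1 hi)
    rw [Subgroup.relIndex, hi, hj, ← pow_add] at h1
    have hij := Nat.pow_right_injective hp.two_le h1
    obtain ⟨w, hw⟩ : ∃ w : Q, A ⊔ Subgroup.zpowers w = ⊤ := by
      obtain ⟨w, hw⟩ : ∃ w : Q, A ⊔ Subgroup.zpowers w ⊔ commutator Q = ⊤ := by
        by_cases htop : A ⊔ commutator Q = ⊤
        · exact ⟨1, by rw [Subgroup.zpowers_one_eq_bot, sup_bot_eq, htop]⟩
        · obtain ⟨w, hw⟩ : ∃ w : Q, w ∉ A ⊔ commutator Q := by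
            by_contra hc
            push Not at hc
            exact htop ((Subgroup.eq_top_iff' _).2 hc)
          refine ⟨w, ?_⟩
          have hle2 : A ⊔ commutator Q ≤ A ⊔ Subgroup.zpowers w ⊔ commutator Q :=
            sup_le (le_sup_left.trans le_sup_left) le_sup_right
          have h2 := Subgroup.index_dvd_of_le hle2
          rw [hj, Nat.dvd_prime_pow hp] at h2
          obtain ⟨l, hl, hlidx⟩ := h2
          rcases Nat.lt_or_ge l j with hlj | hlj
          · rw [← Subgroup.index_eq_one, hlidx, show l = 0 by omega, pow_zero]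
          · exfalso
            have h3 := Subgroup.relIndex_mul_index hle2
            rw [hlidx, hj, show l = j by omega] at h3
            have h4 : (A ⊔ commutator Q).relIndex (A ⊔ Subgroup.zpowers w ⊔ commutator Q) = 1 :=
              mul_eq_right₀ (pow_ne_zero _ hp.ne_zero) |>.1 h3
            exact hw (Subgroup.relIndex_eq_one.1 h4
              (Subgroup.mem_sup_left (Subgroup.mem_sup_right (Subgroup.mem_zpowers w))))
      refine ⟨w, frattini_nongenerating ?_⟩
      rw [eq_top_iff, ← hw]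
      exact sup_le_sup_left (CfsgLib.Coprime.commutator_le_frattini hQp) _
    have hQA : commutator Q ≤ A :=
      commutator_le_of_gen A A w hw le_rfl (fun a _ k hk => hAn.conj_mem k hk a)
        (fun k hk => ⟨hAn.conj_mem k hk w, by simpa using hAn.conj_mem k hk w⁻¹⟩)
        (fun a ha b hb => mul_mem (mul_mem (mul_mem ha hb) (inv_mem ha)) (inv_mem hb))
        (fun a ha => mul_mem (hAn.conj_mem a ha w) (inv_mem ha))
    refine ⟨?_, hQA⟩
    rw [sup_eq_left.2 hQA] at hj
    have hj0 : j ≠ 0 := by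
      rintro rfl
      rw [pow_zero] at hj
      exact hyA (Subgroup.index_eq_one.1 hj ▸ Subgroup.mem_top y)
    rw [hj, show j = 1 by omega, pow_one]
  obtain ⟨hidx, hQA⟩ := hidx
  have hgen : A ⊔ Subgroup.zpowers y = ⊤ := by
    have h1 := Subgroup.relIndex_mul_index (le_sup_left : A ≤ A ⊔ Subgroup.zpowers y)
    rw [hidx] at h1
    rcases (Nat.dvd_prime hp).1 (Dvd.intro_left _ h1) with h2 | h2
    · exact Subgroup.index_eq_one.1 h2
    · rw [h2] at h1
      exact absurd (Subgroup.relIndex_eq_one.1 ((mul_eq_right₀ hp.ne_zero).1 h1)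
        (Subgroup.mem_sup_right (Subgroup.mem_zpowers y))) hyA
  have hrel : (commutator Q).relIndex A = p := by
    have := Subgroup.relIndex_mul_index hQA
    rw [hidx, hP2, sq] at this
    exact Nat.eq_of_mul_eq_mul_right hp.pos this
  -- the commutator map
  let f : A →* A :=
    { toFun := fun a => ⟨y * (a : Q) * y⁻¹ * (a : Q)⁻¹, mul_mem (hAn.conj_mem _ a.2 y) (inv_mem a.2)⟩
      map_one' := Subtype.ext (by simp)
      map_mul' := fun a b => Subtype.ext (by
        have hc : ∀ u v : Q, u ∈ A → v ∈ A → u * v = v * u := fun u v hu hv =>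
          congrArg Subtype.val (hAc ⟨u, hu⟩ ⟨v, hv⟩)
        show y * ((a : Q) * b) * y⁻¹ * ((a : Q) * b)⁻¹ =
          (y * (a : Q) * y⁻¹ * (a : Q)⁻¹) * (y * (b : Q) * y⁻¹ * (b : Q)⁻¹)
        rw [show (y * (a : Q) * y⁻¹ * (a : Q)⁻¹) * (y * (b : Q) * y⁻¹ * (b : Q)⁻¹) =
            y * (a : Q) * y⁻¹ * ((a : Q)⁻¹ * (y * (b : Q) * y⁻¹ * (b : Q)⁻¹)) by group,
          hc _ _ (inv_mem a.2) (mul_mem (hAn.conj_mem _ b.2 y) (inv_mem b.2))]
        group) }
  have hQf : commutator Q ≤ f.range.map A.subtype := by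
    have hc : ∀ u v : A, (u : Q) * v * (u : Q)⁻¹ = v := fun u v => by
      have h := congrArg Subtype.val (hAc u v)
      rw [Subgroup.coe_mul, Subgroup.coe_mul] at h
      rw [h, mul_inv_cancel_right]
    refine commutator_le_of_gen A _ y hgen (Subgroup.map_subtype_le _) ?_ ?_ ?_ ?_
    · rintro a ha _ ⟨k, hk, rfl⟩
      exact ⟨k, hk, (hc ⟨a, ha⟩ k).symm⟩
    · rintro _ ⟨_, ⟨a, rfl⟩, rfl⟩
      refine ⟨⟨f ⟨y * (a : Q) * y⁻¹, hAn.conj_mem _ a.2 y⟩, ⟨_, rfl⟩, ?_⟩,
        ⟨f ⟨y⁻¹ * (a : Q) * y, by simpa using hAn.conj_mem _ a.2 y⁻¹⟩, ⟨_, rfl⟩, ?_⟩⟩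
      · show y * (y * (a : Q) * y⁻¹) * y⁻¹ * (y * (a : Q) * y⁻¹)⁻¹ =
          y * (y * (a : Q) * y⁻¹ * (a : Q)⁻¹) * y⁻¹
        group
      · show y * (y⁻¹ * (a : Q) * y) * y⁻¹ * (y⁻¹ * (a : Q) * y)⁻¹ =
          y⁻¹ * (y * (a : Q) * y⁻¹ * (a : Q)⁻¹) * y
        group
    · intro a ha b hb
      refine ⟨1, one_mem _, ?_⟩
      have h := hc ⟨a, ha⟩ ⟨b, hb⟩
      show (1 : Q) = a * b * a⁻¹ * b⁻¹
      rw [h, mul_inv_cancel]
    · intro a ha
      exact ⟨f ⟨a, ha⟩, ⟨_, rfl⟩, rfl⟩
  set C := Subgroup.centralizer ({y} : Set Q)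
  have hker : f.ker = C.subgroupOf A := by
    ext a
    rw [MonoidHom.mem_ker, Subgroup.mem_subgroupOf, Subgroup.mem_centralizer_singleton_iff]
    constructor
    · intro h
      have h2 : y * (a : Q) * y⁻¹ * (a : Q)⁻¹ = 1 := congrArg Subtype.val h
      rw [mul_inv_eq_one, mul_inv_eq_iff_eq_mul] at h2
      exact h2.symm
    · intro h
      refine Subtype.ext ?_
      show y * (a : Q) * y⁻¹ * (a : Q)⁻¹ = 1
      rw [mul_inv_eq_one, mul_inv_eq_iff_eq_mul]
      exact h.symm
  have hCA : Nat.card (C.subgroupOf A) ≤ p := by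
    have h1 := Nat.card_congr (QuotientGroup.quotientKerEquivRange f).toEquiv
    rw [← Subgroup.index_eq_card, hker] at h1
    have h2 := Subgroup.card_mul_index (C.subgroupOf A)
    have h3 : Nat.card ((commutator Q).subgroupOf A) * p = Nat.card A := by
      rw [← hrel]
      exact Subgroup.card_mul_index _
    have h4 : Nat.card ((commutator Q).subgroupOf A) ≤ Nat.card f.range := by
      refine Subgroup.card_le_of_le ?_
      intro a ha
      obtain ⟨b, hb, he⟩ := hQf ha
      exact (Subtype.ext he : b = a) ▸ hb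
    have h5 : 0 < Nat.card f.range := Nat.card_pos
    rw [h1] at h2
    nlinarith
  have hCidx : (A.subgroupOf C).index ∣ p := by
    have := Subgroup.relIndex_dvd_index_of_normal A C
    rwa [hidx] at this
  have hne : (A.subgroupOf C).index ≠ 1 := fun h =>
    hyA (Subgroup.relIndex_eq_one.1 h (Subgroup.mem_centralizer_singleton_iff.2 rfl))
  have hCidx' : (A.subgroupOf C).index = p := ((Nat.dvd_prime hp).1 hCidx).resolve_left hne
  have hcardAC : Nat.card (A.subgroupOf C) = Nat.card (C.subgroupOf A) :=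
    Nat.card_congr
      { toFun := fun a => ⟨⟨(a : C), a.2⟩, (a : C).2⟩
        invFun := fun a => ⟨⟨(a : A), a.2⟩, (a : A).2⟩
        left_inv := fun _ => rfl
        right_inv := fun _ => rfl }
  have hC := Subgroup.card_mul_index (A.subgroupOf C)
  rw [hCidx', hcardAC] at hC
  -- a nontrivial fixed point in `A`
  have hCA' : p ∣ Nat.card (C.subgroupOf A) := by
    obtain ⟨k, hk⟩ := IsPGroup.iff_card.1 ((hQp.to_subgroup A).to_subgroup (C.subgroupOf A))
    rw [hk]
    refine dvd_pow_self p ?_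
    rintro rfl
    have hk' : C.subgroupOf A = ⊥ := Subgroup.card_eq_one.1 (by rw [hk, pow_zero])
    haveI : Nontrivial Q := by
      rw [← Finite.one_lt_card_iff_nontrivial]
      exact lt_of_le_of_lt (Nat.one_le_pow 2 p hp.pos) hbig
    haveI := hQp.center_nontrivial
    obtain ⟨z, hz, hz1⟩ := Subgroup.ne_bot_iff_exists_ne_one.1
      (show (Subgroup.center Q) ≠ ⊥ from (Subgroup.nontrivial_iff_ne_bot _).1 inferInstance) |>
        fun ⟨z, h⟩ => (⟨z.1, z.2, fun e => h (Subtype.ext e)⟩ : ∃ z : Q, z ∈ Subgroup.center Q ∧ z ≠ 1)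
    have hzC : ∀ u : Q, u ∈ C → u ∈ A → u = 1 := fun u hu hu' => by
      have : (⟨u, hu'⟩ : A) ∈ C.subgroupOf A := hu
      rw [hk', Subgroup.mem_bot] at this
      exact congrArg Subtype.val this
    have hzC' : z ∈ C := Subgroup.mem_centralizer_singleton_iff.2 (Subgroup.mem_center_iff.1 hz y).symm
    have hzA : z ∉ A := fun h => hz1 (hzC z hzC' h)
    -- then `A` is central
    have hzgen : A ⊔ Subgroup.zpowers z = ⊤ := by
      have h1 := Subgroup.relIndex_mul_index (le_sup_left : A ≤ A ⊔ Subgroup.zpowers z)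
      rw [hidx] at h1
      rcases (Nat.dvd_prime hp).1 (Dvd.intro_left _ h1) with h2 | h2
      · exact Subgroup.index_eq_one.1 h2
      · rw [h2] at h1
        exact absurd (Subgroup.relIndex_eq_one.1 ((mul_eq_right₀ hp.ne_zero).1 h1)
          (Subgroup.mem_sup_right (Subgroup.mem_zpowers z))) hzA
    have hAbot : ∀ a : A, (a : Q) = 1 := by
      intro a
      refine hzC _ (Subgroup.mem_centralizer_singleton_iff.2 ?_) a.2
      obtain ⟨b, hb, c, hc, he⟩ := Subgroup.mem_sup_of_normal_left.1 (hzgen ▸ Subgroup.mem_top y)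
      obtain ⟨i, rfl⟩ := Subgroup.mem_zpowers_iff.1 hc
      have h1 : Commute (a : Q) b := congrArg Subtype.val (hAc a ⟨b, hb⟩)
      have h2 : Commute (a : Q) z := Subgroup.mem_center_iff.1 hz _
      rw [← he]
      exact (h1.mul_right (h2.zpow_right i)).eq
    have : A = ⊥ := (Subgroup.eq_bot_iff_forall _).2 fun a ha => hAbot ⟨a, ha⟩
    rw [this] at hrel
    rw [Subgroup.relIndex_bot_right] at hrel
    exact hp.ne_one hrel.symm
  have h9 : Nat.card (C.subgroupOf A) = p := le_antisymm hCA (Nat.le_of_dvd Nat.card_pos hCA')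
  rw [h9, ← sq] at hC
  exact hC.symm

/-- An element outside the meet has centralizer of order `p²` in every Sylow subgroup. -/
theorem exists_small_centralizer (P : Sylow p G) (hbig : p ^ 2 < Nat.card (P : Subgroup G))
    (hP2 : (commutator (P : Subgroup G)).index = p ^ 2) (hcore : Cfsg.pPrimeCore p G = ⊥)
    (hcore' : (⁅(P : Subgroup G), (P : Subgroup G)⁆).normalCore = ⊥)
    (hnas : ¬ ∃ S : Subgroup G, S.Normal ∧ IsSimpleGroup S ∧ ¬ IsMulCommutative S ∧
      Subgroup.centralizer (S : Set G) = ⊥) :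
    ∃ x : G, (∃ k : ℕ, orderOf x = p ^ k) ∧
      (Nat.card (Subgroup.centralizer ({x} : Set G))).factorization p = 2 := by
  classical
  have hp := (Fact.out : p.Prime)
  obtain ⟨N, hN, hAc, hA⟩ := exists_meet P hbig hP2 hcore hcore' hnas
  haveI := hN
  -- transport to an arbitrary Sylow subgroup
  have key : ∀ S : Sylow p G, ∀ x : (S : Subgroup G), (x : G) ∉ N →
      Nat.card (Subgroup.centralizer ({x} : Set (S : Subgroup G))) = p ^ 2 := by
    intro S x hx
    obtain ⟨g, hg⟩ := MulAction.exists_smul_eq G P S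
    let c := (MulAut.conj g)
    have hcS : (P : Subgroup G).map c.toMonoidHom = (S : Subgroup G) := by
      rw [← hg]; rfl
    let e : (P : Subgroup G) ≃* (S : Subgroup G) :=
      (Subgroup.equivMapOfInjective _ c.toMonoidHom c.injective).trans (MulEquiv.subgroupCongr hcS)
    have heN : ∀ u : (P : Subgroup G), ((e u : (S : Subgroup G)) : G) = g * (u : G) * g⁻¹ :=
      fun u => rfl
    obtain ⟨y, rfl⟩ := e.surjective x
    have hy : (y : G) ∉ N := fun h => hx (by rw [heN]; exact hN.conj_mem _ h g)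
    have hcc : Nat.card (Subgroup.centralizer ({e y} : Set (S : Subgroup G))) =
        Nat.card (Subgroup.centralizer ({y} : Set (P : Subgroup G))) := by
      refine (Nat.card_congr (e.toEquiv.subtypeEquiv fun u => ?_)).symm
      show u ∈ Subgroup.centralizer ({y} : Set (P : Subgroup G)) ↔
        e u ∈ Subgroup.centralizer ({e y} : Set (S : Subgroup G))
      rw [Subgroup.mem_centralizer_singleton_iff, Subgroup.mem_centralizer_singleton_iff, ← map_mul,
        ← map_mul, e.injective.eq_iff]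
    rw [hcc]
    exact card_centralizer_eq _ P.2 hbig hP2 N hAc hA y hy
  set A := N.subgroupOf (P : Subgroup G)
  obtain ⟨x, hx⟩ : ∃ x : (P : Subgroup G), (x : G) ∉ N := by
    by_contra hc
    push Not at hc
    have htop : A = ⊤ := (Subgroup.eq_top_iff' _).2 hc
    have hbot : commutator (P : Subgroup G) = ⊥ := by
      rw [commutator_def, Subgroup.commutator_eq_bot_iff_le_centralizer]
      intro a _
      exact Subgroup.mem_centralizer_iff.2 fun b _ =>
        congrArg Subtype.val (hAc ⟨b, htop ▸ trivial⟩ ⟨a, htop ▸ trivial⟩)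
    rw [hbot, Subgroup.index_bot] at hP2
    omega
  have hxk : ∃ k, orderOf (x : G) = p ^ k := by
    obtain ⟨k, hk⟩ := IsPGroup.iff_orderOf.1 P.2 x
    exact ⟨k, by rw [Subgroup.orderOf_coe]; exact hk⟩
  refine ⟨x, hxk, ?_⟩
  set C := Subgroup.centralizer ({(x : G)} : Set G)
  have hxC : (x : G) ∈ C := Subgroup.mem_centralizer_singleton_iff.2 rfl
  have hzp : IsPGroup p (Subgroup.zpowers (⟨x, hxC⟩ : C)) := by
    obtain ⟨k, hk⟩ := hxk
    refine IsPGroup.iff_card.2 ⟨k, ?_⟩
    rw [Nat.card_zpowers, ← hk, ← Subgroup.orderOf_coe]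
  obtain ⟨R, hR⟩ := hzp.exists_le_sylow
  obtain ⟨S, hS⟩ := (R.2.map C.subtype).exists_le_sylow
  have hxS : (x : G) ∈ (S : Subgroup G) := hS ⟨⟨x, hxC⟩, hR (Subgroup.mem_zpowers _), rfl⟩
  have h1 := key S ⟨x, hxS⟩ hx
  have h2 : Nat.card R = Nat.card (Subgroup.centralizer ({(⟨x, hxS⟩ : (S : Subgroup G))} : Set (S : Subgroup G))) := by
    apply le_antisymm
    · refine Nat.card_le_card_of_injective (fun r => ⟨⟨((r : C) : G), hS ⟨r, r.2, rfl⟩⟩,
        Subgroup.mem_centralizer_singleton_iff.2 (Subtype.ext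
          (Subgroup.mem_centralizer_singleton_iff.1 (r : C).2))⟩) ?_
      intro a b hab
      exact Subtype.ext (Subtype.ext (congrArg (fun v => ((v : (S : Subgroup G)) : G)) (congrArg Subtype.val hab) :))
    · refine Nat.le_of_dvd Nat.card_pos ?_
      rw [h1, R.card_eq_multiplicity]
      refine pow_dvd_pow p ((hp.pow_dvd_iff_le_factorization Nat.card_pos.ne').1 ?_)
      rw [← h1]
      refine Subgroup.card_dvd_of_injective
        ({ toFun := fun v => ⟨((v : (S : Subgroup G)) : G), Subgroup.mem_centralizer_singleton_iff.2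
            (congrArg Subtype.val (Subgroup.mem_centralizer_singleton_iff.1 v.2))⟩
           map_one' := rfl
           map_mul' := fun _ _ => rfl } :
          Subgroup.centralizer ({(⟨x, hxS⟩ : (S : Subgroup G))} : Set (S : Subgroup G)) →* C) ?_
      intro a b hab
      exact Subtype.ext (Subtype.ext (congrArg Subtype.val hab :))
  rw [h1, R.card_eq_multiplicity] at h2
  exact Nat.pow_right_injective hp.two_le h2

end Struct


/-- Let G be a finite group, p a prime and P a Sylow p-subgroup of order at least p². Assume that G has no nontrivial normal subgroup of order prime to p, that the derived subgroup P' of P contains no nontrivial normal subgroup of G, and that G is not almost simple (there is no non-abelian simple normal subgroup of G with trivial centralizer). Then [P : P'] = p² if and only if some p-element x of G has centralizer whose order has p-part exactly p². -/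
theorem result {G : Type*} [Group G] [Finite G] (p : ℕ) [Fact p.Prime] (P : Sylow p G) (hbig : p ^ 2 ∣ Nat.card G) (hcore : Cfsg.pPrimeCore p G = ⊥)
    (hcore' : (⁅(P : Subgroup G), (P : Subgroup G)⁆).normalCore = ⊥) (hnas : ¬ ∃ S : Subgroup G, S.Normal ∧ IsSimpleGroup S ∧ ¬ IsMulCommutative S ∧ Subgroup.centralizer (S : Set G) = ⊥) :
    (⁅(P : Subgroup G), (P : Subgroup G)⁆).relIndex (P : Subgroup G) = p ^ 2 ↔
      ∃ x : G, (∃ k : ℕ, orderOf x = p ^ k) ∧ (Nat.card (Subgroup.centralizer ({x} : Set G))).factorization p = 2 := by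
  classical
  have hp := (Fact.out : p.Prime)
  have hcard : ∀ S : Sylow p G, p ^ 2 ≤ Nat.card (S : Subgroup G) := by
    intro S
    rw [S.card_eq_multiplicity]
    exact Nat.pow_le_pow_right hp.pos ((hp.pow_dvd_iff_le_factorization Nat.card_pos.ne').1 hbig)
  have hrel : (⁅(P : Subgroup G), (P : Subgroup G)⁆).relIndex (P : Subgroup G) =
      (commutator (P : Subgroup G)).index := by
    rw [← (P : Subgroup G).map_subtype_commutator, Subgroup.relIndex, Subgroup.subgroupOf,
      Subgroup.comap_map_eq_self_of_injective (P : Subgroup G).subtype_injective]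
  rw [hrel]
  constructor
  · intro h
    rcases (hcard P).lt_or_eq with hlt | heq
    · exact exists_small_centralizer P hlt h hcore hcore' hnas
    · refine ⟨1, ⟨0, by simp⟩, ?_⟩
      have htop : Subgroup.centralizer ({(1 : G)} : Set G) = ⊤ := by
        rw [Subgroup.eq_top_iff']
        intro g
        simp [Subgroup.mem_centralizer_singleton_iff]
      rw [htop, Subgroup.card_top]
      rw [P.card_eq_multiplicity] at heq
      exact (Nat.pow_right_injective hp.two_le heq).symm
  · rintro ⟨x, ⟨k, hk⟩, hx⟩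
    have hzp : IsPGroup p (Subgroup.zpowers x) :=
      IsPGroup.iff_card.2 ⟨k, by rw [Nat.card_zpowers, hk]⟩
    obtain ⟨S, hS⟩ := hzp.exists_le_sylow
    have hidx : (commutator (P : Subgroup G)).index = (commutator (S : Subgroup G)).index := by
      have e := Sylow.equiv P S
      rw [← Subgroup.index_map_equiv (commutator (P : Subgroup G)) e]
      congr 1
      rw [commutator_def, Subgroup.map_commutator, Subgroup.map_top_of_surjective _ e.surjective,
        commutator_def]
    rw [hidx]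
    refine le_antisymm ((index_le_card_centralizer (⟨x, hS (Subgroup.mem_zpowers x)⟩ :
      (S : Subgroup G))).trans ?_) (sq_le_index S.2 (hcard S))
    set C := Subgroup.centralizer ({x} : Set G)
    set D := Subgroup.centralizer ({(⟨x, hS (Subgroup.mem_zpowers x)⟩ : (S : Subgroup G))} :
      Set (S : Subgroup G))
    obtain ⟨j, hj⟩ := IsPGroup.iff_card.1 (S.2.to_subgroup D)
    have hdvd : Nat.card D ∣ Nat.card C := by
      refine Subgroup.card_dvd_of_injective
        ({ toFun := fun v => ⟨((v : (S : Subgroup G)) : G), Subgroup.mem_centralizer_singleton_iff.2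
            (congrArg Subtype.val (Subgroup.mem_centralizer_singleton_iff.1 v.2))⟩
           map_one' := rfl
           map_mul' := fun _ _ => rfl } : D →* C) ?_
      intro a b hab
      exact Subtype.ext (Subtype.ext (congrArg Subtype.val hab :))
    rw [hj] at hdvd ⊢
    exact Nat.pow_le_pow_right hp.pos
      (hx ▸ (hp.pow_dvd_iff_le_factorization Nat.card_pos.ne').1 hdvd)

end Cfsg.Agent.S4587
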