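import Cfsg.Statements.S4591
import Cfsg.Agent.Lib.Block.PPrimeKernel
import Cfsg.Agent.Lib.Coprime.PGroupFrattini
import Cfsg.Agent.Lib.Fusion.Tate

set_option autoImplicit false
open Cfsg

namespace Cfsg.Agent.S4591

/-- Let G be a finite group, p a prime and P a Sylow p-subgroup, and let N be the largest normal subgroup of G in which P has trivial centralizer (N is normal with C_N(P) = 1 and contains every normal subgroup with that property). Then the intersection of the kernels of the irreducible characters of G of degree prime to p is the normal core in G of the subgroup N·P' (P' the derived subgroup of P). In particular, when G has no nontrivial normal subgroup of order prime to p, that intersection is the normal core of P'. -/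
theorem result {G : Type*} [Group G] [Finite G] (p : ℕ) [Fact p.Prime] (P : Sylow p G) (N : Subgroup G) [N.Normal]
    (hN : N ⊓ Subgroup.centralizer ((P : Subgroup G) : Set G) = ⊥)
    (hmax : ∀ L : Subgroup G, L.Normal → L ⊓ Subgroup.centralizer ((P : Subgroup G) : Set G) = ⊥ → L ≤ N) :
    {g : G | ∀ χ : Cfsg.IrrCharacter G, ¬ p ∣ Cfsg.charDegree (χ : G → ℂ) → (χ : G → ℂ) g = (χ : G → ℂ) 1} =
      ((N ⊔ ⁅(P : Subgroup G), (P : Subgroup G)⁆).normalCore : Set G) := by
  classical
  letI := Fintype.ofFinite G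
  haveI := Fintype.ofFinite (P : Subgroup G)
  haveI := Fintype.ofFinite N
  have hP : IsPGroup p (P : Subgroup G) := P.2
  -- the intersection of the kernels
  set K : Subgroup G :=
    { carrier := {g : G | ∀ χ : Cfsg.IrrCharacter G, ¬ p ∣ Cfsg.charDegree (χ : G → ℂ) → (χ : G → ℂ) g = (χ : G → ℂ) 1}
      one_mem' := fun _ _ => rfl
      mul_mem' := fun {a b} ha hb χ hχ => by
        rw [CfsgLib.Block.PPrimeKernel.mul_left_of_eq_degree (CfsgLib.Char.isCharacter_irr χ) (ha χ hχ)]
        exact hb χ hχ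
      inv_mem' := fun {a} ha χ hχ => by
        rw [← CfsgLib.Block.PPrimeKernel.mul_left_of_eq_degree (CfsgLib.Char.isCharacter_irr χ) (ha χ hχ) a⁻¹,
          mul_inv_cancel] } with hKdef
  haveI hKn : K.Normal := ⟨fun a ha g χ hχ => by
    rw [CfsgLib.Char.isClassFunction_irr χ a g]
    exact ha χ hχ⟩
  have hKmem : ∀ g : G, g ∈ K ↔ ∀ χ : Cfsg.IrrCharacter G, ¬ p ∣ Cfsg.charDegree (χ : G → ℂ) →
      (χ : G → ℂ) g = (χ : G → ℂ) 1 := fun g => Iff.rfl
  -- N is prime to p
  have hNp : ¬ p ∣ Nat.card N := by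
    intro hdvd
    let act : MulAction (P : Subgroup G) N :=
      { smul := fun u n => ⟨(u : G) * n * (u : G)⁻¹, Subgroup.Normal.conj_mem ‹_› _ n.2 _⟩
        one_smul := fun n => Subtype.ext (by show ((1 : G)) * n * (1 : G)⁻¹ = _; group)
        mul_smul := fun u v n => Subtype.ext (by
          show ((u : G) * v) * n * ((u : G) * v)⁻¹ = (u : G) * ((v : G) * n * (v : G)⁻¹) * (u : G)⁻¹
          group) }
    have hmod := hP.card_modEq_card_fixedPoints (α := N)
    have hfix : Subsingleton (MulAction.fixedPoints (P : Subgroup G) N) := by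
      refine ⟨fun a b => ?_⟩
      have h1 : ∀ a : MulAction.fixedPoints (P : Subgroup G) N, ((a : N) : G) = 1 := fun a => by
        have : ((a : N) : G) ∈ N ⊓ Subgroup.centralizer ((P : Subgroup G) : Set G) := by
          refine ⟨(a : N).2, Subgroup.mem_centralizer_iff.mpr fun u hu => ?_⟩
          exact mul_inv_eq_iff_eq_mul.mp (congrArg Subtype.val (a.2 ⟨u, hu⟩))
        rw [hN] at this
        exact this
      exact Subtype.ext (Subtype.ext ((h1 a).trans (h1 b).symm))
    haveI : Nonempty (MulAction.fixedPoints (P : Subgroup G) N) :=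
      ⟨⟨1, fun u => Subtype.ext (by show (u : G) * 1 * (u : G)⁻¹ = 1; group)⟩⟩
    rw [Nat.card_of_subsingleton (Classical.arbitrary (MulAction.fixedPoints (P : Subgroup G) N))] at hmod
    have h0 := (Nat.modEq_zero_iff_dvd.mpr hdvd).symm.trans hmod
    exact (Fact.out : p.Prime).not_dvd_one (Nat.modEq_zero_iff_dvd.mp h0.symm)
  have hNK : N ≤ K := fun n hn χ hχ =>
    CfsgLib.Block.PPrimeKernel.eq_degree_of_fixedPointFree N (P : Subgroup G) hP hNp hN χ hχ ⟨n, hn⟩
  have hcomm : ⁅(P : Subgroup G), (P : Subgroup G)⁆ = (commutator (P : Subgroup G)).map (P : Subgroup G).subtype :=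
    (Subgroup.map_subtype_commutator _).symm
  have hcle : ⁅(P : Subgroup G), (P : Subgroup G)⁆ ≤ (P : Subgroup G) :=
    hcomm ▸ Subgroup.map_subtype_le _
  have hNP : ∀ x : G, x ∈ N → x ∈ (P : Subgroup G) → x = 1 := by
    intro x hxN hxP
    have hd1 : orderOf x ∣ Nat.card N := Subgroup.orderOf_dvd_natCard _ hxN
    obtain ⟨k, hk⟩ := hP ⟨x, hxP⟩
    have hd2 : orderOf x ∣ p ^ k := orderOf_dvd_of_pow_eq_one (congrArg Subtype.val hk)
    obtain ⟨j, -, hj⟩ := (Nat.dvd_prime_pow (Fact.out : p.Prime)).mp hd2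
    rcases Nat.eq_zero_or_pos j with rfl | hjpos
    · rwa [pow_zero, orderOf_eq_one_iff] at hj
    · exact absurd ((dvd_pow_self p hjpos.ne').trans (hj ▸ hd1)) hNp
  -- the core lies in the kernels
  have hLK : (N ⊔ ⁅(P : Subgroup G), (P : Subgroup G)⁆).normalCore ≤ K := by
    intro l hl χ hχ
    set L := (N ⊔ ⁅(P : Subgroup G), (P : Subgroup G)⁆).normalCore with hL
    haveI : L.Normal := Subgroup.normalCore_normal _
    haveI := Fintype.ofFinite L
    set R := L ⊓ ⁅(P : Subgroup G), (P : Subgroup G)⁆ with hR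
    haveI := Fintype.ofFinite R
    have hNL : N ≤ L := Subgroup.normal_le_normalCore.mpr le_sup_left
    -- a linear constituent on P
    have hres : Cfsg.IsCharacter (P : Subgroup G) (fun x : (P : Subgroup G) => (χ : G → ℂ) x) :=
      CfsgLib.Char.isCharacter_comp (CfsgLib.Char.isCharacter_irr χ) (P : Subgroup G).subtype
    obtain ⟨φ, hφp, hφ⟩ := CfsgLib.Block.PPrimeKernel.exists_pprime_constituent (p := p) hres
      (n := Cfsg.charDegree (χ : G → ℂ)) (by simpa using (CfsgLib.Block.charDegree_eq χ).1) hχ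
    have hφ1 : (φ : ↥(P : Subgroup G) → ℂ) 1 = 1 := by
      have hd := CfsgLib.Char.degree_dvd_card φ (CfsgLib.Block.charDegree_eq φ).1
      obtain ⟨k, hk⟩ := IsPGroup.iff_card.mp hP
      rw [hk] at hd
      obtain ⟨j, -, hj⟩ := (Nat.dvd_prime_pow (Fact.out : p.Prime)).mp hd
      rcases Nat.eq_zero_or_pos j with rfl | hjpos
      · rw [(CfsgLib.Block.charDegree_eq φ).1, hj, pow_zero, Nat.cast_one]
      · exact absurd (hj ▸ dvd_pow_self p hjpos.ne') hφp
    obtain ⟨f, hf⟩ := CfsgLib.Char.exists_hom_of_linear (CfsgLib.Char.isCharacter_irr φ) hφ1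
    have hRP : R ≤ (P : Subgroup G) := inf_le_right.trans hcle
    let ι : R →* (P : Subgroup G) := Subgroup.inclusion hRP
    have hfR : ∀ r : R, (φ : ↥(P : Subgroup G) → ℂ) (ι r) = 1 := fun r => by
      have hr : (r : G) ∈ (commutator (P : Subgroup G)).map (P : Subgroup G).subtype := hcomm ▸ r.2.2
      obtain ⟨c, hc, e⟩ := hr
      have e' : c = ι r := Subtype.ext e
      have : f c = 1 := Abelianization.commutator_subset_ker f hc
      rw [congrFun hf, ← e', this, Units.val_one]
    have hsub := CfsgLib.Char.isCharacter_sub_constituent hres φ hφ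
    obtain ⟨a, ha⟩ := CfsgLib.Char.classInner_isCharacter
      (CfsgLib.Char.isCharacter_comp hsub ι) (CfsgLib.Char.isCharacter_of_isIrr
        (CfsgLib.Char.isIrrCharacter_one (G := R)))
    have hRne : Cfsg.classInner (fun r : R => (χ : G → ℂ) r) (fun _ => 1) ≠ 0 := by
      have e : (fun r : R => (χ : G → ℂ) r) =
          (fun r : R => ((fun x : (P : Subgroup G) => (χ : G → ℂ) x) - (φ : ↥(P : Subgroup G) → ℂ)) (ι r)) +
            fun _ => 1 := funext fun r => by
        simp only [Pi.add_apply, Pi.sub_apply, hfR, sub_add_cancel]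
        rfl
      rw [e, CfsgLib.Char.classInner_add_left, ha,
        CfsgLib.Char.classInner_irr_self (⟨_, CfsgLib.Char.isIrrCharacter_one⟩ : Cfsg.IrrCharacter R)]
      exact_mod_cast Nat.succ_ne_zero a
    -- the sum over L
    have hmul : ∀ (n : N) (r : R), (n : G) * r ∈ L := fun n r => mul_mem (hNL n.2) r.2.1
    have hsum : ∑ x : L, (χ : G → ℂ) x = (Nat.card N : ℂ) * ∑ r : R, (χ : G → ℂ) r := by
      rw [← Fintype.sum_bijective (fun x : N × R => (⟨(x.1 : G) * x.2, hmul x.1 x.2⟩ : L)) ?_
        (fun x : N × R => (χ : G → ℂ) x.2) (fun x : L => (χ : G → ℂ) x) fun x => ?_]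
      · simp only [Fintype.sum_prod_type, Finset.sum_const, Finset.card_univ, Nat.card_eq_fintype_card, nsmul_eq_mul]
      · refine ⟨fun x y hxy => ?_, fun x => ?_⟩
        · have e : (x.1 : G) * x.2 = y.1 * y.2 := congrArg Subtype.val hxy
          have e1 : (y.1 : G)⁻¹ * x.1 = y.2 * (x.2 : G)⁻¹ := by
            rw [eq_mul_inv_iff_mul_eq, mul_assoc, e, inv_mul_cancel_left]
          have e0 : (y.1 : G)⁻¹ * x.1 = 1 := hNP _ (mul_mem (inv_mem y.1.2) x.1.2)
            (e1 ▸ mul_mem (hRP y.2.2) (inv_mem (hRP x.2.2)))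
          have ex : (y.1 : G) = x.1 := inv_mul_eq_one.mp e0
          refine Prod.ext (Subtype.ext ex.symm) (Subtype.ext ?_)
          rw [← ex] at e
          exact mul_left_cancel e
        · have hx := Subgroup.normalCore_le _ x.2
          rw [← SetLike.mem_coe, Subgroup.normal_mul] at hx
          obtain ⟨n, hn, r, hr, e⟩ := hx
          have hrL : r ∈ L := by
            have : r = n⁻¹ * (x : G) := by rw [← e]; exact (inv_mul_cancel_left n r).symm
            rw [this]; exact mul_mem (inv_mem (hNL hn)) x.2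
          exact ⟨(⟨n, hn⟩, ⟨r, hrL, hr⟩), Subtype.ext e⟩
      · exact (CfsgLib.Block.PPrimeKernel.mul_left_of_eq_degree (CfsgLib.Char.isCharacter_irr χ)
          (hNK x.1.2 χ hχ) _).symm
    refine CfsgLib.Block.PPrimeKernel.eq_degree_of_trivial_constituent L χ ?_ ⟨l, hl⟩
    intro h0
    refine hRne ?_
    simp only [Cfsg.classInner, map_one, mul_one] at h0 ⊢
    rw [hsum] at h0
    rcases mul_eq_zero.mp h0 with h | h
    · exact absurd h (inv_ne_zero CfsgLib.Char.card_ne_zero')
    · rcases mul_eq_zero.mp h with h' | h'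
      · exact absurd h' CfsgLib.Char.card_ne_zero'
      · rw [h', mul_zero]
  -- K meets P inside the commutator subgroup
  have hPidx : ¬ p ∣ (P : Subgroup G).index := P.not_dvd_index
  have hKP : K ⊓ (P : Subgroup G) ≤ ⁅(P : Subgroup G), (P : Subgroup G)⁆ := by
    intro x hx
    rw [hcomm]
    by_contra hne
    have hne' : Abelianization.of (⟨x, hx.2⟩ : (P : Subgroup G)) ≠ 1 := fun h =>
      hne ⟨⟨x, hx.2⟩, (QuotientGroup.eq_one_iff _).1 h, rfl⟩
    obtain ⟨f, hf⟩ := CommGroup.exists_apply_ne_one_of_hasEnoughRootsOfUnity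
      (Abelianization (P : Subgroup G)) ℂ hne'
    exact hf (CfsgLib.Block.PPrimeKernel.lin_eq_one_of_forall (P : Subgroup G) hPidx
      (f.comp Abelianization.of) (x := ⟨x, hx.2⟩) hx.1)
  obtain ⟨S, M, hMn, hMS⟩ := CfsgLib.Fusion.hasNormalPComplement_of_inf_le_frattini P K (hKP.trans (hcomm.trans_le
    (Subgroup.map_mono (CfsgLib.Coprime.commutator_le_frattini hP))))
  have hMcard : ¬ p ∣ Nat.card M := by
    rw [← hMS.index_eq_card]
    exact S.not_dvd_index
  have hMidx : ∃ a : ℕ, M.index = p ^ a := by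
    obtain ⟨a, ha⟩ := IsPGroup.iff_card.mp S.2
    exact ⟨a, hMS.symm.index_eq_card.trans ha⟩
  have hMiff : ∀ x : K, x ∈ M ↔ ¬ p ∣ orderOf x := by
    intro x
    constructor
    · exact fun hx hdvd => hMcard (hdvd.trans (Subgroup.orderOf_dvd_natCard _ hx))
    · intro hx
      haveI := hMn
      rw [← QuotientGroup.eq_one_iff, ← orderOf_eq_one_iff]
      have h1 : orderOf (x : K ⧸ M) ∣ orderOf x := orderOf_map_dvd (QuotientGroup.mk' M) x
      obtain ⟨a, ha⟩ := hMidx
      have h2 : orderOf (x : K ⧸ M) ∣ p ^ a := ha ▸ (Subgroup.index_eq_card M).symm ▸ orderOf_dvd_natCard _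
      exact Nat.eq_one_of_dvd_coprimes
        ((Nat.Prime.coprime_iff_not_dvd Fact.out).mpr hx |>.pow_left a) h2 h1
  set M' : Subgroup G := M.map K.subtype with hM'
  haveI hM'n : M'.Normal := ⟨by
    rintro _ ⟨a, ha, rfl⟩ g
    refine ⟨⟨g * a * g⁻¹, hKn.conj_mem _ a.2 g⟩, ?_, rfl⟩
    refine (hMiff _).mpr ?_
    rw [← Subgroup.orderOf_coe]
    show ¬ p ∣ orderOf (g * (a : G) * g⁻¹)
    rw [show g * (a : G) * g⁻¹ = MulAut.conj g (a : G) from rfl, MulEquiv.orderOf_eq, Subgroup.orderOf_coe]
    exact (hMiff a).mp ha⟩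
  have hM'N : M' ≤ N := by
    refine hmax M' hM'n (eq_bot_iff.mpr fun c hc => ?_)
    by_contra hc1
    rw [Subgroup.mem_bot] at hc1
    obtain ⟨⟨cK, hcM, rfl⟩, hcC⟩ := hc
    set c : G := K.subtype cK with hcdef
    have hcp : ¬ p ∣ orderOf c := by
      rw [hcdef, Subgroup.subtype_apply, Subgroup.orderOf_coe]; exact (hMiff cK).mp hcM
    have hcomm2 : ∀ (u : (P : Subgroup G)) (z : Subgroup.zpowers c), Commute (u : G) (z : G) := by
      rintro u ⟨z, k, rfl⟩
      exact Commute.zpow_right (Subgroup.mem_centralizer_iff.mp hcC u u.2) k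
    set F : ↥(P : Subgroup G) × ↥(Subgroup.zpowers c) →* G :=
      MonoidHom.noncommCoprod (P : Subgroup G).subtype (Subgroup.zpowers c).subtype hcomm2 with hF
    have hFinj : Function.Injective F := by
      rw [injective_iff_map_eq_one]
      rintro ⟨u, z⟩ h
      have h' : (u : G) * (z : G) = 1 := h
      have hz : (z : G) = 1 := by
        have hzP : (z : G) ∈ (P : Subgroup G) := by
          rw [eq_inv_of_mul_eq_one_right h']; exact inv_mem u.2
        obtain ⟨k, hk⟩ := hP ⟨z, hzP⟩
        rw [← orderOf_eq_one_iff]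
        exact Nat.eq_one_of_dvd_coprimes ((Nat.Prime.coprime_iff_not_dvd Fact.out).mpr hcp |>.pow_left k)
          (orderOf_dvd_of_pow_eq_one (congrArg Subtype.val hk))
          (orderOf_dvd_of_mem_zpowers z.2)
      rw [hz, mul_one] at h'
      exact Prod.ext (Subtype.ext h') (Subtype.ext hz)
    have hne : (⟨c, Subgroup.mem_zpowers c⟩ : Subgroup.zpowers c) ≠ 1 := fun h => hc1 (congrArg Subtype.val h)
    letI : CommGroup (Subgroup.zpowers c) :=
      { (inferInstance : Group (Subgroup.zpowers c)) with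
        mul_comm := fun a b => Subtype.ext (Subgroup.mem_zpowers_iff.mp a.2 |>.elim fun i hi =>
          Subgroup.mem_zpowers_iff.mp b.2 |>.elim fun j hj => by
            rw [Subgroup.coe_mul, Subgroup.coe_mul, ← hi, ← hj, ← zpow_add, ← zpow_add, add_comm]) }
    obtain ⟨f, hf⟩ := CommGroup.exists_apply_ne_one_of_hasEnoughRootsOfUnity (Subgroup.zpowers c) ℂ hne
    set e := MonoidHom.ofInjective hFinj with he
    have hidx : ¬ p ∣ F.range.index := fun h => hPidx (h.trans (Subgroup.index_dvd_of_le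
      fun u hu => ⟨(⟨u, hu⟩, 1), mul_one u⟩))
    have hcF : F (1, ⟨c, Subgroup.mem_zpowers c⟩) = c := one_mul c
    have hval := CfsgLib.Block.PPrimeKernel.lin_eq_one_of_forall F.range hidx
      ((f.comp (MonoidHom.snd _ _)).comp e.symm.toMonoidHom)
      (x := e (1, ⟨c, Subgroup.mem_zpowers c⟩))
      (by
        intro χ hχ
        rw [show ((e (1, ⟨c, Subgroup.mem_zpowers c⟩) : F.range) : G) = c from hcF]
        exact cK.2 χ hχ)
    exact hf (by simpa using hval)
  have hKle : K ≤ N ⊔ ⁅(P : Subgroup G), (P : Subgroup G)⁆ := by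
    have hS : K ≤ M' ⊔ (K ⊓ (P : Subgroup G)) := by
      have hMK : M' ≤ K := Subgroup.map_subtype_le M
      set S' := M' ⊔ (K ⊓ (P : Subgroup G)) with hS'
      obtain ⟨a, ha⟩ := hMidx
      have h1 : S'.relIndex K ∣ p ^ a := by
        have : M'.relIndex K = M.index := by
          rw [Subgroup.relIndex, hM', Subgroup.subgroupOf,
            Subgroup.comap_map_eq_self_of_injective K.subtype_injective]
        rw [← ha, ← this]
        exact Subgroup.relIndex_dvd_of_le_left K le_sup_left
      have h2 : S'.relIndex K ∣ (P : Subgroup G).index := by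
        refine (Subgroup.relIndex_dvd_of_le_left K (le_sup_right : K ⊓ (P : Subgroup G) ≤ S')).trans ?_
        have hcard : (K ⊓ (P : Subgroup G)).relIndex K = (P : Subgroup G).relIndex (K ⊔ (P : Subgroup G)) := by
          have e1 := Subgroup.card_mul_index ((K ⊓ (P : Subgroup G)).subgroupOf K)
          have e2 := Subgroup.card_mul_index ((P : Subgroup G).subgroupOf (K ⊔ (P : Subgroup G)))
          have e3 := Subgroup.card_mul_index (K.subgroupOf (K ⊔ (P : Subgroup G)))
          have e4 := Subgroup.card_mul_index ((K ⊓ (P : Subgroup G)).subgroupOf (P : Subgroup G))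
          rw [Nat.card_congr (Subgroup.subgroupOfEquivOfLe inf_le_left).toEquiv] at e1
          rw [Nat.card_congr (Subgroup.subgroupOfEquivOfLe le_sup_right).toEquiv] at e2
          rw [Nat.card_congr (Subgroup.subgroupOfEquivOfLe le_sup_left).toEquiv] at e3
          rw [Nat.card_congr (Subgroup.subgroupOfEquivOfLe inf_le_right).toEquiv] at e4
          have e5 : K.relIndex (K ⊔ (P : Subgroup G)) = (K ⊓ (P : Subgroup G)).relIndex (P : Subgroup G) := by
            rw [Subgroup.relIndex_sup_left, Subgroup.inf_relIndex_right]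
          change _ * (K ⊓ (P : Subgroup G)).relIndex K = _ at e1
          change _ * (P : Subgroup G).relIndex (K ⊔ (P : Subgroup G)) = _ at e2
          change _ * K.relIndex (K ⊔ (P : Subgroup G)) = _ at e3
          change _ * (K ⊓ (P : Subgroup G)).relIndex (P : Subgroup G) = _ at e4
          rw [← e2, e5, ← e1, ← e4] at e3
          have hpos : 0 < Nat.card ↥(K ⊓ (P : Subgroup G)) * (K ⊓ (P : Subgroup G)).relIndex (P : Subgroup G) :=
            e4 ▸ Nat.card_pos
          refine Nat.eq_of_mul_eq_mul_left hpos ?_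
          linarith [e3]
        rw [hcard]
        exact ⟨(K ⊔ (P : Subgroup G)).index, (Subgroup.relIndex_mul_index le_sup_right).symm⟩
      have h3 : S'.relIndex K = 1 := Nat.eq_one_of_dvd_coprimes
        ((Nat.Prime.coprime_iff_not_dvd Fact.out).mpr hPidx |>.pow_left a) h1 h2
      exact Subgroup.relIndex_eq_one.mp h3
    exact hS.trans (sup_le (hM'N.trans le_sup_left) (hKP.trans le_sup_right))
  exact congrArg _ (le_antisymm (Subgroup.normal_le_normalCore.mpr hKle) hLK)

end Cfsg.Agent.S4591
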