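import Cfsg.Statements.S4594
import Cfsg.Agent.Lib.QuasiFour.Faithful
import Cfsg.Agent.Lib.QuasiFour.Simple

set_option autoImplicit false
open Cfsg

namespace Cfsg.Agent.S4594

/-- Let G be a finite quasisimple group with a non-abelian Sylow 2-subgroup P whose centre has index 4 in P. Then P has order 8, and G is isomorphic to the alternating group on 7 letters, or G has centre of order 3 with central quotient isomorphic to the alternating group on 7 letters, or the central quotient of G is isomorphic to PSL(2, F) for some finite field F of odd order. -/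
theorem result {G : Type*} [Group G] [Finite G] (hq : Cfsg.IsQuasisimple G) (P : Sylow 2 G) (hna : ¬ IsMulCommutative (P : Subgroup G)) (hZ : (Subgroup.center (P : Subgroup G)).index = 4) :
    Nat.card (P : Subgroup G) = 8 ∧
      (Nonempty (G ≃* alternatingGroup (Fin 7)) ∨
       (Nat.card (Subgroup.center G) = 3 ∧ Nonempty (G ⧸ Subgroup.center G ≃* alternatingGroup (Fin 7))) ∨
       ∃ (F : Type) (_ : Field F) (_ : Fintype F), Odd (Fintype.card F) ∧ Nonempty (G ⧸ Subgroup.center G ≃* Matrix.ProjectiveSpecialLinearGroup (Fin 2) F)) := by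
  classical
  by_cases hW : (P : Subgroup G) ⊓ Subgroup.center G = ⊥
  · haveI := hq.2
    set Q : Sylow 2 (G ⧸ Subgroup.center G) :=
      P.mapSurjective (QuotientGroup.mk'_surjective (Subgroup.center G)) with hQdef
    have φ := CfsgLib.QuasiFour.sylowQuotEquiv P hW
    have hnaQ : ¬ IsMulCommutative (Q : Subgroup (G ⧸ Subgroup.center G)) := fun h =>
      hna ⟨⟨fun a b => φ.injective (by rw [map_mul, map_mul]; exact h.is_comm.comm _ _)⟩⟩
    have hZQ : (Subgroup.center (Q : Subgroup (G ⧸ Subgroup.center G))).index = 4 := by
      have hmap : (Subgroup.center (P : Subgroup G)).map φ.toMonoidHom =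
          Subgroup.center (Q : Subgroup (G ⧸ Subgroup.center G)) := by
        ext x
        obtain ⟨x, rfl⟩ := φ.surjective x
        rw [Subgroup.mem_map_equiv, φ.symm_apply_apply]
        rw [Subgroup.mem_center_iff, Subgroup.mem_center_iff]
        exact ⟨fun h y => by
          obtain ⟨y, rfl⟩ := φ.surjective y
          rw [← map_mul, ← map_mul, h y], fun h y => φ.injective (by rw [map_mul, map_mul]; exact h _)⟩
      rw [← hmap]
      exact (Subgroup.index_map_equiv _ φ).trans hZ
    obtain ⟨e⟩ := CfsgLib.QuasiFour.dihedral_eight_of_center_index_four Q hnaQ hZQ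
    exact CfsgLib.QuasiFour.faithful_case hq P hW e
  · obtain ⟨h8, h⟩ := CfsgLib.QuasiFour.central_case hq P hna hZ hW
    exact ⟨h8, Or.inr (Or.inr h)⟩

end Cfsg.Agent.S4594
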