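import Cfsg.Statements.S4601
import Cfsg.Agent.Lib.PGroup.PSolvable
import Cfsg.Agent.Lib.Coprime.Action

set_option autoImplicit false
open Cfsg

namespace Cfsg.Agent.S4601

universe u

open Subgroup in
theorem relIndex_sup_eq {G : Type*} [Group G] [Finite G] {N L : Subgroup G} [N.Normal] :
    L.relIndex (N ⊔ L) = L.relIndex N := by
  have h1 := relIndex_mul_index (inf_le_left : N ⊓ L ≤ N)
  have h2 := relIndex_mul_index (inf_le_right : N ⊓ L ≤ L)
  have h3 := relIndex_mul_index (le_sup_left : N ≤ N ⊔ L)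
  have h4 := relIndex_mul_index (le_sup_right : L ≤ N ⊔ L)
  rw [inf_relIndex_left] at h1
  rw [inf_relIndex_right] at h2
  rw [relIndex_sup_left] at h3
  refine Nat.eq_of_mul_eq_mul_left (Nat.pos_of_ne_zero (index_ne_zero_of_finite (H := N.subgroupOf L)))
    (Nat.eq_of_mul_eq_mul_right (Nat.pos_of_ne_zero (index_ne_zero_of_finite (H := N ⊔ L))) ?_)
  show N.relIndex L * L.relIndex (N ⊔ L) * (N ⊔ L).index = N.relIndex L * L.relIndex N * (N ⊔ L).index
  calc N.relIndex L * L.relIndex (N ⊔ L) * (N ⊔ L).index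
      = N.relIndex L * L.index := by rw [mul_assoc, h4]
    _ = L.relIndex N * N.index := by rw [h2, h1]
    _ = L.relIndex N * (N.relIndex L * (N ⊔ L).index) := by rw [h3]
    _ = _ := by ring

open Subgroup CfsgLib in
theorem exists_sylow_in_centralizer {G : Type*} [Group G] [Finite G] (p : ℕ) [Fact p.Prime] {N : Subgroup G}
    [N.Normal] (y : G) (h : ¬ p ∣ (centralizer ({y} : Set G)).index) :
    ∃ R' : Subgroup G, CfsgLib.Coprime.IsSylowIn p R' N ∧ R' ≤ centralizer ({y} : Set G) := by
  have hC : ¬ p ∣ (N ⊓ centralizer ({y} : Set G)).relIndex N := by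
    rw [inf_relIndex_left, ← relIndex_sup_eq (N := N) (L := centralizer ({y} : Set G))]
    exact fun hd => h (hd.trans (relIndex_dvd_index_of_le le_sup_right))
  obtain ⟨S⟩ : Nonempty (Sylow p (N ⊓ centralizer ({y} : Set G) : Subgroup G)) := inferInstance
  have hle := map_subtype_le (S : Subgroup (N ⊓ centralizer ({y} : Set G) : Subgroup G))
  refine ⟨_, ⟨hle.trans inf_le_left, ?_⟩, hle.trans inf_le_right⟩
  rw [(CfsgLib.Coprime.isSylowIn_map S).2]
  have h1 := relIndex_mul_relIndex (⊥ : Subgroup G) (N ⊓ centralizer ({y} : Set G)) N bot_le inf_le_left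
  rw [relIndex_bot_left, relIndex_bot_left] at h1
  rw [← h1, Nat.factorization_mul Nat.card_pos.ne' (fun h0 => hC (by rw [h0]; exact dvd_zero p)),
    Finsupp.add_apply, Nat.factorization_eq_zero_of_not_dvd hC, add_zero]

open Subgroup CfsgLib in
theorem le_centralizer_sylow {G : Type*} [Group G] [Finite G] (p q : ℕ) [Fact p.Prime] [Fact q.Prime]
    {N R : Subgroup G} [N.Normal] (Q : Sylow q G) (hQN : (Q : Subgroup G) ≤ normalizer (N : Set G))
    (hcop : (Nat.card (Q : Subgroup G)).Coprime (Nat.card N)) (hR : CfsgLib.Coprime.IsSylowIn p R N)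
    (hRQ : (Q : Subgroup G) ≤ normalizer (R : Set G))
    (h : ∀ y : G, (∃ k : ℕ, orderOf y = q ^ k) → ¬ p ∣ (centralizer ({y} : Set G)).index) :
    R ≤ centralizer ((Q : Subgroup G) : Set G) := by
  intro r hr
  rw [mem_centralizer_iff]
  intro y hy
  obtain ⟨a, ha⟩ := (IsPGroup.iff_orderOf (p := q)).1 Q.isPGroup' ⟨y, hy⟩
  rw [Subgroup.orderOf_mk] at ha
  obtain ⟨R', hR'N, hR'C⟩ := exists_sylow_in_centralizer (N := N) p y (h y ⟨a, ha⟩)
  have hAQ : zpowers y ≤ (Q : Subgroup G) := zpowers_le.2 hy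
  have hcopA : (Nat.card (zpowers y)).Coprime (Nat.card N) := hcop.coprime_dvd_left (card_dvd_of_le hAQ)
  have hsA : Group.IsSolvable (zpowers y) ∨ Group.IsSolvable N :=
    Or.inl (CfsgLib.Coprime.isSolvable_of_isMulCommutative inferInstance)
  have hcent : R' ≤ centralizer ((zpowers y : Subgroup G) : Set G) := by
    rw [zpowers_eq_closure, centralizer_closure]
    exact hR'C
  obtain ⟨c, hc, hcR⟩ := CfsgLib.Coprime.invariant_sylow_conj (hAQ.trans hQN) hcopA hsA hR'N hR
    ((le_centralizer_iff.1 hcent).trans (CfsgLib.Coprime.centralizer_le_normalizer_self R'))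
    (hAQ.trans hRQ)
  have hcent2 : R ≤ centralizer ((zpowers y : Subgroup G) : Set G) := by
    rw [← hcR]
    rintro _ ⟨x, hx, rfl⟩
    exact mul_mem (mul_mem hc.2 (hcent hx)) (inv_mem hc.2)
  exact mem_centralizer_iff.1 (hcent2 hr) y (mem_zpowers y)

open Subgroup CfsgLib in
theorem key (p q : ℕ) [Fact p.Prime] [Fact q.Prime] : ∀ (n : ℕ) (G : Type u) [Group G] [Finite G],
    Nat.card G = n → (Cfsg.IsPSolvable p G ∨ Cfsg.IsPSolvable q G) →
    (∀ y : G, (∃ k : ℕ, orderOf y = q ^ k) → ¬ p ∣ (centralizer ({y} : Set G)).index) →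
    ∃ Q : Sylow q G, ¬ p ∣ (normalizer ((Q : Subgroup G) : Set G)).index := by
  intro n
  induction n using Nat.strongRecOn with
  | ind n ih =>
    intro G _ _ hn hsolv h
    rcases subsingleton_or_nontrivial G with hs | hnt
    · refine ⟨default, fun hd => ?_⟩
      have h1 : (normalizer (((default : Sylow q G) : Subgroup G) : Set G)).index = 1 :=
        Nat.dvd_one.1 ((index_dvd_card _).trans (by rw [Nat.card_unique]))
      rw [h1] at hd
      exact (Fact.out : p.Prime).not_dvd_one hd
    -- a normal subgroup of the first kind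
    obtain ⟨N, hNn, hNb, hN⟩ : ∃ N : Subgroup G, N.Normal ∧ N ≠ ⊥ ∧
        (¬ p ∣ Nat.card N ∨ ¬ q ∣ Nat.card N ∨ IsPGroup q N) := by
      rcases hsolv with hs | hs
      · rcases CfsgLib.PGroup.pCore_ne_bot_or_pPrimeCore_ne_bot hs with h0 | h0
        · refine ⟨Cfsg.pCore p G, inferInstance, h0, ?_⟩
          have hP := CfsgLib.Coprime.pCore_isPGroup (G := G) p
          by_cases hpq : p = q
          · exact Or.inr (Or.inr (hpq ▸ hP))
          · obtain ⟨k, hk⟩ := IsPGroup.iff_card.1 hP
            refine Or.inr (Or.inl fun hd => hpq ?_)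
            rw [hk] at hd
            exact ((Nat.prime_dvd_prime_iff_eq Fact.out Fact.out).1 ((Fact.out : q.Prime).dvd_of_dvd_pow hd)).symm
        · exact ⟨Cfsg.pPrimeCore p G, inferInstance, h0, Or.inl fun hd =>
            (Fact.out : p.Prime).coprime_iff_not_dvd.1 (CfsgLib.Coprime.pPrimeCore_coprime Fact.out).symm hd⟩
      · rcases CfsgLib.PGroup.pCore_ne_bot_or_pPrimeCore_ne_bot hs with h0 | h0
        · exact ⟨Cfsg.pCore q G, inferInstance, h0, Or.inr (Or.inr (CfsgLib.Coprime.pCore_isPGroup q))⟩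
        · exact ⟨Cfsg.pPrimeCore q G, inferInstance, h0, Or.inr (Or.inl fun hd =>
            (Fact.out : q.Prime).coprime_iff_not_dvd.1 (CfsgLib.Coprime.pPrimeCore_coprime Fact.out).symm hd)⟩
    haveI := hNn
    let π := QuotientGroup.mk' N
    have hπ : Function.Surjective π := QuotientGroup.mk'_surjective N
    have hlt : Nat.card (G ⧸ N) < n := by
      rw [← hn, N.card_eq_card_quotient_mul_card_subgroup]
      exact lt_mul_of_one_lt_right Nat.card_pos ((N.one_lt_card_iff_ne_bot).2 hNb)
    obtain ⟨Qb, hQb⟩ := ih _ hlt (G ⧸ N) rfl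
      (hsolv.imp (fun hs => CfsgLib.PGroup.isPSolvable_quotient Fact.out hs N)
        (fun hs => CfsgLib.PGroup.isPSolvable_quotient Fact.out hs N)) (by
        rintro yb ⟨k, hk⟩ hd
        obtain ⟨Qy, hQy⟩ := (IsPGroup.of_card (n := k) (by rw [Nat.card_zpowers, hk]) :
          IsPGroup q (zpowers yb)).exists_le_sylow
        obtain ⟨Q₀, rfl⟩ := Sylow.mapSurjective_surjective hπ q Qy
        obtain ⟨y, hy, rfl⟩ := hQy (mem_zpowers yb)
        obtain ⟨a, ha⟩ := IsPGroup.iff_orderOf.1 Q₀.isPGroup' ⟨y, hy⟩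
        refine h y ⟨a, by rw [← ha, Subgroup.orderOf_mk]⟩ ?_
        refine hd.trans ((index_dvd_of_le ?_).trans ((centralizer ({y} : Set G)).index_map_dvd hπ))
        rintro _ ⟨c, hc, rfl⟩
        rw [mem_centralizer_singleton_iff, ← map_mul, ← map_mul, mem_centralizer_singleton_iff.1 hc])
    obtain ⟨Q, rfl⟩ := Sylow.mapSurjective_surjective hπ q Qb
    refine ⟨Q, ?_⟩
    set L := normalizer ((Q : Subgroup G) : Set G) with hL
    set M := (normalizer (((Q.mapSurjective hπ : Sylow q (G ⧸ N)) : Subgroup (G ⧸ N)) : Set (G ⧸ N))).comap π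
      with hM
    have hMi : ¬ p ∣ M.index := by rwa [hM, index_comap_of_surjective _ hπ]
    have hML : M ≤ N ⊔ L := by
      set X := (Q : Subgroup G) ⊔ N
      have hX : M ≤ normalizer (X : Set G) := by
        intro m hm
        rw [← CfsgLib.Coprime.conjBy_eq_self_iff]
        have hker : π.ker = N := QuotientGroup.ker_mk' N
        have hX' : ((Q : Subgroup G).map π).comap π = X := by rw [comap_map_eq, hker]
        rw [← hX']
        ext x
        rw [CfsgLib.Coprime.mem_conjBy, mem_comap, mem_comap, map_mul, map_mul, map_inv]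
        exact ((mem_normalizer_iff''.1 (hm : π m ∈ _) (π x))).symm
      intro m hm
      have hQX : CfsgLib.Coprime.IsSylowIn q (Q : Subgroup G) X := by
        refine ⟨le_sup_left, ?_⟩
        have h1 := card_dvd_of_le (le_sup_left : (Q : Subgroup G) ≤ X)
        have h2 := card_subgroup_dvd_card X
        rw [Q.card_eq_multiplicity] at h1 ⊢
        exact congrArg (q ^ ·) (le_antisymm (((Fact.out : q.Prime).pow_dvd_iff_le_factorization
          Nat.card_pos.ne').1 h1) ((Nat.factorization_le_iff_dvd Nat.card_pos.ne' Nat.card_pos.ne').2 h2 q))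
      obtain ⟨x, hx, hxQ⟩ := hQX.exists_conj (hQX.conjBy (hX hm))
      have hmem : x⁻¹ * m ∈ L := by
        rw [hL, ← CfsgLib.Coprime.conjBy_eq_self_iff, ← CfsgLib.Coprime.conjBy_conjBy, ← hxQ,
          CfsgLib.Coprime.conjBy_conjBy, inv_mul_cancel, CfsgLib.Coprime.conjBy_one]
      have hXle : X ≤ N ⊔ L := sup_le (le_normalizer.trans le_sup_right) le_sup_left
      have := mul_mem (hXle hx) ((le_sup_right : L ≤ N ⊔ L) hmem)
      rwa [mul_inv_cancel_left] at this
    have hLN : ¬ p ∣ L.relIndex N := by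
      rcases hN with h0 | h0 | h0
      · exact fun hd => h0 (hd.trans (relIndex_dvd_card L N))
      · have hQN : (Q : Subgroup G) ≤ normalizer (N : Set G) := by rw [normalizer_eq_top]; exact le_top
        have hcop : (Nat.card (Q : Subgroup G)).Coprime (Nat.card N) := by
          rw [Q.card_eq_multiplicity]
          exact Nat.Coprime.pow_left _ ((Fact.out : q.Prime).coprime_iff_not_dvd.2 h0)
        obtain ⟨R, hR, hRQ⟩ := CfsgLib.Coprime.exists_invariant_sylow hQN hcop
          (Or.inl (CfsgLib.Coprime.isSolvable_of_isNilpotent Q.isPGroup'.isNilpotent)) p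
        have hRL : R ≤ L := by
          refine le_trans ?_ (CfsgLib.Coprime.centralizer_le_normalizer_self _)
          exact le_centralizer_sylow p q Q hQN hcop hR hRQ h
        intro hd
        have h1 := hd.trans (relIndex_dvd_of_le_left N hRL)
        have h2 := relIndex_mul_relIndex (⊥ : Subgroup G) R N bot_le hR.1
        rw [relIndex_bot_left, relIndex_bot_left, hR.2] at h2
        have h3 : p ^ ((Nat.card N).factorization p + 1) ∣ Nat.card N :=
          (pow_succ p _) ▸ (mul_dvd_mul_left _ h1).trans h2.dvd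
        have h4 := ((Fact.out : p.Prime).pow_dvd_iff_le_factorization Nat.card_pos.ne').1 h3
        omega
      · have hNQ : N ≤ L := by
          obtain ⟨S, hS⟩ := h0.exists_le_sylow
          obtain ⟨g, hg⟩ := MulAction.exists_smul_eq G S Q
          refine le_trans ?_ le_normalizer
          rw [← hg, Sylow.coe_subgroup_smul]
          exact le_trans (le_of_eq (Subgroup.Normal.conj_smul_eq_self g N).symm) (map_mono hS)
        rw [relIndex_eq_one.2 hNQ]
        exact (Fact.out : p.Prime).not_dvd_one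
    intro hd
    rw [← relIndex_mul_index (le_sup_right : L ≤ N ⊔ L), relIndex_sup_eq] at hd
    rcases (Fact.out : p.Prime).dvd_mul.1 hd with hd | hd
    · exact hLN hd
    · exact hMi (hd.trans (index_dvd_of_le hML))

/-- Let p and q be primes and G a finite group that is p-solvable or q-solvable, in which no q-element has conjugacy class size divisible by p. Then some Sylow p-subgroup of G normalizes some Sylow q-subgroup of G. -/
theorem result {G : Type*} [Group G] [Finite G] (p q : ℕ) [Fact p.Prime] [Fact q.Prime] (hsolv : Cfsg.IsPSolvable p G ∨ Cfsg.IsPSolvable q G)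
    (h : ∀ y : G, (∃ k : ℕ, orderOf y = q ^ k) → ¬ p ∣ (Subgroup.centralizer ({y} : Set G)).index) :
    ∃ (P : Sylow p G) (Q : Sylow q G), (P : Subgroup G) ≤ Subgroup.normalizer ((Q : Subgroup G) : Set G) := by
  obtain ⟨Q, hQ⟩ := key p q _ G rfl hsolv h
  set L := Subgroup.normalizer ((Q : Subgroup G) : Set G)
  obtain ⟨P₀⟩ : Nonempty (Sylow p L) := inferInstance
  refine ⟨Sylow.ofCard ((P₀ : Subgroup L).map L.subtype) ?_, Q, ?_⟩
  · rw [Subgroup.card_map_of_injective L.subtype_injective, P₀.card_eq_multiplicity, ← L.card_mul_index,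
      Nat.factorization_mul Nat.card_pos.ne' Subgroup.index_ne_zero_of_finite, Finsupp.add_apply,
      Nat.factorization_eq_zero_of_not_dvd hQ, add_zero]
  · exact Subgroup.map_subtype_le _

end Cfsg.Agent.S4601
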