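import Cfsg.Statements.S4602
import Mathlib
import Cfsg.Agent.Lib.Fusion.PrimeCoreQuotient
import Cfsg.Agent.Lib.Coprime.Core
import Cfsg.Agent.Lib.Block.PSolvableOne

set_option autoImplicit false
open Cfsg

namespace Cfsg.Agent.S4602

/-- Let G be a finite p-solvable group and q a prime different from p. Some Sylow p-subgroup of G normalizes some Sylow q-subgroup of G if and only if q does not divide the order of G/O_{p'}(G), the quotient by the largest normal subgroup of order prime to p. -/
theorem result {G : Type*} [Group G] [Finite G] (p q : ℕ) [Fact p.Prime] [Fact q.Prime] (hpq : p ≠ q) (hsolv : Cfsg.IsPSolvable p G) :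
    (∃ (P : Sylow p G) (Q : Sylow q G), (P : Subgroup G) ≤ Subgroup.normalizer ((Q : Subgroup G) : Set G)) ↔ ¬ q ∣ (Cfsg.pPrimeCore p G).index := by
  classical
  have hp : p.Prime := Fact.out
  have hq : q.Prime := Fact.out
  set O := Cfsg.pPrimeCore p G with hO
  haveI : O.Characteristic := CfsgLib.Coprime.pPrimeCore_characteristic (G := G) p
  constructor
  · rintro ⟨P, Q, hPQ⟩
    set f := QuotientGroup.mk' O with hf
    have hfs : Function.Surjective f := QuotientGroup.mk'_surjective O
    set R := Cfsg.pCore p (G ⧸ O) with hR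
    haveI hRn : R.Normal := CfsgLib.Coprime.pCore_normal' p
    have hCR := CfsgLib.Block.centralizer_pCore_le_of_isPSolvable
      (CfsgLib.Fusion.isPSolvable_of_surjective f hfs hsolv)
      (CfsgLib.Coprime.pPrimeCore_quotient_eq_bot hp)
    have hRp : IsPGroup p R := CfsgLib.Coprime.pCore_isPGroup p
    set Pb := P.mapSurjective hfs with hPb
    have hRP : R ≤ (Pb : Subgroup (G ⧸ O)) :=
      sup_eq_left.mp (Pb.is_maximal' (IsPGroup.to_sup_of_normal_right Pb.2 hRp) le_sup_left)
    have hQbq : IsPGroup q ((Q : Subgroup G).map f) := Q.2.map f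
    have hPbN : (Pb : Subgroup (G ⧸ O)) ≤
        Subgroup.normalizer (((Q : Subgroup G).map f : Subgroup (G ⧸ O)) : Set (G ⧸ O)) := by
      rw [hPb, Sylow.coe_mapSurjective]
      exact (Subgroup.map_mono hPQ).trans (Subgroup.le_normalizer_map f)
    have hQC : (Q : Subgroup G).map f ≤ Subgroup.centralizer (R : Set (G ⧸ O)) := by
      intro t ht
      rw [Subgroup.mem_centralizer_iff]
      intro r hr
      have h1 : r * t * r⁻¹ * t⁻¹ ∈ R := by
        have h := R.mul_mem hr (hRn.conj_mem _ (inv_mem hr) t)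
        simpa [mul_assoc] using h
      have h2 : r * t * r⁻¹ * t⁻¹ ∈ (Q : Subgroup G).map f :=
        mul_mem ((Subgroup.mem_normalizer_iff.mp (hPbN (hRP hr)) t).mp ht) (inv_mem ht)
      have h3 : r * t * r⁻¹ * t⁻¹ = 1 :=
        Subgroup.disjoint_def.mp (IsPGroup.disjoint_of_ne p q hpq _ _ hRp hQbq) h1 h2
      calc r * t = r * t * r⁻¹ * t⁻¹ * (t * r) := by group
        _ = t * r := by rw [h3, one_mul]
    have hQbot : (Q : Subgroup G).map f = ⊥ :=
      (disjoint_self.mp ((IsPGroup.disjoint_of_ne p q hpq _ _ hRp hQbq).mono_left (hQC.trans hCR)))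
    have hQO : (Q : Subgroup G) ≤ O := by
      intro x hx
      have : f x ∈ (Q : Subgroup G).map f := ⟨x, hx, rfl⟩
      rw [hQbot, Subgroup.mem_bot] at this
      exact (QuotientGroup.eq_one_iff x).mp this
    exact fun h => Q.not_dvd_index (h.trans (Subgroup.index_dvd_of_le hQO))
  · intro hnd
    obtain ⟨Q⟩ : Nonempty (Sylow q G) := inferInstance
    have hQO : (Q : Subgroup G) ≤ O := by
      have h1 : IsPGroup q ((Q : Subgroup G).map (QuotientGroup.mk' O)) := Q.2.map _
      obtain ⟨k, hk⟩ := IsPGroup.iff_card.mp h1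
      have h2 : Nat.card ((Q : Subgroup G).map (QuotientGroup.mk' O)) ∣ O.index :=
        Subgroup.card_subgroup_dvd_card _
      have hk0 : k = 0 := by
        by_contra h
        exact hnd ((dvd_pow_self q h).trans (hk ▸ h2))
      rw [hk0, pow_zero] at hk
      intro x hx
      have : QuotientGroup.mk' O x ∈ (Q : Subgroup G).map (QuotientGroup.mk' O) := ⟨x, hx, rfl⟩
      rw [Subgroup.eq_bot_of_card_eq _ hk, Subgroup.mem_bot] at this
      exact (QuotientGroup.eq_one_iff x).mp this
    set N := Subgroup.normalizer ((Q : Subgroup G) : Set G) with hN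
    have htop : N ⊔ O = ⊤ := Sylow.normalizer_sup_eq_top' Q hQO
    have hdvd : N.index ∣ Nat.card O := by
      have h := Subgroup.relIndex_sup_right N O
      rw [htop, Subgroup.relIndex_top_right] at h
      refine ⟨Nat.card (O ⊓ N : Subgroup G), ?_⟩
      have h1 : O.relIndex N * Nat.card (O ⊓ N : Subgroup G) = Nat.card N := by
        rw [← Subgroup.inf_relIndex_right, ← Subgroup.relIndex_bot_left, ← Subgroup.relIndex_bot_left,
          mul_comm, Subgroup.relIndex_mul_relIndex _ _ _ bot_le inf_le_right]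
      have h2 := Subgroup.index_mul_card O
      have h3 := Subgroup.index_mul_card N
      rw [← h1, ← h, ← h2] at h3
      refine Nat.eq_of_mul_eq_mul_left (Nat.pos_of_ne_zero O.index_ne_zero_of_finite) ?_
      rw [← h3]
      ring
    obtain ⟨P₀⟩ : Nonempty (Sylow p N) := inferInstance
    have hcop : ¬ p ∣ N.index := fun h =>
      hp.coprime_iff_not_dvd.mp (CfsgLib.Coprime.pPrimeCore_coprime hp).symm (h.trans hdvd)
    have hidx : ¬ p ∣ ((P₀ : Subgroup N).map N.subtype).index := by
      rw [Subgroup.index_map_subtype]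
      exact fun h => (hp.dvd_mul.mp h).elim P₀.not_dvd_index hcop
    exact ⟨(P₀.2.map N.subtype).toSylow hidx, Q, Subgroup.map_subtype_le _⟩

end Cfsg.Agent.S4602
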