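import Cfsg.Statements.S4604
import Mathlib
import Cfsg.Agent.Lib.Block.RegularIndicator

set_option autoImplicit false
open Cfsg

namespace Cfsg.Agent.S4604

namespace Aux

open CfsgLib.Char CfsgLib.Block

theorem frob_sum {ι : Type*} {p : ℕ} (hp : p.Prime) (n : ℕ) (s : Finset ι) (f : ι → Cfsg.AlgInt) :
    ∃ r : Cfsg.AlgInt, (∑ i ∈ s, f i) ^ p ^ n = ∑ i ∈ s, f i ^ p ^ n + p * r := by
  classical
  induction s using Finset.induction with
  | empty => exact ⟨0, by simp [zero_pow (pow_ne_zero n hp.ne_zero)]⟩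
  | @insert a s ha ih =>
    obtain ⟨r, hr⟩ := ih
    obtain ⟨r', hr'⟩ := exists_add_pow_prime_pow_eq hp (f a) (∑ i ∈ s, f i) n
    refine ⟨r + f a * (∑ i ∈ s, f i) * r', ?_⟩
    rw [Finset.sum_insert ha, Finset.sum_insert ha, hr', hr]
    ring

theorem char_pow_congr {G : Type*} [Group G] [Finite G] {p : ℕ} (hp : p.Prime) (n : ℕ)
    (χ : IrrCharacter G) (g : G) :
    ∃ r : Cfsg.AlgInt, (χ : G → ℂ) g ^ p ^ n = (χ : G → ℂ) (g ^ p ^ n) + (p : ℂ) * (r : ℂ) := by
  obtain ⟨χ, d, ρ, hρ, rfl⟩ := χ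
  obtain ⟨b, μ, h1, -, h3⟩ := exists_eigen_data ρ g
  have hint : ∀ i, μ i ∈ Cfsg.AlgInt := fun i => isIntegral_of_pow_eq_one (orderOf_pos g).ne' (h1 i)
  obtain ⟨r, hr⟩ := frob_sum hp n Finset.univ fun i => (⟨μ i, hint i⟩ : Cfsg.AlgInt)
  refine ⟨r, ?_⟩
  have h := congrArg (fun z : Cfsg.AlgInt => (z : ℂ)) hr
  push_cast at h
  show ρ.character g ^ p ^ n = ρ.character (g ^ p ^ n) + _
  have e := h3 1
  simp only [pow_one] at e
  rw [e, h3, h]

theorem regular_pow {G : Type*} [Group G] [Finite G] (p : ℕ) [Fact p.Prime] {x x' : G}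
    (hx : (∃ k : ℕ, orderOf (x * x'⁻¹) = p ^ k) ∧ Commute (x * x'⁻¹) x' ∧ ¬ p ∣ orderOf x') :
    x ^ p ^ (Nat.card G).factorization p = x' ^ p ^ (Nat.card G).factorization p := by
  obtain ⟨⟨k, hk⟩, hc, -⟩ := hx
  have hle : p ^ k ∣ p ^ (Nat.card G).factorization p :=
    Nat.pow_dvd_pow p ((Nat.Prime.pow_dvd_iff_le_factorization Fact.out Nat.card_pos.ne').mp
      (hk ▸ orderOf_dvd_natCard _))
  calc x ^ p ^ (Nat.card G).factorization p = (x * x'⁻¹ * x') ^ p ^ (Nat.card G).factorization p := by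
        rw [inv_mul_cancel_right]
    _ = _ := by rw [hc.mul_pow, orderOf_dvd_iff_pow_eq_one.mp (hk ▸ hle), one_mul]

end Aux

/-- Let G be a finite group, p a prime and p^a the p-part of the order of G. Let x, y ∈ G and let x′, y′ be their p-regular parts: x′ has order prime to p, commutes with x·x′⁻¹, and x·x′⁻¹ has p-power order (likewise for y). Then x′ and y′ are conjugate in G if and only if for every irreducible character χ of G the algebraic integer χ(x)^(p^a) − χ(y)^(p^a) is p times an algebraic integer. -/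
theorem result {G : Type*} [Group G] [Finite G] (p : ℕ) [Fact p.Prime] (x y x' y' : G)
    (hx : (∃ k : ℕ, orderOf (x * x'⁻¹) = p ^ k) ∧ Commute (x * x'⁻¹) x' ∧ ¬ p ∣ orderOf x')
    (hy : (∃ k : ℕ, orderOf (y * y'⁻¹) = p ^ k) ∧ Commute (y * y'⁻¹) y' ∧ ¬ p ∣ orderOf y') :
    IsConj x' y' ↔ ∀ χ : Cfsg.IrrCharacter G, ∃ γ : Cfsg.AlgInt,
      (χ : G → ℂ) x ^ (p ^ (Nat.card G).factorization p) - (χ : G → ℂ) y ^ (p ^ (Nat.card G).factorization p) = (p : ℂ) * (γ : ℂ) := by
  classical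
  haveI := Fintype.ofFinite G
  haveI := Fintype.ofFinite (Cfsg.IrrCharacter G)
  have hp : p.Prime := Fact.out
  set q := p ^ (Nat.card G).factorization p with hq
  have hxq : x ^ q = x' ^ q := Aux.regular_pow p hx
  have hyq : y ^ q = y' ^ q := Aux.regular_pow p hy
  constructor
  · intro h χ
    obtain ⟨r, hr⟩ := Aux.char_pow_congr hp ((Nat.card G).factorization p) χ x
    obtain ⟨r', hr'⟩ := Aux.char_pow_congr hp ((Nat.card G).factorization p) χ y
    refine ⟨r - r', ?_⟩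
    obtain ⟨c, hc⟩ := isConj_iff.mp h
    have he : (χ : G → ℂ) (x' ^ q) = (χ : G → ℂ) (y' ^ q) := by
      rw [← hc, conj_pow]
      exact (CfsgLib.Char.isClassFunction_irr χ (x' ^ q) c).symm
    rw [hq] at hxq hyq he
    rw [hr, hr', hxq, hyq, he]
    push_cast; ring
  · intro h
    obtain ⟨M, hM⟩ := CfsgLib.Block.exists_pModular hp
    haveI := hM.2.1
    have hu : ¬ p ∣ orderOf (x' ^ q) := fun e => hx.2.2 (e.trans (orderOf_pow_dvd q))
    have hv : ¬ p ∣ orderOf (y' ^ q) := fun e => hy.2.2 (e.trans (orderOf_pow_dvd q))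
    have hres : ∀ χ : Cfsg.IrrCharacter G,
        CfsgLib.Block.res M (CfsgLib.Block.irrLoc M χ (y' ^ q)) =
          CfsgLib.Block.res M (CfsgLib.Block.irrLoc M χ (x' ^ q)) := by
      intro χ
      obtain ⟨γ, hγ⟩ := h χ
      obtain ⟨r, hr⟩ := Aux.char_pow_congr hp ((Nat.card G).factorization p) χ x
      obtain ⟨r', hr'⟩ := Aux.char_pow_congr hp ((Nat.card G).factorization p) χ y
      rw [← CfsgLib.Block.memLocalIdeal_sub_iff]
      have e : ((CfsgLib.Block.irrLoc M χ (y' ^ q) : CfsgLib.Block.locRing M) : ℂ) -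
          (CfsgLib.Block.irrLoc M χ (x' ^ q) : CfsgLib.Block.locRing M) = (((p : Cfsg.AlgInt) * (r - r' - γ) : Cfsg.AlgInt) : ℂ) := by
        show (χ : G → ℂ) (y' ^ q) - (χ : G → ℂ) (x' ^ q) = _
        rw [← hxq, ← hyq, hq]
        push_cast
        linear_combination hr - hr' - hγ
      rw [e, CfsgLib.Block.memLocalIdeal_algInt]
      exact M.mul_mem_right _ hM.2.2
    obtain ⟨a, ha⟩ := CfsgLib.Block.exists_regularIndicator (G := G) hM hu
    have hval : ∀ z : G, ¬ p ∣ orderOf z →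
        ((∑ χ : Cfsg.IrrCharacter G, a χ * CfsgLib.Block.irrLoc M χ z : CfsgLib.Block.locRing M) : ℂ) =
          if IsConj z (x' ^ q) then 1 else 0 := by
      intro z hz
      refine Eq.trans ?_ ((ha z hz).trans (by congr))
      push_cast
      rfl
    have hconj : IsConj (y' ^ q) (x' ^ q) := by
      by_contra hn
      have h0 : (∑ χ : Cfsg.IrrCharacter G, a χ * CfsgLib.Block.irrLoc M χ (y' ^ q) :
          CfsgLib.Block.locRing M) = 0 := Subtype.ext ((hval _ hv).trans (by rw [if_neg hn]; simp))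
      have h1 : (∑ χ : Cfsg.IrrCharacter G, a χ * CfsgLib.Block.irrLoc M χ (x' ^ q) :
          CfsgLib.Block.locRing M) = 1 := Subtype.ext ((hval _ hu).trans (by rw [if_pos (IsConj.refl _)]; simp))
      have h2 := congrArg (CfsgLib.Block.res M) h0
      have h3 := congrArg (CfsgLib.Block.res M) h1
      simp only [map_sum, map_mul, map_zero, map_one, hres] at h2 h3
      exact one_ne_zero (h3.symm.trans h2)
    obtain ⟨c, hc⟩ := isConj_iff.mp hconj.symm
    have hcop : Nat.Coprime q (orderOf (x', y')) := by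
      rw [hq, Prod.orderOf_mk]
      refine Nat.Coprime.pow_left _ (hp.coprime_iff_not_dvd.mpr fun e => ?_)
      rcases (Nat.Prime.dvd_mul hp).mp (e.trans (Nat.lcm_dvd_mul _ _)) with h' | h'
      · exact hx.2.2 h'
      · exact hy.2.2 h'
    obtain ⟨m, hm⟩ := exists_pow_eq_self_of_coprime hcop
    have hm1 : (x' ^ q) ^ m = x' := congrArg Prod.fst hm
    have hm2 : (y' ^ q) ^ m = y' := congrArg Prod.snd hm
    exact isConj_iff.mpr ⟨c, by rw [← hm1, ← hm2, ← hc, conj_pow]⟩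

end Cfsg.Agent.S4604
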