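import Cfsg.Statements.S4607
import Cfsg.Agent.Lib.Block.TwoCharacters
import Cfsg.Agent.Lib.Block.Knorr
import Cfsg.Agent.Lib.Block.BlockCountBound
import Cfsg.Agent.Lib.Block.RankOne

set_option autoImplicit false
open Cfsg CfsgLib.Block

namespace Cfsg.Agent.S4607

/-- Let G be a finite group, p a prime, M a maximal ideal of the algebraic integers containing p, and B a p-block of G with defect group D. Then B contains exactly two irreducible characters if and only if D has order 2. -/
theorem result {G : Type*} [Group G] [Finite G] (p : ℕ) [Fact p.Prime] (M : Ideal Cfsg.AlgInt) (hM : Cfsg.IsPModular p M) (B : Set (Cfsg.IrrCharacter G)) (hB : Cfsg.IsPBlock M B) (D : Subgroup G) (hD : Cfsg.IsDefectGroup p M B D) : Nat.card B = 2 ↔ Nat.card D = 2 := by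
  classical
  haveI : M.IsMaximal := hM.2.1
  have hp : p.Prime := Fact.out
  let _ := Fintype.ofFinite G
  let _ := Fintype.ofFinite (IrrCharacter G)
  have hU := IsBlockUnion.of_isPBlock hB
  have hcardD := defectGroup_card hM hB hD
  have hvan : ∀ χ : IrrCharacter G, χ ∈ B → (∀ g : G, p ∣ orderOf g → (χ : G → ℂ) g = 0) →
      blockDefect p B = 0 := fun χ hχ h =>
    blockDefect_eq_zero_of_vanishes hM hB hχ fun g hg => h g hg.symm.dvd
  have h1 : ∀ g : G, p ∣ orderOf g → ∑ᶠ χ ∈ B, (χ : G → ℂ) 1 * (starRingEnd ℂ) ((χ : G → ℂ) g) = 0 :=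
    fun g hg => blockUnion_orthogonal_regular_singular hM hU (g := 1) (by simp [hp.ne_one]) hg
  constructor
  · intro h2
    have hd : blockDefect p B ≠ 0 := fun h => by
      have := (rank_card_of_defect_zero hM hB h).1
      omega
    obtain ⟨χ₁, χ₂, hne, hBeq⟩ := Set.ncard_eq_two.mp (by rw [← Nat.card_coe_set_eq]; exact h2)
    have hm₁ : χ₁ ∈ B := by rw [hBeq]; exact Or.inl rfl
    have hm₂ : χ₂ ∈ B := by rw [hBeq]; exact Or.inr rfl
    obtain ⟨x₀, hx₀, hx₁⟩ : ∃ x : G, p ∣ orderOf x ∧ (χ₁ : G → ℂ) x ≠ 0 := by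
      by_contra h
      push Not at h
      exact hd (hvan χ₁ hm₁ h)
    obtain ⟨a, b, hab, hpos, hzero⟩ := TwoChar.exists_both hM hB hne hBeq hx₀ (Or.inl hx₁)
    have ha1 : a ≤ 1 := by nlinarith
    have hb1 : b ≤ 1 := by nlinarith
    have ha : a = 1 := by
      by_contra h
      refine hd (hvan χ₂ hm₂ fun g hg => ?_)
      have := hzero g hg
      rw [show a = 0 by omega, show b = 1 by omega] at this
      simpa using this
    have hb : b = 1 := by
      by_contra h
      refine hd (hvan χ₁ hm₁ fun g hg => ?_)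
      have := hzero g hg
      rw [ha, show b = 0 by omega] at this
      simpa using this
    subst ha hb
    simp only [Nat.cast_one, one_mul] at hzero
    -- equal degrees
    have hdeg : (χ₁ : G → ℂ) 1 = (χ₂ : G → ℂ) 1 := by
      have e := h1 x₀ hx₀
      rw [hBeq, finsum_mem_pair hne, show (χ₂ : G → ℂ) x₀ = -(χ₁ : G → ℂ) x₀ from
        eq_neg_of_add_eq_zero_right (hzero x₀ hx₀), map_neg] at e
      have hc : (starRingEnd ℂ) ((χ₁ : G → ℂ) x₀) ≠ 0 := by simpa using hx₁
      exact mul_right_cancel₀ hc (by linear_combination e)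
    set D₀ := charDegree (χ₁ : G → ℂ) with hD₀
    have hD₂ : charDegree (χ₂ : G → ℂ) = D₀ := by rw [hD₀, charDegree, charDegree, hdeg]
    have hD0 : D₀ ≠ 0 := fun h => CfsgLib.Char.irr_one_ne_zero χ₁ (by
      rw [(charDegree_eq χ₁).1, ← hD₀, h, Nat.cast_zero])
    -- the Sylow order divides twice the degree
    obtain ⟨P⟩ := (inferInstance : Nonempty (Sylow p G))
    let _ := Fintype.ofFinite P
    obtain ⟨m₁, e₁⟩ := CfsgLib.Char.classInner_isCharacter (G := (P : Subgroup G))
      (CfsgLib.Char.isCharacter_comp (CfsgLib.Char.isCharacter_irr χ₁) (P : Subgroup G).subtype)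
      (CfsgLib.Char.isCharacter_irr (oneChar (P : Subgroup G)))
    obtain ⟨m₂, e₂⟩ := CfsgLib.Char.classInner_isCharacter (G := (P : Subgroup G))
      (CfsgLib.Char.isCharacter_comp (CfsgLib.Char.isCharacter_irr χ₂) (P : Subgroup G).subtype)
      (CfsgLib.Char.isCharacter_irr (oneChar (P : Subgroup G)))
    have hsum : classInner (fun s : (P : Subgroup G) => (χ₁ : G → ℂ) s) (oneChar (P : Subgroup G) : _ → ℂ) +
        classInner (fun s : (P : Subgroup G) => (χ₂ : G → ℂ) s) (oneChar (P : Subgroup G) : _ → ℂ) =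
        (Nat.card (P : Subgroup G) : ℂ)⁻¹ * (2 * (D₀ : ℂ)) := by
      rw [classInner, classInner, ← mul_add, ← Finset.sum_add_distrib]
      congr 1
      rw [Finset.sum_eq_single 1]
      · simp [oneChar, (charDegree_eq χ₁).1, (charDegree_eq χ₂).1, hD₂, ← hD₀]
        ring
      · intro s _ hs
        obtain ⟨j, hj⟩ := (IsPGroup.iff_orderOf.mp P.isPGroup') s
        have hsing : p ∣ orderOf (s : G) := by
          rw [Subgroup.orderOf_coe, hj]
          refine dvd_pow_self p fun h0 => hs ?_
          rw [← orderOf_eq_one_iff, hj, h0, pow_zero]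
        simp [oneChar, ← add_mul, hzero _ hsing]
      · simp
    have hdvd : p ^ (Nat.card G).factorization p ∣ 2 * D₀ := by
      refine ⟨m₁ + m₂, ?_⟩
      rw [← P.card_eq_multiplicity]
      have hsum' : ((m₁ : ℂ) + m₂) = (Nat.card (P : Subgroup G) : ℂ)⁻¹ * (2 * (D₀ : ℂ)) := by
        rw [← hsum, ← e₁, ← e₂]; rfl
      have : ((2 * D₀ : ℕ) : ℂ) = ((Nat.card (P : Subgroup G) * (m₁ + m₂) : ℕ) : ℂ) := by
        push_cast
        rw [hsum', mul_inv_cancel_left₀ (Nat.cast_ne_zero.mpr Nat.card_pos.ne')]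
      exact_mod_cast this
    have hdef : blockDefect p B = (Nat.card G).factorization p - D₀.factorization p := by
      rw [blockDefect, hBeq, Set.image_pair, hD₂, ← hD₀, Set.pair_eq_singleton, csInf_singleton]
    have hle : (Nat.card G).factorization p ≤ Nat.factorization 2 p + D₀.factorization p := by
      have := (Nat.Prime.pow_dvd_iff_le_factorization hp (mul_ne_zero two_ne_zero hD0)).mp hdvd
      rwa [Nat.factorization_mul two_ne_zero hD0, Finsupp.add_apply] at this
    rw [Nat.prime_two.factorization, Finsupp.single_apply] at hle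
    by_cases hp2 : 2 = p
    · rw [if_pos hp2] at hle
      rw [hcardD, show blockDefect p B = 1 by omega, pow_one, ← hp2]
    · rw [if_neg hp2] at hle
      omega
  · intro h2
    rw [hcardD] at h2
    have hd : blockDefect p B = 1 := by
      rcases Nat.lt_or_ge (blockDefect p B) 2 with h | h
      · interval_cases hk : blockDefect p B
        · simp at h2
        · rfl
      · have := Nat.pow_le_pow_right hp.pos h
        nlinarith [hp.two_le]
    rw [hd, pow_one] at h2
    have hle := card_le_bfBound hM 1 G B hB hd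
    rw [bfBound, if_pos (by omega), pow_one, h2] at hle
    obtain ⟨χ, hχ⟩ := isPBlock_nonempty hB
    have hpos : Nat.card B ≠ 0 := Nat.card_ne_zero.mpr ⟨⟨⟨χ, hχ⟩⟩, inferInstance⟩
    have hne1 : Nat.card B ≠ 1 := by
      intro h
      have hBs : B = {χ} := by
        obtain ⟨ψ, hψ⟩ := Set.ncard_eq_one.mp (by rw [← Nat.card_coe_set_eq]; exact h)
        rw [hψ] at hχ ⊢
        rw [Set.mem_singleton_iff.mp hχ]
      have := hvan χ hχ fun g hg => by
        have e := h1 g hg
        rw [hBs, finsum_mem_singleton] at e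
        simpa [CfsgLib.Char.irr_one_ne_zero χ] using e
      omega
    omega

end Cfsg.Agent.S4607
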