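import Cfsg.Statements.S4609
import Cfsg.Agent.Lib.Block.ThreeChar.Reduction
import Cfsg.Agent.Lib.Block.NormalDefectDegrees
import Cfsg.Agent.Lib.PGroup.MaxClassSeries
import Cfsg.Agent.S4607

set_option autoImplicit false
open Cfsg CfsgLib CfsgLib.Block CfsgLib.Block.Cyclic
open scoped ComplexConjugate commutatorElement

namespace Cfsg.Agent.S4609

/-- Let G be a finite group, p a prime, M a maximal ideal of the algebraic integers containing p, and B a p-block of G with defect group D containing exactly three irreducible characters. Suppose the number of height-zero characters of B equals the number of height-zero characters of its Brauer correspondent b, the block of N_G(D) with defect group D inducing B (as the Alperin–McKay conjecture predicts). Then D has order 3. -/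
theorem result {G : Type*} [Group G] [Finite G] (p : ℕ) [Fact p.Prime] (M : Ideal Cfsg.AlgInt) (hM : Cfsg.IsPModular p M) (B : Set (Cfsg.IrrCharacter G)) (hB : Cfsg.IsPBlock M B) (D : Subgroup G) (hD : Cfsg.IsDefectGroup p M B D) (hk : Nat.card B = 3)
    (b : Set (Cfsg.IrrCharacter (Subgroup.normalizer (D : Set G)))) (hbB : Cfsg.IsInducedBlock M (Subgroup.normalizer (D : Set G)) b B)
    (hbD : Cfsg.IsDefectGroup p M b (D.subgroupOf (Subgroup.normalizer (D : Set G))))
    (hAM : Nat.card {χ : Cfsg.IrrCharacter G // χ ∈ B ∧ Cfsg.blockHeight p B (χ : G → ℂ) = 0} =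
           Nat.card {ψ : Cfsg.IrrCharacter (Subgroup.normalizer (D : Set G)) // ψ ∈ b ∧ Cfsg.blockHeight p b (ψ : Subgroup.normalizer (D : Set G) → ℂ) = 0}) :
    Nat.card D = 3 := by
  classical
  haveI : M.IsMaximal := hM.2.1
  have hp : p.Prime := Fact.out
  let _ := Fintype.ofFinite G
  let _ := Fintype.ofFinite (IrrCharacter G)
  let N : Subgroup G := Subgroup.normalizer (D : Set G)
  let _ := Fintype.ofFinite N
  let _ := Fintype.ofFinite (IrrCharacter N)
  have hb : IsPBlock M b := hbB.1
  set P : Subgroup N := D.subgroupOf N with hP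
  haveI hPn : P.Normal := Subgroup.normal_subgroupOf_of_le_normalizer le_rfl
  have hDN : D ≤ N := Subgroup.le_normalizer
  have hPp : IsPGroup p P := isPGroup_defectGroup hM hb hbD
  have hcardP : Nat.card P = Nat.card D := Nat.card_congr (Subgroup.subgroupOfEquivOfLe hDN).toEquiv
  rw [← hcardP]
  have hP1 : P ≠ ⊥ := fun h => by
    have h1 := defectGroup_card hM hB hD
    rw [← hcardP, h, Subgroup.card_bot] at h1
    have h0 : blockDefect p B = 0 := ((Nat.pow_eq_one).mp h1.symm).resolve_left hp.ne_one
    rw [(rank_card_of_defect_zero hM hB h0).1] at hk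
    omega
  set C : Subgroup N := ⁅P, P⁆ with hC
  have hCP : C ≤ P := Subgroup.commutator_le_self P
  have hCp : IsPGroup p C := hPp.to_le hCP
  let _ := Fintype.ofFinite (N ⧸ C)
  let _ := Fintype.ofFinite (IrrCharacter (N ⧸ C))
  obtain ⟨Bbar, hBbar, hsub, hdef⟩ := QuotientDefect.exists_image_block hM hCp hb
  set q := QuotientGroup.mk' C with hq
  set Pb : Subgroup (N ⧸ C) := P.map q with hPb
  have hPbd : IsDefectGroup p M Bbar Pb := (hdef Pb).mpr ⟨P, hbD, rfl⟩
  haveI : Pb.Normal := Subgroup.Normal.map hPn q (QuotientGroup.mk'_surjective C)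
  have hab : ∀ a ∈ Pb, ∀ c ∈ Pb, a * c = c * a := by
    rintro _ ⟨a, ha, rfl⟩ _ ⟨c, hc, rfl⟩
    have h1 : q ⁅a, c⁆ = 1 :=
      (QuotientGroup.eq_one_iff _).mpr (Subgroup.commutator_mem_commutator ha hc)
    rw [map_commutatorElement] at h1
    exact commutatorElement_eq_one_iff_mul_comm.mp h1
  have hzero := (NormalDefect.abelian_iff_height_zero hM hBbar hPbd).mp hab
  -- the abelianization of the defect group
  let qP : P →* N ⧸ C := q.comp P.subtype
  have hrange : qP.range = Pb := by rw [hPb, MonoidHom.range_comp, Subgroup.range_subtype]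
  have hker : qP.ker = commutator P := by
    apply Subgroup.map_injective P.subtype_injective
    rw [← MonoidHom.comap_ker q P.subtype, Subgroup.map_comap_eq, Subgroup.range_subtype, hq,
      QuotientGroup.ker_mk', inf_eq_right.mpr hCP, hC, Subgroup.map_subtype_commutator]
  let e : P ⧸ commutator P ≃* Pb :=
    ((QuotientGroup.quotientMulEquivOfEq hker.symm).trans (QuotientGroup.quotientKerEquivRange qP)).trans
      (MulEquiv.subgroupCongr hrange)
  haveI : Group.IsNilpotent P := hPp.isNilpotent
  haveI : Nontrivial P := (Subgroup.nontrivial_iff_ne_bot P).mpr hP1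
  have hPb1 : Nat.card Pb ≠ 1 := fun h => by
    have h2 : Nat.card (P ⧸ commutator P) = 1 := (Nat.card_congr e.toEquiv).trans h
    rw [← Subgroup.index_eq_card, Subgroup.index_eq_one] at h2
    exact (Group.IsSolvable.commutator_lt_top_of_nontrivial P).ne h2
  have hPPb : Nat.card P = Nat.card C * Nat.card Pb := by
    rw [← Nat.card_congr e.toEquiv, Subgroup.card_eq_card_quotient_mul_card_subgroup (commutator P),
      mul_comm, hC, ← Subgroup.map_subtype_commutator,
      Subgroup.card_map_of_injective P.subtype_injective]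
  -- at most three members in the dominated block
  obtain ⟨χh, hχh, h0⟩ := exists_height_zero hM hb
  have hv0 := degVal_add_blockDefect hM hb hχh h0
  have hNC : (Nat.card N).factorization p =
      (Nat.card (N ⧸ C)).factorization p + (Nat.card C).factorization p := by
    rw [Subgroup.card_eq_card_quotient_mul_card_subgroup C,
      Nat.factorization_mul Nat.card_pos.ne' Nat.card_pos.ne', Finsupp.add_apply]
  have hδ : blockDefect p b = (Nat.card C).factorization p + blockDefect p Bbar := by
    have h1 := congrArg (fun n : ℕ => n.factorization p) hPPb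
    have hPd : Nat.card P = p ^ blockDefect p b := defectGroup_card hM hb hbD
    have hbd' : Nat.card Pb = p ^ blockDefect p Bbar := defectGroup_card hM hBbar hPbd
    simp only [hPd, hbd',
      Nat.factorization_mul Nat.card_pos.ne' (pow_ne_zero _ hp.ne_zero), Finsupp.add_apply,
      hp.factorization_pow, Finsupp.single_eq_same] at h1
    exact h1
  have hh : ∀ θ ∈ Bbar, blockHeight p b (inflQ θ : N → ℂ) = 0 := by
    intro θ hθ
    have hdeg : charDegree (inflQ θ : N → ℂ) = charDegree (θ : N ⧸ C → ℂ) := by
      have h1 := (charDegree_eq (inflQ θ)).1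
      rw [inflQ_apply, QuotientGroup.mk_one, (charDegree_eq θ).1] at h1
      exact_mod_cast h1.symm
    have hv := degVal_add_blockDefect hM hBbar hθ (hzero θ hθ)
    rw [blockHeight_eq_zero_iff (hsub θ hθ), ← (blockHeight_eq_zero_iff hχh).mp h0]
    have : degVal p (inflQ θ) = degVal p θ := by rw [degVal, degVal, hdeg]
    dsimp only [N] at *
    omega
  have hk3 : Nat.card Bbar ≤ 3 := by
    have h1 : Nat.card Bbar ≤
        Nat.card {ψ : IrrCharacter N // ψ ∈ b ∧ blockHeight p b (ψ : N → ℂ) = 0} := by
      refine Nat.card_le_card_of_injective (fun θ => ⟨inflQ θ.1, hsub _ θ.2, hh _ θ.2⟩) fun a c h => ?_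
      refine Subtype.ext (Subtype.ext (funext fun x => ?_))
      obtain ⟨y, rfl⟩ := QuotientGroup.mk_surjective x
      have h' := congrFun (congrArg (fun z : {ψ : IrrCharacter N // ψ ∈ b ∧
        blockHeight p b (ψ : N → ℂ) = 0} => ((z : IrrCharacter N) : N → ℂ)) h) y
      simpa [inflQ_apply] using h'
    have h2 : Nat.card {χ : IrrCharacter G // χ ∈ B ∧ blockHeight p B (χ : G → ℂ) = 0} ≤ Nat.card B :=
      Nat.card_le_card_of_injective (fun χ => (⟨χ.1, χ.2.1⟩ : B)) fun a c h =>
        Subtype.ext (congrArg (fun z : B => (z : IrrCharacter G)) h)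
    exact h1.trans ((le_of_eq hAM.symm).trans (h2.trans hk.le))
  have hk1 : Nat.card Bbar ≠ 1 := by
    intro h
    obtain ⟨χ, hχ⟩ := isPBlock_nonempty hBbar
    have hBs : Bbar = {χ} := by
      obtain ⟨ψ, hψ⟩ := Set.ncard_eq_one.mp (by rw [← Nat.card_coe_set_eq]; exact h)
      rw [hψ] at hχ ⊢
      rw [Set.mem_singleton_iff.mp hχ]
    refine hPb1 ?_
    rw [defectGroup_card hM hBbar hPbd, blockDefect_eq_zero_of_vanishes hM hBbar hχ fun g hg => ?_,
      pow_zero]
    have e := blockUnion_orthogonal_regular_singular hM (IsBlockUnion.of_isPBlock hBbar) (g := 1)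
      (by simp [hp.ne_one]) (h := g) hg.symm.dvd
    rw [hBs, finsum_mem_singleton] at e
    simpa [CfsgLib.Char.irr_one_ne_zero χ] using e
  have hk0 : Nat.card Bbar ≠ 0 := Nat.card_ne_zero.mpr
    ⟨⟨⟨_, (isPBlock_nonempty hBbar).choose_spec⟩⟩, inferInstance⟩
  have hcyc : (Nat.card Pb).Prime → Nat.card P = Nat.card Pb := by
    intro h
    haveI := Fact.mk h
    have hPbc : IsCyclic Pb := isCyclic_of_prime_card rfl
    have hq' : IsCyclic (P ⧸ commutator P) := e.symm.isCyclic.mp hPbc
    haveI := CfsgLib.PGroup.isCyclic_of_cyclic_abelianization hPp hq'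
    letI := IsCyclic.commGroup (α := P)
    have hbot : commutator P = ⊥ := (commutator_eq_bot_iff_center_eq_top P).mpr (CommGroup.center_eq_top)
    rw [← Nat.card_congr e.toEquiv, hbot, Nat.card_congr (QuotientGroup.quotientBot (G := P)).toEquiv]
  rcases (show Nat.card Bbar = 2 ∨ Nat.card Bbar = 3 by omega) with h | h
  · exfalso
    have hPb2 := (Cfsg.Agent.S4607.result p M hM Bbar hBbar Pb hPbd).mp h
    have hP2 : Nat.card D = 2 := by rw [← hcardP, hcyc (hPb2 ▸ Nat.prime_two), hPb2]
    have hB2 := (Cfsg.Agent.S4607.result p M hM B hB D hD).mpr hP2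
    omega
  · have h3 := ThreeChar.three_normal hM hBbar hPbd hab h
    rw [hcyc (h3 ▸ Nat.prime_three), h3]

end Cfsg.Agent.S4609
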