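import Cfsg.Statements.S4611
import Cfsg.Agent.Lib.Block.PSolvablePrincipal
import Cfsg.Agent.Lib.PGroup.MaxPNilpotent

set_option autoImplicit false
open Cfsg CfsgLib.Block
open scoped Pair

namespace Cfsg.Agent.S4611

/-- Let G be a finite solvable group and π a nonempty set of primes, each dividing the order of G; fix for each p in π a maximal ideal M p of the algebraic integers containing p. Then the only irreducible character lying in the principal p-block for every p in π is the principal character if and only if G is generated by the subgroups O_{p'}(G), p in π (the largest normal subgroups of order prime to p). -/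
theorem result {G : Type*} [Group G] [Finite G] [Group.IsSolvable G] (π : Set ℕ) (hπ : ∀ p ∈ π, p.Prime ∧ p ∣ Nat.card G) (hne : π.Nonempty) (M : ℕ → Ideal Cfsg.AlgInt) (hM : ∀ p ∈ π, Cfsg.IsPModular p (M p)) :
    (∀ χ : Cfsg.IrrCharacter G, (∀ p ∈ π, χ ∈ Cfsg.principalBlock (M p) G) → (χ : G → ℂ) = fun _ => 1) ↔
      ⨆ p ∈ π, Cfsg.pPrimeCore p G = ⊤ := by
  classical
  letI := Fintype.ofFinite G
  have hpf : ∀ p ∈ π, Fact p.Prime := fun p hp => ⟨(hπ p hp).1⟩
  have hs : ∀ p ∈ π, Cfsg.IsPSolvable p G := fun p hp => by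
    haveI := hpf p hp
    exact CfsgLib.PGroup.MaxPNilpotent.isPSolvable_of_solvable (hπ p hp).1 (Nat.card G) G rfl inferInstance
  set K : Subgroup G := ⨆ p ∈ π, Cfsg.pPrimeCore p G with hK
  constructor
  · intro h
    by_contra hne'
    haveI hKn : K.Normal := by
      refine ⟨fun x hx g => ?_⟩
      have hmap : K.map (MulAut.conj g).toMonoidHom ≤ K := by
        rw [hK]
        simp only [Subgroup.map_iSup]
        refine iSup₂_mono fun p hp => ?_
        haveI : (Cfsg.pPrimeCore p G).Characteristic := CfsgLib.Coprime.pPrimeCore_characteristic p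
        exact (Subgroup.characteristic_iff_map_eq.1 inferInstance _).le
      exact hmap ⟨x, hx, rfl⟩
    haveI : Nontrivial (G ⧸ K) := QuotientGroup.nontrivial_iff.2 hne'
    have hlt : commutator (G ⧸ K) ≠ ⊤ := (Group.IsSolvable.commutator_lt_top_of_nontrivial (G ⧸ K)).ne
    have h1 : 1 < Nat.card {χ : IrrCharacter (G ⧸ K) // (χ : G ⧸ K → ℂ) 1 = 1} := by
      rw [CfsgLib.Char.card_linear]
      exact Subgroup.one_lt_index_of_ne_top hlt
    haveI := Finite.one_lt_card_iff_nontrivial.1 h1
    obtain ⟨⟨θ, hθ1⟩, hθne⟩ := exists_ne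
      (⟨oneChar (G ⧸ K), rfl⟩ : {χ : IrrCharacter (G ⧸ K) // (χ : G ⧸ K → ℂ) 1 = 1})
    refine hθne (Subtype.ext (Subtype.ext (funext fun q => ?_)))
    obtain ⟨g, rfl⟩ := QuotientGroup.mk_surjective q
    exact congrFun (h (CfsgLib.Block.Cyclic.inflQ θ) fun p hp => by
      haveI := hpf p hp
      refine (CfsgLib.Block.PSolvablePrincipal.mem_iff (hM p hp) (hs p hp) _).2 fun n hn => ?_
      rw [CfsgLib.Block.Cyclic.inflQ_apply, CfsgLib.Block.Cyclic.inflQ_apply,
        (QuotientGroup.eq_one_iff n).2 (Subgroup.mem_iSup_of_mem p (Subgroup.mem_iSup_of_mem hp hn)),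
        QuotientGroup.mk_one]) g
  · intro htop χ hχ
    obtain ⟨N, hN, hker⟩ := CfsgLib.Invol.exists_charKernel χ
    have hle : K ≤ N := iSup₂_le fun p hp => by
      haveI := hpf p hp
      exact fun n hn => (hker n).2 ((CfsgLib.Block.PSolvablePrincipal.mem_iff (hM p hp) (hs p hp) χ).1 (hχ p hp) n hn)
    rw [CfsgLib.Invol.eq_oneChar_of_constant χ fun g => (hker g).1 (hle (htop ▸ Subgroup.mem_top g))]
    rfl

end Cfsg.Agent.S4611
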