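import Cfsg.Statements.S4613
import Cfsg.Agent.Lib.Lie.CentralAut.LieInst
import Cfsg.Agent.Lib.Lie.CentralAut.LinearInst
import Cfsg.Agent.Lib.Lie.CentralAut.ClassicalInst
import Cfsg.Agent.Lib.Lie.Chev.FullAll
import Cfsg.Agent.Lib.Lie.Chev.Tw.E6Gp
import Cfsg.Agent.Lib.Lie.Chev.Tw.D4Gp
import Cfsg.Agent.Lib.Lie.Chev.Tw.F4Gp
import Cfsg.Agent.Lib.Lie.Chev.Tw.G2Gp
import Cfsg.Agent.Lib.Lie.Suz.Twisted
import Cfsg.Agent.Lib.Classical.HermOrder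

set_option autoImplicit false
open Cfsg

namespace Cfsg.Agent.S4613

open CfsgLib.Lie CfsgLib.Lie.CentralAut CfsgLib.Lie.Chev CfsgLib.Char.PolarSteinberg

theorem fullD {D : Cfsg.Lie.ChevalleyDatum}
    (hD : D ∈ [Cfsg.Lie.chevG2, Cfsg.Lie.chevB2, Cfsg.Lie.chevD4, Cfsg.Lie.chevF4, Cfsg.Lie.chevE6,
      Cfsg.Lie.chevE7, Cfsg.Lie.chevE8]) : 0 < D.rank := by
  simp only [List.mem_cons, List.not_mem_nil, or_false] at hD
  rcases hD with rfl | rfl | rfl | rfl | rfl | rfl | rfl <;> decide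

theorem chevCase {D : Cfsg.Lie.ChevalleyDatum}
    (hD : D ∈ [Cfsg.Lie.chevG2, Cfsg.Lie.chevB2, Cfsg.Lie.chevD4, Cfsg.Lie.chevF4, Cfsg.Lie.chevE6,
      Cfsg.Lie.chevE7, Cfsg.Lie.chevE8])
    {G : Type*} [Group G] [Finite G] [IsSimpleGroup G] (p : ℕ) [Fact p.Prime] {F : Type} [Field F] [Fintype F]
    [CharP F p] (e : G ≃* ↥(D.group F)) (α : MulAut G) (hα : ¬ p ∣ orderOf α) (U : Sylow p G)
    (hfix : ∀ x ∈ (U : Subgroup G), α x = x) : α = 1 :=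
  eq_one_of_equiv e (fun _ β hb V hf => chev (fullOf hD) (fullD hD) p β hb V hf) α hα U hfix

/-- Let G be a finite simple group of Lie type in characteristic p and α an automorphism of G of order prime to p that fixes some Sylow p-subgroup of G elementwise. Then α is the identity. -/
theorem result {G : Type*} [Group G] [Finite G] [IsSimpleGroup G] (p : ℕ) [Fact p.Prime] (hG : Cfsg.IsLieTypeChar p G) (α : MulAut G) (hα : ¬ p ∣ orderOf α) (U : Sylow p G) (hfix : ∀ x ∈ (U : Subgroup G), α x = x) : α = 1 := by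
  rcases hG with ⟨F, _, _, _, n, hn, -, ⟨e⟩⟩ | ⟨F, _, _, _, m, hm, -, ⟨e⟩⟩ |
    ⟨F, _, _, _, n, q, hF, hn, -, ⟨e⟩⟩ | ⟨F, _, _, _, m, hm, hodd, ⟨e⟩⟩ | ⟨F, _, _, _, m, hm, ⟨e⟩⟩ |
    ⟨F, _, _, _, m, a, b, hm, hab, ⟨e⟩⟩ | ⟨F, _, _, _, h⟩ | ⟨K, _, _, _, q, hq, h⟩ |
    ⟨rfl, F, _, _, m, hm, hF, ⟨e⟩⟩ | ⟨rfl, K, _, _, m, hm, hK, ⟨e⟩⟩ | ⟨rfl, K, _, _, m, hm, hK, ⟨e⟩⟩
  · exact eq_one_of_equiv e (fun _ β hb V hf => psl hn p β hb V hf) α hα U hfix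
  · exact eq_one_of_equiv e (fun _ β hb V hf => psp hm p β hb V hf) α hα U hfix
  · obtain ⟨C⟩ := CfsgLib.Classical.uctx_exists hF
    exact eq_one_of_equiv e (fun _ β hb V hf => psu C hn hF p β hb V hf) α hα U hfix
  · have h2 : (2 : F) ≠ 0 := by
      intro h
      have := CharP.cast_eq_zero_iff F p 2
      have hp : p = 2 := (Nat.prime_dvd_prime_iff_eq Fact.out Nat.prime_two).1 (this.1 (by exact_mod_cast h))
      subst hp
      exact Nat.not_odd_iff_even.2 (Nat.even_iff.2 (FiniteField.even_card_iff_char_two.1 (ringChar.eq F 2))) hodd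
    obtain ⟨e'⟩ : Nonempty (G ≃* Cfsg.POmega F ⇑(CfsgLib.Classical.oddQ m F)) := by
      rw [CfsgLib.Classical.oddQ_coe]; exact ⟨e⟩
    exact eq_one_of_equiv e' (fun _ β hb V hf => pomega _ _ (by simp; omega) (Orthog.frame_odd h2 m) (by omega)
      (Orthog.std_odd h2 m).max (by simp; omega) p β hb V hf) α hα U hfix
  · obtain ⟨k, rfl⟩ : ∃ k, m = k + 1 := ⟨m - 1, by omega⟩
    obtain ⟨e'⟩ : Nonempty (G ≃* Cfsg.POmega F ⇑(CfsgLib.Classical.plusQ (k + 1) F)) := by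
      rw [CfsgLib.Classical.plusQ_coe]; exact ⟨e⟩
    exact eq_one_of_equiv e' (fun _ β hb V hf => pomega _ _ (by simp; omega) (Orthog.frame_plus (k + 1)) (by omega)
      (Orthog.std_plus k).max (by simp; omega) p β hb V hf) α hα U hfix
  · obtain ⟨e'⟩ : Nonempty (G ≃* Cfsg.POmega F ⇑(CfsgLib.Classical.minusQ (m - 1) F a b)) := by
      rw [CfsgLib.Classical.minusQ_coe]; exact ⟨e⟩
    exact eq_one_of_equiv e' (fun _ β hb V hf => pomega _ _ (by simp; omega) (Orthog.frame_minus hab (m - 1))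
      (by omega) (Orthog.std_minus hab (m - 1)).max (by simp; omega) p β hb V hf) α hα U hfix
  · rcases h with ⟨-, ⟨e⟩⟩ | ⟨⟨e⟩⟩ | ⟨⟨e⟩⟩ | ⟨⟨e⟩⟩ | ⟨⟨e⟩⟩ <;>
      exact chevCase (by simp) p e α hα U hfix
  · obtain ⟨θ, hθ⟩ : ∃ θ : K ≃+* K, ∀ x, θ x = x ^ q := by
      rcases h with ⟨hK, -⟩ | ⟨hK, -⟩ <;> exact Frob.exists_powEquiv hq hK
    rcases h with ⟨hK, ⟨e⟩⟩ | ⟨hK, ⟨e⟩⟩
    · have h2 : ∀ t : K, θ (θ t) = t := fun t => by
        rw [hθ, hθ, ← pow_mul, show q * q = q ^ 2 from (pow_two q).symm, ← hK, FiniteField.pow_card]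
      exact eq_one_of_equiv e (fun _ β hb V hf =>
        twisted (TE6.twGp θ hθ h2) ⟨0, by decide +kernel⟩ p β hb V hf) α hα U hfix
    · have h3 : ∀ t : K, θ (θ (θ t)) = t := fun t => by
        rw [hθ, hθ, hθ, ← pow_mul, ← pow_mul, show q * (q * q) = q ^ 3 from (pow_three q).symm, ← hK,
          FiniteField.pow_card]
      exact eq_one_of_equiv e (fun _ β hb V hf =>
        twisted (TD4.twGp θ hθ h3) ⟨0, by decide +kernel⟩ p β hb V hf) α hα U hfix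
  · obtain ⟨e'⟩ := Suz.exists_twEquiv (F := F) (m := m) (hm := hm) (hF := hF)
    exact eq_one_of_equiv (e.trans e'.symm) (fun _ β hb V hf => suzuki hm hF β hb V hf) α hα U hfix
  · obtain ⟨hc, θ, hsq, hθ⟩ := TF4.exists_theta hK
    exact eq_one_of_equiv e (fun _ β hb V hf =>
      twisted (TF4.twGp θ hsq hθ) TF4.o0 2 β hb V hf) α hα U hfix
  · obtain ⟨hc, θ, hcu, hθ, hneg⟩ := TG2.exists_theta hK
    exact eq_one_of_equiv e (fun _ β hb V hf =>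
      twisted (TG2.twGp θ hcu hθ hneg) ⟨0, by decide +kernel⟩ 3 β hb V hf) α hα U hfix

end Cfsg.Agent.S4613
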