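import Cfsg.Statements.S4620
import Mathlib
import Cfsg.Agent.Lib.Coprime.Core

set_option autoImplicit false
open scoped Pointwise
open Cfsg

namespace Cfsg.Agent.S4620

namespace Aux

open scoped Pointwise

universe u

/-- Every Sylow `p`-subgroup is TI. -/
def AllTI (p : ℕ) (X : Type u) [Group X] : Prop :=
  ∀ R : Sylow p X, ∀ g : X, g ∉ Subgroup.normalizer ((R : Subgroup X) : Set X) →
    (R : Subgroup X) ⊓ (MulAut.conj g • (R : Subgroup X)) = ⊥

theorem mem_conj_smul {X : Type u} [Group X] (S : Subgroup X) (c y : X) :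
    y ∈ MulAut.conj c • S ↔ c⁻¹ * y * c ∈ S := by
  rw [Subgroup.mem_pointwise_smul_iff_inv_smul_mem, MulAut.smul_def, MulAut.conj_inv_apply]

variable {X : Type u} [Group X] [Finite X] {p : ℕ} [Fact p.Prime]

theorem exists_mem_sylow_of_dvd (R : Sylow p X) (A : Subgroup X) [A.Normal] (hA : p ∣ Nat.card A) :
    ∃ a ∈ A, a ∈ (R : Subgroup X) ∧ a ≠ 1 := by
  obtain ⟨a, ha⟩ := exists_prime_orderOf_dvd_card' (G := A) p hA
  have ho : orderOf (a : X) = p := (Subgroup.orderOf_coe a).trans ha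
  obtain ⟨Q, hQ⟩ := (IsPGroup.of_card (n := 1) (by rw [Nat.card_zpowers, pow_one, ho]) :
    IsPGroup p (Subgroup.zpowers (a : X))).exists_le_sylow
  obtain ⟨g, hg⟩ := MulAction.exists_smul_eq X Q R
  refine ⟨g * a * g⁻¹, Subgroup.Normal.conj_mem inferInstance _ a.2 g, ?_, fun e => ?_⟩
  · rw [← hg, Sylow.coe_subgroup_smul]
    exact Subgroup.smul_mem_pointwise_smul (a : X) (MulAut.conj g) _ (hQ (Subgroup.mem_zpowers _))
  · rw [conj_eq_one_iff] at e
    rw [e, orderOf_one] at ho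
    exact (Fact.out : p.Prime).ne_one ho.symm

theorem inf_ne_bot (hTI : AllTI p X) (hOp : Cfsg.pCore p X = ⊥) (hOp' : Cfsg.pPrimeCore p X = ⊥)
    (A B : Subgroup X) [A.Normal] [B.Normal] (hA : A ≠ ⊥) (hB : B ≠ ⊥) : A ⊓ B ≠ ⊥ := by
  intro h
  have hp : p.Prime := Fact.out
  have hdvd : ∀ C : Subgroup X, C.Normal → C ≠ ⊥ → p ∣ Nat.card C := fun C hC hC1 => by
    haveI := hC
    by_contra hd
    exact hC1 (eq_bot_iff.mpr (hOp' ▸ CfsgLib.Coprime.le_pPrimeCore_of_not_dvd hp hd))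
  obtain ⟨R⟩ : Nonempty (Sylow p X) := inferInstance
  obtain ⟨a, haA, haR, ha1⟩ := exists_mem_sylow_of_dvd R A (hdvd A inferInstance hA)
  have hcomm : ∀ b ∈ B, b * a * b⁻¹ = a := by
    intro b hb
    have h1 : b * a * b⁻¹ * a⁻¹ ∈ A ⊓ B := ⟨A.mul_mem (Subgroup.Normal.conj_mem inferInstance _ haA b) (A.inv_mem haA), by
      rw [show b * a * b⁻¹ * a⁻¹ = b * (a * b⁻¹ * a⁻¹) by group]
      exact B.mul_mem hb (Subgroup.Normal.conj_mem inferInstance _ (B.inv_mem hb) a)⟩
    rw [h, Subgroup.mem_bot, mul_inv_eq_one] at h1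
    exact h1
  have hnorm : B ≤ Subgroup.normalizer ((R : Subgroup X) : Set X) := by
    intro b hb
    by_contra hbN
    have hmem : a ∈ (R : Subgroup X) ⊓ (MulAut.conj b • (R : Subgroup X)) := by
      refine ⟨haR, ?_⟩
      rw [← hcomm b hb]
      exact Subgroup.smul_mem_pointwise_smul a (MulAut.conj b) _ haR
    rw [hTI R b hbN, Subgroup.mem_bot] at hmem
    exact ha1 hmem
  haveI : ((R : Subgroup X).subgroupOf B).Normal := by
    refine ⟨fun x hx b => ?_⟩
    exact (Subgroup.mem_normalizer_iff.mp (hnorm b.2) _).mp hx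
  have hle : (R : Subgroup X).subgroupOf B ≤ Cfsg.pCore p B :=
    CfsgLib.Coprime.le_pCore (R.2.comap_subtype)
  have hmap : (Cfsg.pCore p B).map B.subtype ≤ Cfsg.pCore p X := by
    haveI := CfsgLib.Coprime.pCore_characteristic (G := ↥B) p
    exact CfsgLib.Coprime.le_pCore ((CfsgLib.Coprime.pCore_isPGroup (G := ↥B) p).map _)
  obtain ⟨b, hbB, hbR, hb1⟩ := exists_mem_sylow_of_dvd R B (hdvd B inferInstance hB)
  have hbC : b ∈ Cfsg.pCore p X := hmap ⟨⟨b, hbB⟩, hle hbR, rfl⟩
  rw [hOp, Subgroup.mem_bot] at hbC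
  exact hb1 hbC

theorem exists_monolith (hTI : AllTI p X) (hOp : Cfsg.pCore p X = ⊥) (hOp' : Cfsg.pPrimeCore p X = ⊥)
    [Nontrivial X] :
    ∃ M : Subgroup X, M.Characteristic ∧ M ≠ ⊥ ∧ ∀ K : Subgroup X, K.Normal → K ≠ ⊥ → M ≤ K := by
  classical
  haveI := Fintype.ofFinite (Subgroup X)
  let S := Finset.univ.filter fun K : Subgroup X => K.Normal ∧ K ≠ ⊥
  have key : ∀ T : Finset (Subgroup X), (∀ K ∈ T, K.Normal ∧ K ≠ ⊥) → (T.inf id).Normal ∧ T.inf id ≠ ⊥ := by
    intro T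
    induction T using Finset.induction with
    | empty => exact fun _ => ⟨by rw [Finset.inf_empty]; infer_instance, by rw [Finset.inf_empty]; exact top_ne_bot⟩
    | @insert K T _ ih =>
      intro hT
      obtain ⟨hKn, hK1⟩ := hT K (Finset.mem_insert_self _ _)
      obtain ⟨hTn, hT1⟩ := ih fun L hL => hT L (Finset.mem_insert_of_mem hL)
      rw [Finset.inf_insert]
      haveI := hKn
      haveI := hTn
      exact ⟨Subgroup.normal_inf_normal K (T.inf id), inf_ne_bot hTI hOp hOp' K (T.inf id) hK1 hT1⟩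
  obtain ⟨hn, h1⟩ := key S fun K hK => (Finset.mem_filter.mp hK).2
  have hmin : ∀ K : Subgroup X, K.Normal → K ≠ ⊥ → S.inf id ≤ K := fun K hK hK1 =>
    Finset.inf_le (f := id) (Finset.mem_filter.mpr ⟨Finset.mem_univ _, hK, hK1⟩)
  refine ⟨S.inf id, Subgroup.characteristic_iff_le_comap.mpr fun φ => hmin _ (hn.comap _) fun e => h1 ?_, h1, hmin⟩
  rw [Subgroup.eq_bot_iff_forall]
  intro m hm
  have : φ.symm m ∈ (S.inf id).comap φ.toMonoidHom := by
    show φ (φ.symm m) ∈ S.inf id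
    rw [φ.apply_symm_apply]; exact hm
  rw [e, Subgroup.mem_bot] at this
  exact φ.symm.injective (this.trans (map_one φ.symm).symm)

end Aux

/-- Let H be a finite group with no nontrivial normal p-subgroup and no nontrivial normal subgroup of order prime to p, whose Sylow p-subgroup P is nontrivial and a trivial-intersection set (P meets its conjugates by elements outside N_H(P) trivially). Then H has a unique minimal normal subgroup N; N is non-abelian simple with trivial centralizer in H (so H embeds in Aut(N)), and a Sylow p-subgroup of N is again a nontrivial trivial-intersection set in N. -/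
theorem result {H : Type*} [Group H] [Finite H] (p : ℕ) [Fact p.Prime] (hOp : Cfsg.pCore p H = ⊥) (hOp' : Cfsg.pPrimeCore p H = ⊥) (P : Sylow p H) (hP1 : (P : Subgroup H) ≠ ⊥)
    (hTI : ∀ g : H, g ∉ Subgroup.normalizer ((P : Subgroup H) : Set H) → (P : Subgroup H) ⊓ (MulAut.conj g • (P : Subgroup H)) = ⊥) :
    ∃ N : Subgroup H, N.Normal ∧ N ≠ ⊥ ∧ (∀ K : Subgroup H, K.Normal → K ≠ ⊥ → N ≤ K) ∧
      IsSimpleGroup N ∧ ¬ IsMulCommutative N ∧ Subgroup.centralizer (N : Set H) = ⊥ ∧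
      ∀ Q : Sylow p N, (Q : Subgroup N) ≠ ⊥ ∧
        ∀ n : N, n ∉ Subgroup.normalizer ((Q : Subgroup N) : Set N) → (Q : Subgroup N) ⊓ (MulAut.conj n • (Q : Subgroup N)) = ⊥ := by
  classical
  open scoped Pointwise in
  have hp : p.Prime := Fact.out
  haveI : Nontrivial H := by
    obtain ⟨x, -, hx⟩ := (Subgroup.ne_bot_iff_exists_ne_one.mp hP1 : ∃ x : P, x ≠ 1) |>.elim fun x hx => (⟨x.1, x.2, fun e => hx (Subtype.ext e)⟩ : ∃ x ∈ (P : Subgroup H), x ≠ 1)
    exact ⟨⟨x, 1, hx⟩⟩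
  have hall : Aux.AllTI p H := by
    intro R g hg
    obtain ⟨c, rfl⟩ := MulAction.exists_smul_eq H P R
    rw [Sylow.coe_subgroup_smul] at hg ⊢
    have hg' : c⁻¹ * g * c ∉ Subgroup.normalizer ((P : Subgroup H) : Set H) := by
      intro h
      refine hg ?_
      rw [Subgroup.mem_normalizer_iff]
      intro y
      simp only [Aux.mem_conj_smul]
      have := Subgroup.mem_normalizer_iff.mp h (c⁻¹ * y * c)
      simp only [mul_inv_rev, inv_inv, mul_assoc] at this ⊢
      simpa using this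
    rw [eq_bot_iff]
    intro y hy
    rw [Subgroup.mem_inf, Aux.mem_conj_smul, Aux.mem_conj_smul, Aux.mem_conj_smul] at hy
    have h0 := hTI _ hg'
    have hmem : c⁻¹ * y * c ∈ (P : Subgroup H) ⊓ (MulAut.conj (c⁻¹ * g * c) • (P : Subgroup H)) := by
      rw [Subgroup.mem_inf, Aux.mem_conj_smul]
      refine ⟨hy.1, ?_⟩
      convert hy.2 using 1
      group
    rw [h0, Subgroup.mem_bot] at hmem
    rw [Subgroup.mem_bot]
    calc y = c * (c⁻¹ * y * c) * c⁻¹ := by group
      _ = 1 := by rw [hmem]; group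
  obtain ⟨N, hNc, hN1, hNmin⟩ := Aux.exists_monolith hall hOp hOp'
  haveI := hNc
  haveI : N.Normal := inferInstance
  have hNop : Cfsg.pCore p N = ⊥ := by
    haveI := CfsgLib.Coprime.pCore_characteristic (G := ↥N) p
    have h : (Cfsg.pCore p N).map N.subtype ≤ Cfsg.pCore p H :=
      CfsgLib.Coprime.le_pCore ((CfsgLib.Coprime.pCore_isPGroup (G := ↥N) p).map _)
    rw [hOp, le_bot_iff] at h
    exact (Subgroup.map_eq_bot_iff_of_injective _ N.subtype_injective).mp h
  have hNop' : Cfsg.pPrimeCore p N = ⊥ := by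
    haveI := CfsgLib.Coprime.pPrimeCore_characteristic (G := ↥N) p
    have h : (Cfsg.pPrimeCore p N).map N.subtype ≤ Cfsg.pPrimeCore p H := by
      refine CfsgLib.Coprime.le_pPrimeCore_of_not_dvd hp ?_
      rw [Nat.card_congr ((Cfsg.pPrimeCore p N).equivMapOfInjective N.subtype N.subtype_injective).toEquiv.symm]
      exact CfsgLib.Coprime.pPrimeCore_not_dvd hp
    rw [hOp', le_bot_iff] at h
    exact (Subgroup.map_eq_bot_iff_of_injective _ N.subtype_injective).mp h
  have hNdvd : p ∣ Nat.card N := by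
    by_contra hd
    exact hN1 (eq_bot_iff.mpr (hOp' ▸ CfsgLib.Coprime.le_pPrimeCore_of_not_dvd hp hd))
  have hQ : ∀ Q : Sylow p N, ∀ n : N, n ∉ Subgroup.normalizer ((Q : Subgroup N) : Set N) →
      (Q : Subgroup N) ⊓ (MulAut.conj n • (Q : Subgroup N)) = ⊥ := by
    intro Q n hn
    obtain ⟨R, hR⟩ := (Q.2.map N.subtype).exists_le_sylow
    have hRQ : (R : Subgroup H).subgroupOf N = Q := by
      refine Q.3 (R.2.comap_subtype) fun q hq => ?_
      exact hR ⟨q, hq, rfl⟩
    have hnR : (n : H) ∉ Subgroup.normalizer ((R : Subgroup H) : Set H) := by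
      intro h
      refine hn ?_
      rw [Subgroup.mem_normalizer_iff]
      intro y
      rw [← hRQ, Subgroup.mem_subgroupOf, Subgroup.mem_subgroupOf]
      exact Subgroup.mem_normalizer_iff.mp h (y : H)
    rw [eq_bot_iff]
    intro y hy
    rw [Subgroup.mem_inf, Aux.mem_conj_smul, ← hRQ, Subgroup.mem_subgroupOf, Subgroup.mem_subgroupOf] at hy
    have hmem : (y : H) ∈ (R : Subgroup H) ⊓ (MulAut.conj (n : H) • (R : Subgroup H)) := by
      rw [Subgroup.mem_inf, Aux.mem_conj_smul]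
      exact ⟨hy.1, hy.2⟩
    rw [hall R n hnR, Subgroup.mem_bot] at hmem
    rw [Subgroup.mem_bot]
    exact Subtype.ext hmem
  haveI : Nontrivial N := (Subgroup.nontrivial_iff_ne_bot N).mpr hN1
  obtain ⟨M, hMc, hM1, hMmin⟩ := Aux.exists_monolith (X := ↥N) hQ hNop hNop'
  have hMtop : M = ⊤ := by
    haveI := hMc
    have h : N ≤ M.map N.subtype := hNmin _ inferInstance fun e =>
      hM1 ((Subgroup.map_eq_bot_iff_of_injective _ N.subtype_injective).mp e)
    rw [eq_top_iff]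
    intro z _
    obtain ⟨z', hz', e⟩ := h z.2
    rwa [← N.subtype_injective e]
  haveI hsimple : IsSimpleGroup N := ⟨fun K hK => by
    by_cases hK1 : K = ⊥
    · exact Or.inl hK1
    · exact Or.inr (top_le_iff.mp (hMtop ▸ hMmin K hK hK1))⟩
  have hna : ¬ IsMulCommutative N := fun hc => by
    haveI := hc
    obtain ⟨z, hz⟩ := exists_prime_orderOf_dvd_card' (G := N) p hNdvd
    haveI : (Subgroup.zpowers z).Normal := ⟨fun a ha b => by
      rw [mul_comm' b a, mul_inv_cancel_right]; exact ha⟩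
    have h1 : Subgroup.zpowers z ≤ Cfsg.pCore p N :=
      CfsgLib.Coprime.le_pCore (IsPGroup.of_card (n := 1) (by rw [Nat.card_zpowers, pow_one, hz]))
    rw [hNop, le_bot_iff, Subgroup.zpowers_eq_bot] at h1
    rw [h1, orderOf_one] at hz
    exact hp.ne_one hz.symm
  refine ⟨N, inferInstance, hN1, hNmin, hsimple, hna, ?_, fun Q => ⟨?_, hQ Q⟩⟩
  · by_contra hC
    refine Aux.inf_ne_bot hall hOp hOp' N (Subgroup.centralizer (N : Set H)) hN1 hC ?_
    rw [eq_bot_iff]
    intro z hz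
    by_contra hz1
    refine hna ?_
    have h1 : (Subgroup.center N) ≠ ⊥ := fun e => hz1 (by
      have : (⟨z, hz.1⟩ : N) ∈ Subgroup.center N := Subgroup.mem_center_iff.mpr fun y =>
        Subtype.ext (Subgroup.mem_centralizer_iff.mp hz.2 y y.2)
      rw [e, Subgroup.mem_bot] at this
      exact (Subgroup.mem_bot).mpr (congrArg Subtype.val this))
    have h2 : Subgroup.center N = ⊤ := (hsimple.eq_bot_or_eq_top_of_normal _ inferInstance).resolve_left h1
    exact ⟨⟨fun a b => (Subgroup.mem_center_iff.mp (h2 ▸ Subgroup.mem_top a) b).symm⟩⟩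
  · exact Q.ne_bot_of_dvd_card hNdvd

end Cfsg.Agent.S4620
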