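import Cfsg.Statements.S4621
import Cfsg.Agent.Lib.Char.CoprimeBase.Main

set_option autoImplicit false
open Cfsg

namespace Cfsg.Agent.S4621

/-- Let F be a finite field of odd characteristic, V a finite-dimensional vector space over F, and G a finite solvable group acting faithfully and linearly on V with the order of G coprime to the number of vectors of V. Then there are two vectors x, y ∈ V such that the only element of G fixing both x and y is the identity. -/
theorem result {F : Type*} [Field F] [Fintype F] (hF : ringChar F ≠ 2) {V : Type*} [AddCommGroup V] [Module F V] [FiniteDimensional F V] [Finite V]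
    {G : Type*} [Group G] [Finite G] [Group.IsSolvable G] (ρ : Representation F G V) (hfaith : Function.Injective ρ) (hcop : (Nat.card G).Coprime (Nat.card V)) :
    ∃ x y : V, ∀ g : G, ρ g x = x → ρ g y = y → g = 1 := by
  classical
  rcases subsingleton_or_nontrivial V with hsub | hnt
  · exact ⟨0, 0, fun g _ _ => hfaith (LinearMap.ext fun v => Subsingleton.elim _ _)⟩
  haveI : Fact (ringChar F).Prime := ⟨CharP.char_is_prime F (ringChar F)⟩
  have hV : ∀ v : V, ringChar F • v = 0 := fun v => by
    rw [← Nat.cast_smul_eq_nsmul F, ringChar.Nat.cast_ringChar, zero_smul]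
  have hdvd : ringChar F ∣ Nat.card V := by
    obtain ⟨v, hv⟩ := exists_ne (0 : V)
    rw [← addOrderOf_eq_prime (hV v) hv]
    exact addOrderOf_dvd_natCard v
  have hA : ¬ ringChar F ∣ Nat.card G := fun hd =>
    (Fact.out : (ringChar F).Prime).ne_one
      (Nat.eq_one_of_dvd_coprimes hcop hd hdvd)
  let θ : G →* AddMonoid.End V :=
    { toFun := fun g => (ρ g).toAddMonoidHom
      map_one' := by rw [map_one]; rfl
      map_mul' := fun a b => by rw [map_mul]; rfl }
  obtain ⟨x, y, h⟩ := CfsgLib.Char.CoprimeBase.exists_pair_of_hom hA hV θ.toHomUnits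
  refine ⟨x, y, fun g hx hy => hfaith ?_⟩
  have h1 := congrArg Units.val (h g hx hy)
  rw [map_one]
  exact LinearMap.ext fun v => DFunLike.congr_fun h1 v

end Cfsg.Agent.S4621
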