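import Cfsg.Statements.S4625
import Cfsg.Agent.Lib.Classical.SylowCharTwoLie
-- import your own Cfsg.Agent.* helpers here

set_option autoImplicit false
open Cfsg

namespace Cfsg.Agent.S4625

/-- Let G be a finite simple group of Lie type in characteristic 2, not counting the Tits group ²F₄(2)′. Then a Sylow 2-subgroup P of G has P/P' elementary abelian: the square of every element of P lies in the derived subgroup of P. -/
theorem result {G : Type*} [Group G] [Finite G] [IsSimpleGroup G] (hG : Cfsg.IsLieTypeChar 2 G) (P : Sylow 2 G) :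
    ∀ x : (P : Subgroup G), x ^ 2 ∈ commutator (P : Subgroup G) := by
  haveI : Fact (Nat.Prime 2) := ⟨Nat.prime_two⟩
  rcases hG with ⟨F, _, _, _, n, hn, -, ⟨e⟩⟩ | ⟨F, _, _, _, m, -, -, ⟨e⟩⟩ | ⟨F, _, _, _, n, q, hq, -, -, ⟨e⟩⟩ |
    ⟨F, _, _, _, m, -, hodd, -⟩ | ⟨F, _, _, _, m, hm, ⟨e⟩⟩ | ⟨F, _, _, _, m, a, b, hm, hab, ⟨e⟩⟩ |
    ⟨F, _, _, _, hF⟩ | ⟨K, _, _, _, q, hq, ⟨hK, ⟨e⟩⟩ | ⟨hK, ⟨e⟩⟩⟩ | ⟨-, F, _, _, m, hm, hF, ⟨e⟩⟩ |
    ⟨-, K, _, _, m, hm, hK, ⟨e⟩⟩ | ⟨h3, -⟩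
  · exact CfsgLib.Classical.SylowCharTwo.sylow_of_equiv e (CfsgLib.Classical.SylowCharTwo.psl (by omega)) P
  · exact CfsgLib.Classical.SylowCharTwo.sylow_of_equiv e (CfsgLib.Classical.SylowCharTwo.psp m) P
  · exact CfsgLib.Classical.SylowCharTwo.sylow_of_equiv e (CfsgLib.Classical.SylowCharTwo.psu hq) P
  · rw [Nat.odd_iff] at hodd
    have := FiniteField.even_card_of_char_two (ringChar.eq F 2)
    omega
  · have hc : Fintype.card (Fin m ⊕ Fin m) = 2 * m := by simp [two_mul]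
    exact CfsgLib.Classical.SylowCharTwo.sylow_of_equiv e
      (CfsgLib.Classical.SylowCharTwo.pomega CfsgLib.Perm.Trans.Quad.quadFormPlus_nd (by omega)
        (Or.inr (by omega))) P
  · have hc : Fintype.card ((Fin (m - 1) ⊕ Fin (m - 1)) ⊕ Fin 2) = 2 * (m - 1) + 2 := by simp [two_mul]
    exact CfsgLib.Classical.SylowCharTwo.sylow_of_equiv e
      (CfsgLib.Classical.SylowCharTwo.pomega (CfsgLib.Perm.Trans.Quad.quadFormMinus_nd a b hab) (by omega)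
        (Or.inr (by omega))) P
  · rcases hF with ⟨-, ⟨e⟩⟩ | ⟨⟨e⟩⟩ | ⟨⟨e⟩⟩ | ⟨⟨e⟩⟩ | ⟨⟨e⟩⟩
    all_goals
      exact CfsgLib.Classical.SylowCharTwo.sylow_of_equiv e
        (CfsgLib.Classical.SylowCharTwo.chev (CfsgLib.Lie.Chev.fullOf (by simp))) P
  · exact CfsgLib.Classical.SylowCharTwo.sylow_of_equiv e (CfsgLib.Classical.SylowCharTwo.twistedE6 hq hK) P
  · exact CfsgLib.Classical.SylowCharTwo.sylow_of_equiv e (CfsgLib.Classical.SylowCharTwo.twistedD4 hq hK) P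
  · exact CfsgLib.Classical.SylowCharTwo.sylow_of_equiv e (CfsgLib.Classical.SylowCharTwo.suzuki hm hF) P
  · exact CfsgLib.Classical.SylowCharTwo.sylow_of_equiv e (CfsgLib.Classical.SylowCharTwo.twistedF4 hm hK) P
  · exact absurd h3 (by norm_num)

end Cfsg.Agent.S4625
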