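import Cfsg.Statements.S4626
import Cfsg.Agent.Lib.Block.Blocks
import Cfsg.Agent.Lib.Block.Cartan
import Cfsg.Agent.Lib.Block.CentralDefect

/-!
# Characters of a p'-quotient by a subgroup containing the centralizer of a Sylow subgroup
-/

set_option autoImplicit false
open Cfsg

namespace Cfsg.Agent.S4626

open CfsgLib CfsgLib.Block
open scoped ComplexConjugate

/-- Let G be a finite group, p a prime, M a maximal ideal of the algebraic integers containing p, P a Sylow p-subgroup of G and N a normal subgroup of index prime to p containing the centralizer C_G(P). Then every irreducible character of G whose kernel contains N lies in the principal p-block of G. -/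
theorem result {G : Type*} [Group G] [Finite G] (p : ℕ) [Fact p.Prime] (M : Ideal Cfsg.AlgInt) (hM : Cfsg.IsPModular p M) (P : Sylow p G) (N : Subgroup G) [N.Normal] (hidx : ¬ p ∣ N.index)
    (hC : Subgroup.centralizer ((P : Subgroup G) : Set G) ≤ N) (χ : Cfsg.IrrCharacter G) (hker : ∀ n ∈ N, (χ : G → ℂ) n = (χ : G → ℂ) 1) :
    χ ∈ Cfsg.principalBlock M G := by
  classical
  have := hM.2.1
  let _ := Fintype.ofFinite G
  have := charP_resField hM
  show SameBlock M (oneChar G : G → ℂ) (χ : G → ℂ)
  rw [sameBlock_iff_centralRes]
  intro g
  by_cases hg : p ∣ (Subgroup.centralizer ({g} : Set G)).index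
  · -- both central characters lie in the maximal ideal
    have hzero : ∀ θ : IrrCharacter G, ¬ p ∣ charDegree (θ : G → ℂ) → centralRes M θ g = 0 := fun θ hθ => by
      set n := charDegree (θ : G → ℂ) with hn
      obtain ⟨c, hc⟩ := hg
      have e : (⟨centralChar (θ : G → ℂ) g, centralChar_mem θ g⟩ : locRing M) * (n : locRing M) =
          (p : locRing M) * ((c : locRing M) * ⟨(θ : G → ℂ) g, integral_mem M (irr_isIntegral θ g)⟩) := by
        apply Subtype.ext
        push_cast
        simp only [centralChar]
        have h0 : (θ : G → ℂ) 1 ≠ 0 := Char.irr_one_ne_zero θ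
        rw [hc, ← (charDegree_eq θ).1]
        push_cast
        field_simp
      have h1 := congrArg (res M) e
      rw [map_mul, map_mul, map_natCast, map_natCast, CharP.cast_eq_zero (ResField M) p, zero_mul] at h1
      exact (mul_eq_zero.mp h1).resolve_right fun h => hθ ((CharP.cast_eq_zero_iff (ResField M) p n).mp h)
    rw [hzero _ ?_, hzero _ ?_]
    · -- the degree divides the index
      intro hdvd
      have := Fintype.ofFinite (G ⧸ N)
      have := Fintype.ofFinite (IrrCharacter (G ⧸ N))
      obtain ⟨χ', hχ'⟩ := exists_deflate χ hker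
      have h2 : charDegree (χ' : G ⧸ N → ℂ) = charDegree (χ : G → ℂ) := by
        rw [charDegree, charDegree, ← hχ' 1]
        rfl
      refine hidx ?_
      rw [Subgroup.index_eq_card]
      exact (h2 ▸ hdvd : p ∣ charDegree (χ' : G ⧸ N → ℂ)).trans (charDegree_dvd χ')
    · rw [show charDegree (oneChar G : G → ℂ) = 1 by simp [charDegree, oneChar]]
      exact hM.1.not_dvd_one
  · -- the class meets the centralizer of a Sylow subgroup
    obtain ⟨Q⟩ : Nonempty (Sylow p (Subgroup.centralizer ({g} : Set G))) := inferInstance
    set Q' : Subgroup G := (Q : Subgroup _).map (Subgroup.centralizer ({g} : Set G)).subtype with hQ'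
    have hcard : Nat.card Q' = p ^ (Nat.card G).factorization p := by
      rw [hQ', Subgroup.card_map_of_injective (Subgroup.subtype_injective _), Q.card_eq_multiplicity,
        ← Subgroup.card_mul_index (Subgroup.centralizer ({g} : Set G)),
        Nat.factorization_mul Nat.card_pos.ne' Subgroup.index_ne_zero_of_finite, Finsupp.add_apply,
        Nat.factorization_eq_zero_of_not_dvd hg, add_zero]
    obtain ⟨c, hc⟩ := MulAction.exists_smul_eq G (Sylow.ofCard Q' hcard) P
    have hgN : g ∈ N := by
      have hmem : c * g * c⁻¹ ∈ Subgroup.centralizer ((P : Subgroup G) : Set G) := by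
        rw [Subgroup.mem_centralizer_iff]
        intro u hu
        rw [← hc] at hu
        obtain ⟨w, hw, rfl⟩ := hu
        obtain ⟨v, -, rfl⟩ := hw
        have := Subgroup.mem_centralizer_singleton_iff.mp v.2
        simp only [MulDistribMulAction.toMonoidEnd_apply, MulDistribMulAction.toMonoidHom_apply,
          MulAut.smul_def, MulAut.conj_apply, Subgroup.coe_subtype]
        rw [show c * (v : G) * c⁻¹ * (c * g * c⁻¹) = c * ((v : G) * g) * c⁻¹ by group, this]
        group
      have := Subgroup.Normal.conj_mem ‹N.Normal› _ (hC hmem) c⁻¹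
      simpa [mul_assoc] using this
    refine congrArg (res M) (Subtype.ext ?_)
    simp only [centralChar, oneChar, hker g hgN]
    field_simp [Char.irr_one_ne_zero χ]

end Cfsg.Agent.S4626
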