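import Cfsg.Statements.S4633
import Cfsg.Agent.Lib.Block.CyclicPairs
import Cfsg.Agent.Lib.Block.Cyclic.SylowSetup
-- import your own Cfsg.Agent.* helpers here

set_option autoImplicit false
open Cfsg CfsgLib.Block

open Cfsg

namespace Cfsg.Agent.S4633

/-- Let B be a block of the finite group G relative to a maximal ideal M of the algebraic integers containing the prime p, with a nontrivial cyclic defect group P. Let c be a block of C_G(P) inducing B and T the stabilizer of c in N_G(P) (the elements of N_G(P) conjugating c to itself); T contains C_G(P). Then T/C_G(P) is cyclic of order dividing p − 1, and it acts freely on the non-identity elements of P: an element of T fixing some non-identity element of P under conjugation lies in C_G(P). -/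
theorem result {G : Type*} [Group G] [Finite G] (p : ℕ) [Fact p.Prime] (M : Ideal Cfsg.AlgInt) (hM : Cfsg.IsPModular p M) (B : Set (Cfsg.IrrCharacter G)) (hB : Cfsg.IsPBlock M B) (P : Subgroup G) (hPD : Cfsg.IsDefectGroup p M B P) (hP1 : P ≠ ⊥) (hcyc : IsCyclic P) (c : Set (Cfsg.IrrCharacter (Subgroup.centralizer (P : Set G)))) (hc : Cfsg.IsInducedBlock M (Subgroup.centralizer (P : Set G)) c B) (T : Subgroup G) (hT : ∀ g : G, g ∈ T ↔ (g ∈ Subgroup.normalizer (P : Set G) ∧ Cfsg.StabilizesBlock (Subgroup.centralizer (P : Set G)) c g)) [hn : ((Subgroup.centralizer (P : Set G)).subgroupOf T).Normal] : IsCyclic (T ⧸ (Subgroup.centralizer (P : Set G)).subgroupOf T) ∧ (Subgroup.centralizer (P : Set G)).relIndex T ∣ p - 1 ∧ ∀ g ∈ T, ∀ x ∈ P, x ≠ 1 → g * x * g⁻¹ = x → g ∈ Subgroup.centralizer (P : Set G) := by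
  classical
  have := hM.2.1
  let _ := Fintype.ofFinite G
  have hp : p.Prime := Fact.out
  have := Fintype.ofFinite (Cfsg.IrrCharacter G)
  have hPp : IsPGroup p P := CfsgLib.Block.isPGroup_defectGroup hM hB hPD
  have hPC : P ≤ Subgroup.centralizer (P : Set G) := fun u hu =>
    Subgroup.mem_centralizer_iff.mpr fun v hv =>
      congrArg Subtype.val ((IsCyclic.commGroup (α := P)).mul_comm ⟨v, hv⟩ ⟨u, hu⟩)
  have hmax := isMaximal_of_defect hM hPD ((isBrauerPairOf_iff_induced hM hB hPp hPC).mpr hc)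
  have hfree : ∀ (Q : Subgroup G), Q ≤ P → Q ≠ ⊥ →
      T ⊓ Subgroup.centralizer (Q : Set G) = Subgroup.centralizer (P : Set G) := fun Q hQP hQ1 =>
    inf_centralizer_below hM hmax hcyc hQP hQ1 hT
  have hdvd : p ∣ Nat.card P := by
    obtain ⟨k, hk⟩ := IsPGroup.iff_card.mp hPp
    rcases Nat.eq_zero_or_pos k with h0 | h0
    · exact absurd (P.eq_bot_of_card_eq (by rw [hk, h0, pow_zero])) hP1
    · exact hk ▸ dvd_pow_self p h0.ne'
  obtain ⟨x, hx⟩ := exists_prime_orderOf_dvd_card' p hdvd
  set Q := Subgroup.zpowers (x : G) with hQ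
  have hxo : orderOf (x : G) = p := by rw [Subgroup.orderOf_coe, hx]
  have hQc : Nat.card Q = p := by rw [hQ, Nat.card_zpowers, hxo]
  have hQP : Q ≤ P := Subgroup.zpowers_le.mpr x.2
  have hQ1 : Q ≠ ⊥ := fun h => by rw [h, Subgroup.card_bot] at hQc; exact hp.ne_one hQc.symm
  have hTQ : ∀ g ∈ T, g ∈ Subgroup.normalizer (Q : Set G) := fun g hg => by
    have hgP := cjS_eq_of_mem_normalizer ((hT g).mp hg).1
    exact mem_normalizer_of_cjS_eq (Subgroup.eq_of_le_of_card_ge
      (le_of_card_dvd_of_cyclic hcyc ((cjS_mono hQP).trans hgP.le) hQP (by rw [card_cjS]))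
      (by rw [card_cjS]))
  let φ : T →* MulAut Q := (Subgroup.normalizerMonoidHom Q).comp (Subgroup.inclusion hTQ)
  have hker : φ.ker = (Subgroup.centralizer (P : Set G)).subgroupOf T := by
    ext t
    rw [MonoidHom.mem_ker, Subgroup.mem_subgroupOf, ← hfree Q hQP hQ1, Subgroup.mem_inf,
      MonoidHom.comp_apply, ← MonoidHom.mem_ker, Subgroup.normalizerMonoidHom_ker,
      Subgroup.mem_subgroupOf]
    exact ⟨fun h => ⟨t.2, h⟩, fun h => h.2⟩
  have hQcyc : IsCyclic Q := isCyclic_of_prime_card hQc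
  let e := IsCyclic.mulAutMulEquiv Q
  have hu : IsCyclic (ZMod (Nat.card Q))ˣ := by rw [hQc]; exact ZMod.isCyclic_units_prime hp
  let q := (QuotientGroup.quotientMulEquivOfEq (M := (Subgroup.centralizer (P : Set G)).subgroupOf T)
    hker.symm).toMonoidHom
  let ψ := (e.toMonoidHom.comp (QuotientGroup.kerLift φ)).comp q
  have hψ : Function.Injective ψ := (e.injective.comp (QuotientGroup.kerLift_injective φ)).comp
    (MulEquiv.injective _)
  refine ⟨isCyclic_of_injective ψ hψ, ?_, fun g hg y hy hy1 hgy => ?_⟩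
  · have h := Subgroup.card_dvd_of_injective ψ hψ
    rw [Nat.card_eq_fintype_card (α := (ZMod (Nat.card Q))ˣ), ZMod.card_units_eq_totient, hQc,
      Nat.totient_prime hp] at h
    rw [Subgroup.relIndex, Subgroup.index]
    exact h
  · rw [← hfree (Subgroup.zpowers y) (Subgroup.zpowers_le.mpr hy) (by simpa using hy1)]
    refine ⟨hg, Subgroup.mem_centralizer_iff.mpr ?_⟩
    rintro _ ⟨i, rfl⟩
    have hc' : Commute g y := mul_inv_eq_iff_eq_mul.mp hgy
    exact ((hc'.zpow_right i).symm).eq

end Cfsg.Agent.S4633
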