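import Cfsg.Statements.S4635
import Cfsg.Agent.Lib.Block.CyclicDefect.CorrespondentIsometry

set_option autoImplicit false
open Cfsg

namespace Cfsg.Agent.S4635

/-- Let B be a block of the finite group G relative to a maximal ideal M of the algebraic integers containing the prime p, with a nontrivial cyclic defect group P; let Z be the subgroup of order p of P and H = N_G(Z), which contains N_G(P). Let c be the block of H with defect group P that induces B. Then B and c contain the same number of irreducible characters, have the same p-regular rank, and there is a perfect isometry from c onto B. -/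
theorem result {G : Type*} [Group G] [Finite G] (p : ℕ) [Fact p.Prime] (M : Ideal Cfsg.AlgInt) (hM : Cfsg.IsPModular p M) (B : Set (Cfsg.IrrCharacter G)) (hB : Cfsg.IsPBlock M B) (P : Subgroup G) (hPD : Cfsg.IsDefectGroup p M B P) (hP1 : P ≠ ⊥) (hcyc : IsCyclic P) (Z : Subgroup G) (hZ : Z ≤ P) (hZcard : Nat.card Z = p) (H : Subgroup G) (hH : H = Subgroup.normalizer (Z : Set G)) (c : Set (Cfsg.IrrCharacter H)) (hcD : Cfsg.IsDefectGroup p M c (P.subgroupOf H)) (hc : Cfsg.IsInducedBlock M H c B) : Nat.card c = Nat.card B ∧ Cfsg.blockRank p c = Cfsg.blockRank p B ∧ ∃ (I : Cfsg.IrrCharacter H → Cfsg.IrrCharacter G) (ε : Cfsg.IrrCharacter H → ℤ), Cfsg.IsPerfectIsometry p M c B I ε := by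
  classical
  have : M.IsMaximal := hM.2.1
  have := Fintype.ofFinite G
  subst hH
  have := Fintype.ofFinite (IrrCharacter G)
  have hPH : P ≤ Subgroup.normalizer (Z : Set G) := fun u hu => by
    refine CfsgLib.Block.centralizer_le_normalizer' Z (Subgroup.mem_centralizer_iff.mpr fun v hv => ?_)
    exact congrArg Subtype.val ((hcyc.commGroup (α := P)).mul_comm ⟨v, hZ hv⟩ ⟨u, hu⟩)
  have hN : Subgroup.normalizer (P : Set G) ≤ Subgroup.normalizer (Z : Set G) := fun g hg => by
    refine CfsgLib.Block.mem_normalizer_of_cjS_eq (Subgroup.eq_of_le_of_card_ge ?_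
      (by rw [CfsgLib.Block.card_cjS]))
    exact CfsgLib.Block.le_of_card_dvd_of_cyclic hcyc
      ((CfsgLib.Block.cjS_mono hZ).trans (CfsgLib.Block.cjS_eq_of_mem_normalizer hg).le) hZ
      (by rw [CfsgLib.Block.card_cjS])
  have hC : Subgroup.centralizer (P : Set G) ≤ Subgroup.normalizer (Z : Set G) :=
    fun g hg => hN (CfsgLib.Block.centralizer_le_normalizer' P hg)
  exact CfsgLib.Block.CyclicDefect.exists_isometry_correspondent hM hB hPD hP1 hcyc hPH hC hN hcD hc

end Cfsg.Agent.S4635
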