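import Cfsg.Statements.S4636
-- import your own Cfsg.Agent.* helpers here

set_option autoImplicit false



open scoped Pointwise
open Cfsg

namespace Cfsg.Agent.S4636

/-- Let P be a nontrivial cyclic p-subgroup of the finite group G and Z its subgroup of order p. For every x outside N_G(Z), P meets its conjugate xPx⁻¹ trivially; consequently N_G(Q) ≤ N_G(Z) for every nontrivial subgroup Q of P. -/
theorem result {G : Type*} [Group G] [Finite G] (p : ℕ) [Fact p.Prime] (P : Subgroup G) (hP : IsPGroup p P) (hP1 : P ≠ ⊥) (hcyc : IsCyclic P) (Z : Subgroup G) (hZ : Z ≤ P) (hZcard : Nat.card Z = p) : (∀ x : G, x ∉ Subgroup.normalizer (Z : Set G) → P ⊓ MulAut.conj x • P = ⊥) ∧ ∀ Q : Subgroup G, Q ≤ P → Q ≠ ⊥ → Subgroup.normalizer (Q : Set G) ≤ Subgroup.normalizer (Z : Set G) := by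
  classical
  have hp : p.Prime := Fact.out
  -- every nontrivial subgroup of `P` contains `Z`, and `Z` is the only one of its order
  have huniq : ∀ Q : Subgroup G, Q ≤ P → Q ≠ ⊥ → Z ≤ Q := by
    intro Q hQ hQ1
    obtain ⟨k, hk⟩ := IsPGroup.iff_card.mp (hP.to_le hQ)
    have hk0 : k ≠ 0 := fun h => hQ1 (Subgroup.card_eq_one.mp (by rw [hk, h, pow_zero]))
    have := Fintype.ofFinite P
    obtain ⟨x, hx⟩ := exists_prime_orderOf_dvd_card' (G := Q) p (by rw [hk]; exact dvd_pow_self p hk0)
    have hle : (Subgroup.zpowers (x : G)) ≤ Q := Subgroup.zpowers_le.mpr x.2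
    have hc : Nat.card (Subgroup.zpowers (x : G)) = p := by
      rw [Nat.card_zpowers, Subgroup.orderOf_coe, hx]
    have hsub : ∀ u : G, u ∈ P → u ^ p = 1 → u ∈ Z := by
      intro u hu hup
      have := Fintype.ofFinite Z
      set S : Finset P := Finset.univ.filter fun a => a ^ p = 1
      set T : Finset P := Finset.univ.map ⟨fun z : Z => (⟨z, hZ z.2⟩ : P), fun a b h => Subtype.ext (congrArg Subtype.val h :)⟩
      have hTS : T ⊆ S := by
        intro a ha
        obtain ⟨z, -, rfl⟩ := Finset.mem_map.mp ha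
        refine Finset.mem_filter.mpr ⟨Finset.mem_univ _, Subtype.ext ?_⟩
        have := congrArg Subtype.val (pow_card_eq_one' (x := z))
        rw [hZcard] at this
        exact this
      have hT : T.card = p := by rw [Finset.card_map, Finset.card_univ, ← Nat.card_eq_fintype_card, hZcard]
      have hST : T = S := Finset.eq_of_subset_of_card_le hTS (by
        rw [hT]; exact IsCyclic.card_pow_eq_one_le hp.pos)
      have hmem : (⟨u, hu⟩ : P) ∈ T := hST ▸ Finset.mem_filter.mpr ⟨Finset.mem_univ _, Subtype.ext hup⟩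
      obtain ⟨z, -, hz⟩ := Finset.mem_map.mp hmem
      have : (z : G) = u := congrArg Subtype.val hz
      exact this ▸ z.2
    have heq : Z = Subgroup.zpowers (x : G) := by
      refine (Subgroup.eq_of_le_of_card_ge (Subgroup.zpowers_le.mpr (hsub _ (hQ x.2) ?_))
        (le_of_eq (hZcard.trans hc.symm))).symm
      rw [← SubgroupClass.coe_pow, ← hx, pow_orderOf_eq_one, OneMemClass.coe_one]
    exact heq ▸ hle
  have hZc : ∀ x : G, Nat.card (MulAut.conj x • Z : Subgroup G) = p := fun x =>
    (Subgroup.card_map_of_injective (MulAut.conj x).injective).trans hZcard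
  have hnorm : ∀ x : G, Z ≤ MulAut.conj x • P → x ∈ Subgroup.normalizer (Z : Set G) := by
    intro x hx
    have h1 : MulAut.conj x⁻¹ • Z ≤ P := by
      rintro _ ⟨y, hy, rfl⟩
      obtain ⟨u, hu, rfl⟩ := hx hy
      simpa [mul_assoc] using hu
    have hne : MulAut.conj x⁻¹ • Z ≠ ⊥ := fun h => hp.ne_one (by rw [← hZc x⁻¹, h, Subgroup.card_bot])
    have heq : Z = MulAut.conj x⁻¹ • Z :=
      Subgroup.eq_of_le_of_card_ge (huniq _ h1 hne) (by rw [hZc, hZcard])
    have hmem : x⁻¹ ∈ Subgroup.normalizer (Z : Set G) := by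
      refine Subgroup.mem_normalizer_iff.mpr fun y => ⟨fun hy => ?_, fun hy => ?_⟩
      · rw [heq]; exact ⟨y, hy, by simp⟩
      · have hy' : x⁻¹ * y * x⁻¹⁻¹ ∈ MulAut.conj x⁻¹ • Z := heq ▸ hy
        obtain ⟨u, hu, he⟩ := hy'
        simp at he
        rwa [← he]
    simpa using inv_mem hmem
  constructor
  · intro x hx
    by_contra h
    exact hx (hnorm x ((huniq _ inf_le_left h).trans inf_le_right))
  · intro Q hQ hQ1 x hx
    refine hnorm x fun z hz => ?_
    have hzQ := huniq Q hQ hQ1 hz
    exact ⟨x⁻¹ * z * x, hQ ((Subgroup.mem_normalizer_iff.mp hx _).mpr (by simpa [mul_assoc] using hzQ)),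
      by simp [mul_assoc]⟩

end Cfsg.Agent.S4636
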