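import Cfsg.Statements.S4637
import Cfsg.Agent.Lib.Block.FusedSum
import Cfsg.Agent.Lib.Block.NilpotentBijection
import Cfsg.Agent.Lib.Block.DefectFusion
import Mathlib.GroupTheory.SpecificGroups.KleinFour

/-!
# Blocks with a Klein four defect group

With a trivial inertial quotient the block is nilpotent; otherwise all involutions of the defect
group are fused and the single non-trivial subsection has a unit row.
-/

set_option autoImplicit false
open Cfsg

namespace Cfsg.Agent.S4637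

open CfsgLib CfsgLib.Block
open scoped ComplexConjugate Pair

universe u

variable {G : Type u} [Group G] [Finite G]

/-- The elements of a Klein four group. -/
theorem klein_cases {V : Subgroup G} (h4 : Nat.card V = 4) (hexp : ∀ v ∈ V, v * v = 1) {v r : G}
    (hv : v ∈ V) (hr : r ∈ V) (hv1 : v ≠ 1) (hr1 : r ≠ 1) (hvr : r ≠ v) :
    ∀ x ∈ V, x = 1 ∨ x = v ∨ x = r ∨ x = v * r := by
  classical
  let _ := Fintype.ofFinite G
  have h1 : v * r ≠ 1 := fun h => hvr (mul_left_cancel (h.trans (hexp v hv).symm))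
  have h2 : v * r ≠ v := fun h => hr1 (mul_eq_left.mp h)
  have h3 : v * r ≠ r := fun h => hv1 (mul_eq_right.mp h)
  have hsub : ({1, v, r, v * r} : Finset G) ⊆ Finset.univ.filter (· ∈ V) := by
    intro x hx
    simp only [Finset.mem_insert, Finset.mem_singleton] at hx
    rcases hx with rfl | rfl | rfl | rfl <;> simp [hv, hr, mul_mem hv hr, one_mem]
  have hc : ({1, v, r, v * r} : Finset G).card = 4 := by
    rw [Finset.card_insert_of_notMem (by simp [Ne.symm hv1, Ne.symm hr1, Ne.symm h1]),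
      Finset.card_eq_three.mpr ⟨v, r, v * r, Ne.symm hvr, Ne.symm h2, Ne.symm h3, rfl⟩]
  have he := Finset.eq_of_subset_of_card_le hsub (by
    rw [hc, ← Fintype.card_subtype, ← Nat.card_eq_fintype_card]; exact h4.le)
  intro x hx
  have : x ∈ ({1, v, r, v * r} : Finset G) := he ▸ Finset.mem_filter.mpr ⟨Finset.mem_univ _, hx⟩
  simpa using this

/-- An element of odd order commuting with `x ^ 2` commutes with `x`. -/
theorem commute_of_sq {y r : G} (hy : ¬ 2 ∣ orderOf y) (h : Commute (y * y) r) : Commute y r := by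
  obtain ⟨k, hk⟩ := Nat.odd_iff.mpr (Nat.two_dvd_ne_zero.mp hy)
  have : y = (y * y) ^ (k + 1) := by
    rw [← sq, ← pow_mul, show 2 * (k + 1) = orderOf y + 1 by omega, pow_succ, pow_orderOf_eq_one, one_mul]
  exact this ▸ h.pow_left _

/-- An element of odd order normalizing a Klein four group and fixing a non-trivial element
centralizes it. -/
theorem commute_of_fix_klein {V : Subgroup G} (h4 : Nat.card V = 4) (hexp : ∀ v ∈ V, v * v = 1)
    {y v : G} (hy : y ∈ Subgroup.normalizer (V : Set G)) (hreg : ¬ 2 ∣ orderOf y) (hv : v ∈ V)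
    (hv1 : v ≠ 1) (hfix : Commute y v) : ∀ r ∈ V, Commute y r := by
  intro r hr
  by_cases hr1 : r = 1
  · exact hr1 ▸ Commute.one_right y
  by_cases hrv : r = v
  · exact hrv ▸ hfix
  refine commute_of_sq hreg ?_
  have hr' : y * r * y⁻¹ ∈ V := (Subgroup.mem_normalizer_iff.mp hy r).mp hr
  have hfv : y * v * y⁻¹ = v := by rw [hfix.eq, mul_inv_cancel_right]
  have key : y * y * r * (y * y)⁻¹ = r := by
    rw [show y * y * r * (y * y)⁻¹ = y * (y * r * y⁻¹) * y⁻¹ by group]
    rcases klein_cases h4 hexp hv hr hv1 hr1 hrv _ hr' with h | h | h | h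
    · exact absurd (conj_eq_one_iff.mp h) hr1
    · exact absurd (mul_left_cancel (mul_right_cancel (h.trans hfv.symm))) hrv
    · rw [h, h]
    · calc y * (y * r * y⁻¹) * y⁻¹ = (y * v * y⁻¹) * (y * r * y⁻¹) := by (conv_lhs => rw [h]); group
        _ = v * (v * r) := by rw [hfv, h]
        _ = r := by rw [← mul_assoc, hexp v hv, one_mul]
  exact mul_inv_eq_iff_eq_mul.mp key

omit [Finite G] in
/-- Transfer of exponent two to a conjugate or an intersection. -/
theorem exp_two_subgroupOf {V H : Subgroup G} (hexp : ∀ v ∈ V, v * v = 1) :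
    ∀ v ∈ V.subgroupOf H, v * v = 1 := fun v hv =>
  Subtype.ext (hexp _ (Subgroup.mem_subgroupOf.mp hv))

section

variable {A : Type u} [Group A] [Fintype A] [DecidableEq A] [Fintype (IrrCharacter A)]
  {M : Ideal AlgInt} [M.IsMaximal]

open scoped Pair in
/-- A block with Klein four defect group whose maximal pair has no odd automorphism is nilpotent. -/
theorem isNilpotent_of_klein (hM : IsPModular 2 M) {f : Set (IrrCharacter A)} (hf : IsPBlock M f)
    {D : Subgroup A} {d : Set (IrrCharacter (CQ D))} (hmax : IsMaximalBrauerPair 2 M f D d)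
    (h4 : Nat.card D = 4)
    (h : ∀ x ∈ Subgroup.normalizer (D : Set A), StabilizesBlock (CQ D) d x → ¬ 2 ∣ orderOf x →
      x ∈ CQ D) : IsNilpotentBlock 2 M f := by
  refine ⟨hf, fun R g hg x hxN hxS hxreg => ?_⟩
  obtain ⟨D', d', hd', hRD⟩ := exists_maximal_above hM R g hg
  have hD'4 : Nat.card D' = 4 := by
    rw [defectGroup_card hM hf (isDefectGroup_of_maximal hM hd'),
      ← defectGroup_card hM hf (isDefectGroup_of_maximal hM hmax), h4]
  have hdvd : Nat.card R ∣ 4 := hD'4 ▸ Subgroup.card_dvd_of_le (SubpairLE.le hRD)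
  rw [Subgroup.mem_centralizer_iff]
  intro r hr
  have hrR : x * r * x⁻¹ ∈ R := (Subgroup.mem_normalizer_iff.mp hxN r).mp hr
  by_cases hcard : Nat.card R ≤ 2
  · by_cases hr1 : r = 1
    · subst hr1; simp
    have hsame : (⟨x * r * x⁻¹, hrR⟩ : R) = ⟨r, hr⟩ := by
      by_contra hne
      have h3 : ({1, ⟨r, hr⟩, ⟨x * r * x⁻¹, hrR⟩} : Finset R).card = 3 := Finset.card_eq_three.mpr
        ⟨_, _, _, fun e => hr1 (congrArg Subtype.val e).symm,
          fun e => hr1 (conj_eq_one_iff.mp (congrArg Subtype.val e).symm), fun e => hne e.symm, rfl⟩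
      let _ := Fintype.ofFinite R
      have := Finset.card_le_univ ({1, ⟨r, hr⟩, ⟨x * r * x⁻¹, hrR⟩} : Finset R)
      rw [← Nat.card_eq_fintype_card] at this
      omega
    exact (mul_inv_eq_iff_eq_mul.mp (congrArg Subtype.val hsame)).symm
  · have hR4 : Nat.card R = 4 := by
      have := Nat.le_of_dvd (by norm_num) hdvd
      generalize Nat.card R = m at *
      interval_cases m <;> omega
    obtain ⟨y, hy⟩ := exists_conj_subpairLE hM hmax hg
    have hyD : cjS y R = D := Subgroup.eq_of_le_of_card_ge (SubpairLE.le hy) (by rw [card_cjS, hR4, h4])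
    have he : cjP y (⟨R, g⟩ : BrauerPairIdx A) = ⟨D, d⟩ :=
      below_ext hM hmax.1.1 hy Relation.ReflTransGen.refl hyD
    have hfix : cjP (y * x * y⁻¹) (⟨D, d⟩ : BrauerPairIdx A) = ⟨D, d⟩ := by
      rw [← he, cjP_cjP hM _ _ hg.1.2, show y * x * y⁻¹ * y = y * x by group,
        ← cjP_cjP hM _ _ hg.1.2, cjP_eq_of_stabilizes hM hxN hg.1.2 hxS]
    obtain ⟨hN, hS⟩ := stabilizesBlock_of_cjP_eq hM hmax.1.1.2 hfix
    have hc := h _ hN hS (by rwa [orderOf_conj_eq])
    have h1 := Subgroup.mem_centralizer_iff.mp hc (y * r * y⁻¹)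
      (show y * r * y⁻¹ ∈ D from hyD ▸ Subgroup.mem_map_of_mem (MulAut.conj y).toMonoidHom hr)
    calc r * x = y⁻¹ * ((y * r * y⁻¹) * (y * x * y⁻¹)) * y := by group
      _ = y⁻¹ * ((y * x * y⁻¹) * (y * r * y⁻¹)) * y := by rw [h1]
      _ = x * r := by group

end

theorem rank_one_scaled {X Y W : ℂ} (n : ℕ) (h : X * conj X = Y * W) :
    4 * (X / (n : ℂ)) * conj (4 * (X / (n : ℂ))) = 4 * (Y / (n : ℂ)) * (4 * (W / (n : ℂ))) := by
  rw [map_mul (starRingEnd ℂ), map_div₀, map_natCast, map_ofNat]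
  linear_combination (16 * ((n : ℂ)⁻¹) ^ 2) * h

/-- Four positive integers summing to four. -/
theorem all_one {ι : Type*} [DecidableEq ι] (s : Finset ι) (a : ι → ℤ) {i : ι} (hi : i ∈ s)
    (hodd : ¬ (2 : ℤ) ∣ a i) (hpos : ∀ j ∈ s, 1 ≤ a j)
    (hsq : ∀ j ∈ s, j ≠ i → ∃ z : ℤ, a i * a j = z * z) (hsum : ∑ j ∈ s, a j = 4) : s.card = 4 := by
  have hle : ∀ j ∈ s, j ≠ i → a i + a j ≤ 4 := fun j hj hne => by
    rw [← hsum, ← Finset.sum_pair (f := a) (Ne.symm hne)]
    exact Finset.sum_le_sum_of_subset_of_nonneg (by simp [Finset.insert_subset_iff, hi, hj])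
      fun k hk _ => by linarith [hpos k hk]
  have hns : ∀ z : ℤ, z * z ≠ 2 ∧ z * z ≠ 3 := fun z => by
    constructor <;>
    · intro h
      have h1 : -2 < z := by nlinarith
      have h2 : z < 2 := by nlinarith
      interval_cases z <;> omega
  have hi4 : a i ≤ 4 := hsum ▸ Finset.single_le_sum (fun k hk => by linarith [hpos k hk]) hi
  have hai : a i = 1 := by
    have := hpos i hi
    rcases (show a i = 1 ∨ a i = 3 by omega) with h | h
    · exact h
    · exfalso
      obtain ⟨j, hj, hne⟩ : ∃ j ∈ s, j ≠ i := by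
        by_contra hno
        push Not at hno
        rw [Finset.sum_eq_single i (fun j hj hne => absurd (hno j hj) hne) (fun h' => absurd hi h')] at hsum
        omega
      obtain ⟨z, hz⟩ := hsq j hj hne
      have h1 := hle j hj hne
      have h2 := hpos j hj
      exact (hns z).2 (by rw [← hz, h, show a j = 1 by omega]; norm_num)
  have hall : ∀ j ∈ s, a j = 1 := fun j hj => by
    by_cases hne : j = i
    · exact hne ▸ hai
    · obtain ⟨z, hz⟩ := hsq j hj hne
      have h1 := hle j hj hne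
      have h2 := hpos j hj
      rw [hai, one_mul] at hz
      have := hns z
      omega
  rw [Finset.sum_congr rfl hall, Finset.sum_const, nsmul_one] at hsum
  exact_mod_cast hsum

/-- Let B be a block of the finite group G relative to a maximal ideal M of the algebraic integers containing 2, with a Klein four defect group P. Let c be a block of C_G(P) inducing B, T the stabilizer of c in N_G(P) and e the index of C_G(P) in T (the inertial index). Then e is 1 or 3, B contains exactly four irreducible characters, and the 2-regular rank of B (its number of irreducible Brauer characters) equals e. -/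
theorem result {G : Type*} [Group G] [Finite G] (M : Ideal Cfsg.AlgInt) (hM : Cfsg.IsPModular 2 M) (B : Set (Cfsg.IrrCharacter G)) (hB : Cfsg.IsPBlock M B) (P : Subgroup G) (hPD : Cfsg.IsDefectGroup 2 M B P) (hV : IsKleinFour P) (c : Set (Cfsg.IrrCharacter (Subgroup.centralizer (P : Set G)))) (hc : Cfsg.IsInducedBlock M (Subgroup.centralizer (P : Set G)) c B) (T : Subgroup G) (hT : ∀ g : G, g ∈ T ↔ (g ∈ Subgroup.normalizer (P : Set G) ∧ Cfsg.StabilizesBlock (Subgroup.centralizer (P : Set G)) c g)) (e : ℕ) (he : (Subgroup.centralizer (P : Set G)).relIndex T = e) : (e = 1 ∨ e = 3) ∧ Nat.card B = 4 ∧ Cfsg.blockRank 2 B = e := by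
  classical
  let _ := Fintype.ofFinite G
  let _ : Fintype (IrrCharacter G) := Fintype.ofFinite _
  let _ : Fintype (ConjClasses G) := Fintype.ofFinite _
  let _ : Fintype P := Fintype.ofFinite _
  have : M.IsMaximal := hM.2.1
  have : Fact (Nat.Prime 2) := ⟨Nat.prime_two⟩
  have h4 : Nat.card P = 4 := hV.card_four
  have hexp : ∀ v ∈ P, v * v = 1 := fun v hv =>
    congrArg Subtype.val (IsKleinFour.mul_self (⟨v, hv⟩ : P))
  have hPab : ∀ a ∈ P, ∀ b ∈ P, a * b = b * a := fun a ha b hb => by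
    have hinv : ∀ w ∈ P, w⁻¹ = w := fun w hw => inv_eq_of_mul_eq_one_right (hexp w hw)
    rw [← hinv (a * b) (mul_mem ha hb), mul_inv_rev, hinv a ha, hinv b hb]
  have hPC : P ≤ CQ P := fun a ha => Subgroup.mem_centralizer_iff.mpr fun b hb => hPab b hb a ha
  have hpP : IsPGroup 2 P := IsPGroup.of_card (n := 2) (by rw [h4]; norm_num)
  have hpair := (isBrauerPairOf_iff_induced hM hB hpP hPC).mpr hc
  have hmax := isMaximal_of_defect hM hPD hpair
  set he' := hmax.1.1
  -- the stabilizer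
  have hCT : CQ P ≤ T := fun u hu => (hT u).mpr ⟨centralizer_le_normalizer' P hu,
    (stabilizesBlock_iff hM (centralizer_le_normalizer' P hu) he'.2).mpr
      (cinv_iff_cj.mp (cinv_eG c) u hu)⟩
  have hPT : P ≤ T := fun u hu => hCT (hPC hu)
  obtain ⟨FT, hL, -⟩ := exists_stabilizerBlock hM he' hT
  have hdefT : IsDefectGroup 2 M FT (P.subgroupOf T) := by
    obtain ⟨D, hD⟩ := exists_defectGroup hM hL.block
    obtain ⟨x, hx, hDx⟩ := hL.exists_conj_le hM he' hmax Relation.ReflTransGen.refl hD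
    have h1 := hL.inf_conjLE hM he' he' Relation.ReflTransGen.refl hD
    rw [inf_eq_left.mpr hPT] at h1
    refine isDefectGroup_of_conjLE_card hM hL.block hD h1 ?_
    have h2 := Subgroup.card_le_of_le hDx
    rw [card_cjS, Subgroup.card_map_of_injective Subtype.val_injective] at h2
    rwa [card_subgroupOf_eq hPT]
  -- each element of the stabilizer is regular modulo the centralizer
  have hsplit : ∀ t ∈ T, ∃ u ∈ CQ P, ∃ w ∈ T, ¬ 2 ∣ orderOf w ∧ u * w = t := by
    intro t ht
    obtain ⟨u', w', huw', -, ⟨a, ha⟩, hw'⟩ := exists_isPPart (p := 2) hM.1 (⟨t, ht⟩ : T)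
    have h1 := hL.pElement_le hM he' hPT hdefT u'.2 (g := (u' : G)) (by rw [Subgroup.orderOf_coe, ha])
    rw [sup_eq_right.mpr hPC] at h1
    exact ⟨_, h1, _, w'.2, by rwa [Subgroup.orderOf_coe], congrArg Subtype.val huw'⟩
  have hTN : T ≤ Subgroup.normalizer (P : Set G) := fun t ht => ((hT t).mp ht).1
  let φ : T →* Equiv.Perm P :=
    { toFun := fun t =>
        { toFun := fun v => ⟨(t : G) * v * (t : G)⁻¹, (Subgroup.mem_normalizer_iff.mp (hTN t.2) v).mp v.2⟩
          invFun := fun v => ⟨(t : G)⁻¹ * v * (t : G), (Subgroup.mem_normalizer_iff''.mp (hTN t.2) v).mp v.2⟩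
          left_inv := fun v => Subtype.ext (by simp [mul_assoc])
          right_inv := fun v => Subtype.ext (by simp [mul_assoc]) }
      map_one' := Equiv.ext fun v => Subtype.ext (by simp)
      map_mul' := fun s t => Equiv.ext fun v => Subtype.ext (by simp [mul_assoc]) }
  have hker : φ.ker = (CQ P).subgroupOf T := by
    ext t
    rw [MonoidHom.mem_ker, Subgroup.mem_subgroupOf, Subgroup.mem_centralizer_iff]
    constructor
    · intro h v hv
      have h1 : (t : G) * v * (t : G)⁻¹ = v := congrArg Subtype.val (Equiv.congr_fun h ⟨v, hv⟩)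
      exact (mul_inv_eq_iff_eq_mul.mp h1).symm
    · intro h
      refine Equiv.ext fun v => Subtype.ext ?_
      show (t : G) * v * (t : G)⁻¹ = v
      rw [← h v v.2, mul_inv_cancel_right]
  have herange : e = Nat.card φ.range := by
    rw [← he, Subgroup.relIndex, ← hker, Subgroup.index_ker]
  have hodd : ¬ 2 ∣ e := by
    intro h2
    rw [herange] at h2
    obtain ⟨⟨_, t, rfl⟩, hq⟩ := exists_prime_orderOf_dvd_card' 2 h2
    rw [← Subgroup.orderOf_coe] at hq
    obtain ⟨u, hu, w, hw, hwodd, huw⟩ := hsplit t t.2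
    have hφ : φ t = φ ⟨w, hw⟩ := by
      rw [show t = (⟨u, hCT hu⟩ : T) * ⟨w, hw⟩ from Subtype.ext huw.symm, map_mul,
        (MonoidHom.mem_ker.mp (hker.symm ▸ Subgroup.mem_subgroupOf.mpr hu : (⟨u, hCT hu⟩ : T) ∈ φ.ker)),
        one_mul]
    apply hwodd
    rw [← hq]
    show orderOf (φ t) ∣ orderOf w
    rw [hφ]
    exact (orderOf_map_dvd φ ⟨w, hw⟩).trans (by rw [← Subgroup.orderOf_coe])
  have he13 : e = 1 ∨ e = 3 := by
    have h24 : e ∣ 24 := by
      rw [herange]
      refine (Subgroup.card_subgroup_dvd_card φ.range).trans ?_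
      rw [Nat.card_eq_fintype_card, Fintype.card_perm, ← Nat.card_eq_fintype_card, h4]
      norm_num [Nat.factorial]
    have := Nat.le_of_dvd (by norm_num) h24
    interval_cases e <;> omega
  refine ⟨he13, ?_⟩
  rcases he13 with h1 | h3
  · -- nilpotent
    have hTC : T ≤ CQ P := Subgroup.relIndex_eq_one.mp (he.trans h1)
    have hnil : IsNilpotentBlock 2 M B := isNilpotent_of_klein hM hB hmax h4
      fun x hxN hxS _ => hTC ((hT x).mpr ⟨hxN, hxS⟩)
    obtain ⟨Φ, -⟩ := exists_height_bijection hM hmax hnil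
    have := (blockRank_eq_one_of_unitRow (by norm_num) (isNilpotentBlock_unitRow hM hnil)).1
    refine ⟨?_, by rw [h1, this]⟩
    rw [Nat.card_congr Φ, Char.card_irr_eq_card_conjClasses, ← h4]
    refine (Nat.card_eq_of_bijective ConjClasses.mk ⟨fun a b hab => ?_, ConjClasses.mk_surjective⟩).symm
    obtain ⟨n, hn⟩ := isConj_iff.mp (ConjClasses.mk_eq_mk_iff_isConj.mp hab)
    refine Subtype.ext ?_
    have h5 : (n : G) * a * (n : G)⁻¹ = b := congrArg Subtype.val hn
    rw [hPab n n.2 a a.2, mul_inv_cancel_right] at h5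
    exact h5
  -- the inertial quotient has order three
  obtain ⟨w, hwT, hwreg, hwP⟩ : ∃ w ∈ T, ¬ 2 ∣ orderOf w ∧ w ∉ CQ P := by
    by_contra hno
    push Not at hno
    have : T ≤ CQ P := fun t ht => by
      obtain ⟨u, hu, w, hw, hwodd, rfl⟩ := hsplit t ht
      exact mul_mem hu (hno w hw hwodd)
    rw [← Subgroup.relIndex_eq_one, he] at this
    omega
  have hwfix : ∀ y ∈ P, y ≠ 1 → ¬ Commute w y := fun y hy hy1 hcom => hwP
    (Subgroup.mem_centralizer_iff.mpr fun r hr =>
      ((commute_of_fix_klein h4 hexp (hTN hwT) hwreg hy hy1 hcom r hr).eq).symm)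
  have htrans : ∀ y ∈ P, y ≠ 1 → ∀ z ∈ P, z ≠ 1 → ∃ t ∈ T, t * y * t⁻¹ = z := by
    intro y hy hy1 z hz hz1
    set y' := w * y * w⁻¹ with hy'
    have hy'P : y' ∈ P := (Subgroup.mem_normalizer_iff.mp (hTN hwT) y).mp hy
    have hy'1 : y' ≠ 1 := fun h => hy1 (conj_eq_one_iff.mp h)
    have hy'y : y' ≠ y := fun h => hwfix y hy hy1 (mul_inv_eq_iff_eq_mul.mp h)
    have hy''P : w * y' * w⁻¹ ∈ P := (Subgroup.mem_normalizer_iff.mp (hTN hwT) y').mp hy'P
    rcases klein_cases h4 hexp hy hy'P hy1 hy'1 hy'y z hz with h | h | h | h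
    · exact absurd h hz1
    · exact ⟨1, one_mem T, by rw [h]; group⟩
    · exact ⟨w, hwT, h.symm⟩
    · refine ⟨w * w, mul_mem hwT hwT, ?_⟩
      rw [h, show w * w * y * (w * w)⁻¹ = w * y' * w⁻¹ by rw [hy']; group]
      rcases klein_cases h4 hexp hy hy'P hy1 hy'1 hy'y _ hy''P with h' | h' | h' | h'
      · exact absurd (conj_eq_one_iff.mp h') hy'1
      · refine absurd (commute_of_sq hwreg ?_) (hwfix y hy hy1)
        show w * w * y = y * (w * w)
        rw [← mul_inv_eq_iff_eq_mul, show w * w * y * (w * w)⁻¹ = w * y' * w⁻¹ by rw [hy']; group, h']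
      · exact absurd (mul_left_cancel (mul_right_cancel (h'.trans hy'))) hy'y
      · exact h'
  -- the classes in `P`
  obtain ⟨u, hu⟩ : ∃ u : P, u ≠ 1 := by
    have : Nontrivial P := Finite.one_lt_card_iff_nontrivial.mp (by rw [h4]; norm_num)
    exact exists_ne 1
  have hfus : ∀ y : P, y ≠ 1 → fusClass hM he' y = Finset.univ.filter (· ≠ 1) := by
    intro y hy
    ext z
    rw [mem_fusClass hM he']
    simp only [Finset.mem_filter, Finset.mem_univ, true_and]
    constructor
    · rintro ⟨g, hg, -⟩ rfl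
      exact hy (Subtype.ext (conj_eq_one_iff.mp hg))
    · intro hz
      obtain ⟨t, htT, ht⟩ := htrans y y.2 (fun h => hy (Subtype.ext h)) z z.2 (fun h => hz (Subtype.ext h))
      refine ⟨t, ht, below_ext hM he' (below_conj hM (lowPair_below hM he' y) ?_)
        (lowPair_below hM he' z) ?_⟩
      · exact cjP_eq_of_stabilizes hM (hTN htT) he'.2 ((hT t).mp htT).2
      · show cjS t (Subgroup.zpowers (y : G)) = Subgroup.zpowers (z : G)
        rw [cjS_zpowers, ht]
  have hfus1 : fusClass hM he' 1 = {1} := by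
    ext z
    rw [mem_fusClass hM he', Finset.mem_singleton]
    constructor
    · rintro ⟨g, hg, -⟩
      exact Subtype.ext (by rw [← hg]; simp)
    · rintro rfl
      exact (mem_fusClass hM he').mp (self_mem_fusClass hM he' 1)
  set a := lowPair hM he' u with hadef
  obtain ⟨m, hm⟩ : ∃ m : IrrCharacter G → IrrCharacter G → ℂ, ∀ χ ψ, m χ ψ =
      secSum 2 χ ψ (u : G) a / (Nat.card (CQ (Subgroup.zpowers (u : G))) : ℂ) :=
    ⟨_, fun _ _ => rfl⟩
  have hne3 : (Finset.univ.filter (fun y : P => y ≠ 1)).card = 3 := by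
    rw [Finset.filter_ne', Finset.card_erase_of_mem (Finset.mem_univ _), Finset.card_univ,
      ← Nat.card_eq_fintype_card, h4]
  have horth : ∀ χ ∈ B, ∀ ψ ∈ B, regInner 2 χ ψ + m χ ψ = if χ = ψ then 1 else 0 := by
    intro χ hχ ψ hψ
    rw [← sum_secSum_fused hM hmax hχ hψ, ← Finset.add_sum_erase _ _ (Finset.mem_univ (1 : P))]
    congr 1
    · rw [hfus1, Finset.card_singleton, Nat.cast_one, mul_one, OneMemClass.coe_one,
        secSum_one_eq hM hmax hχ hψ]
      have hcq : CQ (Subgroup.zpowers (1 : G)) = ⊤ := eq_top_iff.mpr fun t _ =>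
        mem_cq_zpowers_iff.mpr (Commute.one_right t)
      rw [hcq, Subgroup.card_top]
      field_simp [show (Nat.card G : ℂ) ≠ 0 from Nat.cast_ne_zero.mpr Nat.card_pos.ne']
    · rw [← Finset.filter_ne', Finset.sum_congr rfl (g := fun _ => m χ ψ / 3) fun y hy => ?_,
        Finset.sum_const, hne3, nsmul_eq_mul]
      · ring
      · have hy1 := (Finset.mem_filter.mp hy).2
        obtain ⟨g, hg, hgl⟩ : ∃ g : G, g * (u : G) * g⁻¹ = (y : G) ∧ cjP g a = lowPair hM he' y :=
          (mem_fusClass hM he').mp (by rw [hfus u hu]; exact hy)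
        rw [hfus y hy1, hne3, hm, ← hgl, ← hg, secSum_cjP,
          show CQ (Subgroup.zpowers (g * (u : G) * g⁻¹)) = CQ (cjS g (Subgroup.zpowers (u : G))) by
            rw [cjS_zpowers], div_mul_eq_div_div]
        congr 3
        exact Nat.card_congr
          { toFun := fun t => ⟨g⁻¹ * t * g, inv_conj_mem_cq_iff.mp t.2⟩
            invFun := fun t => ⟨g * t * g⁻¹, inv_conj_mem_cq_iff.mpr (by simpa [mul_assoc] using t.2)⟩
            left_inv := fun t => Subtype.ext (by simp [mul_assoc])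
            right_inv := fun t => Subtype.ext (by simp [mul_assoc]) }
  -- the block below `u` has a unit row
  have hup : ∃ k : ℕ, orderOf (u : G) = 2 ^ k := exists_pElement_orderOf he' u Nat.prime_two
  have hpu := lowPair_pairOf hM hmax u
  rw [← hadef] at hpu
  have ha1 : a.1 = Subgroup.zpowers (u : G) := rfl
  have hrow : HasUnitRow 2 a.2 := by
    have := Fintype.ofFinite (IrrCharacter (CQ a.1))
    refine isNilpotentBlock_unitRow hM ?_
    have hQP : a.1 ≤ P := Subgroup.zpowers_le.mpr u.2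
    have hPQ : P ≤ CQ a.1 := le_trans hPC (cq_mono hQP)
    obtain ⟨g, hg, hgle⟩ := SubpairLE.exists_nSub_mid hM he'
      (show SubpairLE 2 M a.1 a.2 P c from lowPair_below hM he' u) hQP le_rfl
      (hPQ.trans (centralizer_le_normalizer' _))
    have hgc : g = c := SubpairLE.eq_of_eq hM hgle
    replace hg : NSub 2 M a.1 a.2 P c := hgc ▸ hg
    have hdef := isDefectGroup_below_abelian hM hmax hPQ hg
    obtain ⟨d, hd⟩ := exists_maximalPair_at hM hg.pairL.2 hdef
    refine isNilpotent_of_klein hM hg.pairL.2 hd (by rw [card_subgroupOf_eq hPQ, h4])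
      fun x hxN _ hxreg => Subgroup.mem_centralizer_iff.mpr fun r hr => ?_
    refine (commute_of_fix_klein (V := P.subgroupOf (CQ a.1))
      (v := (⟨(u : G), hPQ u.2⟩ : CQ a.1)) (by rw [card_subgroupOf_eq hPQ, h4])
      (exp_two_subgroupOf hexp) hxN hxreg (Subgroup.mem_subgroupOf.mpr u.2) ?_ ?_ r hr).symm.eq
    · exact fun h => hu (Subtype.ext (show (u : G) = ((1 : P) : G) from congrArg (fun z : CQ a.1 => (z : G)) h))
    · exact Subtype.ext (Subgroup.mem_centralizer_iff.mp x.2 _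
        (show (u : G) ∈ (a.1 : Set G) from Subgroup.mem_zpowers (u : G))).symm
  -- integrality
  obtain ⟨ψ₀, hψ₀, hh₀⟩ := exists_height_zero hM hB
  have hd2 : blockDefect 2 B = 2 := by
    have h := (defectGroup_card hM hB hPD).symm.trans (h4.trans (by norm_num : 4 = 2 ^ 2))
    exact Nat.pow_right_injective le_rfl h
  choose Z hZ hZ0 hZodd using fun χ : {χ // χ ∈ B} =>
    exists_scaled_regInner_ne_zero hM hB χ.2 hψ₀ hh₀
  simp only [hd2, Nat.cast_ofNat] at hZ
  have hint : ∀ χ ∈ B, ∃ I : ℤ, 4 * m χ χ = I := by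
    intro χ hχ
    have hle : (Nat.card G).factorization 2 ≤ degVal 2 χ + blockDefect 2 B := by
      have h2 := minDeg_le (p := 2) hχ
      show _ ≤ _ + ((Nat.card G).factorization 2 - minDeg 2 B)
      omega
    obtain ⟨z, hz, -⟩ := exists_scaled_regInner hM hle χ
    rw [hd2] at hz
    refine ⟨4 - z, ?_⟩
    have h := horth χ hχ χ hχ
    rw [if_pos rfl] at h
    push_cast at hz ⊢
    linear_combination 4 * h - hz
  choose I hI using hint
  have hC0 : (Nat.card (CQ (Subgroup.zpowers (u : G))) : ℂ) ≠ 0 := Nat.cast_ne_zero.mpr Nat.card_pos.ne'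
  have hnn : ∀ χ (hχ : χ ∈ B), 0 ≤ I χ hχ := by
    intro χ hχ
    have h1 : (0 : ℝ) ≤ (4 * m χ χ).re := by
      rw [hm]
      simp only [secSum, Complex.mul_conj]
      rw [← Complex.ofReal_sum, ← Complex.ofReal_natCast, ← Complex.ofReal_div]
      simp only [Complex.mul_re, Complex.ofReal_re, Complex.ofReal_im, mul_zero, sub_zero]
      exact mul_nonneg (by norm_num) (div_nonneg (Finset.sum_nonneg fun s _ => Complex.normSq_nonneg _)
        (Nat.cast_nonneg _))
    rw [hI χ hχ, Complex.intCast_re] at h1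
    exact_mod_cast h1
  have hprod : ∀ χ (hχ : χ ∈ B), χ ≠ ψ₀ →
      I χ hχ * I ψ₀ hψ₀ = Z ⟨χ, hχ⟩ * Z ⟨χ, hχ⟩ := by
    intro χ hχ hne
    have h := horth χ hχ ψ₀ hψ₀
    rw [if_neg hne] at h
    have h4m : 4 * m χ ψ₀ = -((Z ⟨χ, hχ⟩ : ℤ) : ℂ) := by
      have := hZ ⟨χ, hχ⟩
      linear_combination 4 * h - this
    have hr := secSum_mul_conj_of_unitRow hM hup ha1 hpu hrow χ ψ₀
    have hcm : (4 * m χ ψ₀) * conj (4 * m χ ψ₀) = (4 * m χ χ) * (4 * m ψ₀ ψ₀) := by
      rw [hm χ ψ₀, hm χ χ, hm ψ₀ ψ₀]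
      exact rank_one_scaled _ hr
    rw [h4m, hI χ hχ, hI ψ₀ hψ₀, map_neg, map_intCast, neg_mul_neg] at hcm
    exact_mod_cast hcm.symm
  have hpos : ∀ χ (hχ : χ ∈ B), 1 ≤ I χ hχ := by
    intro χ hχ
    by_cases hne : χ = ψ₀
    · subst hne
      have h := horth χ hχ χ hχ
      rw [if_pos rfl] at h
      have h1 : I χ hχ = 4 - Z ⟨χ, hχ⟩ := by
        have h2 : ((I χ hχ : ℤ) : ℂ) = ((4 - Z ⟨χ, hχ⟩ : ℤ) : ℂ) := by
          have := hZ ⟨χ, hχ⟩
          push_cast
          linear_combination 4 * h - this - hI χ hχ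
        exact_mod_cast h2
      have := hnn χ hχ
      have h3 := hZodd ⟨χ, hχ⟩ hh₀
      simp only [Nat.cast_ofNat] at h3
      omega
    · have h := hprod χ hχ hne
      have h1 : 0 < Z ⟨χ, hχ⟩ * Z ⟨χ, hχ⟩ := mul_self_pos.mpr (hZ0 _)
      have h2 := hnn χ hχ
      rcases h2.lt_or_eq with h3 | h3
      · omega
      · rw [← h3, zero_mul] at h
        omega
  have hIodd : ¬ (2 : ℤ) ∣ I ψ₀ hψ₀ := by
    have h := horth ψ₀ hψ₀ ψ₀ hψ₀
    rw [if_pos rfl] at h
    have h1 : I ψ₀ hψ₀ = 4 - Z ⟨ψ₀, hψ₀⟩ := by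
      have h2 : ((I ψ₀ hψ₀ : ℤ) : ℂ) = ((4 - Z ⟨ψ₀, hψ₀⟩ : ℤ) : ℂ) := by
        have := hZ ⟨ψ₀, hψ₀⟩
        push_cast
        linear_combination 4 * h - this - hI ψ₀ hψ₀
      exact_mod_cast h2
    have h3 := hZodd ⟨ψ₀, hψ₀⟩ hh₀
    simp only [Nat.cast_ofNat] at h3
    omega
  have hsum : ∑ χ ∈ Finset.univ.filter (· ∈ B), m χ χ = 1 := by
    simp only [hm]
    rw [← Finset.sum_div, sum_secSum_eq_rank hM hup ha1 hpu,
      (blockRank_eq_one_of_unitRow (by norm_num) hrow).1, Nat.cast_one, mul_one]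
    exact div_self hC0
  set s := (Finset.univ.filter (· ∈ B) : Finset (IrrCharacter G)) with hs
  let J : IrrCharacter G → ℤ := fun χ => if hχ : χ ∈ B then I χ hχ else 0
  have hJ : ∀ χ ∈ s, ∃ hχ : χ ∈ B, J χ = I χ hχ := fun χ hχ =>
    ⟨(Finset.mem_filter.mp hχ).2, dif_pos (Finset.mem_filter.mp hχ).2⟩
  have hJsum : ∑ χ ∈ s, J χ = 4 := by
    have : ((∑ χ ∈ s, J χ : ℤ) : ℂ) = 4 := by
      rw [Int.cast_sum, Finset.sum_congr rfl (g := fun χ => 4 * m χ χ) fun χ hχ => ?_,
        ← Finset.mul_sum, hsum, mul_one]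
      obtain ⟨hχB, e⟩ := hJ χ hχ
      rw [e, hI χ hχB]
    exact_mod_cast this
  have hk : s.card = 4 := all_one s J (i := ψ₀) (Finset.mem_filter.mpr ⟨Finset.mem_univ _, hψ₀⟩)
    (by simp only [J, dif_pos hψ₀]; exact hIodd)
    (fun χ hχ => by obtain ⟨hχB, e⟩ := hJ χ hχ; rw [e]; exact hpos χ hχB)
    (fun χ hχ hne => by
      obtain ⟨hχB, e⟩ := hJ χ hχ
      exact ⟨Z ⟨χ, hχB⟩, by
        rw [e]; simp only [J, dif_pos hψ₀]; rw [mul_comm]; exact hprod χ hχB hne⟩)
    hJsum
  refine ⟨?_, ?_⟩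
  · rw [← hk, hs, ← Fintype.card_subtype, ← Nat.card_eq_fintype_card]
  · rw [h3]
    have h : ((blockRank 2 B : ℕ) : ℂ) = ((3 : ℕ) : ℂ) := by
      rw [blockRank_eq_sum_regInner hM (IsBlockUnion.of_isPBlock hB)]
      have e1 : ∑ χ ∈ s, (regInner 2 χ χ + m χ χ) = (4 : ℂ) := by
        rw [Finset.sum_congr rfl (g := fun _ => (1 : ℂ)) fun χ hχ => by
          have := horth χ (Finset.mem_filter.mp hχ).2 χ (Finset.mem_filter.mp hχ).2
          rwa [if_pos rfl] at this, Finset.sum_const, hk, nsmul_one]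
        norm_num
      rw [Finset.sum_add_distrib, hsum] at e1
      push_cast
      linear_combination e1
    exact_mod_cast h

end Cfsg.Agent.S4637
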