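import Cfsg.Statements.S4640
import Cfsg.Agent.Lib.Block.CoveringMax
import Cfsg.Agent.Lib.Block.DefectFusion
import Cfsg.Agent.Lib.Block.Rank
import Cfsg.Agent.Lib.Char.InvariantAbove

/-!
# Stable blocks below a block with abelian defect group, index a power of `p`

Every character of the block is non-zero at some element with given `p`-part in the defect group, so
none is fixed by a non-trivial linear character over `N`.
-/

set_option autoImplicit false
open Cfsg

namespace Cfsg.Agent.S4640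

open CfsgLib CfsgLib.Block
open scoped ComplexConjugate

universe u

/-- Some irreducible character lies over a given one. -/
theorem exists_over {G : Type u} [Group G] [Fintype G] (N : Subgroup G) [N.Normal] [Fintype N]
    (θ : IrrCharacter N) :
    ∃ χ : IrrCharacter G, classInner (fun n : N => (χ : G → ℂ) n) (θ : N → ℂ) ≠ 0 := by
  classical
  have := Fintype.ofFinite (IrrCharacter G)
  by_contra hall
  push Not at hall
  have h2 : indFun N (θ : N → ℂ) = 0 := by
    rw [Char.classFun_expand (Char.isClassFunction_indFun N (θ : N → ℂ))]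
    refine Finset.sum_eq_zero fun χ _ => ?_
    rw [Char.classInner_indFun N (θ : N → ℂ) _ (Char.isClassFunction_irr χ), ← Char.classInner_conj,
      hall, map_zero, zero_smul]
  have h3 := congrFun (Char.restrict_indFun N (θ : N → ℂ)) 1
  rw [h2] at h3
  simp only [Pi.zero_apply, Pi.smul_apply, Finset.sum_apply, OneMemClass.coe_one] at h3
  rw [Finset.sum_congr rfl fun g _ => show Char.conjFun N (θ : N → ℂ) g 1 = (θ : N → ℂ) 1 by
      simp only [Char.conjFun]; exact congrArg _ (Subtype.ext (by simp [mul_assoc])), Finset.sum_const,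
    Finset.card_univ, nsmul_eq_mul, smul_eq_mul, eq_comm, mul_eq_zero, mul_eq_zero] at h3
  rcases h3 with h4 | h4 | h4
  · exact inv_ne_zero (Nat.cast_ne_zero.mpr Nat.card_pos.ne') h4
  · exact Nat.cast_ne_zero.mpr Fintype.card_ne_zero h4
  · exact Char.irr_one_ne_zero θ h4

/-- Regular elements lie in a normal subgroup of `p`-power index. -/
theorem mem_of_regular {G : Type u} [Group G] [Finite G] {p : ℕ} (hp : p.Prime) (N : Subgroup G)
    [N.Normal] {k : ℕ} (hk : N.index = p ^ k) {g : G} (hg : ¬ p ∣ orderOf g) : g ∈ N := by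
  rw [← QuotientGroup.eq_one_iff, ← orderOf_eq_one_iff, ← Nat.dvd_one]
  have h1 : orderOf (g : G ⧸ N) ∣ orderOf g := orderOf_map_dvd (QuotientGroup.mk' N) g
  have h2 : orderOf (g : G ⧸ N) ∣ p ^ k := by
    rw [← hk, Subgroup.index_eq_card]
    exact orderOf_dvd_natCard _
  exact Nat.Coprime.gcd_eq_one (((hp.coprime_iff_not_dvd.2 hg).symm).pow_right k) ▸ Nat.dvd_gcd h1 h2

/-- The number of linear characters over `K` fixing a character is the norm of the restriction. -/
theorem norm_restrict {G : Type u} [Group G] [Fintype G] (K : Subgroup G) [K.Normal] [Fintype K]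
    (hK : ∀ a b : G, a * b * a⁻¹ * b⁻¹ ∈ K) [Fintype (Char.linearOver K)] (χ : IrrCharacter G) :
    classInner (fun k : K => (χ : G → ℂ) k) (fun k : K => (χ : G → ℂ) k) =
      ∑ f : Char.linearOver K, classInner (Char.linMul f χ : G → ℂ) (χ : G → ℂ) := by
  classical
  simp only [classInner, Char.linMul]
  rw [← Finset.mul_sum, Finset.sum_comm]
  have hinner : ∀ g : G, ∑ f : Char.linearOver K,
      (((f : G →* ℂˣ) g : ℂ)) * (χ : G → ℂ) g * conj ((χ : G → ℂ) g) =
      (if g ∈ K then (K.index : ℂ) * ((χ : G → ℂ) g * conj ((χ : G → ℂ) g)) else 0) := fun g => by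
    rw [Finset.sum_congr rfl fun f _ => mul_assoc _ _ _, ← Finset.sum_mul,
      Char.sum_linearOver K hK]
    split_ifs <;> ring
  rw [Finset.sum_congr rfl fun g _ => hinner g, ← Finset.sum_filter,
    Finset.sum_subtype (p := fun g => g ∈ K) _ (fun g => by simp), ← Finset.mul_sum, ← mul_assoc]
  congr 1
  have h : (K.index : ℂ) * (Nat.card K : ℂ) = (Nat.card G : ℂ) := by
    exact_mod_cast K.index_mul_card
  rw [← h, mul_inv, mul_comm (K.index : ℂ)⁻¹, mul_assoc,
    inv_mul_cancel₀ (Nat.cast_ne_zero.2 Subgroup.index_ne_zero_of_finite), mul_one]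

/-- Extension by zero. -/
noncomputable def extZero {G : Type u} [Group G] (N : Subgroup G) : (N → ℂ) →ₗ[ℂ] (G → ℂ) where
  toFun f g := Function.extend (Subtype.val : N → G) f 0 g
  map_add' a b := by
    funext g
    by_cases hg : ∃ n : N, (n : G) = g
    · obtain ⟨n, rfl⟩ := hg
      simp [Subtype.val_injective.extend_apply]
    · simp [Function.extend_apply' _ _ _ hg]
  map_smul' c a := by
    funext g
    by_cases hg : ∃ n : N, (n : G) = g
    · obtain ⟨n, rfl⟩ := hg
      simp [Subtype.val_injective.extend_apply]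
    · simp [Function.extend_apply' _ _ _ hg]

/-- If `G` is a finite group, `N` a normal subgroup of `p`-power index, `b` a `G`-stable `p`-block of `N` and `B` a `p`-block of `G` covering `b` with abelian defect group `P`, then `N P = G`, the intersection `P ⊓ N` is a defect group of `b`, every character in `B` restricts irreducibly to `N` into `b`, each character of `b` has exactly `|G : N|` extensions in `B`, and so `k(B) = |G : N| k(b)` and `l(B) = l(b)`. -/
theorem result {G : Type*} [Group G] [Fintype G] (p : ℕ) [Fact p.Prime] (M : Ideal Cfsg.AlgInt) (hM : Cfsg.IsPModular p M) (N : Subgroup G) [N.Normal] [Fintype N] (hNi : ∃ k : ℕ, N.index = p ^ k) (b : Set (Cfsg.IrrCharacter N)) (hb : Cfsg.IsPBlock M b) (hstab : ∀ g : G, Cfsg.StabilizesBlock N b g) (B : Set (Cfsg.IrrCharacter G)) (hB : Cfsg.IsPBlock M B) (hcov : ∃ χ ∈ B, ∃ θ ∈ b, Cfsg.classInner (fun n : N => (χ : G → ℂ) n) (θ : N → ℂ) ≠ 0) (P : Subgroup G) (hPD : Cfsg.IsDefectGroup p M B P) (hPab : ∀ x ∈ P, ∀ y ∈ P,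 x * y = y * x) : N ⊔ P = ⊤ ∧ Cfsg.IsDefectGroup p M b ((P ⊓ N).subgroupOf N) ∧ (∀ χ ∈ B, ∃ θ ∈ b, ∀ n : N, (χ : G → ℂ) n = (θ : N → ℂ) n) ∧ (∀ θ ∈ b, Nat.card {χ : Cfsg.IrrCharacter G // χ ∈ B ∧ ∀ n : N, (χ : G → ℂ) n = (θ : N → ℂ) n} = N.index) ∧ Nat.card B = N.index * Nat.card b ∧ Cfsg.blockRank p B = Cfsg.blockRank p b := by
  classical
  have : M.IsMaximal := hM.2.1
  have hp : p.Prime := Fact.out
  let _ : Fintype (IrrCharacter G) := Fintype.ofFinite _
  let _ : Fintype (IrrCharacter N) := Fintype.ofFinite _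
  let _ : Fintype (ConjClasses N) := Fintype.ofFinite _
  let _ : Fintype (G ⧸ N) := Fintype.ofFinite _
  let _ : Fintype (Char.linearOver N) := Fintype.ofFinite _
  have hst : ∀ g : G, cjN g '' b = b := fun g => stabilizesBlock_iff_cjN.mp (hstab g)
  have hcov' : Covers B b := hcov
  obtain ⟨htop, hdef⟩ := ppow_defect hM hNi hb hst hB hcov' hPD
  obtain ⟨k, hk⟩ := hNi
  -- abelian quotient
  have hrep : ∀ g : G, ∃ n ∈ N, ∃ x ∈ P, n * x = g := fun g =>
    Subgroup.mem_sup_of_normal_left.mp (htop ▸ Subgroup.mem_top g)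
  have hK : ∀ a c : G, a * c * a⁻¹ * c⁻¹ ∈ N := by
    intro a c
    rw [← QuotientGroup.eq_one_iff]
    obtain ⟨n, hn, x, hx, rfl⟩ := hrep a
    obtain ⟨n', hn', y, hy, rfl⟩ := hrep c
    have hxy : (x : G ⧸ N) * (y : G ⧸ N) = (y : G ⧸ N) * (x : G ⧸ N) := by
      rw [← QuotientGroup.mk_mul, hPab x hx y hy, QuotientGroup.mk_mul]
    simp only [QuotientGroup.mk_mul, QuotientGroup.mk_inv, (QuotientGroup.eq_one_iff _).mpr hn,
      (QuotientGroup.eq_one_iff _).mpr hn', one_mul]
    rw [hxy, mul_inv_cancel_right, mul_inv_cancel]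
  -- no character of the block is fixed by a non-trivial linear character over `N`
  have hfix : ∀ χ ∈ B, ∀ f ∈ Char.linearOver N, Char.linMul f χ = χ → f = 1 := by
    intro χ hχ f hf he
    ext g
    obtain ⟨n, hn, x, hx, rfl⟩ := hrep g
    rw [map_mul, hf n hn, one_mul, MonoidHom.one_apply, Units.val_one]
    obtain ⟨χ₁, hχ₁, g₀, hpp, hne⟩ :=
      exists_centralRes_center_ne_zero hM hB hPD hx (fun w hw => hPab x hx w hw)
    have hne' : centralRes M χ (x * g₀) ≠ 0 := by rwa [centralRes_eq_of_mem hB hχ hχ₁]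
    have hval : (χ : G → ℂ) (x * g₀) ≠ 0 := by
      intro h0
      apply hne'
      rw [centralRes_eq_zero_iff, centralChar, h0, mul_zero, zero_div]
      exact memLocalIdeal_iff.mpr ⟨zero_mem _, map_zero _⟩
    obtain ⟨y, hy, -, -, hyreg⟩ := hpp
    obtain rfl : y = g₀ := mul_left_cancel hy
    have h1 : ((f (x * y) : ℂ)) * (χ : G → ℂ) (x * y) = (χ : G → ℂ) (x * y) :=
      congrFun (congrArg (fun ψ : IrrCharacter G => (ψ : G → ℂ)) he) (x * y)
    rw [map_mul, hf y (mem_of_regular hp N hk hyreg), mul_one] at h1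
    exact (mul_eq_right₀ hval).mp h1
  have hres : ∀ χ ∈ B, ∃ θ ∈ b, ∀ n : N, (χ : G → ℂ) n = (θ : N → ℂ) n := by
    intro χ hχ
    have hirr : IsIrrCharacter N (fun n : N => (χ : G → ℂ) n) := by
      refine Char.isIrr_of_isCharacter_norm_one
        (Char.isCharacter_comp (Char.isCharacter_irr χ) N.subtype) ?_
      rw [norm_restrict N hK χ, Finset.sum_eq_single ⟨1, one_mem _⟩]
      · have : Char.linMul (1 : G →* ℂˣ) χ = χ := Subtype.ext (funext fun g => by simp [Char.linMul])
        rw [this, Char.classInner_irr_self]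
      · exact fun f _ hf => Char.classInner_irr_ne fun he => hf (Subtype.ext (hfix χ hχ f f.2 he))
      · simp
    refine ⟨⟨_, hirr⟩, ?_, fun n => rfl⟩
    rw [← orbSet_eq_of_stable hst]
    refine hcov'.constituent_mem hM hB hb hχ ?_
    rw [show classInner (fun n : N => (χ : G → ℂ) n) ((⟨_, hirr⟩ : IrrCharacter N) : N → ℂ) = 1 from
      Char.classInner_irr_self (⟨_, hirr⟩ : IrrCharacter N)]
    exact one_ne_zero
  have hover : ∀ θ ∈ b, ∀ χ : IrrCharacter G,
      classInner (fun n : N => (χ : G → ℂ) n) (θ : N → ℂ) ≠ 0 → χ ∈ B := fun θ hθ χ h => by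
    have e : blockOf M (χ : G → ℂ) = B := covers_unique_of_ppow hM ⟨k, hk⟩ (isPBlock_blockOf χ) hB hb
      ⟨χ, self_mem_blockOf χ, θ, hθ, h⟩ hcov'
    exact e ▸ self_mem_blockOf χ
  have hne_one : ∀ (θ : IrrCharacter N) (χ : IrrCharacter G), (∀ n : N, (χ : G → ℂ) n = (θ : N → ℂ) n) →
      classInner (fun n : N => (χ : G → ℂ) n) (θ : N → ℂ) ≠ 0 := fun θ χ h => by
    rw [show (fun n : N => (χ : G → ℂ) n) = (θ : N → ℂ) from funext h, Char.classInner_irr_self]
    exact one_ne_zero
  have hfibre : ∀ θ ∈ b, Nat.card {χ : Cfsg.IrrCharacter G // χ ∈ B ∧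
      ∀ n : N, (χ : G → ℂ) n = (θ : N → ℂ) n} = N.index := by
    intro θ hθ
    obtain ⟨χ₀, hχ₀⟩ := exists_over N θ
    have hB₀ := hover θ hθ χ₀ hχ₀
    obtain ⟨θ', -, hθ'⟩ := hres χ₀ hB₀
    obtain rfl : θ' = θ := Char.irr_eq_of_inner_ne_zero (by
      rwa [show (fun n : N => (χ₀ : G → ℂ) n) = (θ' : N → ℂ) from funext hθ'] at hχ₀)
    have hlin : ∀ f : Char.linearOver N, ∀ n : N, (Char.linMul f χ₀ : G → ℂ) n = (θ' : N → ℂ) n :=
      fun f n => by simp [Char.linMul, f.2 n n.2, hθ' n]
    rw [← Char.card_linearOver N hK]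
    refine (Nat.card_eq_of_bijective (fun f : Char.linearOver N => (⟨Char.linMul f χ₀,
      hover θ' hθ _ (hne_one θ' _ (hlin f)), hlin f⟩ : {χ : Cfsg.IrrCharacter G // χ ∈ B ∧
        ∀ n : N, (χ : G → ℂ) n = (θ' : N → ℂ) n})) ⟨fun f f' h => ?_, fun χ => ?_⟩).symm
    · have he : Char.linMul (f : G →* ℂˣ) χ₀ = Char.linMul (f' : G →* ℂˣ) χ₀ := congrArg Subtype.val h
      have h1 : Char.linMul ((f' : G →* ℂˣ)⁻¹ * (f : G →* ℂˣ)) χ₀ = χ₀ := by
        refine Subtype.ext (funext fun g => ?_)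
        have := congrFun (congrArg (fun ψ : IrrCharacter G => (ψ : G → ℂ)) he) g
        simp only [Char.linMul, MonoidHom.mul_apply, MonoidHom.inv_apply, Units.val_mul] at this ⊢
        rw [mul_assoc, this, ← mul_assoc, ← Units.val_mul, inv_mul_cancel, Units.val_one, one_mul]
      exact Subtype.ext (inv_mul_eq_one.mp
        (hfix χ₀ hB₀ _ ((Char.linearOver N).mul_mem ((Char.linearOver N).inv_mem f'.2) f.2) h1)).symm
    · obtain ⟨f, hf, he⟩ := Char.exists_linMul_eq N hK (θ := θ') (hne_one θ' χ₀ hθ')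
        (hne_one θ' χ.1 χ.2.2)
      exact ⟨⟨f, hf⟩, Subtype.ext he⟩
  refine ⟨htop, hdef, hres, hfibre, ?_, ?_⟩
  · choose r hr1 hr2 using hres
    have hr : ∀ (χ : IrrCharacter G) (hχ : χ ∈ B) (θ : IrrCharacter N),
        (r χ hχ = θ) ↔ ∀ n : N, (χ : G → ℂ) n = (θ : N → ℂ) n := fun χ hχ θ =>
      ⟨fun h n => h ▸ hr2 χ hχ n, fun h => Subtype.ext (funext fun n => (hr2 χ hχ n).symm.trans (h n))⟩
    have e : B ≃ Σ θ : b, {χ : Cfsg.IrrCharacter G // χ ∈ B ∧
        ∀ n : N, (χ : G → ℂ) n = ((θ : IrrCharacter N) : N → ℂ) n} :=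
      { toFun := fun χ => ⟨⟨r χ χ.2, hr1 χ χ.2⟩, χ.1, χ.2, hr2 χ χ.2⟩
        invFun := fun s => ⟨s.2.1, s.2.2.1⟩
        left_inv := fun χ => rfl
        right_inv := fun ⟨⟨θ, hθ⟩, χ, hχ, h⟩ => by
          have : r χ hχ = θ := (hr χ hχ θ).mpr h
          subst this
          rfl }
    rw [Nat.card_congr e, Nat.card_sigma, Finset.sum_congr rfl fun (θ : b) _ => hfibre θ θ.2,
      Finset.sum_const, Finset.card_univ, Nat.card_eq_fintype_card, smul_eq_mul, mul_comm]
  · rw [blockRank, blockRank]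
    have hinj : Function.Injective (extZero N) := fun a c h => funext fun n => by
      have := congrFun h (n : G)
      simpa [extZero, Subtype.val_injective.extend_apply] using this
    have himg : (fun χ : IrrCharacter G => pRegularPart p (χ : G → ℂ)) '' B =
        extZero N '' ((fun θ : IrrCharacter N => pRegularPart p (θ : N → ℂ)) '' b) := by
      have key : ∀ (χ : IrrCharacter G) (θ : IrrCharacter N),
          (∀ n : N, (χ : G → ℂ) n = (θ : N → ℂ) n) →
          extZero N (pRegularPart p (θ : N → ℂ)) = pRegularPart p (χ : G → ℂ) := by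
        intro χ θ h
        funext g
        by_cases hg : g ∈ N
        · show Function.extend (Subtype.val : N → G) _ (0 : G → ℂ) ((⟨g, hg⟩ : N) : G) = _
          rw [Subtype.val_injective.extend_apply]
          have ho : orderOf (⟨g, hg⟩ : N) = orderOf g := (Subgroup.orderOf_coe _).symm
          simp only [pRegularPart]
          by_cases hr : IsPRegular p g
          · rw [if_pos hr, if_pos (show IsPRegular p (⟨g, hg⟩ : N) from fun hd => hr (ho ▸ hd))]
            exact (h ⟨g, hg⟩).symm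
          · rw [if_neg hr, if_neg (show ¬ IsPRegular p (⟨g, hg⟩ : N) from
              fun h' => hr fun hd => h' (ho.symm ▸ hd))]
        · show Function.extend (Subtype.val : N → G) _ (0 : G → ℂ) g = _
          rw [Function.extend_apply' _ _ _ fun ⟨n, hn⟩ => hg (hn ▸ n.2)]
          simp only [pRegularPart]
          rw [if_neg (show ¬ IsPRegular p g from fun hr => hg (mem_of_regular hp N hk hr))]
          rfl
      ext f
      simp only [Set.mem_image]
      constructor
      · rintro ⟨χ, hχ, rfl⟩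
        obtain ⟨θ, hθ, h⟩ := hres χ hχ
        exact ⟨_, ⟨θ, hθ, rfl⟩, key χ θ h⟩
      · rintro ⟨-, ⟨θ, hθ, rfl⟩, rfl⟩
        obtain ⟨χ, hχ⟩ := exists_over N θ
        have hχB := hover θ hθ χ hχ
        obtain ⟨θ', -, hθ'⟩ := hres χ hχB
        obtain rfl : θ' = θ := Char.irr_eq_of_inner_ne_zero (by
          rwa [show (fun n : N => (χ : G → ℂ) n) = (θ' : N → ℂ) from funext hθ'] at hχ)
        exact ⟨χ, hχB, (key χ θ' hθ').symm⟩
    rw [himg, Submodule.span_image]
    exact (Submodule.equivMapOfInjective (extZero N) hinj _).finrank_eq.symm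

end Cfsg.Agent.S4640
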