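import Cfsg.Statements.S4641
import Cfsg.Agent.Lib.Block.BrauerChars
import Cfsg.Agent.Lib.Block.BrauerFeit
import Cfsg.Agent.Lib.Block.CyclicDefect.Relations

set_option autoImplicit false
open Cfsg

namespace Cfsg.Agent.S4641

/-- Let B be a block of the finite group G relative to a maximal ideal M of the algebraic integers containing the prime p, let p^a be the p-part of the order of G and p^d the order of a defect group D of B, and let g be the greatest common divisor of the degrees of the members of B. Then the p-part of g is exactly p^(a−d), and writing g = p^(a−d)·u there is a positive integer v, prime to p and at least the p-regular rank of B (its number of irreducible Brauer characters), with Σ_{χ ∈ B} χ(1)² = p^(2a−d)·u²·v. -/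
theorem result {G : Type*} [Group G] [Finite G] (p : ℕ) [Fact p.Prime] (M : Ideal Cfsg.AlgInt) (hM : Cfsg.IsPModular p M) (B : Set (Cfsg.IrrCharacter G)) (hB : Cfsg.IsPBlock M B) (D : Subgroup G) (hD : Cfsg.IsDefectGroup p M B D) (a d : ℕ) (ha : (Nat.card G).factorization p = a) (hd : Nat.card D = p ^ d) (g : ℕ) (hg1 : ∀ χ ∈ B, g ∣ Cfsg.charDegree (χ : G → ℂ)) (hg2 : ∀ g' : ℕ, (∀ χ ∈ B, g' ∣ Cfsg.charDegree (χ : G → ℂ)) → g' ∣ g) : g.factorization p = a - d ∧ ∃ v : ℕ, 0 < v ∧ ¬ p ∣ v ∧ Cfsg.blockRank p B ≤ v ∧ ∑ᶠ χ ∈ B, Cfsg.charDegree (χ : G → ℂ) ^ 2 = p ^ (2 * a - d) * (g / p ^ (a - d)) ^ 2 * v := by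
  classical
  letI := Fintype.ofFinite G
  haveI := Fintype.ofFinite (IrrCharacter G)
  haveI := Fintype.ofFinite (ConjClasses G)
  haveI := hM.2.1
  have hp : p.Prime := hM.1
  obtain ⟨dd, φ, m, c, hout, hdec, hm, hproj, hc, huniq⟩ :=
    CfsgLib.Block.BrauerChars.exists_brauerChars hM hB
  set md := CfsgLib.Block.minDeg p B with hmd
  obtain ⟨χ₀, hχ₀, he⟩ := CfsgLib.Block.exists_minDeg (p := p) (CfsgLib.Block.isPBlock_nonempty hB)
  have hmda : md ≤ a := ha ▸ (CfsgLib.Block.minDeg_le hχ₀).trans (CfsgLib.Block.degVal_le_card χ₀)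
  have hdb : d = a - md := by
    have h := CfsgLib.Block.defectGroup_card hM hB hD
    rw [hd, show blockDefect p B = (Nat.card G).factorization p - md from rfl, ha] at h
    exact Nat.pow_right_injective hp.two_le h
  have hg0 : g ≠ 0 := fun h => (CfsgLib.Block.charDegree_eq χ₀).2 (by
    have := hg1 χ₀ hχ₀
    rwa [h, zero_dvd_iff] at this)
  have hgp : g.factorization p = md := by
    refine le_antisymm ?_ ((hp.pow_dvd_iff_le_factorization hg0).1 (hg2 _ fun χ hχ =>
      (hp.pow_dvd_iff_le_factorization (CfsgLib.Block.charDegree_eq χ).2).2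
        (CfsgLib.Block.minDeg_le hχ)))
    refine le_of_le_of_eq ?_ he
    exact (Nat.factorization_le_iff_dvd hg0 (CfsgLib.Block.charDegree_eq χ₀).2).2 (hg1 χ₀ hχ₀) p
  have had : a - d = md := by omega
  refine ⟨by rw [hgp, had], ?_⟩
  rw [had]
  set g' := g / p ^ md with hg'def
  have hg' : g = p ^ md * g' := (Nat.mul_div_cancel' (hgp ▸ Nat.ordProj_dvd g p)).symm
  have hg'p : ¬ p ∣ g' := by rw [hg'def, ← hgp]; exact Nat.not_dvd_ordCompl hp hg0
  have hdeg : ∀ χ ∈ B, charDegree (χ : G → ℂ) = ∑ i, dd χ i * m i := by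
    intro χ hχ
    have h := hdec χ hχ 1 (by simp [hp.ne_one])
    rw [(CfsgLib.Block.charDegree_eq χ).1, Finset.sum_congr rfl fun i _ => by rw [(hm i).1]] at h
    exact_mod_cast h
  let Φ : Fin (blockRank p B) → ℕ := fun i =>
    ∑ χ ∈ Finset.univ.filter (· ∈ B), charDegree (χ : G → ℂ) * dd χ i
  have hΦall : ∀ i, Φ i = ∑ χ : IrrCharacter G, charDegree (χ : G → ℂ) * dd χ i := fun i =>
    Finset.sum_subset (Finset.subset_univ _) fun χ _ hχ => by
      rw [hout χ (by simpa using hχ)]; simp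
  have hmdvd : ∀ i, g ∣ m i := by
    intro i
    have h := hc i 1 (by simp [hp.ne_one])
    rw [(hm i).1, Finset.sum_congr rfl fun (χ : IrrCharacter G) _ => by
      rw [(CfsgLib.Block.charDegree_eq χ).1]] at h
    have h' : (m i : ℤ) = ∑ χ ∈ (Set.toFinite B).toFinset,
        c i χ * (charDegree (χ : G → ℂ) : ℤ) := by exact_mod_cast h
    have hdv : (g : ℤ) ∣ (m i : ℤ) := h' ▸ Finset.dvd_sum fun χ hχ =>
      Dvd.dvd.mul_left (Int.natCast_dvd_natCast.2 (hg1 χ ((Set.Finite.mem_toFinset _).1 hχ))) _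
    exact Int.natCast_dvd_natCast.1 hdv
  have hΦdvd : ∀ i, p ^ a * g' ∣ Φ i := by
    intro i
    refine Nat.Coprime.mul_dvd_of_dvd_of_dvd (Nat.Coprime.pow_left _ (hp.coprime_iff_not_dvd.2 hg'p))
      ?_ ?_
    · have h := CfsgLib.Block.CyclicDefect.dvd_degree_of_vanish hp (fun χ => (dd χ i : ℤ))
        (fun x hx => by simpa using hproj i x hx)
      rw [ha] at h
      rw [hΦall]
      have : ((p ^ a : ℕ) : ℤ) ∣
          ((∑ χ : IrrCharacter G, charDegree (χ : G → ℂ) * dd χ i : ℕ) : ℤ) := by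
        push_cast
        simpa [mul_comm] using h
      exact Int.natCast_dvd_natCast.1 this
    · exact Finset.dvd_sum fun χ hχ => Dvd.dvd.mul_right
        ((Dvd.intro_left _ hg'.symm).trans (hg1 χ (Finset.mem_filter.1 hχ).2)) _
  have hΦpos : ∀ i, 0 < Φ i := by
    intro i
    rcases Nat.eq_zero_or_pos (Φ i) with h0 | h0
    · exfalso
      refine one_ne_zero (α := ℂ) ?_
      have := congrFun (huniq (Pi.single i 1) fun χ hχ => ?_) i
      · simpa using this
      · have := (Finset.sum_eq_zero_iff.1 h0) χ (Finset.mem_filter.2 ⟨Finset.mem_univ _, hχ⟩)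
        have hz : dd χ i = 0 :=
          (Nat.mul_eq_zero.1 this).resolve_left (CfsgLib.Block.charDegree_eq χ).2
        simp [Pi.single_apply, hz]
    · exact h0
  choose u hu using hmdvd
  choose w hw using hΦdvd
  have hsum : ∑ χ ∈ Finset.univ.filter (· ∈ B), charDegree (χ : G → ℂ) ^ 2 =
      p ^ a * g' * g * ∑ i, w i * u i := by
    calc _ = ∑ χ ∈ Finset.univ.filter (· ∈ B), ∑ i, charDegree (χ : G → ℂ) * dd χ i * m i :=
          Finset.sum_congr rfl fun χ hχ => by
            rw [sq]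
            nth_rewrite 2 [hdeg χ (Finset.mem_filter.1 hχ).2]
            rw [Finset.mul_sum]
            exact Finset.sum_congr rfl fun i _ => (mul_assoc _ _ _).symm
      _ = ∑ i, Φ i * m i := by rw [Finset.sum_comm]; simp only [Φ, Finset.sum_mul]
      _ = _ := by
          rw [Finset.mul_sum]
          exact Finset.sum_congr rfl fun i _ => by rw [hw i, hu i]; ring
  have hge : blockRank p B ≤ ∑ i, w i * u i := by
    have h1 : ∀ i, 1 ≤ w i * u i := fun i => Nat.one_le_iff_ne_zero.2 fun h => by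
      rcases Nat.mul_eq_zero.1 h with h | h
      · exact (hΦpos i).ne' (by rw [hw i, h, mul_zero])
      · exact (hm i).2.ne' (by rw [hu i, h, mul_zero])
    simpa using Finset.sum_le_sum (s := Finset.univ) fun i _ => h1 i
  obtain ⟨t, ht, htsum⟩ := CfsgLib.Block.exists_sum_degree_sq (p := p) hM hB
  rw [hsum, ← hmd] at htsum
  have hGc : Nat.card G = p ^ a * ordCompl[p] (Nat.card G) := by
    rw [← ha]; exact (Nat.ordProj_mul_ordCompl_eq_self _ p).symm
  have hcompl : ¬ p ∣ ordCompl[p] (Nat.card G) := Nat.not_dvd_ordCompl hp Nat.card_pos.ne'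
  have hv : ¬ p ∣ ∑ i, w i * u i := by
    intro hdv
    haveI := CfsgLib.Block.charP_resField hM
    have hp0 : (p : ℂ) ≠ 0 := Nat.cast_ne_zero.2 hp.ne_zero
    have heq : ((g' * g' * ∑ i, w i * u i : ℕ) : CfsgLib.Block.locRing M) =
        ((ordCompl[p] (Nat.card G) : ℕ) : CfsgLib.Block.locRing M) * t := by
      apply Subtype.ext
      rw [Subring.coe_natCast, Subring.coe_mul, Subring.coe_natCast]
      apply mul_left_cancel₀ (mul_ne_zero (pow_ne_zero a hp0) (pow_ne_zero md hp0))
      rw [hg'] at htsum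
      conv_rhs at htsum => rw [hGc]
      push_cast at htsum ⊢
      linear_combination htsum
    have h2 := congrArg (CfsgLib.Block.res M) heq
    rw [map_natCast, map_mul, map_natCast,
      (CharP.cast_eq_zero_iff (CfsgLib.Block.ResField M) p _).2 (dvd_mul_of_dvd_right hdv _)] at h2
    rcases mul_eq_zero.1 h2.symm with h3 | h3
    · exact hcompl ((CharP.cast_eq_zero_iff (CfsgLib.Block.ResField M) p _).1 h3)
    · exact ht h3
  refine ⟨∑ i, w i * u i, Nat.pos_of_ne_zero fun h => hv (h ▸ dvd_zero p), hv, hge, ?_⟩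
  rw [finsum_mem_eq_toFinset_sum, show B.toFinset = Finset.univ.filter (· ∈ B) by ext; simp, hsum, hg',
    show 2 * a - d = a + md by omega, pow_add]
  ring

end Cfsg.Agent.S4641
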