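import Cfsg.Statements.S4644
import Cfsg.Agent.Lib.Block.AbelianDefect.Watanabe

set_option autoImplicit false
open Cfsg CfsgLib.Block
open scoped Pair

namespace Cfsg.Agent.S4644

/-- Let B be a block of the finite group G relative to a maximal ideal M of the algebraic integers containing the prime p, with a commutative defect group P; let c be a block of C_G(P) inducing B and T the stabilizer of c in N_G(P). Let u be an element of P fixed under conjugation by every element of T, H = C_G(u) (so C_G(P) ≤ H), and f the block of H induced by c inside H. Then B and f have the same p-regular rank and the same number of irreducible characters. -/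
theorem result {G : Type*} [Group G] [Finite G] (p : ℕ) [Fact p.Prime] (M : Ideal Cfsg.AlgInt) (hM : Cfsg.IsPModular p M) (B : Set (Cfsg.IrrCharacter G)) (hB : Cfsg.IsPBlock M B) (P : Subgroup G) (hPD : Cfsg.IsDefectGroup p M B P) (hPab : ∀ x ∈ P, ∀ y ∈ P, x * y = y * x) (c : Set (Cfsg.IrrCharacter (Subgroup.centralizer (P : Set G)))) (hc : Cfsg.IsInducedBlock M (Subgroup.centralizer (P : Set G)) c B) (T : Subgroup G) (hT : ∀ g : G, g ∈ T ↔ (g ∈ Subgroup.normalizer (P : Set G) ∧ Cfsg.StabilizesBlock (Subgroup.centralizer (P : Set G)) c g)) (u : G) (hu : u ∈ P) (huT : ∀ g ∈ T, g * u * g⁻¹ = u) (H : Subgroup G) (hH : H = Subgroup.centralizer ({u} : Set G)) (f : Set (Cfsg.IrrCharacter H)) (hf : Cfsg.IsInducedBlockIn M H (Subgroup.centralizer (P : Set G)) c f) : Cfsg.blockRank p B = Cfsg.blockRank p f ∧ Nat.card B = Nat.card f := by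
  classical
  have : M.IsMaximal := hM.2.1
  have := Fintype.ofFinite G
  have := Fintype.ofFinite (IrrCharacter G)
  have hPC : P ≤ CQ P := AbelianDefect.le_cq hPab le_rfl
  have hmax := CfsgLib.Block.isMaximal_of_defect hM hPD
    ((isBrauerPairOf_iff_induced hM hB (isPGroup_defectGroup hM hB hPD) hPC).mpr hc)
  have hH' : H = CQ (Subgroup.zpowers u) := by
    ext t
    rw [hH, Subgroup.mem_centralizer_singleton_iff, mem_cq_zpowers_iff]
    rfl
  subst hH'
  have hfix : ∀ t ∈ Subgroup.normalizer (P : Set G), StabilizesBlock (CQ P) c t → Commute t u :=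
    fun t ht hts => mul_inv_eq_iff_eq_mul.mp (huT t ((hT t).mpr ⟨ht, hts⟩))
  have huP : Subgroup.zpowers u ≤ P := Subgroup.zpowers_le.mpr hu
  obtain ⟨f₀, -, hle⟩ := exists_subpairLE hM hmax.1.1 _ huP
  obtain rfl : f = f₀ := inducedBlockIn_unique (cq_mono huP) hf (isInducedBlockIn_of_nSub hM
    (AbelianDefect.nSub_of_le hM hmax.1.1 hPab hle) (AbelianDefect.le_cq hPab huP))
  exact ⟨(AbelianDefect.rank_eq_of_fixed hM hmax hPab hu hfix hle).symm,
    (AbelianDefect.card_eq_of_fixed hM hmax hPab hu hfix hle).symm⟩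

end Cfsg.Agent.S4644
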