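import Cfsg.Statements.S4645
import Cfsg.Agent.Lib.Block.CyclicPairs
-- import your own Cfsg.Agent.* helpers here

set_option autoImplicit false
open Cfsg CfsgLib.Block

open Cfsg

namespace Cfsg.Agent.S4645

/-- Let B be a block of the finite group G relative to a maximal ideal M of the algebraic integers containing the prime p, with a nontrivial cyclic defect group P; let c be a block of C_G(P) inducing B and T the stabilizer of c in N_G(P). Let Q be a nontrivial subgroup of P (so C_G(P) ≤ C_G(Q)), f the block of C_G(Q) induced by c inside C_G(Q), and T' the stabilizer of f in N_G(Q). Then T' = T·C_G(Q), the index of C_G(Q) in T' equals the index of C_G(P) in T, f has p-regular rank 1, and f is a nilpotent block of C_G(Q). -/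
theorem result {G : Type*} [Group G] [Finite G] (p : ℕ) [Fact p.Prime] (M : Ideal Cfsg.AlgInt) (hM : Cfsg.IsPModular p M) (B : Set (Cfsg.IrrCharacter G)) (hB : Cfsg.IsPBlock M B) (P : Subgroup G) (hPD : Cfsg.IsDefectGroup p M B P) (hP1 : P ≠ ⊥) (hcyc : IsCyclic P) (c : Set (Cfsg.IrrCharacter (Subgroup.centralizer (P : Set G)))) (hc : Cfsg.IsInducedBlock M (Subgroup.centralizer (P : Set G)) c B) (T : Subgroup G) (hT : ∀ g : G, g ∈ T ↔ (g ∈ Subgroup.normalizer (P : Set G) ∧ Cfsg.StabilizesBlock (Subgroup.centralizer (P : Set G)) c g)) (Q : Subgroup G) (hQP : Q ≤ P) (hQ1 : Q ≠ ⊥) (f : Set (Cfsg.IrrCharacter (Subgroup.centralizer (Q : Set G)))) (hf : Cfsg.IsInducedBlockIn M (Subgroup.centralizer (Q : Set G)) (Subgroup.centralizer (P : Set G)) c f) (T' : Subgroup G) (hT' : ∀ g : G, g ∈ T' ↔ (g ∈ Subgroup.normalizer (Q : Set G) ∧ Cfsg.StabilizesBlock (Subgroup.centralizer (Q : Set G)) f g)) : T' = T ⊔ Subgroup.centralizer (Q : Set G) ∧ (Subgroup.centralizer (Q : Set G)).relIndex T' =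 (Subgroup.centralizer (P : Set G)).relIndex T ∧ Cfsg.blockRank p f = 1 ∧ Cfsg.IsNilpotentBlock p M f := by
  classical
  have := hM.2.1
  letI := Fintype.ofFinite G
  have := Fintype.ofFinite (IrrCharacter G)
  have := Fintype.ofFinite (IrrCharacter (CQ Q))
  have hPp : IsPGroup p P := isPGroup_defectGroup hM hB hPD
  have hPC : P ≤ CQ P := fun u hu => Subgroup.mem_centralizer_iff.mpr fun v hv =>
    congrArg Subtype.val ((IsCyclic.commGroup (α := P)).mul_comm ⟨v, hv⟩ ⟨u, hu⟩)
  have hPQ : P ≤ CQ Q := hPC.trans (cq_mono hQP)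
  have hpair := (isBrauerPairOf_iff_induced hM hB hPp hPC).mpr hc
  have hmax := isMaximal_of_defect hM hPD hpair
  obtain ⟨f', hn⟩ := exists_nSub hM hQP (hPQ.trans (centralizer_le_normalizer' Q)) hpair.1
  obtain rfl : f = f' :=
    inducedBlockIn_unique (cq_mono hQP) hf (isInducedBlockIn_of_nSub hM hn hPQ)
  have hnil := isNilpotentBlock_below_cyclic hM hmax hcyc hQ1 hPQ hn
  have hT'eq : T' = T ⊔ Subgroup.centralizer (Q : Set G) := by
    refine le_antisymm (fun x hx => ?_) (sup_le (fun g hg => ?_) fun g hg => ?_)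
    · exact stabilizer_below_le hM hmax hPQ hn hT ((hT' x).mp hx).1 ((hT' x).mp hx).2
    · exact (hT' g).mpr (le_stabilizer_below hM hmax hcyc hn ((hT g).mp hg).1 ((hT g).mp hg).2)
    · exact (hT' g).mpr ⟨centralizer_le_normalizer' Q hg,
        (stabilizesBlock_iff hM (centralizer_le_normalizer' Q hg) hn.pairL.2).mpr
          (cinv_iff_cj.mp (cinv_eG f) g hg)⟩
  refine ⟨hT'eq, ?_, (blockRank_eq_one_of_unitRow hM.1.ne_one (isNilpotentBlock_unitRow hM hnil)).1, hnil⟩
  rw [hT'eq, show Subgroup.centralizer (P : Set G) = T ⊓ CQ Q from (inf_centralizer_below hM hmax hcyc hQP hQ1 hT).symm]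
  refine relIndex_sup_of_le_normalizer fun g hg => ?_
  have hgN := (le_stabilizer_below hM hmax hcyc hn ((hT g).mp hg).1 ((hT g).mp hg).2).1
  rw [Subgroup.mem_normalizer_iff]
  exact fun v => cq_conj_iff hgN v

end Cfsg.Agent.S4645
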