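import Cfsg.Statements.S4682
import Cfsg.Agent.Lib.Block.LocalDefect
-- import your own Cfsg.Agent.* helpers here

set_option autoImplicit false
open Cfsg CfsgLib.Block
open scoped CfsgLib.Block.Pair

namespace Cfsg.Agent.S4682

/-- Fix a prime p and a maximal ideal M of the algebraic integers containing p, a p-block B of the finite group G with maximal Brauer pair (P, e), P abelian, and a Brauer pair (Q, f) ≤ (P, e). Let T_Q be the stabilizer of f in N_G(Q) and T_P the stabilizer of e in N_G(P). Then every element of T_Q is a product of an element of T_P and an element of C_G(Q); and the index of C_G(Q) in T_Q equals the index of T_P ∩ C_G(Q) in T_P ∩ N_G(Q). -/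
theorem result {G : Type*} [Group G] [Fintype G] (p : ℕ) [Fact p.Prime] (M : Ideal Cfsg.AlgInt) (hM : Cfsg.IsPModular p M) (B : Set (Cfsg.IrrCharacter G)) (P : Subgroup G) (e : Set (Cfsg.IrrCharacter (Subgroup.centralizer (P : Set G)))) (hmax : Cfsg.IsMaximalBrauerPair p M B P e) (hab : ∀ x ∈ P, ∀ y ∈ P, x * y = y * x) (Q : Subgroup G) (f : Set (Cfsg.IrrCharacter (Subgroup.centralizer (Q : Set G)))) (hQP : Q ≤ P) (hf : Cfsg.IsPBlock M f) (hle : Cfsg.SubpairLE p M Q f P e) (TQ : Subgroup G) (hTQ : ∀ y : G, y ∈ TQ ↔ y ∈ Subgroup.normalizer (Q : Set G) ∧ Cfsg.StabilizesBlock (Subgroup.centralizer (Q : Set G)) f y) (TP : Subgroup G) (hTP : ∀ y : G, y ∈ TP ↔ y ∈ Subgroup.normalizer (P : Set G) ∧ Cfsg.StabilizesBlock (Subgroup.centralizer (P : Set G)) e y) : (∀ x ∈ TQ, ∃ y ∈ TP, ∃ c ∈ Subgroup.centralizer (Q : Set G), x = y * c) ∧ ((Subgroup.centralizer (Q : Set G)).subgroupOf TQ).index = ((TP ⊓ Subgroup.centralizer (Q : Set G)).subgroupOf (TP ⊓ Subgroup.normalizer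 (Q : Set G))).index := by
  classical
  have := hM.2.1
  have hfQ : IsBrauerPair p M Q f := ⟨hmax.1.1.1.to_le hQP, hf⟩
  have he := hmax.1.1
  have hPC : P ≤ CQ Q := fun u hu =>
    Subgroup.mem_centralizer_iff.mpr fun v hv => hab v (hQP hv) u hu
  have hPN : P ≤ Subgroup.normalizer (Q : Set G) := hPC.trans (centralizer_le_normalizer' Q)
  have hL := isLocalBlock_self (M := M) hf
  obtain ⟨D, hD⟩ := exists_defectGroup hM hf
  have hdef : IsDefectGroup p M f (P.subgroupOf (CQ Q)) := by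
    have h1 := hL.inf_conjLE hM hfQ he hle hD
    rw [inf_eq_left.mpr hPC] at h1
    obtain ⟨x, -, hDx⟩ := hL.exists_conj_le hM hfQ hmax hle hD
    have h2 := Nat.card_le_card_of_injective _ (Subgroup.inclusion_injective hDx)
    rw [card_cjS, Subgroup.card_map_of_injective Subtype.val_injective,
      ← Nat.card_congr (Subgroup.subgroupOfEquivOfLe hPC).toEquiv] at h2
    obtain ⟨c, hc⟩ := h1.exists_eq h2
    have hback : cjS c⁻¹ D = P.subgroupOf (CQ Q) := by
      rw [← hc]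
      show cjS c⁻¹ (cjS c _) = _
      rw [cjS_cjS, inv_mul_cancel, cjS_one]
    exact hback ▸ isDefectGroup_conj hM hf hD c⁻¹
  obtain ⟨g0, hg0, hg0e⟩ := SubpairLE.exists_nSub_mid hM he hle hQP le_rfl hPN
  obtain rfl : g0 = e := SubpairLE.eq_of_eq hM hg0e
  have main : ∀ x ∈ TQ, ∃ y ∈ TP, ∃ c ∈ CQ Q, x = y * c := by
    intro x hxT
    obtain ⟨hxN, hxS⟩ := (hTQ x).mp hxT
    have hxQ : cjP x (⟨Q, f⟩ : BrauerPairIdx G) = ⟨Q, f⟩ :=
      pair_ext hM (isPBlock_conjBlock x hf) hf (cjS_eq_of_mem_normalizer hxN)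
        ((eG_conjBlock x f).trans ((stabilizesBlock_iff hM hxN hf).mp hxS))
    have h1 : NSub p M (cjP x (⟨Q, f⟩ : BrauerPairIdx G)).1 (cjP x (⟨Q, f⟩ : BrauerPairIdx G)).2
        (cjS x P) (conjBlock P x g0) := hg0.conj hM x
    rw [hxQ] at h1
    have hxPC : cjS x P ≤ CQ Q := fun u hu => by
      have h2 := (cq_conj_iff hxN _).mp (hPC (mem_cjS.mp hu))
      simpa [mul_assoc] using h2
    have hc2 : ConjLE ((cjS x P).subgroupOf (CQ Q)) (P.subgroupOf (CQ Q)) := by
      refine (hL.conjLE_iff hM hfQ hdef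
        (h1.pairR.1.of_equiv (Subgroup.subgroupOfEquivOfLe hxPC).symm)).mpr ?_
      rw [Subgroup.map_subgroupOf_eq_of_le hxPC, sup_eq_right.mpr h1.le]
      exact ⟨_, h1⟩
    obtain ⟨c, hc⟩ := hc2.exists_eq (by
      rw [Nat.card_congr (Subgroup.subgroupOfEquivOfLe hxPC).toEquiv, card_cjS,
        Nat.card_congr (Subgroup.subgroupOfEquivOfLe hPC).toEquiv])
    have hcP : cjS (c : G) (cjS x P) = P := by
      refine Subgroup.eq_of_le_of_card_ge (fun u hu => ?_) (by rw [card_cjS, card_cjS])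
      obtain ⟨v, hv, rfl⟩ := hu
      have h3 : (MulAut.conj c).toMonoidHom ⟨v, hxPC hv⟩ ∈ P.subgroupOf (CQ Q) :=
        hc.le (Subgroup.mem_map_of_mem _ (Subgroup.mem_subgroupOf.mpr hv))
      exact h3
    have hcQ : cjP (c : G) (⟨Q, f⟩ : BrauerPairIdx G) = ⟨Q, f⟩ :=
      pair_ext hM (isPBlock_conjBlock _ hf) hf
        (cjS_eq_of_mem_normalizer (centralizer_le_normalizer' Q c.2))
        ((eG_conjBlock _ f).trans (cinv_iff_cj.mp (cinv_eG f) _ c.2))
    have h2 : NSub p M (cjP (c : G) (⟨Q, f⟩ : BrauerPairIdx G)).1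
        (cjP (c : G) (⟨Q, f⟩ : BrauerPairIdx G)).2
        (cjS (c : G) (cjS x P)) (conjBlock (cjS x P) (c : G) (conjBlock P x g0)) := h1.conj hM (c : G)
    rw [hcQ] at h2
    have hzN : (c : G) * x ∈ Subgroup.normalizer (P : Set G) :=
      mem_normalizer_of_cjS_eq ((cjS_cjS _ _ _).symm.trans hcP)
    have h3 : NSub p M Q f P (conjSet ((c : G) * x) (CQ P) (CQ P) g0) := by
      have e1 : (⟨cjS (c : G) (cjS x P), conjBlock (cjS x P) (c : G) (conjBlock P x g0)⟩ :
          BrauerPairIdx G) = ⟨P, conjSet ((c : G) * x) (CQ P) (CQ P) g0⟩ :=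
        (cjP_cjP hM _ _ he.2).trans (cjP_eq_of_mem hM hzN he.2)
      show NSub p M Q f (⟨P, conjSet ((c : G) * x) (CQ P) (CQ P) g0⟩ : BrauerPairIdx G).1
        (⟨P, conjSet ((c : G) * x) (CQ P) (CQ P) g0⟩ : BrauerPairIdx G).2
      rw [← e1]
      exact h2
    obtain ⟨n, hnC, hnN, hne⟩ := exists_conj_of_nSub_defect hM hPC hQP hdef hg0 h3
    set y := n⁻¹ * ((c : G) * x) with hy
    have hyN : y ∈ Subgroup.normalizer (P : Set G) := mul_mem (inv_mem hnN) hzN
    have hyT : y ∈ TP := (hTP y).mpr ⟨hyN, (stabilizesBlock_iff hM hyN he.2).mpr (by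
      have h4 := congrArg (eG M) hne
      rw [eG_conjN hnN, eG_conjN hzN] at h4
      rw [hy, ← cj_cj, ← h4, cj_cj, inv_mul_cancel, cj_one])⟩
    refine ⟨y, hyT, x⁻¹ * ((c : G)⁻¹ * n) * x, ?_, by rw [hy]; group⟩
    have h5 := (cq_conj_iff (inv_mem hxN) _).mp (mul_mem (inv_mem c.2) hnC)
    rwa [inv_inv] at h5
  refine ⟨main, ?_⟩
  have hCT : CQ Q ≤ TQ := fun u hu => (hTQ u).mpr ⟨centralizer_le_normalizer' Q hu,
    (stabilizesBlock_iff hM (centralizer_le_normalizer' Q hu) hf).mpr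
      (cinv_iff_cj.mp (cinv_eG f) u hu)⟩
  set U := TP ⊓ Subgroup.normalizer (Q : Set G) with hU
  have hUT : U ≤ TQ := by
    rintro u ⟨huP, huQ⟩
    obtain ⟨huN, huS⟩ := (hTP u).mp huP
    have hPe : cjP u (⟨P, g0⟩ : BrauerPairIdx G) = ⟨P, g0⟩ :=
      pair_ext hM (isPBlock_conjBlock u he.2) he.2 (cjS_eq_of_mem_normalizer huN)
        ((eG_conjBlock u g0).trans ((stabilizesBlock_iff hM huN he.2).mp huS))
    have h1 := SubpairLE.conj hM u hle
    have hQe := cjP_eq_of_mem hM huQ hf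
    have h2 : SubpairLE p M Q (conjSet u (CQ Q) (CQ Q) f) P g0 := by
      show Relation.ReflTransGen _ _ _
      rw [← hQe, ← hPe]
      exact h1
    have h3 := SubpairLE.unique hM he h2 hle
    exact (hTQ u).mpr ⟨huQ, (stabilizesBlock_iff hM huQ hf).mpr (by rw [← eG_conjN huQ, h3])⟩
  have hker : (TP ⊓ CQ Q).subgroupOf U = (CQ Q).subgroupOf U := by
    ext u
    simp only [Subgroup.mem_subgroupOf, Subgroup.mem_inf]
    exact ⟨fun h => h.2, fun h => ⟨u.2.1, h⟩⟩

  rw [hker, Subgroup.index, Subgroup.index]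
  refine (Nat.card_congr (Equiv.ofBijective
    (Quotient.map' (Subgroup.inclusion hUT) ?_) ⟨?_, ?_⟩)).symm
  · intro a b hab'
    rw [QuotientGroup.leftRel_apply, Subgroup.mem_subgroupOf] at hab' ⊢
    simpa using hab'
  · intro a b
    induction a using Quotient.inductionOn'
    induction b using Quotient.inductionOn'
    intro h
    rw [Quotient.map'_mk'', Quotient.map'_mk'', Quotient.eq'', QuotientGroup.leftRel_apply,
      Subgroup.mem_subgroupOf] at h
    rw [Quotient.eq'', QuotientGroup.leftRel_apply, Subgroup.mem_subgroupOf]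
    simpa using h
  · intro a
    induction a using Quotient.inductionOn' with
    | h a =>
      obtain ⟨y, hy, c, hc, hac⟩ := main a a.2
      have hyN : y ∈ Subgroup.normalizer (Q : Set G) := by
        have h1 := mul_mem ((hTQ _).mp a.2).1 (inv_mem (centralizer_le_normalizer' Q hc))
        rwa [hac, mul_inv_cancel_right] at h1
      refine ⟨Quotient.mk'' ⟨y, hy, hyN⟩, ?_⟩
      rw [Quotient.map'_mk'', Quotient.eq'', QuotientGroup.leftRel_apply, Subgroup.mem_subgroupOf]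
      simp [hac, hc]

end Cfsg.Agent.S4682
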