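import Cfsg.Statements.S4687
import Cfsg.Agent.Lib.Block.FusionSat
import Cfsg.Agent.S4682
-- import your own Cfsg.Agent.* helpers here

set_option autoImplicit false
open Cfsg CfsgLib.Block
open scoped ComplexConjugate

open Cfsg

namespace Cfsg.Agent.S4687

/-- Fix a prime p and a maximal ideal M of the algebraic integers containing p, and a p-block B of the finite group G with maximal Brauer pair (P, e), P abelian. Then B is nilpotent if and only if its inertial quotient is trivial: every element of N_G(P) stabilizing e centralizes P. -/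
theorem result {G : Type*} [Group G] [Fintype G] (p : ℕ) [Fact p.Prime] (M : Ideal Cfsg.AlgInt) (hM : Cfsg.IsPModular p M) (B : Set (Cfsg.IrrCharacter G)) (P : Subgroup G) (e : Set (Cfsg.IrrCharacter (Subgroup.centralizer (P : Set G)))) (hmax : Cfsg.IsMaximalBrauerPair p M B P e) (hab : ∀ x ∈ P, ∀ y ∈ P, x * y = y * x) : Cfsg.IsNilpotentBlock p M B ↔ ∀ x : G, x ∈ Subgroup.normalizer (P : Set G) → Cfsg.StabilizesBlock (Subgroup.centralizer (P : Set G)) e x → x ∈ Subgroup.centralizer (P : Set G) := by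
  classical
  have := hM.2.1
  have he := hmax.1.1
  constructor
  · intro hnil x hxN hxS
    have hF := isBlockFusionSystemOn_blockFusion hM hmax
    have hin := (isNilpotentBlock_iff_inner hM hF).mp hnil P
    have hfix : cjP x (⟨P, e⟩ : BrauerPairIdx G) = ⟨P, e⟩ :=
      pair_ext hM (isPBlock_conjBlock x he.2) he.2 (cjS_eq_of_mem_normalizer hxN)
        ((eG_conjBlock x e).trans ((stabilizesBlock_iff hM hxN he.2).mp hxS))
    have hmap : conjHom P x ∈ (blockFusion hM he).Hom P :=
      ⟨le_rfl, x, fun _ => rfl, (cjS_eq_of_mem_normalizer hxN).le, e,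
        Relation.ReflTransGen.refl, show Below p M P e (cjP x ⟨P, e⟩) by
          rw [hfix]; exact Relation.ReflTransGen.refl⟩
    rw [hin] at hmap
    obtain ⟨-, u, hu, hux⟩ := hmap
    rw [Subgroup.mem_centralizer_iff]
    intro q hq
    have h1 : x * q * x⁻¹ = u * q * u⁻¹ := hux ⟨q, hq⟩
    rw [hab u hu q hq, mul_inv_cancel_right] at h1
    conv_lhs => rw [← h1]
    group
  · intro htriv
    refine ⟨hmax.1.2.1, fun Q f hQf y hyN hyS _ => ?_⟩
    obtain ⟨x, hx⟩ := exists_conj_subpairLE hM hmax hQf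
    have hxb := isBrauerPair_of_below hM he hx
    have hy'N : x * y * x⁻¹ ∈ Subgroup.normalizer (cjS x Q : Set G) := by
      rw [mem_normalizer_cjS_iff]; simpa [mul_assoc] using hyN
    have hy'S : StabilizesBlock (CQ (cjS x Q)) (conjBlock Q x f) (x * y * x⁻¹) := by
      refine (stabilizesBlock_iff hM hy'N hxb.2).mpr ?_
      show cj (x * y * x⁻¹) (eG (K := CQ (cjS x Q)) M (conjBlock Q x f)) = _
      erw [eG_conjBlock x f]
      rw [cj_cj, inv_mul_cancel_right, ← cj_cj, (stabilizesBlock_iff hM hyN hQf.1.2).mp hyS]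
    obtain ⟨TQ, hTQ⟩ := exists_stab_subgroup hM hxb.2
    obtain ⟨TP, hTP⟩ := exists_stab_subgroup hM he.2
    obtain ⟨t, ht, c, hc, htc⟩ := (Cfsg.Agent.S4682.result p M hM B P e hmax hab _ _
      (SubpairLE.le hx) hxb.2 hx TQ hTQ TP hTP).1 _ ((hTQ _).mpr ⟨hy'N, hy'S⟩)
    have h1 : t ∈ CQ (cjS x Q) := Subgroup.centralizer_le (SubpairLE.le hx)
      (htriv t ((hTP t).mp ht).1 ((hTP t).mp ht).2)
    have h2 : x * y * x⁻¹ ∈ CQ (cjS x Q) := htc ▸ mul_mem h1 hc
    rw [Subgroup.mem_centralizer_iff] at h2 ⊢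
    intro q hq
    have h3 := h2 (x * q * x⁻¹) (Subgroup.mem_map_of_mem (MulAut.conj x).toMonoidHom hq)
    exact mul_right_cancel (b := x⁻¹) (mul_left_cancel (a := x) (by simpa [mul_assoc] using h3))

end Cfsg.Agent.S4687
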