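import Cfsg.Statements.S4650
import Cfsg.Agent.Lib.Block.AbelianDefect.Local
import Cfsg.Agent.S4687

set_option autoImplicit false
open Cfsg CfsgLib.Block
open scoped Pair

namespace Cfsg.Agent.S4650

/-- Let B be a block of the finite group G relative to a maximal ideal M of the algebraic integers containing the prime p, with a nontrivial commutative defect group P; let c be a block of C_G(P) inducing B and T the stabilizer of c in N_G(P). Then T/C_G(P) acts freely on the non-identity elements of P (an element of T fixing a non-identity element of P under conjugation lies in C_G(P)) if and only if, for every nontrivial subgroup Q of P, the block of C_G(Q) induced by c inside C_G(Q) is a nilpotent block of C_G(Q). -/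
theorem result {G : Type*} [Group G] [Finite G] (p : ℕ) [Fact p.Prime] (M : Ideal Cfsg.AlgInt) (hM : Cfsg.IsPModular p M) (B : Set (Cfsg.IrrCharacter G)) (hB : Cfsg.IsPBlock M B) (P : Subgroup G) (hPD : Cfsg.IsDefectGroup p M B P) (hPab : ∀ x ∈ P, ∀ y ∈ P, x * y = y * x) (hP1 : P ≠ ⊥) (c : Set (Cfsg.IrrCharacter (Subgroup.centralizer (P : Set G)))) (hc : Cfsg.IsInducedBlock M (Subgroup.centralizer (P : Set G)) c B) (T : Subgroup G) (hT : ∀ g : G, g ∈ T ↔ (g ∈ Subgroup.normalizer (P : Set G) ∧ Cfsg.StabilizesBlock (Subgroup.centralizer (P : Set G)) c g)) : (∀ g ∈ T, ∀ x ∈ P, x ≠ 1 → g * x * g⁻¹ = x → g ∈ Subgroup.centralizer (P : Set G)) ↔ ∀ Q : Subgroup G, Q ≤ P → Q ≠ ⊥ → ∀ f : Set (Cfsg.IrrCharacter (Subgroup.centralizer (Q : Set G))), Cfsg.IsInducedBlockIn M (Subgroup.centralizer (Q : Set G)) (Subgroup.centralizer (P : Set G)) c f → Cfsg.IsNilpotentBlock p M f := by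
  classical
  have : M.IsMaximal := hM.2.1
  have := Fintype.ofFinite G
  have := Fintype.ofFinite (IrrCharacter G)
  have hpP := CfsgLib.Block.isPGroup_defectGroup hM hB hPD
  have hPC : P ≤ CfsgLib.Block.CQ P := CfsgLib.Block.AbelianDefect.le_cq hPab le_rfl
  have hmax := CfsgLib.Block.isMaximal_of_defect hM hPD
    ((CfsgLib.Block.isBrauerPairOf_iff_induced hM hB hpP hPC).mpr hc)
  have key : ∀ (Q : Subgroup G) (f : Set (IrrCharacter (CQ Q))) (hle : SubpairLE p M Q f P c),
      IsNilpotentBlock p M f ↔ ∀ g ∈ T, g ∈ CQ Q → g ∈ CQ P := by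
    intro Q f hle
    have := Fintype.ofFinite (IrrCharacter (CQ Q))
    have hPQ := AbelianDefect.le_cq hPab (SubpairLE.le hle)
    rw [Cfsg.Agent.S4687.result p M hM f _ _ (AbelianDefect.isMaximal_local hM hmax hPab hle)
      (AbelianDefect.subgroupOf_comm hPab)]
    constructor
    · intro h g hg hgQ
      obtain ⟨h1, h2⟩ := (AbelianDefect.local_stabilizes_iff (t := ⟨g, hgQ⟩) hPQ
        (cq_mono (SubpairLE.le hle))).mpr ((hT g).mp hg)
      exact Subgroup.mem_centralizer_iff.mpr fun u hu => congrArg Subtype.val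
        (Subgroup.mem_centralizer_iff.mp (h ⟨g, hgQ⟩ h1 h2) ⟨u, hPQ hu⟩ hu)
    · intro h x hxN hxS
      have hxT : (x : G) ∈ T := (hT _).mpr ((AbelianDefect.local_stabilizes_iff hPQ
        (cq_mono (SubpairLE.le hle))).mp ⟨hxN, hxS⟩)
      exact Subgroup.mem_centralizer_iff.mpr fun u hu => Subtype.ext
        (Subgroup.mem_centralizer_iff.mp (h _ hxT x.2) _ hu)
  constructor
  · intro hfree Q hQP hQ1 f hf
    obtain ⟨f₀, hf₀, hle⟩ := exists_subpairLE hM hmax.1.1 Q hQP
    rw [inducedBlockIn_unique (cq_mono hQP) hf (isInducedBlockIn_of_nSub hM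
      (AbelianDefect.nSub_of_le hM hmax.1.1 hPab hle) (AbelianDefect.le_cq hPab hQP)), key Q f₀ hle]
    obtain ⟨⟨v, hvQ⟩, hv1⟩ : ∃ v : Q, v ≠ 1 := by
      have : Nontrivial Q := (Subgroup.nontrivial_iff_ne_bot Q).mpr hQ1
      exact exists_ne 1
    intro g hg hgQ
    refine hfree g hg v (hQP hvQ) (fun h => hv1 (Subtype.ext h)) ?_
    rw [← Subgroup.mem_centralizer_iff.mp hgQ v hvQ, mul_inv_cancel_right]
  · intro h g hg x hx hx1 hgx
    obtain ⟨f, hf, hle⟩ := exists_subpairLE hM hmax.1.1 _ (Subgroup.zpowers_le.mpr hx)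
    have hnil := h _ (Subgroup.zpowers_le.mpr hx) (fun h0 => hx1 (Subgroup.zpowers_eq_bot.mp h0)) f
      (isInducedBlockIn_of_nSub hM (AbelianDefect.nSub_of_le hM hmax.1.1 hPab hle)
        (AbelianDefect.le_cq hPab (Subgroup.zpowers_le.mpr hx)))
    exact (key _ f hle).mp hnil g hg (mem_cq_zpowers_iff.mpr (mul_inv_eq_iff_eq_mul.mp hgx))

end Cfsg.Agent.S4650
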