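import Cfsg.Statements.S4651
import Cfsg.Agent.Lib.Block.ChainCount
import Cfsg.Agent.Lib.PGroup.NormalChains

set_option autoImplicit false
open Cfsg
open CfsgLib.Block.ChainCount CfsgLib.PGroup.NormalChains

namespace Cfsg.Agent.S4651

/-- An alternating-sum identity over chains of p-subgroups (the character-count form behind the chain reformulation of Alperin's weight conjecture, which holds unconditionally for the difference k − l). Let b be a block of the finite group G relative to a maximal ideal M of the algebraic integers containing the prime p. Consider the nonempty chains s = {Q_0 < Q_1 < ⋯ < Q_m} of nontrivial p-subgroups of G in which every member is normal in the largest member; let N_G(s) be the intersection of the normalizers of the members (the stabilizer of the chain), and let b_s be the set of irreducible characters of N_G(s) lying in blocks of N_G(s) that induce b. Then #G · (k(b) − l(b)) equals the sum over all such chains s of (−1)^m · #N_G(s) · (k(b_s)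 − l(b_s)), where k counts irreducible characters and l is the p-regular rank; equivalently, k(b) − l(b) is the alternating sum of k(b_s) − l(b_s) over representatives of the conjugacy classes of such chains. -/
theorem result {G : Type*} [Group G] [Finite G] (p : ℕ) [Fact p.Prime] (M : Ideal Cfsg.AlgInt) (hM : Cfsg.IsPModular p M) (b : Set (Cfsg.IrrCharacter G)) (hb : Cfsg.IsPBlock M b) : (Nat.card G : ℤ) * ((Nat.card b : ℤ) - (Cfsg.blockRank p b : ℤ)) = ∑ᶠ s ∈ {s : Finset (Subgroup G) | s.Nonempty ∧ (∀ Q ∈ s, ∀ R ∈ s, Q ≤ R ∨ R ≤ Q) ∧ (∀ Q ∈ s, Q ≠ ⊥ ∧ IsPGroup p Q) ∧ ∃ T ∈ s, ∀ Q ∈ s, Q ≤ T ∧ T ≤ Subgroup.normalizer ((Q : Subgroup G) : Set G)}, (-1 : ℤ) ^ (s.card - 1) * (Nat.card (((⨅ Q ∈ s, Subgroup.normalizer ((Q : Subgroup G) : Set G) : Subgroup G))) : ℤ) * ((Nat.card {ψ : Cfsg.IrrCharacter (((⨅ Q ∈ s, Subgroup.normalizer ((Q : Subgroup G) : Set G) : Subgroup G))) | ∃ β : Set (Cfsg.IrrCharacter (((⨅ Q ∈ s, Subgroup.normalizer ((Q : Subgroup G) : Set G) : Subgroup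 G)))), ψ ∈ β ∧ Cfsg.IsInducedBlock M (((⨅ Q ∈ s, Subgroup.normalizer ((Q : Subgroup G) : Set G) : Subgroup G))) β b} : ℤ) - (Cfsg.blockRank p {ψ : Cfsg.IrrCharacter (((⨅ Q ∈ s, Subgroup.normalizer ((Q : Subgroup G) : Set G) : Subgroup G))) | ∃ β : Set (Cfsg.IrrCharacter (((⨅ Q ∈ s, Subgroup.normalizer ((Q : Subgroup G) : Set G) : Subgroup G)))), ψ ∈ β ∧ Cfsg.IsInducedBlock M (((⨅ Q ∈ s, Subgroup.normalizer ((Q : Subgroup G) : Set G) : Subgroup G))) β b} : ℤ)) := by
  classical
  have := hM.2.1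
  letI := Fintype.ofFinite G
  letI := Fintype.ofFinite (Finset (Subgroup G))

  set w : G → Subgroup G → ℤ := fun _ K => (Nat.card K : ℤ) * lRank p M b K with hw
  have hset : {s : Finset (Subgroup G) | s.Nonempty ∧ (∀ Q ∈ s, ∀ R ∈ s, Q ≤ R ∨ R ≤ Q) ∧
      (∀ Q ∈ s, Q ≠ ⊥ ∧ IsPGroup p Q) ∧
      ∃ T ∈ s, ∀ Q ∈ s, Q ≤ T ∧ T ≤ Subgroup.normalizer ((Q : Subgroup G) : Set G)} =
      {s | IsNormalChain p s} := rfl
  rw [hset, finsum_mem_eq_toFinset_sum, Set.toFinset_setOf, card_mul_sub_eq_sum hM hb]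
  have hs : ∀ s : Finset (Subgroup G),
      (-1 : ℤ) ^ (s.card - 1) * (Nat.card (stab s) : ℤ) *
        ((Nat.card {ψ : Cfsg.IrrCharacter (stab s) | ∃ β, ψ ∈ β ∧ Cfsg.IsInducedBlock M (stab s) β b} : ℤ) -
          (Cfsg.blockRank p {ψ : Cfsg.IrrCharacter (stab s) | ∃ β, ψ ∈ β ∧ Cfsg.IsInducedBlock M (stab s) β b} : ℤ)) =
      ∑ x ∈ Finset.univ.filter (fun x : G => (∃ k : ℕ, orderOf x = p ^ k) ∧ x ≠ 1),
        if x ∈ stab s then
          (-1 : ℤ) ^ (s.card - 1) * w x (Subgroup.centralizer ({x} : Set G) ⊓ stab s) else 0 := by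
    intro s
    rw [mul_assoc, card_sub_rank_eq_sum hM b (stab s), Finset.mul_sum, ← Finset.sum_filter]
  refine Eq.trans ?_ (Finset.sum_congr rfl fun s _ => (hs s).symm)
  rw [Finset.sum_comm]
  refine Finset.sum_congr rfl fun x hx => ?_
  obtain ⟨-, hxp, hx1⟩ := Finset.mem_filter.mp hx
  let f : Subgroup G → ℤ := fun K =>
    if x ∈ K then w x (Subgroup.centralizer ({x} : Set G) ⊓ K) else 0
  calc (Nat.card (Subgroup.centralizer ({x} : Set G)) : ℤ) *
        lRank p M b (Subgroup.centralizer ({x} : Set G))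
      = ∑ s ∈ (Finset.univ.filter (fun s : Finset (Subgroup G) => IsChainP p s)).filter
          (fun s => x ∈ stab s),
          (-1 : ℤ) ^ (s.card - 1) * w x (Subgroup.centralizer ({x} : Set G) ⊓ stab s) :=
        (sum_fixed_eq hxp hx1 (w x)).symm
    _ = ∑ s ∈ Finset.univ.filter (fun s : Finset (Subgroup G) => IsChainP p s),
          (-1 : ℤ) ^ (s.card - 1) * f (stab s) := by
        rw [Finset.sum_filter]
        exact Finset.sum_congr rfl fun s _ => by simp [f, mul_ite]
    _ = _ := by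
        rw [← sum_normal_eq f]
        exact Finset.sum_congr rfl fun s _ => by simp [f, mul_ite]

end Cfsg.Agent.S4651
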