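import Cfsg.Statements.S4654
import Cfsg.Agent.Lib.Block.NormalSupport
import Cfsg.Agent.Lib.Block.CoveringDefect

/-!
# S4654: block idempotents over a normal p-subgroup
-/

set_option autoImplicit false
open Cfsg

namespace Cfsg.Agent.S4654

open CfsgLib CfsgLib.Block
open scoped Pair
open scoped ComplexConjugate

/-- Fix a prime p and a maximal ideal M of the algebraic integers containing p. Let P be a normal p-subgroup of the finite group G, B a p-block of G and e a p-block of C_G(P) such that (P, e) is a Brauer pair of B (as P is normal, this says that e occurs in the idempotent of B, which is supported on C_G(P)). Let T be the stabilizer of e in G under conjugation. Then the idempotent of e is a block idempotent of T: some block E of T has, at every element of T, the same idempotent coefficient as e (zero off C_G(P)); and the idempotent of B is the sum of the distinct G-conjugates of the idempotent of e: its coefficient at g is the sum over all x in G of the coefficient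 of e at x⁻¹ g x, divided by the order of T. -/
theorem result {G : Type*} [Group G] [Fintype G] (p : ℕ) [Fact p.Prime] (M : Ideal Cfsg.AlgInt) (hM : Cfsg.IsPModular p M) (P : Subgroup G) [P.Normal] (hP : IsPGroup p P) (B : Set (Cfsg.IrrCharacter G)) (e : Set (Cfsg.IrrCharacter (Subgroup.centralizer (P : Set G)))) (hBe : Cfsg.IsBrauerPairOf p M B P e) (T : Subgroup G) (hT : ∀ x : G, x ∈ T ↔ Cfsg.StabilizesBlock (Subgroup.centralizer (P : Set G)) e x) : (∃ E : Set (Cfsg.IrrCharacter T), Cfsg.IsPBlock M E ∧ ∀ t : T, Cfsg.blockCoeff E t = Cfsg.subgroupBlockCoeff (Subgroup.centralizer (P : Set G)) e (t : G)) ∧ ∀ g : G, Cfsg.blockCoeff B g = (Nat.card T : ℂ)⁻¹ * ∑ x : G, Cfsg.subgroupBlockCoeff (Subgroup.centralizer (P : Set G)) e (x⁻¹ * g * x) := by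
  classical
  have := hM.2.1
  haveI hn : (CQ P).Normal := inferInstanceAs (Subgroup.centralizer (P : Set G)).Normal
  letI := Fintype.ofFinite (CQ P)
  letI := Fintype.ofFinite (IrrCharacter (CQ P))
  letI := Fintype.ofFinite (ConjClasses (CQ P))
  have he : IsPBlock M e := hBe.1.2
  have hB : IsPBlock M B := hBe.2.1
  have hnorm : ∀ x : G, x ∈ Subgroup.normalizer (P : Set G) := fun x => by
    rw [Subgroup.normalizer_eq_top]; trivial
  have hTcj : ∀ x : G, x ∈ T ↔ cjN x '' e = e := fun x => (hT x).trans stabilizesBlock_iff_cjN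
  have hPT : P ≤ T := fun x hx => (hTcj x).mpr (by
    have : ∀ θ : IrrCharacter (CQ P), cjN x θ = θ := fun θ => Subtype.ext (funext fun n => by
      rw [cjN_apply]
      refine congrArg _ (Subtype.ext ?_)
      show x⁻¹ * (n : G) * x = n
      rw [mul_assoc, ← Subgroup.mem_centralizer_iff.mp n.2 x hx, inv_mul_cancel_left])
    simp [this])
  have hCT : CQ P ≤ T := fun x hx => (hTcj x).mpr (by
    have : ∀ θ : IrrCharacter (CQ P), cjN x θ = θ := fun θ => Subtype.ext (funext fun n => by
      rw [cjN_apply]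
      have h := Char.isClassFunction_irr θ n (⟨x, hx⟩ : CQ P)⁻¹
      rw [inv_inv] at h
      exact h)
    simp [this])
  refine ⟨?_, ?_⟩
  · obtain ⟨E, hE, hcoeff⟩ := exists_localBlock hM hP (T := T) hCT hPT (fun x _ => hnorm x) he
      (fun t ht => (stabilizesBlock_iff hM (hnorm t) he).mp ((hT t).mp ht))
    exact ⟨E, hE.block, hcoeff⟩
  obtain ⟨S, hS, hBS⟩ := exists_blockCoeff_eq_centralizer hM hP hB
  have hBS' : ∀ x : CQ P, blockCoeff B (x : G) = blockCoeff S x := fun x =>
    (hBS x).trans (subgroupBlockCoeff_coe S x)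
  have heS : e ⊆ S := by
    intro ξ hξ
    have h1 := hBe.2.2 ξ hξ
    have h2 : brauerOmega P (blockCoeff B) (ξ : CQ P → ℂ) =
        omega (ξ : CQ P → ℂ) (gaOfFun (blockCoeff S)) := by
      rw [brauerOmega, finsum_eq_sum_of_fintype, omega, Finset.sum_div]
      exact Finset.sum_congr rfl fun x _ => by rw [coeff_gaOfFun, hBS' x]
    rw [h2, omega_gaOfFun_blockCoeff] at h1
    by_contra hne
    rw [if_neg hne, zero_sub] at h1
    obtain ⟨a, b, ha, hb, hab⟩ := h1
    have hb0 : (b : ℂ) ≠ 0 := fun h => hb (by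
      rw [show b = 0 from Subtype.ext h]; exact M.zero_mem)
    rw [div_eq_iff hb0, neg_one_mul] at hab
    exact hb (by
      rw [show b = -a from Subtype.ext (by push_cast; rw [hab, neg_neg])]; exact M.neg_mem ha)
  have hyS : eG M S = (blockBar M B : MonoidAlgebra (ResField M) G) := by
    have hres : ∀ {A : Type _} [Group A] [Fintype A] [DecidableEq A] {U : Set (IrrCharacter A)},
        ∀ a : A, coeffRes M U a = res M (toLocOrZero M (blockCoeff U a)) := fun a => by
      rw [coeffRes]; congr 1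
    refine ga_ext fun g => ?_
    rw [coeff_blockBar]
    by_cases hg : g ∈ CQ P
    · refine (coeff_eG S ⟨g, hg⟩).trans ?_
      rw [hres, hres, ← hBS' ⟨g, hg⟩]
    · rw [suppIn_eG S g hg]
      exact ((coeffRes_eq_zero_iff hM (.of_isPBlock hB) g).mpr (by
        rw [hBS, subgroupBlockCoeff_of_notMem S hg]
        exact ⟨0, 1, M.zero_mem, Ideal.IsPrime.one_notMem inferInstance, by simp⟩)).symm
  have hyN : SuppIn (CQ P) (blockBar M B : MonoidAlgebra (ResField M) G) := hyS ▸ suppIn_eG S
  have hcov : ∀ θ ∈ S, Covers B (blockOf M (θ : CQ P → ℂ)) := by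
    intro θ hθ
    obtain ⟨B₂, hB₂, hcov₂⟩ := exists_covers (G := G) (isPBlock_blockOf (M := M) θ)
    obtain ⟨χ, hχ, η, hη, hc⟩ := hcov₂
    refine ⟨χ, by_contra fun hne => ?_, η, hη, hc⟩
    have h1 := omegaBar_eq_omG_of_constituent (M := M) χ η hc (blockBar M B) hyN
    rw [omegaBar_blockBar hM (.of_isPBlock hB), if_neg hne, ← hyS, eG, omG_emb,
      omegaBar_blockBar hM hS, if_pos (hS θ hθ η hη)] at h1
    exact zero_ne_one h1
  have hSorb : S ⊆ orbSet (G := G) e := by
    intro θ hθ
    obtain ⟨ξ, hξ⟩ := isPBlock_nonempty he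
    have h1 : Covers B e := by
      have := hcov ξ (heS hξ)
      rwa [← isPBlock_eq_blockOf he hξ] at this
    obtain ⟨χ, hχ, η, hη, hc⟩ := hcov θ hθ
    obtain ⟨g, hg⟩ := Covers.constituent_mem hM hB he h1 hχ hc
    refine ⟨g, ?_⟩
    rw [isPBlock_eq_blockOf he hg, blockOf_cjN]
    exact ⟨θ, sameBlock_symm hη, rfl⟩
  have hSinv : ∀ x : G, cjN x '' S ⊆ S := by
    rintro x _ ⟨θ, hθ, rfl⟩
    have h1 : blockCoeff (cjN x '' S) = blockCoeff S := funext fun k => by
      obtain ⟨j, hj⟩ := (cjHom (K := CQ P) (K' := CQ P) (nconj x)).surjective k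
      rw [← hj]
      refine (blockCoeff_image_irrEquiv (cjHom (K := CQ P) (K' := CQ P) (nconj x)) S j).trans ?_
      rw [← hBS', ← hBS']
      exact (blockCoeff_conj B (j : G) x).symm
    have h2 := omega_gaOfFun_blockCoeff (cjN x '' S) (cjN x θ)
    rw [h1, omega_gaOfFun_blockCoeff, if_pos (Set.mem_image_of_mem _ hθ)] at h2
    by_contra hne
    rw [if_neg hne] at h2
    exact zero_ne_one h2
  have hSeq : S = orbSet (G := G) e := Set.Subset.antisymm hSorb fun θ ⟨g, hg⟩ => by
    have := hSinv g⁻¹ ⟨cjN g θ, heS hg, rfl⟩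
    rwa [cjN_cjN, inv_mul_cancel, cjN_one] at this
  intro g
  have hT0 : (Nat.card T : ℂ) ≠ 0 := Nat.cast_ne_zero.mpr Nat.card_pos.ne'
  by_cases hg : g ∈ CQ P
  swap
  · rw [blockCoeff_eq_zero_of_notMem_centralizer hM hP hB hg,
      Finset.sum_eq_zero fun x _ => subgroupBlockCoeff_of_notMem e fun h => hg ?_, mul_zero]
    have := hn.conj_mem _ h x
    rwa [show x * (x⁻¹ * g * x) * x⁻¹ = g by group] at this
  have hidem : ∀ (U : Set (IrrCharacter (CQ P))) (k : CQ P), blockCoeff U k =
      ∑ θ : IrrCharacter (CQ P), if θ ∈ U then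
        (Nat.card (CQ P) : ℂ)⁻¹ * ((θ : CQ P → ℂ) 1 * conj ((θ : CQ P → ℂ) k)) else 0 := by
    intro U k
    rw [← Finset.sum_filter, blockCoeff, finsum_mem_eq_toFinset_sum, Finset.mul_sum]
    exact Finset.sum_congr (by ext; simp) fun _ _ => rfl
  have hterm : ∀ x : G, subgroupBlockCoeff (CQ P) e (x⁻¹ * g * x) =
      blockCoeff (cjN x '' e) ⟨g, hg⟩ := by
    intro x
    have hx : x⁻¹ * g * x ∈ CQ P := by simpa using hn.conj_mem _ hg x⁻¹
    refine (subgroupBlockCoeff_coe e ⟨_, hx⟩).trans ?_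
    have h := blockCoeff_image_irrEquiv (cjHom (K := CQ P) (K' := CQ P) (nconj x)) e ⟨_, hx⟩
    rw [show cjHom (K := CQ P) (K' := CQ P) (nconj x) ⟨_, hx⟩ = (⟨g, hg⟩ : CQ P) from
      Subtype.ext (by show x * (x⁻¹ * g * x) * x⁻¹ = g; group)] at h
    exact h.symm
  rw [hBS' ⟨g, hg⟩, hidem, Finset.sum_congr rfl fun x _ => (hterm x).trans (hidem _ _),
    Finset.sum_comm, Finset.mul_sum]
  refine Finset.sum_congr rfl fun θ _ => ?_
  rw [← Finset.sum_filter, Finset.sum_const, nsmul_eq_mul]
  by_cases hθ : θ ∈ S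
  · rw [if_pos hθ]
    obtain ⟨x₀, hx₀⟩ : ∃ x₀ : G, θ ∈ cjN x₀ '' e := by
      obtain ⟨y, hy⟩ := hSorb hθ
      exact ⟨y⁻¹, cjN y θ, hy, by rw [cjN_cjN, inv_mul_cancel, cjN_one]⟩
    have hcard : (Finset.univ.filter fun x : G => θ ∈ cjN x '' e).card = Nat.card T := by
      rw [← Fintype.card_subtype, ← Nat.card_eq_fintype_card]
      refine (Nat.card_congr ((Equiv.mulLeft x₀).subtypeEquiv fun t => ?_)).symm
      show t ∈ T ↔ θ ∈ cjN (x₀ * t) '' e
      rw [hTcj]
      constructor
      · intro h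
        obtain ⟨η, hη, rfl⟩ := hx₀
        rw [← h] at hη
        obtain ⟨η', hη', rfl⟩ := hη
        exact ⟨η', hη', (cjN_cjN _ _ _).symm⟩
      · rintro ⟨η', hη', he'⟩
        obtain ⟨η, hη, rfl⟩ := hx₀
        refine isPBlock_eq_of_mem (isPBlock_cjN t he) he ⟨η', hη', ?_⟩ hη
        have := congrArg (cjN x₀⁻¹) he'
        rwa [cjN_cjN, cjN_cjN, inv_mul_cancel_left, inv_mul_cancel, cjN_one] at this
    rw [hcard, inv_mul_cancel_left₀ hT0]
  · rw [if_neg hθ, Finset.filter_false_of_mem (fun x _ hx => hθ ?_), Finset.card_empty,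
      Nat.cast_zero, zero_mul, mul_zero]
    obtain ⟨η, hη, rfl⟩ := hx
    exact hSinv x ⟨η, heS hη, rfl⟩

end Cfsg.Agent.S4654
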