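import Cfsg.Statements.S4661
import Cfsg.Agent.Lib.Block.LocalDefect
-- import your own Cfsg.Agent.* helpers here

set_option autoImplicit false
open Cfsg CfsgLib.Block
open scoped CfsgLib.Block.Pair

namespace Cfsg.Agent.S4661

/-- Fix a prime p and a maximal ideal M of the algebraic integers containing p. Let (P, e) be a maximal Brauer pair of the p-block B of the finite group G, Q ≤ P, and f the p-block of C_G(Q) with (Q, f) ≤ (P, e). Then C_P(Q) is contained in a defect group of f (as a block of the group C_G(Q)); and for some x in G the conjugate pair (x Q x⁻¹, conjugate of f) again lies below (P, e) and C_P(x Q x⁻¹) is a defect group of the conjugate of f in C_G(x Q x⁻¹). -/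
theorem result {G : Type*} [Group G] [Fintype G] (p : ℕ) [Fact p.Prime] (M : Ideal Cfsg.AlgInt) (hM : Cfsg.IsPModular p M) (B : Set (Cfsg.IrrCharacter G)) (P Q : Subgroup G) (e : Set (Cfsg.IrrCharacter (Subgroup.centralizer (P : Set G)))) (f : Set (Cfsg.IrrCharacter (Subgroup.centralizer (Q : Set G)))) (hmax : Cfsg.IsMaximalBrauerPair p M B P e) (hQP : Q ≤ P) (hf : Cfsg.IsPBlock M f) (hle : Cfsg.SubpairLE p M Q f P e) : (∃ D : Subgroup (Subgroup.centralizer (Q : Set G)), Cfsg.IsDefectGroup p M f D ∧ (P ⊓ Subgroup.centralizer (Q : Set G)).subgroupOf (Subgroup.centralizer (Q : Set G)) ≤ D) ∧ ∃ x : G, Cfsg.SubpairLE p M (Q.map (MulAut.conj x).toMonoidHom) (Cfsg.conjBlock Q x f) P e ∧ Cfsg.IsDefectGroup p M (Cfsg.conjBlock Q x f) ((P ⊓ Subgroup.centralizer ((Q.map (MulAut.conj x).toMonoidHom) : Set G)).subgroupOf (Subgroup.centralizer ((Q.map (MulAut.conj x).toMonoidHom) : Set G))) := by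
  classical
  have := hM.2.1
  have hfQ : IsBrauerPair p M Q f := ⟨hmax.1.1.1.to_le hQP, hf⟩
  have hL := isLocalBlock_self (M := M) hf
  obtain ⟨D, hD⟩ := exists_defectGroup hM hf
  refine ⟨exists_defectGroup_ge_of_conjLE hM hf hD (hL.inf_conjLE hM hfQ hmax.1.1 hle hD), ?_⟩
  obtain ⟨x, hx, hDx⟩ := hL.exists_conj_le hM hfQ hmax hle hD
  refine ⟨x, hx, ?_⟩
  exact hL.isDefectGroup_inf hM hfQ hmax.1.1 hD hx hDx
    (fun u => by rw [cq_cjS_iff x Q (x⁻¹ * u * x), show x * (x⁻¹ * u * x) * x⁻¹ = u by group])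
    (isLocalBlock_self (isPBlock_conjBlock x hf))

end Cfsg.Agent.S4661
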