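import Cfsg.Statements.S4664
import Cfsg.Agent.Lib.Block.Defect

/-!
# The field of the coefficients of a block idempotent
-/

set_option autoImplicit false
open Cfsg

namespace Cfsg.Agent.S4664

open CfsgLib CfsgLib.Block
open scoped ComplexConjugate

/-- Fix a prime p and a maximal ideal M of the algebraic integers containing p, and let B be a p-block of the finite group G. Let m be the p'-part of the order of G and η = exp(2πi/m). Then every coefficient of the idempotent of B lies in the cyclotomic field ℚ(η). -/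
theorem result {G : Type*} [Group G] [Fintype G] (p : ℕ) [Fact p.Prime] (M : Ideal Cfsg.AlgInt) (hM : Cfsg.IsPModular p M) (B : Set (Cfsg.IrrCharacter G)) (hB : Cfsg.IsPBlock M B) (g : G) : Cfsg.blockCoeff B g ∈ IntermediateField.adjoin ℚ ({Complex.exp (2 * Real.pi * Complex.I / ((Nat.card G / p ^ (Nat.card G).factorization p : ℕ) : ℂ))} : Set ℂ) := by
  classical
  have := hM.2.1
  let _ := Fintype.ofFinite (IrrCharacter G)
  generalize hN : Nat.card G / p ^ (Nat.card G).factorization p = N
  obtain ⟨K, hK⟩ : ∃ K : IntermediateField ℚ ℂ, K = IntermediateField.adjoin ℚ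
      ({Complex.exp (2 * Real.pi * Complex.I / (N : ℂ))} : Set ℂ) := ⟨_, rfl⟩
  rw [← hK]
  by_cases hg : p ∣ orderOf g
  · rw [blockCoeff_eq_zero_of_singular hM (.of_isPBlock hB) hg]
    exact zero_mem K
  have hroot : ∀ z : ℂ, z ^ orderOf g = 1 → z ∈ K := by
    intro z hz
    have hn0 : N ≠ 0 := hN ▸ (Nat.ordCompl_pos p Nat.card_pos.ne').ne'
    have hdvd : orderOf g ∣ N := by
      have hcop : (orderOf g).Coprime (p ^ (Nat.card G).factorization p) :=
        Nat.Coprime.pow_right _ ((Nat.Prime.coprime_iff_not_dvd hM.1).mpr hg).symm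
      rw [← hN]
      exact hcop.dvd_of_dvd_mul_left
        ((orderOf_dvd_natCard g).trans (Nat.ordProj_mul_ordCompl_eq_self _ p).symm.dvd)
    obtain ⟨c, hc⟩ := hdvd
    have hz' : z ^ N = 1 := by rw [hc, pow_mul, hz, one_pow]
    have : NeZero N := ⟨hn0⟩
    obtain ⟨i, -, rfl⟩ := (Complex.isPrimitiveRoot_exp _ hn0).eq_pow_of_pow_eq_one hz'
    rw [hK]
    exact pow_mem (IntermediateField.subset_adjoin _ _ (Set.mem_singleton _)) i
  rw [blockCoeff, finsum_mem_eq_finite_toFinset_sum _ (Set.toFinite _)]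
  refine mul_mem (inv_mem (natCast_mem K _)) (sum_mem fun χ _ => mul_mem ?_ ?_)
  · rw [(charDegree_eq χ).1]
    exact natCast_mem K _
  · obtain ⟨d, ρ, -, hχ⟩ := χ.2
    obtain ⟨b, μ, hμ, -, h3⟩ := Char.exists_eigen_data ρ g
    have h := h3 1
    simp only [pow_one] at h
    rw [← hχ, h, map_sum]
    exact sum_mem fun i _ => hroot _ (by rw [← map_pow, hμ, map_one])

end Cfsg.Agent.S4664
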