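import Cfsg.Statements.S4665
import Cfsg.Agent.Lib.Block.Local
import Cfsg.Agent.Lib.Char.Orthogonality
-- import your own Cfsg.Agent.* helpers here

set_option autoImplicit false
open Cfsg CfsgLib.Block

open Cfsg

namespace Cfsg.Agent.S4665

/-- Fix a prime p, a maximal ideal M of the algebraic integers containing p, and a p-block B of the finite group G, and let p^a be the p-part of the order of G. Let χ be an integer combination of the irreducible characters in B. If the function that agrees with χ on p-regular elements and vanishes on p-singular elements is again an integer combination of the irreducible characters in B, then p^a divides χ(1). -/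
theorem result {G : Type*} [Group G] [Fintype G] (p : ℕ) [Fact p.Prime] (M : Ideal Cfsg.AlgInt) (hM : Cfsg.IsPModular p M) (B : Set (Cfsg.IrrCharacter G)) (hB : Cfsg.IsPBlock M B) (χ : G → ℂ) (hχ : (∃ n : Cfsg.IrrCharacter G → ℤ, ∀ g : G, χ g = ∑ᶠ ψ ∈ B, (n ψ : ℂ) * (ψ : G → ℂ) g)) (h0 : (∃ n : Cfsg.IrrCharacter G → ℤ, ∀ g : G, Cfsg.pRegularPart p χ g = ∑ᶠ ψ ∈ B, (n ψ : ℂ) * (ψ : G → ℂ) g)) : ∃ k : ℤ, χ 1 = (p ^ (Nat.card G).factorization p : ℂ) * k := by
  classical
  have := hM.2.1
  have := Fintype.ofFinite (IrrCharacter G)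
  obtain ⟨n, hn⟩ := h0
  obtain ⟨P⟩ : Nonempty (Sylow p G) := inferInstance
  have := Fintype.ofFinite (P : Subgroup G)
  choose a ha using fun ψ : IrrCharacter G => CfsgLib.Char.classInner_isCharacter
    (CfsgLib.Char.isCharacter_comp (CfsgLib.Char.isCharacter_irr ψ) (P : Subgroup G).subtype)
    (CfsgLib.Char.isCharacter_of_isIrr CfsgLib.Char.isIrrCharacter_one)
  refine ⟨∑ ψ ∈ B.toFinset, n ψ * (a ψ : ℤ), ?_⟩
  have hP : (p ^ (Nat.card G).factorization p : ℂ) = (Nat.card (P : Subgroup G) : ℂ) := by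
    rw [P.card_eq_multiplicity]; push_cast; rfl
  rw [hP]
  have hreg : ∀ x : (P : Subgroup G), pRegularPart p χ (x : G) = if x = 1 then χ 1 else 0 := by
    intro x
    by_cases hx : x = 1
    · subst hx
      simp [pRegularPart, IsPRegular, (Fact.out : p.Prime).ne_one]
    · obtain ⟨k, hk⟩ := IsPGroup.iff_orderOf.mp P.isPGroup' x
      have hd : p ∣ orderOf (x : G) := by
        rw [Subgroup.orderOf_coe, hk]
        exact dvd_pow_self p fun h => hx (orderOf_eq_one_iff.mp (by rw [hk, h, pow_zero]))
      simp only [pRegularPart, IsPRegular, hd, not_true, if_false, hx]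
  have hsum : ∑ x : (P : Subgroup G), pRegularPart p χ (x : G) = χ 1 := by
    simp only [hreg, Finset.sum_ite_eq', Finset.mem_univ, if_true]
  have hfs : ∀ x : (P : Subgroup G), pRegularPart p χ (x : G) =
      ∑ ψ ∈ B.toFinset, (n ψ : ℂ) * (ψ : G → ℂ) (x : G) := fun x => by
    rw [hn, finsum_mem_eq_toFinset_sum]
  rw [← hsum, Finset.sum_congr rfl fun x _ => hfs x, Finset.sum_comm, Int.cast_sum, Finset.mul_sum]
  refine Finset.sum_congr rfl fun ψ _ => ?_
  have h := ha ψ
  simp only [classInner, map_one, mul_one, Subgroup.coe_subtype] at h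
  rw [inv_mul_eq_iff_eq_mul₀ (by exact_mod_cast Nat.card_pos.ne')] at h
  rw [← Finset.mul_sum, h]
  push_cast
  ring

end Cfsg.Agent.S4665
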