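import Cfsg.Statements.S4666
import Cfsg.Agent.Lib.Block.Rank
import Cfsg.Agent.Lib.Block.BrauerFeit
-- import your own Cfsg.Agent.* helpers here

set_option autoImplicit false
open Cfsg CfsgLib.Block

open Cfsg

namespace Cfsg.Agent.S4666

/-- Fix a prime p and a maximal ideal M of the algebraic integers containing p, and a p-block B of the finite group G of defect d. For every integer combination χ of the irreducible characters in B, p^d times the function that agrees with χ on p-regular elements and vanishes elsewhere is again an integer combination of the irreducible characters in B. -/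
theorem result {G : Type*} [Group G] [Fintype G] (p : ℕ) [Fact p.Prime] (M : Ideal Cfsg.AlgInt) (hM : Cfsg.IsPModular p M) (B : Set (Cfsg.IrrCharacter G)) (hB : Cfsg.IsPBlock M B) (χ : G → ℂ) (hχ : (∃ n : Cfsg.IrrCharacter G → ℤ, ∀ g : G, χ g = ∑ᶠ ψ ∈ B, (n ψ : ℂ) * (ψ : G → ℂ) g)) : (∃ n : Cfsg.IrrCharacter G → ℤ, ∀ g : G, (p ^ Cfsg.blockDefect p B : ℂ) * Cfsg.pRegularPart p χ g = ∑ᶠ ψ ∈ B, (n ψ : ℂ) * (ψ : G → ℂ) g) := by
  classical
  have := hM.2.1
  have := Fintype.ofFinite (IrrCharacter G)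
  have := Fintype.ofFinite (ConjClasses G)
  obtain ⟨n, hn⟩ := hχ
  have hfin : ∀ F : IrrCharacter G → ℂ, (∑ᶠ ψ ∈ B, F ψ) = ∑ ψ ∈ Finset.univ.filter (· ∈ B), F ψ :=
    fun F => by
      rw [finsum_mem_eq_toFinset_sum]
      exact Finset.sum_congr (by ext; simp) fun _ _ => rfl
  have hI : ∀ ψ ∈ B, ∀ θ : IrrCharacter G, ∃ z : ℤ,
      (p : ℂ) ^ blockDefect p B * regInner p ψ θ = z := by
    intro ψ hψ θ
    obtain ⟨u, -, h⟩ := exists_regInner_int hM ψ
    obtain ⟨z, hz, -⟩ := h θ
    have hle : (Nat.card G).factorization p - degVal p ψ ≤ blockDefect p B := by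
      have h1 := minDeg_le (p := p) hψ
      show _ ≤ (Nat.card G).factorization p - minDeg p B
      omega
    refine ⟨(p : ℤ) ^ (blockDefect p B - ((Nat.card G).factorization p - degVal p ψ)) * z, ?_⟩
    push_cast
    rw [← hz, ← mul_assoc, ← pow_add, Nat.sub_add_cancel hle]
  choose z hz using hI
  refine ⟨fun θ => ∑ ψ ∈ (Finset.univ.filter (· ∈ B)).attach,
    n ψ.1 * z ψ.1 (Finset.mem_filter.mp ψ.2).2 θ, fun g => ?_⟩
  rw [hfin]
  push_cast
  simp only [Finset.sum_mul]
  rw [Finset.sum_comm, pRegularPart_eq_regFun]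
  have hexp : regFun p χ g = ∑ ψ ∈ (Finset.univ.filter (· ∈ B)).attach,
      (n ψ.1 : ℂ) * regFun p (ψ.1 : G → ℂ) g := by
    simp only [regFun]
    split_ifs with hg
    · simp
    · rw [hn, hfin, ← Finset.sum_attach]
  rw [hexp, Finset.mul_sum]
  refine Finset.sum_congr rfl fun ψ _ => ?_
  rw [← sum_regInner_mul, Finset.mul_sum, Finset.mul_sum,
    ← Finset.sum_subset (Finset.filter_subset (· ∈ B) Finset.univ) fun θ _ hθ => by
      rw [regInner_eq_zero_of_not_mem hM (.of_isPBlock hB) (Finset.mem_filter.mp ψ.2).2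
        (by simpa using hθ)]
      simp]
  refine Finset.sum_congr rfl fun θ _ => ?_
  rw [← hz ψ.1 (Finset.mem_filter.mp ψ.2).2 θ]
  ring

end Cfsg.Agent.S4666
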