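import Cfsg.Statements.S4668
import Cfsg.Agent.Lib.Block.NormalSupport
import Cfsg.Agent.Lib.Coprime.Action
-- import your own Cfsg.Agent.* helpers here

set_option autoImplicit false
open Cfsg CfsgLib.Block

open Cfsg

namespace Cfsg.Agent.S4668

/-- Fix a prime p and a maximal ideal M of the algebraic integers containing p. Let Q₀ < Q₁ < ⋯ < Q_m be a strictly increasing chain of p-subgroups of the finite group G and N the intersection of their normalizers. Then every block idempotent of N is supported on C_G(Q_m): for every p-block E of N, the idempotent coefficient of E vanishes at every element of N outside C_G(Q_m). -/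
theorem result {G : Type*} [Group G] [Fintype G] (p : ℕ) [Fact p.Prime] (M : Ideal Cfsg.AlgInt) (hM : Cfsg.IsPModular p M) (m : ℕ) (Q : Fin (m + 1) → Subgroup G) (hQ : StrictMono Q) (hQp : ∀ i, IsPGroup p (Q i)) (N : Subgroup G) (hN : ∀ g : G, g ∈ N ↔ ∀ i, g ∈ Subgroup.normalizer (Q i : Set G)) (E : Set (Cfsg.IrrCharacter N)) (hE : Cfsg.IsPBlock M E) (n : N) (hn : (n : G) ∉ Subgroup.centralizer (Q (Fin.last m) : Set G)) : Cfsg.blockCoeff E n = 0 := by
  classical
  have := hM.2.1
  letI := Fintype.ofFinite N
  set L := Q (Fin.last m) with hL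
  have hle : ∀ {i j}, i ≤ j → Q i ≤ Q j := fun h => hQ.monotone h
  let R : Subgroup N := L.subgroupOf N
  have hRn : R.Normal := ⟨fun r hr x => by
    have h := ((hN (x : G)).mp x.2 (Fin.last m))
    have h1 := (Subgroup.mem_normalizer_iff.mp h (r : G)).mp hr
    rw [Subgroup.mem_subgroupOf]
    simpa [← hL] using h1⟩
  have hRp : IsPGroup p R := by
    refine (hQp (Fin.last m)).comap_of_injective N.subtype N.subtype_injective
  by_cases hnR : n ∈ Subgroup.centralizer (R : Set N)
  swap
  · exact blockCoeff_eq_zero_of_notMem_centralizer hM hRp hE hnR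
  by_contra hne
  have hreg : ¬ p ∣ orderOf n := fun h => hne (blockCoeff_eq_zero_of_singular hM (.of_isPBlock hE) h)
  apply hn
  -- elements of the top group in `N` commute with `n`
  have hR : ∀ u ∈ L, (∀ i, u ∈ Subgroup.normalizer (Q i : Set G)) → Commute u (n : G) := by
    intro u hu hui
    exact congrArg Subtype.val (Subgroup.mem_centralizer_iff.mp hnR ⟨u, (hN u).mpr hui⟩ hu)
  have hself : ∀ i u, u ∈ Q i → u ∈ Subgroup.normalizer (Q i : Set G) :=
    fun i u hu => Subgroup.le_normalizer hu
  suffices h : ∀ k : ℕ, (hk : k < m + 1) → Subgroup.zpowers (n : G) ≤ Subgroup.centralizer (Q ⟨k, hk⟩ : Set G) from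
    h m (Nat.lt_succ_self m) (Subgroup.mem_zpowers _)
  intro k
  induction k with
  | zero =>
    intro hk
    rw [Subgroup.zpowers_le, Subgroup.mem_centralizer_iff]
    intro u hu
    exact (hR u (hle (Fin.le_last _) hu) fun i =>
      hself i u (hle (Fin.zero_le i) hu)).eq
  | succ k ih =>
    intro hk
    have ih := ih (by omega)
    refine CfsgLib.Coprime.pq_lemma (p := p) (P := Q ⟨k, by omega⟩) (hQp _) ?_ (hQp _) ?_ ?_ ?_ ?_
    · rw [Nat.card_zpowers, Subgroup.orderOf_coe, Nat.coprime_comm, (hM.1).coprime_iff_not_dvd]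
      exact hreg
    · rw [Subgroup.le_centralizer_iff]
      exact ih
    · exact (hle (Fin.mk_le_mk.mpr (Nat.le_succ k))).trans Subgroup.le_normalizer
    · rw [Subgroup.zpowers_le]
      exact (hN (n : G)).mp n.2 _
    · intro u hu
      rw [Subgroup.mem_centralizer_iff]
      intro v hv
      have hu' := Subgroup.mem_centralizer_iff.mp hu.2
      have hc := hR u (hle (Fin.le_last _) hu.1) fun i => by
        rcases le_or_gt (⟨k + 1, hk⟩ : Fin (m + 1)) i with hi | hi
        · exact hself i u (hle hi hu.1)
        · refine Subgroup.centralizer_le_normalizer _ (Subgroup.mem_centralizer_iff.mpr fun w hw => ?_)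
          exact hu' w (hle (Fin.mk_le_mk.mpr (Nat.le_of_lt_succ (Fin.lt_def.mp hi))) hw)
      obtain ⟨z, rfl⟩ := Subgroup.mem_zpowers_iff.mp hv
      exact (hc.zpow_right z).symm.eq

end Cfsg.Agent.S4668
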