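import Cfsg.Statements.S4674
import Cfsg.Agent.Lib.Block.CoveringLocal

set_option autoImplicit false
open Cfsg
open CfsgLib.Block CfsgLib.Block.CoveringLocal

namespace Cfsg.Agent.S4674

namespace Aux

open scoped ComplexConjugate

universe u

variable {p : ℕ} [Fact p.Prime] {M : Ideal AlgInt} [M.IsMaximal] {G : Type u} [Group G] [Fintype G]
  [DecidableEq G] {N : Subgroup G} [hNn : N.Normal] [Fintype N] {Q : Subgroup G}

/-- Blocks inducing a block with defect group `P` from a subgroup equal to `N(P)`. -/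
theorem induced_eq (hM : IsPModular p M) {A : Type u} [Group A] [Fintype A] [DecidableEq A]
    {P K : Subgroup A} (hK : K = Subgroup.normalizer (P : Set A)) {B : Set (IrrCharacter A)}
    (hD : IsDefectGroup p M B P) {b b' : Set (IrrCharacter K)} (hb : IsInducedBlock M K b B)
    (hb' : IsInducedBlock M K b' B) : b = b' := by
  subst hK
  exact (existsUnique_normalizer_block hM hb.2.1 hD).unique
    ⟨hb.1, isDefectGroup_of_induces hM Subgroup.le_normalizer le_rfl hb hD, hb⟩
    ⟨hb'.1, isDefectGroup_of_induces hM Subgroup.le_normalizer le_rfl hb' hD, hb'⟩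

theorem subgroupOf_inf_eq (hQN : Q ≤ N) :
    ((Subgroup.normalizer (Q : Set G)) ⊓ N).subgroupOf N = Subgroup.normalizer ((Q.subgroupOf N : Subgroup N) : Set N) := by
  ext x
  simp only [Subgroup.mem_subgroupOf, Subgroup.mem_inf, x.2, and_true, Subgroup.mem_normalizer_iff,
    SetLike.mem_coe]
  constructor
  · exact fun h y => h y
  · intro h y
    constructor
    · exact fun hy => (h ⟨y, hQN hy⟩).mp hy
    · intro hy
      have h1 : y ∈ N := by simpa [mul_assoc] using hNn.conj_mem _ (hQN hy) (x : G)⁻¹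
      exact (h ⟨y, h1⟩).mpr hy

theorem centralizer_le_inf (hQN : Q ≤ N) :
    Subgroup.centralizer ((Q.subgroupOf N : Subgroup N) : Set N) ≤ ((Subgroup.normalizer (Q : Set G)) ⊓ N).subgroupOf N :=
  subgroupOf_inf_eq hQN ▸ centralizer_le_normalizer' _

variable [Fintype ((Subgroup.normalizer (Q : Set G)) ⊓ N : Subgroup G)]

/-- Blocks of `N_N(Q)` inducing the same block with defect group `Q` are equal. -/
theorem inducedIn_eq (hM : IsPModular p M) (hQN : Q ≤ N) {d : Set (IrrCharacter N)}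
    (hdQ : IsDefectGroup p M d (Q.subgroupOf N)) {e e' : Set (IrrCharacter ((Subgroup.normalizer (Q : Set G)) ⊓ N : Subgroup G))}
    (h : IsInducedBlockIn M N ((Subgroup.normalizer (Q : Set G)) ⊓ N) e d) (h' : IsInducedBlockIn M N ((Subgroup.normalizer (Q : Set G)) ⊓ N) e' d) : e = e' := by
  classical
  have hle : (Subgroup.normalizer (Q : Set G)) ⊓ N ≤ N := inf_le_right
  obtain ⟨b, -, rfl⟩ := exists_eK_image hle h.1
  obtain ⟨b', -, rfl⟩ := exists_eK_image hle h'.1
  rw [induced_eq hM (subgroupOf_inf_eq hQN) hdQ ((isInducedBlock_subgroupOf hle).mpr h)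
    ((isInducedBlock_subgroupOf hle).mpr h')]

variable [Fintype (Subgroup.normalizer (Q : Set G))] [Fintype (((Subgroup.normalizer (Q : Set G)) ⊓ N).subgroupOf (Subgroup.normalizer (Q : Set G)))]

theorem existence (hM : IsPModular p M) (hQ : IsPGroup p Q) (hQN : Q ≤ N)
    {d : Set (IrrCharacter N)} (hd : IsPBlock M d) (hdQ : IsDefectGroup p M d (Q.subgroupOf N))
    {e : Set (IrrCharacter (((Subgroup.normalizer (Q : Set G)) ⊓ N).subgroupOf (Subgroup.normalizer (Q : Set G))))}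
    (hed : IsInducedBlockIn M N ((Subgroup.normalizer (Q : Set G)) ⊓ N) (eK (inf_le_left : (Subgroup.normalizer (Q : Set G)) ⊓ N ≤ (Subgroup.normalizer (Q : Set G))) '' e) d)
    {B : Set (IrrCharacter G)} (hB : IsPBlock M B) (hcov : Covers B d) :
    ∃ c : Set (IrrCharacter (Subgroup.normalizer (Q : Set G))), IsInducedBlock M (Subgroup.normalizer (Q : Set G)) c B ∧ Covers c e := by
  classical
  have := Fintype.ofFinite (ConjClasses N)
  have := Fintype.ofFinite (G ⧸ N)
  have := Fintype.ofFinite (ConjClasses (((Subgroup.normalizer (Q : Set G)) ⊓ N).subgroupOf (Subgroup.normalizer (Q : Set G))))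
  obtain ⟨x, hx, hxc⟩ := hcov.exists_coeff_ne_zero hM hB hd hQN hdQ
  obtain ⟨c, hc⟩ := exists_block_inducing hM hQ Subgroup.le_normalizer (centralizer_le_normalizer' Q)
    le_rfl hB hx hxc
  refine ⟨c, hc, ?_⟩
  -- some block covered by `c`, and the block it induces
  obtain ⟨ψ, hψ⟩ := isPBlock_nonempty hc.1
  obtain ⟨ξ, hξ⟩ := exists_constituent (N := ((Subgroup.normalizer (Q : Set G)) ⊓ N).subgroupOf (Subgroup.normalizer (Q : Set G))) ψ
  set e₂ := blockOf M (ξ : ((Subgroup.normalizer (Q : Set G)) ⊓ N).subgroupOf (Subgroup.normalizer (Q : Set G)) → ℂ) with he₂def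
  have he₂ : IsPBlock M e₂ := isPBlock_blockOf ξ
  have hce : Covers c e₂ := ⟨ψ, hψ, ξ, self_mem_blockOf ξ, hξ⟩
  have hle : (Subgroup.normalizer (Q : Set G)) ⊓ N ≤ N := inf_le_right
  obtain ⟨b, hb, hbe⟩ := exists_eK_image hle
    (isPBlock_image_irrEquiv (M := M) (Subgroup.subgroupOfEquivOfLe (inf_le_left : (Subgroup.normalizer (Q : Set G)) ⊓ N ≤ (Subgroup.normalizer (Q : Set G)))) he₂)
  have hP : IsPGroup p (Q.subgroupOf N) := hQ.of_equiv (Subgroup.subgroupOfEquivOfLe hQN).symm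
  have hPK : Q.subgroupOf N ≤ ((Subgroup.normalizer (Q : Set G)) ⊓ N).subgroupOf N := by
    rw [subgroupOf_inf_eq hQN]; exact Subgroup.le_normalizer
  have hKP := (subgroupOf_inf_eq hQN).le
  obtain ⟨d₂, hd₂⟩ := exists_inducedBlock hP (centralizer_le_inf hQN) hKP hM hPK hb
  have hed₂ : IsInducedBlockIn M N ((Subgroup.normalizer (Q : Set G)) ⊓ N) (eK (inf_le_left : (Subgroup.normalizer (Q : Set G)) ⊓ N ≤ (Subgroup.normalizer (Q : Set G))) '' e₂) d₂ :=
    hbe ▸ (isInducedBlock_subgroupOf hle).mp hd₂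
  have hBd₂ : Covers B d₂ := covers_of_induced hM he₂ hce hed₂ hc
  -- `d₂` is conjugate to `d`
  obtain ⟨χ, hχ, θ, hθ, hcc⟩ := hBd₂
  have hsub : d₂ ⊆ orbSet d := fun η hη => by
    rw [isPBlock_eq_blockOf hd₂.2.1 hθ] at hη
    exact isBlockUnion_orbSet hd θ (Covers.constituent_mem hM hB hd hcov hχ hcc) η hη
  obtain ⟨g, hg⟩ := (subset_orbSet_iff hd hd₂.2.1).mp hsub
  -- with the same defect group
  obtain ⟨D, hD⟩ := exists_defectGroup hM hb
  obtain ⟨E, hE, hDE⟩ := exists_defectGroup_ge hM hd₂ hD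
  have hPE : Q.subgroupOf N ≤ E :=
    (le_map_defectGroup hM hP hPK hKP hb hD).trans hDE
  have hdE : IsDefectGroup p M d (E.map (cjHom (nconj (N := N) g)).toMonoidHom) :=
    hg ▸ isDefectGroup_image_irrEquiv hM _ hd₂.2.1 hE
  have hEQ : Q.subgroupOf N = E := Subgroup.eq_of_le_of_card_ge hPE (le_of_eq (by
    rw [defectGroup_card hM hd hdQ, ← defectGroup_card hM hd hdE,
      Subgroup.card_map_of_injective (f := (cjHom (nconj (N := N) g)).toMonoidHom)
        (cjHom (nconj (N := N) g)).injective]))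
  obtain ⟨n, hn⟩ := defectGroup_conj hM hd hdQ hdE
  have hnorm : (n : G)⁻¹ * g ∈ (Subgroup.normalizer (Q : Set G)) := by
    have hsub : ∀ v ∈ Q, (n : G)⁻¹ * g * v * ((n : G)⁻¹ * g)⁻¹ ∈ Q := by
      intro v hv
      have h1 : cjHom (nconj (N := N) g) ⟨v, hQN hv⟩ ∈
          E.map (cjHom (nconj (N := N) g)).toMonoidHom :=
        ⟨_, hEQ ▸ Subgroup.mem_subgroupOf.mpr hv, rfl⟩
      rw [← hn] at h1
      obtain ⟨w, hw, hwe⟩ := h1
      have h2 : (n : G) * w * (n : G)⁻¹ = g * v * g⁻¹ := congrArg Subtype.val hwe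
      rw [show (n : G)⁻¹ * g * v * ((n : G)⁻¹ * g)⁻¹ = (n : G)⁻¹ * (g * v * g⁻¹) * n by group, ← h2]
      simpa [mul_assoc] using Subgroup.mem_subgroupOf.mp hw
    rw [Subgroup.mem_normalizer_iff]
    have hmap : cjS ((n : G)⁻¹ * g) Q = Q := Subgroup.eq_of_le_of_card_ge
      (by rintro _ ⟨v, hv, rfl⟩; exact hsub v hv) (by rw [card_cjS])
    intro v
    conv_rhs => rw [← hmap]
    simp only [SetLike.mem_coe, mem_cjS]
    simp [mul_assoc]
  set w : (Subgroup.normalizer (Q : Set G)) := ⟨(n : G)⁻¹ * g, hnorm⟩ with hw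
  have hd₃ : cjN (w : G) '' d₂ = d := by
    refine Eq.trans ?_ hg
    refine Set.image_congr' fun θ => ?_
    show cjN ((n : G)⁻¹ * g) θ = cjN g θ
    rw [← cjN_cjN, cjN_eq_self (inv_mem n.2)]
  have hed₃ := isInducedBlockIn_cjN hed₂ w he₂
  rw [hd₃] at hed₃
  have heq : cjN w '' e₂ = e :=
    (eK (inf_le_left : (Subgroup.normalizer (Q : Set G)) ⊓ N ≤ (Subgroup.normalizer (Q : Set G)))).injective.image_injective (inducedIn_eq hM hQN hdQ hed₃ hed)
  exact heq ▸ ⟨ψ, hψ, cjN w ξ, ⟨ξ, self_mem_blockOf ξ, rfl⟩, by rwa [classInner_cjN]⟩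

theorem uniqueness (hM : IsPModular p M) (hQN : Q ≤ N)
    {e : Set (IrrCharacter (((Subgroup.normalizer (Q : Set G)) ⊓ N).subgroupOf (Subgroup.normalizer (Q : Set G))))} (he : IsPBlock M e)
    (heQ : IsDefectGroup p M (eK (inf_le_left : (Subgroup.normalizer (Q : Set G)) ⊓ N ≤ (Subgroup.normalizer (Q : Set G))) '' e) (Q.subgroupOf ((Subgroup.normalizer (Q : Set G)) ⊓ N))) {B : Set (IrrCharacter G)}
    {c c' : Set (IrrCharacter (Subgroup.normalizer (Q : Set G)))} (hc : IsInducedBlock M (Subgroup.normalizer (Q : Set G)) c B) (hcov : Covers c e)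
    (hc' : IsInducedBlock M (Subgroup.normalizer (Q : Set G)) c' B) (hcov' : Covers c' e) : c = c' := by
  classical
  have := Fintype.ofFinite (ConjClasses (((Subgroup.normalizer (Q : Set G)) ⊓ N).subgroupOf (Subgroup.normalizer (Q : Set G))))
  have := Fintype.ofFinite (↥(Subgroup.normalizer (Q : Set G)) ⧸ ((Subgroup.normalizer (Q : Set G)) ⊓ N).subgroupOf (Subgroup.normalizer (Q : Set G)))
  have hQL : Q.subgroupOf (Subgroup.normalizer (Q : Set G)) ≤ ((Subgroup.normalizer (Q : Set G)) ⊓ N).subgroupOf (Subgroup.normalizer (Q : Set G)) := fun v hv =>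
    ⟨v.2, hQN (Subgroup.mem_subgroupOf.mp hv)⟩
  have heQ' : IsDefectGroup p M e ((Q.subgroupOf (Subgroup.normalizer (Q : Set G))).subgroupOf (((Subgroup.normalizer (Q : Set G)) ⊓ N).subgroupOf (Subgroup.normalizer (Q : Set G)))) := by
    have h := isDefectGroup_image_irrEquiv hM
      (Subgroup.subgroupOfEquivOfLe (inf_le_left : (Subgroup.normalizer (Q : Set G)) ⊓ N ≤ (Subgroup.normalizer (Q : Set G)))).symm
      (isPBlock_image_irrEquiv _ he) heQ
    rw [Set.image_image] at h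
    rw [(Set.image_congr' fun ξ => Subtype.ext (funext fun x => by simp [eK])).trans (Set.image_id e)]
      at h
    convert h using 1
    ext x
    rw [Subgroup.mem_map_equiv]
    rfl
  -- defect groups meeting `N` in `Q`
  have main : ∀ {c : Set (IrrCharacter (Subgroup.normalizer (Q : Set G)))}, IsInducedBlock M (Subgroup.normalizer (Q : Set G)) c B → Covers c e →
      ∃ D : Subgroup (Subgroup.normalizer (Q : Set G)), IsDefectGroup p M c D ∧ D.map (Subgroup.subtype (Subgroup.normalizer (Q : Set G))) ⊓ N = Q ∧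
        Subgroup.normalizer ((D.map (Subgroup.subtype (Subgroup.normalizer (Q : Set G))) : Subgroup G) : Set G) ≤ (Subgroup.normalizer (Q : Set G)) := by
    intro c hc hcov
    obtain ⟨D, hD, hDL⟩ := hcov.exists_defect_inf hM hc.1 he hQL heQ'
    have hinf : D.map (Subgroup.subtype (Subgroup.normalizer (Q : Set G))) ⊓ N = Q := by
      ext v
      constructor
      · rintro ⟨⟨v', hv', rfl⟩, hvN⟩
        have : v' ∈ D ⊓ ((Subgroup.normalizer (Q : Set G)) ⊓ N).subgroupOf (Subgroup.normalizer (Q : Set G)) := ⟨hv', v'.2, hvN⟩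
        rw [hDL] at this
        exact this
      · intro hv
        have : (⟨v, Subgroup.le_normalizer hv⟩ : (Subgroup.normalizer (Q : Set G))) ∈ D ⊓ ((Subgroup.normalizer (Q : Set G)) ⊓ N).subgroupOf (Subgroup.normalizer (Q : Set G)) :=
          hDL.symm ▸ Subgroup.mem_subgroupOf.mpr hv
        exact ⟨⟨_, this.1, rfl⟩, hQN hv⟩
    refine ⟨D, hD, hinf, fun y hy => ?_⟩
    have h := Subgroup.mem_normalizer_iff.mp hy
    rw [Subgroup.mem_normalizer_iff]
    intro v
    rw [← hinf]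
    simp only [Subgroup.mem_inf, SetLike.mem_coe] at h ⊢
    exact and_congr (h v) ⟨fun hv => hNn.conj_mem _ hv y,
      fun hv => by simpa [mul_assoc] using hNn.conj_mem _ hv y⁻¹⟩
  obtain ⟨D, hD, hinf, hnD⟩ := main hc hcov
  obtain ⟨D', hD', hinf', hnD'⟩ := main hc' hcov'
  obtain ⟨hBD, hkey⟩ := centralRes_eq_of_induced hM hc hD hnD
  obtain ⟨hBD', hkey'⟩ := centralRes_eq_of_induced hM hc' hD' hnD'
  obtain ⟨y, hy⟩ := defectGroup_conj hM hc.2.1 hBD hBD'
  have hcjS : cjS y (D.map (Subgroup.subtype (Subgroup.normalizer (Q : Set G)))) = D'.map (Subgroup.subtype (Subgroup.normalizer (Q : Set G))) := hy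
  have hyN : y ∈ (Subgroup.normalizer (Q : Set G)) := by
    rw [Subgroup.mem_normalizer_iff]
    intro v
    conv_rhs => rw [← hinf', ← hcjS, Subgroup.mem_inf, mem_cjS]
    conv_lhs => rw [← hinf, Subgroup.mem_inf]
    refine and_congr (by simp [mul_assoc]) ⟨fun hv => hNn.conj_mem _ hv y,
      fun hv => by simpa [mul_assoc] using hNn.conj_mem _ hv y⁻¹⟩
  have hDD : D.map (MulAut.conj (⟨y, hyN⟩ : (Subgroup.normalizer (Q : Set G)))).toMonoidHom = D' := by
    refine Subgroup.map_injective (Subgroup.subtype_injective _) ?_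
    rw [← hcjS, Subgroup.map_map, cjS, Subgroup.map_map]
    rfl
  have hcD' : IsDefectGroup p M c D' := hDD ▸ isDefectGroup_conj hM hc.1 hD _
  obtain ⟨ψ, hψ⟩ := isPBlock_nonempty hc.1
  obtain ⟨ψ', hψ'⟩ := isPBlock_nonempty hc'.1
  obtain ⟨χ, hχ⟩ := isPBlock_nonempty hc.2.1
  refine eq_of_centralRes_eq_on_defect hM hc.1 hc'.1 hcD' hD' hψ hψ' fun g hg => ?_
  obtain ⟨-, hk⟩ := centralRes_eq_of_induced hM hc hcD' hnD'
  rw [hk g hg ψ hψ χ hχ, hkey' g hg ψ' hψ' χ hχ]

end Aux

/-- Fix a prime p and a maximal ideal M of the algebraic integers containing p. Let N be a normal subgroup of the finite group G, Q a p-subgroup of N, H = N_G(Q) and L = H ∩ N = N_N(Q). Let d be a p-block of N with defect group Q and e the p-block of L with defect group Q that induces d inside N (its Brauer correspondent). Then block induction from H to G is a bijection from the p-blocks of H covering e onto the p-blocks of G covering d: every block of H covering e induces exactly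 one block of G, and that block covers d; and every block of G covering d is induced by exactly one block of H covering e. -/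
theorem result {G : Type*} [Group G] [Fintype G] (p : ℕ) [Fact p.Prime] (M : Ideal Cfsg.AlgInt) (hM : Cfsg.IsPModular p M) (N : Subgroup G) [N.Normal] [Fintype N] (Q : Subgroup G) (hQ : IsPGroup p Q) (hQN : Q ≤ N) [Fintype ↥(Subgroup.normalizer (Q : Set G) ⊓ N)] (d : Set (Cfsg.IrrCharacter N)) (hd : Cfsg.IsPBlock M d) (hdQ : Cfsg.IsDefectGroup p M d (Q.subgroupOf N)) (e : Set (Cfsg.IrrCharacter ↥(Subgroup.normalizer (Q : Set G) ⊓ N))) (he : Cfsg.IsPBlock M e) (heQ : Cfsg.IsDefectGroup p M e (Q.subgroupOf (Subgroup.normalizer (Q : Set G) ⊓ N))) (hed : Cfsg.IsInducedBlockIn M N (Subgroup.normalizer (Q : Set G) ⊓ N) e d) : (∀ c : Set (Cfsg.IrrCharacter ↥(Subgroup.normalizer (Q : Set G))), Cfsg.IsPBlock M c → (∃ ψ ∈ c, ∃ ξ ∈ e, Cfsg.classInner (fun l : ↥(Subgroup.normalizer (Q : Set G) ⊓ N) => (ψ : ↥(Subgroup.normalizer (Q : Set G)) → ℂ) (Subgroup.inclusion inf_le_left l)) (ξ : ↥(Subgroup.normalizer (Q : Set G) ⊓ N) → ℂ) ≠ 0) → ∃! B : Set (Cfsg.IrrCharacter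 G), Cfsg.IsInducedBlock M (Subgroup.normalizer (Q : Set G)) c B ∧ (∃ χ ∈ B, ∃ θ ∈ d, Cfsg.classInner (fun n : N => (χ : G → ℂ) n) (θ : N → ℂ) ≠ 0)) ∧ (∀ B : Set (Cfsg.IrrCharacter G), Cfsg.IsPBlock M B → (∃ χ ∈ B, ∃ θ ∈ d, Cfsg.classInner (fun n : N => (χ : G → ℂ) n) (θ : N → ℂ) ≠ 0) → ∃! c : Set (Cfsg.IrrCharacter ↥(Subgroup.normalizer (Q : Set G))), (Cfsg.IsPBlock M c ∧ ∃ ψ ∈ c, ∃ ξ ∈ e, Cfsg.classInner (fun l : ↥(Subgroup.normalizer (Q : Set G) ⊓ N) => (ψ : ↥(Subgroup.normalizer (Q : Set G)) → ℂ) (Subgroup.inclusion inf_le_left l)) (ξ : ↥(Subgroup.normalizer (Q : Set G) ⊓ N) → ℂ) ≠ 0) ∧ Cfsg.IsInducedBlock M (Subgroup.normalizer (Q : Set G)) c B) := by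
  classical
  have := hM.2.1
  letI : Fintype (Subgroup.normalizer (Q : Set G)) := Fintype.ofFinite _
  letI : Fintype ((Subgroup.normalizer (Q : Set G) ⊓ N).subgroupOf (Subgroup.normalizer (Q : Set G))) :=
    Fintype.ofFinite _
  obtain ⟨e', he', rfl⟩ := exists_eK_image
    (inf_le_left : Subgroup.normalizer (Q : Set G) ⊓ N ≤ Subgroup.normalizer (Q : Set G)) he
  refine ⟨fun c hc hcov => ?_, fun B hB hcov => ?_⟩
  · have hcov' : Covers c e' := (covers_iff_classInner inf_le_left).mpr hcov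
    obtain ⟨B, hBi⟩ := exists_inducedBlock hQ (centralizer_le_normalizer' Q) le_rfl hM
      Subgroup.le_normalizer hc
    exact ⟨B, ⟨hBi, covers_of_induced hM he' hcov' hed hBi⟩,
      fun B' hB' => inducedBlock_unique hB'.1 hBi⟩
  · obtain ⟨c, hci, hcc⟩ := Aux.existence hM hQ hQN hd hdQ hed hB hcov
    refine ⟨c, ⟨⟨hci.1, (covers_iff_classInner inf_le_left).mp hcc⟩, hci⟩, fun c' hc' => ?_⟩
    exact Aux.uniqueness hM hQN he' heQ hc'.2 ((covers_iff_classInner inf_le_left).mpr hc'.1.2)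
      hci hcc

end Cfsg.Agent.S4674
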