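import Cfsg.Statements.S4675
import Cfsg.Agent.Lib.Block.FusedSum
import Cfsg.Agent.Lib.Block.Rank
import Cfsg.Agent.Lib.Block.DefectFusion

/-!
# The Cartan invariant of a block of rank one
-/

set_option autoImplicit false
open Cfsg

namespace Cfsg.Agent.S4675

open CfsgLib CfsgLib.Block
open scoped ComplexConjugate Pair

/-- Fix a prime p and a maximal ideal M of the algebraic integers containing p. Let B be a p-block of the finite group G with defect group P and p-regular rank one (a single irreducible Brauer character). Then there are a function φ on G that is, on the p-regular elements, an integer combination of the members of B, and natural numbers d_χ (χ ∈ B), such that every χ ∈ B agrees with d_χ·φ on the p-regular elements and Σ_{χ ∈ B} d_χ² equals the order of P (the single Cartan invariant of B is the order of P). -/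
theorem result {G : Type*} [Group G] [Fintype G] (p : ℕ) [Fact p.Prime] (M : Ideal Cfsg.AlgInt) (hM : Cfsg.IsPModular p M) (B : Set (Cfsg.IrrCharacter G)) (hB : Cfsg.IsPBlock M B) (P : Subgroup G) (hP : Cfsg.IsDefectGroup p M B P) (hl : Cfsg.blockRank p B = 1) : ∃ φ : G → ℂ, ∃ d : Cfsg.IrrCharacter G → ℕ, (∃ n : Cfsg.IrrCharacter G → ℤ, ∀ x : G, Cfsg.IsPRegular p x → φ x = ∑ᶠ ψ ∈ B, (n ψ : ℂ) * (ψ : G → ℂ) x) ∧ (∀ χ ∈ B, ∀ x : G, Cfsg.IsPRegular p x → (χ : G → ℂ) x = (d χ : ℂ) * φ x) ∧ ∑ᶠ χ ∈ B, d χ ^ 2 = Nat.card P := by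
  classical
  have := hM.2.1
  let _ := Fintype.ofFinite (IrrCharacter G)
  let _ := Fintype.ofFinite (ConjClasses G)
  obtain ⟨χ₀, hχ₀, h00⟩ := exists_height_zero hM hB
  set s := Finset.univ.filter (fun χ : IrrCharacter G => χ ∈ B) with hs
  have hmem : ∀ {χ}, χ ∈ s ↔ χ ∈ B := fun {χ} => by simp [hs]
  set q := p ^ blockDefect p B with hq
  have hqC : (q : ℂ) ≠ 0 := Nat.cast_ne_zero.mpr (pow_ne_zero _ hM.1.ne_zero)
  choose! z hz hznz hzdvd using fun χ (hχ : χ ∈ B) => exists_scaled_regInner_ne_zero hM hB hχ hχ₀ h00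
  set a : IrrCharacter G → ℤ := z with ha
  -- regular parts are proportional
  have hne : pRegularPart p (χ₀ : G → ℂ) ≠ 0 := fun h => by
    have := congrFun h 1
    rw [pRegularPart_eq_regFun, regFun, if_neg (by simp [hM.1.ne_one]), Pi.zero_apply] at this
    exact Char.irr_one_ne_zero χ₀ this
  have hspan : ∀ χ ∈ B, pRegularPart p (χ : G → ℂ) ∈ Submodule.span ℂ {pRegularPart p (χ₀ : G → ℂ)} := by
    intro χ hχ
    have hle : Submodule.span ℂ {pRegularPart p (χ₀ : G → ℂ)} ≤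
        Submodule.span ℂ ((fun χ : IrrCharacter G => pRegularPart p (χ : G → ℂ)) '' B) :=
      Submodule.span_mono (Set.singleton_subset_iff.mpr ⟨χ₀, hχ₀, rfl⟩)
    rw [Submodule.eq_of_le_of_finrank_le hle (by
      rw [finrank_span_singleton hne]
      exact hl.le)]
    exact Submodule.subset_span ⟨χ, hχ, rfl⟩
  -- the scaled inner products have rank one
  have hratio : ∀ χ ∈ B, ∀ η : IrrCharacter G, (χ₀ : G → ℂ) 1 * regInner p χ η =
      (χ : G → ℂ) 1 * regInner p χ₀ η := by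
    intro χ hχ η
    obtain ⟨c, hc⟩ := Submodule.mem_span_singleton.mp (hspan χ hχ)
    rw [pRegularPart_eq_regFun, pRegularPart_eq_regFun] at hc
    have h1 := congrFun hc 1
    simp only [Pi.smul_apply, regFun, if_neg (show ¬ p ∣ orderOf (1 : G) by simp [hM.1.ne_one]), smul_eq_mul] at h1
    rw [regInner, regInner, ← hc, Char.classInner_smul_left, ← h1]
    ring
  have ha' : ∀ χ ∈ B, (a χ : ℂ) = (q : ℂ) * regInner p χ χ₀ := fun χ hχ => by
    rw [hq, Nat.cast_pow, ha, hz χ hχ]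
  have hrow : ∀ χ ∈ B, ∀ η ∈ B, (a χ₀ : ℂ) * ((q : ℂ) * regInner p χ η) = (a χ : ℂ) * (a η : ℂ) := by
    intro χ hχ η hη
    rw [ha' χ hχ, ha' η hη, ha' χ₀ hχ₀]
    apply mul_left_cancel₀ (Char.irr_one_ne_zero χ₀)
    have e1 := hratio χ hχ η
    have e2 := hratio χ hχ χ₀
    have e3 : regInner p η χ₀ = regInner p χ₀ η := regInner_comm hM η χ₀
    linear_combination (q : ℂ) * (q : ℂ) * regInner p χ₀ χ₀ * e1 - (q : ℂ) * (q : ℂ) * regInner p η χ₀ * e2
      - (q : ℂ) * (q : ℂ) * (χ : G → ℂ) 1 * regInner p χ₀ χ₀ * e3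
  have hsum : ∑ η ∈ s, a η * a η = (q : ℤ) * a χ₀ := by
    apply Int.cast_injective (α := ℂ)
    push_cast
    rw [Finset.sum_congr rfl fun η hη => by rw [ha' η (hmem.mp hη)],
      ha' χ₀ hχ₀, ← sum_regInner_mul_regInner p χ₀ χ₀,
      ← Finset.sum_subset (Finset.subset_univ s) fun η _ hη => by
        rw [regInner_eq_zero_of_not_mem hM (.of_isPBlock hB) hχ₀ (fun h => hη (hmem.mpr h)), zero_mul],
      Finset.mul_sum, Finset.mul_sum]
    exact Finset.sum_congr rfl fun η _ => by rw [regInner_comm hM χ₀ η]; ring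
  have hapos : ∀ χ ∈ B, 0 < a χ := by
    intro χ hχ
    have h0pos : 0 < a χ₀ := by
      by_contra h
      have h1 : 0 < a χ₀ * a χ₀ := mul_self_pos.mpr (hznz χ₀ hχ₀)
      have h2 := Finset.single_le_sum (f := fun η => a η * a η) (fun η _ => mul_self_nonneg _) (hmem.mpr hχ₀)
      rw [hsum] at h2
      nlinarith [(Int.natCast_nonneg q)]
    obtain ⟨hd, hd0⟩ := charDegree_eq χ
    obtain ⟨he, he0⟩ := charDegree_eq χ₀
    have h := congrArg (fun w => (q : ℂ) * w) (hratio χ hχ χ₀)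
    rw [mul_left_comm, ← ha' χ hχ, mul_left_comm, ← ha' χ₀ hχ₀, hd, he] at h
    have h' : (charDegree (χ₀ : G → ℂ) : ℤ) * a χ = (charDegree (χ : G → ℂ) : ℤ) * a χ₀ := by exact_mod_cast h
    by_contra hle
    have : (0 : ℤ) < (charDegree (χ : G → ℂ) : ℤ) * a χ₀ :=
      mul_pos (Int.natCast_pos.mpr (Nat.pos_of_ne_zero hd0)) h0pos
    nlinarith [(Int.natCast_nonneg (charDegree (χ₀ : G → ℂ)))]
  -- the greatest common divisor
  set g := s.gcd a with hg
  obtain ⟨c, hc⟩ := Finset.gcd_eq_sum_mul s a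
  have hgdvd : ∀ χ ∈ B, g ∣ a χ := fun χ hχ => Finset.gcd_dvd (hmem.mpr hχ)
  have hgpos : 0 < g := lt_of_le_of_ne (Int.nonneg_of_normalize_eq_self Finset.normalize_gcd) (fun h => by
    obtain ⟨t, ht⟩ := hgdvd χ₀ hχ₀
    rw [← h, zero_mul] at ht
    exact (hapos χ₀ hχ₀).ne' ht)
  choose! u hu using hgdvd
  choose! w hw using fun χ (hχ : χ ∈ B) η (hη : η ∈ B) =>
    exists_scaled_regInner hM (M := M) (d := blockDefect p B) (η := χ) (by
      have h2 := minDeg_le (p := p) hχ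
      show _ ≤ _ + ((Nat.card G).factorization p - minDeg p B)
      omega) η
  have hw' : ∀ χ ∈ B, ∀ η ∈ B, a χ₀ * w χ η = a χ * a η := by
    intro χ hχ η hη
    apply Int.cast_injective (α := ℂ)
    push_cast
    rw [← (hw χ hχ η hη).1, ← hrow χ hχ η hη, hq]
    push_cast
    ring
  -- `a χ₀` is the square of the greatest common divisor
  have hdvd2 : a χ₀ ∣ g * g := by
    rw [hg, hc, Finset.sum_mul_sum]
    refine Finset.dvd_sum fun χ hχ => Finset.dvd_sum fun η hη => ?_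
    exact ⟨w χ η * (c χ * c η), by rw [← mul_assoc (a χ₀), hw' χ (hmem.mp hχ) η (hmem.mp hη)]; ring⟩
  obtain ⟨m, hm⟩ := hdvd2
  have hmq : ∑ η ∈ s, u η * u η * m = (q : ℤ) := by
    apply mul_left_cancel₀ (hapos χ₀ hχ₀).ne'
    rw [mul_comm (a χ₀) (q : ℤ), ← hsum, Finset.mul_sum]
    exact Finset.sum_congr rfl fun η hη => by
      have := hu η (hmem.mp hη)
      rw [this]
      linear_combination -(u η * u η) * hm
  have hm1 : m = 1 := by
    have hm0 : 0 < m := pos_of_mul_pos_right (hm ▸ mul_pos hgpos hgpos) (hapos χ₀ hχ₀).le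
    have hdvdq : m.natAbs ∣ q := by
      have : m ∣ (q : ℤ) := hmq ▸ Finset.dvd_sum fun η _ => dvd_mul_left _ _
      exact Int.natAbs_natCast q ▸ Int.natAbs_dvd_natAbs.mpr this
    obtain ⟨j, -, hj⟩ := (Nat.dvd_prime_pow hM.1).mp hdvdq
    rcases Nat.eq_zero_or_pos j with rfl | hjpos
    · rw [pow_zero] at hj
      omega
    exfalso
    refine hzdvd χ₀ hχ₀ h00 ?_
    have hpm : (p : ℤ) ∣ m := Int.natCast_dvd.mpr (hj ▸ dvd_pow_self p hjpos.ne')
    have hsq : g * g = a χ₀ * m := hm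
    rw [hu χ₀ hχ₀, mul_assoc] at hsq
    have hg' : (p : ℤ) ∣ g := by
      rw [mul_left_cancel₀ hgpos.ne' hsq]
      exact hpm.mul_left _
    show (p : ℤ) ∣ a χ₀
    rw [hu χ₀ hχ₀]
    exact hg'.mul_right _
  rw [hm1] at hm hmq
  simp only [mul_one] at hm hmq
  have hupos : ∀ χ ∈ B, 0 < u χ := fun χ hχ =>
    pos_of_mul_pos_right (hu χ hχ ▸ hapos χ hχ) hgpos.le
  refine ⟨fun x => (q : ℂ)⁻¹ * ∑ η ∈ s, (u η : ℂ) * (η : G → ℂ) x, fun χ => (u χ).toNat, ⟨c, fun x hx => ?_⟩,
    fun χ hχ x hx => ?_, ?_⟩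
  swap
  · -- the members are multiples
    have hd : ((u χ).toNat : ℂ) = (u χ : ℂ) := by
      rw [← Int.cast_natCast, Int.toNat_of_nonneg (hupos χ hχ).le]
    rw [hd]
    have h := sum_regInner_mul p χ x
    rw [regFun, if_neg hx, ← Finset.sum_subset (Finset.subset_univ s) fun η _ hη => by
      rw [regInner_eq_zero_of_not_mem hM (.of_isPBlock hB) hχ (fun h => hη (hmem.mpr h)), zero_mul]] at h
    dsimp only
    rw [← h, Finset.mul_sum, Finset.mul_sum]
    refine Finset.sum_congr rfl fun η hη => ?_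
    have h1 := hrow χ hχ η (hmem.mp hη)
    rw [hu χ hχ, hu η (hmem.mp hη), ← hm, Int.cast_mul, Int.cast_mul, Int.cast_mul] at h1
    have hg0 : (g : ℂ) ≠ 0 := Int.cast_ne_zero.mpr hgpos.ne'
    field_simp at h1 ⊢
    linear_combination (η : G → ℂ) x * h1
  · -- integral combination
    have hone : ∑ η ∈ s, u η * c η = 1 := by
      apply mul_left_cancel₀ hgpos.ne'
      rw [mul_one, Finset.mul_sum]
      refine Eq.trans (Finset.sum_congr rfl fun η hη => ?_) hc.symm
      rw [hu η (hmem.mp hη), mul_assoc]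
    rw [finsum_mem_eq_finite_toFinset_sum _ (Set.toFinite _)]
    have hone' : ∑ η ∈ s, (u η : ℂ) * (c η : ℂ) = 1 := by exact_mod_cast hone
    calc (q : ℂ)⁻¹ * ∑ η ∈ s, (u η : ℂ) * (η : G → ℂ) x
        = ∑ χ ∈ s, (u χ : ℂ) * (c χ : ℂ) * ((q : ℂ)⁻¹ * ∑ η ∈ s, (u η : ℂ) * (η : G → ℂ) x) := by
          rw [← Finset.sum_mul, hone', one_mul]
      _ = _ := by
          refine Finset.sum_congr (by ext; simp [hs]) fun χ hχ => ?_
          have hχB : χ ∈ B := by simpa using hχ
          have h := sum_regInner_mul p χ x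
          rw [regFun, if_neg hx, ← Finset.sum_subset (Finset.subset_univ s) fun η _ hη => by
            rw [regInner_eq_zero_of_not_mem hM (.of_isPBlock hB) hχB (fun h => hη (hmem.mpr h)), zero_mul]] at h
          rw [← h, Finset.mul_sum, Finset.mul_sum, Finset.mul_sum]
          refine Finset.sum_congr rfl fun η hη => ?_
          have h1 := hrow χ hχB η (hmem.mp hη)
          rw [hu χ hχB, hu η (hmem.mp hη), ← hm, Int.cast_mul, Int.cast_mul, Int.cast_mul] at h1
          have hg0 : (g : ℂ) ≠ 0 := Int.cast_ne_zero.mpr hgpos.ne'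
          field_simp at h1 ⊢
          linear_combination -((c χ : ℂ) * (η : G → ℂ) x) * h1
  · rw [finsum_mem_eq_finite_toFinset_sum _ (Set.toFinite _), defectGroup_card hM hB hP, ← hq,
      ← Int.natCast_inj, ← hmq, Nat.cast_sum]
    refine Finset.sum_congr (by ext; simp [hs]) fun χ hχ => ?_
    rw [Nat.cast_pow, Int.toNat_of_nonneg (hupos χ (by simpa [hs] using hχ)).le, sq]

end Cfsg.Agent.S4675
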