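import Cfsg.Statements.S4683
import Cfsg.Agent.Lib.Block.SubsectionCount
-- import your own Cfsg.Agent.* helpers here

set_option autoImplicit false
open Cfsg CfsgLib.Block
open scoped ComplexConjugate

namespace Cfsg.Agent.S4683

/-- Fix a prime p and a maximal ideal M of the algebraic integers containing p, a p-block B of the finite group G, a p-element u and a p-block e of C = C_G(u) such that (⟨u⟩, e) is a Brauer pair of B (a Brauer element of B). For χ ∈ B let χ_u be the e-part of the class function c ↦ χ(u c) on C and χ_u' the e-part of c ↦ χ(u⁻¹ c). Then the sum over χ ∈ B and over the p-regular elements s of C of χ_u(s)·χ_u'(s⁻¹) equals the order of C times the p-regular rank of e (the number of irreducible Brauer characters of e). -/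
theorem result {G : Type*} [Group G] [Fintype G] (p : ℕ) [Fact p.Prime] (M : Ideal Cfsg.AlgInt) (hM : Cfsg.IsPModular p M) (B : Set (Cfsg.IrrCharacter G)) (u : G) (hu : ∃ k : ℕ, orderOf u = p ^ k) (e : Set (Cfsg.IrrCharacter (Subgroup.centralizer (Subgroup.zpowers u : Set G)))) (hBe : Cfsg.IsBrauerPairOf p M B (Subgroup.zpowers u) e) : ∑ᶠ χ ∈ B, ∑ᶠ s : Subgroup.centralizer (Subgroup.zpowers u : Set G), Cfsg.pRegularPart p (Cfsg.blockPart e (fun c : Subgroup.centralizer (Subgroup.zpowers u : Set G) => (χ : G → ℂ) (u * c))) s * Cfsg.blockPart e (fun c : Subgroup.centralizer (Subgroup.zpowers u : Set G) => (χ : G → ℂ) (u⁻¹ * c)) s⁻¹ = (Nat.card (Subgroup.centralizer (Subgroup.zpowers u : Set G)) : ℂ) * (Cfsg.blockRank p e : ℂ) := by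
  classical
  have := hM.2.1
  have := Fintype.ofFinite (IrrCharacter G)
  letI := Fintype.ofFinite (Subgroup.centralizer (Subgroup.zpowers u : Set G))
  have := Fintype.ofFinite (IrrCharacter (Subgroup.centralizer (Subgroup.zpowers u : Set G)))
  have hC : ∀ t : G, t ∈ (Subgroup.centralizer (Subgroup.zpowers u : Set G)) ↔ Commute t u := fun t => by
    rw [Subgroup.zpowers_eq_closure, Subgroup.centralizer_closure]
    exact Subgroup.mem_centralizer_singleton_iff
  have hC' : ∀ t : (Subgroup.centralizer (Subgroup.zpowers u : Set G)), Commute (t : G) u := fun t => (hC t).mp t.2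
  have he : IsPBlock M e := hBe.1.2
  obtain ⟨k, hk⟩ := hu
  have hQ : IsPGroup p (Subgroup.zpowers u) := hBe.1.1
  have hind : IsInducedBlock M (Subgroup.centralizer (Subgroup.zpowers u : Set G)) e B := by
    refine isInducedBlock_iff.mpr ⟨he, hBe.2.1, fun ξ hξ χ hχ z => ?_⟩
    rw [omegaBar_resHK_eq_brMap hQ le_rfl (centralizer_le_normalizer' _) hM
      (by rw [Subgroup.zpowers_le]; exact (hC u).mpr (Commute.refl u)) ξ z]
    exact (CfsgLib.Block.isBrauerPairOf_iff hM hQ he hBe.2.1).mp hBe ξ hξ χ hχ z
  have hterm : ∀ (χ : IrrCharacter G) (s : (Subgroup.centralizer (Subgroup.zpowers u : Set G))),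
      pRegularPart p (blockPart e (fun c : (Subgroup.centralizer (Subgroup.zpowers u : Set G)) => (χ : G → ℂ) (u * c))) s *
        blockPart e (fun c : (Subgroup.centralizer (Subgroup.zpowers u : Set G)) => (χ : G → ℂ) (u⁻¹ * c)) s⁻¹ =
      if ¬ p ∣ orderOf s then
        blockPart e (secFun u (Subgroup.centralizer (Subgroup.zpowers u : Set G)) χ) s * conj (blockPart e (secFun u (Subgroup.centralizer (Subgroup.zpowers u : Set G)) χ) s) else 0 := by
    intro χ s
    by_cases hs : p ∣ orderOf s
    · simp [pRegularPart, IsPRegular, hs]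
    rw [if_pos hs]
    simp only [pRegularPart, IsPRegular, hs, not_false_iff, if_true]
    congr 1
    rw [blockPart_eq, blockPart_eq, map_sum]
    refine Finset.sum_congr rfl fun η _ => ?_
    rw [map_mul, CfsgLib.Char.irr_inv]
    congr 1
    rw [classInner, classInner, map_mul, map_inv₀, map_natCast, map_sum]
    congr 1
    refine Fintype.sum_equiv (Equiv.inv (Subgroup.centralizer (Subgroup.zpowers u : Set G))) _ _ fun c => ?_
    simp only [Equiv.inv_apply, secFun, map_mul, Subgroup.coe_inv, Complex.conj_conj]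
    rw [CfsgLib.Char.irr_inv η c, ← CfsgLib.Char.irr_inv χ, mul_inv_rev, inv_inv,
      (hC' c).inv_right.eq]
  rw [finsum_mem_eq_toFinset_sum]
  simp only [finsum_eq_sum_of_fintype, hterm]
  rw [Finset.sum_comm, ← Finset.sum_filter_add_sum_filter_not Finset.univ (fun s : (Subgroup.centralizer (Subgroup.zpowers u : Set G)) => ¬ p ∣ orderOf s),
    Finset.sum_eq_zero (s := Finset.univ.filter (fun s : (Subgroup.centralizer (Subgroup.zpowers u : Set G)) => ¬¬ p ∣ orderOf s)) fun s hs => by
      refine Finset.sum_eq_zero fun χ _ => ?_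
      rw [if_neg (Finset.mem_filter.mp hs).2], add_zero,
    ← sum_regular_norm_eq_rank hM (.of_isPBlock he)]
  refine Finset.sum_congr rfl fun s hs => ?_
  have hs' := (Finset.mem_filter.mp hs).2
  simp only [if_pos hs']
  have h := sum_blockPart_mul_conj hM ⟨k, hk⟩ hC he he hs' hs'
  rw [if_pos rfl] at h
  rw [← h]
  refine Finset.sum_subset (Finset.subset_univ _) fun χ _ hχ => ?_
  rw [blockPart_secFun_eq_zero hM ⟨k, hk⟩ hC hind (by simpa using hχ) hs', zero_mul]

end Cfsg.Agent.S4683
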