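import Cfsg.Statements.S4694
import Cfsg.Agent.Lib.Block.WeightCentric

set_option autoImplicit false
open Cfsg

namespace Cfsg.Agent.S4694

/-- Fix a prime p and a maximal ideal M of the algebraic integers containing p, a p-block B of the finite group G and a Brauer pair (Q, e) of B. Let T be the stabilizer of e in N_G(Q) and suppose that (Q, e) carries a weight: the block of T whose idempotent is that of e contains an irreducible character χ that is constant on the cosets of Q and whose degree has p-part equal to the p-part of the index of Q in T. Then Z(Q) is a defect group of e as a block of C_G(Q), and Q is the largest normal p-subgroup of T: every p-subgroup of T normalized by T lies in Q. -/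
theorem result {G : Type*} [Group G] [Fintype G] (p : ℕ) [Fact p.Prime] (M : Ideal Cfsg.AlgInt) (hM : Cfsg.IsPModular p M) (B : Set (Cfsg.IrrCharacter G)) (Q : Subgroup G) (e : Set (Cfsg.IrrCharacter (Subgroup.centralizer (Q : Set G)))) (hQe : Cfsg.IsBrauerPairOf p M B Q e) (T : Subgroup G) (hT : ∀ y : G, y ∈ T ↔ y ∈ Subgroup.normalizer (Q : Set G) ∧ Cfsg.StabilizesBlock (Subgroup.centralizer (Q : Set G)) e y) (F' : Set (Cfsg.IrrCharacter T)) (hF' : Cfsg.IsPBlock M F') (hF'e : ∀ t : T, Cfsg.blockCoeff F' t = Cfsg.subgroupBlockCoeff (Subgroup.centralizer (Q : Set G)) e (t : G)) (χ : Cfsg.IrrCharacter T) (hχ : χ ∈ F') (hχQ : ∀ q : G, q ∈ Q → ∀ t : T, ∀ t' : T, (t' : G) = q * (t : G) → (χ : T → ℂ) t' = (χ : T → ℂ) t) (hdeg : (Cfsg.charDegree (χ : T → ℂ)).factorization p + (Nat.card Q).factorization p = (Nat.card T).factorization p) : Cfsg.IsDefectGroup p M e ((Q ⊓ Subgroup.centralizer (Q : Set G)).subgroupOf (Subgroup.centralizer (Q : Set G))) ∧ ∀ R : Subgroup G, R ≤ T → IsPGroup p R → (∀ t ∈ T, t ∈ Subgroup.normalizer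 (R : Set G)) → R ≤ Q := by
  obtain ⟨⟨hQ, he⟩, -, -⟩ := hQe
  have hCn : Subgroup.centralizer (Q : Set G) ≤ Subgroup.normalizer (Q : Set G) := Subgroup.centralizer_le_normalizer _
  have hQT : Q ≤ T := by
    intro q hq
    refine (hT q).2 ⟨Subgroup.le_normalizer hq, ?_, fun ξ hξ => ⟨ξ, hξ, fun k k' hk => ?_⟩⟩
    · refine Subgroup.mem_normalizer_iff.2 fun c => ?_
      constructor
      · intro hc
        rw [show q * c * q⁻¹ = c by rw [Subgroup.mem_centralizer_iff.1 hc q hq, mul_inv_cancel_right]]
        exact hc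
      · intro hc
        have h := Subgroup.mem_centralizer_iff.1 hc q hq
        have : c = q * c * q⁻¹ := by
          calc c = q⁻¹ * ((q * c * q⁻¹) * q) := by group
            _ = q⁻¹ * (q * (q * c * q⁻¹)) := by rw [h]
            _ = q * c * q⁻¹ := by group
        rw [this]; exact hc
    · refine congrArg _ ?_
      exact Subtype.ext (by rw [hk, Subgroup.mem_centralizer_iff.1 k.2 q hq, mul_inv_cancel_right])
  have hCT : Subgroup.centralizer (Q : Set G) ≤ T := by
    intro c hc
    refine (hT c).2 ⟨hCn hc, Subgroup.le_normalizer hc, fun ξ hξ => ⟨ξ, hξ, fun k k' hk => ?_⟩⟩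
    have := CfsgLib.Char.isClassFunction_irr ξ k ⟨c, hc⟩
    refine Eq.trans ?_ this
    exact congrArg _ (Subtype.ext hk)
  exact CfsgLib.Block.Weight.main hM Q hQ _ rfl e he T hQT hCT (fun y hy => ((hT y).1 hy).1) F' hF'e χ hχ hχQ hdeg

end Cfsg.Agent.S4694
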