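import Cfsg.Statements.S4697
import Cfsg.Agent.Lib.Block.CyclicDefect.AbelianRankTwo

set_option autoImplicit false
open Cfsg

namespace Cfsg.Agent.S4697

/-- Let p be a prime, M a maximal ideal of the algebraic integers containing p, and B a p-block of the finite group G with an abelian defect group D of order p^d. If D has rank 2 (its least number of generators is 2) then B contains at most p^d irreducible characters; if D has rank 3 then the number k of irreducible characters in B satisfies k^3 ≤ p^(5d). -/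
theorem result {G : Type*} [Group G] [Finite G] (p : ℕ) [Fact p.Prime] (M : Ideal Cfsg.AlgInt) (hM : Cfsg.IsPModular p M) (B : Set (Cfsg.IrrCharacter G)) (hB : Cfsg.IsPBlock M B) (D : Subgroup G) (hBD : Cfsg.IsDefectGroup p M B D) (hab : IsMulCommutative D) (d : ℕ) (hDd : Nat.card D = p ^ d) : (Group.rank D = 2 → Nat.card B ≤ p ^ d) ∧ (Group.rank D = 3 → Nat.card B ^ 3 ≤ p ^ (5 * d)) := by
  classical
  have : M.IsMaximal := hM.2.1
  have := Fintype.ofFinite G
  have := Fintype.ofFinite (IrrCharacter G)
  have hab' : ∀ x ∈ D, ∀ y ∈ D, x * y = y * x := fun x hx y hy =>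
    congrArg Subtype.val (IsMulCommutative.is_comm.comm (⟨x, hx⟩ : D) ⟨y, hy⟩)
  obtain ⟨S, hS, hgen⟩ := Group.rank_spec D
  have hgen' : D ≤ Subgroup.closure (D.subtype '' (S : Set D)) := by
    rw [← MonoidHom.map_closure, hgen, ← MonoidHom.range_eq_map, Subgroup.range_subtype]
  refine ⟨fun h2 => ?_, fun h3 => ?_⟩
  · rw [h2, Finset.card_eq_two] at hS
    obtain ⟨x, y, -, rfl⟩ := hS
    rw [Finset.coe_pair, Set.image_pair] at hgen'
    exact hDd ▸ CfsgLib.Block.CyclicDefect.card_le_of_two_generated hM hB hBD hab' x.2 y.2 hgen'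
  · rw [h3, Finset.card_eq_three] at hS
    obtain ⟨x, y, w, -, -, -, rfl⟩ := hS
    simp only [Finset.coe_insert, Finset.coe_singleton] at hgen
    simp only [Finset.coe_insert, Finset.coe_singleton, Set.image_insert_eq, Set.image_singleton]
      at hgen'
    letI : CommGroup D := { (inferInstance : Group D) with
      mul_comm := fun a b => Subtype.ext (hab' a a.2 b b.2) }
    have hle := CfsgLib.Block.CyclicDefect.card_le_orderOf_mul (H := D) hgen
    rw [← Subgroup.orderOf_coe x, ← Subgroup.orderOf_coe y, ← Subgroup.orderOf_coe w] at hle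
    rw [pow_mul', ← hDd]
    have key : ∀ a b c : G, a ∈ D → b ∈ D → c ∈ D → D ≤ Subgroup.closure {a, b, c} →
        Nat.card D ≤ orderOf a * (orderOf b * orderOf c) → orderOf b ≤ orderOf a →
        orderOf c ≤ orderOf a → Nat.card B ^ 3 ≤ Nat.card D ^ 5 := by
      intro a b c ha hb hc hg hl h1 h2
      refine CfsgLib.Block.CyclicDefect.card_cube_le_of_three_generated hM hB hBD hab' ha hb hc hg ?_
      rw [pow_three]
      exact hl.trans (Nat.mul_le_mul_left _ (Nat.mul_le_mul h1 h2))
    by_cases h : orderOf (y : G) ≤ orderOf (x : G) ∧ orderOf (w : G) ≤ orderOf (x : G)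
    · exact key _ _ _ x.2 y.2 w.2 hgen' hle h.1 h.2
    by_cases h' : orderOf (x : G) ≤ orderOf (y : G) ∧ orderOf (w : G) ≤ orderOf (y : G)
    · exact key _ _ _ y.2 x.2 w.2 (hgen'.trans (le_of_eq (congrArg _ (Set.insert_comm _ _ _))))
        (hle.trans (le_of_eq (mul_left_comm _ _ _))) h'.1 h'.2
    exact key _ _ _ w.2 x.2 y.2 (hgen'.trans (le_of_eq (congrArg _ (by ext a; simp; tauto))))
      (hle.trans (le_of_eq (by ring))) (by omega) (by omega)

end Cfsg.Agent.S4697
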