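import Cfsg.Statements.S4703
import Cfsg.Agent.Lib.Char.SmallDegree.Group

set_option autoImplicit false
open Cfsg

namespace Cfsg.Agent.S4703

/-- Let G be a finite group whose centre Z has odd order, p > 7 a prime, and suppose a Sylow p-subgroup of G has order p and is not normal. Let ζ be a faithful irreducible character of G (only the identity lies in its kernel). Then either G/Z is isomorphic to PSL(2, p) and ζ has degree (p + 1)/2 or (p − 1)/2, or ζ has degree at least p − 2. -/
theorem result {G : Type*} [Group G] [Finite G] (hZ : Odd (Nat.card (Subgroup.center G))) (p : ℕ) [Fact p.Prime] (hp : 7 < p) (P : Sylow p G) (hP : Nat.card P = p) (hnn : ¬ (P : Subgroup G).Normal) (ζ : G → ℂ) (hζ : Cfsg.IsIrrCharacter G ζ) (hfaith : ∀ g : G, ζ g = ζ 1 → g = 1) : ((∃ (F : Type) (_ : Field F) (_ : Fintype F), Fintype.card F = p ∧ Nonempty (G ⧸ Subgroup.center G ≃* Matrix.ProjectiveSpecialLinearGroup (Fin 2) F)) ∧ (2 * Cfsg.charDegree ζ = p + 1 ∨ 2 * Cfsg.charDegree ζ = p - 1)) ∨ p -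 2 ≤ Cfsg.charDegree ζ := by
  classical
  obtain ⟨⟨x₀, D₀⟩, hnn'⟩ := CfsgLib.Char.SmallDegree.exists_locData P hP hnn
  obtain ⟨n, ρ, hρirr, rfl⟩ := hζ
  haveI := hρirr
  have hn : Cfsg.charDegree ρ.character = n := by
    simp [Cfsg.charDegree, Representation.char_one]
  rw [hn]
  have hlow := CfsgLib.Char.SmallDegree.le_two_mul_add_one D₀ hnn' ρ hfaith
  by_cases hbig : p - 2 ≤ n
  · exact Or.inr hbig
  left
  by_cases hhalf : 2 * n + 1 = p
  · exact ⟨⟨ZMod p, inferInstance, inferInstance, ZMod.card p,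
      (CfsgLib.Char.SmallDegree.half_group hp D₀ hnn' ρ hfaith hhalf).1⟩, Or.inr (by omega)⟩
  · obtain ⟨e, t, hne, hte, ht2, -, hbound, hpsl⟩ :=
      CfsgLib.Char.SmallDegree.small_group hp D₀ hnn' ρ hfaith (by omega) (by omega)
    have ht : t = 2 := by
      by_contra h
      have := (hbound (by omega)).2 hZ
      omega
    subst ht
    exact ⟨⟨ZMod p, inferInstance, inferInstance, ZMod.card p, hpsl rfl⟩, Or.inl (by omega)⟩

end Cfsg.Agent.S4703
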