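import Cfsg.Statements.S4704
import Cfsg.Agent.Lib.Char.SmallDegree.Group

set_option autoImplicit false
open Cfsg

namespace Cfsg.Agent.S4704

/-- Let G be a finite group with centre Z, p > 7 a prime, and suppose a Sylow p-subgroup of G has order p and is not normal. Let ζ be a faithful irreducible character of G and t the number of conjugacy classes of G consisting of elements of order p. Then one of the following holds: G/Z is isomorphic to PSL(2, p), ζ has degree (p + 1)/2 or (p − 1)/2 and t = 2; or ζ has degree at least p − 1; or ζ has degree at least p + 3/2 − √(p + 5/4) and p ≤ t^2 − 3t + 1. -/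
theorem result {G : Type*} [Group G] [Finite G] (p : ℕ) [Fact p.Prime] (hp : 7 < p) (P : Sylow p G) (hP : Nat.card P = p) (hnn : ¬ (P : Subgroup G).Normal) (ζ : G → ℂ) (hζ : Cfsg.IsIrrCharacter G ζ) (hfaith : ∀ g : G, ζ g = ζ 1 → g = 1) (t : ℕ) (ht : Nat.card {c : ConjClasses G // ∃ g : G, ConjClasses.mk g = c ∧ orderOf g = p} = t) : ((∃ (F : Type) (_ : Field F) (_ : Fintype F), Fintype.card F = p ∧ Nonempty (G ⧸ Subgroup.center G ≃* Matrix.ProjectiveSpecialLinearGroup (Fin 2) F)) ∧ (2 * Cfsg.charDegree ζ = p + 1 ∨ 2 * Cfsg.charDegree ζ = p - 1) ∧ t = 2) ∨ p - 1 ≤ Cfsg.charDegree ζ ∨ ((p : ℝ) + 3 / 2 - Real.sqrt ((p : ℝ) + 5 / 4) ≤ (Cfsg.charDegree ζ : ℝ) ∧ (p : ℤ) ≤ (t : ℤ) ^ 2 - 3 * t + 1) := by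
  classical
  obtain ⟨⟨x₀, D₀⟩, hnn'⟩ := CfsgLib.Char.SmallDegree.exists_locData P hP hnn
  obtain ⟨n, ρ, hρirr, rfl⟩ := hζ
  haveI := hρirr
  have hn : Cfsg.charDegree ρ.character = n := by
    simp [Cfsg.charDegree, Representation.char_one]
  rw [hn]
  have hlow := CfsgLib.Char.SmallDegree.le_two_mul_add_one D₀ hnn' ρ hfaith
  by_cases hbig : p - 1 ≤ n
  · exact Or.inr (Or.inl hbig)
  by_cases hhalf : 2 * n + 1 = p
  · obtain ⟨hE, hA⟩ := CfsgLib.Char.SmallDegree.half_group hp D₀ hnn' ρ hfaith hhalf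
    have hc := CfsgLib.Char.SmallDegree.card_classes D₀
    rw [ht, hA] at hc
    refine Or.inl ⟨⟨ZMod p, inferInstance, inferInstance, ZMod.card p, hE⟩, Or.inr (by omega), ?_⟩
    exact Nat.eq_of_mul_eq_mul_right (show 0 < n by omega) (by omega)
  · obtain ⟨e, t', hne, hte, ht2, ⟨x, D, hA⟩, hbound, hpsl⟩ :=
      CfsgLib.Char.SmallDegree.small_group hp D₀ hnn' ρ hfaith (by omega) (by omega)
    have hc := CfsgLib.Char.SmallDegree.card_classes D
    rw [ht, hA] at hc
    have htt : t = t' := Nat.eq_of_mul_eq_mul_right (show 0 < e by omega) (hc.trans hte.symm)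
    subst htt
    rcases eq_or_lt_of_le ht2 with h2 | h3
    · subst h2
      exact Or.inl ⟨⟨ZMod p, inferInstance, inferInstance, ZMod.card p, hpsl rfl⟩, Or.inl (by omega), rfl⟩
    · obtain ⟨he3, -⟩ := hbound h3
      have hp1 : (p : ℝ) = (t : ℝ) * e + 1 := by
        have : p = t * e + 1 := by omega
        exact_mod_cast this
      have hn' : (n : ℝ) + e = p := by exact_mod_cast hne
      have he3' : (e : ℝ) + 3 ≤ t := by exact_mod_cast he3
      refine Or.inr (Or.inr ⟨?_, ?_⟩)
      · have hsq : (e : ℝ) + 3 / 2 ≤ Real.sqrt ((p : ℝ) + 5 / 4) := by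
          apply Real.le_sqrt_of_sq_le
          have := mul_le_mul_of_nonneg_right he3' (Nat.cast_nonneg (α := ℝ) e)
          nlinarith
        linarith
      · have hp2 : (p : ℤ) = (t : ℤ) * e + 1 := by
          have : p = t * e + 1 := by omega
          exact_mod_cast this
        have : (e : ℤ) + 3 ≤ t := by exact_mod_cast he3
        nlinarith

end Cfsg.Agent.S4704
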