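import Cfsg.Statements.S4708
import Cfsg.Agent.Lib.Block.HeightZeroOrbit

/-!
# Degree square sums of principal blocks of a normal subgroup
-/

set_option autoImplicit false
open Cfsg

namespace Cfsg.Agent.S4708

open CfsgLib CfsgLib.Block
open scoped ComplexConjugate

/-- Let p be a prime, M a maximal ideal of the algebraic integers containing p, G a finite group and H a normal subgroup. Write λ(X) for the sum of the squares of the degrees of the irreducible characters in the principal p-block of a group X. Then λ(H) ≤ λ(G) ≤ [G : H]·λ(H). -/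
theorem result {G : Type*} [Group G] [Finite G] (p : ℕ) [Fact p.Prime] (M : Ideal Cfsg.AlgInt) (hM : Cfsg.IsPModular p M) (H : Subgroup G) [H.Normal] : (∑ᶠ θ ∈ Cfsg.principalBlock M H, Cfsg.charDegree (θ : H → ℂ) ^ 2) ≤ (∑ᶠ χ ∈ Cfsg.principalBlock M G, Cfsg.charDegree (χ : G → ℂ) ^ 2) ∧ (∑ᶠ χ ∈ Cfsg.principalBlock M G, Cfsg.charDegree (χ : G → ℂ) ^ 2) ≤ H.index * ∑ᶠ θ ∈ Cfsg.principalBlock M H, Cfsg.charDegree (θ : H → ℂ) ^ 2 := by
  classical
  have := Fintype.ofFinite G
  have := Fintype.ofFinite H
  have := Fintype.ofFinite (IrrCharacter G)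
  have := Fintype.ofFinite (IrrCharacter H)
  have := Fintype.ofFinite (ConjClasses G)
  have := Fintype.ofFinite (ConjClasses H)
  haveI : M.IsMaximal := hM.2.1
  set B := principalBlock M G with hBdef
  set b := principalBlock M H with hbdef
  have hB : IsPBlock M B := isPBlock_principalBlock
  have hb : IsPBlock M b := isPBlock_principalBlock
  have hcov : Covers B b := by
    refine ⟨oneChar G, one_mem_principalBlock, oneChar H, one_mem_principalBlock, ?_⟩
    show classInner (fun _ : H => (1 : ℂ)) (fun _ : H => (1 : ℂ)) ≠ 0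
    rw [show classInner (fun _ : H => (1 : ℂ)) (fun _ : H => (1 : ℂ)) = 1 from
      Char.classInner_irr_self (oneChar H)]
    exact one_ne_zero
  have hm : ∀ (χ : IrrCharacter G) (θ : IrrCharacter H),
      classInner (fun n : H => (χ : G → ℂ) n) (θ : H → ℂ) = (resMult χ θ : ℂ) := fun χ θ => by
    rw [resMult]
    have h := Classical.choose_spec (Char.classInner_char_irr_nat
      (Char.isCharacter_comp (Char.isCharacter_irr χ) H.subtype) θ)
    convert h using 2
    · rfl
    · congr! 3
      simp only [classInner]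
      congr 1
      exact Finset.sum_congr (by ext; simp) fun _ _ => rfl
  set s := Finset.univ.filter (· ∈ B) with hs
  set t := Finset.univ.filter (· ∈ b) with ht
  have hdeg : ∀ χ ∈ s, charDegree (χ : G → ℂ) =
      ∑ θ ∈ t, resMult χ θ * charDegree (θ : H → ℂ) := by
    intro χ hχ
    have h := res_eq_sum_resMult (C := H) χ 1
    rw [OneMemClass.coe_one, (charDegree_eq χ).1, ← Finset.sum_subset (Finset.subset_univ t) fun θ _ hθ => ?_] at h
    · rw [Finset.sum_congr rfl fun θ _ => by rw [(charDegree_eq θ).1]] at h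
      exact_mod_cast h
    · have h0 : resMult χ θ = 0 := by
        by_contra hne
        have hc : classInner (fun n : H => (χ : G → ℂ) n) (θ : H → ℂ) ≠ 0 := by
          rw [hm]
          exact Nat.cast_ne_zero.mpr hne
        obtain ⟨g, hg⟩ := hcov.constituent_mem hM hB hb (Finset.mem_filter.mp hχ).2 hc
        refine hθ (Finset.mem_filter.mpr ⟨Finset.mem_univ _, ?_⟩)
        have hone : cjN g (oneChar H) = oneChar H := Subtype.ext rfl
        have h1 : cjN g θ ∈ cjN g '' b := by
          rwa [isPBlock_eq_of_mem (isPBlock_cjN g hb) hb ⟨_, one_mem_principalBlock, hone⟩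
            one_mem_principalBlock]
        obtain ⟨η, hη, he⟩ := h1
        have e := congrArg (cjN g⁻¹) he
        rw [cjN_cjN, cjN_cjN, inv_mul_cancel, cjN_one, cjN_one] at e
        exact e ▸ hη
      rw [h0, Nat.cast_zero, zero_mul]
  have hind : ∀ θ : IrrCharacter H, ∑ χ : IrrCharacter G, charDegree (χ : G → ℂ) * resMult χ θ =
      H.index * charDegree (θ : H → ℂ) := by
    intro θ
    have h := congrFun (Char.classFun_expand (Char.isClassFunction_indFun H (θ : H → ℂ))) 1
    rw [Char.indFun_one, Finset.sum_apply, (charDegree_eq θ).1] at h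
    simp only [Pi.smul_apply, smul_eq_mul, Char.classInner_indFun H (θ : H → ℂ) _
      (Char.isClassFunction_irr _)] at h
    rw [Finset.sum_congr rfl fun (χ : IrrCharacter G) _ => by
      rw [← Char.classInner_conj, hm, map_natCast, (charDegree_eq χ).1, mul_comm]] at h
    exact_mod_cast h.symm
  have hdouble : ∑ χ ∈ s, charDegree (χ : G → ℂ) ^ 2 =
      ∑ θ ∈ t, charDegree (θ : H → ℂ) * ∑ χ ∈ s, charDegree (χ : G → ℂ) * resMult χ θ := by
    rw [Finset.sum_congr rfl fun (χ : IrrCharacter G) hχ => show charDegree (χ : G → ℂ) ^ 2 =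
      ∑ θ ∈ t, charDegree (θ : H → ℂ) * (charDegree (χ : G → ℂ) * resMult χ θ) from ?_,
      Finset.sum_comm]
    · exact Finset.sum_congr rfl fun θ _ => (Finset.mul_sum ..).symm
    · rw [sq]
      nth_rw 2 [hdeg χ hχ]
      rw [Finset.mul_sum]
      exact Finset.sum_congr rfl fun θ _ => by ring
  rw [finsum_mem_eq_finite_toFinset_sum _ (Set.toFinite _), finsum_mem_eq_finite_toFinset_sum _ (Set.toFinite _),
    show (Set.toFinite B).toFinset = s by ext; simp [hs], show (Set.toFinite b).toFinset = t by ext; simp [ht],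
    hdouble]
  constructor
  · refine Finset.sum_le_sum fun θ hθ => ?_
    obtain ⟨χ, hχ, hc⟩ := HeightZeroOrbit.exists_above hM hB hb hcov (Finset.mem_filter.mp hθ).2
    rw [sq]
    refine Nat.mul_le_mul_left _ (le_trans ?_ (Finset.single_le_sum (fun _ _ => Nat.zero_le _)
      (Finset.mem_filter.mpr ⟨Finset.mem_univ χ, hχ⟩)))
    have h1 : 1 ≤ resMult χ θ := Nat.one_le_iff_ne_zero.mpr fun e => hc (by rw [hm, e, Nat.cast_zero])
    have h2 : resMult χ θ * charDegree (θ : H → ℂ) ≤ charDegree (χ : G → ℂ) := by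
      rw [hdeg χ (Finset.mem_filter.mpr ⟨Finset.mem_univ χ, hχ⟩)]
      exact Finset.single_le_sum (f := fun η : IrrCharacter H => resMult χ η * charDegree (η : H → ℂ))
        (fun _ _ => Nat.zero_le _) hθ
    nlinarith
  · rw [Finset.mul_sum]
    refine Finset.sum_le_sum fun θ _ => ?_
    refine (Nat.mul_le_mul_left _ (Finset.sum_le_sum_of_subset (Finset.subset_univ s))).trans ?_
    rw [hind θ]
    exact le_of_eq (by ring)

end Cfsg.Agent.S4708
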