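import Cfsg.Statements.S4709
import Cfsg.Agent.Lib.Block.AbelianFreeShape

set_option autoImplicit false
open Cfsg

namespace Cfsg.Agent.S4709

/-- Let p be a prime, M a maximal ideal of the algebraic integers containing p, and G a finite group with a nontrivial abelian Sylow p-subgroup P; put N = N_G(P), C = C_G(P). Suppose N/C is cyclic of order m with 1 < m < #P − 1 (C has index m in N and N is generated by C and one element), and C_G(y) ∩ N = C for every non-identity y ∈ P. Put r = (#P − 1)/m. Then there is s ≤ m such that the principal p-block is the disjoint union of a set X of s characters containing the principal character and a set Y of r characters, with integers a_χ ≠ 0 (χ ∈ X), d and a sign δ = ±1, such that: every χ ∈ X takes the value a_χ at every element whose p-part is a non-identity element of P; there is a map ζ from the non-principal linear characters ψ of P onto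 Y, constant on N-conjugacy classes, with ζ_ψ(z) = d + δ·Σ ψ'(y) for every z whose p-part y is a non-identity element of P, the sum running over the N-conjugates ψ' of ψ; (d − δ)^2 + (r − 1) d^2 + Σ_{χ ∈ X} a_χ^2 = m + 1; all members of Y agree on p-regular elements; and (r d − δ) η(g) + Σ_{χ ∈ X} a_χ χ(g) = 0 for every η ∈ Y and every p-regular g. -/
theorem result {G : Type*} [Group G] [Finite G] (p : ℕ) [Fact p.Prime] (M : Ideal Cfsg.AlgInt) (hM : Cfsg.IsPModular p M) (P : Sylow p G) (hab : IsMulCommutative P) (hP1 : Nat.card P ≠ 1) (m : ℕ) (hm1 : 1 < m) (hm2 : m + 1 < Nat.card P) (hCN : (Subgroup.centralizer ((P : Subgroup G) : Set G)).relIndex (Subgroup.normalizer ((P : Subgroup G) : Set G)) = m) (hcyc : ∃ g : G, g ∈ Subgroup.normalizer ((P : Subgroup G) : Set G) ∧ Subgroup.centralizer ((P : Subgroup G) : Set G) ⊔ Subgroup.zpowers g = Subgroup.normalizer ((P : Subgroup G) :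 Set G)) (hfrob : ∀ y : G, y ∈ (P : Subgroup G) → y ≠ 1 → Subgroup.centralizer ({y} : Set G) ⊓ Subgroup.normalizer ((P : Subgroup G) : Set G) = Subgroup.centralizer ((P : Subgroup G) : Set G)) : ∃ (s : ℕ) (X Y : Set (Cfsg.IrrCharacter G)), s ≤ m ∧ Cfsg.principalBlock M G = X ∪ Y ∧ Disjoint X Y ∧ Nat.card X = s ∧ Nat.card Y = (Nat.card P - 1) / m ∧ (∃ χ₁ ∈ X, (χ₁ : G → ℂ) = fun _ => 1) ∧ ∃ (a : Cfsg.IrrCharacter G → ℤ) (d δ : ℤ) (ζ : (↥(P : Subgroup G) →* ℂˣ) → Cfsg.IrrCharacter G), (δ = 1 ∨ δ = -1) ∧ (∀ χ ∈ X, a χ ≠ 0 ∧ ∀ z y : G, Cfsg.IsPPart p z y → y ∈ (P : Subgroup G) → y ≠ 1 → (χ : G → ℂ) z = (a χ : ℂ)) ∧ (∀ ψ : ↥(P : Subgroup G) →* ℂˣ, ψ ≠ 1 → ζ ψ ∈ Y) ∧ (∀ η ∈ Y, ∃ ψ : ↥(P : Subgroup G) →* ℂˣ, ψ ≠ 1 ∧ ζ ψ = η) ∧ (∀ ψ ψ' : ↥(P : Subgroup G) →* ℂˣ, ψ ≠ 1 → (∃ n : G, n ∈ Subgroup.normalizer ((P : Subgroup G) : Set G) ∧ ∀ w w' : ↥(P : Subgroup G), (w' : G) = n * w * n⁻¹ → ψ' w'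 = ψ w) → ζ ψ' = ζ ψ) ∧ (∀ ψ : ↥(P : Subgroup G) →* ℂˣ, ψ ≠ 1 → ∀ (z : G) (y : ↥(P : Subgroup G)), Cfsg.IsPPart p z (y : G) → (y : G) ≠ 1 → (ζ ψ : G → ℂ) z = (d : ℂ) + (δ : ℂ) * ∑ᶠ ψ' ∈ {ψ' : ↥(P : Subgroup G) →* ℂˣ | ∃ n : G, n ∈ Subgroup.normalizer ((P : Subgroup G) : Set G) ∧ ∀ w w' : ↥(P : Subgroup G), (w' : G) = n * w * n⁻¹ → ψ' w' = ψ w}, ((ψ' y : ℂˣ) : ℂ)) ∧ ((d - δ) ^ 2 + ((Nat.card P - 1) / m - 1 : ℤ) * d ^ 2 + ∑ᶠ χ ∈ X, a χ ^ 2 = (m : ℤ) + 1) ∧ (∀ η ∈ Y, ∀ η' ∈ Y, ∀ g : G, ¬ p ∣ orderOf g → (η : G → ℂ) g = (η' : G → ℂ) g) ∧ (∀ η ∈ Y, ∀ g : G, ¬ p ∣ orderOf g → ((((Nat.card P - 1) / m : ℕ) : ℂ) * d - δ) * (η : G → ℂ) g + ∑ᶠ χ ∈ X, (a χ : ℂ) * (χ : G → ℂ) g = 0) := by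
  classical
  letI := Fintype.ofFinite G
  haveI := Fintype.ofFinite (Cfsg.IrrCharacter G)
  haveI := Fintype.ofFinite ↥(P : Subgroup G)
  haveI := hM.2.1
  have h : CfsgLib.Block.AbelianFree.Free P := ⟨hab, hfrob⟩
  haveI : Finite (CfsgLib.Block.AbelianFree.Lin P) :=
    Finite.of_injective _ (CfsgLib.Block.AbelianFree.lc_injective (P := P))
  haveI := Fintype.ofFinite (CfsgLib.Block.AbelianFree.Lin P)
  subst hCN
  obtain ⟨E⟩ := h.exists_coherent hM hm2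
  set m := (CfsgLib.Block.AbelianFree.cen P).relIndex (CfsgLib.Block.AbelianFree.nor P) with hmdef
  have hY := E.card_Y h
  rw [← hmdef] at hY
  have hr : (Nat.card P - 1) / m = E.Y.card := by
    rw [← hY, Nat.mul_div_cancel _ (Nat.zero_lt_of_lt hm1)]
  have hr2 : 2 ≤ E.Y.card := by
    by_contra hlt
    have := Nat.mul_le_mul_right m (show E.Y.card ≤ 1 by omega)
    omega
  obtain ⟨θ₀, hθ₀⟩ := Finset.card_pos.mp (show 0 < E.Y.card by omega)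
  obtain ⟨a, ha, -⟩ := E.mem_Y.mp hθ₀
  set d := E.base (E.ζ a) with hd
  have hnorm := E.norm_eq h hM hP1 ha
  rw [← hd, ← hmdef] at hnorm
  have hs : E.X.card ≤ m := by
    have h1 : (E.X.card : ℤ) ≤ ∑ θ ∈ E.X, E.base θ ^ 2 := by
      rw [Finset.card_eq_sum_ones, Nat.cast_sum]
      refine Finset.sum_le_sum fun θ hθ => ?_
      rw [Nat.cast_one]
      exact Int.add_one_le_iff.mpr (lt_of_le_of_ne (sq_nonneg _) (pow_ne_zero 2 (E.base_ne_zero h hM hP1 hθ)).symm)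
    have h2 : 1 ≤ (d - E.δ) ^ 2 + ((E.Y.card : ℤ) - 1) * d ^ 2 := by
      by_cases hd0 : d = 0
      · rw [hd0]
        rcases E.sign with hs | hs <;> rw [hs] <;> norm_num
      · have h3 : 1 ≤ d ^ 2 := Int.add_one_le_iff.mpr (lt_of_le_of_ne (sq_nonneg _) (pow_ne_zero 2 hd0).symm)
        have h4 : (2 : ℤ) ≤ E.Y.card := by exact_mod_cast hr2
        nlinarith [sq_nonneg (d - E.δ)]
    omega
  refine ⟨E.X.card, (E.X : Set (Cfsg.IrrCharacter G)), (E.Y : Set (Cfsg.IrrCharacter G)), hs, ?_, ?_, ?_, ?_,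
    ⟨CfsgLib.Block.oneChar G, E.one_mem_X h hM hm2, rfl⟩,
    fun θ => E.base θ, d, E.δ, E.ζ, E.sign, fun χ hχ => ⟨E.base_ne_zero h hM hP1 hχ,
      fun z y hz hy hy1 => E.value_X h hM hχ hz hy hy1⟩,
    fun ψ hψ => E.mem_Y.mpr ⟨ψ, hψ, rfl⟩, fun η hη => E.mem_Y.mp hη, ?_, ?_, ?_, ?_, ?_⟩
  · ext θ
    simp only [Set.mem_union, Finset.mem_coe, E.mem_X, E.mem_Y]
    constructor
    · intro hθ
      by_cases hex : ∃ ψ, ψ ≠ 1 ∧ E.ζ ψ = θ
      · exact Or.inr hex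
      · push Not at hex
        exact Or.inl ⟨hθ, hex⟩
    · rintro (⟨hθ, -⟩ | ⟨ψ, hψ, rfl⟩)
      · exact hθ
      · exact E.mem ψ hψ
  · rw [Set.disjoint_left]
    intro θ hX hY'
    obtain ⟨ψ, hψ, e⟩ := E.mem_Y.mp hY'
    exact (E.mem_X.mp hX).2 ψ hψ e
  · rw [Nat.card_coe_set_eq, Set.ncard_coe_finset]
  · rw [Nat.card_coe_set_eq, Set.ncard_coe_finset]
    exact hr.symm
  · intro ψ ψ' hψ hrel
    exact ((E.rel ψ ψ' hψ (CfsgLib.Block.AbelianFree.ne_one_of_rel hrel hψ)).mpr hrel).symm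
  · intro ψ hψ z y hz hy1
    have hy' : y ≠ 1 := fun e => hy1 (congrArg Subtype.val e)
    rw [h.value_eq hM (E.mem ψ hψ) hz y.2 hy1, E.value h (E.mem ψ hψ) hy', E.filter_eq_rel hψ,
      E.base_eq h hM hP1 hψ ha, ← hd, finsum_mem_eq_toFinset_sum]
    congr 2
    exact Finset.sum_congr (by ext; simp [CfsgLib.Block.AbelianFree.Rel, CfsgLib.Block.AbelianFree.nor]) fun _ _ => rfl
  · rw [finsum_mem_eq_toFinset_sum, Finset.toFinset_coe,
      show (((Nat.card P : ℤ) - 1) / (m : ℤ)) = (E.Y.card : ℤ) by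
        rw [← hr, Int.natCast_ediv, Nat.cast_sub Nat.card_pos, Nat.cast_one]]
    exact hnorm
  · intro η hη η' hη' g hg
    obtain ⟨b, hb, rfl⟩ := E.mem_Y.mp hη
    obtain ⟨b', hb', rfl⟩ := E.mem_Y.mp hη'
    exact E.regular_eq h hM hb hb' hg
  · intro η hη g hg
    obtain ⟨b, hb, rfl⟩ := E.mem_Y.mp hη
    rw [finsum_mem_eq_toFinset_sum, Finset.toFinset_coe, hr, hd, E.base_eq h hM hP1 ha hb]
    exact E.regular_relation h hM hP1 hb hg

end Cfsg.Agent.S4709
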