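import Cfsg.Statements.S4710
import Cfsg.Agent.Lib.Block.BrauerFeit
-- import your own Cfsg.Agent.* helpers here

set_option autoImplicit false
open Cfsg CfsgLib.Block
open Cfsg

namespace Cfsg.Agent.S4710

/-- Let p be a prime, M a maximal ideal of the algebraic integers containing p, and B a p-block of defect d of the finite group G containing k irreducible characters. If B contains a character of positive height then 2k ≤ p^(2d − 2); and every character in B has height 0 when d ≤ 1 and height at most d − 2 when d ≥ 2. -/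
theorem result {G : Type*} [Group G] [Finite G] (p : ℕ) [Fact p.Prime] (M : Ideal Cfsg.AlgInt) (hM : Cfsg.IsPModular p M) (B : Set (Cfsg.IrrCharacter G)) (hB : Cfsg.IsPBlock M B) (d : ℕ) (hd : Cfsg.blockDefect p B = d) : ((∃ χ ∈ B, 0 < Cfsg.blockHeight p B (χ : G → ℂ)) → 2 * Nat.card B ≤ p ^ (2 * d - 2)) ∧ ∀ χ ∈ B, (d ≤ 1 → Cfsg.blockHeight p B (χ : G → ℂ) = 0) ∧ (2 ≤ d → Cfsg.blockHeight p B (χ : G → ℂ) ≤ d - 2) := by
  classical
  have := hM.2.1
  letI := Fintype.ofFinite G
  have := Fintype.ofFinite (IrrCharacter G)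
  have := Fintype.ofFinite (ConjClasses G)
  refine ⟨fun hpos => ?_, fun χ hχ => ⟨fun hd1 => ?_, fun hd2 => ?_⟩⟩
  · have h := two_mul_card_le_of_positive_height hM hB hpos
    obtain ⟨χ, hχ, h0⟩ := hpos
    have h2 := blockHeight_add_two_le_defect hM hB hχ h0
    rw [hd] at h h2
    have hc : (Finset.univ.filter (· ∈ B)).card = Nat.card B := by
      rw [Nat.card_eq_fintype_card, ← Set.toFinset_card]
      exact congrArg Finset.card (by ext; simp)
    rw [hc, ← pow_mul, show d * 2 = 2 + (2 * d - 2) by omega, pow_add] at h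
    exact Nat.le_of_mul_le_mul_left h (pow_pos hM.1.pos _)
  · by_contra h0
    have := blockHeight_add_two_le_defect hM hB hχ (Nat.pos_of_ne_zero h0)
    omega
  · rcases Nat.eq_zero_or_pos (Cfsg.blockHeight p B (χ : G → ℂ)) with h0 | h0
    · omega
    · have := blockHeight_add_two_le_defect hM hB hχ h0
      omega

end Cfsg.Agent.S4710
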