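import Cfsg.Statements.S4711
import Cfsg.Agent.Lib.Block.PrincipalCoreInflation
import Cfsg.Agent.Lib.PGroup.PSolvable
import Cfsg.Agent.Lib.Block.BrauerChars
import Cfsg.Agent.Lib.Char.Gallagher
import Cfsg.Agent.Lib.Char.SteinbergDescend

set_option autoImplicit false
open Cfsg

namespace Cfsg.Agent.S4711

section
open CfsgLib CfsgLib.Block Finset
open scoped ComplexConjugate

universe u

variable (p : ℕ) [hp : Fact p.Prime] {M : Ideal AlgInt} [M.IsMaximal] {G : Type u} [Group G] [Fintype G]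
  [Fintype (IrrCharacter G)] [Fintype (ConjClasses G)]

private theorem irreducible_restrict (hM : IsPModular p M) (P : Sylow p G) (h : Cfsg.PLengthLE p 1 G)
    (χ : IrrCharacter G) (hχ : χ ∈ principalBlock M G) :
    IsIrrCharacter ↥(Subgroup.normalizer ((P : Subgroup G) : Set G))
      (fun n : ↥(Subgroup.normalizer ((P : Subgroup G) : Set G)) => (χ : G → ℂ) n) := by
  classical
  set N := Cfsg.pPrimeCore p G with hN
  haveI : N.Normal := by
    haveI := CfsgLib.Coprime.pPrimeCore_characteristic (G := G) p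
    infer_instance
  have hNp : ¬ p ∣ Nat.card N := CfsgLib.Coprime.pPrimeCore_not_dvd hp.out
  haveI : ∀ U : {H : Subgroup G // H.Normal}, U.1.Normal := fun U => U.2
  have key1 : (Cfsg.upperPSeries p G 1).1 = N := by
    rw [Cfsg.upperPSeries, if_pos Even.zero]
    exact CfsgLib.PGroup.pPrimeCore_comap_quotientBot p
  have key2 : ∀ U : {H : Subgroup G // H.Normal}, U.1 = N →
      ∀ x ∈ (Cfsg.pCore p (G ⧸ U.1)).comap (QuotientGroup.mk' U.1), ∃ k : ℕ, x ^ p ^ k ∈ N := by
    intro U hU x hx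
    obtain ⟨k, hk⟩ := CfsgLib.Coprime.pCore_isPGroup (G := G ⧸ U.1) p ⟨_, hx⟩
    refine ⟨k, hU ▸ (QuotientGroup.eq_one_iff _).1 ?_⟩
    exact congrArg Subtype.val hk
  set X := (Cfsg.upperPSeries p G 2).1 with hX
  haveI : X.Normal := (Cfsg.upperPSeries p G 2).2
  have hXmem : ∀ x ∈ X, ∃ k : ℕ, x ^ p ^ k ∈ N := by
    intro x hx
    rw [hX, Cfsg.upperPSeries, if_neg (by decide)] at hx
    exact key2 _ key1 x hx
  have hXidx : ¬ p ∣ X.index := by
    have h3 : (Cfsg.pPrimeCore p (G ⧸ X)).comap (QuotientGroup.mk' X) = ⊤ := by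
      have := h
      unfold Cfsg.PLengthLE at this
      rw [Cfsg.upperPSeries, if_pos (by decide)] at this
      exact this
    have h4 : Cfsg.pPrimeCore p (G ⧸ X) = ⊤ :=
      Subgroup.comap_injective (QuotientGroup.mk'_surjective X) (h3.trans (Subgroup.comap_top _).symm)
    have h5 := CfsgLib.Coprime.pPrimeCore_not_dvd (G := G ⧸ X) hp.out
    rw [h4, Subgroup.card_top] at h5
    rwa [Subgroup.index_eq_card]
  have hPX : (P : Subgroup G) ≤ X := by
    intro x hx
    obtain ⟨k, hk⟩ := P.2.map (QuotientGroup.mk' X) ⟨_, Subgroup.mem_map_of_mem _ hx⟩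
    have h1 : orderOf (x : G ⧸ X) ∣ p ^ k := orderOf_dvd_of_pow_eq_one (congrArg Subtype.val hk)
    have h2 : orderOf (x : G ⧸ X) ∣ X.index := by rw [Subgroup.index_eq_card]; exact orderOf_dvd_natCard _
    rw [← QuotientGroup.eq_one_iff, ← orderOf_eq_one_iff]
    exact Nat.eq_one_of_dvd_coprimes ((hp.out.coprime_iff_not_dvd.2 hXidx).pow_left k) h1 h2
  have hsup : Subgroup.normalizer ((P : Subgroup G) : Set G) ⊔ N = ⊤ := by
    rw [eq_top_iff, ← Sylow.normalizer_sup_eq_top' P hPX]
    refine sup_le le_sup_left fun x hx => ?_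
    obtain ⟨k, hk⟩ := hXmem x hx
    set H := (P : Subgroup G) ⊔ N
    have hHX : H ≤ X := sup_le hPX (by
      rw [hX, Cfsg.upperPSeries, if_neg (by decide)]
      intro y hy
      rw [Subgroup.mem_comap]
      have : (y : G ⧸ (Cfsg.upperPSeries p G 1).1) = 1 := (QuotientGroup.eq_one_iff y).2 (key1 ▸ hy)
      rw [QuotientGroup.mk'_apply, this]
      exact one_mem _)
    have hmap : Subgroup.map (QuotientGroup.mk' N) X ≤ (P : Subgroup G).map (QuotientGroup.mk' N) := by
      have hPN : IsPGroup p (X.map (QuotientGroup.mk' N)) := by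
        rintro ⟨_, y, hy, rfl⟩
        obtain ⟨j, hj⟩ := hXmem y hy
        refine ⟨j, Subtype.ext ?_⟩
        show (QuotientGroup.mk' N y) ^ p ^ j = 1
        rw [← map_pow]
        exact (QuotientGroup.eq_one_iff _).2 hj
      exact (le_of_eq ((P.mapSurjective (QuotientGroup.mk'_surjective N)).3 hPN (Subgroup.map_mono hPX)))
    obtain ⟨y, hy, hyx⟩ := hmap (Subgroup.mem_map_of_mem _ hx)
    have hd : y⁻¹ * x ∈ N := QuotientGroup.eq.1 hyx
    rw [show x = y * (y⁻¹ * x) by group]
    exact Subgroup.mul_mem_sup (Subgroup.le_normalizer hy) hd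
  have hker : ∀ z ∈ N, (χ : G → ℂ) z = (χ : G → ℂ) 1 := fun z hz => by
    letI := Fintype.ofFinite N
    letI := Fintype.ofFinite (G ⧸ N)
    letI := Classical.decEq (G ⧸ N)
    obtain ⟨θ, -, hθ⟩ := PrincipalCore.exists_inflQ_eq hM hNp hχ
    rw [← hθ, Cyclic.inflQ_apply, Cyclic.inflQ_apply, (QuotientGroup.eq_one_iff z).2 hz]
    rfl
  obtain ⟨d, ρ, hρ, hχρ⟩ := χ.2
  have h1 : ∀ z ∈ N, ρ z = 1 := fun z hz =>
    (CfsgLib.Char.char_eq_degree_iff ρ z).1 (by
      rw [hχρ, hker z hz, ← hχρ, Representation.char_one])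
  set NP := Subgroup.normalizer ((P : Subgroup G) : Set G)
  refine ⟨d, ρ.comp NP.subtype, ?_, by rw [← hχρ]; rfl⟩
  let e : Subrepresentation ρ ≃o Subrepresentation (ρ.comp NP.subtype) :=
    { toFun := fun S => ⟨S.toSubmodule, fun g v hv => S.apply_mem_toSubmodule (g : G) hv⟩
      invFun := fun S => ⟨S.toSubmodule, fun g v hv => by
        obtain ⟨a, ha, b, hb, rfl⟩ := Subgroup.mem_sup_of_normal_right.1
          (show g ∈ NP ⊔ N by rw [hsup]; exact Subgroup.mem_top g)
        rw [map_mul, h1 b hb, mul_one]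
        exact S.apply_mem_toSubmodule ⟨a, ha⟩ hv⟩
      left_inv := fun S => rfl
      right_inv := fun S => rfl
      map_rel_iff' := Iff.rfl }
  haveI := hρ
  exact e.symm.isSimpleOrder

private theorem pLength_one (hM : IsPModular p M) (P : Sylow p G)
    (h : ∀ χ ∈ principalBlock M G, IsIrrCharacter ↥(Subgroup.normalizer ((P : Subgroup G) : Set G))
      (fun n : ↥(Subgroup.normalizer ((P : Subgroup G) : Set G)) => (χ : G → ℂ) n)) :
    Cfsg.PLengthLE p 1 G := by
  classical
  set N := Cfsg.pPrimeCore p G with hN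
  haveI : N.Normal := by
    haveI := CfsgLib.Coprime.pPrimeCore_characteristic (G := G) p
    infer_instance
  set B := univ.filter (fun χ : IrrCharacter G => χ ∈ principalBlock M G) with hB
  have hBu : IsBlockUnion M (principalBlock M G) := .of_isPBlock isPBlock_principalBlock
  have horth : ∀ g u : G, ¬ p ∣ orderOf g → p ∣ orderOf u →
      ∑ χ ∈ B, (χ : G → ℂ) u * conj ((χ : G → ℂ) g) = 0 := by
    intro g u hg hu
    have h1 := congrArg (starRingEnd ℂ) (blockUnion_orthogonal_regular_singular hM hBu hg hu)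
    rw [finsum_mem_eq_toFinset_sum, map_sum, map_zero] at h1
    refine Eq.trans (sum_congr (by ext; simp [hB]) fun χ _ => ?_) h1
    rw [map_mul, Complex.conj_conj, mul_comm]
  -- the common kernel
  let R : Subgroup G :=
    { carrier := {z | ∀ χ ∈ B, ∀ y : G, (χ : G → ℂ) (z * y) = (χ : G → ℂ) y}
      one_mem' := fun χ _ y => by rw [one_mul]
      mul_mem' := fun {a b} ha hb χ hχ y => by rw [mul_assoc, ha χ hχ, hb χ hχ]
      inv_mem' := fun {a} ha χ hχ y => by rw [← ha χ hχ (a⁻¹ * y), mul_inv_cancel_left] }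
  haveI : R.Normal := ⟨fun z hz g χ hχ y => by
    have hc := Char.isClassFunction_irr χ
    calc (χ : G → ℂ) (g * z * g⁻¹ * y) = (χ : G → ℂ) (g * (z * (g⁻¹ * y * g)) * g⁻¹) := by
          congr 1; group
      _ = (χ : G → ℂ) (g⁻¹ * y * g⁻¹⁻¹) := by rw [hc, hz χ hχ, inv_inv]
      _ = (χ : G → ℂ) y := hc _ _⟩
  have hRp : ¬ p ∣ Nat.card R := by
    intro hd
    obtain ⟨z, hz⟩ := exists_prime_orderOf_dvd_card' (G := R) p hd
    have h0 := horth 1 z (by rw [orderOf_one]; exact fun e => hp.out.ne_one (Nat.dvd_one.1 e))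
      (by rw [Subgroup.orderOf_coe, hz])
    choose deg hdeg using fun χ : IrrCharacter G => Char.isCharacter_degree (Char.isCharacter_irr χ)
    rw [sum_congr rfl (g := fun χ : IrrCharacter G => ((deg χ * deg χ : ℕ) : ℂ)) fun χ hχ => by
      rw [show (χ : G → ℂ) (z : G) = (χ : G → ℂ) 1 by
        have := z.2 χ hχ 1; rwa [mul_one] at this, hdeg, map_natCast, Nat.cast_mul], ← Nat.cast_sum,
      Nat.cast_eq_zero, sum_eq_zero_iff] at h0
    have h1 := h0 (oneChar G) (mem_filter.2 ⟨mem_univ _, self_mem_blockOf (oneChar G)⟩)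
    exact Char.irr_one_ne_zero (oneChar G) (by rw [hdeg, mul_self_eq_zero.1 h1, Nat.cast_zero])
  have hRN : R ≤ N := CfsgLib.Coprime.le_pPrimeCore_of_not_dvd hp.out hRp
  letI := Fintype.ofFinite (P : Subgroup G)
  set NP := Subgroup.normalizer ((P : Subgroup G) : Set G) with hNP
  letI := Fintype.ofFinite NP
  have hdich : ∀ χ ∈ B, (∀ z ∈ (P : Subgroup G), (χ : G → ℂ) z = (χ : G → ℂ) 1) ∨
      ∑ z : (P : Subgroup G), (χ : G → ℂ) z = 0 := by
    intro χ hχ
    set P' := (P : Subgroup G).subgroupOf NP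
    letI := Fintype.ofFinite P'
    let e : P' ≃* (P : Subgroup G) := Subgroup.subgroupOfEquivOfLe Subgroup.le_normalizer
    rcases Char.cosetAvg_irr P' ⟨_, h χ (mem_filter.1 hχ).2⟩ with h1 | h1
    · left
      intro z hz
      have := Char.cosetAvg_mul_left P' (fun n : NP => (χ : G → ℂ) n) (e.symm ⟨z, hz⟩) 1
      rw [mul_one] at this
      have h2 : Char.cosetAvg P' (fun n : NP => (χ : G → ℂ) n) = fun n : NP => (χ : G → ℂ) n := h1
      rw [h2] at this
      exact this
    · right
      have h2 := congrFun h1 1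
      simp only [Char.cosetAvg, mul_one, Pi.zero_apply, mul_eq_zero, inv_eq_zero, Nat.cast_eq_zero,
        Nat.card_pos.ne', false_or] at h2
      rw [← h2]
      exact (Fintype.sum_equiv e.toEquiv _ _ fun z => rfl).symm
  -- the subgroup generated by the conjugates of `P`
  set K := Subgroup.normalClosure ((P : Subgroup G) : Set G) with hK
  have hKreg : ∀ g ∈ K, ¬ p ∣ orderOf g → g ∈ R := by
    intro g hg hgr
    set L := B.filter (fun χ : IrrCharacter G => ∀ z ∈ (P : Subgroup G), (χ : G → ℂ) z = (χ : G → ℂ) 1) with hL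
    have hsum : ∀ y : G, ¬ p ∣ orderOf y → ∑ χ ∈ B, (χ : G → ℂ) 1 * conj ((χ : G → ℂ) y) =
        (Nat.card (P : Subgroup G) : ℂ) * ∑ χ ∈ L, (χ : G → ℂ) 1 * conj ((χ : G → ℂ) y) := by
      intro y hy
      calc ∑ χ ∈ B, (χ : G → ℂ) 1 * conj ((χ : G → ℂ) y)
          = ∑ z : (P : Subgroup G), ∑ χ ∈ B, (χ : G → ℂ) z * conj ((χ : G → ℂ) y) := by
            refine Eq.symm ((Fintype.sum_eq_single (f := fun z : (P : Subgroup G) => ∑ χ ∈ B, (χ : G → ℂ) z * conj ((χ : G → ℂ) y)) 1 fun z hz => horth y z hy ?_).trans ?_)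
            swap
            · rfl
            · obtain ⟨k, hk⟩ := P.2 z
              obtain ⟨i, hi, he⟩ := (Nat.dvd_prime_pow hp.out).1 (orderOf_dvd_of_pow_eq_one hk)
              rw [Subgroup.orderOf_coe, he]
              refine dvd_pow_self p fun h0 => hz ?_
              rw [← orderOf_eq_one_iff, he, h0, pow_zero]
        _ = ∑ χ ∈ B, (∑ z : (P : Subgroup G), (χ : G → ℂ) z) * conj ((χ : G → ℂ) y) := by
            rw [sum_comm]; exact sum_congr rfl fun χ _ => by rw [sum_mul]
        _ = ∑ χ ∈ L, (∑ z : (P : Subgroup G), (χ : G → ℂ) z) * conj ((χ : G → ℂ) y) :=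
            (sum_subset (filter_subset _ _) fun χ hχ hχL => by
              rw [(hdich χ hχ).resolve_left fun h' => hχL (mem_filter.2 ⟨hχ, h'⟩), zero_mul]).symm
        _ = _ := by
            rw [mul_sum]
            refine sum_congr rfl fun χ hχ => ?_
            rw [Finset.sum_congr rfl fun (z : (P : Subgroup G)) _ => (mem_filter.1 hχ).2 z z.2,
              sum_const, card_univ, ← Nat.card_eq_fintype_card, nsmul_eq_mul, mul_assoc]
    have hgK : ∀ χ ∈ L, (χ : G → ℂ) g = (χ : G → ℂ) 1 := by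
      intro χ hχ
      obtain ⟨d, ρ, hρ, hχρ⟩ := χ.2
      have hle : K ≤ ρ.toHomUnits.ker := Subgroup.normalClosure_le_normal fun z hz => by
        rw [SetLike.mem_coe, MonoidHom.mem_ker]
        refine Units.ext ?_
        rw [MonoidHom.coe_toHomUnits, Units.val_one]
        refine (CfsgLib.Char.char_eq_degree_iff ρ z).1 ?_
        rw [hχρ, (mem_filter.1 hχ).2 z hz, ← hχρ, Representation.char_one]
      have h1 : ρ g = 1 := congrArg Units.val (hle hg)
      rw [← hχρ, Representation.char_one]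
      simp [Representation.character, h1]
    have heq := hsum g hgr
    rw [show ∑ χ ∈ L, (χ : G → ℂ) 1 * conj ((χ : G → ℂ) g) = ∑ χ ∈ L, (χ : G → ℂ) 1 * conj ((χ : G → ℂ) 1)
      from sum_congr rfl fun χ hχ => by rw [hgK χ hχ], ← hsum 1 (by
      rw [orderOf_one]; exact fun e => hp.out.ne_one (Nat.dvd_one.1 e))] at heq
    have hre := congrArg Complex.re heq
    simp only [Complex.re_sum] at hre
    choose deg hdeg using fun χ : IrrCharacter G => Char.isCharacter_degree (Char.isCharacter_irr χ)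
    simp only [hdeg, map_natCast, Complex.mul_re, Complex.natCast_re, Complex.natCast_im, zero_mul,
      sub_zero, Complex.conj_re] at hre
    have hle : ∀ χ ∈ B, (deg χ : ℝ) * ((χ : G → ℂ) g).re ≤ (deg χ : ℝ) * (deg χ : ℝ) := fun χ _ => by
      refine mul_le_mul_of_nonneg_left ?_ (Nat.cast_nonneg _)
      refine (Complex.re_le_norm _).trans ((norm_irr_le χ g).trans (le_of_eq ?_))
      rw [hdeg, Complex.natCast_re]
    intro χ hχ y
    obtain ⟨d, ρ, hρ, hχρ⟩ := χ.2
    have h2 := (sum_eq_sum_iff_of_le hle).1 hre χ hχ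
    have hd0 : (deg χ : ℝ) ≠ 0 := by
      simp only [Ne, Nat.cast_eq_zero]
      intro e
      exact Char.irr_one_ne_zero χ (by rw [hdeg, e, Nat.cast_zero])
    have h3 : ((χ : G → ℂ) g).re = (deg χ : ℝ) := mul_left_cancel₀ hd0 h2
    have h4 : (χ : G → ℂ) g = (χ : G → ℂ) 1 := by
      have hn := norm_irr_le χ g
      rw [hdeg, Complex.natCast_re] at hn
      have hsq := Complex.normSq_apply ((χ : G → ℂ) g)
      rw [Complex.normSq_eq_norm_sq, h3] at hsq
      have hpow : ‖(χ : G → ℂ) g‖ ^ 2 ≤ (deg χ : ℝ) ^ 2 := pow_le_pow_left₀ (norm_nonneg _) hn 2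
      have him : ((χ : G → ℂ) g).im = 0 := by nlinarith
      rw [hdeg]
      exact Complex.ext (by rw [h3, Complex.natCast_re]) (by rw [him, Complex.natCast_im])
    have h5 : ρ g = 1 := (CfsgLib.Char.char_eq_degree_iff ρ g).1 (by
      rw [hχρ, h4, ← hχρ, Representation.char_one])
    rw [← hχρ]
    simp [Representation.character, h5]
  refine CfsgLib.PGroup.pLengthLE_one_of_not_dvd ?_
  have hKp : IsPGroup p (K.map (QuotientGroup.mk' N)) := by
    rintro ⟨_, g, hg, rfl⟩
    obtain ⟨x, y, hxy, hcomm, ⟨k, hk⟩, hy⟩ := exists_isPPart (p := p) hp.out g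
    refine ⟨k, Subtype.ext ?_⟩
    show (QuotientGroup.mk' N g) ^ p ^ k = 1
    rw [← map_pow]
    refine (QuotientGroup.eq_one_iff _).2 (hRN (hKreg _ (K.pow_mem hg _) ?_))
    rw [← hxy, hcomm.mul_pow, ← hk, pow_orderOf_eq_one, one_mul]
    exact fun hd => hy (hd.trans (orderOf_pow_dvd _))
  haveI : (K.map (QuotientGroup.mk' N)).Normal :=
    Subgroup.Normal.map Subgroup.normalClosure_normal _ (QuotientGroup.mk'_surjective N)
  have h1 : ((P : Subgroup G).map (QuotientGroup.mk' N)) ≤ Cfsg.pCore p (G ⧸ N) :=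
    (Subgroup.map_mono Subgroup.subset_normalClosure).trans (CfsgLib.Coprime.le_pCore hKp)
  exact fun hd => (P.mapSurjective (QuotientGroup.mk'_surjective N)).not_dvd_index
    (hd.trans (Subgroup.index_dvd_of_le h1))

end

/-- Let p be a prime, M a maximal ideal of the algebraic integers containing p, G a finite group, P a Sylow p-subgroup and N = N_G(P). Then G has p-length 1 (G = O_{p',p,p'}(G)) if and only if every irreducible character in the principal p-block of G restricts to an irreducible character of N. -/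
theorem result {G : Type*} [Group G] [Finite G] (p : ℕ) [Fact p.Prime] (M : Ideal Cfsg.AlgInt) (hM : Cfsg.IsPModular p M) (P : Sylow p G) : Cfsg.PLengthLE p 1 G ↔ ∀ χ ∈ Cfsg.principalBlock M G, Cfsg.IsIrrCharacter ↥(Subgroup.normalizer ((P : Subgroup G) : Set G)) (fun n : ↥(Subgroup.normalizer ((P : Subgroup G) : Set G)) => (χ : G → ℂ) n) := by
  haveI := hM.2.1
  classical
  haveI := Fintype.ofFinite G
  haveI := Fintype.ofFinite (Cfsg.IrrCharacter G)
  haveI := Fintype.ofFinite (ConjClasses G)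
  exact ⟨fun h χ hχ => irreducible_restrict p hM P h χ hχ, fun h => pLength_one p hM P h⟩

end Cfsg.Agent.S4711
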