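import Cfsg.Statements.S4712
import Cfsg.Agent.Lib.Block.TwistTrace
import Cfsg.Agent.Lib.Block.Subsection
import Cfsg.Agent.Lib.Char.PowTwist

set_option autoImplicit false
open Cfsg

namespace Cfsg.Agent.S4712

section
open CfsgLib CfsgLib.Block Finset
open scoped ComplexConjugate

universe u

variable {p : ℕ} {M : Ideal AlgInt} [M.IsMaximal] {G : Type u} [Group G] [Fintype G] [DecidableEq G]
  [Fintype (IrrCharacter G)]

private theorem section_nat [∀ H : Subgroup G, Fintype H] (hM : IsPModular p M) {B : Set (IrrCharacter G)}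
    [DecidablePred (· ∈ B)] (hB : IsPBlock M B) {k : ℕ} (hk : Nat.Coprime k (Nat.card G))
    (hk1 : k ≡ 1 [MOD ordCompl[p] (Nat.card G)]) {x : G} (hxp : ∃ e : ℕ, orderOf x = p ^ e)
    (π : G → G) (hπ : ∀ g, IsPPart p g (π g)) :
    ∃ n : ℕ, ∑ g ∈ univ.filter (fun g => π g = x),
      (∑ χ ∈ univ.filter (· ∈ B), (χ : G → ℂ) (g ^ k) * conj ((χ : G → ℂ) g)) = (n : ℂ) := by
  classical
  have hp := hM.1
  set C := Subgroup.centralizer ({x} : Set G) with hCdef
  have hC : ∀ t : G, t ∈ C ↔ Commute t x := fun t => Subgroup.mem_centralizer_singleton_iff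
  have hC' : ∀ t : C, Commute (t : G) x := fun t => (hC t).mp t.2
  have := Fintype.ofFinite (IrrCharacter C)
  obtain ⟨e, he⟩ := hxp
  have hset : univ.filter (fun g => π g = x) =
      (univ.filter (fun y : C => ¬ p ∣ orderOf y)).image fun y : C => x * (y : G) := by
    ext g
    simp only [mem_filter, mem_univ, true_and, mem_image]
    constructor
    · rintro rfl
      obtain ⟨y, hxy, hcom, -, hy⟩ := hπ g
      exact ⟨⟨y, (hC y).mpr hcom.symm⟩, by rwa [← Subgroup.orderOf_coe], hxy⟩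
    · rintro ⟨y, hy, rfl⟩
      exact isPPart_unique hp (hπ _) (isPPart_secElt he hC' hy)
  have hreg : ∀ y : C, ¬ p ∣ orderOf y → (y : G) ^ k = y := fun y hy =>
    BrauerChars.pow_regExp_of_regular hp hk1 (by rwa [Subgroup.orderOf_coe])
  have hkx : orderOf (x ^ k) = p ^ e := by
    rw [Nat.Coprime.orderOf_pow, he]
    exact (hk.coprime_dvd_right (orderOf_dvd_natCard x)).symm
  have hpow : ∀ y : C, ¬ p ∣ orderOf y → (x * (y : G)) ^ k = x ^ k * y := fun y hy => by
    rw [(hC' y).symm.mul_pow, hreg y hy]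
  rw [hset, sum_image fun a _ b _ h => Subtype.ext (mul_left_cancel h)]
  by_cases hconj : IsConj x (x ^ k)
  · obtain ⟨h, hh⟩ := isConj_iff.mp hconj
    have hσ : ∀ t : C, h⁻¹ * (t : G) * h ∈ C := fun t => (hC _).2 (by
      have h1 : Commute (t : G) (h * x * h⁻¹) := hh ▸ (hC' t).pow_right k
      have h2 := h1.eq
      show h⁻¹ * (t : G) * h * x = x * (h⁻¹ * (t : G) * h)
      calc h⁻¹ * (t : G) * h * x = h⁻¹ * ((t : G) * (h * x * h⁻¹)) * h := by group
        _ = h⁻¹ * (h * x * h⁻¹ * (t : G)) * h := by rw [h2]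
        _ = x * (h⁻¹ * (t : G) * h) := by group)
    let f : C →* C := MonoidHom.mk' (fun t => ⟨h⁻¹ * (t : G) * h, hσ t⟩) fun a b =>
      Subtype.ext (show h⁻¹ * ((a : G) * b) * h = h⁻¹ * (a : G) * h * (h⁻¹ * (b : G) * h) by group)
    have hinj : Function.Injective f := fun a b hab => by
      have := congrArg Subtype.val hab
      exact Subtype.ext (mul_left_cancel (mul_right_cancel this))
    let σ : C ≃* C := MulEquiv.ofBijective f (Finite.injective_iff_bijective.mp hinj)
    have hσv : ∀ y : C, ((σ y : C) : G) = h⁻¹ * (y : G) * h := fun y => rfl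
    let T : Finset (Set (IrrCharacter C)) := univ.filter (fun b => IsInducedBlock M C b B)
    have hT : ∀ b, b ∈ T ↔ IsInducedBlock M C b B := fun b => by simp [T]
    have htr : ∀ b : Set (IrrCharacter C), ∃ n : ℕ, b ∈ T →
        ∑ y ∈ univ.filter (fun y : C => ¬ p ∣ orderOf y), ∑ᶠ η ∈ b,
          (η : C → ℂ) (σ y) * conj ((η : C → ℂ) y) = (n : ℂ) := by
      intro b
      by_cases hb : b ∈ T
      · obtain ⟨n, hn⟩ := TwistTrace.twist_trace_nat hM σ ((hT b).mp hb).1
        refine ⟨Nat.card C * n, fun _ => ?_⟩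
        rw [Nat.cast_mul, ← hn, sum_comm (s := univ.filter (· ∈ b))]
        refine sum_congr rfl fun y _ => ?_
        rw [finsum_mem_eq_toFinset_sum]
        exact sum_congr (by ext; simp) fun _ _ => rfl
      · exact ⟨0, fun h => absurd h hb⟩
    choose n hn using htr
    refine ⟨∑ b ∈ T, n b, ?_⟩
    rw [Nat.cast_sum, ← sum_congr rfl (fun b hb => hn b hb), sum_comm (s := T)]
    refine sum_congr rfl fun y hy => ?_
    have hy' : ¬ p ∣ orderOf y := (mem_filter.mp hy).2
    have hσy : ¬ p ∣ orderOf (σ y) := by rwa [MulEquiv.orderOf_eq]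
    rw [← sum_mem_block_secFun hM ⟨e, he⟩ hC hB T hT hσy hy']
    refine sum_congr rfl fun χ _ => ?_
    rw [hpow y hy', ← hh, show h * x * h⁻¹ * (y : G) = h * (x * ((σ y : C) : G)) * h⁻¹ by
      rw [hσv]; group, Char.isClassFunction_irr χ]
  · refine ⟨0, ?_⟩
    rw [Nat.cast_zero]
    refine sum_eq_zero fun y hy => ?_
    have hy' : ¬ p ∣ orderOf y := (mem_filter.mp hy).2
    have := blockUnion_orthogonal_conj hM (.of_isPBlock hB) (g := x ^ k * (y : G)) (h := x * (y : G))
      (x := x ^ k) (x' := x) ⟨(y : G), rfl, ((hC' y).symm.pow_left k), ⟨e, hkx⟩,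
        by rwa [Subgroup.orderOf_coe]⟩ (isPPart_secElt he hC' hy') fun hc => hconj hc.symm
    rw [finsum_mem_eq_toFinset_sum] at this
    rw [hpow y hy', ← this]
    exact sum_congr (by ext; simp) fun _ _ => rfl

private theorem rank_le_fixed (hM : IsPModular p M) {B : Set (IrrCharacter G)}
    (hB : IsPBlock M B) {k : ℕ} (hk : Nat.Coprime k (Nat.card G))
    (hk1 : k ≡ 1 [MOD ordCompl[p] (Nat.card G)]) :
    blockRank p B ≤ Nat.card {χ : IrrCharacter G // χ ∈ B ∧ ∀ g : G, (χ : G → ℂ) (g ^ k) = (χ : G → ℂ) g} := by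
  classical
  have hp := hM.1
  have := Fintype.ofFinite (ConjClasses G)
  haveI : ∀ H : Subgroup G, Fintype H := fun H => Fintype.ofFinite H
  choose π hπ using fun g : G => exists_isPPart (p := p) hp g
  have hπp : ∀ g, ∃ e : ℕ, orderOf (π g) = p ^ e := fun g => by
    obtain ⟨y, -, -, he, -⟩ := hπ g
    exact he
  set F : G → ℂ := fun g => ∑ χ ∈ univ.filter (· ∈ B), (χ : G → ℂ) (g ^ k) * conj ((χ : G → ℂ) g)
    with hF
  have hfix : ∀ χ : IrrCharacter G, ∑ g : G, (χ : G → ℂ) (g ^ k) * conj ((χ : G → ℂ) g) =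
      if (∀ g : G, (χ : G → ℂ) (g ^ k) = (χ : G → ℂ) g) then (Nat.card G : ℂ) else 0 := by
    intro χ
    let χ' : IrrCharacter G := ⟨_, Char.isIrrCharacter_powMap hk.symm χ⟩
    have h1 := Char.classInner_irr χ' χ
    rw [classInner, inv_mul_eq_iff_eq_mul₀ (Nat.cast_ne_zero.mpr Nat.card_pos.ne')] at h1
    rw [h1]
    by_cases h : χ' = χ
    · rw [if_pos h, mul_one, if_pos fun g => congrFun (congrArg Subtype.val h) g]
    · rw [if_neg h, mul_zero, if_neg fun h' => h (Subtype.ext (funext h'))]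
  have hsum : ∑ g : G, F g = (Nat.card G : ℂ) *
      (Nat.card {χ : IrrCharacter G // χ ∈ B ∧ ∀ g : G, (χ : G → ℂ) (g ^ k) = (χ : G → ℂ) g} : ℂ) := by
    rw [hF, sum_comm, sum_congr rfl (fun χ _ => hfix χ), sum_ite, sum_const_zero, add_zero,
      sum_const, nsmul_eq_mul, mul_comm, filter_filter]
    simp only [Nat.card_eq_fintype_card, Fintype.card_subtype]
  have h1 : ∑ g ∈ univ.filter (fun g => π g = 1), F g =
      ((Nat.card G * blockRank p B : ℕ) : ℂ) := by
    rw [Nat.cast_mul, blockRank_eq_sum_regInner hM (.of_isPBlock hB), mul_sum, hF, sum_comm]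
    refine sum_congr rfl fun χ _ => ?_
    rw [card_mul_regInner]
    refine sum_congr (filter_congr fun g _ => ⟨fun h => not_dvd_of_isPPart_one (h ▸ hπ g),
      fun h => isPPart_unique hp (hπ g) (isPPart_one_of_not_dvd h)⟩) fun g hg => ?_
    rw [BrauerChars.pow_regExp_of_regular hp hk1 (mem_filter.mp hg).2, Char.irr_inv]
  have hfib : ∀ x : G, ∃ n : ℕ, ∑ g ∈ univ.filter (fun g => π g = x), F g = (n : ℂ) := by
    intro x
    by_cases hxp : ∃ e : ℕ, orderOf x = p ^ e
    · exact section_nat hM hB hk hk1 hxp π hπ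
    · refine ⟨0, ?_⟩
      rw [filter_eq_empty_iff.2 fun g _ (hg : π g = x) => hxp (hg ▸ hπp g), sum_empty, Nat.cast_zero]
  choose n hn using hfib
  have h2 : n 1 = Nat.card G * blockRank p B := by
    have := (hn 1).symm.trans h1
    exact_mod_cast this
  rw [← sum_fiberwise univ π F, sum_congr rfl fun x _ => hn x, ← Nat.cast_sum, ← Nat.cast_mul,
    Nat.cast_inj] at hsum
  have h3 : n 1 ≤ ∑ x : G, n x := single_le_sum (fun _ _ => Nat.zero_le _) (mem_univ 1)
  rw [hsum, h2] at h3
  exact Nat.le_of_mul_le_mul_left h3 Nat.card_pos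

end

/-- Let p be an odd prime, M a maximal ideal of the algebraic integers containing p, G a finite group of order n with p-part p^a, and B a p-block of G. Call an irreducible character χ p-rational when χ(g^k) = χ(g) for every g and every k coprime to n with k ≡ 1 modulo n/p^a (χ is fixed by the Galois automorphisms fixing the roots of unity of order prime to p). Then the number of p-rational irreducible characters in B is at least the p-regular rank of B (the number of irreducible Brauer characters in B). -/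
theorem result {G : Type*} [Group G] [Finite G] (p : ℕ) [Fact p.Prime] (hodd : p ≠ 2) (M : Ideal Cfsg.AlgInt) (hM : Cfsg.IsPModular p M) (B : Set (Cfsg.IrrCharacter G)) (hB : Cfsg.IsPBlock M B) : Cfsg.blockRank p B ≤ Nat.card {χ : Cfsg.IrrCharacter G // χ ∈ B ∧ ∀ k : ℕ, Nat.Coprime k (Nat.card G) → k ≡ 1 [MOD Nat.card G / p ^ (Nat.card G).factorization p] → ∀ g : G, (χ : G → ℂ) (g ^ k) = (χ : G → ℂ) g} := by
  haveI := hM.2.1
  classical
  haveI := Fintype.ofFinite G
  haveI := Fintype.ofFinite (IrrCharacter G)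
  have hp : p.Prime := Fact.out
  set a := (Nat.card G).factorization p with ha
  haveI : NeZero (p ^ a) := ⟨(pow_pos hp.pos a).ne'⟩
  haveI := ZMod.isCyclic_units_of_prime_pow p hp hodd a
  obtain ⟨u, hu⟩ := IsCyclic.exists_generator (α := (ZMod (p ^ a))ˣ)
  have hcop : (p ^ a).Coprime (ordCompl[p] (Nat.card G)) :=
    (Nat.coprime_ordCompl hp Nat.card_pos.ne').pow_left a
  obtain ⟨k0, hk0, hk01⟩ := Nat.chineseRemainder hcop (ZMod.val (u : ZMod (p ^ a))) 1
  have hmul : p ^ a * ordCompl[p] (Nat.card G) = Nat.card G := Nat.ordProj_mul_ordCompl_eq_self _ _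
  have hk0c : Nat.Coprime k0 (Nat.card G) := by
    rw [← hmul]
    refine Nat.Coprime.mul_right ?_ ?_
    · rw [Nat.Coprime, hk0.gcd_eq]
      exact ZMod.val_coe_unit_coprime u
    · rw [Nat.Coprime, hk01.gcd_eq]
      exact Nat.gcd_one_left _
  refine (rank_le_fixed hM hB hk0c hk01).trans (Nat.card_le_card_of_injective
    (fun χ => ⟨χ.1, χ.2.1, fun k hk hk1 g => ?_⟩) fun χ χ' h => Subtype.ext (congrArg Subtype.val h :))
  have hfix : ∀ (j : ℕ) (g : G), (χ.1 : G → ℂ) (g ^ k0 ^ j) = (χ.1 : G → ℂ) g := by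
    intro j
    induction j with
    | zero => simp
    | succ j ih => intro g; rw [pow_succ', pow_mul, ih, χ.2.2]
  have hkp : k.Coprime (p ^ a) := hk.coprime_dvd_right (Dvd.intro _ hmul)
  obtain ⟨j, hj⟩ := mem_powers_iff_mem_zpowers.2 (hu (ZMod.unitOfCoprime k hkp))
  have hjk : k ≡ k0 ^ j [MOD p ^ a] := by
    rw [← ZMod.natCast_eq_natCast_iff, Nat.cast_pow]
    have h1 : ((k0 : ℕ) : ZMod (p ^ a)) = (u : ZMod (p ^ a)) := by
      rw [← ZMod.natCast_zmod_val (u : ZMod (p ^ a)), ZMod.natCast_eq_natCast_iff]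
      exact hk0
    rw [h1, ← Units.val_pow_eq_pow_val, show u ^ j = _ from hj, ZMod.coe_unitOfCoprime]
  have hjm : k ≡ k0 ^ j [MOD ordCompl[p] (Nat.card G)] := by
    refine hk1.trans ?_
    have := (hk01.pow j).symm
    rwa [one_pow] at this
  have hmod : k ≡ k0 ^ j [MOD Nat.card G] := by
    rw [← hmul]
    exact (Nat.modEq_and_modEq_iff_modEq_mul hcop).1 ⟨hjk, hjm⟩
  rw [show g ^ k = g ^ (k0 ^ j) from pow_eq_pow_iff_modEq.2 (hmod.of_dvd (orderOf_dvd_natCard g))]
  exact hfix j g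

end Cfsg.Agent.S4712
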