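import Cfsg.Statements.S4714
import Cfsg.Agent.Lib.Block.CentralizedDefect

/-!
# S4714: blocks with a centralized defect group
-/

set_option autoImplicit false
open Cfsg

namespace Cfsg.Agent.S4714

open CfsgLib CfsgLib.Block

/-- Let p be a prime, M a maximal ideal of the algebraic integers containing p, D a p-subgroup of the finite group G with G = D·C_G(D), and B a p-block with defect group D. Let χ be a member of B having D in its kernel (there is exactly one, the canonical character of B). Then the irreducible characters in B are exactly the functions θ on G for which there is an irreducible character ζ of D such that θ(yx) = ζ(y)χ(x) whenever y ∈ D, x has order prime to p and x commutes with y, and θ(z) = 0 whenever the p-part of z does not lie in D. -/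
theorem result {G : Type*} [Group G] [Finite G] (p : ℕ) [Fact p.Prime] (M : Ideal Cfsg.AlgInt) (hM : Cfsg.IsPModular p M) (D : Subgroup G) (hD : IsPGroup p D) (hG : D ⊔ Subgroup.centralizer (D : Set G) = ⊤) (B : Set (Cfsg.IrrCharacter G)) (hB : Cfsg.IsPBlock M B) (hBD : Cfsg.IsDefectGroup p M B D) (χ : Cfsg.IrrCharacter G) (hχ : χ ∈ B) (hχD : ∀ y ∈ D, (χ : G → ℂ) y = (χ : G → ℂ) 1) : (∀ θ : Cfsg.IrrCharacter G, θ ∈ B ↔ ∃ ζ : Cfsg.IrrCharacter D, (∀ (y : D) (x : G), ¬ p ∣ orderOf x → Commute (y : G) x → (θ : G → ℂ) ((y : G) * x) = (ζ : D → ℂ) y * (χ : G → ℂ) x) ∧ (∀ z : G, (∀ y : G, Cfsg.IsPPart p z y → y ∉ D) → (θ : G → ℂ) z = 0)) ∧ ∀ ζ : Cfsg.IrrCharacter D, ∃ θ ∈ B, (∀ (y : D) (x : G), ¬ p ∣ orderOf x → Commute (y : G) x → (θ : G → ℂ) ((y : G) * x) = (ζ : D → ℂ) y * (χ : G → ℂ) x) ∧ (∀ z : G, (∀ y : G, Cfsg.IsPPart p z y → y ∉ D) → (θ : G → ℂ) z = 0) := by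
  classical
  have := hM.2.1
  letI := Fintype.ofFinite G
  letI := Fintype.ofFinite D
  have hall : ∀ θ ∈ B, ∀ ζ : IrrCharacter D,
      classInner (fun y : D => (θ : G → ℂ) y) (ζ : D → ℂ) ≠ 0 →
      (∀ (y : D) (x : G), ¬ p ∣ orderOf x → Commute (y : G) x →
          (θ : G → ℂ) ((y : G) * x) = (ζ : D → ℂ) y * (χ : G → ℂ) x) ∧
        ∀ z : G, (∀ y : G, IsPPart p z y → y ∉ D) → (θ : G → ℂ) z = 0 := fun θ hθ ζ h => by
    obtain ⟨h1, h2⟩ := CentralizedDefect.member_value hM hD hG hB hBD hχ hχD hθ h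
    exact ⟨fun y x hx _ => h1 y x hx, h2⟩
  have hex : ∀ ζ : IrrCharacter D, ∃ θ ∈ B, (∀ (y : D) (x : G), ¬ p ∣ orderOf x →
      Commute (y : G) x → (θ : G → ℂ) ((y : G) * x) = (ζ : D → ℂ) y * (χ : G → ℂ) x) ∧
        ∀ z : G, (∀ y : G, IsPPart p z y → y ∉ D) → (θ : G → ℂ) z = 0 := fun ζ => by
    obtain ⟨θ, hθ, h⟩ := CentralizedDefect.exists_member_over hM hD hB ζ
    exact ⟨θ, hθ, hall θ hθ ζ h⟩
  refine ⟨fun θ => ⟨fun hθ => ?_, ?_⟩, hex⟩
  · obtain ⟨ζ, hζ⟩ := CentralizedDefect.exists_constituent (D := D) θ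
    exact ⟨ζ, hall θ hθ ζ hζ⟩
  · rintro ⟨ζ, h1, h2⟩
    obtain ⟨θ', hθ', h1', h2'⟩ := hex ζ
    suffices θ = θ' from this ▸ hθ'
    refine Subtype.ext (funext fun g => ?_)
    by_cases hg : ∃ y ∈ D, IsPPart p g y
    · obtain ⟨y, hy, x, hxy, hc, -, hx⟩ := hg
      subst hxy
      rw [h1 ⟨y, hy⟩ x hx hc, h1' ⟨y, hy⟩ x hx hc]
    · have hg' : ∀ y : G, IsPPart p g y → y ∉ D := fun y hy hyD => hg ⟨y, hyD, hy⟩
      rw [h2 g hg', h2' g hg']

end Cfsg.Agent.S4714
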