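import Cfsg.Statements.S4715
import Cfsg.Agent.Lib.Block.HeightCenter

set_option autoImplicit false
open Cfsg CfsgLib.Block
open scoped CfsgLib.Block.Pair

namespace Cfsg.Agent.S4715

/-- Let p be a prime, M a maximal ideal of the algebraic integers containing p, B a p-block of the finite group G with defect group D of order p^d, H = D·C_G(D), b a block of H inducing B, T the stabilizer of b in N_G(D) and e = [T : H] the inertial index of B; let n be the integer with p^n ≤ e < p^(n+1) and p^c the order of the centre of D. Then every irreducible character in B has height h with h + c ≤ n + d. -/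
theorem result {G : Type*} [Group G] [Finite G] (p : ℕ) [Fact p.Prime] (M : Ideal Cfsg.AlgInt) (hM : Cfsg.IsPModular p M) (B : Set (Cfsg.IrrCharacter G)) (hB : Cfsg.IsPBlock M B) (D : Subgroup G) (hBD : Cfsg.IsDefectGroup p M B D) (d : ℕ) (hDd : Nat.card D = p ^ d) (H : Subgroup G) (hH : H = D ⊔ Subgroup.centralizer (D : Set G)) (b : Set (Cfsg.IrrCharacter H)) (hind : Cfsg.IsInducedBlock M H b B) (T : Subgroup G) (hT : ∀ g : G, g ∈ T ↔ (g ∈ Subgroup.normalizer (D : Set G) ∧ ∀ θ ∈ b, ∀ θ' : Cfsg.IrrCharacter H, (∀ h h' : H, (h' : G) = g * h * g⁻¹ → (θ' : H → ℂ) h' = (θ : H → ℂ) h) → θ' ∈ b)) (e : ℕ) (he : H.relIndex T = e) (n : ℕ) (hn : p ^ n ≤ e ∧ e < p ^ (n + 1)) (c : ℕ) (hc : Nat.card (Subgroup.center D) = p ^ c) : ∀ χ ∈ B, Cfsg.blockHeight p B (χ : G → ℂ) + c ≤ n + d := by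
  classical
  have := hM.2.1
  letI := Fintype.ofFinite G
  have := Fintype.ofFinite (IrrCharacter G)
  have hP : IsPGroup p D := IsPGroup.of_card hDd
  obtain ⟨f, hpair, hst⟩ := exists_pair_of_sup_block hM hP hH hind
  have hmax : IsMaximalBrauerPair p M B D f := by
    obtain ⟨D', d', hd', hle⟩ := exists_maximal_above hM D f hpair
    obtain rfl : D = D' := Subgroup.eq_of_le_of_card_ge (SubpairLE.le hle) (by
      rw [defectGroup_card hM hB (isDefectGroup_of_maximal hM hd'), defectGroup_card hM hB hBD])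
    rwa [SubpairLE.eq_of_eq hM hle]
  have hT' : ∀ g, g ∈ T ↔ g ∈ Subgroup.normalizer (D : Set G) ∧ StabilizesBlock (CQ D) f g :=
    fun g => (hT g).trans (and_congr_right fun hg => (hst g hg).symm)
  intro χ hχ
  have hmain := pow_height_mul_card_center_le hM hmax hT' hχ
  have hd : blockDefect p B = d :=
    Nat.pow_right_injective hM.1.two_le ((defectGroup_card hM hB hBD).symm.trans hDd)
  rw [hd, hc, show D ⊔ CQ D = H from hH.symm, he, ← pow_add] at hmain
  have hlt : p ^ (blockHeight p B (χ : G → ℂ) + c) < p ^ (n + 1 + d) :=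
    hmain.trans_lt (by
      rw [pow_add p (n + 1) d]
      exact Nat.mul_lt_mul_of_pos_right hn.2 (pow_pos hM.1.pos d))
  have := (Nat.pow_lt_pow_iff_right hM.1.one_lt).mp hlt
  omega

end Cfsg.Agent.S4715
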