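import Cfsg.Statements.S4717
import Cfsg.Agent.Lib.Block.Deficiency
import Cfsg.Agent.Lib.Block.Subsection
-- import your own Cfsg.Agent.* helpers here

set_option autoImplicit false
open Cfsg CfsgLib.Block

open Cfsg

namespace Cfsg.Agent.S4717

/-- Let p be a prime, M a maximal ideal of the algebraic integers containing p, and r a natural number; say that a finite group X has deficiency class r when X has no non-principal p-block of defect ≥ r. If G has deficiency class r then so does the centralizer of every p-element of G; conversely, if r > 0 and the centralizer of every element of order p has deficiency class r, then G has deficiency class r. -/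
theorem result {G : Type*} [Group G] [Finite G] (p : ℕ) [Fact p.Prime] (M : Ideal Cfsg.AlgInt) (hM : Cfsg.IsPModular p M) (r : ℕ) : ((∀ B' : Set (Cfsg.IrrCharacter G), Cfsg.IsPBlock M B' → B' ≠ Cfsg.principalBlock M G → Cfsg.blockDefect p B' < r) → ∀ y : G, (∃ k : ℕ, orderOf y = p ^ k) → (∀ B' : Set (Cfsg.IrrCharacter ↥(Subgroup.centralizer ({y} : Set G))), Cfsg.IsPBlock M B' → B' ≠ Cfsg.principalBlock M ↥(Subgroup.centralizer ({y} : Set G)) → Cfsg.blockDefect p B' < r)) ∧ (0 < r → (∀ y : G, orderOf y = p → (∀ B' : Set (Cfsg.IrrCharacter ↥(Subgroup.centralizer ({y} : Set G))), Cfsg.IsPBlock M B' → B' ≠ Cfsg.principalBlock M ↥(Subgroup.centralizer ({y} : Set G)) → Cfsg.blockDefect p B' < r)) → (∀ B' : Set (Cfsg.IrrCharacter G), Cfsg.IsPBlock M B' → B' ≠ Cfsg.principalBlock M G → Cfsg.blockDefect p B' < r)) := by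
  classical
  have := hM.2.1
  letI := Fintype.ofFinite G
  have := Fintype.ofFinite (IrrCharacter G)
  refine ⟨fun h y hy B' hB' hne => ?_, fun hr h B hB hne => ?_⟩
  · have := Fintype.ofFinite (IrrCharacter ↥(Subgroup.centralizer ({y} : Set G)))
    obtain ⟨B, hB⟩ := exists_induced_centralizer hM hy
      (fun t => Subgroup.mem_centralizer_singleton_iff) hB'
    obtain ⟨Q, hQ⟩ := exists_defectGroup hM hB'
    obtain ⟨E, hE, hle⟩ := exists_defectGroup_ge hM hB hQ
    have hBne : B ≠ Cfsg.principalBlock M G := fun e =>
      hne ((isInducedBlock_principal_iff hM hB).mp e)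
    have h1 := Subgroup.card_le_of_le hle
    rw [Subgroup.card_map_of_injective Subtype.val_injective, defectGroup_card hM hB' hQ,
      defectGroup_card hM hB.2.1 hE, Nat.pow_le_pow_iff_right hM.1.one_lt] at h1
    exact lt_of_le_of_lt h1 (h B hB.2.1 hBne)
  · by_contra hge
    push Not at hge
    obtain ⟨D, hD⟩ := exists_defectGroup hM hB
    have hcard := defectGroup_card hM hB hD
    have hDp : IsPGroup p D := IsPGroup.of_card hcard
    have hnt : Nontrivial D := Finite.one_lt_card_iff_nontrivial.mp
      (hcard ▸ one_lt_pow₀ hM.1.one_lt (by omega))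
    have := IsPGroup.center_nontrivial hDp
    have hdvd : p ∣ Nat.card (Subgroup.center D) := by
      obtain ⟨k, hk⟩ := (hDp.to_subgroup (Subgroup.center D)).exists_card_eq
      have := Finite.one_lt_card (α := Subgroup.center D)
      rw [hk] at this ⊢
      exact dvd_pow_self p (by intro h0; rw [h0] at this; simp at this)
    obtain ⟨z, hz⟩ := exists_prime_orderOf_dvd_card' p hdvd
    have hy : orderOf (((z : D) : G)) = p := by rw [Subgroup.orderOf_coe, Subgroup.orderOf_coe, hz]
    obtain ⟨b, hb, hdb⟩ := exists_major_block hM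
      (C := Subgroup.centralizer ({((z : D) : G)} : Set G))
      (fun t => Subgroup.mem_centralizer_singleton_iff) hB hD (z : D).2 (fun u hu =>
        congrArg Subtype.val (Subgroup.mem_center_iff.mp z.2 ⟨u, hu⟩))
    have hbne : b ≠ Cfsg.principalBlock M _ := fun e =>
      hne ((isInducedBlock_principal_iff hM hb).mpr e)
    have := h _ hy b hb.1 hbne
    omega

end Cfsg.Agent.S4717
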