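import Cfsg.Statements.S4718
import Cfsg.Agent.Lib.Block.BrauerFeit
import Cfsg.Agent.Lib.Block.Landau
-- import your own Cfsg.Agent.* helpers here

set_option autoImplicit false
open Cfsg CfsgLib.Block

universe u
open Cfsg

namespace Cfsg.Agent.S4718

/-- Let p be a prime and a a natural number. There is a bound N such that every finite group whose Sylow p-subgroups have order p^a and whose only p-block (relative to a maximal ideal of the algebraic integers containing p) is the principal block has order at most N. -/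
theorem result (p : ℕ) [Fact p.Prime] (a : ℕ) : ∃ N : ℕ, ∀ (G : Type u) [Group G] [Finite G] (M : Ideal Cfsg.AlgInt), Cfsg.IsPModular p M → (Nat.card G).factorization p = a → (∀ B : Set (Cfsg.IrrCharacter G), Cfsg.IsPBlock M B → B = Cfsg.principalBlock M G) → Nat.card G ≤ N := by
  classical
  obtain ⟨N, hN⟩ := exists_bound_card_of_conjClasses.{u} ((p ^ a) ^ 2 + 4)
  refine ⟨N, fun G _ _ M hM ha hB => hN G ?_⟩
  have := hM.2.1
  letI := Fintype.ofFinite G
  have := Fintype.ofFinite (IrrCharacter G)
  have := Fintype.ofFinite (ConjClasses G)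
  set B := Cfsg.principalBlock M G with hBdef
  have h4 := four_mul_sum_sq_heights_le hM (isPBlock_principalBlock (M := M) (G := G))
  rw [← hBdef] at h4
  have huniv : Finset.univ.filter (· ∈ B) = (Finset.univ : Finset (IrrCharacter G)) :=
    Finset.filter_true_of_mem fun χ _ =>
      hB (blockOf M (χ : G → ℂ)) (isPBlock_blockOf χ) ▸ self_mem_blockOf χ
  rw [huniv] at h4
  have h5 : Nat.card (ConjClasses G) ≤
      ∑ χ : IrrCharacter G, p ^ (2 * blockHeight p B (χ : G → ℂ)) := by
    rw [← CfsgLib.Char.card_irr_eq_card_conjClasses, Nat.card_eq_fintype_card, ← Finset.card_univ,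
      Finset.card_eq_sum_ones]
    exact Finset.sum_le_sum fun χ _ => Nat.one_le_pow _ _ hM.1.pos
  have h6 : (p ^ blockDefect p B) ^ 2 ≤ (p ^ a) ^ 2 :=
    Nat.pow_le_pow_left (Nat.pow_le_pow_right hM.1.pos (ha ▸ Nat.sub_le _ _)) _
  omega

end Cfsg.Agent.S4718
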