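import Cfsg.Statements.S4719
import Cfsg.Agent.S4717
import Cfsg.Agent.S4718
import Cfsg.Agent.Lib.Block.CentralQuot
import Cfsg.Agent.Lib.Char.FourBound.Main
-- import your own Cfsg.Agent.* helpers here

set_option autoImplicit false
universe u
open Cfsg

namespace Cfsg.Agent.S4719

open CfsgLib CfsgLib.Block CfsgLib.Block.Cyclic in
/-- The hypothesis passes to the centralizer of an involution modulo the involution. -/
private theorem defect_quot {A : Type u} [Group A] [Finite A] {M : Ideal Cfsg.AlgInt}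
    (hM : Cfsg.IsPModular 2 M) (Z : Subgroup A) [Z.Normal] (hZcard : Nat.card Z = 2)
    (hZc : Z ≤ Subgroup.center A) {r : ℕ}
    (h : ∀ B, Cfsg.IsPBlock M B → B ≠ Cfsg.principalBlock M A → Cfsg.blockDefect 2 B < r + 1) :
    ∀ B, Cfsg.IsPBlock M B → B ≠ Cfsg.principalBlock M (A ⧸ Z) → Cfsg.blockDefect 2 B < r := by
  classical
  haveI : Fact (Nat.Prime 2) := ⟨Nat.prime_two⟩
  haveI := hM.2.1
  letI := Fintype.ofFinite A
  letI := Fintype.ofFinite (A ⧸ Z)
  letI := Fintype.ofFinite (Cfsg.IrrCharacter (A ⧸ Z))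
  have hZ : IsPGroup 2 Z := IsPGroup.of_card (n := 1) (by rw [hZcard, pow_one])
  rintro β hβ hne
  obtain ⟨θ, hθ⟩ := hβ
  have hθm : θ ∈ β := hθ ▸ self_mem_blockOf θ
  set b := blockOf M (inflQ θ : A → ℂ) with hb
  have hbB : Cfsg.IsPBlock M b := isPBlock_blockOf _
  have hq : (quotSet Z b).Nonempty := ⟨θ, self_mem_blockOf _⟩
  have hqe : quotSet Z b = β :=
    isPBlock_eq_of_mem (isPBlock_quotSet hM hZ hZc hbB hq) ⟨θ, hθ⟩ (self_mem_blockOf _) hθm
  have hbne : b ≠ Cfsg.principalBlock M A := fun e => hne (isPBlock_eq_of_mem ⟨θ, hθ⟩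
    isPBlock_principalBlock hθm ((inflQ_mem_principalBlock_iff hM hZ hZc θ).mp
      (e ▸ self_mem_blockOf _)))
  have hd := h b hbB hbne
  have hpos : 0 < Cfsg.blockDefect 2 b := by
    have h1 : minDeg 2 b ≤ degVal 2 (inflQ θ) := minDeg_le (self_mem_blockOf _)
    have h2 : degVal 2 (inflQ θ) = degVal 2 θ := rfl
    have h3 := degVal_le_card (p := 2) θ
    have hn : (Nat.card A).factorization 2 = (Nat.card (A ⧸ Z)).factorization 2 + 1 := by
      rw [Subgroup.card_eq_card_quotient_mul_card_subgroup Z, hZcard,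
        Nat.factorization_mul Nat.card_pos.ne' (by norm_num), Finsupp.add_apply,
        Nat.prime_two.factorization_self]
    show 0 < (Nat.card A).factorization 2 - minDeg 2 b
    omega
  have := blockDefect_quotSet_lt hZcard hq hpos
  rw [hqe] at this
  omega

open CfsgLib.Char.FourBound in
/-- The induction on the deficiency. -/
private theorem bound (r : ℕ) : ∀ a : ℕ, ∃ N : ℕ, ∀ (G : Type u) [Group G] [Finite G]
    (M : Ideal Cfsg.AlgInt), Cfsg.IsPModular 2 M → (Nat.card G).factorization 2 ≤ a →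
    (∀ B : Set (Cfsg.IrrCharacter G), Cfsg.IsPBlock M B → B ≠ Cfsg.principalBlock M G →
      Cfsg.blockDefect 2 B < r) →
    (∃ E : Subgroup G, IsMulCommutative E ∧ (∀ x ∈ E, x * x = 1) ∧ Nat.card E = 2 ^ (r + 1)) →
    Nat.card G ≤ N := by
  haveI : Fact (Nat.Prime 2) := ⟨Nat.prime_two⟩
  induction r with
  | zero =>
    intro a
    choose N hN using fun i : ℕ => Cfsg.Agent.S4718.result.{u} 2 i
    refine ⟨∑ i ∈ Finset.range (a + 1), N i, fun G _ _ M hM ha hB _ => ?_⟩
    refine le_trans (hN _ G M hM rfl fun B hBb => ?_)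
      (Finset.single_le_sum (f := N) (fun i _ => Nat.zero_le _)
        (Finset.mem_range.mpr (Nat.lt_succ_of_le ha)))
    by_contra hne
    exact Nat.not_lt_zero _ (hB B hBb hne)
  | succ r ih =>
    intro a
    obtain ⟨N₁, hN₁⟩ := ih a
    obtain ⟨N, hN⟩ := exists_bound.{u} a (2 * N₁)
    refine ⟨N, fun G _ _ M hM ha hB ⟨E, hEc, hE2, hEcard⟩ => ?_⟩
    have hcomm : ∀ x ∈ E, ∀ y ∈ E, x * y = y * x := fun x hx y hy =>
      congrArg Subtype.val (hEc.is_comm.comm ⟨x, hx⟩ ⟨y, hy⟩)
    have hcent : ∀ t ∈ E, t ≠ 1 → Nat.card (Subgroup.centralizer ({t} : Set G)) ≤ 2 * N₁ := by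
      intro t htE ht1
      have ht : orderOf t = 2 := orderOf_eq_prime (by rw [pow_two, hE2 t htE]) ht1
      set C := Subgroup.centralizer ({t} : Set G) with hC
      have htC : t ∈ C := Subgroup.mem_centralizer_singleton_iff.mpr rfl
      set Z := (Subgroup.zpowers t).subgroupOf C with hZ
      have hZc : Z ≤ Subgroup.center C := fun z hz => Subgroup.mem_center_iff.mpr fun w => by
        rw [hZ, Subgroup.mem_subgroupOf] at hz
        obtain ⟨k, hk⟩ := Subgroup.mem_zpowers_iff.mp hz
        have hw : Commute (w : G) t := Subgroup.mem_centralizer_singleton_iff.mp w.2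
        exact Subtype.ext (show (w : G) * z = z * w from hk ▸ (hw.zpow_right k).eq)
      haveI : Z.Normal := ⟨fun z hz g => by
        rw [Subgroup.mem_center_iff.mp (hZc hz) g, mul_inv_cancel_right]; exact hz⟩
      have hle : Subgroup.zpowers t ≤ C := Subgroup.zpowers_le.mpr htC
      have hZcard : Nat.card Z = 2 := by
        rw [hZ, Nat.card_congr (Subgroup.subgroupOfEquivOfLe hle).toEquiv, Nat.card_zpowers, ht]
      have hEC : E ≤ C := fun e he => Subgroup.mem_centralizer_singleton_iff.mpr (hcomm e he t htE)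
      set π := QuotientGroup.mk' Z
      set Ē := (E.subgroupOf C).map π with hĒ
      have hĒcard : Nat.card Ē = 2 ^ (r + 1) := by
        have hZE : Z ≤ E.subgroupOf C := by
          intro z hz
          rw [hZ, Subgroup.mem_subgroupOf] at hz
          exact Subgroup.zpowers_le.mpr htE hz
        have h1 := Subgroup.card_mul_index (Z.subgroupOf (E.subgroupOf C))
        rw [Nat.card_congr (Subgroup.subgroupOfEquivOfLe hZE).toEquiv,
          Nat.card_congr (Subgroup.subgroupOfEquivOfLe hEC).toEquiv, hZcard, hEcard] at h1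
        have h2 : Nat.card Ē = (Z.subgroupOf (E.subgroupOf C)).index := by
          rw [hĒ, ← π.restrict_range (E.subgroupOf C), ← Subgroup.index_ker, MonoidHom.ker_restrict,
            QuotientGroup.ker_mk']
        rw [pow_succ' 2 (r + 1)] at h1
        omega
      have hfac : (Nat.card (C ⧸ Z)).factorization 2 ≤ a :=
        le_trans ((Nat.factorization_le_iff_dvd Nat.card_pos.ne' Nat.card_pos.ne').mpr
          ((Subgroup.card_quotient_dvd_card Z).trans (Subgroup.card_subgroup_dvd_card C)) 2) ha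
      have h := hN₁ (C ⧸ Z) M hM hfac (defect_quot hM Z hZcard hZc
        (Cfsg.Agent.S4717.result 2 M hM (r + 1) |>.1 hB t ⟨1, by rw [ht, pow_one]⟩))
        ⟨Ē, ⟨⟨fun x y => ?_⟩⟩, ?_, hĒcard⟩
      · rw [Subgroup.card_eq_card_quotient_mul_card_subgroup Z, hZcard, mul_comm]
        exact Nat.mul_le_mul_left 2 h
      · obtain ⟨_, x', hx, rfl⟩ := x
        obtain ⟨_, y', hy, rfl⟩ := y
        refine Subtype.ext ?_
        show π x' * π y' = π y' * π x'
        rw [← map_mul, ← map_mul]
        exact congrArg π (Subtype.ext (hcomm _ hx _ hy))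
      · rintro _ ⟨x', hx, rfl⟩
        rw [← map_mul, show x' * x' = 1 from Subtype.ext (hE2 _ hx), map_one]
    obtain ⟨s, hsE, hs1⟩ : ∃ s ∈ E, s ≠ 1 := by
      refine E.bot_or_exists_ne_one.resolve_left fun e => ?_
      rw [e, Subgroup.card_bot] at hEcard
      have : 2 ^ 1 ≤ 2 ^ (r + 1 + 1) := Nat.pow_le_pow_right (by norm_num) (by omega)
      omega
    obtain ⟨t, htE, ht⟩ : ∃ t ∈ E, t ∉ Subgroup.zpowers s := by
      by_contra hc
      push Not at hc
      have h1 := Subgroup.card_le_of_le (show E ≤ Subgroup.zpowers s from hc)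
      rw [hEcard, Nat.card_zpowers, orderOf_eq_prime (by rw [pow_two, hE2 s hsE]) hs1] at h1
      have : 2 ^ 2 ≤ 2 ^ (r + 1 + 1) := Nat.pow_le_pow_right (by norm_num) (by omega)
      omega
    have hst1 : s * t ≠ 1 := fun e => ht (by
      rw [← inv_eq_of_mul_eq_one_right e]
      exact Subgroup.inv_mem _ (Subgroup.mem_zpowers s))
    exact hN G s t
      ⟨hE2 s hsE, hE2 t htE, hcomm s hsE t htE, hs1,
        fun e => ht (e ▸ Subgroup.one_mem _), fun e => ht (e ▸ Subgroup.mem_zpowers s),
        hcent s hsE hs1, hcent t htE (fun e => ht (e ▸ Subgroup.one_mem _)),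
        hcent _ (E.mul_mem hsE htE) hst1⟩ ha

/-- For every natural number a there is a bound N with the following property. Let G be a finite group with Sylow 2-subgroups of order 2^a and r ≥ 0 such that G has no non-principal 2-block (relative to a maximal ideal of the algebraic integers containing 2) of defect ≥ r, and suppose a Sylow 2-subgroup of G contains an elementary abelian subgroup of order 2^(r+1). Then the order of G is at most N. -/
theorem result (a : ℕ) : ∃ N : ℕ, ∀ (G : Type u) [Group G] [Finite G] (M : Ideal Cfsg.AlgInt) (r : ℕ) (P : Sylow 2 G), Cfsg.IsPModular 2 M → Nat.card P = 2 ^ a → (∀ B : Set (Cfsg.IrrCharacter G), Cfsg.IsPBlock M B → B ≠ Cfsg.principalBlock M G → Cfsg.blockDefect 2 B < r) → (∃ E : Subgroup G, E ≤ (P : Subgroup G) ∧ IsMulCommutative E ∧ (∀ x ∈ E, x * x = 1) ∧ Nat.card E = 2 ^ (r + 1)) → Nat.card G ≤ N := by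
  haveI : Fact (Nat.Prime 2) := ⟨Nat.prime_two⟩
  choose N hN using fun r : ℕ => bound.{u} r a
  refine ⟨∑ r ∈ Finset.range (a + 1), N r, fun G _ _ M r P hM hP hB hE => ?_⟩
  obtain ⟨E, hEP, hEc, hE2, hEcard⟩ := hE
  have hr : r + 1 ≤ a := by
    have := Subgroup.card_dvd_of_le hEP
    rw [hEcard, hP] at this
    exact (Nat.pow_dvd_pow_iff_le_right (by norm_num)).mp this
  refine le_trans (hN r G M hM ?_ hB ⟨E, hEc, hE2, hEcard⟩)
    (Finset.single_le_sum (f := N) (fun i _ => Nat.zero_le _) (Finset.mem_range.mpr (by omega)))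
  have h := P.card_eq_multiplicity
  rw [hP] at h
  exact le_of_eq (Nat.pow_right_injective (by norm_num) h).symm

end Cfsg.Agent.S4719
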