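import Cfsg.Statements.S4720
import Cfsg.Agent.Lib.Block.SubsectionCount
-- import your own Cfsg.Agent.* helpers here

set_option autoImplicit false
open Cfsg CfsgLib.Block
open scoped ComplexConjugate

namespace Cfsg.Agent.S4720

/-- Let p be a prime, M a maximal ideal of the algebraic integers containing p, P a p-subgroup of the finite group G, N a subgroup with P ≤ N ≤ N_G(P), and U a nonempty subset of P normalized by N such that an element of U and an element of P that are conjugate in G are already conjugate in N, and such that λ(C_G(y)) = w·#C_N(y) for every y ∈ U with one rational number w, where λ(X) denotes the sum of the squares of the degrees of the irreducible characters in the principal p-block of X. For a complex function θ on P and χ in the principal block of G put a_χ(θ) = #P⁻¹ Σ_{y ∈ P} χ(y) θ(y⁻¹). Then for generalized characters θ, η of P with θ vanishing outside U, Σ_χ a_χ(θ)·conj(a_χ(η)) = (w/#P²)·Σ_{y ∈ P} θ(y)·conj(Σ_{x ∈ N} η(x y x⁻¹))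 (η extended by zero off P; the conjugates lie in P), the first sum over the principal p-block of G. -/
theorem result {G : Type*} [Group G] [Finite G] (p : ℕ) [Fact p.Prime] (M : Ideal Cfsg.AlgInt) (hM : Cfsg.IsPModular p M) (P : Subgroup G) (hP : IsPGroup p P) (N : Subgroup G) (hPN : P ≤ N) (hNN : N ≤ Subgroup.normalizer (P : Set G)) (U : Set G) (hUne : U.Nonempty) (hUP : U ⊆ (P : Set G)) (hUN : ∀ n ∈ N, ∀ u ∈ U, n * u * n⁻¹ ∈ U) (hfus : ∀ u ∈ U, ∀ g : G, g * u * g⁻¹ ∈ (P : Set G) → ∃ n ∈ N, n * u * n⁻¹ = g * u * g⁻¹) (w : ℚ) (hw : ∀ y ∈ U, ((∑ᶠ ψ ∈ Cfsg.principalBlock M ↥(Subgroup.centralizer ({y} : Set G)), Cfsg.charDegree (ψ : ↥(Subgroup.centralizer ({y} : Set G)) → ℂ) ^ 2) : ℚ) = w * Nat.card ↥(N ⊓ Subgroup.centralizer ({y} : Set G))) (θ η : ↥P → ℂ) (hθ : Cfsg.IsGeneralizedCharacter ↥P θ) (hη : Cfsg.IsGeneralizedCharacter ↥P η) (hθU : ∀ y : ↥P, (y : G) ∉ U → θ y = 0) : ∑ᶠ χ ∈ Cfsg.principalBlock M G, ((Nat.card ↥P : ℂ)⁻¹ * ∑ᶠ y : ↥P, (χ : G → ℂ) (y : G)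 * θ y⁻¹) * (starRingEnd ℂ) ((Nat.card ↥P : ℂ)⁻¹ * ∑ᶠ y : ↥P, (χ : G → ℂ) (y : G) * η y⁻¹) = ((w : ℂ) / ((Nat.card ↥P : ℂ) ^ 2)) * ∑ᶠ y : ↥P, θ y * (starRingEnd ℂ) (∑ᶠ x : ↥N, Cfsg.extendByZero P η ((x : G) * (y : G) * (x : G)⁻¹)) := by
  classical
  have := hM.2.1
  letI := Fintype.ofFinite G
  letI := Fintype.ofFinite P
  letI := Fintype.ofFinite N
  have := Fintype.ofFinite (IrrCharacter G)
  set w' : G → ℂ := fun u => ∑ᶠ ψ ∈ Cfsg.principalBlock M ↥(Subgroup.centralizer ({u} : Set G)),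
    ((Cfsg.charDegree (ψ : ↥(Subgroup.centralizer ({u} : Set G)) → ℂ) : ℂ)) ^ 2 with hw'
  have hpow : ∀ u : G, u ∈ P → ∃ k : ℕ, orderOf u = p ^ k := fun u hu => by
    obtain ⟨k, hk⟩ := hP.exists_card_eq
    obtain ⟨j, -, hj⟩ := (Nat.dvd_prime_pow (Fact.out : p.Prime)).mp
      (hk ▸ (Subgroup.orderOf_mk u hu ▸ orderOf_dvd_natCard (⟨u, hu⟩ : P)))
    exact ⟨j, hj⟩
  have hS : ∀ a b : G, a ∈ P → b ∈ P →
      ∑ χ ∈ (Cfsg.principalBlock M G).toFinset, (χ : G → ℂ) a * conj ((χ : G → ℂ) b) =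
        if IsConj a b then w' a else 0 := by
    intro a b ha hb
    by_cases hab : IsConj a b
    · rw [if_pos hab]
      letI := Fintype.ofFinite (Subgroup.centralizer ({a} : Set G))
      have := Fintype.ofFinite (IrrCharacter (Subgroup.centralizer ({a} : Set G)))
      have h := sum_principal_secFun hM (C := Subgroup.centralizer ({a} : Set G)) (hpow a ha)
        (fun t => Subgroup.mem_centralizer_singleton_iff) (y := 1) (z := 1)
        (by simpa using (Fact.out : p.Prime).ne_one) (by simpa using (Fact.out : p.Prime).ne_one)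
      simp only [OneMemClass.coe_one, mul_one, finsum_mem_eq_toFinset_sum] at h
      rw [hw']
      simp only [finsum_mem_eq_toFinset_sum]
      refine (Finset.sum_congr rfl fun χ _ => ?_).trans (h.trans (Finset.sum_congr rfl fun ψ _ => ?_))
      · rw [CfsgLib.Char.classFun_isConj (CfsgLib.Char.isClassFunction_irr χ) hab]
      · rw [CfsgLib.Char.conj_irr_one, sq, ← (charDegree_eq ψ).1]
    · rw [if_neg hab, ← finsum_mem_eq_toFinset_sum]
      exact blockUnion_orthogonal_conj hM (.of_isPBlock isPBlock_principalBlock)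
        (isPPart_one_mul (hpow a ha) (Fact.out : p.Prime).ne_one)
        (isPPart_one_mul (hpow b hb) (Fact.out : p.Prime).ne_one) hab
  set c : ℂ := (Nat.card P : ℂ)⁻¹ with hc
  have hstep : ∀ y : P, θ y⁻¹ * ∑ x : P, conj (η x⁻¹) *
      ∑ χ ∈ (Cfsg.principalBlock M G).toFinset, (χ : G → ℂ) (y : G) * conj ((χ : G → ℂ) (x : G)) =
      (w : ℂ) * (θ y⁻¹ * conj (∑ n : N, Cfsg.extendByZero P η ((n : G) * ((y⁻¹ : P) : G) * (n : G)⁻¹))) := by
    intro y
    by_cases hyU : ((y⁻¹ : P) : G) ∈ U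
    swap
    · rw [hθU _ hyU, zero_mul, zero_mul, mul_zero]
    rw [show (w : ℂ) * (θ y⁻¹ * conj (∑ n : N, Cfsg.extendByZero P η ((n : G) * ((y⁻¹ : P) : G) * (n : G)⁻¹))) =
      θ y⁻¹ * ((w : ℂ) * conj (∑ n : N, Cfsg.extendByZero P η ((n : G) * ((y⁻¹ : P) : G) * (n : G)⁻¹))) by ring]
    congr 1
    rw [map_sum]
    have horb : ∀ x : P, IsConj (y : G) (x : G) ↔
        ∃ n : N, (n : G) * ((y⁻¹ : P) : G) * (n : G)⁻¹ = ((x⁻¹ : P) : G) := by
      intro x
      simp only [Subgroup.coe_inv]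
      constructor
      · intro h
        obtain ⟨g, hg⟩ := isConj_iff.mp h
        have hg' : g * ((y⁻¹ : P) : G) * g⁻¹ = ((x⁻¹ : P) : G) := by
          rw [Subgroup.coe_inv, Subgroup.coe_inv, ← hg]; group
        obtain ⟨n, hn, he⟩ := hfus _ hyU g (by rw [hg']; exact (x⁻¹).2)
        exact ⟨⟨n, hn⟩, by rw [hg'] at he; simpa using he⟩
      · rintro ⟨n, hn⟩
        refine isConj_iff.mpr ⟨n, ?_⟩
        have := congrArg (·⁻¹) hn
        simpa [mul_assoc] using this
    rw [Finset.sum_congr rfl fun x _ => by rw [hS _ _ y.2 x.2]]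
    have hmem : ∀ n : N, (n : G) * ((y⁻¹ : P) : G) * (n : G)⁻¹ ∈ P := fun n => by
      have h := hNN n.2
      exact (Subgroup.mem_normalizer_iff.mp h _).mp (y⁻¹).2
    let f : N → P := fun n => (⟨_, hmem n⟩ : P)⁻¹
    rw [← Finset.sum_fiberwise_of_maps_to (t := (Finset.univ : Finset P)) (g := f)
      fun _ _ => Finset.mem_univ _, Finset.mul_sum]
    refine Finset.sum_congr rfl fun x _ => ?_
    have hfx : ∀ n : N, f n = x ↔ (n : G) * ((y⁻¹ : P) : G) * (n : G)⁻¹ = ((x⁻¹ : P) : G) := fun n => by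
      simp only [f]
      rw [inv_eq_iff_eq_inv, Subtype.ext_iff]
    rw [Finset.sum_congr rfl (g := fun _ => conj (η x⁻¹)) fun n hn => ?_, Finset.sum_const, nsmul_eq_mul]
    swap
    · rw [(hfx n).mp (Finset.mem_filter.mp hn).2, Cfsg.extendByZero, Subtype.val_injective.extend_apply]
    by_cases hxy : IsConj (y : G) (x : G)
    · rw [if_pos hxy]
      obtain ⟨n₀, hn₀⟩ := (horb x).mp hxy
      have hcard : (Finset.univ.filter (fun n : N => f n = x)).card =
          Nat.card ↥(N ⊓ Subgroup.centralizer ({((y⁻¹ : P) : G)} : Set G)) := by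
        rw [← Fintype.card_subtype, ← Nat.card_eq_fintype_card]
        refine Nat.card_congr (Equiv.symm ?_)
        exact
          { toFun := fun m => ⟨n₀ * ⟨(m : G), m.2.1⟩, (hfx _).mpr (by
              have hm := Subgroup.mem_centralizer_singleton_iff.mp m.2.2
              rw [Subgroup.coe_mul, mul_inv_rev, ← hn₀]
              calc (n₀ : G) * m * ((y⁻¹ : P) : G) * ((m : G)⁻¹ * (n₀ : G)⁻¹)
                  = (n₀ : G) * (((m : G) * ((y⁻¹ : P) : G)) * (m : G)⁻¹) * (n₀ : G)⁻¹ := by group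
                _ = (n₀ : G) * ((y⁻¹ : P) : G) * (n₀ : G)⁻¹ := by rw [hm]; group)⟩
            invFun := fun n => ⟨((n₀⁻¹ * n.1 : N) : G), (n₀⁻¹ * n.1).2, by
              have h2 := (hfx _).mp n.2
              show _ ∈ Subgroup.centralizer ({((y⁻¹ : P) : G)} : Set G)
              rw [Subgroup.mem_centralizer_singleton_iff]
              rw [← hn₀] at h2
              simp only [Subgroup.coe_mul, InvMemClass.coe_inv] at h2 ⊢
              calc (n₀ : G)⁻¹ * (n.1 : G) * ((y : G)⁻¹) =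
                  (n₀ : G)⁻¹ * ((n.1 : G) * (y : G)⁻¹ * (n.1 : G)⁻¹) * n.1 := by group
                _ = (y : G)⁻¹ * ((n₀ : G)⁻¹ * n.1) := by rw [h2]; group⟩
            left_inv := fun m => Subtype.ext (by simp)
            right_inv := fun n => Subtype.ext (Subtype.ext (by simp)) }
      rw [hcard]
      have hw0 := hw _ hyU
      have hse : Subgroup.centralizer ({(y : G)} : Set G) =
          Subgroup.centralizer ({((y⁻¹ : P) : G)} : Set G) := by
        ext t
        simp only [Subgroup.mem_centralizer_singleton_iff, Subgroup.coe_inv]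
        exact ⟨fun h => (Commute.inv_right (h : Commute t y)).eq,
          fun h => by simpa using (Commute.inv_right (h : Commute t (y : G)⁻¹)).eq⟩
      have key : ∀ H H' : Subgroup G, H = H' →
          ∑ᶠ ψ ∈ Cfsg.principalBlock M ↥H, ((Cfsg.charDegree (ψ : ↥H → ℂ) : ℂ)) ^ 2 =
            ((∑ᶠ ψ ∈ Cfsg.principalBlock M ↥H', Cfsg.charDegree (ψ : ↥H' → ℂ) ^ 2 : ℕ) : ℂ) := by
        rintro H _ rfl
        rw [finsum_mem_eq_finite_toFinset_sum _ (Set.toFinite _),
          finsum_mem_eq_finite_toFinset_sum _ (Set.toFinite _), Nat.cast_sum]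
        simp only [Nat.cast_pow]
      have hws : w' (y : G) = (w : ℂ) * Nat.card ↥(N ⊓ Subgroup.centralizer ({((y⁻¹ : P) : G)} : Set G)) := by
        rw [hw']
        dsimp only
        rw [key _ _ hse]
        rw [finsum_mem_eq_finite_toFinset_sum _ (Set.toFinite _)] at hw0 ⊢
        have h2 := congrArg (fun r : ℚ => (r : ℂ)) hw0
        simp only [Rat.cast_mul, Rat.cast_natCast, Rat.cast_sum, Rat.cast_pow] at h2
        simp only [Nat.cast_sum, Nat.cast_pow]
        exact h2
      rw [hws]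
      ring
    · rw [if_neg hxy, mul_zero]
      have : (Finset.univ.filter (fun n : N => f n = x)) = ∅ := by
        rw [Finset.filter_eq_empty_iff]
        exact fun n _ hn => hxy ((horb x).mpr ⟨n, (hfx n).mp hn⟩)
      rw [this]
      simp
  rw [finsum_mem_eq_toFinset_sum]
  simp only [finsum_eq_sum_of_fintype, ← hc]
  calc _ = c * c * ∑ y : P, θ y⁻¹ * ∑ x : P, conj (η x⁻¹) *
      ∑ χ ∈ (Cfsg.principalBlock M G).toFinset, (χ : G → ℂ) (y : G) * conj ((χ : G → ℂ) (x : G)) := by
        simp only [hc, map_mul, map_sum, map_inv₀, map_natCast, Finset.mul_sum, Finset.sum_mul]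
        conv_rhs => enter [2, y]; rw [Finset.sum_comm]
        conv_rhs => rw [Finset.sum_comm]
        refine Finset.sum_congr rfl fun χ _ => ?_
        rw [Finset.sum_comm]
        refine Finset.sum_congr rfl fun y _ => Finset.sum_congr rfl fun x _ => ?_
        ring
    _ = c * c * ∑ y : P, (w : ℂ) * (θ y⁻¹ * conj (∑ n : N,
        Cfsg.extendByZero P η ((n : G) * ((y⁻¹ : P) : G) * (n : G)⁻¹))) := by
        rw [Finset.sum_congr rfl fun y _ => hstep y]
    _ = _ := by
        rw [← Finset.mul_sum, ← mul_assoc]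
        congr 1
        · rw [hc]; ring
        · exact Fintype.sum_equiv (Equiv.inv P) _ _ fun y => rfl

end Cfsg.Agent.S4720
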