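import Cfsg.Statements.S4721
import Cfsg.Agent.Lib.Block.AbelianFreeInvolution

set_option autoImplicit false
open Cfsg

namespace Cfsg.Agent.S4721

/-- Let p be a prime, M a maximal ideal of the algebraic integers containing p, and G a finite group with a nontrivial abelian Sylow p-subgroup P, N = N_G(P), C = C_G(P), such that N/C is cyclic of order 3, #P > 4, and C_G(y) ∩ N = C for every non-identity y ∈ P. Then the principal p-block is the disjoint union of a set X of exactly 3 characters containing the principal character and a set Y of (#P − 1)/3 characters, with signs a_χ = ±1 (χ ∈ X, a = 1 at the principal character) and δ = ±1 such that every χ ∈ X takes the value a_χ at every element whose p-part is a non-identity element of P, and there is a map ζ from the non-principal linear characters of P onto Y, constant on N-conjugacy classes, with ζ_ψ(z) = δ·Σ ψ'(y) over the N-orbit of ψ, for z with p-part y ≠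 1 in P. If moreover G has an involution lying in no proper normal subgroup of G, then exactly two of the three numbers −δ and a_χ (χ ∈ X non-principal) equal −1, and the product of the degrees of the two non-principal members of X and of any member of Y is a perfect square. -/
theorem result {G : Type*} [Group G] [Finite G] (p : ℕ) [Fact p.Prime] (M : Ideal Cfsg.AlgInt) (hM : Cfsg.IsPModular p M) (P : Sylow p G) (hab : IsMulCommutative P) (hP1 : Nat.card P ≠ 1) (hCN : (Subgroup.centralizer ((P : Subgroup G) : Set G)).relIndex (Subgroup.normalizer ((P : Subgroup G) : Set G)) = 3) (hcyc : ∃ g : G, g ∈ Subgroup.normalizer ((P : Subgroup G) : Set G) ∧ Subgroup.centralizer ((P : Subgroup G) : Set G) ⊔ Subgroup.zpowers g = Subgroup.normalizer ((P : Subgroup G) : Set G)) (hm2 : 3 + 1 < Nat.card P) (hfrob : ∀ y : G, y ∈ (P : Subgroup G) → y ≠ 1 → Subgroup.centralizer ({y} : Set G) ⊓ Subgroup.normalizer ((P : Subgroup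 G) : Set G) = Subgroup.centralizer ((P : Subgroup G) : Set G)) : ∃ (X Y : Set (Cfsg.IrrCharacter G)), Cfsg.principalBlock M G = X ∪ Y ∧ Disjoint X Y ∧ Nat.card X = 3 ∧ Nat.card Y = (Nat.card P - 1) / 3 ∧ (∃ χ₁ ∈ X, (χ₁ : G → ℂ) = fun _ => 1) ∧ ∃ (a : Cfsg.IrrCharacter G → ℤ) (δ : ℤ) (ζ : (↥(P : Subgroup G) →* ℂˣ) → Cfsg.IrrCharacter G), (δ = 1 ∨ δ = -1) ∧ (∀ χ ∈ X, (a χ = 1 ∨ a χ = -1) ∧ ∀ z y : G, Cfsg.IsPPart p z y → y ∈ (P : Subgroup G) → y ≠ 1 → (χ : G → ℂ) z = (a χ : ℂ)) ∧ (∀ ψ : ↥(P : Subgroup G) →* ℂˣ, ψ ≠ 1 → ζ ψ ∈ Y) ∧ (∀ η ∈ Y, ∃ ψ : ↥(P : Subgroup G) →* ℂˣ, ψ ≠ 1 ∧ ζ ψ = η) ∧ (∀ ψ ψ' : ↥(P : Subgroup G) →* ℂˣ, ψ ≠ 1 → (∃ n : G, n ∈ Subgroup.normalizer ((P : Subgroup G) : Set G) ∧ ∀ w w' : ↥(P : Subgroup G), (w' : G) = n * w * n⁻¹ → ψ' w' = ψ w) → ζ ψ' = ζ ψ) ∧ (∀ ψ : ↥(P : Subgroup G) →* ℂˣ, ψ ≠ 1 → ∀ (z : G) (y : ↥(P : Subgroup G)), Cfsg.IsPPart p z (y : G) → (y : G) ≠ 1 → (ζ ψ : G → ℂ) z = (δ : ℂ)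 * ∑ᶠ ψ' ∈ {ψ' : ↥(P : Subgroup G) →* ℂˣ | ∃ n : G, n ∈ Subgroup.normalizer ((P : Subgroup G) : Set G) ∧ ∀ w w' : ↥(P : Subgroup G), (w' : G) = n * w * n⁻¹ → ψ' w' = ψ w}, ((ψ' y : ℂˣ) : ℂ)) ∧ ((∃ t : G, orderOf t = 2 ∧ ∀ K : Subgroup G, K.Normal → t ∈ K → K = ⊤) → Nat.card {χ : Cfsg.IrrCharacter G // χ ∈ X ∧ (χ : G → ℂ) ≠ (fun _ => 1) ∧ a χ = -1} + (if δ = 1 then 1 else 0) = 2 ∧ ∀ η ∈ Y, IsSquare (Cfsg.charDegree (η : G → ℂ) * ∏ᶠ χ ∈ {χ : Cfsg.IrrCharacter G | χ ∈ X ∧ (χ : G → ℂ) ≠ fun _ => 1}, Cfsg.charDegree (χ : G → ℂ))) := by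
  classical
  letI := Fintype.ofFinite G
  haveI := Fintype.ofFinite (Cfsg.IrrCharacter G)
  haveI := Fintype.ofFinite ↥(P : Subgroup G)
  haveI := hM.2.1
  have h : CfsgLib.Block.AbelianFree.Free P := ⟨hab, hfrob⟩
  haveI : Finite (CfsgLib.Block.AbelianFree.Lin P) :=
    Finite.of_injective _ (CfsgLib.Block.AbelianFree.lc_injective (P := P))
  haveI := Fintype.ofFinite (CfsgLib.Block.AbelianFree.Lin P)
  obtain ⟨E, h0, hX, hb⟩ := h.exists_shape_three hM hCN hm2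
  have hm' : (CfsgLib.Block.AbelianFree.cen P).relIndex (CfsgLib.Block.AbelianFree.nor P) + 1 < Nat.card P := by
    show (Subgroup.centralizer ((P : Subgroup G) : Set G)).relIndex
      (Subgroup.normalizer ((P : Subgroup G) : Set G)) + 1 < Nat.card P
    rw [hCN]; exact hm2
  have hY := E.card_Y h
  rw [show (CfsgLib.Block.AbelianFree.cen P).relIndex (CfsgLib.Block.AbelianFree.nor P) = 3 from hCN] at hY
  have hone := E.one_mem_X h hM hm'
  refine ⟨(E.X : Set (Cfsg.IrrCharacter G)), (E.Y : Set (Cfsg.IrrCharacter G)), ?_, ?_, ?_, ?_,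
    ⟨CfsgLib.Block.oneChar G, hone, rfl⟩,
    fun θ => E.base θ, E.δ, E.ζ, E.sign, fun χ hχ => ⟨hb χ hχ,
      fun z y hz hy hy1 => E.value_X h hM hχ hz hy hy1⟩,
    fun ψ hψ => E.mem_Y.mpr ⟨ψ, hψ, rfl⟩, fun η hη => E.mem_Y.mp hη, ?_, ?_, ?_⟩
  · ext θ
    simp only [Set.mem_union, Finset.mem_coe, E.mem_X, E.mem_Y]
    constructor
    · intro hθ
      by_cases hex : ∃ ψ, ψ ≠ 1 ∧ E.ζ ψ = θ
      · exact Or.inr hex
      · push Not at hex
        exact Or.inl ⟨hθ, hex⟩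
    · rintro (⟨hθ, -⟩ | ⟨ψ, hψ, rfl⟩)
      · exact hθ
      · exact E.mem ψ hψ
  · rw [Set.disjoint_left]
    intro θ hX hY'
    obtain ⟨ψ, hψ, e⟩ := E.mem_Y.mp hY'
    exact (E.mem_X.mp hX).2 ψ hψ e
  · rw [Nat.card_coe_set_eq, Set.ncard_coe_finset, hX]
  · rw [Nat.card_coe_set_eq, Set.ncard_coe_finset, ← hY, Nat.mul_div_cancel _ (by norm_num)]
  · intro ψ ψ' hψ hrel
    exact ((E.rel ψ ψ' hψ (CfsgLib.Block.AbelianFree.ne_one_of_rel hrel hψ)).mpr hrel).symm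
  · intro ψ hψ z y hz hy1
    have hy' : y ≠ 1 := fun e => hy1 (congrArg Subtype.val e)
    rw [h.value_eq hM (E.mem ψ hψ) hz y.2 hy1, E.value h (E.mem ψ hψ) hy', E.filter_eq_rel hψ,
      h0 ψ hψ, Int.cast_zero, zero_add, finsum_mem_eq_toFinset_sum]
    congr 1
    exact Finset.sum_congr (by ext; simp [CfsgLib.Block.AbelianFree.Rel, CfsgLib.Block.AbelianFree.nor]) fun _ _ => rfl
  · rintro ⟨t, ht, hgen⟩
    by_cases hp2 : p = 2
    · exact (E.involution_two_false h hM hCN hm2 h0 hX hb hp2 ht hgen).elim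
    · obtain ⟨hc, hsq⟩ := E.involution_odd h hM hCN hm2 h0 hX hb hp2 ht hgen
      have hone' : ∀ χ : Cfsg.IrrCharacter G, (χ : G → ℂ) = (fun _ => 1) ↔ χ = CfsgLib.Block.oneChar G :=
        fun χ => ⟨fun e => Subtype.ext e, fun e => by rw [e]; rfl⟩
      refine ⟨?_, fun η hη => ?_⟩
      · rw [← hc, Nat.card_eq_fintype_card, Fintype.card_subtype]
        congr 2
        ext χ
        simp only [Finset.mem_filter, Finset.mem_univ, true_and, Finset.mem_erase, Finset.mem_coe, ne_eq, hone']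
        tauto
      · have e : {χ : Cfsg.IrrCharacter G | χ ∈ (E.X : Set (Cfsg.IrrCharacter G)) ∧ (χ : G → ℂ) ≠ fun _ => 1} =
            ↑(E.X.erase (CfsgLib.Block.oneChar G)) := by
          ext χ
          simp only [Set.mem_setOf_eq, Finset.coe_erase, Set.mem_sdiff, Set.mem_singleton_iff, Finset.mem_coe,
            ne_eq, hone']
        rw [e, finprod_mem_coe_finset]
        exact hsq η hη

end Cfsg.Agent.S4721
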