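import Cfsg.Statements.S4722
import Cfsg.Agent.Lib.Block.InvolutionColumn

set_option autoImplicit false
open Cfsg

namespace Cfsg.Agent.S4722

/-- Let M be a maximal ideal of the algebraic integers containing 2, P a 2-subgroup of the finite group G, U a subset of P, and t an involution of G such that no element of U is inverted by any conjugate of t. Let θ be a generalized character of P vanishing outside U, and for χ in the principal 2-block B₀ put a_χ = #P⁻¹ Σ_{y ∈ P} χ(y) θ(y⁻¹). Then Σ_{χ ∈ B₀} a_χ χ(t)^2/χ(1) = 0, Σ_{χ ∈ B₀} a_χ χ(1) = 0 and Σ_{χ ∈ B₀} a_χ χ(t) = 0. If moreover #P⁻¹ Σ_{y ∈ P} θ(y) ≠ 0, then either at least two of the a_χ have positive real part and at least two have negative real part, or G has a proper normal subgroup containing O_2'(G) and t. -/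
theorem result {G : Type*} [Group G] [Finite G] (M : Ideal Cfsg.AlgInt) (hM : Cfsg.IsPModular 2 M) (P : Subgroup G) (hP : IsPGroup 2 P) (U : Set G) (hUP : U ⊆ (P : Set G)) (t : G) (ht : orderOf t = 2) (hinv : ∀ u ∈ U, ∀ g : G, (g * t * g⁻¹) * u * (g * t * g⁻¹)⁻¹ ≠ u⁻¹) (θ : ↥P → ℂ) (hθ : Cfsg.IsGeneralizedCharacter ↥P θ) (hθU : ∀ y : ↥P, (y : G) ∉ U → θ y = 0) : (∑ᶠ χ ∈ Cfsg.principalBlock M G, ((Nat.card ↥P : ℂ)⁻¹ * ∑ᶠ y : ↥P, (χ : G → ℂ) (y : G) * θ y⁻¹) * (χ : G → ℂ) t ^ 2 / (χ : G → ℂ) 1 = 0) ∧ (∑ᶠ χ ∈ Cfsg.principalBlock M G, ((Nat.card ↥P : ℂ)⁻¹ * ∑ᶠ y : ↥P, (χ : G → ℂ) (y : G) * θ y⁻¹) * (χ : G → ℂ) 1 = 0) ∧ (∑ᶠ χ ∈ Cfsg.principalBlock M G, ((Nat.card ↥P : ℂ)⁻¹ * ∑ᶠ y : ↥P, (χ : G → ℂ) (y : G) * θ y⁻¹) * (χ : G → ℂ) t = 0) ∧ ((Nat.card ↥P : ℂ)⁻¹ * ∑ᶠ y : ↥P, θ y ≠ 0 → (2 ≤ Nat.card {χ : Cfsg.IrrCharacter G // χ ∈ Cfsg.principalBlock M G ∧ 0 < (((Nat.card ↥P : ℂ)⁻¹ * ∑ᶠ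 y : ↥P, (χ : G → ℂ) (y : G) * θ y⁻¹)).re} ∧ 2 ≤ Nat.card {χ : Cfsg.IrrCharacter G // χ ∈ Cfsg.principalBlock M G ∧ (((Nat.card ↥P : ℂ)⁻¹ * ∑ᶠ y : ↥P, (χ : G → ℂ) (y : G) * θ y⁻¹)).re < 0}) ∨ ∃ K : Subgroup G, K.Normal ∧ K ≠ ⊤ ∧ Cfsg.pPrimeCore 2 G ≤ K ∧ t ∈ K) := by
  classical
  letI := Fintype.ofFinite G
  haveI := Fintype.ofFinite (Cfsg.IrrCharacter G)
  haveI := Fintype.ofFinite ↥P
  haveI := Fact.mk Nat.prime_two
  haveI := hM.2.1
  have htt : t * t = 1 := by rw [← sq, ← ht]; exact pow_orderOf_eq_one t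
  have hB : Cfsg.IsPBlock M (Cfsg.principalBlock M G) := CfsgLib.Block.isPBlock_principalBlock
  set a : Cfsg.IrrCharacter G → ℂ := fun χ =>
    (Nat.card ↥P : ℂ)⁻¹ * ∑ᶠ y : ↥P, (χ : G → ℂ) (y : G) * θ y⁻¹ with ha
  have key : ∀ F : Cfsg.IrrCharacter G → ℂ,
      (∀ y : ↥P, θ y⁻¹ ≠ 0 → ∑ᶠ χ ∈ Cfsg.principalBlock M G, (χ : G → ℂ) (y : G) * F χ = 0) →
      ∑ᶠ χ ∈ Cfsg.principalBlock M G, a χ * F χ = 0 := by
    intro F hF
    rw [finsum_mem_eq_toFinset_sum]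
    simp only [ha, finsum_eq_sum_of_fintype, Finset.mul_sum, Finset.sum_mul]
    rw [Finset.sum_comm]
    refine Finset.sum_eq_zero fun y _ => ?_
    by_cases hy : θ y⁻¹ = 0
    · simp [hy]
    · have h := hF y hy
      rw [finsum_mem_eq_toFinset_sum] at h
      rw [Finset.sum_congr rfl (g := fun χ : Cfsg.IrrCharacter G => (Nat.card ↥P : ℂ)⁻¹ * θ y⁻¹ * ((χ : G → ℂ) (y : G) * F χ))
        fun χ _ => by ring, ← Finset.mul_sum, h, mul_zero]
  have hgood : ∀ y : ↥P, θ y⁻¹ ≠ 0 →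
      (∃ k, orderOf (y : G) = 2 ^ k) ∧ ∀ g : G, g * t * g⁻¹ * (y : G) * (g * t * g⁻¹)⁻¹ ≠ (y : G)⁻¹ := by
    intro y hy
    obtain ⟨k, hk⟩ := IsPGroup.iff_orderOf.mp hP y
    refine ⟨⟨k, by rw [Subgroup.orderOf_coe, hk]⟩, fun g he => ?_⟩
    have hU : ((y⁻¹ : ↥P) : G) ∈ U := by_contra fun h => hy (hθU _ h)
    refine hinv _ hU g ?_
    rw [Subgroup.coe_inv, inv_inv]
    calc g * t * g⁻¹ * (y : G)⁻¹ * (g * t * g⁻¹)⁻¹ = (g * t * g⁻¹ * (y : G) * (g * t * g⁻¹)⁻¹)⁻¹ := by group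
      _ = (y : G) := by rw [he, inv_inv]
  have e1 : ∑ᶠ χ ∈ Cfsg.principalBlock M G, a χ * (χ : G → ℂ) t ^ 2 / (χ : G → ℂ) 1 = 0 := by
    rw [finsum_congr fun χ => finsum_congr fun _ => mul_div_assoc (a χ) _ _]
    exact key _ fun y hy => (CfsgLib.Block.InvolutionColumn.sums_eq_zero M hM hB ht (hgood y hy).1 (hgood y hy).2).1
  have e2 : ∑ᶠ χ ∈ Cfsg.principalBlock M G, a χ * (χ : G → ℂ) 1 = 0 :=
    key _ fun y hy => (CfsgLib.Block.InvolutionColumn.sums_eq_zero M hM hB ht (hgood y hy).1 (hgood y hy).2).2.1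
  have e3 : ∑ᶠ χ ∈ Cfsg.principalBlock M G, a χ * (χ : G → ℂ) t = 0 :=
    key _ fun y hy => (CfsgLib.Block.InvolutionColumn.sums_eq_zero M hM hB ht (hgood y hy).1 (hgood y hy).2).2.2
  refine ⟨e1, e2, e3, fun hmean => ?_⟩
  have hre : ∀ χ : Cfsg.IrrCharacter G, ((χ : G → ℂ) 1).im = 0 ∧ ((χ : G → ℂ) t).im = 0 := fun χ =>
    ⟨Complex.conj_eq_iff_im.mp (CfsgLib.Char.conj_irr_one χ),
      Complex.conj_eq_iff_im.mp (CfsgLib.Block.InvolutionColumn.conj_irr_of_sq htt χ)⟩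
  have real_part : ∀ F : Cfsg.IrrCharacter G → ℂ, (∀ χ, (F χ).im = 0) →
      ∑ᶠ χ ∈ Cfsg.principalBlock M G, a χ * F χ = 0 →
      ∑ᶠ χ ∈ Cfsg.principalBlock M G, (a χ).re * (F χ).re = 0 := by
    intro F hF h
    rw [finsum_mem_eq_toFinset_sum] at h ⊢
    have := congrArg Complex.re h
    simpa [Complex.re_sum, hF] using this
  have r1 := real_part _ (fun χ => (hre χ).1) e2
  have r2 := real_part _ (fun χ => (hre χ).2) e3
  have r3 : ∑ᶠ χ ∈ Cfsg.principalBlock M G,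
      (a χ).re * (((χ : G → ℂ) t).re ^ 2 / ((χ : G → ℂ) 1).re) = 0 := by
    have him : ∀ χ : Cfsg.IrrCharacter G, ((χ : G → ℂ) t ^ 2 / (χ : G → ℂ) 1) =
        ((((χ : G → ℂ) t).re ^ 2 / ((χ : G → ℂ) 1).re : ℝ) : ℂ) := fun χ => by
      push_cast
      congr 1
      · congr 1
        exact Complex.ext (by simp) (by simp [(hre χ).2])
      · exact Complex.ext (by simp) (by simp [(hre χ).1])
    have e1' : ∑ᶠ χ ∈ Cfsg.principalBlock M G, a χ * ((χ : G → ℂ) t ^ 2 / (χ : G → ℂ) 1) = 0 := by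
      rw [← e1]
      exact finsum_congr fun χ => finsum_congr fun _ => (mul_div_assoc _ _ _).symm
    have := real_part _ (fun χ => by rw [him]; exact Complex.ofReal_im _) e1'
    rw [← this]
    exact finsum_congr fun χ => finsum_congr fun _ => by rw [him, Complex.ofReal_re]
  have hreal : (starRingEnd ℂ) (a (CfsgLib.Block.oneChar G)) = a (CfsgLib.Block.oneChar G) := by
    obtain ⟨f1, f2, hf1, hf2, hθe⟩ := hθ
    obtain ⟨m1, hm1⟩ := CfsgLib.Char.classInner_isCharacter hf1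
      (CfsgLib.Char.isCharacter_irr ⟨_, CfsgLib.Char.isIrrCharacter_one⟩)
    obtain ⟨m2, hm2⟩ := CfsgLib.Char.classInner_isCharacter hf2
      (CfsgLib.Char.isCharacter_irr ⟨_, CfsgLib.Char.isIrrCharacter_one⟩)
    have hval : a (CfsgLib.Block.oneChar G) = (m1 : ℂ) - m2 := by
      rw [← hm1, ← hm2, ← CfsgLib.Char.classInner_sub_left, ← hθe]
      simp only [ha, CfsgLib.Block.oneChar, one_mul, finsum_eq_sum_of_fintype, Cfsg.classInner, map_one, mul_one]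
      exact congrArg _ (Fintype.sum_equiv (Equiv.inv ↥P) _ _ fun y => rfl)
    rw [hval, map_sub, map_natCast, map_natCast]
  have hone : (a (CfsgLib.Block.oneChar G)).re ≠ 0 := by
    intro h0
    refine hmean ?_
    have : a (CfsgLib.Block.oneChar G) = 0 := Complex.ext h0 (Complex.conj_eq_iff_im.mp hreal)
    rw [← this]
    simp only [ha, CfsgLib.Block.oneChar, one_mul, finsum_eq_sum_of_fintype]
    exact congrArg _ (Fintype.sum_equiv (Equiv.inv ↥P) _ _ fun y => by simp)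
  rcases CfsgLib.Block.InvolutionColumn.two_pos_or_kernel M hM ht (fun χ => (a χ).re) hone r1 r2 r3 with h | h
  · rcases CfsgLib.Block.InvolutionColumn.two_pos_or_kernel M hM ht (fun χ => -(a χ).re) (neg_ne_zero.mpr hone)
      (by simp only [neg_mul, finsum_mem_neg_distrib, finsum_neg_distrib, r1, neg_zero])
      (by simp only [neg_mul, finsum_mem_neg_distrib, finsum_neg_distrib, r2, neg_zero])
      (by simp only [neg_mul, finsum_mem_neg_distrib, finsum_neg_distrib, r3, neg_zero]) with h' | h'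
    · refine Or.inl ⟨h, ?_⟩
      simp only [neg_pos] at h'
      exact h'
    · exact Or.inr h'
  · exact Or.inr h

end Cfsg.Agent.S4722
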