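import Cfsg.Statements.S4723
import Cfsg.Agent.Lib.Block.HeightZeroOrbit

/-!
# A height zero character with stabilizer of index prime to `p`
-/

set_option autoImplicit false
open Cfsg

namespace Cfsg.Agent.S4723

open CfsgLib CfsgLib.Block
open scoped ComplexConjugate

/-- Let p be a prime, M a maximal ideal of the algebraic integers containing p, H a normal subgroup of the finite group G and b a p-block of H. Let T be the stabilizer of b in G. Then b contains a character θ of height zero whose own stabilizer in G (the elements g with θ(g h g⁻¹) = θ(h) for all h ∈ H) has index prime to p in T, i.e. contains a Sylow p-subgroup of T. -/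
theorem result {G : Type*} [Group G] [Finite G] (p : ℕ) [Fact p.Prime] (M : Ideal Cfsg.AlgInt) (hM : Cfsg.IsPModular p M) (H : Subgroup G) [H.Normal] (b : Set (Cfsg.IrrCharacter ↥H)) (hb : Cfsg.IsPBlock M b) (T : Subgroup G) (hT : (∀ g : G, g ∈ T ↔ ∀ θ ∈ b, ∀ θ' : Cfsg.IrrCharacter ↥H, (∀ h h' : ↥H, (h' : G) = g * h * g⁻¹ → (θ' : ↥H → ℂ) h' = (θ : ↥H → ℂ) h) → θ' ∈ b)) : ∃ θ ∈ b, Cfsg.blockHeight p b (θ : ↥H → ℂ) = 0 ∧ ∃ S : Subgroup G, S ≤ T ∧ (∀ g : G, g ∈ S ↔ (g ∈ T ∧ ∀ h h' : ↥H, (h' : G) = g * h * g⁻¹ → (θ : ↥H → ℂ) h' = (θ : ↥H → ℂ) h)) ∧ ¬ p ∣ S.relIndex T := by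
  classical
  have := Fintype.ofFinite G
  have := Fintype.ofFinite H
  have := Fintype.ofFinite (IrrCharacter H)
  have := Fintype.ofFinite (ConjClasses H)
  haveI : M.IsMaximal := hM.2.1
  obtain ⟨θ, hθ, h0, ⟨S, hS, hndvd⟩, -⟩ := HeightZeroOrbit.exists_height_zero_stab (G := G) hM hb
  have hiff : ∀ (g : G) (η η' : IrrCharacter H),
      (∀ h h' : H, (h' : G) = g * h * g⁻¹ → (η' : H → ℂ) h' = (η : H → ℂ) h) ↔ η' = cjN g η := by
    intro g η η'
    constructor
    · intro h
      refine Subtype.ext (funext fun n => ?_)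
      rw [cjN_apply]
      exact h ⟨g⁻¹ * n * g, _⟩ n (by simp [mul_assoc])
    · rintro rfl h h' e
      rw [cjN_apply]
      exact congrArg _ (Subtype.ext (by simp [e, mul_assoc]))
  have hTeq : T = HeightZeroOrbit.setStab G b := by
    ext g
    rw [hT]
    constructor
    · intro h
      show cjN g '' b = b
      refine Set.eq_of_subset_of_ncard_le ?_ ?_ (Set.toFinite _)
      · rintro _ ⟨η, hη, rfl⟩
        exact h η hη _ ((hiff g η _).mpr rfl)
      · rw [Set.ncard_image_of_injective]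
        intro a c e
        have e' := congrArg (cjN g⁻¹) e
        rwa [cjN_cjN, cjN_cjN, inv_mul_cancel, cjN_one, cjN_one] at e'
    · intro h η hη η' he
      rw [(hiff g η η').mp he]
      exact (Set.ext_iff.mp h _).mp ⟨η, hη, rfl⟩
  subst hTeq
  refine ⟨θ, hθ, h0, S, fun g hg => ((hS g).mp hg).1, fun g => ?_, hndvd⟩
  rw [hS g, hiff g θ θ, eq_comm]

end Cfsg.Agent.S4723
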