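import Cfsg.Statements.S4725
import Cfsg.Agent.Lib.Block.InducedDegree
import Cfsg.Agent.Lib.Block.BrauerFeit

/-!
# Induction of height zero characters through blocks of equal defect
-/

set_option autoImplicit false
open Cfsg

namespace Cfsg.Agent.S4725

open CfsgLib CfsgLib.Block
open scoped ComplexConjugate

/-- Let p be a prime, M a maximal ideal of the algebraic integers containing p, H a subgroup of the finite group G, and b a p-block of H inducing the p-block B of G, with b and B of the same defect. Then for every height-zero ζ ∈ b there is a height-zero χ ∈ B whose multiplicity in the character induced from ζ is not divisible by p. -/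
theorem result {G : Type*} [Group G] [Fintype G] (p : ℕ) [Fact p.Prime] (M : Ideal Cfsg.AlgInt) (hM : Cfsg.IsPModular p M) (H : Subgroup G) (b : Set (Cfsg.IrrCharacter ↥H)) (B : Set (Cfsg.IrrCharacter G)) (hind : Cfsg.IsInducedBlock M H b B) (hdef : Cfsg.blockDefect p b = Cfsg.blockDefect p B) (ζ : Cfsg.IrrCharacter ↥H) (hζ : ζ ∈ b) (hζ0 : Cfsg.blockHeight p b (ζ : ↥H → ℂ) = 0) : ∃ χ ∈ B, Cfsg.blockHeight p B (χ : G → ℂ) = 0 ∧ ∃ a : ℕ, Cfsg.classInner (Cfsg.indFun H (ζ : ↥H → ℂ)) (χ : G → ℂ) = (a : ℂ) ∧ ¬ p ∣ a := by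
  classical
  have := Fintype.ofFinite H
  have := Fintype.ofFinite (IrrCharacter G)
  have := Fintype.ofFinite (IrrCharacter H)
  have := Fintype.ofFinite (ConjClasses G)
  have := Fintype.ofFinite (ConjClasses H)
  haveI : M.IsMaximal := hM.2.1
  have hp : p.Prime := hM.1
  have hind' := hind
  obtain ⟨hb, hB, -⟩ := hind
  choose m hm using fun χ : IrrCharacter G =>
    Char.classInner_char_irr_nat (Char.isCharacter_indFun H (Char.isCharacter_irr ζ)) χ
  set s := Finset.univ.filter (· ∈ B) with hs
  set n := ∑ χ ∈ s, m χ * charDegree (χ : G → ℂ) with hn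
  set d := H.index * charDegree (ζ : H → ℂ) with hd
  have hd0 : d ≠ 0 := mul_ne_zero Subgroup.FiniteIndex.index_ne_zero (charDegree_eq ζ).2
  set u := omegaLoc M ζ (resHL M H (blockIdem M B)) with hu
  have h1 := blockPart_indFun_one hM hB ζ
  rw [Char.indFun_one, (charDegree_eq ζ).1, ← Nat.cast_mul, ← hd, ← hu] at h1
  have hnC : (n : ℂ) = blockPart B (indFun H (ζ : H → ℂ)) 1 := by
    rw [blockPart, finsum_mem_eq_finite_toFinset_sum _ (Set.toFinite _), hn]
    push_cast
    refine Finset.sum_congr (by ext; simp [hs]) fun χ _ => ?_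
    rw [← hm χ, ← (charDegree_eq χ).1]
    congr 1
    convert rfl
  rw [← hnC] at h1
  obtain ⟨hn0, hfac⟩ := (factorization_of_eq_mul hM hd0 h1).1 (by
    rw [hu, res_omegaLoc_resHL hM hind' hB hζ, if_pos rfl]
    exact one_ne_zero)
  have hmin : degVal p ζ = minDeg p b := (blockHeight_eq_zero_iff hζ).mp hζ0
  have hGH : (Nat.card G).factorization p = H.index.factorization p + (Nat.card H).factorization p := by
    rw [← Subgroup.index_mul_card H,
      Nat.factorization_mul Subgroup.FiniteIndex.index_ne_zero Nat.card_pos.ne', Finsupp.add_apply]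
  have hval : n.factorization p = minDeg p B := by
    rw [hfac, hd, Nat.factorization_mul Subgroup.FiniteIndex.index_ne_zero (charDegree_eq ζ).2,
      Finsupp.add_apply, show (charDegree (ζ : H → ℂ)).factorization p = minDeg p b from hmin]
    have e : (Nat.card H).factorization p - minDeg p b = (Nat.card G).factorization p - minDeg p B := hdef
    have hb1 : minDeg p b ≤ (Nat.card H).factorization p := by
      rw [← hmin]
      exact degVal_le_card ζ
    obtain ⟨χ, hχ, hχmin⟩ := exists_minDeg (p := p) (isPBlock_nonempty hB)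
    have hB1 : minDeg p B ≤ (Nat.card G).factorization p := by
      rw [← hχmin]
      exact degVal_le_card χ
    omega
  by_contra hno
  have hdvd : p ^ (minDeg p B + 1) ∣ n := by
    refine Finset.dvd_sum fun χ hχ => ?_
    have hχB : χ ∈ B := (Finset.mem_filter.mp hχ).2
    by_cases h0 : blockHeight p B (χ : G → ℂ) = 0
    · have hpm : p ∣ m χ := by
        by_contra h
        exact hno ⟨χ, hχB, h0, m χ, hm χ, h⟩
      rw [pow_succ', ← (blockHeight_eq_zero_iff hχB).mp h0]
      exact mul_dvd_mul hpm (Nat.ordProj_dvd _ _)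
    · refine dvd_mul_of_dvd_right ((pow_dvd_pow p ?_).trans (Nat.ordProj_dvd _ _)) _
      have h2 : degVal p χ ≠ minDeg p B := fun h => h0 ((blockHeight_eq_zero_iff hχB).mpr h)
      have h3 := minDeg_le (p := p) hχB
      show minDeg p B + 1 ≤ degVal p χ
      omega
  have := (hp.pow_dvd_iff_le_factorization hn0).mp hdvd
  omega

end Cfsg.Agent.S4725
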