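import Cfsg.Statements.S4726
import Cfsg.Agent.Lib.Block.CentralizerInduced

/-!
# Induced blocks from a subgroup containing the centralizer of a defect group
-/

set_option autoImplicit false
open Cfsg

namespace Cfsg.Agent.S4726

open CfsgLib CfsgLib.Block
open scoped Pair

/-- Let p be a prime, M a maximal ideal of the algebraic integers containing p, H a subgroup of the finite group G and b a p-block of H with defect group D₀ such that C_G(D₀) ≤ H. Then b induces a block of G, and for every block B of G induced by b there is a defect group D of B with Z(D) ≤ Z(D₀) ≤ D₀ ≤ D (as subgroups of G). In particular, if the defect groups of B are abelian then D₀ is a defect group of B. -/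
theorem result {G : Type*} [Group G] [Finite G] (p : ℕ) [Fact p.Prime] (M : Ideal Cfsg.AlgInt) (hM : Cfsg.IsPModular p M) (H : Subgroup G) (b : Set (Cfsg.IrrCharacter ↥H)) (hb : Cfsg.IsPBlock M b) (D₀ : Subgroup ↥H) (hD₀ : Cfsg.IsDefectGroup p M b D₀) (hC : Subgroup.centralizer ((D₀.map H.subtype : Subgroup G) : Set G) ≤ H) : Cfsg.InducedBlockDefined M H b ∧ ∀ B : Set (Cfsg.IrrCharacter G), Cfsg.IsInducedBlock M H b B → (∃ D : Subgroup G, Cfsg.IsDefectGroup p M B D ∧ (Subgroup.center ↥D).map D.subtype ≤ ((Subgroup.center ↥D₀).map D₀.subtype).map H.subtype ∧ ((Subgroup.center ↥D₀).map D₀.subtype).map H.subtype ≤ D₀.map H.subtype ∧ D₀.map H.subtype ≤ D) ∧ (∀ D : Subgroup G, Cfsg.IsDefectGroup p M B D → IsMulCommutative ↥D → Cfsg.IsDefectGroup p M B (D₀.map H.subtype)) := by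
  classical
  have := Fintype.ofFinite G
  haveI : M.IsMaximal := hM.2.1
  set P : Subgroup G := D₀.map H.subtype with hP
  have hPH : P ≤ H := Subgroup.map_subtype_le _
  have hsub : P.subgroupOf H = D₀ :=
    Subgroup.comap_map_eq_self_of_injective H.subtype_injective D₀
  have hPp : IsPGroup p P := (isPGroup_defectGroup hM hb hD₀).map _
  obtain ⟨g, hg, hgc, -⟩ := exists_isSylowCent_of_isDefectGroup hM hb hD₀
  have hne : ∃ x ∈ CQ P, (eG M b).coeff x ≠ 0 := by
    refine ⟨g, Subgroup.mem_centralizer_iff.mpr ?_, by rwa [coeff_eG]⟩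
    rintro _ ⟨u, hu, rfl⟩
    exact congrArg Subtype.val (hg.commute u hu)
  obtain ⟨e, he, heq⟩ := exists_pair_of_block hM hPp hPH hC hb hne
  obtain ⟨B₀, hB₀, -⟩ := existsUnique_block_of_pair hM he
  have hind := isInducedBlock_of_pair hM hC hb heq hB₀
  refine ⟨⟨B₀, hind⟩, fun B hB => ?_⟩
  obtain rfl : B = B₀ := inducedBlock_unique hB hind
  obtain ⟨E, hE, hPE, hZ⟩ := exists_defectGroup_center_le hM hC hPH hb (hsub.symm ▸ hD₀) heq hB₀
  refine ⟨⟨E, hE, ?_, Subgroup.map_mono (Subgroup.map_subtype_le _), hPE⟩, fun D hD hab => ?_⟩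
  · rintro _ ⟨z, hz, rfl⟩
    have hzP : (z : G) ∈ P := hZ ⟨z, hz, rfl⟩
    obtain ⟨d, hd, hde⟩ := hzP
    refine ⟨d, ⟨⟨d, hd⟩, Subgroup.mem_center_iff.mpr fun v => Subtype.ext (Subtype.ext ?_), rfl⟩, hde⟩
    have hv := congrArg Subtype.val (Subgroup.mem_center_iff.mp hz ⟨((v : H) : G), hPE ⟨v, v.2, rfl⟩⟩)
    have hde' : ((d : H) : G) = z := hde
    show ((v : H) : G) * (d : G) = (d : G) * ((v : H) : G)
    rw [hde']
    exact hv
  · obtain ⟨x, hx⟩ := defectGroup_conj hM hB₀.2.1 hD hE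
    have hcomm : ∀ a ∈ E, ∀ c ∈ E, a * c = c * a := by
      intro a ha c hc
      rw [← hx] at ha hc
      obtain ⟨a, ha, rfl⟩ := ha
      obtain ⟨c, hc, rfl⟩ := hc
      haveI := hab
      rw [← map_mul, ← map_mul]
      exact congrArg _ (congrArg Subtype.val (mul_comm' (⟨a, ha⟩ : D) ⟨c, hc⟩))
    have hEP : E = P := le_antisymm (fun a ha => hZ ⟨⟨a, ha⟩, Subgroup.mem_center_iff.mpr fun c =>
      Subtype.ext (hcomm c c.2 a ha), rfl⟩) hPE
    exact hEP ▸ hE

end Cfsg.Agent.S4726
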