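import Cfsg.Statements.S4727
import Cfsg.Agent.Lib.Block.KernelPairs
import Cfsg.Agent.Lib.Block.SubsectionSum

set_option autoImplicit false
open Cfsg CfsgLib.Block
open scoped CfsgLib.Block.Pair

namespace Cfsg.Agent.S4727

/-- Let p be a prime, π a set of primes containing p, M a maximal ideal of the algebraic integers containing p, and B a p-block of the finite group G with defect group D; let B₁ be the block of N_G(D) with defect group D that induces B (the Brauer correspondent of B). Suppose every element of O_π'(N_G(D)), the largest normal subgroup of N_G(D) whose order has no prime divisor in π, lies in the kernel of every member of B₁. If y is a p-element whose centralizer C has a normal Hall π'-subgroup (every element of C whose order has no prime divisor in π lies in O_π'(C)), then χ(y x) = χ(y) for every χ ∈ B and every x ∈ C whose order has no prime divisor in π. -/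
theorem result {G : Type*} [Group G] [Finite G] (p : ℕ) [Fact p.Prime] (M : Ideal Cfsg.AlgInt) (hM : Cfsg.IsPModular p M) (π : Set ℕ) (hpπ : p ∈ π) (B : Set (Cfsg.IrrCharacter G)) (hB : Cfsg.IsPBlock M B) (D : Subgroup G) (hBD : Cfsg.IsDefectGroup p M B D) (B₁ : Set (Cfsg.IrrCharacter ↥(Subgroup.normalizer (D : Set G)))) (hB₁ : Cfsg.IsInducedBlock M (Subgroup.normalizer (D : Set G)) B₁ B) (hB₁D : Cfsg.IsDefectGroup p M B₁ (D.subgroupOf (Subgroup.normalizer (D : Set G)))) (hker : ∀ n : ↥(Subgroup.normalizer (D : Set G)), n ∈ Cfsg.piCore {q | q ∉ π} ↥(Subgroup.normalizer (D : Set G)) → n ∈ Cfsg.blockKer B₁) (y : G) (hy : ∃ k : ℕ, orderOf y = p ^ k) (hC : ∀ x : ↥(Subgroup.centralizer ({y} : Set G)), (∀ q : ℕ, q.Prime → q ∣ orderOf x → q ∉ π) → x ∈ Cfsg.piCore {q | q ∉ π} ↥(Subgroup.centralizer ({y} : Set G))) : ∀ χ ∈ B, ∀ x : G, x ∈ Subgroup.centralizer ({y} : Set G) → (∀ q : ℕ, q.Prime → q ∣ orderOf x → q ∉ π) → (χ : G → ℂ) (y * x) = (χ : G → ℂ) y := by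
  classical
  have := hM.2.1
  letI := Fintype.ofFinite G
  have := Fintype.ofFinite (IrrCharacter G)
  set σ : Set ℕ := {q | q ∉ π} with hσdef
  have hσ : p ∉ σ := fun h => h hpπ
  obtain ⟨k, hk⟩ := hy
  set C := CQ (Subgroup.zpowers y) with hCdef
  have hCy : Subgroup.centralizer ({y} : Set G) = C := by
    rw [hCdef, CQ, Subgroup.zpowers_eq_closure, Subgroup.centralizer_closure]
  have hC' : ∀ t : G, t ∈ C ↔ Commute t y := fun t => mem_cq_zpowers_iff
  have hcom : ∀ t : C, Commute (t : G) y := fun t => (hC' t).mp t.2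
  intro χ hχ x hx hxo
  have hxc : x ∈ coreIn σ C := by
    rw [← hCy]
    exact coe_mem_coreIn.mpr (hC ⟨x, hx⟩ fun q hq hd => hxo q hq (by rwa [← Subgroup.orderOf_coe] at hd))
  have := Fintype.ofFinite (IrrCharacter C)
  let U : Finset (Set (IrrCharacter C)) := Finset.univ.filter (fun b => IsPBlock M b)
  have hU : ∀ b, b ∈ U ↔ IsPBlock M b := fun b => by simp [U]
  let w : C := ⟨x, coreIn_le hxc⟩
  have hw : ¬ p ∣ orderOf w := fun hd => hxo p hM.1 (by rwa [← Subgroup.orderOf_coe] at hd) hpπ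
  have h1 : ¬ p ∣ orderOf (1 : C) := by
    rw [orderOf_one]; exact hM.1.not_dvd_one
  have key : ∀ b ∈ U, blockPart b (secFun y C χ) w = blockPart b (secFun y C χ) 1 := by
    intro b hb
    have hb' := (hU b).mp hb
    obtain ⟨B', hB'⟩ := exists_induced_centralizer hM ⟨k, hk⟩ hC' hb'
    by_cases hχB : χ ∈ B'
    · rw [← isPBlock_eq_of_mem hB hB'.2.1 hχ hχB] at hB'
      have ht := coreTriv_of_kernel hM hσ hB hBD hB₁ hker
        ((isBrauerPairOf_zpowers_iff hM hB ⟨k, hk⟩).mpr hB')
      rw [blockPart_eq, blockPart_eq]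
      exact Finset.sum_congr rfl fun η hη => by rw [ht η (Finset.mem_filter.mp hη).2 w hxc]
    · rw [blockPart_secFun_eq_zero hM ⟨k, hk⟩ hC' hB' hχB hw,
        blockPart_secFun_eq_zero hM ⟨k, hk⟩ hC' hB' hχB h1]
  have e1 := secFun_eq_sum_blockPart hM hcom χ w U hU
  have e2 := secFun_eq_sum_blockPart hM hcom χ 1 U hU
  rw [Finset.sum_congr rfl key, ← e2] at e1
  simpa [secFun, w] using e1

end Cfsg.Agent.S4727
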