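import Cfsg.Statements.S4729
import Cfsg.Agent.Lib.Block.Defect
import Cfsg.Agent.Lib.Char.Integrality

/-!
# Small faithful characters in the principal block
-/

set_option autoImplicit false
open Cfsg

namespace Cfsg.Agent.S4729

open CfsgLib CfsgLib.Block
open scoped ComplexConjugate
theorem eigen_sum {d k : ℕ} (hk : k ≠ 0) (μ : Fin d → ℂ) (hμ : ∀ i, μ i ^ k = 1) {ζ : ℂ} (hζ : ζ ^ k = 1) :
    ∑ j ∈ Finset.range k, (∑ i, μ i ^ j) * ζ⁻¹ ^ j =
      (k : ℂ) * ((Finset.univ.filter (fun i => μ i = ζ)).card : ℂ) := by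
  have hζ0 : ζ ≠ 0 := fun h => by
    rw [h, zero_pow hk] at hζ
    exact zero_ne_one hζ
  simp only [Finset.sum_mul, ← mul_pow]
  rw [Finset.sum_comm, Finset.sum_congr rfl fun i _ =>
    show ∑ j ∈ Finset.range k, (μ i * ζ⁻¹) ^ j = if μ i = ζ then (k : ℂ) else 0 from ?_,
    ← Finset.sum_filter, Finset.sum_const, nsmul_eq_mul, mul_comm]
  split_ifs with h
  · simp [h, hζ0]
  · have hne : μ i * ζ⁻¹ ≠ 1 := fun e => h ((mul_inv_eq_one₀ hζ0).mp e)
    rw [geom_sum_eq hne, mul_pow, inv_pow, hμ i, hζ, inv_one, mul_one, sub_self, zero_div]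


/-- Let p be a prime, M a maximal ideal of the algebraic integers containing p, G a finite perfect group and P a Sylow p-subgroup. If the principal p-block of G contains a faithful irreducible character of degree less than 2p, then the centralizer of P is a p-group. -/
theorem result {G : Type*} [Group G] [Finite G] (p : ℕ) [Fact p.Prime] (M : Ideal Cfsg.AlgInt) (hM : Cfsg.IsPModular p M) (hperf : commutator G = ⊤) (P : Sylow p G) (χ : Cfsg.IrrCharacter G) (hχ : χ ∈ Cfsg.principalBlock M G) (hfaith : ∀ g : G, (χ : G → ℂ) g = (χ : G → ℂ) 1 → g = 1) (hdeg : Cfsg.charDegree (χ : G → ℂ) < 2 * p) : IsPGroup p ↥(Subgroup.centralizer ((P : Subgroup G) : Set G)) := by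
  classical
  have := Fintype.ofFinite G
  haveI : M.IsMaximal := hM.2.1
  have hp : p.Prime := hM.1
  suffices key : ∀ x ∈ Subgroup.centralizer ((P : Subgroup G) : Set G), ¬ p ∣ orderOf x → x = 1 by
    intro g
    refine ⟨(orderOf (g : G)).factorization p, ?_⟩
    apply Subtype.ext
    rw [Subgroup.coe_pow, OneMemClass.coe_one]
    refine key _ (Subgroup.pow_mem _ g.2 _) ?_
    rw [orderOf_pow' _ (pow_ne_zero _ hp.ne_zero), Nat.gcd_eq_right (Nat.ordProj_dvd _ _)]
    exact Nat.not_dvd_ordCompl hp (orderOf_pos _).ne'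
  intro x hx hreg
  obtain ⟨N, ρ, hρ, hχρ⟩ := χ.2
  obtain ⟨hd, hd0⟩ := charDegree_eq χ
  set d := charDegree (χ : G → ℂ) with hdd
  obtain ⟨b, μ, h1, h2, h3⟩ := Char.exists_eigen_data ρ x
  have hN : Module.finrank ℂ (Fin N → ℂ) = d := by
    rw [← hχρ, Representation.char_one] at hd
    exact_mod_cast hd
  set k := orderOf x with hk
  have hk0 : k ≠ 0 := (orderOf_pos x).ne'
  have hr : ∀ j : ℕ, ∃ r : locRing M, res M r = 0 ∧ (χ : G → ℂ) (x ^ j) - d = (d : ℂ) * (r : ℂ) := by
    intro j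
    set c := (Subgroup.centralizer ({x ^ j} : Set G)).index with hc
    have hc' : ¬ p ∣ c := fun h => P.not_dvd_index (h.trans (Subgroup.index_dvd_of_le fun u hu =>
      Subgroup.mem_centralizer_singleton_iff.mpr
        (Subgroup.mem_centralizer_iff.mp (Subgroup.pow_mem _ hx j) u hu)))
    have hc0 : (c : ℂ) ≠ 0 := Nat.cast_ne_zero.mpr fun e => hc' (e ▸ dvd_zero p)
    have hB := centralRes_eq_of_mem isPBlock_principalBlock hχ one_mem_principalBlock (x ^ j)
    refine ⟨invNat hM hc' * (⟨_, centralChar_mem χ (x ^ j)⟩ -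
      ⟨_, centralChar_mem (oneChar G) (x ^ j)⟩), ?_, ?_⟩
    · rw [centralRes, centralRes] at hB
      rw [map_mul, map_sub, hB, sub_self, mul_zero]
    · have hd0' : (d : ℂ) ≠ 0 := Nat.cast_ne_zero.mpr hd0
      simp only [MulMemClass.coe_mul, AddSubgroupClass.coe_sub, invNat, centralChar, ← hc, hd, oneChar]
      field_simp
  have hdiv : ∀ ζ : ℂ, ζ ^ k = 1 → ζ ≠ 1 →
      p ∣ (Finset.univ.filter (fun i => μ i = ζ)).card ∧
        (d = p → p * p ∣ (Finset.univ.filter (fun i => μ i = ζ)).card) := by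
    intro ζ hζ hζ1
    choose r hr0 hr using hr
    have hζ0 : ζ ≠ 0 := fun h => by
      rw [h, zero_pow hk0] at hζ
      exact zero_ne_one hζ
    have hint : ζ⁻¹ ∈ locRing M := by
      have e : ζ⁻¹ = ζ ^ (k - 1) := by
        rw [pow_sub₀ _ hζ0 (Nat.pos_of_ne_zero hk0), hζ, one_mul, pow_one]
      rw [e]
      exact Subring.pow_mem _ (integral_mem M (isIntegral_of_pow_eq_one (Nat.pos_of_ne_zero hk0) hζ)) _
    set cnt := (Finset.univ.filter (fun i => μ i = ζ)).card with hcnt
    set R : locRing M := ∑ j ∈ Finset.range k, r j * (⟨_, hint⟩ : locRing M) ^ j with hRdef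
    have hR0 : res M R = 0 := by
      rw [hRdef, map_sum]
      exact Finset.sum_eq_zero fun j _ => by rw [map_mul, hr0, zero_mul]
    have hgeo : ∑ j ∈ Finset.range k, ζ⁻¹ ^ j = 0 := by
      rw [geom_sum_eq (fun e => hζ1 (inv_eq_one.mp e)), inv_pow, hζ, inv_one, sub_self, zero_div]
    have heq : (k : ℂ) * (cnt : ℂ) = (d : ℂ) * (R : ℂ) := by
      rw [hcnt, ← eigen_sum hk0 μ h1 hζ, hRdef, AddSubmonoidClass.coe_finsetSum, Finset.mul_sum]
      simp only [MulMemClass.coe_mul, SubmonoidClass.coe_pow, ← mul_assoc, ← hr, sub_mul,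
        Finset.sum_sub_distrib, ← Finset.mul_sum, hgeo, mul_zero, sub_zero]
      exact Finset.sum_congr rfl fun j _ => by rw [← h3 j, hχρ]
    haveI := charP_resField (M := M) hM
    have hkne : (k : ResField M) ≠ 0 := fun h => hreg ((CharP.cast_eq_zero_iff _ p k).mp h)
    have hstep : ∀ (m : ℕ) (S : locRing M), res M S = 0 → (k : ℂ) * (m : ℂ) = (S : ℂ) → p ∣ m := by
      intro m S hS h
      have : ((k * m : ℕ) : locRing M) = S := Subtype.ext (by push_cast; exact h)
      have h' := congrArg (res M) this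
      rw [hS, res_natCast, Nat.cast_mul, mul_eq_zero, or_iff_right hkne] at h'
      exact (CharP.cast_eq_zero_iff _ p m).mp h'
    have hp1 : p ∣ cnt := hstep cnt ((d : locRing M) * R) (by rw [map_mul, hR0, mul_zero])
      (by push_cast; exact heq)
    refine ⟨hp1, fun hdp => ?_⟩
    obtain ⟨c', hc'⟩ := hp1
    rw [hc']
    refine Nat.mul_dvd_mul_left p (hstep c' R hR0 ?_)
    apply mul_left_cancel₀ (Nat.cast_ne_zero.mpr hp.ne_zero : (p : ℂ) ≠ 0)
    rw [hc', hdp] at heq
    push_cast at heq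
    linear_combination heq
  by_contra hx1
  obtain ⟨i₀, hi₀⟩ : ∃ i, μ i ≠ 1 := by
    by_contra hall
    push Not at hall
    refine hx1 (hfaith x ?_)
    have e1 := h3 1
    simp only [pow_one, hall, Finset.sum_const, Finset.card_univ, Fintype.card_fin, nsmul_eq_mul,
      mul_one] at e1
    rw [← hχρ, e1, hN, Representation.char_one, hN]
  set S : Fin (Module.finrank ℂ (Fin N → ℂ)) → Finset (Fin (Module.finrank ℂ (Fin N → ℂ))) :=
    fun i => Finset.univ.filter (fun l => μ l = μ i) with hS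
  have hpos : ∀ i, 0 < (S i).card := fun i =>
    Finset.card_pos.mpr ⟨i, Finset.mem_filter.mpr ⟨Finset.mem_univ _, rfl⟩⟩
  have hle : ∀ i, (S i).card ≤ d := fun i => by
    rw [← hN]
    exact (Finset.card_le_univ _).trans (le_of_eq (Fintype.card_fin _))
  obtain ⟨hp0, hpp⟩ := hdiv (μ i₀) (h1 i₀) hi₀
  have hge : p ≤ (S i₀).card := Nat.le_of_dvd (hpos i₀) hp0
  have hdp : d ≠ p := by
    intro h
    have := (Nat.le_of_dvd (hpos i₀) (hpp h)).trans (hle i₀)
    nlinarith [hp.two_le]
  have hcard : (S i₀).card = p := by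
    obtain ⟨c, hc⟩ := hp0
    have hc' : (S i₀).card = p * c := hc
    have h4 := hle i₀
    have h5 : c < 2 := Nat.lt_of_mul_lt_mul_left (a := p) (by rw [← hc']; omega)
    have h6 : c ≠ 0 := fun e => (hpos i₀).ne' (by rw [hc', e, mul_zero])
    rw [hc', show c = 1 by omega, mul_one]
  have hother : ∀ i, μ i = 1 ∨ μ i = μ i₀ := by
    intro i
    by_contra h
    push Not at h
    have hge' : p ≤ (S i).card := Nat.le_of_dvd (hpos i) (hdiv (μ i) (h1 i) h.1).1
    have hdisj : Disjoint (S i) (S i₀) := Finset.disjoint_filter.mpr fun l _ e e' => h.2 (e.symm.trans e')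
    have h4 := Finset.card_union_of_disjoint hdisj
    have h5 : (S i ∪ S i₀).card ≤ d := by
      rw [← hN]
      exact (Finset.card_le_univ _).trans (le_of_eq (Fintype.card_fin _))
    omega
  have hdet : LinearMap.det (ρ x) = 1 := by
    let φ : G →* ℂˣ := (LinearMap.det.comp ρ).toHomUnits
    have hmem : x ∈ φ.ker := Abelianization.commutator_subset_ker φ (hperf ▸ Subgroup.mem_top x)
    exact congrArg Units.val (MonoidHom.mem_ker.mp hmem)
  have hdiag : LinearMap.det (ρ x) = ∏ i, μ i := by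
    rw [← LinearMap.det_toMatrix b, show LinearMap.toMatrix b b (ρ x) = Matrix.diagonal μ from ?_,
      Matrix.det_diagonal]
    ext i j
    have h4 := h2 1 j
    rw [pow_one, pow_one] at h4
    rw [LinearMap.toMatrix_apply, h4, map_smul, b.repr_self, Matrix.diagonal_apply]
    by_cases hij : i = j <;> simp [hij]
  rw [hdet, Finset.prod_congr rfl fun i _ => show μ i = if μ i = μ i₀ then μ i₀ else 1 by
      split_ifs with h
      · exact h
      · exact (hother i).resolve_right h,
    ← Finset.prod_filter, Finset.prod_const] at hdiag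
  have h7 : (Finset.univ.filter (fun l => μ l = μ i₀)).card = p := hcard
  rw [h7] at hdiag
  have h8 := pow_gcd_eq_one.mpr ⟨hdiag.symm, h1 i₀⟩
  rw [(hp.coprime_iff_not_dvd.mpr hreg).gcd_eq_one, pow_one] at h8
  exact hi₀ h8

end Cfsg.Agent.S4729
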