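import Cfsg.Statements.S4730
import Cfsg.Agent.Lib.Block.Defect
import Cfsg.Agent.Lib.Char.Vanish
import Cfsg.Agent.Lib.Char.Integrality

/-!
# Faithful characters of `p`-power degree
-/

set_option autoImplicit false
open Cfsg

namespace Cfsg.Agent.S4730

open CfsgLib CfsgLib.Block
open scoped ComplexConjugate

/-- Let p be a prime, M a maximal ideal of the algebraic integers containing p, and G a finite group with trivial centre, Sylow p-subgroup P of order p^a and centre Z(P) of order p^b. If χ is a faithful irreducible character of G whose degree is a power of p, then the p-block of χ has defect at most a − b; in particular, if P is abelian then χ lies in a block of defect zero. -/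
theorem result {G : Type*} [Group G] [Finite G] (p : ℕ) [Fact p.Prime] (M : Ideal Cfsg.AlgInt) (hM : Cfsg.IsPModular p M) (hZ : Subgroup.center G = ⊥) (P : Sylow p G) (a b : ℕ) (ha : Nat.card P = p ^ a) (hb : Nat.card (Subgroup.center ↥(P : Subgroup G)) = p ^ b) (χ : Cfsg.IrrCharacter G) (hfaith : ∀ g : G, (χ : G → ℂ) g = (χ : G → ℂ) 1 → g = 1) (n : ℕ) (hdeg : Cfsg.charDegree (χ : G → ℂ) = p ^ n) : Cfsg.blockDefect p (Cfsg.blockOf M (χ : G → ℂ)) ≤ a - b ∧ (IsMulCommutative ↥(P : Subgroup G) → Cfsg.blockDefect p (Cfsg.blockOf M (χ : G → ℂ)) = 0) := by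
  classical
  have := Fintype.ofFinite G
  haveI : M.IsMaximal := hM.2.1
  have hp : p.Prime := hM.1
  set Z : Subgroup G := (Subgroup.center ↥(P : Subgroup G)).map (P : Subgroup G).subtype with hZdef
  have hZcard : Nat.card Z = p ^ b := by
    rw [hZdef, Subgroup.card_subtype, hb]
  have hcent : ∀ z ∈ Z, ¬ p ∣ (Subgroup.centralizer ({z} : Set G)).index := by
    rintro _ ⟨z, hz, rfl⟩ hd
    refine P.not_dvd_index (hd.trans (Subgroup.index_dvd_of_le fun u hu => ?_))
    exact Subgroup.mem_centralizer_singleton_iff.mpr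
      (congrArg Subtype.val (Subgroup.mem_center_iff.mp hz ⟨u, hu⟩))
  have hzero : ∀ z ∈ Z, z ≠ 1 → (χ : G → ℂ) z = 0 := by
    intro z hz hz1
    obtain ⟨N, ρ, hρ, hχρ⟩ := χ.2
    have hfin : Module.finrank ℂ (Fin N → ℂ) = p ^ n := by
      have h := charDegree_eq χ
      rw [hdeg, ← hχρ, Representation.char_one] at h
      exact_mod_cast h.1
    rcases Char.char_zero_or_norm_eq_degree ρ z (by
      rw [hfin]
      exact (hp.coprime_iff_not_dvd.mpr (hcent z hz)).pow_left n) with h | h
    · rw [← hχρ]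
      exact h
    · exfalso
      obtain ⟨ω, hω⟩ := (Char.norm_char_eq_iff ρ z).mp h
      refine hz1 ((Subgroup.eq_bot_iff_forall _).mp hZ z (Subgroup.mem_center_iff.mpr fun g => ?_))
      have h1 : ρ (g * z * g⁻¹ * z⁻¹) = 1 := by
        rw [map_mul, map_mul, map_mul, hω]
        have h2 : ρ z * ρ z⁻¹ = 1 := by rw [← map_mul, mul_inv_cancel, map_one]
        have h3 : ρ g * ρ g⁻¹ = 1 := by rw [← map_mul, mul_inv_cancel, map_one]
        rw [hω] at h2
        rw [show (LinearMap.id : (Fin N → ℂ) →ₗ[ℂ] Fin N → ℂ) = 1 from rfl] at h2 ⊢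
        rw [mul_smul_comm, mul_one, smul_mul_assoc, h3, h2]
      have h5 := hfaith (g * z * g⁻¹ * z⁻¹) (by
        simp only [← hχρ, Representation.character, h1, map_one])
      rw [mul_inv_eq_one, mul_inv_eq_iff_eq_mul] at h5
      exact h5
  have hdiv : ∀ ψ ∈ blockOf M (χ : G → ℂ), b ≤ degVal p ψ := by
    intro ψ hψ
    have hr : ∀ z ∈ Z, z ≠ 1 → ∃ h : (ψ : G → ℂ) z / (ψ : G → ℂ) 1 ∈ locRing M, res M ⟨_, h⟩ = 0 := by
      intro z hz hz1
      set c := (Subgroup.centralizer ({z} : Set G)).index with hc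
      have hc' : ¬ p ∣ c := hcent z hz
      have h := centralRes_eq_of_mem (isPBlock_blockOf χ) (self_mem_blockOf χ) hψ (g := z)
      have h0 : centralRes M χ z = 0 := by
        rw [centralRes, ← map_zero (res M)]
        congr 1
        exact Subtype.ext (show centralChar (χ : G → ℂ) z = 0 by
          simp [centralChar, hzero z hz hz1])
      rw [h0] at h
      have he : (ψ : G → ℂ) z / (ψ : G → ℂ) 1 = (c : ℂ)⁻¹ * centralChar (ψ : G → ℂ) z := by
        have hc0 : (c : ℂ) ≠ 0 := Nat.cast_ne_zero.mpr fun e => hc' (e ▸ dvd_zero p)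
        rw [centralChar, ← hc]
        field_simp
      refine ⟨he ▸ mul_mem (inv_natCast_mem hM hc') (centralChar_mem ψ z), ?_⟩
      rw [show (⟨_, _⟩ : locRing M) = ⟨_, inv_natCast_mem hM hc'⟩ * ⟨_, centralChar_mem ψ z⟩ from
        Subtype.ext he, map_mul]
      rw [centralRes] at h
      rw [← h, mul_zero]
    obtain ⟨k, hk⟩ : ∃ k : ℕ, ∑ z : Z, (ψ : G → ℂ) z = (p : ℂ) ^ b * k := by
      obtain ⟨k, hk⟩ := Char.classInner_isCharacter
        (Char.isCharacter_comp (Char.isCharacter_irr ψ) Z.subtype)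
        (Char.isCharacter_of_isIrr (Char.isIrrCharacter_one (G := Z)))
      refine ⟨k, ?_⟩
      rw [classInner, hZcard] at hk
      simp only [Subgroup.coe_subtype, map_one, mul_one] at hk
      rw [← hk, ← mul_assoc, Nat.cast_pow,
        mul_inv_cancel₀ (pow_ne_zero _ (Nat.cast_ne_zero.mpr hp.ne_zero)), one_mul]
    by_contra hlt
    rw [not_le] at hlt
    obtain ⟨h1, hd0⟩ := charDegree_eq ψ
    set d := charDegree (ψ : G → ℂ) with hd
    set e := degVal p ψ with he
    have hm : ¬ p ∣ d / p ^ e := Nat.not_dvd_ordCompl hp hd0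
    have hdm : d = p ^ e * (d / p ^ e) := (Nat.ordProj_mul_ordCompl_eq_self d p).symm
    set m := d / p ^ e
    choose hin hres using hr
    let r : Z → locRing M := fun z => if h : (z : G) = 1 then 1 else ⟨_, hin z z.2 h⟩
    have hrc : ∀ z : Z, ((r z : locRing M) : ℂ) = (ψ : G → ℂ) z / (ψ : G → ℂ) 1 := by
      intro z
      simp only [r]
      split
      · rename_i h
        rw [h, div_self (by rw [h1]; exact Nat.cast_ne_zero.mpr hd0), OneMemClass.coe_one]
      · rfl
    have hs : res M (∑ z : Z, r z) = 1 := by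
      rw [map_sum, Finset.sum_eq_single (1 : Z)]
      · simp [r]
      · intro z _ hz
        have hz' : (z : G) ≠ 1 := fun h => hz (Subtype.ext h)
        simp only [r, dif_neg hz']
        exact hres z z.2 hz'
      · exact fun h => absurd (Finset.mem_univ _) h
    have heq : (∑ z : Z, r z) * (m : locRing M) = ((p ^ (b - e) * k : ℕ) : locRing M) := by
      apply Subtype.ext
      push_cast
      rw [Finset.sum_congr rfl fun z _ => hrc z, ← Finset.sum_div, hk, h1, hdm, Nat.cast_mul,
        Nat.cast_pow, show b = e + (b - e) by omega, pow_add]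
      have hp0 : (p : ℂ) ^ e ≠ 0 := pow_ne_zero _ (Nat.cast_ne_zero.mpr hp.ne_zero)
      have hm0 : (m : ℂ) ≠ 0 := Nat.cast_ne_zero.mpr fun h => hm (h ▸ dvd_zero p)
      rw [Nat.add_sub_cancel_left]
      field_simp
    have hcon := congrArg (res M) heq
    rw [map_mul, hs, one_mul, res_natCast, res_natCast] at hcon
    haveI := charP_resField (M := M) hM
    rw [(CharP.cast_eq_zero_iff (ResField M) p (p ^ (b - e) * k)).mpr
      (dvd_mul_of_dvd_left (dvd_pow_self p (by omega)) k)] at hcon
    exact hm ((CharP.cast_eq_zero_iff (ResField M) p m).mp hcon)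
  have hfa : (Nat.card G).factorization p = a := by
    have h := P.card_eq_multiplicity
    rw [ha] at h
    exact (Nat.pow_right_injective hp.two_le h).symm
  have hmain : blockDefect p (blockOf M (χ : G → ℂ)) ≤ a - b := by
    rw [blockDefect, hfa]
    refine Nat.sub_le_sub_left (le_csInf (Set.Nonempty.image _ ⟨χ, self_mem_blockOf χ⟩) ?_) a
    rintro _ ⟨ψ, hψ, rfl⟩
    exact hdiv ψ hψ
  refine ⟨hmain, fun hab => ?_⟩
  haveI := hab
  have htop : Subgroup.center ↥(P : Subgroup G) = ⊤ :=
    eq_top_iff.mpr fun x _ => Subgroup.mem_center_iff.mpr fun y => mul_comm' y x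
  rw [htop, Subgroup.card_top, ha] at hb
  have := Nat.pow_right_injective hp.two_le hb
  omega

end Cfsg.Agent.S4730
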