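import Cfsg.Statements.S4735
import Cfsg.Agent.Lib.Block.PrincipalCoreInflation
import Cfsg.Agent.Lib.Coprime.Core

/-!
# Norm square sums over the principal block and the quotient by the `p'`-core
-/

set_option autoImplicit false
open Cfsg

namespace Cfsg.Agent.S4735

open CfsgLib CfsgLib.Block CfsgLib.Block.Cyclic
open scoped ComplexConjugate

/-- Let p be a prime, M a maximal ideal of the algebraic integers containing p, G a finite group, H = O_p'(G) and Ḡ = G/H. For x ∈ G write λ(G, x) for the sum of |χ(x)|^2 over the irreducible characters χ in the principal p-block of G. Then λ(G, x) is a positive integer, λ(G, x) = λ(Ḡ, x̄) where x̄ is the image of x, and λ(G, x) ≤ #C_Ḡ(x̄). Moreover λ(G, 1) = [G : H] if and only if the principal block is the only p-block of Ḡ. -/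
theorem result {G : Type*} [Group G] [Finite G] (p : ℕ) [Fact p.Prime] (M : Ideal Cfsg.AlgInt) (hM : Cfsg.IsPModular p M) (x : G) : (∃ n : ℕ, 0 < n ∧ ∑ᶠ χ ∈ Cfsg.principalBlock M G, Complex.normSq ((χ : G → ℂ) x) = n) ∧ ∑ᶠ χ ∈ Cfsg.principalBlock M G, Complex.normSq ((χ : G → ℂ) x) = ∑ᶠ ψ ∈ Cfsg.principalBlock M (G ⧸ Cfsg.pPrimeCore p G), Complex.normSq ((ψ : G ⧸ Cfsg.pPrimeCore p G → ℂ) (QuotientGroup.mk x)) ∧ ∑ᶠ χ ∈ Cfsg.principalBlock M G, Complex.normSq ((χ : G → ℂ) x) ≤ (Nat.card ↥(Subgroup.centralizer ({(QuotientGroup.mk x : G ⧸ Cfsg.pPrimeCore p G)} : Set (G ⧸ Cfsg.pPrimeCore p G))) : ℝ) ∧ ((∑ᶠ χ ∈ Cfsg.principalBlock M G, Cfsg.charDegree (χ : G → ℂ) ^ 2) = (Cfsg.pPrimeCore p G).index ↔ ∀ B : Set (Cfsg.IrrCharacter (G ⧸ Cfsg.pPrimeCore p G)), Cfsg.IsPBlock M B → B = Cfsg.principalBlock M (G ⧸ Cfsg.pPrimeCore p G)) := by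
  classical
  have := Fintype.ofFinite G
  haveI : M.IsMaximal := hM.2.1
  haveI : (pPrimeCore p G).Normal := by
    haveI := CfsgLib.Coprime.pPrimeCore_characteristic (G := G) p
    infer_instance
  set N := pPrimeCore p G with hNdef
  have := Fintype.ofFinite N
  have := Fintype.ofFinite (G ⧸ N)
  have := Fintype.ofFinite (IrrCharacter (G ⧸ N))
  have hN : ¬ p ∣ Nat.card N :=
    hM.1.coprime_iff_not_dvd.mp (CfsgLib.Coprime.pPrimeCore_coprime hM.1).symm
  have himg : principalBlock M G = inflQ '' principalBlock M (G ⧸ N) := by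
    ext χ
    constructor
    · intro h
      obtain ⟨θ, hθ, e⟩ := PrincipalCore.exists_inflQ_eq hM hN h
      exact ⟨θ, hθ, e⟩
    · rintro ⟨θ, hθ, rfl⟩
      exact (PrincipalCore.inflQ_mem_iff hM hN θ).mpr hθ
  have hinj : Function.Injective (inflQ : IrrCharacter (G ⧸ N) → IrrCharacter G) := fun a b h =>
    Subtype.ext (funext fun q => by
      obtain ⟨g, rfl⟩ := QuotientGroup.mk_surjective q
      exact congrFun (congrArg Subtype.val h) g)
  have heq : ∀ y : G, ∑ᶠ χ ∈ principalBlock M G, Complex.normSq ((χ : G → ℂ) y) =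
      ∑ᶠ ψ ∈ principalBlock M (G ⧸ N), Complex.normSq ((ψ : G ⧸ N → ℂ) (QuotientGroup.mk y)) :=
    fun y => by
      rw [himg, finsum_mem_image hinj.injOn]
      rfl
  obtain ⟨n, hn, hsum⟩ := PrincipalCore.exists_normSq_sum_eq hM x
  refine ⟨⟨n, hn, hsum⟩, heq x, ?_, ?_⟩
  · rw [heq x, finsum_mem_eq_finite_toFinset_sum _ (Set.toFinite _)]
    refine (Finset.sum_le_sum_of_subset_of_nonneg (Finset.subset_univ _)
      fun ψ _ _ => Complex.normSq_nonneg _).trans (le_of_eq ?_)
    have h := Char.sum_irr_mul_conj (G := G ⧸ N) (x : G ⧸ N) (x : G ⧸ N)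
    rw [if_pos (IsConj.refl _), Finset.sum_congr rfl fun ψ _ => Complex.mul_conj _, ← Complex.ofReal_sum,
      ← Complex.ofReal_natCast] at h
    exact Complex.ofReal_injective h
  · have hdeg : (∑ᶠ χ ∈ principalBlock M G, charDegree (χ : G → ℂ) ^ 2) =
        ∑ ψ ∈ Finset.univ.filter (· ∈ principalBlock M (G ⧸ N)), charDegree (ψ : G ⧸ N → ℂ) ^ 2 := by
      rw [himg, finsum_mem_image hinj.injOn, finsum_mem_eq_finite_toFinset_sum _ (Set.toFinite _)]
      exact Finset.sum_congr (by ext; simp) fun ψ _ => rfl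
    have hall : ∑ ψ : IrrCharacter (G ⧸ N), charDegree (ψ : G ⧸ N → ℂ) ^ 2 = N.index := by
      have h := Char.sum_irr_mul_conj (G := G ⧸ N) 1 1
      rw [if_pos (IsConj.refl _), Finset.sum_congr rfl fun ψ _ => by
        rw [(charDegree_eq ψ).1, map_natCast, ← sq, ← Nat.cast_pow], ← Nat.cast_sum, Nat.cast_inj] at h
      rw [h, Subgroup.index_eq_card, ← Subgroup.card_top (G := G ⧸ N)]
      congr 1
      rw [show Subgroup.centralizer ({1} : Set (G ⧸ N)) = ⊤ from
        eq_top_iff.mpr fun u _ => Subgroup.mem_centralizer_singleton_iff.mpr (by rw [one_mul, mul_one])]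
    rw [hdeg, ← hall]
    constructor
    · intro h B hB
      obtain ⟨ψ, hψ⟩ := isPBlock_nonempty hB
      refine isPBlock_eq_of_mem hB isPBlock_principalBlock hψ ?_
      by_contra hne
      have h1 : ∑ θ ∈ Finset.univ.filter (· ∈ principalBlock M (G ⧸ N)),
          charDegree (θ : G ⧸ N → ℂ) ^ 2 < ∑ θ : IrrCharacter (G ⧸ N), charDegree (θ : G ⧸ N → ℂ) ^ 2 :=
        Finset.sum_lt_sum_of_subset (Finset.subset_univ _) (Finset.mem_univ ψ)
          (fun h' => hne (Finset.mem_filter.mp h').2)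
          (pow_pos (Nat.pos_of_ne_zero (charDegree_eq ψ).2) 2) fun _ _ _ => Nat.zero_le _
      omega
    · intro h
      refine Finset.sum_congr (Finset.filter_eq_self.mpr fun ψ _ => ?_) fun _ _ => rfl
      exact h _ (isPBlock_blockOf ψ) ▸ self_mem_blockOf ψ

end Cfsg.Agent.S4735
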