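import Cfsg.Statements.S4736
import Cfsg.Agent.Lib.Block.PSolvablePrincipal
import Cfsg.Agent.Lib.Block.ItoMichler

set_option autoImplicit false
open Cfsg CfsgLib.Block
open scoped Pair

namespace Cfsg.Agent.S4736

/-- Let p be a prime, M a maximal ideal of the algebraic integers containing p, and G a finite p-solvable group with Sylow p-subgroup P. Then P is abelian if and only if every irreducible character in the principal p-block of G has height zero. -/
theorem result {G : Type*} [Group G] [Finite G] (p : ℕ) [Fact p.Prime] (M : Ideal Cfsg.AlgInt) (hM : Cfsg.IsPModular p M) (hsolv : Cfsg.IsPSolvable p G) (P : Sylow p G) : IsMulCommutative P ↔ ∀ χ ∈ Cfsg.principalBlock M G, Cfsg.blockHeight p (Cfsg.principalBlock M G) (χ : G → ℂ) = 0 := by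
  classical
  have := hM.2.1
  set N := Cfsg.pPrimeCore p G with hNdef
  have : N.Characteristic := CfsgLib.Coprime.pPrimeCore_characteristic p
  rw [CfsgLib.Block.PSolvablePrincipal.heights_zero_iff hM hsolv]
  have hs := CfsgLib.PGroup.isPSolvable_quotient (Fact.out : p.Prime) hsolv N
  set Pb : Sylow p (G ⧸ N) := P.mapSurjective (QuotientGroup.mk'_surjective N)
  have hPb : (Pb : Subgroup (G ⧸ N)) = (P : Subgroup G).map (QuotientGroup.mk' N) :=
    Sylow.coe_mapSurjective _ P
  constructor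
  · intro hc θ
    have hcomm : ∀ a ∈ (Pb : Subgroup (G ⧸ N)), ∀ b ∈ (Pb : Subgroup (G ⧸ N)), a * b = b * a := by
      rw [hPb]
      rintro _ ⟨a, ha, rfl⟩ _ ⟨b, hb, rfl⟩
      rw [← map_mul, ← map_mul]
      exact congrArg (fun z : (P : Subgroup G) => QuotientGroup.mk' N (z : G)) (hc.is_comm.comm ⟨a, ha⟩ ⟨b, hb⟩)
    have hle : (Pb : Subgroup (G ⧸ N)) ≤ Cfsg.pCore p (G ⧸ N) := by
      refine le_trans (fun x hx => ?_) (CfsgLib.Block.centralizer_pCore_le_of_isPSolvable hs
        (CfsgLib.Coprime.pPrimeCore_quotient_eq_bot (Fact.out : p.Prime)))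
      rw [Subgroup.mem_centralizer_iff]
      exact fun y hy => hcomm y (CfsgLib.Coprime.pCore_le_sylow Pb hy) x hx
    have heq : (Pb : Subgroup (G ⧸ N)) = Cfsg.pCore p (G ⧸ N) :=
      le_antisymm hle (CfsgLib.Coprime.pCore_le_sylow Pb)
    haveI : (Pb : Subgroup (G ⧸ N)).Normal := heq ▸ CfsgLib.Coprime.pCore_normal' p
    exact CfsgLib.Block.ItoMichler.degrees_of_abelian (Pb : Subgroup (G ⧸ N)) hcomm Pb.not_dvd_index θ
  · intro h
    haveI := CfsgLib.Block.ItoMichler.normal_sylow (G ⧸ N) hs h Pb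
    have hab := CfsgLib.Block.ItoMichler.comm_of_degrees h (Pb : Subgroup (G ⧸ N)) Pb.2
    refine ⟨⟨fun a b => Subtype.ext ?_⟩⟩
    have hmem : ∀ z : (P : Subgroup G), QuotientGroup.mk' N (z : G) ∈ (Pb : Subgroup (G ⧸ N)) :=
      fun z => hPb ▸ Subgroup.mem_map_of_mem _ z.2
    have h1 : QuotientGroup.mk' N (a : G) * QuotientGroup.mk' N (b : G) =
        QuotientGroup.mk' N (b : G) * QuotientGroup.mk' N (a : G) :=
      congrArg Subtype.val (hab.is_comm.comm ⟨_, hmem a⟩ ⟨_, hmem b⟩)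
    have h2 : (a : G) * b * (a : G)⁻¹ * (b : G)⁻¹ ∈ (P : Subgroup G) ⊓ N := by
      refine ⟨(P : Subgroup G).mul_mem ((P : Subgroup G).mul_mem ((P : Subgroup G).mul_mem a.2 b.2) ((P : Subgroup G).inv_mem a.2)) ((P : Subgroup G).inv_mem b.2),
        (QuotientGroup.eq_one_iff _).1 ?_⟩
      have : QuotientGroup.mk' N ((a : G) * b * (a : G)⁻¹ * (b : G)⁻¹) = 1 := by
        rw [map_mul, map_mul, map_mul, map_inv, map_inv, h1]
        group
      exact this
    have h3 : (P : Subgroup G) ⊓ N = ⊥ := by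
      refine Subgroup.inf_eq_bot_of_coprime ?_
      obtain ⟨k, hk⟩ := IsPGroup.iff_card.mp P.2
      rw [hk]
      exact Nat.Coprime.pow_left _ (CfsgLib.Coprime.pPrimeCore_coprime (Fact.out : p.Prime)).symm
    rw [h3, Subgroup.mem_bot, mul_inv_eq_one, mul_inv_eq_iff_eq_mul] at h2
    exact h2

end Cfsg.Agent.S4736
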