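import Cfsg.Statements.S4737
import Cfsg.Agent.Lib.Block.ThreeClasses

set_option autoImplicit false
open Cfsg

namespace Cfsg.Agent.S4737

/-- Let G be a finite group of order divisible by 6. Then the number of irreducible characters of G whose degree has the same 2-part as the order of G (the characters of 2-defect zero, each forming a 2-block of defect zero on its own) is at least the number of conjugacy classes of elements of order 3 that normalize no nontrivial 2-subgroup of G. In particular G has a 2-block of defect zero as soon as some element of order 3 normalizes no nontrivial 2-subgroup. -/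
theorem result {G : Type*} [Group G] [Finite G] (h6 : 6 ∣ Nat.card G) : Nat.card {C : ConjClasses G // ∃ g ∈ C.carrier, orderOf g = 3 ∧ ∀ Q : Subgroup G, IsPGroup 2 ↥Q → g ∈ Subgroup.normalizer (Q : Set G) → Q = ⊥} ≤ Nat.card {χ : Cfsg.IrrCharacter G // (Cfsg.charDegree (χ : G → ℂ)).factorization 2 = (Nat.card G).factorization 2} := by
  exact CfsgLib.Block.ThreeClasses.card_classes_le

end Cfsg.Agent.S4737
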