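import Cfsg.Statements.S4738
import Cfsg.Agent.Lib.Char.StrunkovInvolutions

set_option autoImplicit false
open Cfsg

namespace Cfsg.Agent.S4738

/-- Let p be an odd prime and G a finite group of even order containing no element of order 2p. Then either G has an irreducible character of p-defect zero (its degree has the same p-part as the order of G), or every Sylow p-subgroup of G is abelian and all involutions of G are conjugate. -/
theorem result {G : Type*} [Group G] [Finite G] (p : ℕ) [Fact p.Prime] (hp2 : p ≠ 2) (hG : Even (Nat.card G)) (h2p : ∀ g : G, orderOf g ≠ 2 * p) : (∃ χ : Cfsg.IrrCharacter G, (Cfsg.charDegree (χ : G → ℂ)).factorization p = (Nat.card G).factorization p) ∨ ((∀ P : Sylow p G, IsMulCommutative ↥(P : Subgroup G)) ∧ ∀ s t : G, orderOf s = 2 → orderOf t = 2 → IsConj s t) := by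
  exact or_iff_not_imp_left.2 fun hno => CfsgLib.Char.Strunkov.abelian_and_one_class hp2 hG
    (CfsgLib.Char.Strunkov.NoComm.of_no_two_p hp2 h2p) hno

end Cfsg.Agent.S4738
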