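import Cfsg.Statements.S4740
import Cfsg.Agent.Lib.Char.Strunkov

set_option autoImplicit false
open Cfsg

namespace Cfsg.Agent.S4740

/-- Let p be an odd prime, G a finite group of even order, x an involution of G and P a subgroup of G of order p ^ c such that no conjugate of x inverts a non-identity element of P. If p ^ a is the p-part of the order of C_G(x), then some irreducible character of G has degree divisible by p ^ (c - a). -/
theorem result {G : Type*} [Group G] [Finite G] (p : ℕ) [Fact p.Prime] (hp2 : p ≠ 2) (hG : Even (Nat.card G)) (x : G) (hx : orderOf x = 2) (P : Subgroup G) (c : ℕ) (hP : Nat.card ↥P = p ^ c) (hinv : ∀ g : G, IsConj x g → ∀ z ∈ P, z ≠ 1 → g * z * g⁻¹ ≠ z⁻¹) (a : ℕ) (ha : (Nat.card ↥(Subgroup.centralizer ({x} : Set G))).factorization p = a) : ∃ χ : Cfsg.IrrCharacter G, p ^ (c - a) ∣ Cfsg.charDegree (χ : G → ℂ) := by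
  subst ha
  refine CfsgLib.Char.Strunkov.exists_degree_dvd x P hP fun y hy hy1 => ?_
  rw [CfsgLib.Char.classConst, Nat.card_eq_zero]
  refine Or.inl ⟨fun ⟨⟨u, v⟩, hu, hv, huv⟩ => ?_⟩
  simp only at hu hv huv
  have hsq : ∀ w : G, IsConj x w → w * w = 1 := fun w hw => by
    obtain ⟨t, rfl⟩ := isConj_iff.1 hw
    rw [show t * x * t⁻¹ * (t * x * t⁻¹) = t * (x * x) * t⁻¹ by group, ← pow_two, ← hx,
      pow_orderOf_eq_one, mul_one, mul_inv_cancel]
  have hv2 : v * v = 1 := by
    rw [inv_eq_of_mul_eq_one_right (hsq x (IsConj.refl x))] at hv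
    exact hsq v hv
  refine hinv u hu y hy hy1 ?_
  rw [← huv, mul_inv_rev, inv_eq_of_mul_eq_one_right hv2, ← mul_assoc, hsq u hu, one_mul]

end Cfsg.Agent.S4740
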