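import Cfsg.Statements.S4746
import Cfsg.Agent.Lib.Char.StrunkovOdd

set_option autoImplicit false
open Cfsg

namespace Cfsg.Agent.S4746

/-- Let p be an odd prime and G a finite group of even order divisible by p in which the centralizer of every non-identity p-element has odd order. Then G has an irreducible character of p-defect zero or an irreducible character of even degree. -/
theorem result {G : Type*} [Group G] [Finite G] (p : ℕ) [Fact p.Prime] (hp2 : p ≠ 2) (hpG : p ∣ Nat.card G) (h2G : 2 ∣ Nat.card G) (hC : ∀ g : G, g ≠ 1 → (∃ k : ℕ, orderOf g = p ^ k) → Odd (Nat.card ↥(Subgroup.centralizer ({g} : Set G)))) : (∃ χ : Cfsg.IrrCharacter G, (Cfsg.charDegree (χ : G → ℂ)).factorization p = (Nat.card G).factorization p) ∨ ∃ χ : Cfsg.IrrCharacter G, Even (Cfsg.charDegree (χ : G → ℂ)) := by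
  have h : CfsgLib.Char.Strunkov.NoComm p 2 G := CfsgLib.Char.Strunkov.NoComm.of_centralizer
    fun g hg hgp hd => (Nat.not_even_iff_odd.2 (hC g hg hgp)) (even_iff_two_dvd.2 hd)
  refine or_iff_not_imp_left.2 fun hno => ?_
  obtain ⟨g, y, -, hy, hyp, hinv⟩ := CfsgLib.Char.Strunkov.exists_inverted h2G h hno
  exact CfsgLib.Char.Strunkov.exists_even_degree y hy (isConj_iff.2 ⟨g, hinv⟩)
    (CfsgLib.Char.Strunkov.card_roots_eq_one y (hC y hy hyp))

end Cfsg.Agent.S4746
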