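import Cfsg.Statements.S4751
import Cfsg.Agent.Lib.Char.Clifford
import Cfsg.Agent.Lib.Char.Linear
import Cfsg.Agent.Lib.Char.Degree
import Cfsg.Agent.Lib.Char.Integrality
import Cfsg.Agent.Lib.Char.Vanish
import Cfsg.Agent.Lib.Char.Determine
import Cfsg.Agent.Lib.Coprime.Core

set_option autoImplicit false
open Cfsg

namespace Cfsg.Agent.S4751

section
open CfsgLib.Char
open scoped ComplexConjugate

universe u

variable {G : Type u} [Group G] [Fintype G] {p : ℕ} [hp : Fact p.Prime]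

theorem mul_conj_eq_one {z : ℂ} (h : ‖z‖ = 1) : z * conj z = 1 := by
  rw [Complex.mul_conj', h]; simp

theorem dvd_orderOf_of_mem {H : Subgroup G} (hH : IsPGroup p H) {x : G} (hx : x ∈ H) (hx1 : x ≠ 1) :
    p ∣ orderOf x := by
  obtain ⟨k, hk⟩ := IsPGroup.iff_orderOf.1 hH ⟨x, hx⟩
  rw [Subgroup.orderOf_mk] at hk
  rw [hk]
  exact dvd_pow_self p fun h0 => hx1 (orderOf_eq_one_iff.1 (by rw [hk, h0, pow_zero]))

/-- The norm of the restriction to a `p`-subgroup. -/
theorem pgroup_norm (χ : G → ℂ) (n : ℕ) (hn : χ 1 = n)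
    (hnorm : ∀ g : G, p ∣ orderOf g → ‖χ g‖ = 1) (H : Subgroup G) [Fintype H] (hH : IsPGroup p H) :
    ∑ x : H, χ x * conj (χ x) + 1 = (n : ℂ) ^ 2 + (Nat.card H : ℂ) := by
  classical
  rw [← Finset.add_sum_erase _ _ (Finset.mem_univ (1 : H)), Finset.sum_congr rfl (g := fun _ => (1 : ℂ))
    fun x hx => mul_conj_eq_one (hnorm _ (dvd_orderOf_of_mem hH x.2
      fun e => (Finset.mem_erase.1 hx).1 (Subtype.ext e)))]
  rw [Finset.sum_const, Finset.card_erase_of_mem (Finset.mem_univ _), Finset.card_univ, nsmul_eq_mul,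
    mul_one, OneMemClass.coe_one, hn, Complex.conj_natCast, ← Nat.card_eq_fintype_card,
    Nat.cast_sub (Nat.card_pos), Nat.cast_one]
  ring

theorem classInner_self_nat {χ : G → ℂ} (hχ : IsCharacter G χ) (H : Subgroup G) [Fintype H] :
    ∃ N : ℕ, ∑ x : H, χ x * conj (χ x) = (Nat.card H : ℂ) * N := by
  obtain ⟨N, hN⟩ := classInner_isCharacter (isCharacter_comp hχ H.subtype) (isCharacter_comp hχ H.subtype)
  refine ⟨N, ?_⟩
  rw [← hN, classInner, ← mul_assoc, mul_inv_cancel₀ (by exact_mod_cast Nat.card_pos.ne'), one_mul]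
  rfl

variable (χ : IrrCharacter G) (n : ℕ) (hn : (χ : G → ℂ) 1 = n) (hn1 : n ≠ 1)
  (hfaith : ∀ g : G, (χ : G → ℂ) g = (χ : G → ℂ) 1 → g = 1)
  (hnorm : ∀ g : G, p ∣ orderOf g → ‖(χ : G → ℂ) g‖ = 1)
  (P : Subgroup G) [P.Normal] [Fintype P] (hP : IsPGroup p P) (hne : P ≠ ⊥)

include hn hn1 hfaith hnorm hP hne in
/-- The restriction to the normal `p`-subgroup is the regular character minus the trivial one. -/
theorem core_data : (∀ a ∈ P, ∀ b ∈ P, a * b = b * a) ∧ n + 1 = Nat.card P ∧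
    ∀ x ∈ P, x ≠ 1 → (χ : G → ℂ) x = -1 := by
  classical
  have hp' : p.Prime := hp.out
  haveI := Fintype.ofFinite (IrrCharacter P)
  set f : P → ℂ := fun x => (χ : G → ℂ) x with hf
  have hfc : IsCharacter P f := isCharacter_comp (isCharacter_irr χ) P.subtype
  choose m hm using fun θ : IrrCharacter P => classInner_char_irr_nat hfc θ
  choose d hd using fun θ : IrrCharacter P => isCharacter_degree (isCharacter_irr θ)
  have hexp : ∀ x : P, f x = ∑ θ : IrrCharacter P, (m θ : ℂ) * (θ : P → ℂ) x := fun x => by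
    conv_lhs => rw [classFun_expand (isClassFunction_of_isCharacter hfc)]
    simp [Finset.sum_apply, hm]
  have hdeg : n = ∑ θ : IrrCharacter P, m θ * d θ := by
    have h := hexp 1
    simp only [hd, hf, OneMemClass.coe_one, hn] at h
    exact_mod_cast h
  have hpar : classInner f f = ((∑ θ : IrrCharacter P, m θ * m θ : ℕ) : ℂ) := by
    rw [classInner_expand (isClassFunction_of_isCharacter hfc), Nat.cast_sum]
    exact Finset.sum_congr rfl fun θ _ => by rw [hm, Complex.conj_natCast, Nat.cast_mul]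
  obtain ⟨N, hN⟩ : ∃ N : ℕ, N = ∑ θ : IrrCharacter P, m θ * m θ := ⟨_, rfl⟩
  have hbal : n ^ 2 + Nat.card P = Nat.card P * N + 1 := by
    have h := pgroup_norm (χ : G → ℂ) n hn hnorm P hP
    have h2 : ∑ x : P, (χ : G → ℂ) x * conj ((χ : G → ℂ) x) = (Nat.card P : ℂ) * N := by
      rw [hN, ← hpar, classInner, ← mul_assoc, mul_inv_cancel₀ (by exact_mod_cast Nat.card_pos.ne'),
        one_mul]
    rw [h2] at h
    exact_mod_cast h.symm
  obtain ⟨a, ha⟩ := hP.exists_card_eq
  have hq1 : 1 < Nat.card P := (Subgroup.one_lt_card_iff_ne_bot P).2 hne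
  have hpn : ¬ p ∣ n := by
    intro h
    have ha0 : a ≠ 0 := fun h0 => by rw [ha, h0, pow_zero] at hq1; omega
    have h1 : p ∣ Nat.card P := ha ▸ dvd_pow_self p ha0
    have h2 : p ∣ Nat.card P * N + 1 := hbal ▸ dvd_add (dvd_pow h two_ne_zero) h1
    exact hp'.not_dvd_one ((Nat.dvd_add_right (h1.mul_right N)).1 h2)
  obtain ⟨θ₀, hθ₀⟩ : ∃ θ : IrrCharacter P, ¬ p ∣ m θ * d θ := by
    by_contra h
    push Not at h
    exact hpn (hdeg ▸ Finset.dvd_sum fun θ _ => h θ)
  have hd₀ : d θ₀ = 1 := by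
    obtain ⟨j, -, hj⟩ := (Nat.dvd_prime_pow hp').1 (ha ▸ degree_dvd_card θ₀ (hd θ₀))
    rcases Nat.eq_zero_or_pos j with rfl | h
    · simpa using hj
    · exact absurd (dvd_mul_of_dvd_right (hj ▸ dvd_pow_self p h.ne') _) hθ₀
  have hm₀ : m θ₀ ≠ 0 := fun h => hθ₀ (by rw [h, zero_mul]; exact dvd_zero _)
  have hconj : ∀ θ : IrrCharacter P, m θ ≠ 0 →
      ∃ g : G, conjFun P (θ₀ : P → ℂ) g = (θ : P → ℂ) := by
    intro θ hθ
    by_contra hc
    push Not at hc
    have h0 := classInner_restrict_zero P χ.2 θ₀.2 θ.2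
      (by rw [show classInner (fun x : P => (χ : G → ℂ) x) (θ₀ : P → ℂ) = _ from hm θ₀]
          exact_mod_cast hm₀) hc
    rw [show classInner (fun x : P => (χ : G → ℂ) x) (θ : P → ℂ) = _ from hm θ] at h0
    exact hθ (by exact_mod_cast h0)
  have hlin : ∀ θ : IrrCharacter P, m θ ≠ 0 → d θ = 1 := by
    intro θ hθ
    obtain ⟨g, hg⟩ := hconj θ hθ
    have h := congrFun hg 1
    have e : conjFun P (θ₀ : P → ℂ) g 1 = (θ₀ : P → ℂ) 1 :=
      congrArg (θ₀ : P → ℂ) (Subtype.ext (by simp))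
    rw [e, hd, hd, hd₀] at h
    exact_mod_cast h.symm
  have hab : ∀ a ∈ P, ∀ b ∈ P, a * b = b * a := by
    intro a ha b hb
    have h : (χ : G → ℂ) (a * b * a⁻¹ * b⁻¹) = (χ : G → ℂ) 1 := by
      have h1 := hexp (⟨a, ha⟩ * ⟨b, hb⟩ * (⟨a, ha⟩ : P)⁻¹ * (⟨b, hb⟩ : P)⁻¹)
      have h2 := hexp 1
      simp only [hf, OneMemClass.coe_one] at h1 h2
      push_cast at h1
      rw [h1, h2]
      refine Finset.sum_congr rfl fun θ _ => ?_
      by_cases hθ : m θ = 0
      · simp [hθ]
      · obtain ⟨lam, hlam⟩ := linearCharEquiv.surjective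
          ⟨θ, (hd θ).trans (by rw [hlin θ hθ, Nat.cast_one])⟩
        have e : (θ : P → ℂ) = fun x => (lam x : ℂ) := by
          have := congrArg (fun z => ((z.1 : IrrCharacter P) : P → ℂ)) hlam
          exact this.symm
        rw [e]
        simp only [map_mul, map_one, map_inv]
        rw [mul_comm (lam _) (lam _), mul_inv_cancel_right, mul_inv_cancel]
    exact commutatorElement_eq_one_iff_mul_comm.1 (by rw [commutatorElement_def]; exact hfaith _ h)
  have hone : ∀ θ : IrrCharacter P, (θ : P → ℂ) 1 = 1 :=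
    degree_one_of_comm fun x y => Subtype.ext (hab x x.2 y y.2)
  have hcardI : Nat.card (IrrCharacter P) = Nat.card P := by
    have h := sum_degree_sq (G := P)
    simp only [hone, one_pow, Finset.sum_const, Finset.card_univ, nsmul_eq_mul, mul_one] at h
    rw [Nat.card_eq_fintype_card]
    exact_mod_cast h
  have hd1 : ∀ θ, d θ = 1 := fun θ => by
    have := (hd θ).symm.trans (hone θ); exact_mod_cast this
  have heq : ∀ θ, m θ ≠ 0 → m θ = m θ₀ := by
    intro θ hθ
    obtain ⟨g, hg⟩ := hconj θ hθ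
    have h := classInner_restrict_conj P (isClassFunction_irr χ) (θ₀ : P → ℂ) g
    rw [hg, show classInner (fun x : P => (χ : G → ℂ) x) (θ : P → ℂ) = _ from hm θ,
      show classInner (fun x : P => (χ : G → ℂ) x) (θ₀ : P → ℂ) = _ from hm θ₀] at h
    exact_mod_cast h
  let one' : IrrCharacter P := ⟨fun _ => 1, isIrrCharacter_one⟩
  have htriv : m one' = 0 := by
    by_contra h1
    obtain ⟨g1, hg1⟩ := hconj one' h1
    have hθ₀1 : (θ₀ : P → ℂ) = fun _ => 1 := by
      rw [(conjFun_eq_iff P (θ₀ : P → ℂ) (one' : P → ℂ) g1).1 hg1 |>.symm]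
      rfl
    obtain ⟨x, hx1⟩ : ∃ x : P, x ≠ 1 := by
      haveI := (Subgroup.nontrivial_iff_ne_bot P).2 hne
      exact exists_ne 1
    refine hx1 (Subtype.ext (hfaith _ ?_))
    have e1 := hexp x
    have e2 := hexp 1
    simp only [hf, OneMemClass.coe_one] at e1 e2
    rw [e1, e2]
    refine Finset.sum_congr rfl fun θ _ => ?_
    by_cases hθ : m θ = 0
    · simp [hθ]
    · obtain ⟨g, hg⟩ := hconj θ hθ
      rw [← hg, hθ₀1]
      rfl
  set S := Finset.univ.filter (fun θ : IrrCharacter P => m θ ≠ 0) with hS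
  set e := m θ₀ with he
  set t := S.card with ht
  have hsupp : ∀ F : ℕ → ℕ, F 0 = 0 → ∑ θ : IrrCharacter P, F (m θ) = t * F e := fun F hF => by
    rw [← Finset.sum_subset (Finset.subset_univ S) fun θ _ hθ => by
      simp [hS] at hθ; rw [hθ, hF],
      Finset.sum_congr rfl fun θ hθ => by rw [heq θ (Finset.mem_filter.1 hθ).2],
      Finset.sum_const, smul_eq_mul]
  have hne' : n = t * e := by
    have h := hsupp id rfl
    simp only [id] at h
    rw [hdeg, ← h]
    simp [hd1]
  have hN' : N = t * (e * e) := by rw [hN, ← hsupp (fun k => k * k) rfl]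
  have htq : t < Nat.card P := by
    rw [← hcardI, Nat.card_eq_fintype_card, ← Finset.card_univ]
    exact Finset.card_lt_card ⟨Finset.subset_univ S, fun h => by
      have := h (Finset.mem_univ one'); simp [hS, htriv] at this⟩
  have ht0 : 1 ≤ t := Finset.card_pos.2 ⟨θ₀, by simp only [hS, Finset.mem_filter]; exact ⟨Finset.mem_univ _, hm₀⟩⟩
  obtain ⟨s, hs⟩ : ∃ s, Nat.card P = t + s := ⟨Nat.card P - t, by omega⟩
  have hs0 : 1 ≤ s := by omega
  have he0 : 1 ≤ e := Nat.one_le_iff_ne_zero.2 hm₀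
  have hkey : t * s * (e * e) + 1 = t + s := by
    rw [hne', hN', hs] at hbal
    nlinarith [hbal]
  have hts : t = 1 ∨ s = 1 := by
    by_contra h
    push Not at h
    have h2 : 2 ≤ t := by omega
    have h3 : 2 ≤ s := by omega
    nlinarith [Nat.mul_le_mul_left (t * s) (Nat.mul_le_mul he0 he0), Nat.mul_le_mul h2 h3]
  have he1 : e = 1 := by
    rcases hts with h | h
    · rw [h] at hkey
      have : e * e = 1 := Nat.eq_of_mul_eq_mul_left hs0 (by linarith)
      exact Nat.eq_one_of_mul_eq_one_right this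
    · rw [h] at hkey
      have : e * e = 1 := Nat.eq_of_mul_eq_mul_left ht0 (by linarith)
      exact Nat.eq_one_of_mul_eq_one_right this
  have hs1 : s = 1 := by
    rcases hts with h | h
    · exact absurd (by rw [hne', h, he1]) hn1
    · exact h
  refine ⟨hab, by rw [hs, hs1, hne', he1, mul_one], fun x hx hx1 => ?_⟩
  have hSall : S = Finset.univ.erase one' := by
    refine Finset.eq_of_subset_of_card_le (fun θ hθ => Finset.mem_erase.2 ⟨fun h => ?_,
      Finset.mem_univ _⟩) ?_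
    · simp [hS, h, htriv] at hθ
    · rw [Finset.card_erase_of_mem (Finset.mem_univ _), Finset.card_univ, ← Nat.card_eq_fintype_card,
        hcardI]
      omega
  have hm' : ∀ θ, (m θ : ℂ) = 1 - if θ = one' then 1 else 0 := by
    intro θ
    split_ifs with h
    · rw [h, htriv]; simp
    · have : θ ∈ S := hSall ▸ Finset.mem_erase.2 ⟨h, Finset.mem_univ _⟩
      rw [heq θ (Finset.mem_filter.1 this).2, he1]; simp
  have h0 : ∑ θ : IrrCharacter P, (θ : P → ℂ) ⟨x, hx⟩ = 0 := by
    have := sum_irr_mul_conj (⟨x, hx⟩ : P) 1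
    simp only [hone, map_one, mul_one] at this
    rw [this, if_neg]
    intro h
    exact hx1 (congrArg Subtype.val (isConj_one_left.1 h))
  have := hexp ⟨x, hx⟩
  simp only [hf] at this
  rw [this]
  simp only [hm', sub_mul, one_mul, Finset.sum_sub_distrib, h0, ite_mul, zero_mul,
    Finset.sum_ite_eq', Finset.mem_univ, if_true, one', zero_sub]

include hn in
/-- The multiplicities of the linear characters of the normal subgroup. -/
theorem mult_eq (hnq : n + 1 = Nat.card P) (hval : ∀ x ∈ P, x ≠ 1 → (χ : G → ℂ) x = -1)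
    (θ : P → ℂ) (hθ1 : θ 1 = 1) :
    classInner (fun x : P => (χ : G → ℂ) x) θ = 1 - classInner (fun _ : P => (1 : ℂ)) θ := by
  classical
  have hq : (n : ℂ) + 1 = Nat.card P := by exact_mod_cast hnq
  have h : ∀ x : P, (χ : G → ℂ) x * conj (θ x) =
      (if x = 1 then (Nat.card P : ℂ) else 0) - 1 * conj (θ x) := by
    intro x
    split_ifs with hx
    · subst hx
      rw [OneMemClass.coe_one, hn, hθ1, map_one, ← hq]; ring
    · rw [hval x x.2 fun e => hx (Subtype.ext e)]; ring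
  simp only [classInner]
  rw [Finset.sum_congr rfl fun x _ => h x, Finset.sum_sub_distrib, Finset.sum_ite_eq',
    if_pos (Finset.mem_univ _), mul_sub, inv_mul_cancel₀ (by exact_mod_cast Nat.card_pos.ne')]

include hn in
theorem mult_one (hnq : n + 1 = Nat.card P) (hval : ∀ x ∈ P, x ≠ 1 → (χ : G → ℂ) x = -1)
    (θ : IrrCharacter P) (hθ1 : (θ : P → ℂ) 1 = 1) (hθ : (θ : P → ℂ) ≠ fun _ => 1) :
    classInner (fun x : P => (χ : G → ℂ) x) (θ : P → ℂ) = 1 := by
  rw [mult_eq χ n hn P hnq hval _ hθ1,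
    show classInner (fun _ : P => (1 : ℂ)) (θ : P → ℂ) = 0 from
      classInner_irr_ne (χ := ⟨_, isIrrCharacter_one⟩) (ψ := θ) fun h => hθ (congrArg Subtype.val h).symm,
    sub_zero]

include hn in
theorem transitive (hnq : n + 1 = Nat.card P) (hval : ∀ x ∈ P, x ≠ 1 → (χ : G → ℂ) x = -1)
    (α β : IrrCharacter P) (hα : (α : P → ℂ) 1 = 1) (hα1 : (α : P → ℂ) ≠ fun _ => 1)
    (hβ : (β : P → ℂ) 1 = 1) (hβ1 : (β : P → ℂ) ≠ fun _ => 1) :
    ∃ g : G, conjFun P (α : P → ℂ) g = (β : P → ℂ) := by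
  by_contra hc
  push Not at hc
  have h0 := classInner_restrict_zero P χ.2 α.2 β.2
    (by rw [mult_one χ n hn P hnq hval α hα hα1]; exact one_ne_zero) hc
  rw [mult_one χ n hn P hnq hval β hβ hβ1] at h0
  exact one_ne_zero h0

include hn in
theorem mult_le_one (hnq : n + 1 = Nat.card P) (hval : ∀ x ∈ P, x ≠ 1 → (χ : G → ℂ) x = -1)
    (θ : IrrCharacter P) (hθ1 : (θ : P → ℂ) 1 = 1) (k : ℕ)
    (hk : classInner (fun x : P => (χ : G → ℂ) x) (θ : P → ℂ) = k) : k ≤ 1 := by
  by_cases hθ : (θ : P → ℂ) = fun _ => 1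
  · rw [mult_eq χ n hn P hnq hval _ hθ1, hθ,
      show classInner (fun _ : P => (1 : ℂ)) (fun _ : P => (1 : ℂ)) = 1 from
        classInner_irr_self ⟨_, isIrrCharacter_one⟩, sub_self] at hk
    have : k = 0 := by exact_mod_cast hk.symm
    omega
  · rw [mult_one χ n hn P hnq hval θ hθ1 hθ] at hk
    have : k = 1 := by exact_mod_cast hk.symm
    omega

include hn in
/-- The restriction to an abelian overgroup is multiplicity free. -/
theorem abelian_norm (hnq : n + 1 = Nat.card P) (hval : ∀ x ∈ P, x ≠ 1 → (χ : G → ℂ) x = -1)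
    (A : Subgroup G) [Fintype A] (hPA : P ≤ A) (hA : ∀ a ∈ A, ∀ b ∈ A, a * b = b * a) :
    ∑ a : A, (χ : G → ℂ) a * conj ((χ : G → ℂ) a) = (Nat.card A : ℂ) * n := by
  classical
  haveI := Fintype.ofFinite (IrrCharacter A)
  set f : A → ℂ := fun x => (χ : G → ℂ) x with hf
  have hfc : IsCharacter A f := isCharacter_comp (isCharacter_irr χ) A.subtype
  choose m hm using fun θ : IrrCharacter A => classInner_char_irr_nat hfc θ
  have hone : ∀ θ : IrrCharacter A, (θ : A → ℂ) 1 = 1 :=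
    degree_one_of_comm fun x y => Subtype.ext (hA x x.2 y y.2)
  have hexp : ∀ x : A, f x = ∑ θ : IrrCharacter A, (m θ : ℂ) * (θ : A → ℂ) x := fun x => by
    conv_lhs => rw [classFun_expand (isClassFunction_of_isCharacter hfc)]
    simp [Finset.sum_apply, hm]
  have hle : ∀ ψ, m ψ ≤ 1 := by
    intro ψ
    let i : P →* A := Subgroup.inclusion hPA
    obtain ⟨lam, hlam⟩ := linearCharEquiv.surjective ⟨ψ, hone ψ⟩
    have e : (ψ : A → ℂ) = fun x => (lam x : ℂ) := by
      have := congrArg (fun z => ((z.1 : IrrCharacter A) : A → ℂ)) hlam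
      exact this.symm
    let θ : IrrCharacter P := ⟨fun x => ((lam.comp i) x : ℂ), isIrrCharacter_lin (lam.comp i)⟩
    have hθ1 : (θ : P → ℂ) 1 = 1 := by show ((lam.comp i 1 : ℂˣ) : ℂ) = 1; simp
    choose k hk using fun φ : IrrCharacter A =>
      classInner_isCharacter (isCharacter_comp (isCharacter_irr φ) i) (isCharacter_irr θ)
    have hsum : classInner (fun x : P => (χ : G → ℂ) x) (θ : P → ℂ) =
        ((∑ φ : IrrCharacter A, m φ * k φ : ℕ) : ℂ) := by
      rw [show (fun x : P => (χ : G → ℂ) x) = ∑ φ : IrrCharacter A,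
          (m φ : ℂ) • (fun x : P => (φ : A → ℂ) (i x)) from funext fun x => by
        simp only [Finset.sum_apply, Pi.smul_apply, smul_eq_mul]
        exact hexp (i x), classInner_sum_left, Nat.cast_sum]
      exact Finset.sum_congr rfl fun φ _ => by rw [classInner_smul_left, Nat.cast_mul, ← hk φ]
    have h1 := mult_le_one χ n hn P hnq hval θ hθ1 _ hsum
    have hkψ : k ψ = 1 := by
      have h2 := hk ψ
      rw [show (fun x : P => (ψ : A → ℂ) (i x)) = (θ : P → ℂ) from funext fun x => by rw [e]; rfl,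
        classInner_irr_self θ] at h2
      exact_mod_cast h2.symm
    have := Finset.single_le_sum (f := fun φ => m φ * k φ) (fun φ _ => Nat.zero_le _)
      (Finset.mem_univ ψ)
    simp only [hkψ, mul_one] at this
    omega
  have hn' : n = ∑ θ : IrrCharacter A, m θ := by
    have h := hexp 1
    simp only [hone, hf, OneMemClass.coe_one, hn, mul_one] at h
    exact_mod_cast h
  have h := classInner_expand (f := f) (isClassFunction_of_isCharacter hfc)
  rw [classInner] at h
  have h2 : ∑ θ : IrrCharacter A, classInner f θ * conj (classInner f θ) = (n : ℂ) := by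
    rw [hn', Nat.cast_sum]
    refine Finset.sum_congr rfl fun θ _ => ?_
    rw [hm, Complex.conj_natCast]
    rcases (show m θ = 0 ∨ m θ = 1 by have := hle θ; omega) with h | h <;> simp [h]
  rw [h2] at h
  rw [← h, ← mul_assoc, mul_inv_cancel₀ (by exact_mod_cast Nat.card_pos.ne'), one_mul]

include hfaith in
theorem mem_center_of_scalar {m : ℕ} (ρ : Representation ℂ G (Fin m → ℂ))
    (hρ : ρ.character = (χ : G → ℂ)) (c : G) (hc : ∃ ω : ℂ, ρ c = ω • LinearMap.id) :
    c ∈ Subgroup.center G := by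
  obtain ⟨ω, hω⟩ := hc
  rw [Subgroup.mem_center_iff]
  intro g
  have hcomm : ρ g * ρ c = ρ c * ρ g := by rw [hω]; ext v; simp
  have h1 : ρ (g * c * (c * g)⁻¹) = 1 := by
    rw [map_mul, map_mul, hcomm, ← map_mul, ← map_mul, mul_inv_cancel, map_one]
  refine mul_inv_eq_one.1 (hfaith _ ?_)
  rw [← hρ]
  show LinearMap.trace ℂ _ (ρ _) = LinearMap.trace ℂ _ (ρ _)
  rw [h1, map_one ρ]

include hn hfaith hnorm hn1 in
theorem not_dvd_center : ¬ p ∣ Nat.card (Subgroup.center G) := by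
  intro h
  obtain ⟨z, hz⟩ := exists_prime_orderOf_dvd_card' p h
  obtain ⟨m, ρ, hρ, hχ⟩ := χ.2
  have hχ' : ρ.character = (χ : G → ℂ) := hχ
  have h1 := (norm_char_eq_iff ρ (z : G)).2 (exists_scalar_of_mem_center ρ z.2)
  rw [hχ', hnorm _ (by rw [Subgroup.orderOf_coe, hz])] at h1
  have h2 : (χ : G → ℂ) 1 = (Module.finrank ℂ (Fin m → ℂ) : ℂ) := by
    rw [← hχ']; exact Representation.char_one ρ
  rw [hn] at h2
  refine hn1 ?_
  have h3 : Module.finrank ℂ (Fin m → ℂ) = 1 := by exact_mod_cast h1.symm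
  rw [h3] at h2
  exact_mod_cast h2

include hn hn1 hfaith hnorm hP in
theorem centralizer_le (hnq : n + 1 = Nat.card P) (hab : ∀ a ∈ P, ∀ b ∈ P, a * b = b * a)
    (hval : ∀ x ∈ P, x ≠ 1 → (χ : G → ℂ) x = -1) :
    Subgroup.centralizer (P : Set G) ≤ P ⊔ Subgroup.center G := by
  classical
  obtain ⟨m, ρ, hρ, hχ⟩ := χ.2
  have hχ' : ρ.character = (χ : G → ℂ) := hχ
  have hdim : Module.finrank ℂ (Fin m → ℂ) = n := by
    have h2 : (χ : G → ℂ) 1 = (Module.finrank ℂ (Fin m → ℂ) : ℂ) := by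
      rw [← hχ']; exact Representation.char_one ρ
    rw [hn] at h2
    exact_mod_cast h2.symm
  have hp' : p.Prime := hp.out
  have habel : ∀ c ∈ Subgroup.centralizer (P : Set G), ∀ a ∈ Subgroup.zpowers c ⊔ P,
      ∀ b ∈ Subgroup.zpowers c ⊔ P, a * b = b * a := by
    intro c hc a ha b hb
    rw [Subgroup.mem_sup_of_normal_right] at ha hb
    obtain ⟨a1, ha1, a2, ha2, rfl⟩ := ha
    obtain ⟨b1, hb1, b2, hb2, rfl⟩ := hb
    have hz : ∀ y ∈ Subgroup.zpowers c, ∀ x ∈ P, y * x = x * y := by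
      intro y hy x hx
      obtain ⟨i, rfl⟩ := Subgroup.mem_zpowers_iff.1 hy
      exact ((Commute.zpow_left (show Commute c x from (hc x hx).symm) i)).eq
    have h11 : a1 * b1 = b1 * a1 := by
      obtain ⟨i, rfl⟩ := Subgroup.mem_zpowers_iff.1 ha1
      obtain ⟨j, rfl⟩ := Subgroup.mem_zpowers_iff.1 hb1
      exact ((Commute.refl c).zpow_zpow i j).eq
    calc a1 * a2 * (b1 * b2) = a1 * (a2 * b1) * b2 := by group
      _ = a1 * (b1 * a2) * b2 := by rw [← hz b1 hb1 a2 ha2]
      _ = (a1 * b1) * (a2 * b2) := by group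
      _ = (b1 * a1) * (b2 * a2) := by rw [h11, hab a2 ha2 b2 hb2]
      _ = b1 * (a1 * b2) * a2 := by group
      _ = b1 * (b2 * a1) * a2 := by rw [hz a1 ha1 b2 hb2]
      _ = b1 * b2 * (a1 * a2) := by group
  have hp_case : ∀ c ∈ Subgroup.centralizer (P : Set G), ∀ k, orderOf c = p ^ k → c ∈ P := by
    intro c hc k hk
    set A := Subgroup.zpowers c ⊔ P with hA
    have hAp : IsPGroup p A := IsPGroup.to_sup_of_normal_right
      (IsPGroup.of_card (by rw [Nat.card_zpowers, hk])) hP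
    have h1 := abelian_norm χ n hn P hnq hval A le_sup_right (habel c hc)
    have h2 := pgroup_norm (χ : G → ℂ) n hn hnorm A hAp
    rw [h1] at h2
    have h3 : Nat.card A * n + 1 = n ^ 2 + Nat.card A := by exact_mod_cast h2
    have hn2 : 2 ≤ n := by
      rcases Nat.lt_or_ge n 2 with h | h
      · have : 0 < n := by
          rcases Nat.eq_zero_or_pos n with h0 | h0
          · rw [h0, Nat.cast_zero] at hn; exact absurd hn (irr_one_ne_zero χ)
          · exact h0
        omega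
      · exact h
    have h4 : Nat.card A = n + 1 := by
      obtain ⟨r, rfl⟩ : ∃ r, n = r + 2 := ⟨n - 2, by omega⟩
      nlinarith [h3]
    have h5 : P = A := Subgroup.eq_of_le_of_card_ge le_sup_right (by rw [h4, hnq])
    rw [h5]
    exact Subgroup.mem_sup_left (Subgroup.mem_zpowers c)
  have hp'_case : ∀ c ∈ Subgroup.centralizer (P : Set G), Nat.Coprime (orderOf c) p →
      c ∈ Subgroup.center G := by
    intro c hc hcop
    set A := Subgroup.zpowers c ⊔ P with hA
    have h1 := abelian_norm χ n hn P hnq hval A le_sup_right (habel c hc)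
    obtain ⟨a, ha⟩ := hP.exists_card_eq
    have hcoI : ∀ i ∈ Subgroup.zpowers c, ∀ x ∈ P, Nat.Coprime (orderOf i) (orderOf x) := by
      intro i hi x hx
      refine Nat.Coprime.coprime_dvd_left (orderOf_dvd_of_mem_zpowers hi) ?_
      refine Nat.Coprime.coprime_dvd_right ?_ (hcop.pow_right a)
      rw [← ha]
      exact Subgroup.orderOf_dvd_natCard P hx
    let e : Subgroup.zpowers c × P → A := fun z =>
      ⟨(z.1 : G) * z.2, mul_mem (Subgroup.mem_sup_left z.1.2) (Subgroup.mem_sup_right z.2.2)⟩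
    have he : Function.Bijective e := by
      constructor
      · rintro ⟨i, x⟩ ⟨j, y⟩ h
        have h' : (i : G) * x = (j : G) * y := congrArg Subtype.val h
        have h'' : (j : G)⁻¹ * i = (y : G) * (x : G)⁻¹ := by
          rw [eq_mul_inv_iff_mul_eq, mul_assoc, h', inv_mul_cancel_left]
        have hi : (j : G)⁻¹ * i ∈ Subgroup.zpowers c := mul_mem (inv_mem j.2) i.2
        have hx : (j : G)⁻¹ * i ∈ P := h'' ▸ mul_mem y.2 (inv_mem x.2)
        have h1 : (j : G)⁻¹ * i = 1 := orderOf_eq_one_iff.1 (Nat.coprime_self _ |>.1 (hcoI _ hi _ hx))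
        have e1 : i = j := Subtype.ext (inv_mul_eq_one.1 h1).symm
        subst e1
        exact Prod.ext rfl (Subtype.ext (mul_left_cancel h'))
      · rintro ⟨y, hy⟩
        obtain ⟨i, hi, x, hx, rfl⟩ := Subgroup.mem_sup_of_normal_right.1 hy
        exact ⟨⟨⟨i, hi⟩, ⟨x, hx⟩⟩, rfl⟩
    rw [← (Fintype.sum_bijective e he _ _ fun z => rfl), Fintype.sum_prod_type,
      ← Nat.card_congr (Equiv.ofBijective e he), Nat.card_prod] at h1
    have hrow : ∀ i : Subgroup.zpowers c, ∑ x : P, (χ : G → ℂ) (e (i, x)) * conj ((χ : G → ℂ) (e (i, x))) =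
        ((‖(χ : G → ℂ) i‖ ^ 2 + n : ℝ) : ℂ) := by
      intro i
      rw [← Finset.add_sum_erase _ _ (Finset.mem_univ (1 : P)),
        Finset.sum_congr rfl (g := fun _ => (1 : ℂ)) fun x hx => mul_conj_eq_one (hnorm _ ?_)]
      · rw [Finset.sum_const, Finset.card_erase_of_mem (Finset.mem_univ _), Finset.card_univ,
          nsmul_eq_mul, mul_one, ← Nat.card_eq_fintype_card, ← hnq, Nat.add_sub_cancel]
        show (χ : G → ℂ) ((i : G) * ((1 : P) : G)) * conj ((χ : G → ℂ) ((i : G) * ((1 : P) : G))) + _ = _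
        rw [OneMemClass.coe_one, mul_one, Complex.mul_conj']
        push_cast; ring
      · have hx1 : (x : G) ≠ 1 := fun h => (Finset.mem_erase.1 hx).1 (Subtype.ext h)
        have hcm : Commute (i : G) (x : G) :=
          habel c hc _ (Subgroup.mem_sup_left i.2) _ (Subgroup.mem_sup_right x.2)
        show p ∣ orderOf ((i : G) * (x : G))
        rw [hcm.orderOf_mul_eq_mul_orderOf_of_coprime (hcoI _ i.2 _ x.2)]
        exact dvd_mul_of_dvd_right (dvd_orderOf_of_mem hP x.2 hx1) _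
    rw [Finset.sum_congr rfl fun i _ => hrow i, ← Complex.ofReal_sum] at h1
    have h2 : ∑ i : Subgroup.zpowers c, (‖(χ : G → ℂ) i‖ ^ 2 + (n : ℝ)) =
        ∑ _i : Subgroup.zpowers c, ((n : ℝ) ^ 2 + n) := by
      apply Complex.ofReal_injective
      rw [h1, Finset.sum_const, Finset.card_univ, ← Nat.card_eq_fintype_card (α := Subgroup.zpowers c),
        ← hnq, nsmul_eq_mul]
      push_cast; ring
    have hle : ∀ i : Subgroup.zpowers c, ‖(χ : G → ℂ) i‖ ^ 2 + (n : ℝ) ≤ (n : ℝ) ^ 2 + n := by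
      intro i
      have := norm_char_le ρ (i : G)
      rw [hχ', hdim] at this
      have := pow_le_pow_left₀ (norm_nonneg _) this 2
      linarith
    have h3 := (Finset.sum_eq_sum_iff_of_le fun i _ => hle i).1 h2 ⟨c, Subgroup.mem_zpowers c⟩
      (Finset.mem_univ _)
    have h4 : ‖(χ : G → ℂ) c‖ = n :=
      (pow_left_inj₀ (norm_nonneg _) (Nat.cast_nonneg n) two_ne_zero).1 (by simpa using h3)
    refine mem_center_of_scalar χ hfaith ρ hχ' c ((norm_char_eq_iff ρ c).1 ?_)
    rw [hχ', h4, hdim]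
  intro c hc
  obtain ⟨k, r, hr, hkr⟩ := Nat.exists_eq_pow_mul_and_not_dvd (orderOf_pos c).ne' p hp'.ne_one
  have hcop : Nat.Coprime (p ^ k) r := Nat.Coprime.pow_left k ((hp'.coprime_iff_not_dvd).2 hr)
  have hbez := Nat.gcd_eq_gcd_ab (p ^ k) r
  rw [hcop.gcd_eq_one] at hbez
  have hc1 : c = (c ^ p ^ k) ^ Nat.gcdA (p ^ k) r * (c ^ r) ^ Nat.gcdB (p ^ k) r := by
    rw [← zpow_natCast c (p ^ k), ← zpow_natCast c r, ← zpow_mul, ← zpow_mul, ← zpow_add, ← hbez]
    simp
  have hpk0 : 0 < p ^ k := pow_pos hp'.pos k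
  have hr0 : 0 < r := Nat.pos_of_ne_zero fun h => hr (h ▸ dvd_zero p)
  have h1 : c ^ p ^ k ∈ Subgroup.center G := hp'_case _ (Subgroup.pow_mem _ hc _) (by
    rw [orderOf_pow_of_dvd hpk0.ne' (hkr ▸ dvd_mul_right _ _), hkr, Nat.mul_div_cancel_left _ hpk0]
    exact ((hp'.coprime_iff_not_dvd).2 hr).symm)
  have h2 : c ^ r ∈ P := hp_case _ (Subgroup.pow_mem _ hc _) k (by
    rw [orderOf_pow_of_dvd hr0.ne' (hkr ▸ dvd_mul_left _ _), hkr, Nat.mul_div_cancel _ hr0])
  rw [hc1]
  exact mul_mem (Subgroup.mem_sup_right (zpow_mem h1 _)) (Subgroup.mem_sup_left (zpow_mem h2 _))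

omit [Fintype G] in
theorem center_commute {z : G} (hz : z ∈ Subgroup.center G) (x : G) : x * z = z * x :=
  Subgroup.mem_center_iff.1 hz x

/-- A group of order 24 with a self-centralizing four subgroup and four Sylow 3-subgroups. -/
theorem equiv_perm_four {H : Type u} [Group H] [Finite H] (hH : Nat.card H = 24) (V : Subgroup H) [V.Normal]
    (hV : Nat.card V = 4) (hC : Subgroup.centralizer (V : Set H) ≤ V)
    (hfix : ∀ d : H, orderOf d = 3 → ∀ v ∈ V, d * v = v * d → v = 1) :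
    Nonempty (H ≃* Equiv.Perm (Fin 4)) := by
  classical
  haveI := Fact.mk Nat.prime_three
  have hfac : (24 : ℕ).factorization 3 = 1 := by
    rw [show (24 : ℕ) = 3 ^ 1 * 8 by norm_num, Nat.factorization_mul (by norm_num) (by norm_num),
      Finsupp.add_apply, Nat.Prime.factorization_pow Nat.prime_three, Finsupp.single_eq_same,
      Nat.factorization_eq_zero_of_not_dvd (show ¬ 3 ∣ 8 by norm_num)]
  have hcard : ∀ T : Sylow 3 H, Nat.card (T : Subgroup H) = 3 := fun T => by
    rw [T.card_eq_multiplicity, hH, hfac, pow_one]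
  have hgen : ∀ T : Sylow 3 H, ∃ d : H, orderOf d = 3 ∧ d ∈ (T : Subgroup H) := by
    intro T
    obtain ⟨d, hd⟩ := exists_prime_orderOf_dvd_card' 3 (dvd_of_eq (hcard T).symm)
    exact ⟨d, by rw [Subgroup.orderOf_coe]; exact hd, d.2⟩
  have hmeet : ∀ T : Sylow 3 H, ∀ v ∈ V,
      v ∈ Subgroup.normalizer ((T : Subgroup H) : Set H) → v = 1 := by
    intro T v hv hN
    obtain ⟨d, hd, hdT⟩ := hgen T
    refine hfix d hd v hv ?_
    have h1 : d * v * d⁻¹ * v⁻¹ ∈ (T : Subgroup H) := by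
      have := (T : Subgroup H).mul_mem hdT ((Subgroup.mem_normalizer_iff.1 hN _).1 (inv_mem hdT))
      simpa [mul_assoc] using this
    have h2 : d * v * d⁻¹ * v⁻¹ ∈ V := V.mul_mem (Subgroup.Normal.conj_mem ‹_› v hv d) (inv_mem hv)
    have h3 : d * v * d⁻¹ * v⁻¹ = 1 := by
      refine orderOf_eq_one_iff.1 (Nat.dvd_one.1 ?_)
      have e1 := Subgroup.orderOf_dvd_natCard (T : Subgroup H) h1
      have e2 := Subgroup.orderOf_dvd_natCard V h2
      rw [hcard] at e1
      rw [hV] at e2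
      exact (show Nat.gcd 3 4 = 1 by norm_num) ▸ Nat.dvd_gcd e1 e2
    rw [← commutatorElement_def] at h3
    exact commutatorElement_eq_one_iff_mul_comm.1 h3
  obtain ⟨T0⟩ := (inferInstance : Nonempty (Sylow 3 H))
  have hV1 : V ≠ ⊥ := fun h => by rw [h, Subgroup.card_bot] at hV; omega
  have h4 : Nat.card (Sylow 3 H) = 4 := by
    have h1 := card_sylow_modEq_one 3 H
    have hidx : (T0 : Subgroup H).index = 8 := by
      have := (T0 : Subgroup H).card_mul_index
      rw [hcard, hH] at this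
      omega
    have hd : Nat.card (Sylow 3 H) ∣ 8 := hidx ▸ T0.card_dvd_index
    have hmem : Nat.card (Sylow 3 H) ∈ Nat.divisors 8 := Nat.mem_divisors.2 ⟨hd, by norm_num⟩
    rw [show Nat.divisors 8 = {1, 2, 4, 8} by decide] at hmem
    simp only [Finset.mem_insert, Finset.mem_singleton] at hmem
    rcases hmem with h | h | h | h
    · exfalso
      have hsub : Subsingleton (Sylow 3 H) := (Nat.card_eq_one_iff_unique.1 h).1
      have hn : (T0 : Subgroup H).Normal := Sylow.normal_of_subsingleton T0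
      obtain ⟨v, hv, hv1⟩ := (Subgroup.ne_bot_iff_exists_ne_one).1 hV1 |> fun ⟨v, hv⟩ =>
        (⟨(v : H), v.2, fun e => hv (Subtype.ext e)⟩ : ∃ v : H, v ∈ V ∧ v ≠ 1)
      exact hv1 (hmeet T0 v hv (by rw [Subgroup.normalizer_eq_top_iff.2 hn]; trivial))
    · rw [h] at h1; exact absurd h1 (by decide)
    · exact h
    · rw [h] at h1; exact absurd h1 (by decide)
  let e : Sylow 3 H ≃ Fin 4 := (Nat.equivFinOfCardPos (by omega)).trans (finCongr h4)
  let f : H →* Equiv.Perm (Fin 4) :=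
    e.permCongrHom.toMonoidHom.comp (MulAction.toPermHom H (Sylow 3 H))
  have hinj : Function.Injective f := by
    rw [← MonoidHom.ker_eq_bot_iff, eq_bot_iff]
    intro g hg
    have hall : ∀ y ∈ f.ker, ∀ T : Sylow 3 H, y ∈ Subgroup.normalizer ((T : Subgroup H) : Set H) := by
      intro y hy T
      have h2 : MulAction.toPermHom H (Sylow 3 H) y = 1 := by
        apply e.permCongrHom.injective
        rw [map_one]; exact hy
      exact Sylow.smul_eq_iff_mem_normalizer.1
        (congrArg (fun σ : Equiv.Perm (Sylow 3 H) => σ T) h2)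
    have hker : ∀ v ∈ V, v ∈ f.ker → v = 1 := fun v hv hk => hmeet T0 v hv (hall v hk T0)
    have hgc : g ∈ Subgroup.centralizer (V : Set H) := by
      intro v hv
      have h1 : v * g * v⁻¹ * g⁻¹ ∈ V := by
        have := V.mul_mem hv (Subgroup.Normal.conj_mem ‹_› _ (inv_mem hv) g)
        simpa [mul_assoc] using this
      have h2 : v * g * v⁻¹ * g⁻¹ ∈ f.ker :=
        f.ker.mul_mem ((MonoidHom.normal_ker f).conj_mem g hg v) (inv_mem hg)
      have h3 := hker _ h1 h2
      rw [← commutatorElement_def] at h3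
      exact commutatorElement_eq_one_iff_mul_comm.1 h3
    exact Subgroup.mem_bot.2 (hker g (hC hgc) hg)
  exact ⟨MulEquiv.ofBijective f (hinj.bijective_of_nat_card_le (by
    rw [hH, Nat.card_perm, Nat.card_fin]; decide))⟩

end

section
open CfsgLib.Char
open scoped ComplexConjugate

universe u

theorem perm_three_fix : ∀ (σ : Equiv.Perm (Fin 3)) (i : Fin 3), σ ^ 3 = 1 → σ i = i → σ = 1 := by
  decide

theorem perm_three_comm : ∀ a b : Equiv.Perm (Fin 3), (a ^ 2 = 1 ∧ ¬ a = 1 ∧ b ^ 3 = 1 ∧ ¬ b = 1) →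
    (a * b * a⁻¹ * b⁻¹) ^ 3 = 1 ∧ ¬ a * b * a⁻¹ * b⁻¹ = 1 := by
  decide +kernel

variable {G : Type u} [Group G] [Fintype G] {p : ℕ} [hp : Fact p.Prime]
variable (χ : IrrCharacter G) (n : ℕ) (hn : (χ : G → ℂ) 1 = n) (hn1 : n ≠ 1)
  (hfaith : ∀ g : G, (χ : G → ℂ) g = (χ : G → ℂ) 1 → g = 1)
  (hnorm : ∀ g : G, p ∣ orderOf g → ‖(χ : G → ℂ) g‖ = 1)
  (P : Subgroup G) [P.Normal] [Fintype P] (hP : IsPGroup p P) (hne : P ≠ ⊥)

include hn hne in
theorem elementary (hnq : n + 1 = Nat.card P) (hab : ∀ a ∈ P, ∀ b ∈ P, a * b = b * a)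
    (hval : ∀ x ∈ P, x ≠ 1 → (χ : G → ℂ) x = -1) (hP : IsPGroup p P) :
    ∀ x ∈ P, x ^ p = 1 := by
  classical
  have hp' : p.Prime := hp.out
  have hc : ∀ a b : P, a * b = b * a := fun a b => Subtype.ext (hab a a.2 b b.2)
  have hcomm : commutator P = ⊥ := by
    rw [_root_.commutator_def, eq_bot_iff, Subgroup.commutator_le]
    intro a _ b _
    rw [Subgroup.mem_bot, commutatorElement_eq_one_iff_mul_comm]
    exact hc a b
  have hlin : Nat.card (P →* ℂˣ) = Nat.card P := by
    rw [Nat.card_congr linearCharEquiv, card_linear, hcomm, Subgroup.index_bot]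
  have hpd : p ∣ Nat.card (P →* ℂˣ) := by
    rw [hlin]
    obtain ⟨a, ha⟩ := hP.exists_card_eq
    rw [ha]
    refine dvd_pow_self p fun h0 => hne ?_
    rw [← Subgroup.card_eq_one, ha, h0, pow_zero]
  haveI : Finite (P →* ℂˣ) := Nat.finite_of_card_ne_zero (by rw [hlin]; exact Nat.card_pos.ne')
  obtain ⟨lam, hlam⟩ := exists_prime_orderOf_dvd_card' p hpd
  let α : IrrCharacter P := ⟨fun x => (lam x : ℂ), isIrrCharacter_lin lam⟩
  have hα : (α : P → ℂ) 1 = 1 := by show ((lam 1 : ℂˣ) : ℂ) = 1; simp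
  have hα1 : (α : P → ℂ) ≠ fun _ => 1 := fun h => by
    have : lam = 1 := MonoidHom.ext fun x => Units.ext (congrFun h x)
    rw [this, orderOf_one] at hlam
    exact hp'.ne_one hlam.symm
  intro x hx
  have key : ∀ β : IrrCharacter P, (β : P → ℂ) ((⟨x, hx⟩ : P) ^ p) = (β : P → ℂ) 1 := by
    intro β
    have hβ := degree_one_of_comm hc β
    by_cases hβ1 : (β : P → ℂ) = fun _ => 1
    · rw [hβ1]
    obtain ⟨g, hg⟩ := transitive χ n hn P hnq hval α β hα hα1 hβ hβ1
    rw [← hg]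
    have e : ∀ y : P, conjFun P (α : P → ℂ) g y = ((lam (normalConjHom P g y) : ℂˣ) : ℂ) := fun _ => rfl
    rw [e, e, map_pow, map_pow, ← MonoidHom.pow_apply]
    rw [show lam ^ p = 1 by rw [← hlam]; exact pow_orderOf_eq_one lam]
    simp
  exact congrArg Subtype.val (isConj_one_left.1 (isConj_of_irr_agree key))

include hn hn1 hfaith hnorm hP hne in
/-- The exceptional case: the normal subgroup is not a Sylow subgroup. -/
theorem two_case (hnq : n + 1 = Nat.card P) (hab : ∀ a ∈ P, ∀ b ∈ P, a * b = b * a)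
    (hval : ∀ x ∈ P, x ≠ 1 → (χ : G → ℂ) x = -1)
    (hC : Subgroup.centralizer (P : Set G) ≤ P ⊔ Subgroup.center G)
    (hZ : ¬ p ∣ Nat.card (Subgroup.center G)) (hPZ : P ⊓ Subgroup.center G = ⊥)
    (S : Subgroup G) [Fintype S] (hS : IsPGroup p S) (hPS : P ≤ S) (hne' : P ≠ S) :
    p = 2 ∧ Odd (Nat.card ↥(Subgroup.center G)) ∧
      ∃ H : Subgroup G, Nonempty (↥H ≃* Equiv.Perm (Fin 4)) ∧ H ⊓ Subgroup.center G = ⊥ ∧
        H ⊔ Subgroup.center G = ⊤ := by
  classical
  have hp' : p.Prime := hp.out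
  obtain ⟨N, hN⟩ := classInner_self_nat (isCharacter_irr χ) S
  have hbal : Nat.card S * N + 1 = n ^ 2 + Nat.card S := by
    have h := pgroup_norm (χ : G → ℂ) n hn hnorm S hS
    rw [hN] at h
    exact_mod_cast h
  obtain ⟨a, ha⟩ := hP.exists_card_eq
  obtain ⟨b, hb⟩ := hS.exists_card_eq
  have hab' : a < b := by
    have h1 : Nat.card P < Nat.card S := lt_of_le_of_ne (Subgroup.card_le_of_le hPS)
      fun h => hne' (Subgroup.eq_of_le_of_card_ge hPS h.ge)
    rw [ha, hb] at h1
    exact (Nat.pow_lt_pow_iff_right hp'.one_lt).1 h1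
  have hn2 : 2 ≤ n := by
    rcases Nat.lt_or_ge n 2 with h | h
    · interval_cases n
      · exact absurd (by rw [hn, Nat.cast_zero]) (irr_one_ne_zero χ)
      · exact absurd rfl hn1
    · exact h
  have hdvd : p ^ (b - a) ∣ n - 1 := by
    have h2 : (Nat.card S : ℤ) ∣ ((n : ℤ) + 1) * ((n : ℤ) - 1) :=
      ⟨(N : ℤ) - 1, by
        have : ((Nat.card S : ℤ) * N + 1) = (n : ℤ) ^ 2 + Nat.card S := by exact_mod_cast hbal
        linear_combination -this⟩
    have h3 : (Nat.card S : ℤ) = ((n : ℤ) + 1) * ((p ^ (b - a) : ℕ) : ℤ) := by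
      rw [show ((n : ℤ) + 1) = ((p ^ a : ℕ) : ℤ) by rw [← ha, ← hnq]; push_cast; rfl,
        ← Nat.cast_mul, ← pow_add, Nat.add_sub_cancel' hab'.le, hb]
    rw [h3, mul_dvd_mul_iff_left (by omega : ((n : ℤ) + 1) ≠ 0)] at h2
    rw [← Int.natCast_dvd_natCast, Nat.cast_sub (by omega : 1 ≤ n)]
    exact_mod_cast h2
  have ha0 : a ≠ 0 := fun h => by rw [h, pow_zero] at ha; omega
  have hpq : p ∣ n + 1 := by rw [hnq, ha]; exact dvd_pow_self p ha0
  have hp2 : p = 2 := by
    have h1 : p ∣ n - 1 := (dvd_pow_self p (by omega)).trans hdvd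
    have h2 : p ∣ 2 := by
      have := Nat.dvd_sub hpq h1
      rwa [show n + 1 - (n - 1) = 2 by omega] at this
    exact (Nat.prime_dvd_prime_iff_eq hp' Nat.prime_two).1 h2
  subst hp2
  have hoddZ : Odd (Nat.card ↥(Subgroup.center G)) :=
    Nat.odd_iff.2 (Nat.two_dvd_ne_zero.1 hZ)
  refine ⟨rfl, hoddZ, ?_⟩
  have ha2 : 2 ≤ a := by
    by_contra h
    obtain rfl : a = 1 := by omega
    omega
  have hba : b = a + 1 := by
    by_contra h
    have h4 : 4 ∣ 2 ^ (b - a) := ⟨2 ^ (b - a - 2), by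
      rw [show (4 : ℕ) = 2 ^ 2 by norm_num, ← pow_add]; congr 1; omega⟩
    have h5 : 4 ∣ n - 1 := h4.trans hdvd
    have h6 : 4 ∣ n + 1 := by
      rw [hnq, ha]
      exact ⟨2 ^ (a - 2), by rw [show (4 : ℕ) = 2 ^ 2 by norm_num, ← pow_add]; congr 1; omega⟩
    omega
  have hidx : (P.subgroupOf S).index = 2 := by
    have h1 := (P.subgroupOf S).card_mul_index
    rw [Nat.card_congr (Subgroup.subgroupOfEquivOfLe hPS).toEquiv, ha, hb, hba, pow_succ] at h1
    exact Nat.eq_of_mul_eq_mul_left (pow_pos (by norm_num) a) h1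
  obtain ⟨g, hgS, hgP⟩ : ∃ g ∈ S, g ∉ P := SetLike.exists_of_lt (lt_of_le_of_ne hPS hne')
  have hg2 : g * g ∈ P := by
    have := (P.subgroupOf S).mul_self_mem_of_index_two hidx ⟨g, hgS⟩
    simpa [Subgroup.mem_subgroupOf] using this
  have hxg : ∀ x : G, x ∈ S → x ∉ P → x * g⁻¹ ∈ P := by
    intro x hx hxP
    have := Subgroup.mul_mem_iff_of_index_two hidx (a := (⟨x, hx⟩ : S)) (b := (⟨g, hgS⟩ : S)⁻¹)
    simp only [Subgroup.mem_subgroupOf, Subgroup.coe_mul, InvMemClass.coe_inv, inv_mem_iff] at this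
    exact this.2 (by simp [hxP, hgP])
  have hcP : ∀ a b : P, a * b = b * a := fun a b => Subtype.ext (hab a a.2 b b.2)
  have hel : ∀ x ∈ P, x ^ 2 = 1 := elementary χ n hn P hne hnq hab hval hP
  have hinv : ∀ x ∈ P, x⁻¹ = x := fun x hx => inv_eq_of_mul_eq_one_right (by rw [← pow_two]; exact hel x hx)
  -- the commutator map of `g`
  let φ : P →* P :=
    { toFun := fun y => normalConjHom P g y * y⁻¹
      map_one' := by simp
      map_mul' := fun x y => by
        rw [map_mul, mul_inv_rev]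
        calc normalConjHom P g x * normalConjHom P g y * (y⁻¹ * x⁻¹)
            = normalConjHom P g x * (normalConjHom P g y * y⁻¹ * x⁻¹) := by group
          _ = normalConjHom P g x * (x⁻¹ * (normalConjHom P g y * y⁻¹)) := by rw [hcP x⁻¹]
          _ = _ := by group }
  have hφ : ∀ y : P, ((φ y : P) : G) = g * y * g⁻¹ * (y : G)⁻¹ := fun _ => rfl
  set D := φ.range with hD
  haveI hDn : D.Normal := ⟨fun d hd y => by rwa [hcP y d, mul_inv_cancel_right]⟩
  have hq : (Nat.card P : ℂ) ≠ 0 := by exact_mod_cast Nat.card_pos.ne'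
  let F : P → ℂ := fun x => (χ : G → ℂ) (x * g)
  have hFF : classInner F F = 1 := by
    rw [classInner, Finset.sum_congr rfl (g := fun _ => (1 : ℂ)) fun x _ => mul_conj_eq_one (hnorm _
      (dvd_orderOf_of_mem hS (mul_mem (hPS x.2) hgS) fun h => hgP (by
        rw [show g = (x : G)⁻¹ from (inv_eq_of_mul_eq_one_right h).symm]; exact inv_mem x.2))),
      Finset.sum_const, Finset.card_univ, nsmul_eq_mul, mul_one, ← Nat.card_eq_fintype_card,
      inv_mul_cancel₀ hq]
  have hbig : ∀ lam : P →* ℂˣ, (∀ y ∈ D, lam y = 1) → lam ≠ 1 →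
      1 ≤ ‖classInner F (fun x => (lam x : ℂ))‖ := by
    intro lam hlamD hlam1
    obtain ⟨s0, hs0⟩ := IsAlgClosed.exists_pow_nat_eq ((lam ⟨g * g, hg2⟩ : ℂˣ) : ℂ) (n := 2) (by norm_num)
    have hs0' : s0 ≠ 0 := fun h => by
      rw [h] at hs0; simp at hs0
      exact (lam ⟨g * g, hg2⟩).ne_zero hs0.symm
    let s : ℂˣ := Units.mk0 s0 hs0'
    have hs : s * s = lam ⟨g * g, hg2⟩ := Units.ext (by
      show s0 * s0 = _; rw [← pow_two, hs0])
    let Ψ : S → ℂˣ := fun z => if hz : (z : G) ∈ P then lam ⟨z, hz⟩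
      else lam ⟨(z : G) * g⁻¹, hxg z z.2 hz⟩ * s
    have hΨP : ∀ (z : S) (x : P), (z : G) = x → Ψ z = lam x := by
      intro z x e
      simp only [Ψ]
      rw [dif_pos (e ▸ x.2)]
      exact congrArg lam (Subtype.ext e)
    have hΨg : ∀ (z : S) (x : P), (z : G) = x * g → Ψ z = lam x * s := by
      intro z x e
      simp only [Ψ]
      rw [dif_neg (fun h => hgP (by
        have := mul_mem (inv_mem x.2) h
        rwa [e, inv_mul_cancel_left] at this))]
      congr 1
      exact congrArg lam (Subtype.ext (by show (z : G) * g⁻¹ = _; rw [e, mul_inv_cancel_right]))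
    have hcj : ∀ x : P, lam (normalConjHom P g x) = lam x := by
      intro x
      have h1 := hlamD (φ x) ⟨x, rfl⟩
      rw [show φ x = normalConjHom P g x * x⁻¹ from rfl, map_mul, map_inv, mul_inv_eq_one] at h1
      exact h1
    have hform : ∀ z : S, (∃ x : P, (z : G) = x) ∨ (∃ x : P, (z : G) = x * g) := by
      intro z
      by_cases hz : (z : G) ∈ P
      · exact Or.inl ⟨⟨z, hz⟩, rfl⟩
      · exact Or.inr ⟨⟨_, hxg z z.2 hz⟩, by simp⟩
    have hmul : ∀ z w : S, Ψ (z * w) = Ψ z * Ψ w := by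
      intro z w
      rcases hform z with ⟨x, hx⟩ | ⟨x, hx⟩ <;> rcases hform w with ⟨y, hy⟩ | ⟨y, hy⟩
      · rw [hΨP z x hx, hΨP w y hy, hΨP (z * w) (x * y) (by simp [hx, hy]), map_mul]
      · rw [hΨP z x hx, hΨg w y hy, hΨg (z * w) (x * y) (by simp [hx, hy, mul_assoc]), map_mul, mul_assoc]
      · rw [hΨg z x hx, hΨP w y hy, hΨg (z * w) (x * normalConjHom P g y) (by
          simp [hx, hy, normalConjHom, mul_assoc]), map_mul, hcj, mul_right_comm]
      · rw [hΨg z x hx, hΨg w y hy, hΨP (z * w) (x * normalConjHom P g y * ⟨g * g, hg2⟩) (by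
          simp [hx, hy, normalConjHom, mul_assoc]), map_mul, map_mul, hcj, ← hs]
        exact (mul_mul_mul_comm _ _ _ _)
    let ψ : S →* ℂˣ := MonoidHom.mk' Ψ hmul
    obtain ⟨m, hm⟩ := classInner_isCharacter (isCharacter_comp (isCharacter_irr χ) S.subtype)
      (isCharacter_irr ⟨_, isIrrCharacter_lin ψ⟩)
    let em : P ⊕ P → S := Sum.elim (fun x => ⟨x, hPS x.2⟩) (fun x => ⟨x * g, mul_mem (hPS x.2) hgS⟩)
    have hem : Function.Bijective em := by
      refine ⟨?_, fun z => ?_⟩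
      · rintro (x | x) (y | y) h <;>
          simp only [em, Sum.elim_inl, Sum.elim_inr, Subtype.mk.injEq] at h
        · rw [Subtype.ext h]
        · exact absurd (show g ∈ P by
            have := mul_mem (inv_mem y.2) x.2
            rwa [h, inv_mul_cancel_left] at this) hgP
        · exact absurd (show g ∈ P by
            have := mul_mem (inv_mem x.2) y.2
            rwa [← h, inv_mul_cancel_left] at this) hgP
        · rw [Subtype.ext (mul_right_cancel h)]
      · rcases hform z with ⟨x, hx⟩ | ⟨x, hx⟩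
        · exact ⟨Sum.inl x, Subtype.ext hx.symm⟩
        · exact ⟨Sum.inr x, Subtype.ext hx.symm⟩
    let θ : IrrCharacter P := ⟨fun x => (lam x : ℂ), isIrrCharacter_lin lam⟩
    have h1 : classInner (fun x : P => (χ : G → ℂ) x) (θ : P → ℂ) = 1 :=
      mult_one χ n hn P hnq hval θ (by show ((lam 1 : ℂˣ) : ℂ) = 1; simp)
        (fun h => hlam1 (MonoidHom.ext fun x => Units.ext (congrFun h x)))
    have hcardS : (Nat.card S : ℂ) = 2 * Nat.card P := by
      rw [hb, ha, hba]; push_cast; ring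
    simp only [classInner] at hm
    rw [← Fintype.sum_bijective em hem _ _ (fun z => rfl), Fintype.sum_sum_type, hcardS] at hm
    have e1 : ∀ x : P, (χ : G → ℂ) ((em (Sum.inl x) : S) : G) * conj ((ψ (em (Sum.inl x)) : ℂˣ) : ℂ) =
        (χ : G → ℂ) x * conj (lam x : ℂ) := by
      intro x
      rw [show ψ (em (Sum.inl x)) = lam x from hΨP _ x rfl]
      rfl
    have e2 : ∀ x : P, (χ : G → ℂ) ((em (Sum.inr x) : S) : G) * conj ((ψ (em (Sum.inr x)) : ℂˣ) : ℂ) =
        F x * conj (lam x : ℂ) * conj s0 := by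
      intro x
      rw [show ψ (em (Sum.inr x)) = lam x * s from hΨg _ x rfl, Units.val_mul, map_mul, ← mul_assoc]
      rfl
    simp only [Subgroup.coe_subtype, MonoidHom.coe_comp, Function.comp] at hm
    simp only [e1, e2] at hm
    rw [← Finset.sum_mul] at hm
    have h2 : classInner F (fun x => (lam x : ℂ)) * conj s0 = 2 * (m : ℂ) - 1 := by
      rw [← hm]
      simp only [classInner] at h1 ⊢
      rw [mul_inv, mul_assoc (2 : ℂ)⁻¹]
      linear_combination -h1
    have hs1 : ‖conj s0‖ = 1 := by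
      rw [Complex.norm_conj]
      have h3 : ‖s0‖ ^ 2 = 1 := by
        rw [← norm_pow, hs0]
        refine norm_eq_one_of_pow_eq_one' (n := Nat.card P) Nat.card_pos.ne' ?_
        rw [← Units.val_pow_eq_pow_val, ← map_pow, pow_card_eq_one', map_one, Units.val_one]
      exact (pow_eq_one_iff_of_nonneg (norm_nonneg _) two_ne_zero).1 h3
    have h4 : ‖classInner F (fun x => (lam x : ℂ))‖ = ‖(((2 * (m : ℤ) - 1 : ℤ)) : ℂ)‖ := by
      push_cast
      rw [← h2, norm_mul, hs1, mul_one]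
    rw [h4, Complex.norm_intCast, ← Int.cast_abs]
    exact_mod_cast Int.one_le_abs (show 2 * (m : ℤ) - 1 ≠ 0 by omega)
  have hDidx : D.index ≤ 2 := by
    by_contra hlt
    haveI : IsMulCommutative (P ⧸ D) := isMulCommutative_iff.2 fun x y => by
      induction x using QuotientGroup.induction_on with | _ x =>
      induction y using QuotientGroup.induction_on with | _ y =>
      rw [← QuotientGroup.mk_mul, ← QuotientGroup.mk_mul, hcP]
    have hlin : Nat.card ((P ⧸ D) →* ℂˣ) = D.index := by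
      rw [Nat.card_congr linearCharEquiv, card_linear]
      have : commutator (P ⧸ D) = ⊥ := by
        rw [_root_.commutator_def, eq_bot_iff, Subgroup.commutator_le]
        intro x _ y _
        rw [Subgroup.mem_bot, commutatorElement_eq_one_iff_mul_comm]
        exact (isMulCommutative_iff.1 ‹_›) x y
      rw [this, Subgroup.index_bot, Subgroup.index_eq_card]
    haveI : Finite ((P ⧸ D) →* ℂˣ) := Nat.finite_of_card_ne_zero (by
      rw [hlin]; exact Subgroup.index_ne_zero_of_finite)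
    haveI := Fintype.ofFinite ((P ⧸ D) →* ℂˣ)
    obtain ⟨l1, hl1, l2, hl2, hl12⟩ : ∃ l1 ∈ Finset.univ.erase (1 : (P ⧸ D) →* ℂˣ),
        ∃ l2 ∈ Finset.univ.erase (1 : (P ⧸ D) →* ℂˣ), l1 ≠ l2 := by
      refine Finset.one_lt_card.1 ?_
      rw [Finset.card_erase_of_mem (Finset.mem_univ _), Finset.card_univ, ← Nat.card_eq_fintype_card, hlin]
      omega
    let c : ((P ⧸ D) →* ℂˣ) → IrrCharacter P := fun l =>
      ⟨fun x => ((l.comp (QuotientGroup.mk' D)) x : ℂ), isIrrCharacter_lin _⟩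
    have hc : ∀ l : (P ⧸ D) →* ℂˣ, l ≠ 1 → 1 ≤ ‖classInner F (c l : P → ℂ)‖ := by
      intro l hl
      refine hbig (l.comp (QuotientGroup.mk' D)) (fun y hy => ?_) fun h => hl ?_
      · show l (QuotientGroup.mk' D y) = 1
        rw [QuotientGroup.mk'_apply, (QuotientGroup.eq_one_iff y).2 hy, map_one]
      · exact MonoidHom.ext fun z => by
          obtain ⟨z, rfl⟩ := QuotientGroup.mk'_surjective D z
          exact DFunLike.congr_fun h z
    haveI := Fintype.ofFinite (IrrCharacter P)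
    have hFc : IsClassFunction P F := fun x y => by rw [hcP y x, mul_inv_cancel_right]
    have hexp := classInner_expand (f := F) hFc
    rw [hFF, Finset.sum_congr rfl fun θ _ => Complex.mul_conj' _] at hexp
    have hexp' : (1 : ℝ) = ∑ θ : IrrCharacter P, ‖classInner F (θ : P → ℂ)‖ ^ 2 := by
      exact_mod_cast hexp
    have hsub : ∑ θ ∈ ({c l1, c l2} : Finset (IrrCharacter P)), ‖classInner F (θ : P → ℂ)‖ ^ 2 ≤ 1 :=
      hexp' ▸ Finset.sum_le_sum_of_subset_of_nonneg (Finset.subset_univ _) fun _ _ _ => sq_nonneg _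
    rw [Finset.sum_pair] at hsub
    · nlinarith [one_le_pow₀ (n := 2) (hc l1 (Finset.mem_erase.1 hl1).1),
        one_le_pow₀ (n := 2) (hc l2 (Finset.mem_erase.1 hl2).1)]
    · intro h
      refine hl12 (MonoidHom.ext fun z => ?_)
      obtain ⟨z, rfl⟩ := QuotientGroup.mk'_surjective D z
      exact Units.ext (congrFun (congrArg Subtype.val h) z)
  have hDK : D ≤ φ.ker := by
    rintro _ ⟨y, rfl⟩
    rw [MonoidHom.mem_ker]
    refine Subtype.ext ?_
    rw [hφ, hφ, OneMemClass.coe_one, hinv _ y.2]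
    have h1 : g * (g * (y : G) * g⁻¹) * g⁻¹ = y := by
      rw [show g * (g * (y : G) * g⁻¹) * g⁻¹ = (g * g) * y * (g * g)⁻¹ by group, hab _ hg2 _ y.2,
        mul_inv_cancel_right]
    have h2 : g * (y : G) * g⁻¹ ∈ P := Subgroup.Normal.conj_mem ‹_› _ y.2 g
    have h3 : g * (g * (y : G) * g⁻¹ * y) * g⁻¹ = g * (y : G) * g⁻¹ * y := by
      rw [show g * (g * (y : G) * g⁻¹ * y) * g⁻¹ =
        (g * (g * (y : G) * g⁻¹) * g⁻¹) * (g * (y : G) * g⁻¹) by group, h1, hab _ y.2 _ h2]
    rw [h3, mul_inv_cancel]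
  have hcard4 : Nat.card P = 4 ∧ Nat.card D = 2 := by
    have hK : Nat.card φ.ker = D.index := by
      have h1 := D.card_mul_index
      have h2 := φ.ker.card_mul_index
      rw [Subgroup.index_ker] at h2
      exact Nat.eq_of_mul_eq_mul_left (Nat.card_pos (α := D)) (by rw [h1, ← h2, mul_comm])
    have h3 : Nat.card D ≤ 2 := (Subgroup.card_le_of_le hDK).trans (hK ▸ hDidx)
    have h4 : Nat.card P ≤ 4 := by rw [← D.card_mul_index]; exact Nat.mul_le_mul h3 hDidx
    have h5 : 4 ≤ Nat.card P := by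
      rw [ha]; exact (show (4 : ℕ) = 2 ^ 2 by norm_num) ▸ Nat.pow_le_pow_right (by norm_num) ha2
    refine ⟨by omega, ?_⟩
    have := D.card_mul_index
    nlinarith
  obtain ⟨h4, hD2⟩ := hcard4
  -- the action on the three involutions
  let X := {x : P // x ≠ 1}
  have hX : Nat.card X = 3 := by
    rw [Nat.card_eq_fintype_card, Fintype.card_subtype_compl, Fintype.card_subtype_eq,
      ← Nat.card_eq_fintype_card, h4]
  let e : X ≃ Fin 3 := (Nat.equivFinOfCardPos (by omega)).trans (finCongr hX)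
  let act : G →* Equiv.Perm X :=
    { toFun := fun h =>
        { toFun := fun x => ⟨MulAut.conjNormal h x.1, fun e1 => x.2 ((MulEquiv.map_eq_one_iff _).1 e1)⟩
          invFun := fun x => ⟨MulAut.conjNormal h⁻¹ x.1, fun e1 => x.2 ((MulEquiv.map_eq_one_iff _).1 e1)⟩
          left_inv := fun x => Subtype.ext (Subtype.ext (by
            show h⁻¹ * (h * ((x.1 : P) : G) * h⁻¹) * h⁻¹⁻¹ = _
            group))
          right_inv := fun x => Subtype.ext (Subtype.ext (by
            show h * (h⁻¹ * ((x.1 : P) : G) * h⁻¹⁻¹) * h⁻¹ = _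
            group)) }
      map_one' := by ext x; simp
      map_mul' := fun h k => by ext x; simp [mul_assoc] }
  let f : G →* Equiv.Perm (Fin 3) := e.permCongrHom.toMonoidHom.comp act
  have hfval : ∀ (h : G) (x : X), f h (e x) = e (act h x) := fun h x => by
    simp [f, Equiv.permCongrHom]
  have hfC : ∀ h : G, f h = 1 ↔ h ∈ Subgroup.centralizer (P : Set G) := by
    intro h
    constructor
    · intro hh x hx
      by_cases hx1 : x = 1
      · simp [hx1]
      have h1 := hfval h ⟨⟨x, hx⟩, fun e1 => hx1 (congrArg Subtype.val e1)⟩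
      rw [hh, Equiv.Perm.one_apply] at h1
      have h2 := congrArg (fun z : X => ((z.1 : P) : G)) (e.injective h1)
      change x = h * x * h⁻¹ at h2
      calc x * h = h * x * h⁻¹ * h := by rw [← h2]
        _ = h * x := by group
    · intro hh
      refine Equiv.ext fun i => ?_
      obtain ⟨x, rfl⟩ := e.surjective i
      rw [hfval, Equiv.Perm.one_apply]
      refine congrArg e (Subtype.ext (Subtype.ext ?_))
      show h * ((x.1 : P) : G) * h⁻¹ = _
      rw [← hh _ x.1.2, mul_inv_cancel_right]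
  have hfg : f g ≠ 1 ∧ f g ^ 2 = 1 := by
    constructor
    · intro h
      have h1 := (hfC g).1 h
      have : D = ⊥ := by
        rw [eq_bot_iff]
        rintro _ ⟨y, rfl⟩
        refine Subgroup.mem_bot.2 (Subtype.ext ?_)
        rw [hφ, ← h1 _ y.2, mul_inv_cancel_right, mul_inv_cancel, OneMemClass.coe_one]
      rw [this, Subgroup.card_bot] at hD2
      omega
    · rw [← map_pow, hfC, pow_two]
      exact fun x hx => hab x hx _ hg2
  have hrange : 3 ≤ Nat.card f.range := by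
    haveI := Fintype.ofFinite (IrrCharacter P)
    let one' : IrrCharacter P := ⟨fun _ => 1, isIrrCharacter_one⟩
    have hone : ∀ θ : IrrCharacter P, (θ : P → ℂ) 1 = 1 := degree_one_of_comm hcP
    have hcI : Fintype.card (IrrCharacter P) = 4 := by
      have h := sum_degree_sq (G := P)
      simp only [hone, one_pow, Finset.sum_const, Finset.card_univ, nsmul_eq_mul, mul_one, h4] at h
      exact_mod_cast h
    have hne1 : ∀ θ : IrrCharacter P, θ ≠ one' → (θ : P → ℂ) ≠ fun _ => 1 := fun θ h h' =>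
      h (Subtype.ext h')
    obtain ⟨α, hα⟩ : (Finset.univ.erase one').Nonempty := by
      rw [← Finset.card_pos, Finset.card_erase_of_mem (Finset.mem_univ _), Finset.card_univ, hcI]
      omega
    have hex : ∀ β : {β : IrrCharacter P // β ≠ one'}, ∃ h : G, conjFun P (α : P → ℂ) h = (β.1 : P → ℂ) :=
      fun β => transitive χ n hn P hnq hval α β.1 (hone α) (hne1 α (Finset.mem_erase.1 hα).1)
        (hone β.1) (hne1 β.1 β.2)
    choose hh hhh using hex
    have hinj : Function.Injective fun β => (⟨f (hh β), ⟨hh β, rfl⟩⟩ : f.range) := by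
      intro β γ hβγ
      have h1 : f (hh β * (hh γ)⁻¹) = 1 := by
        rw [map_mul, map_inv, mul_inv_eq_one]
        exact congrArg Subtype.val hβγ
      have h2 := (hfC _).1 h1
      refine Subtype.ext (Subtype.ext ?_)
      rw [← hhh β, ← hhh γ]
      funext x
      refine congrArg (α : P → ℂ) (Subtype.ext ?_)
      show hh β * (x : G) * (hh β)⁻¹ = hh γ * (x : G) * (hh γ)⁻¹
      have h3 := h2 _ (Subgroup.Normal.conj_mem ‹P.Normal› _ x.2 (hh γ))
      calc hh β * (x : G) * (hh β)⁻¹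
          = (hh β * (hh γ)⁻¹) * (hh γ * (x : G) * (hh γ)⁻¹) * (hh β * (hh γ)⁻¹)⁻¹ := by group
        _ = _ := by rw [← h3, mul_inv_cancel_right]
    have := Nat.card_le_card_of_injective _ hinj
    rwa [Nat.card_eq_fintype_card, Fintype.card_subtype_compl, Fintype.card_subtype_eq, hcI] at this
  have hsurj : f.range = ⊤ := by
    refine Subgroup.eq_top_of_le_card _ ?_
    rw [Nat.card_perm, Nat.card_fin, show Nat.factorial 3 = 6 from rfl]
    have h2 : 2 ∣ Nat.card f.range := by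
      have : orderOf (f g) = 2 := orderOf_eq_prime hfg.2 hfg.1
      exact this ▸ Subgroup.orderOf_dvd_natCard f.range ⟨g, rfl⟩
    have h6 : Nat.card f.range ∣ 6 := by
      have := Subgroup.card_subgroup_dvd_card f.range
      rwa [Nat.card_perm, Nat.card_fin, show Nat.factorial 3 = 6 from rfl] at this
    have := Nat.le_of_dvd (by norm_num) h6
    interval_cases h : Nat.card f.range <;> omega
  obtain ⟨h0, hh0⟩ : ∃ h0, f h0 = finRotate 3 := by
    have : finRotate 3 ∈ f.range := hsurj ▸ Subgroup.mem_top _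
    exact this
  set d := g * h0 * g⁻¹ * h0⁻¹ with hd
  have hfd : f d ^ 3 = 1 ∧ f d ≠ 1 := by
    rw [hd, map_mul, map_mul, map_mul, map_inv, map_inv, hh0]
    exact perm_three_comm _ _ ⟨hfg.2, hfg.1, by decide, by decide⟩
  let π := QuotientGroup.mk' P
  have hπg : π g * π g = 1 := by rw [← map_mul]; exact (QuotientGroup.eq_one_iff _).2 hg2
  have hπgi : (π g)⁻¹ = π g := inv_eq_of_mul_eq_one_right hπg
  have hπinv : π g * π d * (π g)⁻¹ = (π d)⁻¹ := by
    simp only [hd, map_mul, map_inv, mul_inv_rev, inv_inv, hπgi]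
    simp only [← mul_assoc, hπg, one_mul]
  have hπd : π d ^ 3 = 1 := by
    have h1 : d ^ 3 ∈ P ⊔ Subgroup.center G := hC ((hfC _).1 (by rw [map_pow, hfd.1]))
    obtain ⟨x, hx, z, hz, hxz⟩ := Subgroup.mem_sup_of_normal_left.1 h1
    have hx' : π x = 1 := (QuotientGroup.eq_one_iff x).2 hx
    have e1 : π d ^ 3 = π z := by rw [← map_pow, ← hxz, map_mul, hx', one_mul]
    have e2 : π z = (π z)⁻¹ := by
      have h2 : (π g * π d * (π g)⁻¹) ^ 3 = π g * π d ^ 3 * (π g)⁻¹ := conj_pow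
      rw [hπinv, inv_pow, e1] at h2
      rw [h2]
      rw [← map_inv, ← map_mul, ← map_mul, center_commute hz g, mul_inv_cancel_right]
    have h3 : z * z ∈ P ⊓ Subgroup.center G := ⟨(QuotientGroup.eq_one_iff _).1 (by
      show π (z * z) = 1
      rw [map_mul]; exact mul_eq_one_iff_eq_inv.2 e2), mul_mem hz hz⟩
    rw [hPZ, Subgroup.mem_bot] at h3
    have h4 : z = 1 := by
      rw [← orderOf_eq_one_iff]
      have h5 : orderOf z ∣ 2 := orderOf_dvd_of_pow_eq_one (by rw [pow_two, h3])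
      have h6 : orderOf z ∣ Nat.card ↥(Subgroup.center G) := Subgroup.orderOf_dvd_natCard _ hz
      exact Nat.dvd_one.1 ((Nat.coprime_two_left.2 hoddZ).gcd_eq_one ▸ Nat.dvd_gcd h5 h6)
    rw [e1, h4, map_one]
  let A := Subgroup.zpowers (π d)
  let B := Subgroup.zpowers (π g)
  have hBA : B ≤ Subgroup.normalizer (A : Set (G ⧸ P)) := by
    refine Subgroup.zpowers_le.2 (Subgroup.mem_normalizer_iff.2 fun y => ⟨fun hy => ?_, fun hy => ?_⟩)
    · obtain ⟨i, rfl⟩ := Subgroup.mem_zpowers_iff.1 hy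
      rw [← conj_zpow, hπinv, inv_zpow]
      exact inv_mem (zpow_mem (Subgroup.mem_zpowers _) i)
    · obtain ⟨i, hi⟩ := Subgroup.mem_zpowers_iff.1 hy
      have h5 : π g * π g * y * (π g * π g)⁻¹ = π g * (π d ^ i) * (π g)⁻¹ := by rw [hi]; group
      rw [hπg, inv_one, one_mul, mul_one, ← conj_zpow, hπinv, inv_zpow] at h5
      rw [h5]
      exact inv_mem (zpow_mem (Subgroup.mem_zpowers _) i)
  have hAB : Nat.card ↥(A ⊔ B) ≤ 6 := by
    let em : A × B → ↥(A ⊔ B) := fun z =>
      ⟨(z.1 : G ⧸ P) * z.2, mul_mem (Subgroup.mem_sup_left z.1.2) (Subgroup.mem_sup_right z.2.2)⟩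
    have hs : Function.Surjective em := by
      rintro ⟨y, hy⟩
      have hy' : y ∈ ((A ⊔ B : Subgroup (G ⧸ P)) : Set (G ⧸ P)) := hy
      rw [Subgroup.coe_mul_of_right_le_normalizer_left _ _ hBA] at hy'
      obtain ⟨i, hi, j, hj, rfl⟩ := hy'
      exact ⟨⟨⟨i, hi⟩, ⟨j, hj⟩⟩, rfl⟩
    refine (Nat.card_le_card_of_surjective em hs).trans ?_
    rw [Nat.card_prod, Nat.card_zpowers, Nat.card_zpowers]
    have h3 : orderOf (π d) ≤ 3 := Nat.le_of_dvd (by norm_num) (orderOf_dvd_of_pow_eq_one hπd)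
    have h2 : orderOf (π g) ≤ 2 := Nat.le_of_dvd (by norm_num)
      (orderOf_dvd_of_pow_eq_one (by rw [pow_two, hπg]))
    exact Nat.mul_le_mul h3 h2
  set H := (A ⊔ B).comap π with hH
  have hPH : P ≤ H := fun x hx => by
    show π x ∈ A ⊔ B
    rw [show π x = 1 from (QuotientGroup.eq_one_iff x).2 hx]; exact one_mem _
  have hHcard : Nat.card H ≤ 24 := by
    have h1 := H.card_mul_index
    have h2 : H.index = (A ⊔ B).index := Subgroup.index_comap_of_surjective _ (QuotientGroup.mk'_surjective P)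
    have h3 := (A ⊔ B).card_mul_index
    have h5 : Nat.card G = 4 * Nat.card (G ⧸ P) := by
      rw [← Subgroup.index_eq_card, ← h4]; exact P.card_mul_index.symm
    rw [h2] at h1
    have hi : 0 < (A ⊔ B).index := Nat.pos_of_ne_zero Subgroup.index_ne_zero_of_finite
    nlinarith
  have hgH : g ∈ H := Subgroup.mem_sup_right (Subgroup.mem_zpowers _)
  have hdH : d ∈ H := Subgroup.mem_sup_left (Subgroup.mem_zpowers _)
  let fH := f.comp H.subtype
  have hfH : fH.range = ⊤ := by
    refine Subgroup.eq_top_of_le_card _ ?_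
    rw [Nat.card_perm, Nat.card_fin, show Nat.factorial 3 = 6 from rfl]
    have h2 : 2 ∣ Nat.card fH.range := by
      rw [← orderOf_eq_prime hfg.2 hfg.1]
      exact Subgroup.orderOf_dvd_natCard fH.range ⟨⟨g, hgH⟩, rfl⟩
    have h3 : 3 ∣ Nat.card fH.range := by
      haveI := Fact.mk Nat.prime_three
      exact (dvd_of_eq (orderOf_eq_prime hfd.1 hfd.2).symm).trans
        (Subgroup.orderOf_dvd_natCard fH.range (x := f d) ⟨⟨d, hdH⟩, rfl⟩)
    exact Nat.le_of_dvd Nat.card_pos ((show Nat.Coprime 2 3 by norm_num).mul_dvd_of_dvd_of_dvd h2 h3)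
  have hker : fH.ker = P.subgroupOf H := by
    have h1 : P.subgroupOf H ≤ fH.ker := fun x hx => MonoidHom.mem_ker.2
      ((hfC _).2 fun y hy => hab y hy _ hx)
    refine (Subgroup.eq_of_le_of_card_ge h1 ?_).symm
    have h2 := fH.ker.card_mul_index
    rw [Subgroup.index_ker, hfH, Subgroup.card_top, Nat.card_perm, Nat.card_fin,
      show Nat.factorial 3 = 6 from rfl] at h2
    rw [Nat.card_congr (Subgroup.subgroupOfEquivOfLe hPH).toEquiv, h4]
    omega
  have hH24 : Nat.card H = 24 := by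
    have h2 := fH.ker.card_mul_index
    rw [Subgroup.index_ker, hfH, Subgroup.card_top, Nat.card_perm, Nat.card_fin,
      show Nat.factorial 3 = 6 from rfl, hker,
      Nat.card_congr (Subgroup.subgroupOfEquivOfLe hPH).toEquiv, h4] at h2
    omega
  refine ⟨H, ?_, ?_, ?_⟩
  · refine equiv_perm_four hH24 (P.subgroupOf H)
      (by rw [Nat.card_congr (Subgroup.subgroupOfEquivOfLe hPH).toEquiv, h4]) ?_ ?_
    · intro x hx
      rw [← hker]
      exact MonoidHom.mem_ker.2 ((hfC _).2 fun y hy => congrArg Subtype.val (hx ⟨y, hPH hy⟩ hy))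
    · intro x hx v hv hc
      by_contra hv1
      have hvX : (⟨(v : G), hv⟩ : P) ≠ 1 := fun e1 =>
        hv1 (Subtype.ext (show (v : G) = 1 from congrArg Subtype.val e1))
      have h6 : f (x : G) = 1 := perm_three_fix _ (e ⟨_, hvX⟩)
        (by rw [← map_pow, show (x : G) ^ 3 = ((x ^ 3 : H) : G) from rfl,
          orderOf_dvd_iff_pow_eq_one.1 (dvd_of_eq hx), OneMemClass.coe_one, map_one])
        (by
          rw [hfval]
          refine congrArg e (Subtype.ext (Subtype.ext ?_))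
          show (x : G) * (v : G) * (x : G)⁻¹ = v
          rw [← Subgroup.coe_mul, hc, Subgroup.coe_mul, mul_inv_cancel_right])
      have h7 : x ∈ P.subgroupOf H := hker ▸ MonoidHom.mem_ker.2 h6
      have h8 := Subgroup.orderOf_dvd_natCard _ h7
      rw [hx, Nat.card_congr (Subgroup.subgroupOfEquivOfLe hPH).toEquiv, h4] at h8
      omega
  · rw [eq_bot_iff]
    rintro x ⟨hxH, hxZ⟩
    rw [← hPZ]
    refine ⟨?_, hxZ⟩
    have : (⟨x, hxH⟩ : H) ∈ fH.ker :=
      MonoidHom.mem_ker.2 ((hfC _).2 fun y _ => center_commute hxZ y)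
    rw [hker] at this
    exact this
  · rw [eq_top_iff]
    intro x _
    obtain ⟨y, hy⟩ : f x ∈ fH.range := hfH ▸ Subgroup.mem_top _
    have h7 : (y : G)⁻¹ * x ∈ P ⊔ Subgroup.center G :=
      hC ((hfC _).1 (by rw [map_mul, map_inv]; exact inv_mul_eq_one.2 hy))
    have h8 : (y : G)⁻¹ * x ∈ H ⊔ Subgroup.center G := (sup_le_sup_right hPH _) h7
    have h9 := mul_mem (Subgroup.mem_sup_left y.2 : (y : G) ∈ H ⊔ Subgroup.center G) h8
    rwa [mul_inv_cancel_left] at h9

end


/-- Let χ be a faithful, non-linear irreducible character of the finite group G (χ g = χ 1 only for g = 1, χ 1 ≠ 1) whose value at every element of order divisible by p is a root of unity, and suppose P = O_p(G) ≠ 1. Then either P is an elementary abelian Sylow p-subgroup of G, C_G(P) is the internal direct product of P and Z(G), G acts transitively by conjugation on the non-principal linear characters of P, and χ 1 = |P| − 1; or p = 2 and G is the internal direct product of a subgroup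 isomorphic to the symmetric group S₄ and the centre Z(G), which has odd order. -/
theorem result {G : Type*} [Group G] [Finite G] (p : ℕ) [Fact p.Prime] (χ : Cfsg.IrrCharacter G) (hfaith : ∀ g : G, (χ : G → ℂ) g = (χ : G → ℂ) 1 → g = 1) (hnl : (χ : G → ℂ) 1 ≠ 1) (hroot : ∀ g : G, p ∣ orderOf g → ∃ n : ℕ, 0 < n ∧ ((χ : G → ℂ) g) ^ n = 1) (hP : Cfsg.pCore p G ≠ ⊥) : ((Nat.card ↥(Cfsg.pCore p G)).factorization p = (Nat.card G).factorization p ∧ Cfsg.IsElementaryAbelian p (Cfsg.pCore p G) ∧ Subgroup.centralizer ((Cfsg.pCore p G : Subgroup G) : Set G) = Cfsg.pCore p G ⊔ Subgroup.center G ∧ Cfsg.pCore p G ⊓ Subgroup.center G = ⊥ ∧ (∀ lam mu : ↥(Cfsg.pCore p G) → ℂ, Cfsg.IsCharacter ↥(Cfsg.pCore p G) lam → lam 1 = 1 → lam ≠ (fun _ => (1 : ℂ)) → Cfsg.IsCharacter ↥(Cfsg.pCore p G) mu → mu 1 = 1 → mu ≠ (fun _ => (1 : ℂ)) → ∃ g : G, ∀ (x : G) (hx : x ∈ Cfsg.pCore p G) (hgx : g * x * g⁻¹ ∈ Cfsg.pCore p G), mu ⟨x, hx⟩ = lam ⟨g * x * g⁻¹, hgx⟩) ∧ (χ : G → ℂ) 1 = (Nat.card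 ↥(Cfsg.pCore p G) : ℂ) - 1) ∨ (p = 2 ∧ Odd (Nat.card ↥(Subgroup.center G)) ∧ ∃ H : Subgroup G, Nonempty (↥H ≃* Equiv.Perm (Fin 4)) ∧ H ⊓ Subgroup.center G = ⊥ ∧ H ⊔ Subgroup.center G = ⊤) := by
  classical
  haveI := Fintype.ofFinite G
  haveI : (Cfsg.pCore p G).Normal := CfsgLib.Coprime.pCore_normal' p
  haveI := Fintype.ofFinite (Cfsg.pCore p G)
  have hpg : IsPGroup p (Cfsg.pCore p G) := CfsgLib.Coprime.pCore_isPGroup p
  obtain ⟨n, hn⟩ := CfsgLib.Char.isCharacter_degree (CfsgLib.Char.isCharacter_irr χ)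
  have hn1 : n ≠ 1 := fun h => hnl (by rw [hn, h, Nat.cast_one])
  have hnorm : ∀ g : G, p ∣ orderOf g → ‖(χ : G → ℂ) g‖ = 1 := fun g hg => by
    obtain ⟨m, hm, h⟩ := hroot g hg
    exact CfsgLib.Char.norm_eq_one_of_pow_eq_one' hm.ne' h
  obtain ⟨hab, hnq, hval⟩ := core_data χ n hn hn1 hfaith hnorm (Cfsg.pCore p G) hpg hP
  have hC := centralizer_le χ n hn hn1 hfaith hnorm (Cfsg.pCore p G) hpg hnq hab hval
  have hZ := not_dvd_center χ n hn hn1 hfaith hnorm
  have hPZ : Cfsg.pCore p G ⊓ Subgroup.center G = ⊥ := by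
    rw [eq_bot_iff]
    rintro x ⟨hx1, hx2⟩
    rw [Subgroup.mem_bot]
    by_contra hne
    exact hZ ((dvd_orderOf_of_mem hpg hx1 hne).trans (Subgroup.orderOf_dvd_natCard _ hx2))
  obtain ⟨S, hS⟩ := hpg.exists_le_sylow
  by_cases hPS : Cfsg.pCore p G = (S : Subgroup G)
  · left
    refine ⟨?_, ⟨isMulCommutative_iff.2 fun a b => Subtype.ext (hab a a.2 b b.2),
      elementary χ n hn (Cfsg.pCore p G) hP hnq hab hval hpg⟩, ?_, hPZ, ?_, ?_⟩
    · rw [show Nat.card ↥(Cfsg.pCore p G) = Nat.card (S : Subgroup G) by rw [hPS],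
        S.card_eq_multiplicity, Nat.Prime.factorization_pow Fact.out, Finsupp.single_eq_same]
    · refine le_antisymm hC (sup_le (fun x hx y hy => hab y hy x hx) fun z hz y _ => ?_)
      exact center_commute hz y
    · intro lam mu hlam hl1 hlne hmu hm1 hmne
      have mk : ∀ θ : ↥(Cfsg.pCore p G) → ℂ, Cfsg.IsCharacter ↥(Cfsg.pCore p G) θ → θ 1 = 1 →
          Cfsg.IsIrrCharacter ↥(Cfsg.pCore p G) θ := by
        rintro θ ⟨m, σ, rfl⟩ h1
        have hd : Module.finrank ℂ (Fin m → ℂ) = 1 := by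
          have := (Representation.char_one σ).symm.trans h1
          exact_mod_cast this
        haveI := CfsgLib.Char.isIrreducible_of_finrank_eq_one σ hd
        exact CfsgLib.Char.isIrrCharacter_character σ
      obtain ⟨g, hg⟩ := transitive χ n hn (Cfsg.pCore p G) hnq hval ⟨lam, mk lam hlam hl1⟩
        ⟨mu, mk mu hmu hm1⟩ hl1 hlne hm1 hmne
      exact ⟨g, fun x hx _ => (congrFun hg ⟨x, hx⟩).symm⟩
    · rw [hn, ← hnq]; push_cast; ring
  · right
    haveI := Fintype.ofFinite (S : Subgroup G)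
    exact two_case χ n hn hn1 hfaith hnorm (Cfsg.pCore p G) hpg hP hnq hab hval hC hZ hPZ S
      S.isPGroup' hS hPS

end Cfsg.Agent.S4751
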