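import Cfsg.Statements.S4752
import Cfsg.Agent.Lib.Block.ExtraThree.Main

open CfsgLib.Block

set_option autoImplicit false
open Cfsg

namespace Cfsg.Agent.S4752

/-- Let G be a finite group whose Sylow 3-subgroup P is extraspecial of order 27 and exponent 3, with N_G(P) ≤ C_G(Z(P)), and let M be a maximal ideal of the algebraic integers containing 3, B the principal 3-block of G, k its number of irreducible characters, k₀ the number of those of height zero, l its 3-regular rank (number of irreducible Brauer characters), and e the index of P·C_G(P) in N_G(P) (the order of the inertial quotient). Then e = 1 gives (k, k₀, l) = (11, 9, 1); e = 2 gives (10, 6, 2); e = 4 gives (14, 6, 4); e = 8 gives (16, 6, 5). -/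
theorem result {G : Type*} [Group G] [Finite G] (P : Sylow 3 G) (hE : Cfsg.IsExtraspecial 3 ↥(P : Subgroup G)) (h27 : Nat.card ↥(P : Subgroup G) = 27) (hexp : ∀ x ∈ (P : Subgroup G), x ^ 3 = 1) (hNC : ∀ g ∈ Subgroup.normalizer ((P : Subgroup G) : Set G), ∀ z ∈ (P : Subgroup G), (∀ y ∈ (P : Subgroup G), z * y = y * z) → g * z = z * g) (M : Ideal Cfsg.AlgInt) (hM : Cfsg.IsPModular 3 M) (k k₀ l e : ℕ) (hk : Nat.card ↥(Cfsg.principalBlock M G) = k) (hk₀ : Nat.card {χ : Cfsg.IrrCharacter G // χ ∈ Cfsg.principalBlock M G ∧ Cfsg.blockHeight 3 (Cfsg.principalBlock M G) (χ : G → ℂ) = 0} = k₀) (hl : Cfsg.blockRank 3 (Cfsg.principalBlock M G) = l) (he : ((P : Subgroup G) ⊔ Subgroup.centralizer ((P : Subgroup G) : Set G)).relIndex (Subgroup.normalizer ((P : Subgroup G) : Set G)) = e) : (e = 1 → k = 11 ∧ k₀ = 9 ∧ l = 1) ∧ (e = 2 → k = 10 ∧ k₀ = 6 ∧ l = 2) ∧ (e = 4 → k = 14 ∧ k₀ = 6 ∧ l = 4) ∧ (e = 8 → k = 16 ∧ k₀ = 6 ∧ l = 5) := by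
  classical
  have := hM.2.1
  have := Fintype.ofFinite G
  have := Fintype.ofFinite (IrrCharacter G)
  obtain ⟨z, F⟩ := ExtraThree.exists_frame P hE h27 hexp hNC
  have key : 2 ∣ e → ∃ m, m * e = 8 ∧ k + 2 * m = 18 ∧ k₀ = 6 ∧ l + m = 6 := by
    intro h2
    obtain ⟨m, hme, ⟨D⟩⟩ := F.exists_data he h2
    have : NeZero m := ⟨by rintro rfl; simp at hme⟩
    obtain ⟨S⟩ := ExtraThree.exists_setting hM D hE
    obtain ⟨h1, h2, h3⟩ := S.invariants hE
    refine ⟨m, hme, ?_, ?_, by omega⟩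
    · rw [← hk, Nat.card_eq_fintype_card, ← Set.toFinset_card]
      rw [show (principalBlock M G).toFinset = S.blk by ext; simp [ExtraThree.Setting.blk]]
      exact h1
    · rw [← hk₀, S.card_zeroRows, h2]
  refine ⟨fun h => ?_, fun h => ?_, fun h => ?_, fun h => ?_⟩
  · obtain ⟨h1, h2, h3⟩ :=
      ExtraThree.invariants_of_complement hM F (F.exists_complement_of_one (he.trans h))
    exact ⟨hk.symm.trans h1, hk₀.symm.trans h2, hl.symm.trans h3⟩
  all_goals
    obtain ⟨m, hm, h1, h2, h3⟩ := key (by omega)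
    subst h
    exact ⟨by omega, by omega, by omega⟩

end Cfsg.Agent.S4752
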