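import Cfsg.Statements.S4754
import Cfsg.Agent.Lib.Char.Integrality
-- import your own Cfsg.Agent.* helpers here

set_option autoImplicit false
open Cfsg

open Cfsg

namespace Cfsg.Agent.S4754

/-- For elements x, y of a finite group G, the conjugacy class of x y equals the set of all products of a conjugate of x with a conjugate of y if and only if χ(1) χ(a x a⁻¹ b y b⁻¹) = χ(x) χ(y) for all a, b ∈ G and every irreducible character χ. -/
theorem result {G : Type*} [Group G] [Finite G] (x y : G) : (∀ z : G, IsConj (x * y) z ↔ ∃ a b : G, z = a * x * a⁻¹ * (b * y * b⁻¹)) ↔ ∀ (a b : G) (χ : Cfsg.IrrCharacter G), (χ : G → ℂ) 1 * (χ : G → ℂ) (a * x * a⁻¹ * (b * y * b⁻¹)) = (χ : G → ℂ) x * (χ : G → ℂ) y := by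
  classical
  letI := Fintype.ofFinite G
  constructor
  · intro h a b χ
    have h1 := CfsgLib.Char.omega_mul χ x y
    have key : ∀ z : G, (CfsgLib.Char.classConst x y z : ℂ) * (χ : G → ℂ) z =
        (CfsgLib.Char.classConst x y z : ℂ) * (χ : G → ℂ) (x * y) := by
      intro z
      by_cases hz : CfsgLib.Char.classConst x y z = 0
      · simp [hz]
      · congr 1
        rw [CfsgLib.Char.classConst] at hz
        obtain ⟨⟨q, hq1, hq2, hq3⟩⟩ := (Nat.card_ne_zero.mp hz).1
        obtain ⟨c, hc⟩ := isConj_iff.mp hq1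
        obtain ⟨d, hd⟩ := isConj_iff.mp hq2
        exact (CfsgLib.Char.classFun_isConj (CfsgLib.Char.isClassFunction_irr χ)
          ((h z).mpr ⟨c, d, by rw [hc, hd, hq3]⟩)).symm
    rw [← CfsgLib.Char.classFun_isConj (CfsgLib.Char.isClassFunction_irr χ) ((h _).mpr ⟨a, b, rfl⟩)]
    rw [← Finset.sum_div, Finset.sum_congr rfl fun z _ => key z, ← Finset.sum_mul] at h1
    have hN : ∑ z : G, (CfsgLib.Char.classConst x y z : ℂ) =
        (Nat.card {u : G // IsConj x u} : ℂ) * (Nat.card {u : G // IsConj y u} : ℂ) := by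
      rw [← Nat.cast_sum, ← Nat.cast_mul, Nat.cast_inj]
      simp only [CfsgLib.Char.classConst]
      rw [← Nat.card_sigma, ← Nat.card_prod]
      exact Nat.card_congr
        { toFun := fun s => (⟨s.2.1.1, s.2.2.1⟩, ⟨s.2.1.2, s.2.2.2.1⟩)
          invFun := fun s => ⟨s.1.1 * s.2.1, ⟨(s.1.1, s.2.1), s.1.2, s.2.2, rfl⟩⟩
          left_inv := fun s => by
            obtain ⟨z, ⟨q1, q2⟩, h1, h2, h3⟩ := s
            dsimp at h3 ⊢
            subst h3
            rfl
          right_inv := fun s => rfl }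
    rw [hN] at h1
    simp only [CfsgLib.Char.omega] at h1
    have h0 := CfsgLib.Char.irr_one_ne_zero χ
    have hx : (Nat.card {u : G // IsConj x u} : ℂ) ≠ 0 :=
      Nat.cast_ne_zero.mpr (Nat.card_ne_zero.mpr ⟨⟨⟨x, IsConj.refl x⟩⟩, inferInstance⟩)
    have hy : (Nat.card {u : G // IsConj y u} : ℂ) ≠ 0 :=
      Nat.cast_ne_zero.mpr (Nat.card_ne_zero.mpr ⟨⟨⟨y, IsConj.refl y⟩⟩, inferInstance⟩)
    field_simp at h1
    linear_combination -h1
  · intro h z
    constructor
    · intro hz
      obtain ⟨c, hc⟩ := isConj_iff.mp hz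
      exact ⟨c, c, by rw [← hc]; group⟩
    · rintro ⟨a, b, rfl⟩
      refine CfsgLib.Char.isConj_of_irr_agree fun χ => ?_
      have h1 := h 1 1 χ
      simp only [one_mul, inv_one, mul_one] at h1
      exact mul_left_cancel₀ (CfsgLib.Char.irr_one_ne_zero χ) (h1.trans (h a b χ).symm)

end Cfsg.Agent.S4754
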