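import Cfsg.Statements.S4755
import Cfsg.Agent.Lib.Char.Integrality
import Cfsg.Agent.Lib.Char.Orthogonality
import Cfsg.Agent.Lib.Char.Linear

set_option autoImplicit false
open Cfsg

namespace Cfsg.Agent.S4755

/-- Let x, y be non-identity elements of the finite group G such that χ(x' y') = χ(x') χ(y') for all conjugates x' of x, y' of y and every irreducible character χ. Then the conjugacy class of x y is the set of all products of a conjugate of x with a conjugate of y; every irreducible character of degree greater than 1 vanishes at x y; and the conjugacy class of x y is the coset of the commutator subgroup containing x y. -/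
theorem result {G : Type*} [Group G] [Finite G] (x y : G) (hx : x ≠ 1) (hy : y ≠ 1) (h : ∀ (a b : G) (χ : Cfsg.IrrCharacter G), (χ : G → ℂ) (a * x * a⁻¹ * (b * y * b⁻¹)) = (χ : G → ℂ) (a * x * a⁻¹) * (χ : G → ℂ) (b * y * b⁻¹)) : (∀ z : G, IsConj (x * y) z ↔ ∃ a b : G, z = a * x * a⁻¹ * (b * y * b⁻¹)) ∧ (∀ χ : Cfsg.IrrCharacter G, (χ : G → ℂ) 1 ≠ 1 → (χ : G → ℂ) (x * y) = 0) ∧ (∀ z : G, IsConj (x * y) z ↔ (x * y)⁻¹ * z ∈ commutator G) := by
  classical
  have := Fintype.ofFinite G
  have := Fintype.ofFinite (IrrCharacter G)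
  have hcf := fun χ : IrrCharacter G => CfsgLib.Char.isClassFunction_irr χ
  have hval : ∀ (χ : IrrCharacter G) (u v : G), IsConj x u → IsConj y v →
      (χ : G → ℂ) (u * v) = (χ : G → ℂ) x * (χ : G → ℂ) y := fun χ u v hu hv => by
    obtain ⟨a, rfl⟩ := isConj_iff.mp hu
    obtain ⟨b, rfl⟩ := isConj_iff.mp hv
    rw [h a b χ, CfsgLib.Char.classFun_isConj (hcf χ) hu, CfsgLib.Char.classFun_isConj (hcf χ) hv]
  have hxy : ∀ χ : IrrCharacter G, (χ : G → ℂ) (x * y) = (χ : G → ℂ) x * (χ : G → ℂ) y :=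
    fun χ => hval χ x y (IsConj.refl x) (IsConj.refl y)
  have hzero : ∀ χ : IrrCharacter G, (χ : G → ℂ) 1 ≠ 1 → (χ : G → ℂ) (x * y) = 0 := by
    intro χ h1
    obtain ⟨χ, n, ρ, hρ, rfl⟩ := χ
    haveI := hρ
    set Kx : Finset G := Finset.univ.filter (IsConj x) with hKx
    set Ky : Finset G := Finset.univ.filter (IsConj y) with hKy
    have htr1 : LinearMap.trace ℂ _ (CfsgLib.Char.classOp ρ x * CfsgLib.Char.classOp ρ y) =
        CfsgLib.Char.omega ρ.character x * CfsgLib.Char.omega ρ.character y * ρ.character 1 := by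
      rw [CfsgLib.Char.classOp_eq, CfsgLib.Char.classOp_eq, Representation.char_one,
        ← CfsgLib.Char.trace_smul_id]
      congr 1
      ext v
      simp [smul_smul, Module.End.mul_apply, mul_comm]
    have htr2 : LinearMap.trace ℂ _ (CfsgLib.Char.classOp ρ x * CfsgLib.Char.classOp ρ y) =
        (Kx.card : ℂ) * (Ky.card : ℂ) * (ρ.character x * ρ.character y) := by
      rw [CfsgLib.Char.classOp, CfsgLib.Char.classOp, ← Finset.sum_filter, ← Finset.sum_filter,
        Finset.sum_mul_sum, map_sum]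
      simp only [← map_mul, map_sum]
      refine (Finset.sum_congr rfl fun u hu => Finset.sum_congr rfl fun v hv =>
        hval ⟨ρ.character, n, ρ, hρ, rfl⟩ u v (Finset.mem_filter.mp hu).2
          (Finset.mem_filter.mp hv).2).trans ?_
      simp [hKx, hKy, mul_assoc]
    have hc : ∀ z : G, (Nat.card {w : G // IsConj z w} : ℂ) =
        ((Finset.univ.filter (IsConj z)).card : ℂ) := fun z => by
      rw [Nat.card_eq_fintype_card, Fintype.card_subtype]
    rw [htr1, CfsgLib.Char.omega, CfsgLib.Char.omega, hc x, hc y, ← hKx, ← hKy] at htr2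
    have hd : ρ.character 1 ≠ 0 :=
      CfsgLib.Char.irr_one_ne_zero ⟨ρ.character, n, ρ, hρ, rfl⟩
    have hne : ∀ z : G, ((Finset.univ.filter (IsConj z)).card : ℂ) ≠ 0 := fun z =>
      Nat.cast_ne_zero.mpr (Finset.card_ne_zero.mpr
        ⟨z, Finset.mem_filter.mpr ⟨Finset.mem_univ z, IsConj.refl z⟩⟩)
    show ρ.character (x * y) = 0
    rw [show ρ.character (x * y) = ρ.character x * ρ.character y from
      hxy ⟨ρ.character, n, ρ, hρ, rfl⟩]
    have h2 : ((Kx.card : ℂ) * Ky.card) * (ρ.character x * ρ.character y) * (1 - ρ.character 1) = 0 := by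
      field_simp at htr2
      linear_combination htr2
    rcases mul_eq_zero.mp h2 with h3 | h3
    · exact (mul_eq_zero.mp h3).resolve_left (mul_ne_zero (hne x) (hne y))
    · exact absurd (sub_eq_zero.mp h3).symm h1
  refine ⟨fun z => ⟨fun hz => ?_, ?_⟩, hzero, fun z => ⟨fun hz => ?_, fun hz => ?_⟩⟩
  · obtain ⟨c, rfl⟩ := isConj_iff.mp hz
    exact ⟨c, c, by group⟩
  · rintro ⟨a, b, rfl⟩
    refine CfsgLib.Char.isConj_of_irr_agree fun χ => ?_
    rw [hxy, hval χ _ _ (isConj_iff.mpr ⟨a, rfl⟩) (isConj_iff.mpr ⟨b, rfl⟩)]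
  · obtain ⟨c, rfl⟩ := isConj_iff.mp hz
    open scoped commutatorElement in
    rw [show (x * y)⁻¹ * (c * (x * y) * c⁻¹) = ⁅(x * y)⁻¹, c⁆ by rw [commutatorElement_def]; group]
    exact Subgroup.commutator_mem_commutator (Subgroup.mem_top _) (Subgroup.mem_top _)
  · have hlin : ∀ χ : IrrCharacter G, (χ : G → ℂ) 1 = 1 → (χ : G → ℂ) z = (χ : G → ℂ) (x * y) := by
      intro χ h1
      obtain ⟨lam, hlam⟩ := CfsgLib.Char.linearCharEquiv.surjective ⟨χ, h1⟩
      have hfun : ∀ g, (χ : G → ℂ) g = ((lam g : ℂˣ) : ℂ) := fun g =>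
        (congrFun (congrArg (fun w => ((w : {χ : IrrCharacter G // (χ : G → ℂ) 1 = 1}).1 : G → ℂ)) hlam) g).symm
      have hk : lam ((x * y)⁻¹ * z) = 1 := Abelianization.commutator_subset_ker lam hz
      rw [map_mul, map_inv, inv_mul_eq_one] at hk
      rw [hfun, hfun, hk]
    have hsum : ∑ χ : IrrCharacter G, (χ : G → ℂ) z * (starRingEnd ℂ) ((χ : G → ℂ) (x * y)) =
        ∑ χ : IrrCharacter G, (χ : G → ℂ) (x * y) * (starRingEnd ℂ) ((χ : G → ℂ) (x * y)) := by
      refine Finset.sum_congr rfl fun χ _ => ?_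
      by_cases h1 : (χ : G → ℂ) 1 = 1
      · rw [hlin χ h1]
      · rw [hzero χ h1, map_zero, mul_zero, zero_mul]
    rw [CfsgLib.Char.sum_irr_mul_conj, CfsgLib.Char.sum_irr_mul_conj, if_pos (IsConj.refl (x * y))]
      at hsum
    by_contra hc
    rw [if_neg fun e => hc e.symm] at hsum
    exact Nat.card_pos.ne' (Nat.cast_eq_zero.mp hsum.symm)

end Cfsg.Agent.S4755
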