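import Cfsg.Statements.S4756
import Cfsg.Agent.Lib.Char.Linear
import Cfsg.Agent.Lib.Char.Orthogonality
import Cfsg.Agent.Lib.Char.Vanish
import Cfsg.Agent.Lib.Char.Scalar
import Cfsg.Agent.Lib.Coprime.FpfAction

set_option autoImplicit false
open Cfsg

namespace Cfsg.Agent.S4756

section
open CfsgLib.Char CfsgLib.Coprime Subgroup
open scoped ComplexConjugate commutatorElement

universe u

variable {G : Type u} [Group G] [Finite G]

/-- A finite sum of representation values over a class acts as a scalar. -/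
private theorem sum_conj_mul [Fintype G] (χ : IrrCharacter G) (a b : G) :
    (χ : G → ℂ) 1 * ∑ g : G, (χ : G → ℂ) (g * a * g⁻¹ * b)
      = (Nat.card G : ℂ) * ((χ : G → ℂ) a * (χ : G → ℂ) b) := by
  obtain ⟨χ, n, ρ, hρ, rfl⟩ := χ
  show ρ.character 1 * ∑ g : G, ρ.character (g * a * g⁻¹ * b)
      = (Nat.card G : ℂ) * (ρ.character a * ρ.character b)
  set T : (Fin n → ℂ) →ₗ[ℂ] (Fin n → ℂ) := ∑ g : G, ρ (g * a * g⁻¹) with hT
  have hcomm : ∀ x : G, T * ρ x = ρ x * T := by
    intro x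
    rw [hT, Finset.sum_mul, Finset.mul_sum]
    refine Fintype.sum_bijective (fun g => x⁻¹ * g) (Equiv.mulLeft x⁻¹).bijective _ _ fun g => ?_
    rw [← map_mul, ← map_mul]
    congr 1
    group
  obtain ⟨c, hc⟩ := schur_scalar ρ T hcomm
  have h1 : (Nat.card G : ℂ) * ρ.character a = c * ρ.character 1 := by
    have := congrArg (LinearMap.trace ℂ (Fin n → ℂ)) hc
    rw [trace_smul_id, hT, map_sum] at this
    rw [Representation.char_one, ← this]
    rw [Finset.sum_congr rfl fun g _ => show LinearMap.trace ℂ _ (ρ (g * a * g⁻¹)) = ρ.character a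
      from Representation.char_conj ρ a g]
    rw [Finset.sum_const, Finset.card_univ, nsmul_eq_mul, Nat.card_eq_fintype_card]
  have h2 : ∑ g : G, ρ.character (g * a * g⁻¹ * b) = c * ρ.character b := by
    have : LinearMap.trace ℂ (Fin n → ℂ) (T * ρ b) = c * ρ.character b := by
      rw [hc, smul_mul_assoc, ← Module.End.one_eq_id, one_mul, map_smul, smul_eq_mul]
      rfl
    rw [← this, hT, Finset.sum_mul, map_sum]
    exact Finset.sum_congr rfl fun g _ => by rw [← map_mul]; rfl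
  rw [h2, ← mul_assoc, mul_comm _ c, ← h1, mul_assoc]

private theorem mul_of_linear {χ : IrrCharacter G} (h : (χ : G → ℂ) 1 = 1) (x y : G) :
    (χ : G → ℂ) (x * y) = (χ : G → ℂ) x * (χ : G → ℂ) y := by
  obtain ⟨lam, hlam⟩ := (linearCharEquiv (G := G)).surjective ⟨χ, h⟩
  have e : (χ : G → ℂ) = fun g => (lam g : ℂ) :=
    (congrArg (fun z : {χ : IrrCharacter G // (χ : G → ℂ) 1 = 1} =>
      ((z.1 : IrrCharacter G) : G → ℂ)) hlam).symm
  simp only [e, map_mul, Units.val_mul]

private theorem normSq_linear {χ : IrrCharacter G} (h : (χ : G → ℂ) 1 = 1) (x : G) :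
    Complex.normSq ((χ : G → ℂ) x) = 1 := by
  have h2 := mul_of_linear h x x⁻¹
  rw [mul_inv_cancel, h, irr_inv, Complex.mul_conj] at h2
  exact_mod_cast h2.symm

/-- The second orthogonality relation, split off at the linear characters. -/
private theorem sum_nonlinear [Fintype (IrrCharacter G)]
    [DecidablePred fun χ : IrrCharacter G => (χ : G → ℂ) 1 = 1] (x : G) :
    ((commutator G).index : ℝ)
      + ∑ χ ∈ Finset.univ.filter (fun χ : IrrCharacter G => ¬ (χ : G → ℂ) 1 = 1),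
          Complex.normSq ((χ : G → ℂ) x)
      = (Nat.card (centralizer ({x} : Set G)) : ℝ) := by
  classical
  have h := sum_irr_mul_conj x x
  rw [if_pos (IsConj.refl x), Finset.sum_congr rfl fun χ _ => Complex.mul_conj _] at h
  have h' : (∑ χ : IrrCharacter G, Complex.normSq ((χ : G → ℂ) x))
      = (Nat.card (centralizer ({x} : Set G)) : ℝ) := by exact_mod_cast h
  rw [← h', ← Finset.sum_filter_add_sum_filter_not Finset.univ
    (fun χ : IrrCharacter G => (χ : G → ℂ) 1 = 1)]
  congr 1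
  rw [Finset.sum_congr rfl fun χ hχ => normSq_linear (Finset.mem_filter.mp hχ).2 x,
    Finset.sum_const, ← Fintype.card_subtype, ← Nat.card_eq_fintype_card, card_linear]
  simp

private theorem orderOf_conj (g x : G) : orderOf (g * x * g⁻¹) = orderOf x :=
  orderOf_injective (MulAut.conj g).toMonoidHom (MulAut.conj g).injective x

/-- Under the multiplicativity hypothesis a nonlinear character kills one of `x`, `y`. -/
private theorem mul_eq_zero_of_mult
    (hyp : ∀ (x y : G) (χ : IrrCharacter G), x ≠ 1 → y ≠ 1 →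
      (∃ p q a b : ℕ, p.Prime ∧ q.Prime ∧ p ≠ q ∧ orderOf x = p ^ a ∧ orderOf y = q ^ b) →
      (χ : G → ℂ) (x * y) = (χ : G → ℂ) x * (χ : G → ℂ) y)
    {χ : IrrCharacter G} (hχ : ¬ (χ : G → ℂ) 1 = 1) {x y : G} (hx : x ≠ 1) (hy : y ≠ 1)
    {p q a b : ℕ} (hp : p.Prime) (hq : q.Prime) (hpq : p ≠ q) (hox : orderOf x = p ^ a)
    (hoy : orderOf y = q ^ b) : (χ : G → ℂ) x = 0 ∨ (χ : G → ℂ) y = 0 := by
  have := Fintype.ofFinite G
  have h : ∀ g : G, (χ : G → ℂ) (g * x * g⁻¹ * y) = (χ : G → ℂ) x * (χ : G → ℂ) y := fun g => by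
    rw [hyp (g * x * g⁻¹) y χ (fun e => hx (by simpa using e)) hy
      ⟨p, q, a, b, hp, hq, hpq, by rw [orderOf_conj]; exact hox, hoy⟩,
      isClassFunction_irr χ x g]
  have hs := sum_conj_mul χ x y
  rw [Finset.sum_congr rfl fun g _ => h g, Finset.sum_const, Finset.card_univ, nsmul_eq_mul,
    ← Nat.card_eq_fintype_card] at hs
  by_contra hne
  push_neg at hne
  refine hχ (mul_right_cancel₀
    (mul_ne_zero (card_ne_zero' (G := G)) (mul_ne_zero hne.1 hne.2)) ?_)
  rw [hs, one_mul]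

/-- The order of a group all of whose nonlinear characters miss the primes other than `p`. -/
private theorem dvd_degree {χ : IrrCharacter G} {q : ℕ} (hq : q.Prime)
    (hv : ∀ x : G, x ≠ 1 → (∃ a, orderOf x = q ^ a) → (χ : G → ℂ) x = 0) :
    ∃ k : ℕ, (χ : G → ℂ) 1 = ((q ^ (Nat.card G).factorization q * k : ℕ) : ℂ) := by
  have := Fact.mk hq
  have := Fintype.ofFinite G
  let Q : Sylow q G := default
  obtain ⟨k, hk⟩ := exists_degree_eq_card_mul (isCharacter_irr χ) (Q : Subgroup G) (fun g hg hg1 => by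
    obtain ⟨a, ha⟩ := (IsPGroup.iff_orderOf (p := q)).1 Q.isPGroup' ⟨g, hg⟩
    exact hv g hg1 ⟨a, (Subgroup.orderOf_coe ⟨g, hg⟩).trans ha⟩)
  refine ⟨k, ?_⟩
  rw [hk, Q.card_eq_multiplicity]
  push_cast
  rfl

/-- A group satisfying multiplicativity, nonabelian, not of prime power order. -/
private theorem forward
    (hyp : ∀ (x y : G) (χ : IrrCharacter G), x ≠ 1 → y ≠ 1 →
      (∃ p q a b : ℕ, p.Prime ∧ q.Prime ∧ p ≠ q ∧ orderOf x = p ^ a ∧ orderOf y = q ^ b) →
      (χ : G → ℂ) (x * y) = (χ : G → ℂ) x * (χ : G → ℂ) y)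
    (hna : ¬ IsMulCommutative G) :
    ∃ p : ℕ, p.Prime ∧ IsPGroup p (commutator G) ∧
      ∀ χ : IrrCharacter G, ¬ (χ : G → ℂ) 1 = 1 →
        ∀ x : G, x ≠ 1 → ∀ q a : ℕ, q.Prime → q ≠ p → orderOf x = q ^ a → (χ : G → ℂ) x = 0 := by
  classical
  have := Fintype.ofFinite G
  have := Fintype.ofFinite (IrrCharacter G)
  let PV : IrrCharacter G → ℕ → Prop := fun χ p =>
    ∀ x : G, x ≠ 1 → ∀ q a : ℕ, q.Prime → q ≠ p → orderOf x = q ^ a → (χ : G → ℂ) x = 0
  have hex : ∀ χ : IrrCharacter G, ¬ (χ : G → ℂ) 1 = 1 → ∃ p, p.Prime ∧ PV χ p := by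
    intro χ hχ
    by_cases hall : ∀ x : G, x ≠ 1 → ∀ q a : ℕ, q.Prime → orderOf x = q ^ a → (χ : G → ℂ) x = 0
    · exact ⟨2, Nat.prime_two, fun x hx q a hq _ ho => hall x hx q a hq ho⟩
    · push_neg at hall
      obtain ⟨x, hx, p, a, hp, ho, hne⟩ := hall
      refine ⟨p, hp, fun y hy q b hq hqp hoy => ?_⟩
      exact (mul_eq_zero_of_mult hyp hχ hx hy hp hq hqp.symm ho hoy).resolve_left hne
  have hdeg : ∀ χ : IrrCharacter G, ∃ d : ℕ, (χ : G → ℂ) 1 = d ∧ 0 < d := by
    intro χ
    obtain ⟨d, hd⟩ := isCharacter_degree (isCharacter_irr χ)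
    exact ⟨d, hd, Nat.pos_of_ne_zero fun h0 => irr_one_ne_zero χ (by rw [hd, h0]; simp)⟩
  choose d hd hd0 using hdeg
  have hsum : ∑ χ : IrrCharacter G, d χ ^ 2 = Nat.card G := by
    have h := sum_degree_sq (G := G)
    simp only [hd] at h
    exact_mod_cast h
  have hlt : ∀ χ : IrrCharacter G, ¬ (χ : G → ℂ) 1 = 1 → d χ ^ 2 < Nat.card G := by
    intro χ hχ
    let one : IrrCharacter G := ⟨_, isIrrCharacter_one⟩
    have hne : χ ≠ one := fun e => hχ (by rw [e])
    have h2 := Finset.sum_le_univ_sum_of_nonneg (f := fun χ : IrrCharacter G => d χ ^ 2)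
      (fun _ => Nat.zero_le _) (s := {χ, one})
    rw [Finset.sum_pair hne, hsum] at h2
    have := Nat.pos_iff_ne_zero.mp (pow_pos (hd0 one) 2)
    omega
  have hdvd : ∀ χ p, PV χ p → ∀ q : ℕ, q.Prime → q ≠ p →
      q ^ (Nat.card G).factorization q ∣ d χ := by
    intro χ p hv q hq hqp
    obtain ⟨k, hk⟩ := dvd_degree hq (χ := χ) (fun x hx ⟨a, ha⟩ => hv x hx q a hq hqp ha)
    rw [hd, Nat.cast_inj] at hk
    exact ⟨k, hk⟩
  have huniq : ∀ χ ψ : IrrCharacter G, ¬ (χ : G → ℂ) 1 = 1 → ¬ (ψ : G → ℂ) 1 = 1 →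
      ∀ p r, PV χ p → PV ψ r → p = r := by
    intro χ ψ hχ hψ p r hv hw
    by_contra hpr
    have hn : Nat.card G ∣ d χ * d ψ := by
      rw [← Nat.factorization_le_iff_dvd Nat.card_pos.ne' (mul_pos (hd0 χ) (hd0 ψ)).ne']
      intro q
      by_cases hq : q.Prime
      · refine (hq.pow_dvd_iff_le_factorization (mul_pos (hd0 χ) (hd0 ψ)).ne').mp ?_
        by_cases hqp : q = p
        · exact (hdvd ψ r hw q hq (hqp ▸ hpr)).mul_left _
        · exact (hdvd χ p hv q hq hqp).mul_right _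
      · simp [Nat.factorization_eq_zero_of_not_prime _ hq]
    have h1 := Nat.le_of_dvd (mul_pos (hd0 χ) (hd0 ψ)) hn
    have h2 := hlt χ hχ
    have h3 := hlt ψ hψ
    nlinarith
  have hnl : ∃ χ : IrrCharacter G, ¬ (χ : G → ℂ) 1 = 1 := by
    by_contra hc
    push_neg at hc
    exact hna ⟨⟨comm_of_degree_one hc⟩⟩
  obtain ⟨χ₀, hχ₀⟩ := hnl
  obtain ⟨p, hp, hp₀⟩ := hex χ₀ hχ₀
  have hall : ∀ χ : IrrCharacter G, ¬ (χ : G → ℂ) 1 = 1 → PV χ p := by
    intro χ hχ
    obtain ⟨r, hr, hr'⟩ := hex χ hχ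
    rwa [huniq χ₀ χ hχ₀ hχ p r hp₀ hr']
  refine ⟨p, hp, ?_, hall⟩
  have := Fact.mk hp
  have hidx : ∀ q : ℕ, q.Prime → q ≠ p → q ^ (Nat.card G).factorization q ∣ (commutator G).index := by
    intro q hq hqp
    have h1 : ∑ χ ∈ Finset.univ.filter (fun χ : IrrCharacter G => ¬ (χ : G → ℂ) 1 = 1), d χ ^ 2
        + (commutator G).index = Nat.card G := by
      rw [← hsum, ← Finset.sum_filter_add_sum_filter_not Finset.univ
        (fun χ : IrrCharacter G => (χ : G → ℂ) 1 = 1), add_comm]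
      congr 1
      rw [Finset.sum_congr rfl (g := fun _ => 1) fun χ hχ => by
          have : (d χ : ℂ) = 1 := (hd χ).symm.trans (Finset.mem_filter.mp hχ).2
          rw [Nat.cast_eq_one.mp this, one_pow],
        Finset.sum_const, ← Fintype.card_subtype, ← Nat.card_eq_fintype_card, card_linear]
      simp
    have h2 : q ^ (Nat.card G).factorization q ∣
        ∑ χ ∈ Finset.univ.filter (fun χ : IrrCharacter G => ¬ (χ : G → ℂ) 1 = 1), d χ ^ 2 :=
      Finset.dvd_sum fun χ hχ => dvd_pow (hdvd χ p (hall χ (Finset.mem_filter.mp hχ).2) q hq hqp)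
        two_ne_zero
    exact (Nat.dvd_add_iff_right h2).mpr (h1.symm ▸ Nat.ordProj_dvd _ _)
  refine IsPGroup.of_card (n := (Nat.card (commutator G)).factorization p) ?_
  have hc0 : Nat.card (commutator G) ≠ 0 := Nat.card_pos.ne'
  refine Nat.eq_pow_of_factorization_eq_single hc0 (Finsupp.ext fun q => ?_)
  by_cases hqp : q = p
  · subst hqp; simp
  rw [Finsupp.single_eq_of_ne hqp]
  by_cases hq : q.Prime
  · have hi0 : (commutator G).index ≠ 0 := Subgroup.index_ne_zero_of_finite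
    have hle := (hq.pow_dvd_iff_le_factorization hi0).mp (hidx q hq hqp)
    have e : (Nat.card G).factorization q
        = (Nat.card (commutator G)).factorization q + (commutator G).index.factorization q := by
      rw [← Subgroup.card_mul_index (commutator G), Nat.factorization_mul hc0 hi0]; rfl
    omega
  · exact Nat.factorization_eq_zero_of_not_prime _ hq

/-- The structure forced by multiplicativity. -/
private theorem structure_of
    (hyp : ∀ (x y : G) (χ : IrrCharacter G), x ≠ 1 → y ≠ 1 →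
      (∃ p q a b : ℕ, p.Prime ∧ q.Prime ∧ p ≠ q ∧ orderOf x = p ^ a ∧ orderOf y = q ^ b) →
      (χ : G → ℂ) (x * y) = (χ : G → ℂ) x * (χ : G → ℂ) y)
    (hnp : ¬ ∃ p : ℕ, p.Prime ∧ IsPGroup p G) (hna : ¬ IsMulCommutative G) :
    ∃ (p : ℕ) (_ : Fact p.Prime) (P : Sylow p G) (A : Subgroup G), (P : Subgroup G).Normal ∧ IsCyclic ↥A ∧ A ≠ ⊥ ∧ (Nat.card ↥A).Coprime p ∧ A ⊔ (P : Subgroup G) = ⊤ ∧ IsMulCommutative ↥((P : Subgroup G) ⊓ Subgroup.centralizer (A : Set G)) ∧ (⁅A, (P : Subgroup G)⁆).Normal ∧ ((P : Subgroup G) ⊓ Subgroup.centralizer (A : Set G)) ⊔ ⁅A, (P : Subgroup G)⁆ = (P : Subgroup G) ∧ ((P : Subgroup G) ⊓ Subgroup.centralizer (A : Set G)) ⊓ ⁅A, (P : Subgroup G)⁆ = ⊥ ∧ ∀ a ∈ A, a ≠ 1 → ∀ d ∈ ⁅A, (P : Subgroup G)⁆, a * d = d * a → d = 1 := by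
  classical
  have := Fintype.ofFinite G
  have := Fintype.ofFinite (IrrCharacter G)
  obtain ⟨p, hp, hG', hv⟩ := forward hyp hna
  have := Fact.mk hp
  let P : Sylow p G := default
  have hG'P : commutator G ≤ (P : Subgroup G) := by
    obtain ⟨Q, hQ⟩ := hG'.exists_le_sylow
    obtain ⟨g, hg⟩ := MulAction.exists_smul_eq G Q P
    rw [← hg]
    intro x hx
    rw [Sylow.coe_subgroup_smul, Subgroup.mem_pointwise_smul_iff_inv_smul_mem]
    exact hQ ((inferInstance : (commutator G).Normal).conj_mem' x hx g)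
  have hcm : ∀ a b : G, ⁅a, b⁆ ∈ commutator G := fun a b =>
    Subgroup.commutator_mem_commutator (Subgroup.mem_top a) (Subgroup.mem_top b)
  have hPn : (P : Subgroup G).Normal := ⟨fun x hx g => by
    rw [show g * x * g⁻¹ = ⁅g, x⁆ * x by rw [commutatorElement_def]; group]
    exact mul_mem (hG'P (hcm g x)) hx⟩
  obtain ⟨A, hA⟩ := Subgroup.exists_right_complement'_of_coprime
    (N := (P : Subgroup G)) P.card_coprime_index
  have hdisj : Disjoint (P : Subgroup G) A := hA.disjoint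
  have hcA : IsMulCommutative A := ⟨⟨fun ⟨a, ha⟩ ⟨b, hb⟩ => Subtype.ext (by
    show a * b = b * a
    have h := (Subgroup.disjoint_def.mp hdisj) (hG'P (hcm a b))
      (mul_mem (mul_mem (mul_mem ha hb) (inv_mem ha)) (inv_mem hb))
    exact commutatorElement_eq_one_iff_mul_comm.mp h)⟩⟩
  have hAcard : Nat.card A = (P : Subgroup G).index := (hA.symm.index_eq_card).symm
  have hcop : (Nat.card A).Coprime p :=
    ((Nat.Prime.coprime_iff_not_dvd hp).mpr (hAcard ▸ P.not_dvd_index)).symm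
  have hcop' : (Nat.card A).Coprime (Nat.card (P : Subgroup G)) := by
    rw [hAcard]; exact P.card_coprime_index.symm
  have hAb : A ≠ ⊥ := by
    intro h
    rw [h, Subgroup.card_bot, eq_comm, Subgroup.index_eq_one] at hAcard
    exact hnp ⟨p, hp, (P.isPGroup'.to_le hAcard.ge).of_equiv Subgroup.topEquiv⟩
  have htop : A ⊔ (P : Subgroup G) = ⊤ := by rw [sup_comm]; exact hA.sup_eq_top
  have hAN : A ≤ normalizer ((P : Subgroup G) : Set G) :=
    le_top.trans_eq (Subgroup.normalizer_eq_top_iff.mpr hPn).symm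
  set C : Subgroup G := (P : Subgroup G) ⊓ Subgroup.centralizer (A : Set G) with hC
  set D : Subgroup G := ⁅A, (P : Subgroup G)⁆ with hD
  have hDG' : D ≤ commutator G := by
    rw [hD, _root_.commutator_def]; exact Subgroup.commutator_mono le_top le_top
  have hPn' : (P : Subgroup G) ≤ normalizer (D : Set G) := by
    rw [hD, Subgroup.commutator_comm]; exact normalizer_commutator_ge_left _ _
  have hDC : D ⊔ C = (P : Subgroup G) := by
    rw [hD, Subgroup.commutator_comm]
    exact commutator_sup_centralizer hAN hcop' (Or.inl (isSolvable_of_isMulCommutative hcA))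
  have hA0 : ∀ a ∈ A, a ≠ 1 → (∃ q k, q.Prime ∧ q ≠ p ∧ orderOf a = q ^ k) →
      Nat.card (centralizer ({a} : Set G)) = (commutator G).index := by
    rintro a - ha1 ⟨q, k, hq, hqp, ho⟩
    have h := sum_nonlinear (G := G) a
    rw [Finset.sum_eq_zero (fun χ hχ => by
      rw [hv χ (Finset.mem_filter.mp hχ).2 a ha1 q k hq hqp ho, map_zero]), add_zero] at h
    exact_mod_cast h.symm
  -- the counting for an element of prime order
  have hkey : ∀ a ∈ A, a ≠ 1 → (∃ q k, q.Prime ∧ q ≠ p ∧ orderOf a = q ^ k) →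
      C ⊓ D = ⊥ ∧ D = commutator G ∧ C = (P : Subgroup G) ⊓ centralizer ({a} : Set G) := by
    intro a ha ha1 hao
    set E : Subgroup G := (P : Subgroup G) ⊓ centralizer ({a} : Set G) with hE
    have hCE : C ≤ E := inf_le_inf_left _
      (Subgroup.centralizer_le (Set.singleton_subset_iff.mpr ha))
    have hACa : A ≤ centralizer ({a} : Set G) := fun b hb => Subgroup.mem_centralizer_singleton_iff.mpr
      (congrArg Subtype.val (hcA.is_comm.comm (⟨b, hb⟩ : A) ⟨a, ha⟩))
    have hdEA : Disjoint E A := hdisj.mono_left inf_le_left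
    have h1 : Nat.card E * Nat.card A ≤ Nat.card (centralizer ({a} : Set G)) := by
      rw [← Nat.card_prod]
      exact Nat.card_le_card_of_injective
        (fun z : E × A => (⟨(z.1 : G) * z.2, mul_mem z.1.2.2 (hACa z.2.2)⟩ :
          centralizer ({a} : Set G)))
        fun z w h => Subgroup.mul_injective_of_disjoint hdEA (congrArg Subtype.val h)
    let f : D × C → (P : Subgroup G) := fun z =>
      ⟨(z.1 : G) * z.2, mul_mem (hG'P (hDG' z.1.2)) z.2.2.1⟩
    have hf : Function.Surjective f := by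
      rintro ⟨u, hu⟩
      obtain ⟨d, hd, c, hc, e⟩ := CfsgLib.Coprime.mem_sup_exists
        ((inf_le_left).trans hPn') (hDC.symm ▸ hu : u ∈ D ⊔ C)
      exact ⟨(⟨d, hd⟩, ⟨c, hc⟩), Subtype.ext e⟩
    have h2 := Nat.card_le_card_of_surjective f hf
    rw [Nat.card_prod] at h2
    have h3 : Nat.card E * Nat.card (commutator G) ≤ Nat.card (P : Subgroup G) := by
      refine Nat.le_of_mul_le_mul_right ?_ (Nat.card_pos (α := A))
      rw [show Nat.card (P : Subgroup G) * Nat.card A = Nat.card G from hA.card_mul, mul_right_comm]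
      calc Nat.card E * Nat.card A * Nat.card (commutator G)
          ≤ (commutator G).index * Nat.card (commutator G) :=
            Nat.mul_le_mul_right _ (hA0 a ha ha1 hao ▸ h1)
        _ = Nat.card G := Subgroup.index_mul_card _
    have h4 := Subgroup.card_le_of_le hCE
    have h5 := Subgroup.card_le_of_le hDG'
    have hD0 := Nat.card_pos (α := D)
    have hC0 := Nat.card_pos (α := C)
    have eD : Nat.card D = Nat.card (commutator G) := le_antisymm h5 (by nlinarith)
    have eC : Nat.card C = Nat.card E := le_antisymm h4 (by nlinarith)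
    refine ⟨?_, Subgroup.eq_of_le_of_card_ge hDG' eD.ge, Subgroup.eq_of_le_of_card_ge hCE eC.ge⟩
    have hbij : Function.Bijective f := hf.bijective_of_nat_card_le (by
      rw [Nat.card_prod]; nlinarith)
    refine le_bot_iff.mp fun x hx => ?_
    have e : f (⟨x, hx.2⟩, 1) = f (1, ⟨x, hx.1⟩) := Subtype.ext (by simp [f])
    have := congrArg (fun z : D × C => (z.1 : G)) (hbij.1 e)
    simpa using this
  have hprime : ∀ a ∈ A, a ≠ 1 → ∃ j : ℕ, a ^ j ≠ 1 ∧
      ∃ q k, q.Prime ∧ q ≠ p ∧ orderOf (a ^ j) = q ^ k := by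
    intro a ha ha1
    have hord : orderOf a ≠ 1 := fun h => ha1 (orderOf_eq_one_iff.mp h)
    have hq := Nat.minFac_prime hord
    have he := orderOf_pow_orderOf_div (orderOf_pos a).ne' (Nat.minFac_dvd (orderOf a))
    refine ⟨orderOf a / (orderOf a).minFac, fun h => ?_, _, 1, hq, ?_, he.trans (pow_one _).symm⟩
    · rw [h, orderOf_one] at he; exact hq.ne_one he.symm
    · intro e
      have hdA : orderOf a ∣ Nat.card A := by
        rw [← Subgroup.orderOf_mk a ha]; exact orderOf_dvd_natCard _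
      exact hp.ne_one (Nat.eq_one_of_dvd_coprimes hcop (e ▸ (Nat.minFac_dvd _).trans hdA) dvd_rfl)
  obtain ⟨a₀, ha₀, ha₀1⟩ := A.bot_or_exists_ne_one.resolve_left hAb
  obtain ⟨j, hj1, hjo⟩ := hprime a₀ ha₀ ha₀1
  obtain ⟨hCD, hDeq, -⟩ := hkey _ (pow_mem ha₀ j) hj1 hjo
  have hfix : ∀ a ∈ A, a ≠ 1 → ∀ d ∈ D, a * d = d * a → d = 1 := by
    intro a ha ha1 d hd hcomm
    obtain ⟨i, hi1, hio⟩ := hprime a ha ha1
    obtain ⟨-, -, hE⟩ := hkey _ (pow_mem ha i) hi1 hio
    have : d ∈ C := by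
      rw [hE]
      exact ⟨hG'P (hDG' hd), Subgroup.mem_centralizer_singleton_iff.mpr
        ((Commute.pow_left hcomm i).eq.symm)⟩
    exact Subgroup.mem_bot.mp (hCD ▸ ⟨this, hd⟩)
  have hDne : D ≠ ⊥ := fun h => hna ⟨⟨fun x y => commutatorElement_eq_one_iff_mul_comm.mp
    (Subgroup.mem_bot.mp ((hDeq.symm.trans h) ▸ hcm x y))⟩⟩
  have hCc : IsMulCommutative C := ⟨⟨fun ⟨x, hx⟩ ⟨y, hy⟩ => Subtype.ext (by
    show x * y = y * x
    refine commutatorElement_eq_one_iff_mul_comm.mp (Subgroup.mem_bot.mp (hCD ▸ ⟨?_, hDeq ▸ hcm x y⟩))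
    exact C.mul_mem (C.mul_mem (C.mul_mem hx hy) (C.inv_mem hx)) (C.inv_mem hy))⟩⟩
  have hAD : A ≤ normalizer (D : Set G) := by rw [hD]; exact normalizer_commutator_ge_left _ _
  have hcyc : IsCyclic A := IsFpfOn.isCyclic hAD (fun a ha ha1 => le_bot_iff.mp fun d hd =>
    Subgroup.mem_bot.mpr (hfix a ha ha1 d hd.1
      (Subgroup.mem_centralizer_singleton_iff.mp hd.2).symm)) hDne
  exact ⟨p, inferInstance, P, A, hPn, hcyc, hAb, hcop, htop, hCc, (hD ▸ hDeq).symm ▸ (inferInstance : (commutator G).Normal),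
    by rw [sup_comm]; exact hDC, hCD, hfix⟩

/-- Outside the normal Sylow subgroup the nonlinear characters vanish. -/
private theorem vanish_outside {p : ℕ} [Fact p.Prime] (P : Sylow p G) (A : Subgroup G)
    (hPn : (P : Subgroup G).Normal) (hA : IsCyclic A) (hcop : (Nat.card A).Coprime p)
    (htop : A ⊔ (P : Subgroup G) = ⊤)
    (hC : IsMulCommutative ↥((P : Subgroup G) ⊓ Subgroup.centralizer (A : Set G)))
    (hDn : (⁅A, (P : Subgroup G)⁆).Normal)
    (hCD : ((P : Subgroup G) ⊓ Subgroup.centralizer (A : Set G)) ⊔ ⁅A, (P : Subgroup G)⁆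
      = (P : Subgroup G))
    (hdis : ((P : Subgroup G) ⊓ Subgroup.centralizer (A : Set G)) ⊓ ⁅A, (P : Subgroup G)⁆ = ⊥)
    (hfix : ∀ a ∈ A, a ≠ 1 → ∀ d ∈ ⁅A, (P : Subgroup G)⁆, a * d = d * a → d = 1)
    {χ : IrrCharacter G} (hχ : ¬ (χ : G → ℂ) 1 = 1) {g : G} (hg : g ∉ (P : Subgroup G)) :
    (χ : G → ℂ) g = 0 := by
  classical
  have := Fintype.ofFinite G
  have := Fintype.ofFinite (IrrCharacter G)
  set C : Subgroup G := (P : Subgroup G) ⊓ Subgroup.centralizer (A : Set G) with hCdef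
  set D : Subgroup G := ⁅A, (P : Subgroup G)⁆ with hD
  have hcomA : ∀ x ∈ A, ∀ y ∈ A, x * y = y * x := fun x hx y hy => by
    obtain ⟨z, hz⟩ := hA.exists_generator
    obtain ⟨i, hi⟩ := Subgroup.mem_zpowers_iff.mp (hz ⟨x, hx⟩)
    obtain ⟨k, hk⟩ := Subgroup.mem_zpowers_iff.mp (hz ⟨y, hy⟩)
    exact congrArg Subtype.val (hi ▸ hk ▸ ((Commute.refl z).zpow_zpow i k).eq :
      (⟨x, hx⟩ : A) * ⟨y, hy⟩ = ⟨y, hy⟩ * ⟨x, hx⟩)
  have hG' : commutator G ≤ D := by
    set f := QuotientGroup.mk' D with hf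
    have hDf : D.map f = ⊥ := (Subgroup.map_eq_bot_iff _).mpr (QuotientGroup.ker_mk' D).ge
    have hgen : A.map f ⊔ C.map f = ⊤ := by
      rw [← Subgroup.map_top_of_surjective f (QuotientGroup.mk'_surjective D), ← htop, ← hCD,
        Subgroup.map_sup, Subgroup.map_sup, hDf, sup_bot_eq]
    have hcen : A.map f ⊔ C.map f ≤ Subgroup.center (G ⧸ D) := by
      have h : ∀ x ∈ A.map f ⊔ C.map f, ∀ y, (∀ z ∈ A.map f, z * y = y * z) →
          (∀ z ∈ C.map f, z * y = y * z) → x * y = y * x := by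
        intro x hx y hyA hyC
        have : A.map f ⊔ C.map f ≤ centralizer ({y} : Set (G ⧸ D)) := sup_le
          (fun z hz => Subgroup.mem_centralizer_singleton_iff.mpr (hyA z hz))
          (fun z hz => Subgroup.mem_centralizer_singleton_iff.mpr (hyC z hz))
        exact Subgroup.mem_centralizer_singleton_iff.mp (this hx)
      refine sup_le (fun y hy => Subgroup.mem_center_iff.mpr fun x => h x (hgen ▸ mem_top x) y ?_ ?_)
        (fun y hy => Subgroup.mem_center_iff.mpr fun x => h x (hgen ▸ mem_top x) y ?_ ?_)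
      all_goals rintro z ⟨u, hu, rfl⟩
      all_goals obtain ⟨v, hv', rfl⟩ := hy
      all_goals rw [← map_mul, ← map_mul]
      all_goals refine congrArg f ?_
      · exact hcomA u hu v hv'
      · exact (Subgroup.mem_centralizer_iff.mp hu.2 v hv').symm
      · exact Subgroup.mem_centralizer_iff.mp hv'.2 u hu
      · exact congrArg Subtype.val (hC.is_comm.comm (⟨u, hu⟩ : C) ⟨v, hv'⟩)
    rw [hgen] at hcen
    rw [_root_.commutator_def, Subgroup.commutator_le]
    intro x _ y _
    rw [← QuotientGroup.eq_one_iff (N := D)]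
    show f ⁅x, y⁆ = 1
    rw [map_commutatorElement, commutatorElement_eq_one_iff_mul_comm]
    exact (Subgroup.mem_center_iff.mp (hcen (mem_top (f x))) (f y)).symm
  have hdAP : Disjoint A (P : Subgroup G) := by
    obtain ⟨n, hn⟩ := IsPGroup.iff_card.1 P.isPGroup'
    exact disjoint_iff.mpr (disjoint_of_coprime_card (hn ▸ Nat.Coprime.pow_right n hcop))
  have hdCD : Disjoint C D := disjoint_iff.mpr hdis
  have hDP : D ≤ (P : Subgroup G) := hCD ▸ le_sup_right
  have hbig : Nat.card A * (Nat.card C * Nat.card D) ≤ Nat.card G := by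
    rw [← Nat.card_prod, ← Nat.card_prod]
    refine Nat.card_le_card_of_injective (fun z : A × C × D => (z.1 : G) * ((z.2.1 : G) * z.2.2))
      fun z w h => ?_
    have e : ((z.1 : G), (z.2.1 : G) * z.2.2) = ((w.1 : G), (w.2.1 : G) * w.2.2) := by
      have := Subgroup.mul_injective_of_disjoint hdAP
        (a₁ := (z.1, ⟨_, mul_mem z.2.1.2.1 (hDP z.2.2.2)⟩))
        (a₂ := (w.1, ⟨_, mul_mem w.2.1.2.1 (hDP w.2.2.2)⟩)) h
      exact congrArg (fun t : A × (P : Subgroup G) => ((t.1 : G), (t.2 : G))) this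
    exact Prod.ext (Subtype.ext (congrArg Prod.fst e))
      (Subgroup.mul_injective_of_disjoint hdCD (congrArg Prod.snd e))
  -- a conjugate in `A` of a `p'`-power of `g`
  obtain ⟨v, hv⟩ := IsPGroup.iff_card.1 P.isPGroup'
  have hmem : ∀ x : G, ∃ a ∈ A, ∃ u ∈ (P : Subgroup G), a * u = x := fun x => by
    have : x ∈ ((A ⊔ (P : Subgroup G) : Subgroup G) : Set G) := htop ▸ Set.mem_univ x
    rw [Subgroup.mul_normal] at this
    exact this
  set h := g ^ p ^ v with hh
  have hpow : g ^ (Nat.card A * p ^ v) = 1 := by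
    have : Nat.card G ∣ Nat.card A * p ^ v := by
      have h2 : Nat.card G ≤ Nat.card A * p ^ v := by
        rw [← hv, ← Nat.card_prod]
        exact Nat.card_le_card_of_surjective (fun z : A × (P : Subgroup G) => (z.1 : G) * z.2)
          fun x => by obtain ⟨a, ha, u, hu, e⟩ := hmem x; exact ⟨(⟨a, ha⟩, ⟨u, hu⟩), e⟩
      have h3 : Nat.card A * p ^ v ∣ Nat.card G :=
        Nat.Coprime.mul_dvd_of_dvd_of_dvd (Nat.Coprime.pow_right v hcop)
          (Subgroup.card_subgroup_dvd_card A) (hv ▸ Subgroup.card_subgroup_dvd_card _)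
      exact (le_antisymm h2 (Nat.le_of_dvd Nat.card_pos h3)) ▸ dvd_rfl
    exact orderOf_dvd_iff_pow_eq_one.mp ((orderOf_dvd_natCard g).trans this)
  have hhA : orderOf h ∣ Nat.card A := orderOf_dvd_of_pow_eq_one (by
    rw [hh, ← pow_mul, mul_comm, hpow])
  have hhP : h ∉ (P : Subgroup G) := by
    intro hm
    rw [hh, ← QuotientGroup.eq_one_iff (N := (P : Subgroup G)), QuotientGroup.mk_pow] at hm
    have h1 := orderOf_dvd_of_pow_eq_one hm
    have h2 : orderOf (QuotientGroup.mk g : G ⧸ (P : Subgroup G)) ∣ (P : Subgroup G).index := by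
      rw [Subgroup.index_eq_card]; exact orderOf_dvd_natCard _
    have := Nat.eq_one_of_dvd_coprimes (hv ▸ P.card_coprime_index) h1 h2
    exact hg ((QuotientGroup.eq_one_iff g).mp (orderOf_eq_one_iff.mp this))
  obtain ⟨a, ha, u, hu, hau⟩ := hmem h
  have ha1 : a ≠ 1 := fun e => hhP (by rw [← hau, e, one_mul]; exact hu)
  have hoh : orderOf h = orderOf a := by
    have e : (QuotientGroup.mk h : G ⧸ (P : Subgroup G)) = QuotientGroup.mk a := by
      rw [← hau, QuotientGroup.mk_mul, (QuotientGroup.eq_one_iff u).mpr hu, mul_one]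
    have key : ∀ x : G, orderOf x ∣ Nat.card A →
        orderOf (QuotientGroup.mk x : G ⧸ (P : Subgroup G)) = orderOf x := by
      intro x hx
      refine Nat.dvd_antisymm (orderOf_map_dvd (QuotientGroup.mk' (P : Subgroup G)) x) ?_
      set k := orderOf (QuotientGroup.mk x : G ⧸ (P : Subgroup G))
      have hm : x ^ k ∈ (P : Subgroup G) := by
        rw [← QuotientGroup.eq_one_iff, QuotientGroup.mk_pow, pow_orderOf_eq_one]
      have h2 : orderOf (x ^ k) ∣ p ^ v := by
        rw [← hv, ← Subgroup.orderOf_mk _ hm]; exact orderOf_dvd_natCard _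
      exact orderOf_dvd_of_pow_eq_one (orderOf_eq_one_iff.mp (Nat.eq_one_of_dvd_coprimes
        (Nat.Coprime.pow_right v hcop) ((orderOf_pow_dvd k).trans hx) h2))
    rw [← key h hhA, e, key a]
    rw [← Subgroup.orderOf_mk a ha]; exact orderOf_dvd_natCard _
  obtain ⟨x, -, hx⟩ := sz_conj_in (A := zpowers a) (B := zpowers h) (N := (P : Subgroup G))
    (le_top.trans_eq (Subgroup.normalizer_eq_top_iff.mpr hPn).symm)
    (by
      rw [Nat.card_zpowers, hv]
      exact (Nat.Coprime.pow_right v (hcop.coprime_dvd_left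
        (by rw [← Subgroup.orderOf_mk a ha]; exact orderOf_dvd_natCard _))).symm)
    ((Subgroup.zpowers_le).mpr (hau ▸ mul_mem (Subgroup.mem_sup_left (mem_zpowers a))
      (Subgroup.mem_sup_right hu)))
    (by rw [Nat.card_zpowers, Nat.card_zpowers, hoh])
    (Or.inl (isSolvable_of_isMulCommutative inferInstance))
  have ha' : x * h * x⁻¹ ∈ A := (Subgroup.zpowers_le.mpr ha)
    (hx ▸ conj_mem_conjBy (mem_zpowers h))
  have ha'1 : x * h * x⁻¹ ≠ 1 := fun e => hhP (by
    rw [show h = x⁻¹ * (x * h * x⁻¹) * x by group, e]; simp)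
  -- the centraliser bound
  have hcen : Nat.card (centralizer ({g} : Set G)) ≤ Nat.card A * Nat.card C := by
    have hle : Nat.card (centralizer ({g} : Set G))
        ≤ Nat.card (centralizer ({x * h * x⁻¹} : Set G)) :=
      Nat.card_le_card_of_injective
        (fun z : centralizer ({g} : Set G) => (⟨x * z * x⁻¹, Subgroup.mem_centralizer_singleton_iff.mpr (by
          have hz : Commute (z : G) h :=
            Commute.pow_right (Subgroup.mem_centralizer_singleton_iff.mp z.2) _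
          calc x * z * x⁻¹ * (x * h * x⁻¹) = x * (z * h) * x⁻¹ := by group
            _ = x * (h * z) * x⁻¹ := by rw [hz.eq]
            _ = x * h * x⁻¹ * (x * z * x⁻¹) := by group)⟩ :
          centralizer ({x * h * x⁻¹} : Set G)))
        fun z w e => Subtype.ext (mul_left_cancel (mul_right_cancel (congrArg Subtype.val e)))
    refine hle.trans ?_
    rw [← Nat.card_prod]
    have hkey : ∀ z ∈ centralizer ({x * h * x⁻¹} : Set G), ∃ b : A × C, (b.1 : G) * b.2 = z := by
      intro z hz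
      obtain ⟨b, hb, w, hw, rfl⟩ := hmem z
      obtain ⟨d, hd, c, hc, rfl⟩ := CfsgLib.Coprime.mem_sup_exists
        (le_top.trans_eq (Subgroup.normalizer_eq_top_iff.mpr hDn).symm)
        (show w ∈ D ⊔ C by rw [sup_comm, hCD]; exact hw)
      set α := x * h * x⁻¹
      have hcb : Commute b α := hcomA b hb α ha'
      have hcc : Commute c α := (Subgroup.mem_centralizer_iff.mp hc.2 α ha').symm
      have hz' : Commute (b * (d * c)) α := Subgroup.mem_centralizer_singleton_iff.mp hz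
      have hdc : Commute d α := by
        have := (hcb.inv_left.mul_left hz').mul_left hcc.inv_left
        rwa [show b⁻¹ * (b * (d * c)) * c⁻¹ = d by group] at this
      obtain rfl := hfix α ha' ha'1 d hd hdc.symm.eq
      exact ⟨(⟨b, hb⟩, ⟨c, hc⟩), by simp⟩
    refine Nat.card_le_card_of_injective
      (fun z : centralizer ({x * h * x⁻¹} : Set G) => (hkey z z.2).choose) fun z w e => Subtype.ext ?_
    rw [← (hkey z z.2).choose_spec, ← (hkey w w.2).choose_spec]
    simp only at e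
    rw [e]
  have hidx : Nat.card (centralizer ({g} : Set G)) ≤ (commutator G).index := by
    refine Nat.le_of_mul_le_mul_right ?_ (Nat.card_pos (α := D))
    calc _ ≤ Nat.card A * Nat.card C * Nat.card D := Nat.mul_le_mul_right _ hcen
      _ ≤ Nat.card G := by rw [mul_assoc]; exact hbig
      _ = (commutator G).index * Nat.card (commutator G) := (Subgroup.index_mul_card _).symm
      _ ≤ _ := Nat.mul_le_mul_left _ (Subgroup.card_le_of_le hG')
  have hs := sum_nonlinear (G := G) g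
  have hs0 : ∑ χ ∈ Finset.univ.filter (fun χ : IrrCharacter G => ¬ (χ : G → ℂ) 1 = 1),
      Complex.normSq ((χ : G → ℂ) g) = 0 := by
    refine le_antisymm ?_ (Finset.sum_nonneg fun χ _ => Complex.normSq_nonneg _)
    have : (Nat.card (centralizer ({g} : Set G)) : ℝ) ≤ ((commutator G).index : ℝ) := by
      exact_mod_cast hidx
    linarith
  exact Complex.normSq_eq_zero.mp ((Finset.sum_eq_zero_iff_of_nonneg
    (fun χ _ => Complex.normSq_nonneg _)).mp hs0 χ (Finset.mem_filter.mpr ⟨Finset.mem_univ _, hχ⟩))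

end

open CfsgLib.Char Subgroup

/-- For a finite group G the following are equivalent. (1) χ(x y) = χ(x) χ(y) for every irreducible character χ and all non-identity elements x, y of prime power orders for two different primes. (2) G is a p-group for some prime p, or G is abelian, or for some prime p: G = A P with P a normal Sylow p-subgroup and A a nontrivial cyclic subgroup of order prime to p such that, with C = C_P(A) and D = [A, P], one has P = C D, C abelian, D normal in G, C ∩ D = 1, and A acts fixed-point-freely on D (no non-identity element of A centralizes a non-identity element of D). -/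
theorem result {G : Type*} [Group G] [Finite G] : (∀ (x y : G) (χ : Cfsg.IrrCharacter G), x ≠ 1 → y ≠ 1 → (∃ p q a b : ℕ, p.Prime ∧ q.Prime ∧ p ≠ q ∧ orderOf x = p ^ a ∧ orderOf y = q ^ b) → (χ : G → ℂ) (x * y) = (χ : G → ℂ) x * (χ : G → ℂ) y) ↔ ((∃ p : ℕ, p.Prime ∧ IsPGroup p G) ∨ IsMulCommutative G ∨ ∃ (p : ℕ) (_ : Fact p.Prime) (P : Sylow p G) (A : Subgroup G), (P : Subgroup G).Normal ∧ IsCyclic ↥A ∧ A ≠ ⊥ ∧ (Nat.card ↥A).Coprime p ∧ A ⊔ (P : Subgroup G) = ⊤ ∧ IsMulCommutative ↥((P : Subgroup G) ⊓ Subgroup.centralizer (A : Set G)) ∧ (⁅A, (P : Subgroup G)⁆).Normal ∧ ((P : Subgroup G) ⊓ Subgroup.centralizer (A : Set G)) ⊔ ⁅A, (P : Subgroup G)⁆ = (P : Subgroup G) ∧ ((P : Subgroup G) ⊓ Subgroup.centralizer (A : Set G)) ⊓ ⁅A, (P : Subgroup G)⁆ = ⊥ ∧ ∀ a ∈ A, a ≠ 1 → ∀ d ∈ ⁅A, (P : Subgroup G)⁆, a * d = d * a → d = 1) := by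
  constructor
  · intro hyp
    by_cases hnp : ∃ p : ℕ, p.Prime ∧ IsPGroup p G
    · exact Or.inl hnp
    by_cases hna : IsMulCommutative G
    · exact Or.inr (Or.inl hna)
    exact Or.inr (Or.inr (structure_of hyp hnp hna))
  · intro hs x y χ hx hy hxy
    obtain ⟨q, r, a, b, hq, hr, hqr, hox, hoy⟩ := hxy
    have hprime : ∀ (p : ℕ) [Fact p.Prime] (H : Subgroup G), IsPGroup p H → ∀ (z : G) (s c : ℕ),
        z ∈ H → z ≠ 1 → s.Prime → orderOf z = s ^ c → s = p := by
      intro p _ H hH z s c hz hz1 hsp ho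
      obtain ⟨k, hk⟩ := (IsPGroup.iff_orderOf (p := p)).1 hH ⟨z, hz⟩
      have e : s ^ c = p ^ k := ho.symm.trans ((Subgroup.orderOf_coe ⟨z, hz⟩).trans hk)
      have hc0 : c ≠ 0 := fun h => hz1 (orderOf_eq_one_iff.mp (by rw [ho, h, pow_zero]))
      exact (Nat.prime_dvd_prime_iff_eq hsp Fact.out).mp
        (hsp.dvd_of_dvd_pow (e ▸ dvd_pow_self s hc0))
    rcases hs with ⟨p, hp, hP⟩ | hab | ⟨p, hp, P, A, hPn, hA, -, hcop, htop, hC, hDn, hCD, hdis, hfix⟩
    · have := Fact.mk hp
      have hT : IsPGroup p (⊤ : Subgroup G) := hP.to_subgroup ⊤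
      exact absurd ((hprime p ⊤ hT x q a (mem_top x) hx hq hox).trans
        (hprime p ⊤ hT y r b (mem_top y) hy hr hoy).symm) hqr
    · exact mul_of_linear (degree_one_of_comm (fun s t => hab.is_comm.comm s t) χ) x y
    by_cases hlin : (χ : G → ℂ) 1 = 1
    · exact mul_of_linear hlin x y
    have hvan : ∀ g : G, g ∉ (P : Subgroup G) → (χ : G → ℂ) g = 0 := fun g hg =>
      vanish_outside P A hPn hA hcop htop hC hDn hCD hdis hfix hlin hg
    by_cases hxP : x ∈ (P : Subgroup G)
    · have hyP : y ∉ (P : Subgroup G) := fun h => hqr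
        ((hprime p _ P.isPGroup' x q a hxP hx hq hox).trans (hprime p _ P.isPGroup' y r b h hy hr hoy).symm)
      rw [hvan y hyP, mul_zero, hvan _ (fun h => hyP ((mul_mem_cancel_left hxP).mp h))]
    · rw [hvan x hxP, zero_mul]
      by_cases hyP : y ∈ (P : Subgroup G)
      · exact hvan _ (fun h => hxP ((mul_mem_cancel_right hyP).mp h))
      refine hvan _ fun h => hxP ?_
      rw [← QuotientGroup.eq_one_iff (N := (P : Subgroup G))] at h ⊢
      rw [QuotientGroup.mk_mul] at h
      have h1 : orderOf (QuotientGroup.mk x : G ⧸ (P : Subgroup G)) ∣ q ^ a :=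
        hox ▸ orderOf_map_dvd (QuotientGroup.mk' (P : Subgroup G)) x
      have h2 : orderOf (QuotientGroup.mk x : G ⧸ (P : Subgroup G)) ∣ r ^ b := by
        rw [eq_inv_of_mul_eq_one_left h, orderOf_inv]
        exact hoy ▸ orderOf_map_dvd (QuotientGroup.mk' (P : Subgroup G)) y
      exact orderOf_eq_one_iff.mp
        (Nat.eq_one_of_dvd_coprimes (Nat.coprime_pow_primes a b hq hr hqr) h1 h2)

end Cfsg.Agent.S4756
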