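import Cfsg.Statements.S4757
import Mathlib
import Cfsg.Agent.Lib.Char.SelfCentPrime
import Cfsg.Agent.Lib.Char.Linear

set_option autoImplicit false
open Cfsg

namespace Cfsg.Agent.S4757

/-- Let u ≠ 1 be an element of the finite group G and c a complex number such that every non-principal irreducible character χ satisfies χ(1) − χ(u) = c or χ(u) = 0. Then the following are equivalent: (a) u has order 2, G is generated by u together with O(G), the largest normal subgroup of G of odd order, and the centralizer of u is {1, u}; (b) G is not perfect; (c) c = 2. -/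
theorem result {G : Type*} [Group G] [Finite G] (u : G) (hu : u ≠ 1) (c : ℂ) (hyp : ∀ χ : Cfsg.IrrCharacter G, (χ : G → ℂ) ≠ (fun _ => (1 : ℂ)) → ((χ : G → ℂ) 1 - (χ : G → ℂ) u = c ∨ (χ : G → ℂ) u = 0)) : ((orderOf u = 2 ∧ Subgroup.zpowers u ⊔ Cfsg.oddCore G = ⊤ ∧ Subgroup.centralizer ({u} : Set G) = Subgroup.zpowers u) ↔ commutator G ≠ ⊤) ∧ (commutator G ≠ ⊤ ↔ c = 2) := by
  classical
  haveI := Fintype.ofFinite G
  haveI := Fintype.ofFinite (Cfsg.IrrCharacter G)
  haveI : Fact (Nat.Prime 2) := ⟨Nat.prime_two⟩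
  let one : Cfsg.IrrCharacter G := ⟨fun _ => (1 : ℂ), CfsgLib.Char.isIrrCharacter_one⟩
  let S := Finset.univ.filter fun χ : Cfsg.IrrCharacter G => χ ≠ one ∧ (χ : G → ℂ) u ≠ 0
  have hS : ∀ χ ∈ S, (χ : G → ℂ) u = (χ : G → ℂ) 1 - c := fun χ hχ => by
    obtain ⟨hne, h0⟩ := (Finset.mem_filter.mp hχ).2
    rcases hyp χ (fun e => hne (Subtype.ext e)) with h | h
    · rw [← h]; ring
    · exact absurd h h0
  have hnmem : ∀ χ : Cfsg.IrrCharacter G, χ ≠ one → χ ∉ S → (χ : G → ℂ) u = 0 := fun χ hne hχ => by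
    by_contra h0
    exact hχ (Finset.mem_filter.mpr ⟨Finset.mem_univ _, hne, h0⟩)
  have hdeg : ∀ χ : Cfsg.IrrCharacter G, ∃ d : ℕ, 0 < d ∧ (χ : G → ℂ) 1 = d := fun χ =>
    (CfsgLib.Char.isIrrCharacter_degree χ.2)
  choose d hd0 hd using hdeg
  have hsplit : ∀ f : Cfsg.IrrCharacter G → ℂ, (∀ χ, χ ≠ one → χ ∉ S → f χ = 0) →
      ∑ χ, f χ = f one + ∑ χ ∈ S, f χ := fun f hf => by
    rw [← Finset.add_sum_erase _ _ (Finset.mem_univ one)]
    congr 1
    refine (Finset.sum_subset (fun χ hχ => Finset.mem_erase.mpr ⟨(Finset.mem_filter.mp hχ).2.1, Finset.mem_univ _⟩)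
      fun χ hχ hχS => hf χ (Finset.ne_of_mem_erase hχ) hχS).symm
  have horth : (1 : ℂ) + ∑ χ ∈ S, (d χ : ℂ) * ((d χ : ℂ) - c) = 0 := by
    have h := CfsgLib.Char.sum_irr_mul_conj u (1 : G)
    rw [if_neg (fun e => hu (isConj_one_left.mp e)),
      hsplit _ fun χ hne hχ => by rw [hnmem χ hne hχ, zero_mul]] at h
    rw [← h]
    refine congrArg₂ (· + ·) (by simp [one]) (Finset.sum_congr rfl fun χ hχ => ?_)
    rw [hS χ hχ, hd, map_natCast, mul_comm]
  have hcentcard : (1 : ℂ) + ∑ χ ∈ S, ((d χ : ℂ) - c) * (starRingEnd ℂ) ((d χ : ℂ) - c) =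
      (Nat.card (Subgroup.centralizer ({u} : Set G)) : ℂ) := by
    have h := CfsgLib.Char.sum_irr_mul_conj u u
    rw [if_pos (IsConj.refl _), hsplit _ fun χ hne hχ => by rw [hnmem χ hne hχ, zero_mul]] at h
    rw [← h]
    refine congrArg₂ (· + ·) (by simp [one]) (Finset.sum_congr rfl fun χ hχ => ?_)
    rw [hS χ hχ, hd]
  have hone_eq : (CfsgLib.Char.linearCharEquiv (1 : G →* ℂˣ)).1 = one :=
    Subtype.ext (funext fun g => (Units.val_one : ((1 : ℂˣ) : ℂ) = 1))
  have hC2 : c = 2 → commutator G ≠ ⊤ ∧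
      (orderOf u = 2 ∧ Subgroup.centralizer ({u} : Set G) = Subgroup.zpowers u) := by
    intro hc
    subst hc
    have hint : (1 : ℤ) + ∑ χ ∈ S, (d χ : ℤ) * ((d χ : ℤ) - 2) = 0 := by
      refine Int.cast_injective (α := ℂ) ?_
      push_cast
      exact horth
    have hterm : ∀ χ ∈ S, (if d χ = 1 then (-1 : ℤ) else 0) ≤ (d χ : ℤ) * ((d χ : ℤ) - 2) := fun χ _ => by
      split_ifs with h1
      · rw [h1]; norm_num
      · have : (2 : ℤ) ≤ d χ := by have := hd0 χ; omega
        nlinarith
    obtain ⟨l, hlS, hl1⟩ : ∃ l ∈ S, d l = 1 := by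
      by_contra hne
      push Not at hne
      have := Finset.sum_le_sum hterm
      rw [Finset.sum_eq_zero fun χ hχ => if_neg (hne χ hχ)] at this
      omega
    refine ⟨fun htop => ?_, ?_⟩
    · obtain ⟨f, hf⟩ := CfsgLib.Char.linearCharEquiv.surjective
        ⟨l, by rw [hd, hl1, Nat.cast_one]⟩
      have hfu : (l : G → ℂ) u = 1 := by
        have h1 : f u = 1 := (MonoidHom.mem_ker).mp
          (Abelianization.commutator_subset_ker f (htop ▸ Subgroup.mem_top u))
        rw [← congrArg (fun w => (w.1 : G → ℂ) u) hf]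
        show ((f u : ℂˣ) : ℂ) = 1
        rw [h1, Units.val_one]
      rw [hS l hlS, hd, hl1] at hfu
      norm_num at hfu
    · -- the centraliser has order two
      have hone : ∀ χ ∈ S, χ ≠ l → d χ = 2 := by
        intro χ hχ hne
        by_contra h2
        have hrest : ∑ χ ∈ S, (d χ : ℤ) * ((d χ : ℤ) - 2) ≤ -1 + 0 := by linarith
        have h1 : ∑ ψ ∈ S.erase l, (d ψ : ℤ) * ((d ψ : ℤ) - 2) = 0 := by
          have := Finset.add_sum_erase S (fun ψ => (d ψ : ℤ) * ((d ψ : ℤ) - 2)) hlS
          simp only [hl1] at this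
          norm_num at this
          linarith
        by_cases hall : ∀ ψ ∈ S.erase l, d ψ ≠ 1
        · have hnn : ∀ ψ ∈ S.erase l, 0 ≤ (d ψ : ℤ) * ((d ψ : ℤ) - 2) := fun ψ hψ => by
            have := hterm ψ (Finset.mem_of_mem_erase hψ)
            rwa [if_neg (hall ψ hψ)] at this
          have := (Finset.sum_eq_zero_iff_of_nonneg hnn).mp h1 χ (Finset.mem_erase.mpr ⟨hne, hχ⟩)
          rcases mul_eq_zero.mp this with e | e
          · have := hd0 χ; omega
          · omega
        · push Not at hall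
          obtain ⟨l', hl'S, hl'1⟩ := hall
          -- two nontrivial linear characters multiply to another
          obtain ⟨f, hf⟩ := CfsgLib.Char.linearCharEquiv.surjective ⟨l, by rw [hd, hl1, Nat.cast_one]⟩
          obtain ⟨f', hf'⟩ := CfsgLib.Char.linearCharEquiv.surjective ⟨l', by rw [hd, hl'1, Nat.cast_one]⟩
          have hval' : ∀ (F : G →* ℂˣ) (L : Cfsg.IrrCharacter G), L ∈ S → d L = 1 →
              (CfsgLib.Char.linearCharEquiv F).1 = L → ((F u : ℂˣ) : ℂ) = -1 := by
            intro F L hL hL1 e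
            have h5 := hS L hL
            rw [hd, hL1, ← e] at h5
            refine (h5 : ((F u : ℂˣ) : ℂ) = _).trans ?_
            norm_num
          have hf1 := hval' f l hlS hl1 (congrArg Subtype.val hf)
          have hf'1 := hval' f' l' (Finset.mem_of_mem_erase hl'S) hl'1 (congrArg Subtype.val hf')
          have hprod : ∀ F F' : G →* ℂˣ, ((F u : ℂˣ) : ℂ) = -1 → ((F' u : ℂˣ) : ℂ) = -1 → F * F' = 1 := by
            intro F F' h1 h2
            by_contra hne
            have hu1 : (((F * F') u : ℂˣ) : ℂ) = 1 := by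
              rw [MonoidHom.mul_apply, Units.val_mul, h1, h2]; norm_num
            have hnone : (CfsgLib.Char.linearCharEquiv (F * F')).1 ≠ one := fun e => hne
              (CfsgLib.Char.linearCharEquiv.injective (Subtype.ext (e.trans hone_eq.symm)))
            have h5 := hS _ (Finset.mem_filter.mpr ⟨Finset.mem_univ _, hnone, Units.ne_zero ((F * F') u)⟩)
            rw [(CfsgLib.Char.linearCharEquiv (F * F')).2] at h5
            exact absurd (hu1.symm.trans (h5 : (((F * F') u : ℂˣ) : ℂ) = _)) (by norm_num)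
          have hff : f' = f := mul_left_cancel ((hprod f f' hf1 hf'1).trans (hprod f f hf1 hf1).symm)
          exact Finset.ne_of_mem_erase hl'S
            ((congrArg Subtype.val hf').symm.trans (hff ▸ congrArg Subtype.val hf))
      have hSl : S = {l} := by
        refine Finset.eq_singleton_iff_unique_mem.mpr ⟨hlS, fun χ hχ => ?_⟩
        by_contra hne
        have h2 := hS χ hχ
        rw [hd, hone χ hχ hne] at h2
        exact (Finset.mem_filter.mp hχ).2.2 (h2.trans (by norm_num))
      have hcard : Nat.card (Subgroup.centralizer ({u} : Set G)) = 2 := by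
        rw [hSl, Finset.sum_singleton, hl1, map_sub, map_natCast, map_ofNat] at hcentcard
        norm_num at hcentcard
        rw [Nat.card_eq_fintype_card]
        exact_mod_cast hcentcard.symm
      have hle : Subgroup.zpowers u ≤ Subgroup.centralizer ({u} : Set G) :=
        Subgroup.zpowers_le.mpr (Subgroup.mem_centralizer_singleton_iff.mpr rfl)
      have ho : orderOf u = 2 := by
        have hdv : orderOf u ∣ 2 := hcard ▸ Nat.card_zpowers u ▸ Subgroup.card_dvd_of_le hle
        exact ((Nat.dvd_prime Nat.prime_two).mp hdv).resolve_left fun e => hu (orderOf_eq_one_iff.mp e)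
      exact ⟨ho, (Subgroup.eq_of_le_of_card_ge hle (by rw [hcard, Nat.card_zpowers, ho])).symm⟩
  have hback : commutator G ≠ ⊤ → c = 2 := by
    intro htop
    haveI : Finite (G →* ℂˣ) := Finite.of_equiv _ (CfsgLib.Char.linearCharEquiv (G := G)).symm
    have hcard : 1 < Nat.card (G →* ℂˣ) := by
      rw [Nat.card_congr CfsgLib.Char.linearCharEquiv, CfsgLib.Char.card_linear]
      exact Nat.one_lt_iff_ne_zero_and_ne_one.mpr
        ⟨Subgroup.index_ne_zero_of_finite, fun e => htop (Subgroup.index_eq_one.mp e)⟩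
    haveI := Finite.one_lt_card_iff_nontrivial.mp hcard
    obtain ⟨f, hf⟩ := exists_ne (1 : G →* ℂˣ)
    -- all nontrivial linear characters take the value `1 - c` at `u`
    have hval : ∀ F : G →* ℂˣ, F ≠ 1 → ((F u : ℂˣ) : ℂ) = 1 - c := by
      intro F hF
      have hne : (CfsgLib.Char.linearCharEquiv F).1 ≠ one := fun e => hF
        (CfsgLib.Char.linearCharEquiv.injective (Subtype.ext (e.trans hone_eq.symm)))
      have := hS _ (Finset.mem_filter.mpr ⟨Finset.mem_univ _, hne, Units.ne_zero (F u)⟩)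
      rwa [(CfsgLib.Char.linearCharEquiv F).2] at this
    have hv := hval f hf
    have hfinv : f⁻¹ ≠ 1 := fun e => hf (MonoidHom.ext fun g => inv_eq_one.mp (DFunLike.congr_fun e g))
    have hv' := hval f⁻¹ hfinv
    have hsq : ((f u : ℂˣ) : ℂ) * ((f u : ℂˣ) : ℂ) = 1 := by
      nth_rw 2 [hv]; rw [← hv', ← Units.val_mul]; simp
    rcases mul_self_eq_one_iff.mp hsq with e | e
    · exfalso
      have hc0 : c = 0 := by rw [e] at hv; linear_combination hv
      rw [hc0] at horth
      simp only [sub_zero] at horth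
      have : (1 : ℕ) + ∑ χ ∈ S, d χ * d χ = 0 := by exact_mod_cast horth
      omega
    · rw [e] at hv; linear_combination hv
  have hfin : orderOf u = 2 → Subgroup.centralizer ({u} : Set G) = Subgroup.zpowers u →
      commutator G ≠ ⊤ ∧ Subgroup.zpowers u ⊔ Cfsg.oddCore G = ⊤ := by
    intro ho hC
    have h : CfsgLib.Char.SelfCentPrime.Hyp 2 u := ⟨Nat.prime_two, ho, hC⟩
    have hN : Subgroup.normalizer (Subgroup.zpowers u : Set G) = Subgroup.zpowers u := by
      refine le_antisymm (fun n hn => h.mem_P_of_comm ?_) Subgroup.le_normalizer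
      have h1 := (Subgroup.mem_normalizer_iff.mp hn u).mp (Subgroup.mem_zpowers u)
      have h2 : n * u * n⁻¹ ≠ 1 := fun e => hu (conj_eq_one_iff.mp e)
      obtain ⟨k, hk⟩ := (isOfFinOrder_of_finite u).mem_powers_iff_mem_zpowers.mpr h1
      simp only at hk
      rw [← pow_mod_orderOf, ho] at hk
      have h3 : n * u * n⁻¹ = u := by
        rcases Nat.mod_two_eq_zero_or_one k with e | e <;> rw [e] at hk
        · exact absurd (by rw [← hk, pow_zero]) h2
        · rw [← hk, pow_one]
      calc n * u = n * u * n⁻¹ * n := by group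
        _ = u * n := by rw [h3]
    obtain ⟨h1, h2, -⟩ := h.case_trivial hN
    refine ⟨fun e => by rw [e, Subgroup.index_top] at h2; omega, ?_⟩
    show Subgroup.zpowers u ⊔ Cfsg.pPrimeCore 2 G = ⊤
    rw [← h1]
    refine Subgroup.index_eq_one.mp ?_
    have hd2 : (Subgroup.zpowers u ⊔ commutator G).index ∣ 2 := h2 ▸ Subgroup.index_dvd_of_le le_sup_right
    refine ((Nat.dvd_prime Nat.prime_two).mp hd2).resolve_right fun e => ?_
    have heq : Subgroup.zpowers u ⊔ commutator G = commutator G :=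
      (Subgroup.eq_of_le_of_card_ge le_sup_right (le_of_eq (Nat.eq_of_mul_eq_mul_right (m := 2) two_pos (by
        rw [← e, Subgroup.card_mul_index, e]
        conv_rhs => rw [← h2]
        rw [Subgroup.card_mul_index])))).symm
    exact h.not_mem_core (h1 ▸ heq ▸ Subgroup.mem_sup_left (Subgroup.mem_zpowers u))
  exact ⟨⟨fun ⟨ho, _, hC⟩ => (hfin ho hC).1, fun h => by
      obtain ⟨-, ho, hC⟩ := hC2 (hback h)
      exact ⟨ho, (hfin ho hC).2, hC⟩⟩, hback, fun h => (hC2 h).1⟩

end Cfsg.Agent.S4757
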