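import Cfsg.Statements.S4759
import Cfsg.Agent.Lib.PGroup.OddExtend.Main
import Cfsg.Agent.Lib.Char.Extraspecial
import Cfsg.Agent.Lib.Char.ExtendCriteria
import Cfsg.Agent.Lib.Char.Integrality
import Cfsg.Agent.Lib.Coprime.PGroupFrattini

set_option autoImplicit false
open Cfsg
set_option maxHeartbeats 1000000

namespace Cfsg.Agent.S4759

/-- Let G be a finite group that is the semidirect product of a normal extraspecial 2-subgroup E and a complement H acting faithfully on E (no non-identity element of H centralizes E), and suppose H has a normal subgroup K of odd order with [E, K] = E. Then every faithful irreducible character θ of E (there is exactly one) extends to G: some irreducible character of G restricts to θ on E. -/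
theorem result {G : Type*} [Group G] [Finite G] (E H : Subgroup G) [E.Normal] (hE : Cfsg.IsExtraspecial 2 ↥E) (hEH : E ⊓ H = ⊥) (hEHtop : E ⊔ H = ⊤) (hfaith : ∀ h ∈ H, (∀ e ∈ E, h * e = e * h) → h = 1) (K : Subgroup G) (hKH : K ≤ H) (hKn : ∀ h ∈ H, ∀ k ∈ K, h * k * h⁻¹ ∈ K) (hKodd : Odd (Nat.card ↥K)) (hEK : ⁅E, K⁆ = E) (θ : Cfsg.IrrCharacter ↥E) (hθ : ∀ e : ↥E, (θ : ↥E → ℂ) e = (θ : ↥E → ℂ) 1 → e = 1) : ∃ χ : Cfsg.IrrCharacter G, ∀ e : ↥E, (χ : G → ℂ) e = (θ : ↥E → ℂ) e := by
  classical
  haveI : Fact (Nat.Prime 2) := ⟨Nat.prime_two⟩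
  let _ : Fintype E := Fintype.ofFinite E
  obtain ⟨θ, d, ρ, hρ, rfl⟩ := θ
  change ∀ e : E, ρ.character e = ρ.character 1 → e = 1 at hθ
  -- the centre
  have hp : IsPGroup 2 E := hE.1.1
  haveI : Nontrivial (Subgroup.center E) := Finite.one_lt_card_iff_nontrivial.1 (by rw [hE.2]; norm_num)
  obtain ⟨⟨z, hzc⟩, hzne⟩ := exists_ne (1 : Subgroup.center E)
  have hz1 : z ≠ 1 := fun e => hzne (Subtype.ext e)
  have hcen : ∀ c ∈ Subgroup.center E, c = 1 ∨ c = z := by
    intro c hc
    by_contra hcon
    push Not at hcon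
    have h2 : Nat.card (Subgroup.center E) = 2 := hE.2
    obtain ⟨y, -, huniq⟩ := (Nat.card_eq_two_iff' (1 : Subgroup.center E)).1 h2
    have e1 := huniq ⟨c, hc⟩ (fun e => hcon.1 (congrArg Subtype.val e))
    have e2 := huniq ⟨z, hzc⟩ hzne
    exact hcon.2 (congrArg Subtype.val (e1.trans e2.symm))
  let act : H →* MulAut E := (MulAut.conjNormal : G →* MulAut E).comp H.subtype
  have hactc : ∀ (f : MulAut E) (c : E), c ∈ Subgroup.center E → f c ∈ Subgroup.center E := by
    intro f c hc
    refine Subgroup.mem_center_iff.2 fun a => ?_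
    obtain ⟨b, rfl⟩ := f.surjective a
    rw [← map_mul, ← map_mul, Subgroup.mem_center_iff.1 hc b]
  have hfixz : ∀ f : MulAut E, f z = z := fun f => (hcen _ (hactc f z hzc)).resolve_left
    fun e => hz1 (by rw [← map_one f] at e; exact f.injective e)
  have hzz : z * z = 1 := by
    rcases hcen _ ((Subgroup.center E).mul_mem hzc hzc) with h | h
    · exact h
    · exact absurd (mul_eq_left.1 h) hz1
  have C : CfsgLib.OddExtend.Ctx act z :=
    { zsq := hzz
      zcomm := fun a => (Subgroup.mem_center_iff.1 hzc a).symm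
      zfix := fun h => hfixz _
      comm := fun a b => by
        have h : a * b * a⁻¹ * b⁻¹ ∈ Subgroup.center E := by
          rw [← hE.1.2.2]
          exact Subgroup.commutator_mem_commutator (Subgroup.mem_top a) (Subgroup.mem_top b)
        rcases hcen _ h with e | e
        · left; rw [mul_inv_eq_one, mul_inv_eq_iff_eq_mul] at e; exact e
        · right; rw [mul_inv_eq_iff_eq_mul, mul_inv_eq_iff_eq_mul] at e; rw [e, mul_assoc]
      sq := fun a => by
        have h := CfsgLib.Coprime.pow_mem_frattini hp a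
        rw [hE.1.2.1, pow_two] at h
        exact hcen _ h }
  -- the system
  obtain ⟨P, hEP⟩ := hp.exists_le_sylow
  let T : Subgroup H := (P : Subgroup G).subgroupOf H
  let K' : Subgroup H := K.subgroupOf H
  let ε : E → ℂ := fun a => if a = 1 then 1 else -1
  let f : MonoidAlgebra ℂ E := (1 / 2 : ℂ) • (1 - CfsgLib.OddExtend.o z)
  have hoz : CfsgLib.OddExtend.o z * CfsgLib.OddExtend.o z = 1 := by
    rw [← CfsgLib.OddExtend.o_mul, hzz, CfsgLib.OddExtend.o_one]
  have hozc : ∀ b : E, CfsgLib.OddExtend.o b * CfsgLib.OddExtend.o z =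
      CfsgLib.OddExtend.o z * CfsgLib.OddExtend.o b := fun b => by
    rw [← CfsgLib.OddExtend.o_mul, ← CfsgLib.OddExtend.o_mul, C.zcomm b]
  have S : CfsgLib.OddExtend.Sys act z T K' ⊤ (Subgroup.center E) ε f :=
    { ctx := C
      two := P.2.comap_subtype
      odd := by rw [Nat.card_congr (Subgroup.subgroupOfEquivOfLe hKH).toEquiv]; exact hKodd
      norm := fun t _ k hk => hKn (t : G) t.2 (k : G) hk
      idem := by
        have : (1 - CfsgLib.OddExtend.o z) * (1 - CfsgLib.OddExtend.o z) =
            (2 : ℂ) • (1 - CfsgLib.OddExtend.o z) := by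
          rw [mul_sub, sub_mul, sub_mul, hoz, mul_one, one_mul, mul_one, two_smul]
          abel
        show ((1 / 2 : ℂ) • (1 - CfsgLib.OddExtend.o z)) * _ = _
        rw [smul_mul_smul_comm, this, smul_smul]
        norm_num [f]
      ne := by
        intro h
        rw [smul_eq_zero, sub_eq_zero, ← CfsgLib.OddExtend.o_one] at h
        exact hz1 ((MonoidAlgebra.of_injective (h.resolve_left (by norm_num))).symm)
      comm := fun b _ => by
        show CfsgLib.OddExtend.o b * ((1 / 2 : ℂ) • _) = ((1 / 2 : ℂ) • _) * CfsgLib.OddExtend.o b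
        rw [mul_smul_comm, smul_mul_assoc, mul_sub, sub_mul, hozc, mul_one, one_mul]
      zmem := hzc
      le := le_top
      eps := fun a ha => by
        rcases hcen a ha with rfl | rfl
        · simp [ε, CfsgLib.OddExtend.o_one]
        · show CfsgLib.OddExtend.o a * ((1 / 2 : ℂ) • _) = ε a • ((1 / 2 : ℂ) • _)
          simp only [ε, if_neg hz1, mul_smul_comm, mul_sub, mul_one, hoz, neg_one_smul, ← smul_neg,
            neg_sub]
      epsz := by simp [ε, hz1]
      nondeg := fun b _ h => Subgroup.mem_center_iff.2 fun c => (h c (Subgroup.mem_top c)).symm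
      fsig := fun h _ => by
        show CfsgLib.OddExtend.sig act h ((1 / 2 : ℂ) • _) = _
        rw [map_smul, map_sub, map_one, CfsgLib.OddExtend.sig_o, hfixz]
      binv := fun _ _ _ _ => Subgroup.mem_top _
      ninv := fun h _ a ha => hactc _ a ha
      fix := fun b _ hb => by
        refine Subgroup.mem_center_iff.2 fun c => ?_
        have key : E ≤ (C.beta b).ker.map E.subtype := by
          refine hEK.symm.le.trans (Subgroup.commutator_le.2 fun e he k hk => ?_)
          let k' : H := ⟨k, hKH hk⟩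
          have hψ : ∀ y : E, C.beta b (act k' y) = C.beta b y := fun y => by
            have h1 : act k' b = b * (b⁻¹ * act k' b) := by group
            have h2 : C.beta (act k' y) (b⁻¹ * act k' b) = 1 :=
              C.beta_eq_one_iff.2 (Subgroup.mem_center_iff.1 (hb k' hk) _)
            rw [← C.beta_act k' b y, C.beta_symm (act k' b), h1, map_mul, h2, mul_one, C.beta_symm]
          refine ⟨(⟨e, he⟩ : E) * act k' (⟨e, he⟩ : E)⁻¹, ?_, ?_⟩
          · rw [SetLike.mem_coe, MonoidHom.mem_ker, map_mul, hψ, ← map_mul, mul_inv_cancel, map_one]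
          · simp [act, k', commutatorElement_def, mul_assoc]
        obtain ⟨c', hc', e⟩ := key c.2
        rw [show c' = c from Subtype.ext e] at hc'
        exact (C.beta_eq_one_iff.1 hc').symm }
  obtain ⟨τ, hτ1, hτmul, -, hτ⟩ := S.impl
  -- the representation
  have hd1 : ρ.character 1 = (d : ℂ) := by rw [Representation.char_one, Module.finrank_fin_fun]
  have hd : (d : ℂ) ≠ 0 := by
    have := CfsgLib.Char.finrank_pos_of_irreducible ρ
    rw [Module.finrank_fin_fun] at this
    exact_mod_cast this.ne'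
  have hρz : ρ z = (-1 : ℂ) • (1 : (Fin d → ℂ) →ₗ[ℂ] (Fin d → ℂ)) := by
    obtain ⟨c, hc⟩ := CfsgLib.Char.exists_scalU_of_commute E ρ (ρ.toHomUnits z) fun n => by
      show ρ z * ρ n = ρ n * ρ z
      rw [← map_mul, ← map_mul, C.zcomm]
    have hcv : ρ z = (c : ℂ) • (1 : (Fin d → ℂ) →ₗ[ℂ] (Fin d → ℂ)) := by
      have := congrArg Units.val hc
      rwa [CfsgLib.Char.scalU_coe, Algebra.algebraMap_eq_smul_one] at this
    have hchar : ρ.character z = (c : ℂ) * d := by
      simp [Representation.character, hcv]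
    have hc2 : ((c : ℂ) * c) * d = d := by
      have h := congrArg ρ.character hzz
      rw [hd1] at h
      refine Eq.trans ?_ h
      simp [Representation.character, hcv, mul_assoc]
    have hc3 : (c : ℂ) * c = 1 := (mul_eq_right₀ hd).1 hc2
    rcases mul_self_eq_one_iff.1 hc3 with e | e
    · exact absurd (hθ z (by rw [hchar, hd1, e, one_mul])) hz1
    · rw [hcv, e]
  let Φ := ρ.asAlgebraHom
  have hΦo : ∀ a : E, Φ (CfsgLib.OddExtend.o a) = ρ a := fun a => ρ.asAlgebraHom_of a
  have hΦf : Φ f = 1 := by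
    show Φ ((1 / 2 : ℂ) • _) = _
    rw [map_smul, map_sub, map_one, hΦo, hρz]
    module
  -- invariance
  have hinv : CfsgLib.Char.IsInvariant E ρ := by
    intro g n
    show ρ.character (MulAut.conjNormal g n) = ρ.character n
    have hnc : ∀ m : E, m ∉ Subgroup.center E → ρ.character m = 0 := fun m hm =>
      CfsgLib.Char.vanish_off_center hE (fun a b => Representation.char_conj ρ a b)
        (fun c hc => by
          rcases hcen c hc with rfl | rfl
          · exact ⟨1, fun x => by simp⟩
          · exact ⟨-1, fun x => by simp [Representation.character, map_mul, hρz]⟩)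
        ⟨z, hzc, fun c hc e => by
          subst e
          have h := hc 1
          rw [one_mul, one_mul, hd1] at h
          exact hz1 (hθ z (by rw [h, hd1]))⟩ hm
    by_cases hn : n ∈ Subgroup.center E
    · rcases hcen n hn with rfl | rfl
      · rw [map_one]
      · rw [hfixz]
    · rw [hnc n hn, hnc]
      intro h
      exact hn (by simpa using hactc (MulAut.conjNormal g⁻¹) _ h)
  -- decomposition
  have hex : ∀ g : G, ∃ p : E × H, (p.1 : G) * p.2 = g := fun g => by
    obtain ⟨e, he, h, hh, rfl⟩ := Subgroup.mem_sup_of_normal_left.1 (hEHtop.ge (Subgroup.mem_top g))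
    exact ⟨(⟨e, he⟩, ⟨h, hh⟩), rfl⟩
  choose dec hdec using hex
  have huniq : ∀ (g : G) (e : E) (h : H), (e : G) * h = g → dec g = (e, h) := by
    intro g e h hg
    have h1 : ((e : G))⁻¹ * (dec g).1 = (h : G) * ((dec g).2 : G)⁻¹ := by
      rw [eq_mul_inv_iff_mul_eq, mul_assoc, hdec g, ← hg, inv_mul_cancel_left]
    have h2 : ((e : G))⁻¹ * (dec g).1 ∈ E ⊓ H :=
      ⟨E.mul_mem (E.inv_mem e.2) (dec g).1.2, h1 ▸ H.mul_mem h.2 (H.inv_mem (dec g).2.2)⟩
    rw [hEH, Subgroup.mem_bot] at h2
    exact Prod.ext (Subtype.ext (inv_mul_eq_one.1 h2).symm)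
      (Subtype.ext (mul_inv_eq_one.1 (h1.symm.trans h2)).symm)
  have hT : ∀ g ∈ (P : Subgroup G), (dec g).2 ∈ T := fun g hg => by
    show ((dec g).2 : G) ∈ (P : Subgroup G)
    rw [← mul_mem_cancel_left (hEP (dec g).1.2), hdec g]
    exact hg
  let σ : Representation ℂ (P : Subgroup G) (Fin d → ℂ) :=
    { toFun := fun x => ρ (dec x).1 * Φ (τ (dec x).2)
      map_one' := by
        rw [Subgroup.coe_one, huniq 1 1 1 (by simp), map_one, hτ1, hΦf, one_mul]
      map_mul' := fun x y => by
        rw [Subgroup.coe_mul, huniq ((x : G) * y) ((dec x).1 * act (dec x).2 (dec y).1)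
          ((dec x).2 * (dec y).2) (by
            conv_rhs => rw [← hdec x, ← hdec y]
            simp [act, mul_assoc]), hτmul _ (hT _ x.2) _ (hT _ y.2), map_mul, map_mul]
        have h := congrArg Φ (hτ _ (hT _ x.2) (dec y).1 (Subgroup.mem_top _))
        rw [map_mul, map_mul, hΦo, hΦo] at h
        rw [mul_assoc, ← mul_assoc (ρ (act _ _)), ← h]
        simp only [mul_assoc] }
  -- extension
  have hext := CfsgLib.Char.extends_of_sylow E ρ hinv fun p hp' _ hdvd => by
    have hcard : p ∣ Nat.card E := by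
      rcases (Nat.Prime.dvd_mul hp').1 hdvd with h | h
      · have := CfsgLib.Char.finrank_dvd_card ρ
        rw [Module.finrank_fin_fun] at this
        exact h.trans this
      · refine h.trans (orderOf_dvd_of_pow_eq_one (MonoidHom.ext fun n => ?_))
        rw [MonoidHom.pow_apply, ← map_pow, pow_card_eq_one', map_one, MonoidHom.one_apply]
    obtain ⟨k, hk⟩ := IsPGroup.iff_card.1 hp
    obtain rfl := (Nat.prime_dvd_prime_iff_eq hp' Nat.prime_two).1
      (hp'.dvd_of_dvd_pow (hk ▸ hcard))
    exact ⟨P, hEP, σ, P.not_dvd_index, fun n => by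
      show ρ (dec _).1 * Φ (τ (dec _).2) = ρ n
      rw [huniq _ n 1 (by simp), hτ1, hΦf, mul_one]⟩
  obtain ⟨χ, hχ, hres⟩ := CfsgLib.Char.exists_char_of_rep E ρ hext
  exact ⟨⟨χ, hχ⟩, hres⟩

end Cfsg.Agent.S4759
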