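import Cfsg.Statements.S4762
import Cfsg.Agent.Lib.Block.LinearTwist
import Cfsg.Agent.Lib.Block.CentralDefect
import Cfsg.Agent.Lib.Block.DefectCentral
import Cfsg.Agent.Lib.Block.POrderFour
import Cfsg.Agent.Lib.Char.Degree
import Cfsg.Agent.Lib.Char.Extraspecial
import Cfsg.Agent.Lib.PGroup.FrattiniLe
import Cfsg.Agent.Lib.Coprime.MinimalNonNilpotent
-- import your own Cfsg.Agent.* helpers here

set_option autoImplicit false
open Cfsg CfsgLib.Block
open scoped commutatorElement

open Cfsg

namespace Cfsg.Agent.S4762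

/-- Let p be a prime and G a finite nilpotent group. Then G has exactly one irreducible complex character of degree divisible by p if and only if p = 2 and G is an extraspecial 2-group. -/
theorem result {G : Type*} [Group G] [Finite G] [Group.IsNilpotent G] (p : ℕ) [Fact p.Prime] : Nat.card {χ : Cfsg.IrrCharacter G // p ∣ Cfsg.charDegree (χ : G → ℂ)} = 1 ↔ (p = 2 ∧ Cfsg.IsExtraspecial 2 G) := by
  classical
  letI := Fintype.ofFinite G
  have := Fintype.ofFinite (IrrCharacter G)
  have hp : p.Prime := Fact.out
  have hsum : ∑ χ : IrrCharacter G, charDegree (χ : G → ℂ) ^ 2 = Nat.card G := by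
    have h := CfsgLib.Char.sum_degree_sq (G := G)
    simp only [fun χ : IrrCharacter G => (charDegree_eq χ).1] at h
    exact_mod_cast h
  have hlin : ∀ χ : IrrCharacter G, charDegree (χ : G → ℂ) = 1 ↔ (χ : G → ℂ) 1 = 1 := fun χ => by
    rw [(charDegree_eq χ).1, Nat.cast_eq_one]
  have hnlin : (Finset.univ.filter fun χ : IrrCharacter G => charDegree (χ : G → ℂ) = 1).card =
      (commutator G).index := by
    rw [← CfsgLib.Char.card_linear, ← Fintype.card_subtype, ← Nat.card_eq_fintype_card]
    exact Nat.card_congr (Equiv.subtypeEquivRight hlin)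
  constructor
  · intro h
    obtain ⟨⟨⟨χ, hχ⟩⟩, hfin⟩ : Nonempty _ ∧ Finite _ := Nat.card_ne_zero.mp (by rw [h]; norm_num :
      Nat.card {χ : IrrCharacter G // p ∣ charDegree (χ : G → ℂ)} ≠ 0)
    have huniq : ∀ ψ : IrrCharacter G, p ∣ charDegree (ψ : G → ℂ) → ψ = χ := fun ψ hψ => by
      have := (Nat.card_eq_one_iff_unique.mp h).1
      exact congrArg Subtype.val (Subsingleton.elim
        (⟨ψ, hψ⟩ : {φ : IrrCharacter G // p ∣ charDegree (φ : G → ℂ)}) ⟨χ, hχ⟩)
    have hvan : ∀ g : G, g ∉ commutator G → (χ : G → ℂ) g = 0 := by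
      intro g hg
      obtain ⟨lam, hlam⟩ := exists_linear_ne_one hg
      obtain ⟨ψ, hψ⟩ := exists_linear_twist χ lam
      have h1 : charDegree (ψ : G → ℂ) = charDegree (χ : G → ℂ) := by
        simp only [charDegree, hψ 1, map_one, Units.val_one, one_mul]
      have h2 := hψ g
      rw [huniq ψ (h1 ▸ hχ)] at h2
      by_contra h0
      exact hlam (Units.ext ((mul_eq_right₀ h0).mp h2.symm))
    -- the Sylow subgroup, its complement and the derived group
    have hPG : IsPGroup p G := by
      have hPn : ∀ q : ℕ, ∀ [Fact q.Prime] (P : Sylow q G), (P : Subgroup G).Normal := fun q _ P =>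
        Sylow.normal_of_normalizerCondition Group.normalizerCondition_of_isNilpotent P
      obtain ⟨S⟩ : Nonempty (Sylow p G) := inferInstance
      have hSn := hPn p S
      obtain ⟨K, hK'⟩ := Subgroup.exists_right_complement'_of_coprime (N := (S : Subgroup G)) S.card_coprime_index
      have hKn : K.Normal := by
        rw [← Subgroup.normalizer_eq_top_iff]
        by_contra hne
        have hcomm : ∀ s ∈ (S : Subgroup G), ∀ k ∈ K, Commute s k := by
          intro s hs k hk
          have hcop : (orderOf k).Coprime p := ((hp.coprime_iff_not_dvd.mpr S.not_dvd_index).symm).coprime_dvd_left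
            ((Subgroup.IsComplement'.index_eq_card hK'.symm) ▸ Subgroup.orderOf_dvd_natCard _ hk)
          exact (CfsgLib.Coprime.commute_of_coprime_pow hcop S.isPGroup' hs).symm
        refine hne (eq_top_iff.mpr fun g _ => ?_)
        obtain ⟨⟨s, k⟩, rfl⟩ := hK'.2 g
        refine mul_mem (Subgroup.mem_normalizer_iff.mpr fun z => ?_) (Subgroup.le_normalizer k.2)
        constructor
        · intro hz
          rwa [(hcomm s s.2 z hz).eq, mul_inv_cancel_right]
        · intro hz
          have h2 : (s : G) * z * (s : G)⁻¹ = z := by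
            have h3 : Commute ((s : G)⁻¹) ((s : G) * z * (s : G)⁻¹) := (hcomm s s.2 _ hz).inv_left
            have h4 := h3.eq
            rw [show (s : G)⁻¹ * ((s : G) * z * (s : G)⁻¹) = z * (s : G)⁻¹ by group] at h4
            exact (mul_right_cancel h4).symm
          rwa [h2] at hz
      -- the degree is divisible by `p`, hence the Sylow subgroup is not commutative
      have hSab : ¬ ∀ a b : (S : Subgroup G), a * b = b * a := by
        intro hab
        obtain ⟨hd, hd0⟩ := charDegree_eq χ
        have h1 := CfsgLib.Char.degree_dvd_index_abelian G (S : Subgroup G)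
          (fun a ha b hb => congrArg Subtype.val (hab ⟨a, ha⟩ ⟨b, hb⟩)) _ χ.2 _ hd
        exact S.not_dvd_index (hχ.trans h1)
      have eq : G ⧸ K ≃* (S : Subgroup G) := (Subgroup.IsComplement'.QuotientMulEquiv hK')
      obtain ⟨φ, hφ⟩ : ∃ φ : IrrCharacter (G ⧸ K), (φ : G ⧸ K → ℂ) 1 ≠ 1 := by
        by_contra hno
        push Not at hno
        exact hSab fun a b => eq.symm.injective (by
          rw [map_mul, map_mul]; exact CfsgLib.Char.comm_of_degree_one hno _ _)
      let ψ : IrrCharacter G := ⟨_, CfsgLib.Char.isIrrCharacter_comp_surjective φ.2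
        (QuotientGroup.mk' K) (QuotientGroup.mk'_surjective K)⟩
      have hψ1 : ∀ k ∈ K, (ψ : G → ℂ) k = (ψ : G → ℂ) 1 := fun k hk => by
        show (φ : G ⧸ K → ℂ) (QuotientGroup.mk' K k) = (φ : G ⧸ K → ℂ) (QuotientGroup.mk' K 1)
        rw [map_one, show QuotientGroup.mk' K k = 1 from (QuotientGroup.eq_one_iff k).mpr hk]
      have hψp : p ∣ charDegree (ψ : G → ℂ) := by
        obtain ⟨hd, -⟩ := charDegree_eq φ
        have hdvd := CfsgLib.Char.degree_dvd_card φ hd
        rw [Nat.card_congr eq.toEquiv] at hdvd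
        obtain ⟨k, hk⟩ := S.isPGroup'.exists_card_eq
        rw [hk] at hdvd
        obtain ⟨i, -, hi⟩ := (Nat.dvd_prime_pow hp).mp hdvd
        have hi0 : i ≠ 0 := fun h0 => hφ (by rw [hd, hi, h0, pow_zero, Nat.cast_one])
        have e1 : charDegree (ψ : G → ℂ) = charDegree (φ : G ⧸ K → ℂ) := by
          simp only [charDegree, ψ, Function.comp_apply, map_one]
        rw [e1, hi]
        exact dvd_pow_self p hi0
      have hKle : K ≤ commutator G := fun k hk => by
        by_contra hk'
        have := hvan k hk'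
        rw [← huniq ψ hψp, hψ1 k hk] at this
        exact CfsgLib.Char.irr_one_ne_zero ψ this
      -- `K` is perfect and nilpotent, hence trivial
      have hKbot : K = ⊥ := by
        by_contra hne
        have : Nontrivial K := (Subgroup.nontrivial_iff_ne_bot K).mpr hne
        have : Group.IsNilpotent (G ⧸ (S : Subgroup G)) := inferInstance
        have hperf : commutator (G ⧸ (S : Subgroup G)) = ⊤ := by
          rw [eq_top_iff]
          intro q _
          obtain ⟨g, rfl⟩ := QuotientGroup.mk'_surjective (S : Subgroup G) q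
          obtain ⟨⟨s, k⟩, rfl⟩ := hK'.2 g
          rw [map_mul, show QuotientGroup.mk' (S : Subgroup G) s = 1 from (QuotientGroup.eq_one_iff _).mpr s.2, one_mul]
          have := Subgroup.mem_map_of_mem (QuotientGroup.mk' (S : Subgroup G)) (hKle k.2)
          rw [commutator_def, Subgroup.map_commutator] at this
          exact Subgroup.commutator_mono le_top le_top this
        have hnt : Nontrivial (G ⧸ (S : Subgroup G)) := by
          rw [← Finite.one_lt_card_iff_nontrivial, ← Subgroup.index_eq_card,
            Subgroup.IsComplement'.index_eq_card hK'.symm]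
          exact Finite.one_lt_card
        have hlt : commutator (G ⧸ (S : Subgroup G)) < ⊤ :=
          (Group.IsSolvable.commutator_lt_top_of_nontrivial (G ⧸ (S : Subgroup G)))
        exact hlt.ne hperf
      rw [hKbot, Subgroup.isComplement'_bot_right] at hK'
      exact (hK' ▸ S.isPGroup').of_equiv Subgroup.topEquiv
    obtain ⟨n, hn⟩ := IsPGroup.iff_card.mp hPG
    have hpp : ∀ ψ : IrrCharacter G, charDegree (ψ : G → ℂ) ≠ 1 → ψ = χ := fun ψ hψ => by
      obtain ⟨i, -, hi⟩ := (Nat.dvd_prime_pow hp).mp
        (hn ▸ CfsgLib.Char.degree_dvd_card ψ (charDegree_eq ψ).1)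
      exact huniq ψ (hi ▸ dvd_pow_self p fun h0 => hψ (by rw [hi, h0, pow_zero]))
    have hd1 : charDegree (χ : G → ℂ) ≠ 1 := fun h1 => hp.not_dvd_one (h1 ▸ hχ)
    have hfil : (Finset.univ.filter fun ψ : IrrCharacter G => ¬ charDegree (ψ : G → ℂ) = 1) = {χ} := by
      ext ψ
      simp only [Finset.mem_filter, Finset.mem_univ, true_and, Finset.mem_singleton]
      exact ⟨hpp ψ, fun h => h ▸ hd1⟩
    rw [← Finset.sum_filter_add_sum_filter_not Finset.univ (fun ψ : IrrCharacter G => charDegree (ψ : G → ℂ) = 1),
      hfil, Finset.sum_singleton, Finset.sum_congr rfl fun ψ hψ => by rw [(Finset.mem_filter.mp hψ).2, one_pow],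
      Finset.sum_const, smul_eq_mul, mul_one, hnlin, hn] at hsum
    obtain ⟨b, hb⟩ := hPG.index (commutator G)
    obtain ⟨a, -, ha⟩ := (Nat.dvd_prime_pow hp).mp (hn ▸ CfsgLib.Char.degree_dvd_card χ (charDegree_eq χ).1)
    have hd' : charDegree (χ : G → ℂ) = p ^ a := ha
    rw [hb, hd', ← pow_mul] at hsum
    -- `p ^ b + p ^ (2a) = p ^ n`
    obtain ⟨hp2, hbn, han⟩ : p = 2 ∧ n = b + 1 ∧ a * 2 = b := by
      have hbn : b < n := (Nat.pow_lt_pow_iff_right hp.one_lt).mp (by
        have := pow_pos hp.pos (a * 2); omega)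
      have han : a * 2 < n := (Nat.pow_lt_pow_iff_right hp.one_lt).mp (by
        have := pow_pos hp.pos b; omega)
      rcases lt_trichotomy b (a * 2) with hlt | heq | hgt
      · exfalso
        have h1 : p ^ (b + 1) ∣ p ^ b := by
          have h2 : p ^ (b + 1) ∣ p ^ b + p ^ (a * 2) := hsum ▸ pow_dvd_pow p hbn
          exact (Nat.dvd_add_left (pow_dvd_pow p hlt)).mp h2
        have := (Nat.pow_dvd_pow_iff_le_right hp.one_lt).mp h1
        omega
      · rw [← heq, ← two_mul, show n = b + (n - b) by omega, pow_add, mul_comm 2] at hsum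
        have h2 : p ^ (n - b) = 2 := (Nat.eq_of_mul_eq_mul_left (pow_pos hp.pos b) hsum).symm
        obtain ⟨hp2, hnb⟩ : p = 2 ∧ n - b = 1 := by
          have hdvd : p ∣ 2 := h2 ▸ dvd_pow_self p (by omega)
          have hp2 := (Nat.prime_dvd_prime_iff_eq hp Nat.prime_two).mp hdvd
          subst hp2
          exact ⟨rfl, Nat.pow_right_injective le_rfl (h2.trans (pow_one 2).symm)⟩
        exact ⟨hp2, by omega, heq.symm⟩
      · exfalso
        have h1 : p ^ (a * 2 + 1) ∣ p ^ (a * 2) := by
          have h2 : p ^ (a * 2 + 1) ∣ p ^ b + p ^ (a * 2) := hsum ▸ pow_dvd_pow p han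
          exact (Nat.dvd_add_right (pow_dvd_pow p hgt)).mp h2
        have := (Nat.pow_dvd_pow_iff_le_right hp.one_lt).mp h1
        omega
    subst hp2
    have hcard2 : Nat.card (commutator G) = 2 := by
      have := (commutator G).index_mul_card
      rw [hb, hn, hbn, pow_succ] at this
      exact Nat.eq_of_mul_eq_mul_left (pow_pos (by norm_num) b) this
    have hcZ : commutator G ≤ Subgroup.center G := by
      intro z hz
      rw [Subgroup.mem_center_iff]
      intro g
      by_contra hne
      have hz1 : z ≠ 1 := fun h => hne (by simp [h])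
      have h1 : g * z * g⁻¹ = z := by
        have hmem : g * z * g⁻¹ ∈ commutator G := Subgroup.Normal.conj_mem inferInstance z hz g
        obtain ⟨u, v, huv, hu⟩ := Nat.card_eq_two_iff.mp hcard2
        have all : ∀ w : commutator G, w = u ∨ w = v := fun w => by
          have : w ∈ ({u, v} : Set _) := hu ▸ Set.mem_univ w
          simpa using this
        rcases all ⟨z, hz⟩ with e1 | e1 <;> rcases all ⟨_, hmem⟩ with e2 | e2 <;> rcases all 1 with e3 | e3
        all_goals first
          | exact congrArg Subtype.val (e2.trans e1.symm)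
          | exact absurd (congrArg Subtype.val (e1.trans e3.symm)) hz1
          | exact absurd (conj_eq_one_iff.mp (congrArg Subtype.val (e2.trans e3.symm))) hz1
      exact hne (mul_inv_eq_iff_eq_mul.mp h1)
    have hZc : Subgroup.center G = commutator G := by
      refine le_antisymm (fun z hz => ?_) hcZ
      by_contra hz'
      obtain ⟨c, hc1, hcm, hc⟩ := exists_central_char χ
      have h0 := hvan z hz'
      rw [← mul_one z, hc _ _ hz] at h0
      have hcz : c z = 0 := (mul_eq_zero.mp h0).resolve_right (CfsgLib.Char.irr_one_ne_zero χ)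
      have h1 := hcm z z⁻¹ hz (inv_mem hz)
      rw [mul_inv_cancel, hc1, hcz, zero_mul] at h1
      exact one_ne_zero h1
    refine ⟨rfl, ⟨hPG, le_antisymm ?_ ?_, hZc.symm⟩, by rw [hZc]; exact hcard2⟩
    · refine CfsgLib.FrattiniLe.frattini_le_of_pow_of_commutator (p := 2) (fun x => ?_) hcZ
      rw [Subgroup.mem_center_iff]
      intro g
      rw [← commutatorElement_eq_one_iff_mul_comm]
      have hxc : ⁅g, x⁆ ∈ commutator G := Subgroup.commutator_mem_commutator (Subgroup.mem_top g) (Subgroup.mem_top x)
      rw [pow_two, comm_mul_right, Subgroup.mem_center_iff.mp (hcZ hxc) x, mul_inv_cancel_right, ← pow_two]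
      have := congrArg Subtype.val (pow_card_eq_one' (x := (⟨_, hxc⟩ : commutator G)))
      rwa [hcard2] at this
    · rw [hZc]
      refine le_iInf₂ fun M hM => ?_
      have : (⊤ : Subgroup G) ≠ M := fun h => hM.1 h.symm
      by_contra hle
      refine hM.1 (top_of_sup_commutator hPG (hM.2 _ ?_))
      exact lt_of_le_of_ne le_sup_left fun h => hle (sup_eq_left.mp h.symm)
  · rintro ⟨rfl, ⟨hG, hfr, hGc⟩, hZ⟩
    obtain ⟨n, hn⟩ := IsPGroup.iff_card.mp hG
    have hdeg : ∀ χ : IrrCharacter G, charDegree (χ : G → ℂ) ≠ 1 → charDegree (χ : G → ℂ) ^ 2 * 2 = Nat.card G := by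
      intro χ hχ
      obtain ⟨c, hc1, hcm, hc⟩ := exists_central_char χ
      obtain ⟨hd, -⟩ := charDegree_eq χ
      have hnt : ∃ z ∈ Subgroup.center G, c z ≠ 1 := by
        by_contra hno
        push Not at hno
        obtain ⟨χ', hχ'⟩ := exists_deflate (N := commutator G) χ fun z hz => by
          rw [hGc] at hz
          rw [← mul_one z, hc _ _ hz, hno z hz, one_mul]
        refine hχ ((hlin χ).mpr ?_)
        rw [← hχ']
        exact CfsgLib.Char.degree_one_of_comm (fun a b => by
          obtain ⟨a, rfl⟩ := QuotientGroup.mk'_surjective _ a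
          obtain ⟨b, rfl⟩ := QuotientGroup.mk'_surjective _ b
          rw [← commutatorElement_eq_one_iff_mul_comm, ← map_commutatorElement, QuotientGroup.mk'_apply,
            QuotientGroup.eq_one_iff]
          exact Subgroup.commutator_mem_commutator (Subgroup.mem_top a) (Subgroup.mem_top b)) χ'
      have hoff : ∀ x, x ∉ Subgroup.center G → (χ : G → ℂ) x = 0 := fun x hx =>
        CfsgLib.Char.vanish_off_center (p := 2) ⟨⟨hG, hfr, hGc⟩, hZ⟩ (CfsgLib.Char.isClassFunction_irr χ)
          (fun z hz => ⟨c z, fun y => by rw [Subgroup.mem_center_iff.mp hz y, hc _ _ hz]⟩)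
          (by
            obtain ⟨z, hz, hz1⟩ := hnt
            refine ⟨z, hz, fun c' hc' h1 => hz1 ?_⟩
            have := hc' 1
            rw [one_mul, h1, one_mul, ← mul_one z, hc _ _ hz] at this
            exact (mul_eq_right₀ (CfsgLib.Char.irr_one_ne_zero χ)).mp this) hx
      have h := CfsgLib.Char.classInner_irr_self χ
      rw [classInner, inv_mul_eq_one₀ CfsgLib.Char.card_ne_zero',
        ← Finset.sum_filter_add_sum_filter_not Finset.univ (fun x : G => x ∈ Subgroup.center G),
        Finset.sum_eq_zero (s := Finset.univ.filter fun x : G => x ∉ Subgroup.center G)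
          (fun x hx => by rw [hoff x (Finset.mem_filter.mp hx).2, zero_mul]), add_zero,
        Finset.sum_congr rfl (g := fun _ => ((charDegree (χ : G → ℂ) : ℂ)) ^ 2) fun x hx => by
          have hx' := (Finset.mem_filter.mp hx).2
          rw [← CfsgLib.Char.irr_inv, ← mul_one x, hc _ _ hx', mul_one, ← mul_one x⁻¹,
            hc _ _ (inv_mem hx'), mul_mul_mul_comm, ← hcm _ _ hx' (inv_mem hx'), mul_inv_cancel, hc1,
            one_mul, hd, sq],
        Finset.sum_const, nsmul_eq_mul, ← Fintype.card_subtype, ← Nat.card_eq_fintype_card,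
        show Nat.card {x : G // x ∈ Subgroup.center G} = 2 from hZ] at h
      rw [mul_comm] at h
      exact_mod_cast h.symm
    have hfilt : (Finset.univ.filter fun χ : IrrCharacter G => 2 ∣ charDegree (χ : G → ℂ)) =
        Finset.univ.filter fun χ : IrrCharacter G => ¬ charDegree (χ : G → ℂ) = 1 := by
      refine Finset.filter_congr fun χ _ => ⟨fun h h1 => absurd (h1 ▸ h) (by norm_num), fun h => ?_⟩
      obtain ⟨i, -, hi⟩ := (Nat.dvd_prime_pow Nat.prime_two).mp
        (hn ▸ CfsgLib.Char.degree_dvd_card χ (charDegree_eq χ).1)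
      exact hi ▸ dvd_pow_self 2 fun h0 => h (by rw [hi, h0, pow_zero])
    rw [Nat.card_eq_fintype_card, Fintype.card_subtype, hfilt]
    set k := (Finset.univ.filter fun χ : IrrCharacter G => ¬ charDegree (χ : G → ℂ) = 1).card
    have h1 : (∑ χ ∈ Finset.univ.filter (fun χ : IrrCharacter G => ¬ charDegree (χ : G → ℂ) = 1),
        charDegree (χ : G → ℂ) ^ 2) * 2 = k * Nat.card G := by
      rw [Finset.sum_mul, Finset.sum_congr rfl fun χ hχ => hdeg χ (Finset.mem_filter.mp hχ).2,
        Finset.sum_const, smul_eq_mul]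
    rw [← Finset.sum_filter_add_sum_filter_not Finset.univ (fun χ : IrrCharacter G => charDegree (χ : G → ℂ) = 1),
      Finset.sum_congr rfl fun ψ hψ => by rw [(Finset.mem_filter.mp hψ).2, one_pow],
      Finset.sum_const, smul_eq_mul, mul_one, hnlin] at hsum
    have h2 := (commutator G).index_mul_card
    rw [hGc, hZ] at h2
    rw [hGc] at hsum
    have h3 : k * Nat.card G = Nat.card G := by omega
    exact (mul_eq_right₀ (Nat.card_pos (α := G)).ne').mp h3

end Cfsg.Agent.S4762
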