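import Cfsg.Statements.S4763
import Cfsg.Agent.Lib.Char.RamifiedFrobenius
import Cfsg.Agent.Lib.Char.ExtendCriteria
import Cfsg.Agent.Lib.Block.ItoMichler
import Cfsg.Agent.Lib.Block.Covering
import Cfsg.Agent.Lib.Block.Glauberman
import Cfsg.Agent.Lib.PGroup.ClassSize
import Cfsg.Agent.S4444

set_option autoImplicit false
open Cfsg

namespace Cfsg.Agent.S4763

open CfsgLib CfsgLib.Char
open scoped ComplexConjugate

universe u

theorem exists_ext {G : Type u} [Group G] [Fintype G] (N : Subgroup G) [N.Normal] [Fintype N]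
    (hcop : (Nat.card N).Coprime N.index) (θ : IrrCharacter N)
    (hinv : ∀ g : G, conjFun N (θ : N → ℂ) g = (θ : N → ℂ)) :
    ∃ χ : IrrCharacter G, (fun n : N => (χ : G → ℂ) n) = (θ : N → ℂ) := by
  obtain ⟨θ, d, ρ, hρ, rfl⟩ := θ
  haveI := hρ
  obtain ⟨σ, hσ⟩ := extends_of_sylow N ρ (fun g n => congrFun (hinv g) n) fun q hq hqi hqd => by
    exfalso
    have hd : d ∣ Nat.card N := degree_dvd_card (⟨ρ.character, d, ρ, hρ, rfl⟩ : IrrCharacter N)
      ((Representation.char_one ρ).trans (by rw [Module.finrank_fin_fun]))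
    have ho : orderOf (detHom ρ) ∣ Nat.card N := orderOf_dvd_of_pow_eq_one (MonoidHom.ext fun n => by
      rw [MonoidHom.pow_apply, ← map_pow, pow_card_eq_one', map_one, MonoidHom.one_apply])
    have hqN : q ∣ Nat.card N := (hq.dvd_mul.1 hqd).elim (fun h => h.trans hd) (fun h => h.trans ho)
    exact hq.ne_one (Nat.dvd_one.1 (hcop.gcd_eq_one ▸ Nat.dvd_gcd hqN hqi))
  haveI := isIrreducible_of_restrict σ ρ hσ
  exact ⟨⟨σ.character, isIrrCharacter_character σ⟩,
    funext fun n => congrArg (LinearMap.trace ℂ (Fin d → ℂ)) (hσ n)⟩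

theorem over_ext {G : Type u} [Group G] [Fintype G] (N : Subgroup G) [N.Normal] [Fintype N]
    (hab : ∀ a b : G, a * b * a⁻¹ * b⁻¹ ∈ N) (θ : IrrCharacter N) (χ : IrrCharacter G)
    (hχ : (fun n : N => (χ : G → ℂ) n) = (θ : N → ℂ)) :
    (∀ β : IrrCharacter G, classInner (fun n : N => (β : G → ℂ) n) (θ : N → ℂ) ≠ 0 →
      (fun n : N => (β : G → ℂ) n) = (θ : N → ℂ)) ∧
    Nat.card {β : IrrCharacter G // (fun n : N => (β : G → ℂ) n) = (θ : N → ℂ)} = N.index := by
  classical
  have := Fintype.ofFinite (IrrCharacter G)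
  have h1 : ∀ β : IrrCharacter G, classInner (fun n : N => (β : G → ℂ) n) (θ : N → ℂ) ≠ 0 →
      (fun n : N => (β : G → ℂ) n) = (θ : N → ℂ) := by
    intro β hβ
    obtain ⟨hηi, hprod⟩ := gallagher N χ (hχ ▸ θ.2) β (by rw [hχ]; exact hβ)
    set η := cosetAvg N (fun x => (β : G → ℂ) x * conj ((χ : G → ℂ) x))
    have hconst : ∀ (n : N) (g : G), η ((n : G) * g) = η g := fun n g =>
      cosetAvg_mul_left N (fun x => (β : G → ℂ) x * conj ((χ : G → ℂ) x)) n g
    have hη1 : η 1 = 1 := RamifiedFrobenius.degree_one_of_const N hab ⟨η, hηi⟩ hconst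
    funext n
    rw [hprod, Pi.mul_apply, ← mul_one (n : G), hconst n 1, hη1, mul_one, mul_one]
    exact congrFun hχ n
  refine ⟨h1, ?_⟩
  have hexp := congrFun (classFun_expand (isClassFunction_indFun N (θ : N → ℂ))) 1
  rw [indFun_one, Finset.sum_apply, ← Finset.sum_filter_of_ne
    (p := fun β : IrrCharacter G => (fun n : N => (β : G → ℂ) n) = (θ : N → ℂ)) fun β _ hne => by
      by_contra h0
      refine hne ?_
      rw [Pi.smul_apply, classInner_indFun _ _ _ (isClassFunction_irr β),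
        ← classInner_conj (fun n : N => (β : G → ℂ) n), not_not.1 fun h => h0 (h1 β h), map_zero, zero_smul],
    Finset.sum_congr rfl (g := fun _ => (θ : N → ℂ) 1) fun β hβ => by
      have e := (Finset.mem_filter.1 hβ).2
      rw [Pi.smul_apply, classInner_indFun _ _ _ (isClassFunction_irr β),
        ← classInner_conj (fun n : N => (β : G → ℂ) n), e, classInner_irr_self, map_one, one_smul, ← congrFun e 1]
      rfl,
    Finset.sum_const, nsmul_eq_mul] at hexp
  have h4 := mul_right_cancel₀ (irr_one_ne_zero θ) hexp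
  rw [Nat.card_eq_fintype_card, Fintype.card_subtype]
  exact_mod_cast h4.symm

theorem isIrr_mul {G : Type u} [Group G] [Fintype G] (N : Subgroup G) [N.Normal] [Fintype N]
    (χ : IrrCharacter G) (hχ : IsIrrCharacter N fun n : N => (χ : G → ℂ) n) (β : IrrCharacter G)
    (hconst : ∀ (n : N) (g : G), (β : G → ℂ) ((n : G) * g) = (β : G → ℂ) g) :
    IsIrrCharacter G ((χ : G → ℂ) * (β : G → ℂ)) := by
  refine isIrr_of_isCharacter_norm_one (isCharacter_mul (isCharacter_irr χ) (isCharacter_irr β)) ?_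
  have h1 : classInner ((χ : G → ℂ) * (β : G → ℂ)) ((χ : G → ℂ) * (β : G → ℂ)) = (Nat.card G : ℂ)⁻¹ *
      ∑ g : G, ((fun x => (χ : G → ℂ) x * conj ((χ : G → ℂ) x)) *
        (fun x => (β : G → ℂ) x * conj ((β : G → ℂ) x))) g := by
    rw [classInner]
    congr 1
    refine Finset.sum_congr rfl fun g _ => ?_
    simp only [Pi.mul_apply, map_mul]
    ring
  rw [h1, ← sum_cosetAvg N, cosetAvg_mul_const N _ (fun n g => by simp only [hconst]),
    cosetAvg_self_eq_one N χ hχ]
  simpa [classInner] using classInner_irr_self β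

theorem main {G : Type u} [Group G] [Finite G] (p : ℕ) [Fact p.Prime] (hnil : ¬ Group.IsNilpotent G)
    (N : Subgroup G) [N.Normal] (hN : (Nat.card N).Coprime p) (hidx : ∃ k : ℕ, N.index = p ^ k)
    (hone : Nat.card {χ : IrrCharacter G // p ∣ charDegree (χ : G → ℂ)} = 1) :
    Nat.card {C : ConjClasses G // p ∣ Nat.card C.carrier} = 1 := by
  classical
  have hp : p.Prime := Fact.out
  have := Fintype.ofFinite G
  have := Fintype.ofFinite N
  obtain ⟨k, hk⟩ := hidx
  have hNp : ¬ p ∣ Nat.card N := (hp.coprime_iff_not_dvd).1 hN.symm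
  have hcop : (Nat.card N).Coprime N.index := hk ▸ hN.pow_right k
  have hθdeg : ∀ θ : IrrCharacter N, ¬ p ∣ charDegree (θ : N → ℂ) := fun θ h =>
    hNp (h.trans (degree_dvd_card θ (Block.ItoMichler.one_eq_cast θ)))
  have huniq : ∀ a b : IrrCharacter G, p ∣ charDegree (a : G → ℂ) → p ∣ charDegree (b : G → ℂ) → a = b :=
    fun a b ha hb => congrArg Subtype.val
      ((Nat.card_eq_one_iff_unique.1 hone).1.allEq ⟨a, ha⟩ ⟨b, hb⟩)
  obtain ⟨P⟩ : Nonempty (Sylow p G) := inferInstance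
  have hPcard : Nat.card (P : Subgroup G) = N.index := by
    rw [P.card_eq_multiplicity, ← N.card_mul_index, hk, Nat.factorization_mul Nat.card_pos.ne'
      (pow_ne_zero _ hp.ne_zero), Finsupp.add_apply, Nat.factorization_eq_zero_of_not_dvd hNp,
      hp.factorization_pow, Finsupp.single_eq_same, zero_add]
  have hPN : ∀ x ∈ (P : Subgroup G), x ∈ N → x = 1 := fun x hxP hxN =>
    Subgroup.mem_bot.1 (Subgroup.inf_eq_bot_of_coprime (H := (P : Subgroup G)) (K := N)
      (by rw [hPcard]; exact hcop.symm) ▸ ⟨hxP, hxN⟩)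
  let π : (P : Subgroup G) →* G ⧸ N := (QuotientGroup.mk' N).comp (P : Subgroup G).subtype
  have hπ : Function.Bijective π := by
    have hinj : Function.Injective π := (injective_iff_map_eq_one π).2 fun x hx =>
      Subtype.ext (hPN x x.2 ((QuotientGroup.eq_one_iff (x : G)).1 hx))
    exact (Nat.bijective_iff_injective_and_card π).2 ⟨hinj, by rw [hPcard, Subgroup.index_eq_card]⟩
  have hsplit : ∀ g : G, ∃ n ∈ N, ∃ x ∈ (P : Subgroup G), g = n * x := fun g => by
    obtain ⟨x, hx⟩ := hπ.2 (g : G ⧸ N)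
    refine ⟨g * (x : G)⁻¹, ?_, x, x.2, by group⟩
    rw [← QuotientGroup.eq_one_iff, QuotientGroup.mk_mul, QuotientGroup.mk_inv, mul_inv_eq_one]
    exact hx.symm
  -- non-invariant characters lift to degrees divisible by `p`
  have hnoninv : ∀ (θ : IrrCharacter N) (χ : IrrCharacter G),
      classInner (fun n : N => (χ : G → ℂ) n) (θ : N → ℂ) ≠ 0 → ¬ p ∣ charDegree (χ : G → ℂ) →
      ∀ g : G, conjFun N (θ : N → ℂ) g = (θ : N → ℂ) := by
    intro θ χ hθ hχp g
    have hd := (Block.ItoMichler.dvd_of_constituent N χ θ hθ).2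
    have hd2 : (inertia N (θ : N → ℂ)).index ∣ N.index :=
      Subgroup.index_dvd_of_le (le_inertia N (isClassFunction_irr θ))
    rw [hk] at hd2
    obtain ⟨j, -, hj⟩ := (Nat.dvd_prime_pow hp).1 hd2
    rcases Nat.eq_zero_or_pos j with h0 | h0
    · rw [h0, pow_zero, Subgroup.index_eq_one] at hj
      exact (mem_inertia N _ g).1 (hj ▸ Subgroup.mem_top g)
    · exact absurd ((dvd_pow_self p h0.ne').trans (hj ▸ hd)) hχp
  -- the quotient is commutative
  have hab : ∀ a b : G, a * b * a⁻¹ * b⁻¹ ∈ N := by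
    by_contra hcon
    apply hnil
    have hqab : ¬ ∀ θ : IrrCharacter (G ⧸ N), (θ : G ⧸ N → ℂ) 1 = 1 := fun h => hcon fun a b => by
      rw [← QuotientGroup.eq_one_iff, QuotientGroup.mk_mul, QuotientGroup.mk_mul, QuotientGroup.mk_mul,
        QuotientGroup.mk_inv, QuotientGroup.mk_inv, comm_of_degree_one h (a : G ⧸ N) (b : G ⧸ N), mul_inv_cancel_right, mul_inv_cancel]
    push Not at hqab
    obtain ⟨φ, hφ⟩ := hqab
    let χ₀ : IrrCharacter G := ⟨fun g => (φ : G ⧸ N → ℂ) g, isIrrCharacter_comp_surjective φ.2 (QuotientGroup.mk' N)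
      (QuotientGroup.mk'_surjective N)⟩
    have hχ₀c : ∀ (n : N) (g : G), (χ₀ : G → ℂ) ((n : G) * g) = (χ₀ : G → ℂ) g := fun n g => by
      show (φ : G ⧸ N → ℂ) _ = (φ : G ⧸ N → ℂ) _
      rw [QuotientGroup.mk_mul, (QuotientGroup.eq_one_iff (n : G)).2 n.2, one_mul]
    have hχ₀N : ∀ n : N, (χ₀ : G → ℂ) n = (χ₀ : G → ℂ) 1 := fun n => by
      have := hχ₀c n 1; rwa [mul_one] at this
    have hχ₀p : p ∣ charDegree (χ₀ : G → ℂ) := by
      have h1 : charDegree (χ₀ : G → ℂ) = charDegree (φ : G ⧸ N → ℂ) := rfl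
      rw [h1]
      have hd := degree_dvd_card φ (Block.ItoMichler.one_eq_cast φ)
      rw [← Subgroup.index_eq_card, hk] at hd
      obtain ⟨j, -, hj⟩ := (Nat.dvd_prime_pow hp).1 hd
      rcases Nat.eq_zero_or_pos j with h0 | h0
      · exact absurd (by rw [Block.ItoMichler.one_eq_cast φ, hj, h0, pow_zero, Nat.cast_one]) hφ
      · exact hj ▸ dvd_pow_self p h0.ne'
    let one : IrrCharacter N := ⟨fun _ => 1, isIrrCharacter_one⟩
    have htriv : ∀ θ : IrrCharacter N, θ = one := by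
      intro θ
      by_contra hne
      obtain ⟨χ, hχ⟩ := Block.ItoMichler.exists_irr_over N θ
      have hperp : classInner (fun n : N => (χ₀ : G → ℂ) n) (θ : N → ℂ) = 0 := by
        rw [show (fun n : N => (χ₀ : G → ℂ) n) = (χ₀ : G → ℂ) 1 • (one : N → ℂ) from funext fun n => by
          rw [hχ₀N n, Pi.smul_apply]; simp [one], classInner_smul_left, classInner_irr, if_neg (Ne.symm hne), mul_zero]
      by_cases hχp : p ∣ charDegree (χ : G → ℂ)
      · rw [huniq χ χ₀ hχp hχ₀p] at hχ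
        exact hχ hperp
      obtain ⟨χ₁, hχ₁⟩ := exists_ext N hcop θ (hnoninv θ χ hχ hχp)
      have hirr := isIrr_mul N χ₁ (hχ₁ ▸ θ.2) χ₀ hχ₀c
      have hdeg : p ∣ charDegree ((χ₁ : G → ℂ) * (χ₀ : G → ℂ)) := by
        have h1 : ((charDegree ((χ₁ : G → ℂ) * (χ₀ : G → ℂ)) : ℕ) : ℂ) =
            ((charDegree (χ₁ : G → ℂ) * charDegree (χ₀ : G → ℂ) : ℕ) : ℂ) := by
          rw [← Block.ItoMichler.one_eq_cast ⟨_, hirr⟩, Nat.cast_mul, ← Block.ItoMichler.one_eq_cast χ₁,
            ← Block.ItoMichler.one_eq_cast χ₀]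
          rfl
        rw [Nat.cast_injective h1]
        exact hχ₀p.mul_left _
      have heq := congrArg Subtype.val (huniq ⟨_, hirr⟩ χ₀ hdeg hχ₀p)
      have hne0 : (χ₀ : G → ℂ) 1 ≠ 0 := irr_one_ne_zero χ₀
      refine hne (Subtype.ext (funext fun n => ?_))
      have h2 := congrFun heq (n : G)
      simp only [Pi.mul_apply, hχ₀N n] at h2
      rw [← congrFun hχ₁ n]
      show (χ₁ : G → ℂ) n = 1
      exact (mul_eq_right₀ hne0).1 h2
    have hN1 : N = ⊥ := by
      have h2 : Nat.card (ConjClasses N) = 1 := by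
        rw [← card_irr_eq_card_conjClasses]
        haveI : Subsingleton (IrrCharacter N) := ⟨fun a b => (htriv a).trans (htriv b).symm⟩
        haveI : Nonempty (IrrCharacter N) := ⟨one⟩
        exact Nat.card_unique
      rw [Subgroup.eq_bot_iff_forall]
      intro x hx
      haveI := (Nat.card_eq_one_iff_unique.1 h2).1
      obtain ⟨c, hc⟩ := isConj_iff.1 (ConjClasses.mk_eq_mk_iff_isConj.1
        (Subsingleton.elim (ConjClasses.mk (1 : N)) (ConjClasses.mk ⟨x, hx⟩)))
      rw [mul_one, mul_inv_cancel] at hc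
      exact (congrArg Subtype.val hc).symm
    subst hN1
    rw [Subgroup.index_bot] at hk
    exact (IsPGroup.of_card hk).isNilpotent
  -- the count of characters
  let Inv := {θ : IrrCharacter N // ∀ g : G, conjFun N (θ : N → ℂ) g = (θ : N → ℂ)}
  have := Fintype.ofFinite Inv
  choose E hE using fun θ : Inv => exists_ext N hcop θ.1 θ.2
  have hcount : Nat.card {χ : IrrCharacter G // ¬ p ∣ charDegree (χ : G → ℂ)} = Nat.card Inv * N.index := by
    have hres : ∀ χ : {χ : IrrCharacter G // ¬ p ∣ charDegree (χ : G → ℂ)},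
        ∃ θ : Inv, (fun n : N => (χ.1 : G → ℂ) n) = (θ.1 : N → ℂ) := by
      intro χ
      obtain ⟨θ, hθ⟩ := Block.exists_constituent (N := N) χ.1
      let θ' : Inv := ⟨θ, hnoninv θ χ.1 hθ χ.2⟩
      exact ⟨θ', (over_ext N hab θ (E θ') (hE θ')).1 χ.1 hθ⟩
    choose F hF using hres
    rw [← Nat.card_congr (Equiv.sigmaFiberEquiv F), Nat.card_sigma, Finset.sum_congr rfl (g := fun _ => N.index)
      fun θ _ => ?_, Finset.sum_const, Finset.card_univ, ← Nat.card_eq_fintype_card, smul_eq_mul]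
    rw [← (over_ext N hab θ.1 (E θ) (hE θ)).2]
    refine Nat.card_eq_of_bijective (fun x => ⟨x.1.1, (hF x.1).trans (by rw [x.2])⟩) ⟨?_, ?_⟩
    · intro x y h
      exact Subtype.ext (Subtype.ext (congrArg (fun z => z.1) h))
    · rintro ⟨β, hβ⟩
      have hβp : ¬ p ∣ charDegree (β : G → ℂ) := by
        have h1 : ((charDegree (β : G → ℂ) : ℕ) : ℂ) = (charDegree (θ.1 : N → ℂ) : ℕ) := by
          rw [← Block.ItoMichler.one_eq_cast β, ← Block.ItoMichler.one_eq_cast θ.1, ← congrFun hβ 1]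
          rfl
        rw [Nat.cast_injective h1]
        exact hθdeg θ.1
      refine ⟨⟨⟨β, hβp⟩, Subtype.ext (Subtype.ext ((hF ⟨β, hβp⟩).symm.trans hβ))⟩, rfl⟩
  -- the fixed points
  set C := N ⊓ Subgroup.centralizer ((P : Subgroup G) : Set G) with hC
  have := Fintype.ofFinite C
  have hnorm : ∀ s ∈ (P : Subgroup G), ∀ g ∈ N, s * g * s⁻¹ ∈ N := fun s _ g hg =>
    (inferInstance : N.Normal).conj_mem g hg s
  obtain ⟨hG1, -, hG3, hG4⟩ := Cfsg.Agent.S4444.result N (P : Subgroup G) hnorm (by rw [hPcard]; exact hcop) p hp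
    P.isPGroup' C rfl inf_le_left
  have hInv : ∀ θ : IrrCharacter N, (∀ g : G, conjFun N (θ : N → ℂ) g = (θ : N → ℂ)) ↔
      ∀ s ∈ (P : Subgroup G), ∀ g g' : N, (g' : G) = s * g * s⁻¹ → (θ : N → ℂ) g' = (θ : N → ℂ) g := by
    intro θ
    constructor
    · intro h s _ g g' hg
      rw [show g' = ⟨s * g * s⁻¹, (inferInstance : N.Normal).conj_mem _ g.2 s⟩ from Subtype.ext hg]
      exact congrFun (h s) g
    · intro h g
      obtain ⟨n, hn, x, hx, rfl⟩ := hsplit g
      rw [conjFun_mul, show conjFun N (θ : N → ℂ) n = (θ : N → ℂ) from funext fun m =>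
        isClassFunction_irr θ m ⟨n, hn⟩]
      exact funext fun m => h x hx m ⟨_, (inferInstance : N.Normal).conj_mem _ m.2 x⟩ rfl
  have hCN : Nat.card Inv = Nat.card (ConjClasses C) := by
    rw [← card_irr_eq_card_conjClasses]
    choose B hB hBu using fun θ : Inv => hG1 θ.1 ((hInv θ.1).1 θ.2)
    refine Nat.card_eq_of_bijective B ⟨fun a b h => ?_, fun β => ?_⟩
    · obtain ⟨m, h1, h2⟩ := hB a
      obtain ⟨m', h3, h4⟩ := hB b
      exact Subtype.ext (hG3 a.1 b.1 ((hInv a.1).1 a.2) ((hInv b.1).1 b.2) (B a) m m' h1 h2 (h ▸ h3) h4)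
    · obtain ⟨χ, hχ, m, h1, h2⟩ := hG4 β
      exact ⟨⟨χ, (hInv χ).2 hχ⟩, (hBu ⟨χ, (hInv χ).2 hχ⟩ β ⟨m, h1, h2⟩).symm⟩
  -- the classes of size prime to `p`
  have hPab : ∀ x ∈ (P : Subgroup G), ∀ y ∈ (P : Subgroup G), x * y = y * x := fun x hx y hy => by
    have h := hPN (x * y * x⁻¹ * y⁻¹)
      ((P : Subgroup G).mul_mem ((P : Subgroup G).mul_mem ((P : Subgroup G).mul_mem hx hy) ((P : Subgroup G).inv_mem hx))
        ((P : Subgroup G).inv_mem hy)) (hab x y)
    rw [mul_inv_eq_one, mul_inv_eq_iff_eq_mul] at h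
    exact h
  obtain ⟨j, hj1, hj2⟩ := Nat.chineseRemainder hcop 1 0
  have hpow : ∀ c ∈ C, ∀ x ∈ (P : Subgroup G), (c * x) ^ j = c := by
    intro c hc x hx
    have hcx : Commute c x := (Subgroup.mem_centralizer_iff.1 hc.2 x hx).symm
    have h1 : c ^ j = c := by
      rw [← pow_mod_orderOf, show j % orderOf c = 1 % orderOf c from
        hj1.of_dvd (N.orderOf_dvd_natCard hc.1), pow_mod_orderOf, pow_one]
    have h2 : x ^ j = 1 := orderOf_dvd_iff_pow_eq_one.1 (((P : Subgroup G).orderOf_dvd_natCard hx).trans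
      (hPcard ▸ Nat.modEq_zero_iff_dvd.1 hj2))
    rw [hcx.mul_pow, h1, h2, mul_one]
  have hK : Nat.card {K : ConjClasses G // ¬ p ∣ Nat.card K.carrier} = Nat.card (ConjClasses C) * N.index := by
    rw [← hPcard, ← Nat.card_prod]
    let f : C × (P : Subgroup G) → ConjClasses G := fun q => ConjClasses.mk ((q.1 : G) * (q.2 : G))
    have hcarr : ∀ g : G, Nat.card (ConjClasses.mk g).carrier = (Subgroup.centralizer ({g} : Set G)).index :=
      fun g => (Nat.card_coe_set_eq _).trans (CfsgLib.PGroup.ncard_carrier_eq_index g)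
    choose c hc using fun K : ConjClasses C => ConjClasses.exists_rep K
    refine (Nat.card_eq_of_bijective (fun q : ConjClasses C × (P : Subgroup G) =>
      (⟨f (c q.1, q.2), ?_⟩ : {K : ConjClasses G // ¬ p ∣ Nat.card K.carrier})) ⟨?_, ?_⟩).symm
    · rw [hcarr]
      intro hd
      refine P.not_dvd_index (hd.trans (Subgroup.index_dvd_of_le fun x hx => ?_))
      rw [Subgroup.mem_centralizer_singleton_iff]
      have h1 := Subgroup.mem_centralizer_iff.1 (c q.1).2.2 x hx
      show x * ((c q.1 : G) * (q.2 : G)) = (c q.1 : G) * (q.2 : G) * x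
      rw [← mul_assoc, h1, mul_assoc, mul_assoc, hPab x hx _ q.2.2]
    · rintro ⟨K, x⟩ ⟨K', x'⟩ h
      obtain ⟨g, hg⟩ := isConj_iff.1 (ConjClasses.mk_eq_mk_iff_isConj.1 (congrArg Subtype.val h :))
      obtain ⟨n, hn, y, hy, rfl⟩ := hsplit g
      have hcy := Subgroup.mem_centralizer_iff.1 (c K).2.2 y hy
      replace hg : n * ((c K : G) * (x : G)) * n⁻¹ = (c K' : G) * (x' : G) := by
        refine Eq.trans ?_ hg
        have hyx : Commute y ((c K : G) * (x : G)) := Commute.mul_right hcy (hPab y hy _ x.2)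
        show n * ((c K : G) * (x : G)) * n⁻¹ = n * y * ((c K : G) * (x : G)) * (n * y)⁻¹
        rw [show n * y * ((c K : G) * (x : G)) * (n * y)⁻¹ = n * (y * ((c K : G) * (x : G)) * y⁻¹) * n⁻¹ by group,
          hyx.eq, mul_inv_cancel_right]
      have hxx : x = x' := by
        apply hπ.1
        have h2 := congrArg (fun z : G => (z : G ⧸ N)) hg
        simp only [QuotientGroup.mk_mul, QuotientGroup.mk_inv, (QuotientGroup.eq_one_iff n).2 hn,
          (QuotientGroup.eq_one_iff (c K : G)).2 (c K).2.1, (QuotientGroup.eq_one_iff (c K' : G)).2 (c K').2.1,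
          one_mul, inv_one, mul_one] at h2
        exact h2
      have h3 := congrArg (fun z : G => z ^ j) hg
      simp only [conj_pow, hpow _ (c K).2 _ x.2, hpow _ (c K').2 _ x'.2] at h3
      refine Prod.ext ?_ hxx
      rw [← hc K, ← hc K', ConjClasses.mk_eq_mk_iff_isConj]
      exact CfsgLib.Block.Glauberman.isConj_of_isConj rfl P.isPGroup' hnorm hNp ⟨n, hn, h3⟩
    · rintro ⟨K, hK⟩
      obtain ⟨g, rfl⟩ := ConjClasses.exists_rep K
      rw [hcarr] at hK
      obtain ⟨S⟩ : Nonempty (Sylow p (Subgroup.centralizer ({g} : Set G))) := inferInstance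
      let S' : Sylow p G := Sylow.ofCard ((S : Subgroup _).map (Subgroup.centralizer ({g} : Set G)).subtype) (by
        rw [Subgroup.card_map_of_injective (Subgroup.subtype_injective _), S.card_eq_multiplicity,
          ← (Subgroup.centralizer ({g} : Set G)).card_mul_index, Nat.factorization_mul Nat.card_pos.ne'
          Subgroup.index_ne_zero_of_finite, Finsupp.add_apply, Nat.factorization_eq_zero_of_not_dvd hK, add_zero])
      obtain ⟨t, ht⟩ := MulAction.exists_smul_eq G S' P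
      have hPc : ∀ x ∈ (P : Subgroup G), x * (t * g * t⁻¹) = t * g * t⁻¹ * x := by
        intro x hx
        rw [← ht, Sylow.coe_subgroup_smul] at hx
        obtain ⟨y, hy, rfl⟩ := hx
        have h1 : y * g = g * y := Subgroup.mem_centralizer_singleton_iff.1 (Subgroup.map_subtype_le _ hy)
        show t * y * t⁻¹ * (t * g * t⁻¹) = t * g * t⁻¹ * (t * y * t⁻¹)
        rw [show t * y * t⁻¹ * (t * g * t⁻¹) = t * (y * g) * t⁻¹ by group, h1]
        group
      obtain ⟨n, hn, x, hx, hnx⟩ := hsplit (t * g * t⁻¹)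
      have hnC : n ∈ C := ⟨hn, Subgroup.mem_centralizer_iff.2 fun y hy => by
        have h1 := hPc y hy
        rw [hnx, ← mul_assoc, mul_assoc n x y, hPab x hx y hy, ← mul_assoc] at h1
        exact mul_right_cancel h1⟩
      refine ⟨(ConjClasses.mk ⟨n, hnC⟩, ⟨x, hx⟩), Subtype.ext ?_⟩
      show ConjClasses.mk _ = ConjClasses.mk g
      rw [ConjClasses.mk_eq_mk_iff_isConj]
      obtain ⟨u, hu⟩ := isConj_iff.1 (ConjClasses.mk_eq_mk_iff_isConj.1 (hc (ConjClasses.mk (⟨n, hnC⟩ : C))))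
      have hu' : (u : G) * (c (ConjClasses.mk ⟨n, hnC⟩) : G) * (u : G)⁻¹ = n := congrArg Subtype.val hu
      have hux := Subgroup.mem_centralizer_iff.1 u.2.2 x hx
      refine IsConj.trans (isConj_iff.2 ⟨(u : G), ?_⟩) ((isConj_iff.2 ⟨t, hnx⟩).symm)
      show (u : G) * ((c (ConjClasses.mk ⟨n, hnC⟩) : G) * x) * (u : G)⁻¹ = n * x
      have h5 : (u : G) * ((c (ConjClasses.mk ⟨n, hnC⟩) : G) * x) * (u : G)⁻¹ =
          (u : G) * (c (ConjClasses.mk ⟨n, hnC⟩) : G) * (u : G)⁻¹ * x := by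
        rw [mul_assoc, mul_assoc _ x, (Commute.inv_right (hux : Commute x (u : G))).eq, ← mul_assoc, ← mul_assoc]
      exact h5.trans (congrArg (· * x) hu')
  -- conclusion
  have h1 := Nat.card_congr (Equiv.sumCompl fun χ : IrrCharacter G => p ∣ charDegree (χ : G → ℂ))
  have h2 := Nat.card_congr (Equiv.sumCompl fun K : ConjClasses G => p ∣ Nat.card K.carrier)
  rw [Nat.card_sum, hone, hcount, hCN, card_irr_eq_card_conjClasses] at h1
  rw [Nat.card_sum, hK, ← h1] at h2
  omega

/-- Let p be a prime and G a finite group that is not nilpotent and has a normal p-complement (a normal subgroup of order prime to p and index a power of p). If G has exactly one irreducible complex character of degree divisible by p, then G has exactly one conjugacy class whose size is divisible by p. -/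
theorem result {G : Type*} [Group G] [Finite G] (p : ℕ) [Fact p.Prime] (hnil : ¬ Group.IsNilpotent G) (N : Subgroup G) [N.Normal] (hN : (Nat.card N).Coprime p) (hidx : ∃ k : ℕ, N.index = p ^ k) (hone : Nat.card {χ : Cfsg.IrrCharacter G // p ∣ Cfsg.charDegree (χ : G → ℂ)} = 1) : Nat.card {C : ConjClasses G // p ∣ Nat.card C.carrier} = 1 := by
  exact main p hnil N hN hidx hone

end Cfsg.Agent.S4763
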