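import Cfsg.Statements.S4765
import Cfsg.Agent.Lib.Char.SLTwoDegreeGraph

set_option autoImplicit false
open Cfsg

namespace Cfsg.Agent.S4765

/-- Let F be a finite field of characteristic p with at least 4 elements. Then PSL(2,F) has exactly one irreducible complex character of degree divisible by p, and its degree is the order of F. -/
theorem result (p : ℕ) [Fact p.Prime] (F : Type*) [Field F] [Fintype F] [CharP F p] (hF : 4 ≤ Fintype.card F) : Nat.card {χ : Cfsg.IrrCharacter (Matrix.ProjectiveSpecialLinearGroup (Fin 2) F) // p ∣ Cfsg.charDegree (χ : Matrix.ProjectiveSpecialLinearGroup (Fin 2) F → ℂ)} = 1 ∧ ∀ χ : Cfsg.IrrCharacter (Matrix.ProjectiveSpecialLinearGroup (Fin 2) F), p ∣ Cfsg.charDegree (χ : Matrix.ProjectiveSpecialLinearGroup (Fin 2) F → ℂ) → Cfsg.charDegree (χ : Matrix.ProjectiveSpecialLinearGroup (Fin 2) F → ℂ) = Fintype.card F := by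
  classical
  open CfsgLib.Char CfsgLib.Char.TwoChars in
  have hkey : ∀ χ : Cfsg.IrrCharacter (Matrix.ProjectiveSpecialLinearGroup (Fin 2) F),
      p ∣ Cfsg.charDegree (χ : Matrix.ProjectiveSpecialLinearGroup (Fin 2) F → ℂ) →
        (fun g : Matrix.SpecialLinearGroup (Fin 2) F => (χ : Matrix.ProjectiveSpecialLinearGroup (Fin 2) F → ℂ) g) = stSL ∧
        Cfsg.charDegree (χ : Matrix.ProjectiveSpecialLinearGroup (Fin 2) F → ℂ) = Fintype.card F := by
    intro χ hp
    let χ' : Cfsg.IrrCharacter (Matrix.SpecialLinearGroup (Fin 2) F) :=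
      ⟨fun g => (χ : Matrix.ProjectiveSpecialLinearGroup (Fin 2) F → ℂ) g,
        isIrrCharacter_comp_surjective χ.2
          (QuotientGroup.mk' (Subgroup.center (Matrix.SpecialLinearGroup (Fin 2) F)))
          (QuotientGroup.mk'_surjective _)⟩
    have hd : Cfsg.charDegree (χ' : Matrix.SpecialLinearGroup (Fin 2) F → ℂ) =
        Cfsg.charDegree (χ : Matrix.ProjectiveSpecialLinearGroup (Fin 2) F → ℂ) := rfl
    have hq : Cfsg.charDegree (χ' : Matrix.SpecialLinearGroup (Fin 2) F → ℂ) = Fintype.card F := by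
      obtain ⟨n, hpp, hn⟩ := FiniteField.card F p
      have hpq : p ∣ Fintype.card F := hn ▸ dvd_pow_self p n.ne_zero
      rcases sl_degree_cases χ' with e | e | e | e
      · rw [← hd, e] at hp; exact absurd (Nat.dvd_one.1 hp) hpp.ne_one
      · exact e
      · exact absurd (Nat.dvd_one.1 ((Nat.dvd_add_right hpq).1 ((hd ▸ hp).trans e))) hpp.ne_one
      · refine absurd (Nat.dvd_one.1 ?_) hpp.ne_one
        have := Nat.dvd_sub hpq ((hd ▸ hp).trans e)
        rwa [show Fintype.card F - (Fintype.card F - 1) = 1 by omega] at this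
    refine ⟨sl_deg_q χ' ?_, hd ▸ hq⟩
    obtain ⟨d, -, hd'⟩ := isIrrCharacter_degree χ'.2
    rw [hd', ← hq, charDegree_eq_of_cast _ hd']
  open CfsgLib.Char CfsgLib.Char.TwoChars in
  refine ⟨?_, fun χ hp => (hkey χ hp).2⟩
  open CfsgLib.Char CfsgLib.Char.TwoChars in
  rw [Nat.card_eq_one_iff_unique]
  refine ⟨⟨fun a b => Subtype.ext (Subtype.ext (funext fun x => ?_))⟩, ?_⟩
  · obtain ⟨g, rfl⟩ := QuotientGroup.mk_surjective x
    exact congrFun ((hkey a.1 a.2).1.trans (hkey b.1 b.2).1.symm) g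
  · obtain ⟨χ, hχ⟩ := CfsgLib.Char.TwoChars.q_mem_psl (F := F)
    obtain ⟨n, -, hn⟩ := FiniteField.card F p
    exact ⟨⟨χ, hχ.symm ▸ hn.symm ▸ dvd_pow_self p n.ne_zero⟩⟩

end Cfsg.Agent.S4765
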