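import Cfsg.Statements.S4768
import Cfsg.Agent.S4713
import Cfsg.Agent.Lib.Char.InvariantAbove
import Cfsg.Agent.Lib.Char.ExtendChar
import Cfsg.Agent.Lib.Char.ExtendCriteria
import Cfsg.Agent.Lib.Char.Inertia
import Cfsg.Agent.Lib.Char.CoprimeCyclicAction
import Cfsg.Agent.Lib.PGroup.PSolvable
import Cfsg.Agent.Lib.PGroup.CoprimeOrbits
import Cfsg.Agent.Lib.Coprime.Fitting

set_option autoImplicit false
open Cfsg

namespace Cfsg.Agent.S4768

section
open scoped ComplexConjugate commutatorElement Pointwise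
open CfsgLib.Char

universe u

variable {p : ℕ} [hp : Fact p.Prime]

private theorem exists_constituent {A : Type u} [Group A] [Fintype A] {f : A → ℂ}
    (hf : IsCharacter A f) {d : ℕ} (hd : f 1 = d) (hpd : ¬ p ∣ d) :
    ∃ θ : IrrCharacter A, classInner f (θ : A → ℂ) ≠ 0 ∧ ¬ p ∣ charDegree (θ : A → ℂ) := by
  classical
  haveI := Fintype.ofFinite (IrrCharacter A)
  by_contra hc
  push Not at hc
  apply hpd
  choose m hm using fun θ : IrrCharacter A => classInner_char_irr_nat hf θ
  have h1 := congrFun (classFun_expand (f := f) (isClassFunction_of_isCharacter hf)) 1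
  rw [hd, Finset.sum_apply] at h1
  have hd' : ∀ θ : IrrCharacter A, (θ : A → ℂ) 1 = (charDegree (θ : A → ℂ) : ℂ) := fun θ => by
    obtain ⟨b, -, hb⟩ := isIrrCharacter_degree θ.2
    simp [Cfsg.charDegree, hb]
  simp only [Pi.smul_apply, smul_eq_mul, hm, hd'] at h1
  have h2 : d = ∑ θ : IrrCharacter A, m θ * charDegree (θ : A → ℂ) := by exact_mod_cast h1
  rw [h2]
  refine Finset.dvd_sum fun θ _ => ?_
  by_cases h0 : m θ = 0
  · simp [h0]
  · exact dvd_mul_of_dvd_right (hc θ (by rw [hm]; exact_mod_cast h0)) _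

/-- The number of characters of degree divisible by `p`. -/
private noncomputable def nDiv (p : ℕ) (G : Type u) [Group G] : ℕ :=
  Nat.card {χ : IrrCharacter G // p ∣ charDegree (χ : G → ℂ)}

private theorem nDiv_quotient (G : Type u) [Group G] [Finite G] (M : Subgroup G) [M.Normal] :
    nDiv p (G ⧸ M) ≤ nDiv p G ∧ ((∃ χ : IrrCharacter G, p ∣ charDegree (χ : G → ℂ) ∧
      ∃ m ∈ M, (χ : G → ℂ) m ≠ (χ : G → ℂ) 1) → nDiv p (G ⧸ M) < nDiv p G) := by
  classical
  haveI := Fintype.ofFinite G
  haveI := Fintype.ofFinite (G ⧸ M)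
  let f : {χ : IrrCharacter (G ⧸ M) // p ∣ charDegree (χ : G ⧸ M → ℂ)} →
      {χ : IrrCharacter G // p ∣ charDegree (χ : G → ℂ)} := fun χ =>
    ⟨⟨fun g => (χ.1 : G ⧸ M → ℂ) (QuotientGroup.mk' M g),
      isIrrCharacter_comp_surjective χ.1.2 _ (QuotientGroup.mk'_surjective M)⟩, by
      have h := χ.2
      simpa [Cfsg.charDegree] using h⟩
  have hinj : Function.Injective f := fun a b h => Subtype.ext (Subtype.ext (funext fun x => by
    obtain ⟨g, rfl⟩ := QuotientGroup.mk'_surjective M x
    exact congrFun (congrArg (fun z => ((z.1 : IrrCharacter G) : G → ℂ)) h) g))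
  refine ⟨Nat.card_le_card_of_injective f hinj, ?_⟩
  rintro ⟨χ, hχ, m, hm, hne⟩
  haveI := Fintype.ofFinite {χ : IrrCharacter (G ⧸ M) // p ∣ charDegree (χ : G ⧸ M → ℂ)}
  haveI := Fintype.ofFinite {χ : IrrCharacter G // p ∣ charDegree (χ : G → ℂ)}
  rw [nDiv, nDiv, Nat.card_eq_fintype_card, Nat.card_eq_fintype_card]
  refine Fintype.card_lt_of_injective_of_notMem f hinj (b := ⟨χ, hχ⟩) ?_
  rintro ⟨a, ha⟩
  have h1 := fun g => congrFun (congrArg (fun z => ((z.1 : IrrCharacter G) : G → ℂ)) ha) g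
  apply hne
  have h2 := h1 m
  have h3 := h1 1
  simp only [f] at h2 h3
  rw [← h2, ← h3, map_one, show QuotientGroup.mk' M m = 1 from (QuotientGroup.eq_one_iff m).2 hm]

private theorem derived_of_hom {A B : Type u} [Group A] [Group B] (f : A →* B) {n : ℕ}
    (h : derivedSeries B n = ⊥) : derivedSeries A n ≤ f.ker := by
  intro x hx
  have h1 := map_derivedSeries_le_derivedSeries f n (Subgroup.mem_map_of_mem f hx)
  rw [h, Subgroup.mem_bot] at h1
  exact h1

private theorem derived_succ {A : Type u} [Group A] (n : ℕ) (N : Subgroup A)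
    (hN : ∀ a ∈ N, ∀ b ∈ N, a * b = b * a) (h : derivedSeries A n ≤ N) :
    derivedSeries A (n + 1) = ⊥ := by
  rw [derivedSeries_succ, ← le_bot_iff, Subgroup.commutator_le]
  intro a ha b hb
  rw [Subgroup.mem_bot, commutatorElement_eq_one_iff_mul_comm]
  exact hN a (h ha) b (h hb)

/-- If no character of degree divisible by `p` is nontrivial on the abelian `p`-group `M`, then a
Sylow subgroup has derived subgroup in `M`. -/
private theorem sylow_derived_le {G : Type u} [Group G] [Finite G] (hsolv : IsPSolvable p G)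
    (M : Subgroup G) [M.Normal] (hMp : IsPGroup p M) (hMc : ∀ a ∈ M, ∀ b ∈ M, a * b = b * a)
    (hM : M ≠ ⊥)
    (h : ∀ χ : IrrCharacter G, p ∣ charDegree (χ : G → ℂ) → ∀ m ∈ M, (χ : G → ℂ) m = (χ : G → ℂ) 1)
    (P : Sylow p G) : ∀ a ∈ (P : Subgroup G), ∀ b ∈ (P : Subgroup G), ⁅a, b⁆ ∈ M := by
  classical
  haveI := Fintype.ofFinite G
  haveI := Fintype.ofFinite M
  -- a nontrivial linear character of `M`
  obtain ⟨lam, hlam⟩ : ∃ lam : M →* ℂˣ, ∃ m : M, lam m ≠ 1 := by
    obtain ⟨m, hm1⟩ := Subgroup.ne_bot_iff_exists_ne_one.1 hM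
    letI : CommGroup M := { (inferInstance : Group M) with mul_comm := fun a b => Subtype.ext (hMc a a.2 b b.2) }
    obtain ⟨φ, hφ⟩ := CommGroup.exists_apply_ne_one_of_hasEnoughRootsOfUnity M ℂ hm1
    exact ⟨φ, m, hφ⟩
  set l : M → ℂ := fun m => (lam m : ℂ) with hl
  have hlirr : IsIrrCharacter M l := isIrrCharacter_lin lam
  have hl1 : l 1 = 1 := by simp [hl]
  have hnontriv : ∀ χ : IrrCharacter G, classInner (fun m : M => (χ : G → ℂ) m) l ≠ 0 →
      ∃ m ∈ M, (χ : G → ℂ) m ≠ (χ : G → ℂ) 1 := fun χ hχ => by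
    by_contra hc
    push Not at hc
    apply hχ
    have e : (fun m : M => (χ : G → ℂ) m) = ((χ : G → ℂ) 1) • (fun _ : M => (1 : ℂ)) :=
      funext fun m => by simp [hc m m.2]
    have h1 : (fun _ : M => (1 : ℂ)) = ((⟨_, isIrrCharacter_one⟩ : IrrCharacter M) : M → ℂ) := rfl
    rw [e, classInner_smul_left, h1, classInner_irr_ne (ψ := ⟨l, hlirr⟩) ?_, mul_zero]
    intro e'
    obtain ⟨m, hm⟩ := hlam
    exact hm (Units.ext (congrFun (congrArg Subtype.val e') m).symm)
  have hpdiv : ∀ χ : IrrCharacter G, classInner (fun m : M => (χ : G → ℂ) m) l ≠ 0 →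
      ¬ p ∣ charDegree (χ : G → ℂ) := fun χ hχ hd => by
    obtain ⟨m, hm, hne⟩ := hnontriv χ hχ
    exact hne (h χ hd m hm)
  set T := inertia M l with hT
  have hMT : M ≤ T := le_inertia M (isClassFunction_of_isCharacter (isCharacter_of_isIrr hlirr))
  haveI := Fintype.ofFinite T
  haveI := Fintype.ofFinite (IrrCharacter T)
  let incl : M →* T := Subgroup.inclusion hMT
  -- constituents of characters induced from `T`
  have hind : ∀ ψ : IrrCharacter T, ∀ e : ℕ, (ψ : T → ℂ) 1 = e →
      classInner (fun m : M => (ψ : T → ℂ) (incl m)) l = e → ¬ p ∣ T.index * e := by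
    intro ψ e he hel
    have hne : ∃ χ : IrrCharacter G, classInner (indFun T (ψ : T → ℂ)) (χ : G → ℂ) ≠ 0 := by
      by_contra hc
      push Not at hc
      have h0 := classFun_eq_zero_of_perp (isClassFunction_indFun T (ψ : T → ℂ)) hc
      have h1 := congrFun h0 1
      rw [indFun_one, Pi.zero_apply, mul_eq_zero] at h1
      rcases h1 with h1 | h1
      · exact Subgroup.index_ne_zero_of_finite (by exact_mod_cast h1)
      · exact irr_one_ne_zero ψ h1
    obtain ⟨χ, hχ⟩ := hne
    obtain ⟨a, -, ha⟩ := isIrrCharacter_degree χ.2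
    have hle := (degree_le_of_constituent (isCharacter_indFun T (isCharacter_irr ψ)) χ hχ
      (a := T.index * e) (b := a) (by rw [indFun_one, he, Nat.cast_mul]) ha).1
    have hχT : classInner (fun t : T => (χ : G → ℂ) t) (ψ : T → ℂ) ≠ 0 := by
      rw [classInner_indFun T _ _ (isClassFunction_irr χ), ← classInner_conj] at hχ
      exact fun h0 => hχ (by rw [h0, map_zero])
    have hs := isCharacter_sub_constituent (isCharacter_comp (isCharacter_irr χ) T.subtype) ψ hχT
    obtain ⟨s, hs'⟩ := classInner_isCharacter (isCharacter_comp hs incl) (isCharacter_of_isIrr hlirr)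
    have hsum : classInner (fun m : M => (χ : G → ℂ) m) l = ((s + e : ℕ) : ℂ) := by
      rw [Nat.cast_add, ← hs', ← hel, ← classInner_add_left]
      congr 1
      funext m
      simp [incl]
    have he0 : e ≠ 0 := fun h0 => irr_one_ne_zero ψ (by rw [he, h0, Nat.cast_zero])
    have hne' : classInner (fun m : M => (χ : G → ℂ) m) l ≠ 0 := by
      rw [hsum, Nat.cast_ne_zero]; omega
    have hdeg := clifford_degree M χ.2 hlirr hne'
    rw [hsum, hl1, mul_one, ha, ← Nat.cast_mul, Nat.cast_inj] at hdeg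
    have hge : T.index * e ≤ a := by
      rw [hdeg, mul_comm]; exact Nat.mul_le_mul_right _ (Nat.le_add_left e s)
    have heq : a = T.index * e := le_antisymm hle hge
    rw [← heq]
    have hc := hpdiv χ hne'
    rwa [Cfsg.charDegree, ha, Complex.natCast_re, Nat.floor_natCast] at hc
  -- one character of `T` over `l`
  obtain ⟨χ0, hχ0⟩ : ∃ χ : IrrCharacter G, classInner (fun m : M => (χ : G → ℂ) m) l ≠ 0 := by
    by_contra hc
    push Not at hc
    have h0 := classFun_eq_zero_of_perp (isClassFunction_indFun M l) fun χ => by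
      rw [classInner_indFun M _ _ (isClassFunction_irr χ), ← classInner_conj, hc χ, map_zero]
    have h1 := congrFun h0 1
    rw [indFun_one, hl1, mul_one, Pi.zero_apply] at h1
    exact Subgroup.index_ne_zero_of_finite (by exact_mod_cast h1)
  obtain ⟨ψ, hψ, hψind, hψinner⟩ := exists_inertia_correspondent_inner M χ0.2 hlirr hχ0
  obtain ⟨d, -, hd⟩ := isIrrCharacter_degree χ0.2
  obtain ⟨e, he0, he⟩ := isIrrCharacter_degree hψ
  have hψl : classInner (fun m : M => ψ (incl m)) l = (e : ℂ) := by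
    have h1 := hψinner hMT
    have hdeg := clifford_degree M χ0.2 hlirr hχ0
    have h2 := congrFun hψind 1
    rw [indFun_one, he] at h2
    rw [h2, hl1, mul_one] at hdeg
    rw [show (fun m : M => ψ (incl m)) = fun m : M => ψ (Subgroup.inclusion hMT m) from rfl, h1]
    have hT0 : (T.index : ℂ) ≠ 0 := Nat.cast_ne_zero.2 Subgroup.index_ne_zero_of_finite
    apply mul_right_cancel₀ hT0
    rw [← hdeg]; ring
  have hTe : ¬ p ∣ T.index * e := hind ⟨ψ, hψ⟩ e he hψl
  -- a Sylow subgroup inside `T`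
  obtain ⟨S⟩ : Nonempty (Sylow p T) := inferInstance
  haveI := Fintype.ofFinite (S : Subgroup T)
  have hMS : M.subgroupOf T ≤ (S : Subgroup T) := by
    have hp1 : IsPGroup p (M.subgroupOf T) := hMp.of_equiv (Subgroup.subgroupOfEquivOfLe hMT).symm
    exact le_sup_right.trans (S.3 (S.2.to_sup_of_normal_right hp1) le_sup_left).le
  obtain ⟨μ, hμne, hμd⟩ := exists_constituent (p := p)
    (isCharacter_comp (isCharacter_of_isIrr hψ) (S : Subgroup T).subtype) (d := e) (by simpa using he)
    fun hdd => hTe (dvd_mul_of_dvd_right hdd _)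
  have hμ1 : (μ : ↥(S : Subgroup T) → ℂ) 1 = 1 := by
    obtain ⟨b, -, hb⟩ := isIrrCharacter_degree μ.2
    have hdvd := degree_dvd_card μ hb
    obtain ⟨k, hk⟩ := IsPGroup.iff_card.1 S.2
    rw [hk] at hdvd
    obtain ⟨j, -, hj⟩ := (Nat.dvd_prime_pow hp.out).1 hdvd
    rw [Cfsg.charDegree, hb, Complex.natCast_re, Nat.floor_natCast, hj] at hμd
    rcases Nat.eq_zero_or_pos j with rfl | hj0
    · rw [hb, hj, pow_zero, Nat.cast_one]
    · exact absurd (dvd_pow_self p hj0.ne') hμd
  let inS : M →* (S : Subgroup T) := incl.codRestrict (S : Subgroup T) fun m => hMS m.2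
  have hμM : ∀ m : M, (μ : ↥(S : Subgroup T) → ℂ) (inS m) = l m := by
    have hν : IsCharacter M (fun m : M => (μ : ↥(S : Subgroup T) → ℂ) (inS m)) :=
      isCharacter_comp (isCharacter_irr μ) inS
    have hν1 : (fun m : M => (μ : ↥(S : Subgroup T) → ℂ) (inS m)) 1 = 1 := by simpa using hμ1
    obtain ⟨nu, hnu⟩ := exists_hom_of_linear hν hν1
    by_contra hne
    have hne' : (⟨fun m => (nu m : ℂ), isIrrCharacter_lin nu⟩ : IrrCharacter M) ≠ ⟨l, hlirr⟩ :=
      fun e' => hne fun m => (congrFun hnu m).trans (congrFun (congrArg Subtype.val e') m)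
    have hs := isCharacter_sub_constituent
      (isCharacter_comp (isCharacter_of_isIrr hψ) (S : Subgroup T).subtype) μ hμne
    obtain ⟨s, hs'⟩ := classInner_isCharacter (isCharacter_comp hs inS)
      (isCharacter_of_isIrr (isIrrCharacter_lin nu))
    have hψeq : (fun m : M => ψ (incl m)) = (e : ℂ) • l := by
      haveI := Fintype.ofFinite (IrrCharacter M)
      funext m
      obtain ⟨k, ρ, hρ, hρe⟩ := hψ
      have hscal : classInner (fun m : M => ψ (incl m)) l = (e : ℂ) := hψl
      have hcl : IsCharacter M (fun m : M => ψ (incl m)) :=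
        isCharacter_comp ⟨k, ρ, hρe⟩ incl
      have hexp := classFun_expand (f := fun m : M => ψ (incl m))
        (isClassFunction_of_isCharacter hcl)
      choose c hc using fun θ : IrrCharacter M => classInner_char_irr_nat hcl θ
      have h1 := congrFun hexp 1
      simp only [Finset.sum_apply, Pi.smul_apply, smul_eq_mul, hc, map_one, he] at h1
      have hdθ : ∀ θ : IrrCharacter M, (θ : M → ℂ) 1 = 1 :=
        degree_one_of_comm fun a b => Subtype.ext (hMc a a.2 b b.2)
      simp only [hdθ, mul_one] at h1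
      have h2 : e = ∑ θ : IrrCharacter M, c θ := by exact_mod_cast h1
      have hcl' : c ⟨l, hlirr⟩ = e := by
        have := hc ⟨l, hlirr⟩
        rw [hscal] at this
        exact_mod_cast this.symm
      have h3 : ∀ θ : IrrCharacter M, θ ≠ ⟨l, hlirr⟩ → c θ = 0 := fun θ hθ => by
        have hle := Finset.add_le_sum (s := (Finset.univ : Finset (IrrCharacter M))) (f := c)
          (fun i _ => Nat.zero_le _) (Finset.mem_univ θ) (Finset.mem_univ _) hθ
        omega
      have h4 := congrFun hexp m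
      rw [h4, Finset.sum_apply, Finset.sum_eq_single (⟨l, hlirr⟩ : IrrCharacter M)
        (fun θ _ hθ => by rw [Pi.smul_apply, hc, h3 θ hθ, Nat.cast_zero, zero_smul])
        fun hh => absurd (Finset.mem_univ _) hh, Pi.smul_apply, Pi.smul_apply, hscal]
    have hpos : classInner (fun m : M => ψ (incl m)) (fun m => (nu m : ℂ)) = ((s + 1 : ℕ) : ℂ) := by
      have h7 : classInner (fun m : M => (μ : ↥(S : Subgroup T) → ℂ) (inS m)) (fun m => (nu m : ℂ)) = 1 := by
        rw [hnu]; exact classInner_irr_self ⟨_, isIrrCharacter_lin nu⟩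
      rw [Nat.cast_add, Nat.cast_one, ← hs', ← h7, ← classInner_add_left]
      congr 1
      funext m
      simp [inS]
    rw [hψeq, classInner_smul_left, show classInner l (fun m => (nu m : ℂ)) = 0 from
      classInner_irr_ne (χ := ⟨l, hlirr⟩) (ψ := ⟨_, isIrrCharacter_lin nu⟩) hne'.symm, mul_zero] at hpos
    exact absurd hpos.symm (Nat.cast_ne_zero.2 (Nat.succ_ne_zero s))
  -- extend to `T`
  let eT : M.subgroupOf T ≃* M := Subgroup.subgroupOfEquivOfLe hMT
  haveI := Fintype.ofFinite (M.subgroupOf T)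
  obtain ⟨f, hf⟩ := exists_linear_ext (M.subgroupOf T) (fun x => l (eT x))
    ⟨isCharacter_comp (isCharacter_of_isIrr hlirr) eT.toMonoidHom, by simp [hl1]⟩
    (fun t x => congrFun ((mem_inertia M l (t : G)).mp t.2) (eT x))
    (fun r hr _ hro => by
      have hord : orderOf (fun x : M.subgroupOf T => l (eT x)) ∣ Nat.card M := by
        refine orderOf_dvd_of_pow_eq_one (funext fun x => ?_)
        rw [Pi.pow_apply, Pi.one_apply, hl]
        simp only
        rw [← Units.val_pow_eq_pow_val, ← map_pow, pow_card_eq_one', map_one, Units.val_one]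
      obtain ⟨k, hk⟩ := IsPGroup.iff_card.1 hMp
      have hrp : r = p := (Nat.prime_dvd_prime_iff_eq hr hp.out).1
        (hr.dvd_of_dvd_pow (hk ▸ hro.trans hord))
      subst hrp
      exact ⟨(S : Subgroup T), hMS, (μ : ↥(S : Subgroup T) → ℂ), S.not_dvd_index, isCharacter_irr μ,
        fun x => hμM ⟨(x : T), x.2⟩⟩)
  set M' := M.subgroupOf T with hM'
  -- all characters of `T / M` have degree prime to `p`
  have hall : ∀ β : IrrCharacter (T ⧸ M'), ¬ p ∣ charDegree (β : T ⧸ M' → ℂ) := by
    intro β hβ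
    let β0 : IrrCharacter T := ⟨fun t => (β : T ⧸ M' → ℂ) (QuotientGroup.mk' M' t),
      isIrrCharacter_comp_surjective β.2 _ (QuotientGroup.mk'_surjective M')⟩
    let ψ0 : IrrCharacter T := ⟨fun t => (f t : ℂ) * (β0 : T → ℂ) t, isIrrCharacter_mul_linear β0 f⟩
    obtain ⟨b, hb0, hb⟩ := isIrrCharacter_degree β.2
    have h1 : (ψ0 : T → ℂ) 1 = (b : ℂ) := by
      show (f 1 : ℂ) * (β : T ⧸ M' → ℂ) (QuotientGroup.mk' M' 1) = _
      rw [map_one, map_one, Units.val_one, one_mul, hb]
    have h2 : classInner (fun m : M => (ψ0 : T → ℂ) (incl m)) l = (b : ℂ) := by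
      have h4 : (fun m : M => (ψ0 : T → ℂ) (incl m)) = (b : ℂ) • l := funext fun m => by
        show (f (incl m) : ℂ) * (β : T ⧸ M' → ℂ) (QuotientGroup.mk' M' (incl m)) = (b : ℂ) * l m
        have h5 : incl m ∈ M' := m.2
        rw [show QuotientGroup.mk' M' (incl m) = 1 from (QuotientGroup.eq_one_iff _).2 h5, hb,
          show (f (incl m) : ℂ) = l m from hf ⟨incl m, h5⟩, mul_comm]
      rw [h4, classInner_smul_left, show classInner l l = 1 from classInner_irr_self ⟨l, hlirr⟩, mul_one]
    refine hind ψ0 b h1 h2 (dvd_mul_of_dvd_right ?_ _)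
    rwa [Cfsg.charDegree, hb, Complex.natCast_re, Nat.floor_natCast] at hβ
  have hsT : IsPSolvable p T := CfsgLib.CoprimeOrbit.isPSolvable_subgroup hp.out hsolv T
  have hab := ((Cfsg.Agent.S4713.result p (CfsgLib.PGroup.isPSolvable_quotient hp.out hsT M')
    (S.mapSurjective (QuotientGroup.mk'_surjective M'))).2 hall).2
  -- `S` gives a Sylow subgroup of `G`
  set S' := (S : Subgroup T).map T.subtype with hS'
  have hTp : ¬ p ∣ T.index := fun hd => hTe (dvd_mul_of_dvd_left hd _)
  obtain ⟨Q, hQ⟩ := (S.2.map T.subtype).exists_le_sylow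
  have hQeq : S' = (Q : Subgroup G) := by
    refine Subgroup.eq_of_le_of_card_ge hQ ?_
    rw [hS', Subgroup.card_map_of_injective T.subtype_injective, S.card_eq_multiplicity,
      Q.card_eq_multiplicity, ← T.index_mul_card, Nat.factorization_mul Subgroup.index_ne_zero_of_finite
      Nat.card_pos.ne', Finsupp.add_apply, Nat.factorization_eq_zero_of_not_dvd hTp, zero_add]
  obtain ⟨g, hg⟩ := MulAction.exists_smul_eq G Q P
  intro a ha b hb
  have hmem : ∀ x ∈ (P : Subgroup G), g⁻¹ * x * g ∈ S' := fun x hx => by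
    rw [← hg] at hx
    change x ∈ (MulAut.conj g • (Q : Subgroup G)) at hx
    rw [Subgroup.mem_pointwise_smul_iff_inv_smul_mem] at hx
    simpa [hQeq, MulAut.smul_def, ← map_inv, mul_assoc] using hx
  obtain ⟨a', ha', hae⟩ := hmem a ha
  obtain ⟨b', hb', hbe⟩ := hmem b hb
  have hc : ⁅a', b'⁆ ∈ M' := by
    rw [← QuotientGroup.eq_one_iff, ← QuotientGroup.mk'_apply, map_commutatorElement,
      commutatorElement_eq_one_iff_mul_comm]
    exact congrArg Subtype.val (hab.is_comm.comm
      ⟨_, Subgroup.mem_map_of_mem _ ha'⟩ ⟨_, Subgroup.mem_map_of_mem _ hb'⟩)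
  have hc' : T.subtype ⁅a', b'⁆ ∈ M := hc
  rw [map_commutatorElement, hae, hbe] at hc'
  have := (inferInstance : M.Normal).conj_mem _ hc' g
  rw [show g * ⁅g⁻¹ * a * g, g⁻¹ * b * g⁆ * g⁻¹ = ⁅a, b⁆ by
    simp only [commutatorElement_def]; group] at this
  exact this

private theorem main_bound : ∀ (N : ℕ) (G : Type u) [Group G] [Finite G], Nat.card G = N →
    IsPSolvable p G → ∀ P : Sylow p G, derivedSeries (P : Subgroup G) (nDiv p G + 1) = ⊥ := by
  intro N
  induction N using Nat.strong_induction_on with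
  | _ N ih =>
  intro G _ _ hN hsolv P
  rcases subsingleton_or_nontrivial G with hG | hG
  · exact Subsingleton.elim _ _
  have hchoose : ∃ M : Subgroup G, M.Normal ∧ M ≠ ⊥ ∧
      ((IsPGroup p M ∧ ∀ a ∈ M, ∀ b ∈ M, a * b = b * a) ∨ (Nat.card M).Coprime p) := by
    haveI : (Cfsg.pCore p G).Normal := CfsgLib.Coprime.pCore_normal' p
    rcases CfsgLib.PGroup.pCore_ne_bot_or_pPrimeCore_ne_bot hsolv with h | h
    · obtain ⟨M, hMn, hM1, hMle, hMmin⟩ := CfsgLib.Coprime.exists_minimal_normal_le h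
      haveI := hMn
      have hMp : IsPGroup p M := (CfsgLib.Coprime.pCore_isPGroup p).to_le hMle
      haveI : Group.IsSolvable M := by haveI := hMp.isNilpotent; infer_instance
      exact ⟨M, hMn, hM1, Or.inl ⟨hMp, (CfsgLib.Coprime.minimal_normal_solvable hM1 hMmin).1⟩⟩
    · exact ⟨_, inferInstance, h, Or.inr (CfsgLib.Coprime.pPrimeCore_coprime hp.out)⟩
  obtain ⟨M, hMn, hM1, hM⟩ := hchoose
  haveI := hMn
  set π := QuotientGroup.mk' M with hπ
  have hlt : Nat.card (G ⧸ M) < N := by
    rw [← hN, ← M.index_eq_card, ← M.index_mul_card]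
    exact lt_mul_of_one_lt_right (Nat.pos_of_ne_zero M.index_ne_zero_of_finite)
      (M.one_lt_card_iff_ne_bot.2 hM1)
  have hQ := ih _ hlt (G ⧸ M) rfl (CfsgLib.PGroup.isPSolvable_quotient hp.out hsolv M)
    (P.mapSurjective (QuotientGroup.mk'_surjective M))
  obtain ⟨hle, hstrict⟩ := nDiv_quotient (p := p) G M
  let φ : (P : Subgroup G) →* ↥(P.mapSurjective (QuotientGroup.mk'_surjective M) : Subgroup (G ⧸ M)) :=
    (π.comp (P : Subgroup G).subtype).codRestrict _ fun x => Subgroup.mem_map_of_mem π x.2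
  have hker : ∀ x, x ∈ φ.ker → (x : G) ∈ M := fun x hx =>
    (QuotientGroup.eq_one_iff (N := M) (x : G)).1 (congrArg Subtype.val hx)
  rcases hM with ⟨hMp, hMc⟩ | hMcop
  swap
  · refine le_bot_iff.1 ((derivedSeries_antitone _ (Nat.succ_le_succ hle)).trans fun x hx => ?_)
    have hxM := hker x (derived_of_hom φ hQ hx)
    obtain ⟨k, hk⟩ := P.2 x
    obtain ⟨j, hj⟩ := (Nat.dvd_prime_pow hp.out).1 (orderOf_dvd_of_pow_eq_one hk)
    have h1 : orderOf (x : G) = 1 := Nat.eq_one_of_dvd_coprimes (Nat.Coprime.pow_left k hMcop.symm)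
      (orderOf_dvd_of_pow_eq_one (show (x : G) ^ p ^ k = 1 from congrArg Subtype.val hk))
      (Subgroup.orderOf_dvd_natCard M hxM)
    rw [Subgroup.mem_bot]
    exact Subtype.ext (orderOf_eq_one_iff.1 h1)
  by_cases hex : ∃ χ : IrrCharacter G, p ∣ charDegree (χ : G → ℂ) ∧
      ∃ m ∈ M, (χ : G → ℂ) m ≠ (χ : G → ℂ) 1
  · refine derived_succ _ (M.subgroupOf (P : Subgroup G))
      (fun a ha b hb => Subtype.ext (hMc a ha b hb))
      ((derivedSeries_antitone _ (Nat.succ_le_of_lt (hstrict hex))).trans fun x hx =>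
        hker x (derived_of_hom φ hQ hx))
  rcases Nat.eq_zero_or_pos (nDiv p G) with h0 | h0
  · rw [h0]
    have hab := ((Cfsg.Agent.S4713.result p hsolv P).2 fun χ hχ => ?_).2
    · refine derived_succ 0 ⊤ (fun a _ b _ => hab.is_comm.comm a b) le_top
    · haveI : IsEmpty {χ : IrrCharacter G // p ∣ charDegree (χ : G → ℂ)} :=
        Finite.card_eq_zero_iff.1 h0
      exact IsEmpty.false (⟨χ, hχ⟩ : {χ : IrrCharacter G // p ∣ charDegree (χ : G → ℂ)})
  push Not at hex
  have hd1 : derivedSeries (P : Subgroup G) 1 ≤ M.subgroupOf (P : Subgroup G) := by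
    rw [derivedSeries_succ, Subgroup.commutator_le]
    intro a _ b _
    show (P : Subgroup G).subtype ⁅a, b⁆ ∈ M
    rw [map_commutatorElement]
    exact sylow_derived_le hsolv M hMp hMc hM1 hex P a a.2 b b.2
  refine le_bot_iff.1 ((derivedSeries_antitone _ (Nat.succ_le_succ (show 1 ≤ nDiv p G from h0))).trans ?_)
  exact (derived_succ 1 _ (fun a ha b hb => Subtype.ext (hMc a ha b hb)) hd1).le


end

/-- Let p be a prime, G a finite p-solvable group and P a Sylow p-subgroup of G. If n is the number of irreducible complex characters of G whose degree is divisible by p, then the (n+1)-st term of the derived series of P is trivial. (The p-solvable case has a direct inductive proof.) -/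
theorem result {G : Type*} [Group G] [Finite G] (p : ℕ) [Fact p.Prime] (hG : Cfsg.IsPSolvable p G) (P : Sylow p G) : derivedSeries ↥(P : Subgroup G) (Nat.card {χ : Cfsg.IrrCharacter G // p ∣ Cfsg.charDegree (χ : G → ℂ)} + 1) = ⊥ := by
  exact main_bound (Nat.card G) G rfl hG P

end Cfsg.Agent.S4768
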