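import Cfsg.Statements.S4779
import Cfsg.Agent.Lib.DegComp.Shape

set_option autoImplicit false
open Cfsg

namespace Cfsg.Agent.S4779

/-- Let N be a solvable normal subgroup of the finite group G contained in the derived subgroup of G, and consider the common-divisor graph on the relative degree set cd(G|N) (degrees of irreducible complex characters of G whose kernel does not contain N, two distinct degrees adjacent when not coprime). If this graph has two vertices that are not joined by any path, then there is a vertex a₀ such that any two distinct vertices in the component of a₀ are adjacent, and any two distinct vertices outside that component are adjacent or have a common neighbour (one component is complete, the other has diameter at most 2). -/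
theorem result {G : Type*} [Group G] [Finite G] (N : Subgroup G) [N.Normal] [Group.IsSolvable N] (hNG : N ≤ commutator G) (hdisc : ¬ (Cfsg.commonDivisorGraph.induce (Cfsg.relCharDegrees N)).Preconnected) : ∃ a₀ : ↥(Cfsg.relCharDegrees N), (∀ b c : ↥(Cfsg.relCharDegrees N), (Cfsg.commonDivisorGraph.induce (Cfsg.relCharDegrees N)).Reachable a₀ b → (Cfsg.commonDivisorGraph.induce (Cfsg.relCharDegrees N)).Reachable a₀ c → b ≠ c → (Cfsg.commonDivisorGraph.induce (Cfsg.relCharDegrees N)).Adj b c) ∧ (∀ b c : ↥(Cfsg.relCharDegrees N), ¬ (Cfsg.commonDivisorGraph.induce (Cfsg.relCharDegrees N)).Reachable a₀ b → ¬ (Cfsg.commonDivisorGraph.induce (Cfsg.relCharDegrees N)).Reachable a₀ c → b ≠ c → (Cfsg.commonDivisorGraph.induce (Cfsg.relCharDegrees N)).Adj b c ∨ ∃ d : ↥(Cfsg.relCharDegrees N), (Cfsg.commonDivisorGraph.induce (Cfsg.relCharDegrees N)).Adj b d ∧ (Cfsg.commonDivisorGraph.induce (Cfsg.relCharDegrees N)).Adj d c) := by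
  have := Fintype.ofFinite G
  exact CfsgLib.DegComp.exists_complete_component N hNG hdisc

end Cfsg.Agent.S4779
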