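import Cfsg.Statements.S4782
import Cfsg.Agent.Lib.Char.DegreePrimesTwo
-- import your own Cfsg.Agent.* helpers here

set_option autoImplicit false
open Cfsg

namespace Cfsg.Agent.S4782

/-- If the finite group G is not solvable, then at least three distinct primes each divide some irreducible complex character degree of G. -/
theorem result {G : Type*} [Group G] [Finite G] (hG : ¬ Group.IsSolvable G) : ∃ p q r : ℕ, p ≠ q ∧ q ≠ r ∧ p ≠ r ∧ p ∈ Cfsg.degreePrimes G ∧ q ∈ Cfsg.degreePrimes G ∧ r ∈ Cfsg.degreePrimes G := by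
  have hcov : ∀ a b : ℕ, ∃ r ∈ Cfsg.degreePrimes G, r ≠ a ∧ r ≠ b := by
    intro a b
    by_contra hc
    refine hG (CfsgLib.Char.DegreePrimesTwo.isSolvable_of_subset_pair _ G rfl a b fun r hr => ?_)
    by_contra hr'
    exact hc ⟨r, hr, fun h => hr' (Or.inl h), fun h => hr' (Or.inr h)⟩
  obtain ⟨p, hp, -, -⟩ := hcov 0 0
  obtain ⟨q, hq, hqp, -⟩ := hcov p p
  obtain ⟨r, hr, hrp, hrq⟩ := hcov p q
  exact ⟨p, q, r, hqp.symm, hrq.symm, hrp.symm, hp, hq, hr⟩

end Cfsg.Agent.S4782
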