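import Cfsg.Statements.S4784
import Cfsg.Agent.Lib.Char.SquareRoots
import Cfsg.Agent.Lib.Char.RealChar
import Cfsg.Agent.Lib.Char.AbelianTIBound
import Cfsg.Agent.Lib.Block.CentralDefect

set_option autoImplicit false
open Cfsg

namespace Cfsg.Agent.S4784

/-- Let H be a subgroup of the finite group G and consider the permutation character of G on the cosets of H (the function induced from the principal character of H). Then exactly one irreducible constituent of it is real-valued with Frobenius–Schur indicator +1 (namely the principal character) if and only if the normal core of H has odd index in G. -/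
theorem result {G : Type*} [Group G] [Fintype G] (H : Subgroup G) : Nat.card {χ : Cfsg.IrrCharacter G // Cfsg.classInner (Cfsg.indFun H (fun _ : H => (1 : ℂ))) (χ : G → ℂ) ≠ 0 ∧ (∀ g : G, (starRingEnd ℂ) ((χ : G → ℂ) g) = (χ : G → ℂ) g) ∧ (Nat.card G : ℂ)⁻¹ * ∑ g : G, (χ : G → ℂ) (g * g) = 1} = 1 ↔ Odd H.normalCore.index := by
  classical
  have := Fintype.ofFinite H
  have := Fintype.ofFinite (IrrCharacter G)
  let triv : IrrCharacter G := ⟨fun _ => 1, CfsgLib.Char.isIrrCharacter_one⟩
  set π := Cfsg.indFun H (fun _ : H => (1 : ℂ)) with hπ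
  set K := H.normalCore with hK
  haveI : K.Normal := Subgroup.normalCore_normal H
  have := Fintype.ofFinite K
  have hKH : K ≤ H := Subgroup.normalCore_le H
  have hinner : ∀ χ : IrrCharacter G, Cfsg.classInner π (χ : G → ℂ) =
      (Nat.card H : ℂ)⁻¹ * ∑ h : H, (starRingEnd ℂ) ((χ : G → ℂ) h) := by
    intro χ
    rw [hπ, CfsgLib.Char.classInner_indFun H _ _ (CfsgLib.Char.isClassFunction_irr χ), Cfsg.classInner]
    simp
  have hchar : Cfsg.IsCharacter G π :=
    CfsgLib.Char.isCharacter_indFun H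
      (CfsgLib.Char.isCharacter_of_isIrr CfsgLib.Char.isIrrCharacter_one)
  choose m hm using fun χ : IrrCharacter G => CfsgLib.Char.classInner_char_irr_nat hchar χ
  have hmsum : ∀ χ : IrrCharacter G,
      (Nat.card H : ℂ) * (m χ : ℂ) = ∑ h : H, (χ : G → ℂ) h := by
    intro χ
    have h := congrArg (starRingEnd ℂ) ((hinner χ).symm.trans (hm χ))
    simp only [map_mul, map_inv₀, Complex.conj_natCast, map_sum, Complex.conj_conj] at h
    rw [← h, mul_inv_cancel_left₀ (Nat.cast_ne_zero.mpr Nat.card_pos.ne')]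
  have hmtriv : m triv = 1 := by
    have h := hmsum triv
    simp only [triv, Finset.sum_const, Finset.card_univ, ← Nat.card_eq_fintype_card,
      nsmul_eq_mul, mul_one] at h
    have := mul_left_cancel₀ (Nat.cast_ne_zero.mpr Nat.card_pos.ne') (h.trans (mul_one _).symm)
    exact_mod_cast this
  have htrivmem : Cfsg.classInner π ((triv : IrrCharacter G) : G → ℂ) ≠ 0 ∧
      (∀ g : G, (starRingEnd ℂ) ((triv : G → ℂ) g) = (triv : G → ℂ) g) ∧
      (Nat.card G : ℂ)⁻¹ * ∑ g : G, (triv : G → ℂ) (g * g) = 1 :=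
    ⟨by rw [hm, hmtriv]; simp, fun g => map_one _, CfsgLib.Char.sqInd_one⟩
  rw [Nat.card_eq_one_iff_unique]
  constructor
  · rintro ⟨hsub, -⟩
    by_contra hev
    rw [Nat.not_odd_iff_even, Subgroup.index_eq_card] at hev
    obtain ⟨q, hq⟩ := exists_prime_orderOf_dvd_card' 2 (even_iff_two_dvd.mp hev)
    obtain ⟨g, rfl⟩ := QuotientGroup.mk_surjective q
    have hgK : g ∉ K := fun h => by
      rw [(QuotientGroup.eq_one_iff g).mpr h, orderOf_one] at hq
      omega
    have hg2 : g * g ∈ K := by
      rw [← QuotientGroup.eq_one_iff, QuotientGroup.mk_mul, ← pow_two, ← hq, pow_orderOf_eq_one]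
    obtain ⟨b, hb⟩ : ∃ b : G, b * g * b⁻¹ ∉ H := by
      by_contra hc
      push Not at hc
      exact hgK hc
    have hbb : b * g * b⁻¹ * (b * g * b⁻¹) ∈ H := by
      rw [show b * g * b⁻¹ * (b * g * b⁻¹) = b * (g * g) * b⁻¹ by group]
      exact hKH (‹K.Normal›.conj_mem _ hg2 b)
    -- more square roots than elements
    have hcount : Nat.card H + 1 ≤ ∑ h : H, Nat.card {s : G // s * s = (h : G)} := by
      rw [← Nat.card_sigma, ← Finite.card_option]
      refine Nat.card_le_card_of_injective (fun o => match o with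
        | none => ⟨⟨_, hbb⟩, ⟨b * g * b⁻¹, rfl⟩⟩
        | some h => ⟨⟨(h : G) * h, H.mul_mem h.2 h.2⟩, ⟨(h : G), rfl⟩⟩) ?_
      intro x y e
      have e' := congrArg (fun w : (Σ h : H, {s : G // s * s = (h : G)}) => w.2.1) e
      match x, y with
      | none, none => rfl
      | none, some h => exact absurd (by rw [show b * g * b⁻¹ = (h : G) from e']; exact h.2) hb
      | some h, none => exact absurd (by rw [show b * g * b⁻¹ = (h : G) from e'.symm]; exact h.2) hb
      | some h, some h' => exact congrArg some (Subtype.ext e')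
    have hsum : ((∑ h : H, Nat.card {s : G // s * s = (h : G)} : ℕ) : ℂ) =
        (Nat.card H : ℂ) * ∑ χ : IrrCharacter G, CfsgLib.Char.sqInd (χ : G → ℂ) * (m χ : ℂ) := by
      push_cast
      simp only [CfsgLib.Char.card_square_roots]
      rw [Finset.sum_comm, Finset.mul_sum]
      refine Finset.sum_congr rfl fun χ _ => ?_
      rw [← Finset.mul_sum, ← hmsum χ]; ring
    have hre := congrArg Complex.re hsum
    rw [Complex.natCast_re, ← Complex.ofReal_natCast, Complex.re_ofReal_mul, Complex.re_sum,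
      ← Finset.add_sum_erase _ _ (Finset.mem_univ triv)] at hre
    rw [show CfsgLib.Char.sqInd ((triv : IrrCharacter G) : G → ℂ) = 1 from CfsgLib.Char.sqInd_one,
      hmtriv] at hre
    have hle : ∑ χ ∈ Finset.univ.erase triv,
        (CfsgLib.Char.sqInd (χ : G → ℂ) * (m χ : ℂ)).re ≤ 0 := by
      refine Finset.sum_nonpos fun χ hχ => ?_
      rcases (CfsgLib.Char.sqInd_cases χ).1 with h | h | h
      · simp [h]
      · by_cases hm0 : m χ = 0
        · simp [hm0]
        exfalso
        refine Finset.ne_of_mem_erase hχ (congrArg Subtype.val (hsub.elim ⟨χ, ?_, fun g =>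
          Complex.conj_eq_iff_im.mpr (CfsgLib.Char.real_of_sqInd_ne_zero χ (by rw [h]; exact one_ne_zero) g),
          h⟩ ⟨triv, htrivmem⟩))
        rw [hm]; exact_mod_cast hm0
      · simp [h]
    have hcast : (Nat.card H : ℝ) + 1 ≤ ((∑ h : H, Nat.card {s : G // s * s = (h : G)} : ℕ) : ℝ) := by
      exact_mod_cast hcount
    have hHpos : (0 : ℝ) ≤ Nat.card H := Nat.cast_nonneg _
    simp only [Nat.cast_one, one_mul, Complex.one_re] at hre
    nlinarith [mul_nonpos_of_nonneg_of_nonpos hHpos hle]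
  · intro hodd
    refine ⟨⟨fun a b => ?_⟩, ⟨⟨triv, htrivmem⟩⟩⟩
    suffices h : ∀ χ : IrrCharacter G, Cfsg.classInner π (χ : G → ℂ) ≠ 0 →
        (∀ g : G, (starRingEnd ℂ) ((χ : G → ℂ) g) = (χ : G → ℂ) g) → χ = triv from
      Subtype.ext ((h a.1 a.2.1 a.2.2.1).trans (h b.1 b.2.1 b.2.2.1).symm)
    intro χ hne hre
    have hker : ∀ k ∈ K, (χ : G → ℂ) k = (χ : G → ℂ) 1 := by
      by_contra hc
      push Not at hc
      refine hne ?_
      have h1 : (Nat.card K : ℂ) * ∑ h : H, (χ : G → ℂ) h =
          ∑ h : H, ∑ a : K, (χ : G → ℂ) ((h : G) * a) := by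
        rw [Finset.sum_comm, Finset.sum_congr rfl fun (a : K) _ =>
          show ∑ h : H, (χ : G → ℂ) ((h : G) * a) = ∑ h : H, (χ : G → ℂ) h from
          Fintype.sum_equiv (Equiv.mulRight (⟨(a : G), hKH a.2⟩ : H)) _ _ fun h => rfl]
        rw [Finset.sum_const, Finset.card_univ, ← Nat.card_eq_fintype_card, nsmul_eq_mul]
      rw [Finset.sum_eq_zero (s := Finset.univ) fun (h : H) _ =>
        CfsgLib.Char.AbelianTIBound.sum_coset_eq_zero K χ hc (h : G)] at h1
      rw [hinner, ← map_sum, (mul_eq_zero.mp h1).resolve_left (Nat.cast_ne_zero.mpr Nat.card_pos.ne'),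
        map_zero, mul_zero]
    obtain ⟨θ, hθ⟩ := CfsgLib.Block.exists_deflate (N := K) χ hker
    rw [Subgroup.index_eq_card] at hodd
    have h1 := CfsgLib.Char.irr_eq_one_of_im_zero hodd θ fun q => by
      obtain ⟨g, rfl⟩ := QuotientGroup.mk_surjective q
      rw [hθ g]
      exact Complex.conj_eq_iff_im.mp (hre g)
    refine Subtype.ext (funext fun g => ?_)
    rw [← hθ g, h1]

end Cfsg.Agent.S4784
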