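import Cfsg.Statements.S4796
import Cfsg.Agent.Lib.Char.PrimeCodegree
import Cfsg.Agent.Lib.Coprime.Frobenius

set_option autoImplicit false
open Cfsg

namespace Cfsg.Agent.S4796

/-- Let G be a finite group with a faithful irreducible complex character χ whose codegree #G / χ(1) is a prime p (for a faithful character the kernel is trivial, so the codegree is #G / χ(1)). Then either G is cyclic of order p, or G is a Frobenius group whose Frobenius kernel has order p: some proper non-trivial subgroup H satisfies H ∩ gHg⁻¹ = 1 for every element g outside H, and the set of elements lying in no conjugate of H, together with the identity, has exactly p elements. -/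
theorem result {G : Type*} [Group G] [Finite G] (χ : Cfsg.IrrCharacter G) (hfaith : ∀ g : G, (χ : G → ℂ) g = (χ : G → ℂ) 1 → g = 1) (p : ℕ) (hp : p.Prime) (hcod : Nat.card G = p * Cfsg.charDegree (χ : G → ℂ)) : (IsCyclic G ∧ Nat.card G = p) ∨ ∃ H : Subgroup G, Cfsg.IsFrobeniusComplement H ∧ Nat.card ↥(Cfsg.frobeniusKernel H) = p := by
  obtain ⟨d, -, hd⟩ := CfsgLib.Char.isIrrCharacter_degree χ.2
  have hdd : Cfsg.charDegree (χ : G → ℂ) = d := by
    rw [Cfsg.charDegree, hd, Complex.natCast_re, Nat.floor_natCast]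
  rw [hdd] at hcod
  rcases CfsgLib.Char.PrimeCodegree.structure_of_faithful χ hfaith hp hd hcod with
    h | ⟨P, hPn, hPc, hPt, hco, hcent⟩
  · exact Or.inl h
  right
  haveI := hPn
  obtain ⟨H, hH⟩ := Subgroup.exists_right_complement'_of_coprime hco
  have hP1 : P ≠ ⊥ := fun e => hp.one_lt.ne (by rw [← hPc, e, Subgroup.card_bot])
  have hH1 : H ≠ ⊥ := fun e => hPt (by rw [e] at hH; exact Subgroup.isComplement'_bot_right.mp hH)
  have hF : Cfsg.IsFrobeniusComplement H :=
    (CfsgLib.Coprime.frob_iff_fixed_point_free hH hP1 hH1).mpr fun h hh h1 =>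
      (Subgroup.eq_bot_iff_forall _).mpr fun k ⟨hk, hkc⟩ => by
        by_contra hk1
        exact h1 (Subgroup.disjoint_def.mp hH.disjoint
          (hcent k hk hk1 h (Subgroup.mem_centralizer_singleton_iff.mp hkc).symm) hh)
  obtain ⟨N, hN, -, hNc⟩ := CfsgLib.Coprime.frob_kernel_subgroup hF
  refine ⟨H, hF, ?_⟩
  rw [← hN]
  show Nat.card N = p
  rw [← hPc]
  exact Nat.eq_of_mul_eq_mul_right (Nat.card_pos (α := H)) (hNc.card_mul.trans hH.card_mul.symm)

end Cfsg.Agent.S4796
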