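import Cfsg.Statements.S4797
import Cfsg.Agent.Lib.Char.PrimeCodegree
import Cfsg.Agent.Lib.Char.TwoNonzero
import Cfsg.Agent.Lib.Block.CentralDefect

set_option autoImplicit false
open Cfsg

namespace Cfsg.Agent.S4797

/-- The codegree of an irreducible complex character χ of a finite group G is [G : ker χ] / χ(1), where ker χ is the set of elements at which χ takes the value χ(1). A non-trivial finite group is perfect if and only if no irreducible complex character of it has prime codegree. -/
theorem result {G : Type*} [Group G] [Finite G] [Nontrivial G] : commutator G = ⊤ ↔ ∀ χ : Cfsg.IrrCharacter G, ¬ ((Nat.card G / (Nat.card {g : G // (χ : G → ℂ) g = (χ : G → ℂ) 1} * Cfsg.charDegree (χ : G → ℂ)))).Prime := by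
  classical
  have := Fintype.ofFinite G
  have hdeg : ∀ χ : IrrCharacter G, ∃ d : ℕ, (χ : G → ℂ) 1 = d ∧ Cfsg.charDegree (χ : G → ℂ) = d :=
    fun χ => by
      obtain ⟨d, -, hd⟩ := CfsgLib.Char.isIrrCharacter_degree χ.2
      exact ⟨d, hd, by rw [Cfsg.charDegree, hd, Complex.natCast_re, Nat.floor_natCast]⟩
  constructor
  · intro hperf χ hprime
    obtain ⟨K, hKn, hK⟩ := CfsgLib.Char.TwoNonzero.exists_kernel χ
    haveI := hKn
    obtain ⟨θ, hθ⟩ := CfsgLib.Block.exists_deflate (N := K) χ fun z hz => (hK z).mp hz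
    obtain ⟨d, hd, hdd⟩ := hdeg χ
    have hθ1 : (θ : G ⧸ K → ℂ) 1 = d := by rw [← QuotientGroup.mk_one, hθ 1, hd]
    have hker : Nat.card {g : G // (χ : G → ℂ) g = (χ : G → ℂ) 1} = Nat.card K :=
      Nat.card_congr (Equiv.subtypeEquivRight fun g => (hK g).symm)
    rw [hker, hdd, Subgroup.card_eq_card_quotient_mul_card_subgroup K, mul_comm (Nat.card (G ⧸ K)),
      Nat.mul_div_mul_left _ _ Nat.card_pos] at hprime
    have hdvd : d ∣ Nat.card (G ⧸ K) := CfsgLib.Char.degree_dvd_card θ hθ1
    have hfaith : ∀ q : G ⧸ K, (θ : G ⧸ K → ℂ) q = (θ : G ⧸ K → ℂ) 1 → q = 1 := by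
      intro q
      obtain ⟨g, rfl⟩ := QuotientGroup.mk_surjective q
      rw [hθ g, hθ1, ← hd]
      exact fun h => (QuotientGroup.eq_one_iff g).mpr ((hK g).mpr h)
    have hperf' : commutator (G ⧸ K) = ⊤ := by
      rw [← top_le_iff, commutator_def, ← Subgroup.map_top_of_surjective (QuotientGroup.mk' K)
        (QuotientGroup.mk'_surjective K), ← Subgroup.map_commutator, ← commutator_def, hperf]
    rcases CfsgLib.Char.PrimeCodegree.structure_of_faithful θ hfaith hprime hθ1
        (Nat.div_mul_cancel hdvd).symm with ⟨hcyc, hc⟩ | ⟨P, hPn, hPc, hPt, -, hcent⟩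
    · haveI : Nontrivial (G ⧸ K) := Finite.one_lt_card_iff_nontrivial.mp (hprime.one_lt.trans_eq hc.symm)
      have hbot : commutator (G ⧸ K) = ⊥ := by
        rw [commutator_def, Subgroup.commutator_eq_bot_iff_le_centralizer]
        intro a _
        rw [Subgroup.mem_centralizer_iff]
        intro b _
        haveI := hcyc.isMulCommutative
        exact IsMulCommutative.is_comm.comm b a
      exact bot_ne_top (hbot.symm.trans hperf')
    · exact hPt (top_le_iff.mp (hperf' ▸
        CfsgLib.Char.PrimeCodegree.commutator_le hprime hPn hPc hcent))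
  · intro h
    by_contra hne
    obtain ⟨χ₀, hχ₀⟩ : ∃ lam : G →* ℂˣ, lam ≠ 1 := by
      by_contra hc
      push Not at hc
      refine hne (Subgroup.index_eq_one.mp ?_)
      rw [← CfsgLib.Char.card_linear, ← Nat.card_congr CfsgLib.Char.linearCharEquiv]
      haveI : Subsingleton (G →* ℂˣ) := ⟨fun a b => (hc a).trans (hc b).symm⟩
      exact Nat.card_of_subsingleton 1
    -- pass to a power with image of prime order
    have hcard : Nat.card χ₀.range ≠ 1 := fun e => hχ₀ (MonoidHom.range_eq_bot_iff.mp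
      (Subgroup.card_eq_one.mp e))
    haveI : Finite χ₀.range := Set.finite_range χ₀
    obtain ⟨p, hp, hpm⟩ := Nat.exists_prime_and_dvd hcard
    haveI := Fact.mk hp
    obtain ⟨⟨_, a, rfl⟩, ha⟩ := exists_prime_orderOf_dvd_card' p hpm
    obtain ⟨r, hr⟩ := hpm
    let lam : G →* ℂˣ := (powMonoidHom r).comp χ₀
    have hlp : ∀ g, lam g ^ p = 1 := fun g => by
      show (χ₀ g ^ r) ^ p = 1
      rw [← pow_mul, mul_comm, ← hr]
      have := pow_card_eq_one' (x := (⟨χ₀ g, g, rfl⟩ : χ₀.range))
      exact congrArg Subtype.val this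
    have hlne : lam ≠ 1 := by
      intro e
      haveI : IsCyclic χ₀.range := inferInstance
      obtain ⟨⟨w, g, rfl⟩, hw⟩ := IsCyclic.exists_ofOrder_eq_natCard (α := χ₀.range)
      have : (χ₀ g) ^ r = 1 := DFunLike.congr_fun e g
      have h2 : orderOf (⟨χ₀ g, g, rfl⟩ : χ₀.range) ∣ r :=
        orderOf_dvd_of_pow_eq_one (Subtype.ext this)
      rw [hw, hr] at h2
      have hr0 : 0 < r := Nat.pos_of_ne_zero fun h => by
        rw [h, mul_zero] at hr; exact Nat.card_pos.ne' hr
      have := Nat.le_of_dvd hr0 h2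
      have := hp.two_le
      nlinarith
    have hrange : Nat.card lam.range = p := by
      haveI : Finite lam.range := Set.finite_range lam
      refine le_antisymm ?_ ?_
      · haveI : IsCyclic lam.range := inferInstance
        obtain ⟨⟨w, g, rfl⟩, hw⟩ := IsCyclic.exists_ofOrder_eq_natCard (α := lam.range)
        rw [← hw]
        exact Nat.le_of_dvd hp.pos (orderOf_dvd_of_pow_eq_one (Subtype.ext (hlp g)))
      · obtain ⟨g, hg⟩ : ∃ g, lam g ≠ 1 := by
          by_contra hc; push Not at hc; exact hlne (MonoidHom.ext hc)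
        rw [← orderOf_eq_prime (hlp g) hg,
          show orderOf (lam g) = orderOf (⟨lam g, g, rfl⟩ : lam.range) from
            (Subgroup.orderOf_coe (⟨lam g, g, rfl⟩ : lam.range))]
        exact Nat.le_of_dvd Nat.card_pos (orderOf_dvd_natCard _)
    refine h ⟨fun g => (lam g : ℂ), CfsgLib.Char.isIrrCharacter_lin lam⟩ ?_
    have hker : Nat.card {g : G // ((lam g : ℂˣ) : ℂ) = ((lam 1 : ℂˣ) : ℂ)} = Nat.card lam.ker :=
      Nat.card_congr (Equiv.subtypeEquivRight fun g => by simp [MonoidHom.mem_ker])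
    have hd1 : Cfsg.charDegree (fun g => (lam g : ℂ)) = 1 := by simp [Cfsg.charDegree]
    show (Nat.card G / (Nat.card {g : G // ((lam g : ℂˣ) : ℂ) = ((lam 1 : ℂˣ) : ℂ)} *
      Cfsg.charDegree (fun g => (lam g : ℂ)))).Prime
    rw [hker, hd1, mul_one, ← lam.ker.card_mul_index, Subgroup.index_ker, hrange,
      Nat.mul_div_cancel_left _ Nat.card_pos]
    exact hp

end Cfsg.Agent.S4797
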