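import Cfsg.Statements.S4801
import Cfsg.Agent.Lib.Block.Codegree
-- import your own Cfsg.Agent.* helpers here

set_option autoImplicit false
open Cfsg CfsgLib.Block

open Cfsg

namespace Cfsg.Agent.S4801

/-- The codegree of an irreducible complex character χ of a finite group G is [G : ker χ] / χ(1), where ker χ is the set of elements at which χ takes the value χ(1). Let S be a finite simple group and G a finite group such that every codegree of an irreducible character of S is a codegree of an irreducible character of G. Then the order of S divides the order of G. -/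
theorem result {S : Type*} [Group S] [Finite S] (hS : IsSimpleGroup S) {G : Type*} [Group G] [Finite G] (hsub : ∀ χ : Cfsg.IrrCharacter S, ∃ ψ : Cfsg.IrrCharacter G, (Nat.card S / (Nat.card {g : S // (χ : S → ℂ) g = (χ : S → ℂ) 1} * Cfsg.charDegree (χ : S → ℂ))) = (Nat.card G / (Nat.card {g : G // (ψ : G → ℂ) g = (ψ : G → ℂ) 1} * Cfsg.charDegree (ψ : G → ℂ)))) : Nat.card S ∣ Nat.card G := by
  classical
  letI := Fintype.ofFinite S
  have := Fintype.ofFinite (IrrCharacter S)
  rw [Nat.dvd_iff_prime_pow_dvd_dvd]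
  intro p k hp hk
  rcases eq_or_ne k 0 with rfl | hk0
  · simp
  have hpS : p ∣ Nat.card S := (dvd_pow_self p hk0).trans hk
  set o : IrrCharacter S := ⟨fun _ => 1, CfsgLib.Char.isIrrCharacter_one⟩ with ho
  obtain ⟨χ, hχo, hχp⟩ : ∃ χ : IrrCharacter S, χ ≠ o ∧ ¬ p ∣ charDegree (χ : S → ℂ) := by
    by_contra hno
    push Not at hno
    have h1 : ∑ χ : IrrCharacter S, charDegree (χ : S → ℂ) ^ 2 = Nat.card S := by
      have h := CfsgLib.Char.sum_degree_sq (G := S)
      simp only [fun χ : IrrCharacter S => (charDegree_eq χ).1] at h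
      exact_mod_cast h
    rw [← Finset.add_sum_erase _ _ (Finset.mem_univ o)] at h1
    have ho1 : charDegree (o : S → ℂ) = 1 := by simp [ho, charDegree]
    rw [ho1, one_pow] at h1
    have h2 : p ∣ ∑ χ ∈ Finset.univ.erase o, charDegree (χ : S → ℂ) ^ 2 :=
      Finset.dvd_sum fun χ hχ => dvd_pow (hno χ (Finset.ne_of_mem_erase hχ)) two_ne_zero
    exact hp.not_dvd_one ((Nat.dvd_add_left h2).mp (h1.symm ▸ hpS))
  obtain ⟨N, hN, hmem, hcard, hdvd, hND, -⟩ := exists_kernel_codegree χ
  have hbot : N = ⊥ := (IsSimpleGroup.eq_bot_or_eq_top_of_normal N hN).resolve_right fun h => hχo <| by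
    have := CfsgLib.Invol.eq_oneChar_of_constant χ fun g => (hmem g).mp (h ▸ Subgroup.mem_top g)
    exact this
  obtain ⟨ψ, hψ⟩ := hsub χ
  refine Nat.dvd_trans ?_ (hψ ▸ codegree_dvd_card ψ)
  rw [hcard, hbot, Subgroup.card_bot, one_mul]
  rw [hbot, Subgroup.card_bot, one_mul] at hND
  refine Nat.dvd_div_of_mul_dvd (Nat.Coprime.mul_dvd_of_dvd_of_dvd ?_ hND hk)
  exact ((hp.coprime_iff_not_dvd.mpr hχp).pow_left k).symm

end Cfsg.Agent.S4801
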