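import Cfsg.Statements.S4802
import Cfsg.Agent.Lib.Char.AbelianTIBound
import Cfsg.Agent.Lib.Char.Orthogonality

set_option autoImplicit false
open Cfsg

namespace Cfsg.Agent.S4802

/-- Let N < M be normal subgroups of the finite group G and g ∈ M ∖ N. Then the conjugacy class of g is exactly M ∖ N if and only if every irreducible complex character of G whose kernel contains N takes the same value at all elements of M ∖ N, and every irreducible complex character of G whose kernel does not contain N vanishes at g. -/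
theorem result {G : Type*} [Group G] [Finite G] (N M : Subgroup G) [N.Normal] [M.Normal] (hNM : N < M) (g : G) (hgM : g ∈ M) (hgN : g ∉ N) : {h : G | IsConj g h} = (M : Set G) \ (N : Set G) ↔ ((∀ χ : Cfsg.IrrCharacter G, (∀ x ∈ N, (χ : G → ℂ) x = (χ : G → ℂ) 1) → ∀ x ∈ M, x ∉ N → ∀ y ∈ M, y ∉ N → (χ : G → ℂ) x = (χ : G → ℂ) y) ∧ (∀ χ : Cfsg.IrrCharacter G, (∃ x ∈ N, (χ : G → ℂ) x ≠ (χ : G → ℂ) 1) → (χ : G → ℂ) g = 0)) := by
  classical
  have := Fintype.ofFinite G
  have := Fintype.ofFinite (IrrCharacter G)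
  constructor
  · intro h
    have hmem : ∀ x ∈ M, x ∉ N → IsConj g x := fun x hx hxN => by
      have : x ∈ {h : G | IsConj g h} := by rw [h]; exact ⟨hx, hxN⟩
      exact this
    refine ⟨fun χ _ x hx hxN y hy hyN => ?_, fun χ hχ => ?_⟩
    · exact CfsgLib.Char.classFun_isConj (CfsgLib.Char.isClassFunction_irr χ)
        ((hmem x hx hxN).symm.trans (hmem y hy hyN))
    · have h0 := CfsgLib.Char.AbelianTIBound.sum_coset_eq_zero N χ hχ g
      have hc : ∀ a : N, (χ : G → ℂ) (g * a) = (χ : G → ℂ) g := fun a => by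
        refine (CfsgLib.Char.classFun_isConj (CfsgLib.Char.isClassFunction_irr χ) ?_).symm
        refine hmem _ (M.mul_mem hgM (hNM.le a.2)) fun hh => hgN ?_
        have := N.mul_mem hh (N.inv_mem a.2)
        rwa [mul_inv_cancel_right] at this
      rw [Finset.sum_congr rfl fun a _ => hc a, Finset.sum_const, nsmul_eq_mul] at h0
      exact (mul_eq_zero.mp h0).resolve_left (Nat.cast_ne_zero.mpr (Finset.card_ne_zero.mpr ⟨1, Finset.mem_univ _⟩))
  · rintro ⟨hA, hB⟩
    ext x
    refine ⟨fun hx => ?_, fun hx => ?_⟩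
    · obtain ⟨c, rfl⟩ := isConj_iff.mp hx
      refine ⟨‹M.Normal›.conj_mem g hgM c, fun hN => hgN ?_⟩
      have := ‹N.Normal›.conj_mem _ hN c⁻¹
      simpa [mul_assoc] using this
    · show IsConj g x
      have key : ∑ χ : IrrCharacter G, (χ : G → ℂ) g * (starRingEnd ℂ) ((χ : G → ℂ) g) =
          ∑ χ : IrrCharacter G, (χ : G → ℂ) x * (starRingEnd ℂ) ((χ : G → ℂ) g) := by
        refine Finset.sum_congr rfl fun χ _ => ?_
        by_cases hk : ∀ y ∈ N, (χ : G → ℂ) y = (χ : G → ℂ) 1
        · rw [hA χ hk g hgM hgN x hx.1 hx.2]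
        · push Not at hk
          rw [hB χ hk, map_zero, mul_zero, mul_zero]
      rw [CfsgLib.Char.sum_irr_mul_conj g g, if_pos (IsConj.refl g),
        CfsgLib.Char.sum_irr_mul_conj x g] at key
      by_contra hc
      rw [if_neg fun e => hc e.symm] at key
      exact Nat.card_pos.ne' (Nat.cast_eq_zero.mp key)

end Cfsg.Agent.S4802
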