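import Cfsg.Statements.S4807
import Cfsg.Agent.Lib.Char.RelMcKay.Main
-- import your own Cfsg.Agent.* helpers here

set_option autoImplicit false
open Cfsg

namespace Cfsg.Agent.S4807

/-- Let p be a prime and G a finite p-solvable group, L a normal subgroup of G, S a Sylow p-subgroup of G and P the subgroup generated by L and S (so P/L is a Sylow p-subgroup of G/L), and let ν be an irreducible complex character of L that is invariant under conjugation by every element of P. Let N be the normalizer of P in G (it contains L). Then the number of irreducible characters of G of degree prime to p lying over ν (restriction to L not orthogonal to ν) equals the number of irreducible characters of N of degree prime to p lying over ν. -/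
theorem result {G : Type*} [Group G] [Finite G] (p : ℕ) [Fact p.Prime] (hG : Cfsg.IsPSolvable p G) (L : Subgroup G) [L.Normal] (S : Sylow p G) (P : Subgroup G) (hP : P = L ⊔ (S : Subgroup G)) (hLN : L ≤ (Subgroup.normalizer ((P : Subgroup G) : Set G))) (ν : Cfsg.IrrCharacter ↥L) (hν : ∀ x ∈ P, Cfsg.IsConjCharOf L x (ν : ↥L → ℂ) (ν : ↥L → ℂ)) : Nat.card {χ : Cfsg.IrrCharacter G // ¬ p ∣ Cfsg.charDegree (χ : G → ℂ) ∧ (∑ᶠ l : ↥L, (χ : G → ℂ) (l : G) * (starRingEnd ℂ) ((ν : ↥L → ℂ) l)) ≠ 0} = Nat.card {ψ : Cfsg.IrrCharacter ↥(Subgroup.normalizer ((P : Subgroup G) : Set G)) // ¬ p ∣ Cfsg.charDegree (ψ : ↥(Subgroup.normalizer ((P : Subgroup G) : Set G)) → ℂ) ∧ (∑ᶠ l : ↥L, (ψ : ↥(Subgroup.normalizer ((P : Subgroup G) : Set G)) → ℂ) (Subgroup.inclusion hLN l) * (starRingEnd ℂ) ((ν : ↥L → ℂ) l)) ≠ 0} := by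
  classical
  subst hP
  have hPQ : CfsgLib.Char.RelMcKay.PMod p L (L ⊔ (S : Subgroup G)) :=
    CfsgLib.Char.RelMcKay.pmod_sup (L := (⊥ : Subgroup G)) bot_le
      (Subgroup.normalizer_eq_top L ▸ le_top) fun x hx => by
        obtain ⟨k, hk⟩ := S.isPGroup' ⟨x, hx⟩
        exact ⟨k, Subgroup.mem_bot.2 (congrArg Subtype.val hk)⟩
  have hidx : ¬ p ∣ (L ⊔ (S : Subgroup G)).index := fun hd =>
    S.not_dvd_index (hd.trans (Subgroup.index_dvd_of_le le_sup_right))
  have hfix : CfsgLib.Char.RelMcKay.Fixed (L ⊔ (S : Subgroup G)) ν := fun x hx => by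
    have hxL : x ∈ Subgroup.normalizer (L : Set G) := by
      rw [Subgroup.normalizer_eq_top L]; exact Subgroup.mem_top x
    apply Subtype.ext
    rw [CfsgLib.Char.RelMcKay.cjI_coe hxL]
    exact (CfsgLib.Char.RelMcKay.isConjCharOf_iff hxL _ _).1 (hν x hx)
  rw [CfsgLib.Char.RelMcKay.card_top_eq,
    CfsgLib.Char.RelMcKay.relMcKay hG L (L ⊔ (S : Subgroup G)) le_sup_left hPQ hidx ν hfix]
  exact Nat.card_congr (Equiv.subtypeEquivRight fun ψ =>
    and_congr Iff.rfl (CfsgLib.Char.RelMcKay.mult_ne_zero_iff_finsum hLN ψ ν))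

end Cfsg.Agent.S4807
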