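import Cfsg.Statements.S4808
import Cfsg.Agent.Lib.Block.Codegree
-- import your own Cfsg.Agent.* helpers here

set_option autoImplicit false
open Cfsg CfsgLib.Block
open scoped ComplexConjugate

open Cfsg

namespace Cfsg.Agent.S4808

/-- The codegree of an irreducible complex character χ of a finite group G is [G : ker χ] / χ(1), where ker χ is the set of elements at which χ takes the value χ(1). A prime divides the order of G if and only if it divides the codegree of some irreducible complex character of G. -/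
theorem result {G : Type*} [Group G] [Finite G] (p : ℕ) (hp : p.Prime) : p ∣ Nat.card G ↔ ∃ χ : Cfsg.IrrCharacter G, p ∣ (Nat.card G / (Nat.card {g : G // (χ : G → ℂ) g = (χ : G → ℂ) 1} * Cfsg.charDegree (χ : G → ℂ))) := by
  classical
  have := Fact.mk hp
  letI := Fintype.ofFinite G
  have := Fintype.ofFinite (IrrCharacter G)
  refine ⟨fun h => ?_, fun ⟨χ, hχ⟩ => hχ.trans (codegree_dvd_card χ)⟩
  by_contra hno
  push Not at hno
  obtain ⟨g, hg⟩ := exists_prime_orderOf_dvd_card' p h
  have hg1 : ¬ IsConj g 1 := fun h => by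
    rw [isConj_one_left.mp h, orderOf_one] at hg
    exact hp.ne_one hg.symm
  have h2 := CfsgLib.Char.sum_irr_mul_conj (G := G) g 1
  rw [if_neg hg1] at h2
  choose d hd0 hd using fun χ : IrrCharacter G => CfsgLib.Char.isIrrCharacter_degree χ.2
  have h3 : ∑ χ : IrrCharacter G, (if (χ : G → ℂ) g = (χ : G → ℂ) 1 then ((d χ : ℂ) * (d χ : ℂ)) else 0) = 0 := by
    refine Eq.trans (Finset.sum_congr rfl fun χ _ => ?_) h2
    rcases value_of_not_dvd_codegree χ (hno χ) hg with h0 | h0
    · rw [h0, zero_mul, if_neg (CfsgLib.Char.irr_one_ne_zero χ).symm]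
    · rw [h0, if_pos rfl, CfsgLib.Char.conj_irr_one, hd]
  have h4 : ∑ χ : IrrCharacter G, (if (χ : G → ℂ) g = (χ : G → ℂ) 1 then d χ * d χ else 0) = 0 := by
    exact_mod_cast h3
  have h5 := Finset.sum_eq_zero_iff.mp h4 ⟨fun _ => 1, CfsgLib.Char.isIrrCharacter_one⟩ (Finset.mem_univ _)
  simp at h5
  have := hd ⟨fun _ => 1, CfsgLib.Char.isIrrCharacter_one⟩
  simp [h5] at this

end Cfsg.Agent.S4808
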