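import Cfsg.Statements.S4814
import Cfsg.Agent.Lib.Block.Convolution
-- import your own Cfsg.Agent.* helpers here

set_option autoImplicit false
open Cfsg CfsgLib.Block

open Cfsg

namespace Cfsg.Agent.S4814

/-- Let G be a finite group such that the sum, over the irreducible complex characters χ of G, of 1/χ(1)² is less than 2. Then every element of G is a product of two commutators. -/
theorem result {G : Type*} [Group G] [Finite G]
    (h : ∑ᶠ χ : Cfsg.IrrCharacter G, 1 / ‖(χ : G → ℂ) 1‖ ^ 2 < (2 : ℝ)) (g : G) :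
    ∃ a b c d : G, (a * b * a⁻¹ * b⁻¹) * (c * d * c⁻¹ * d⁻¹) = g := by
  classical
  letI := Fintype.ofFinite G
  have := Fintype.ofFinite (IrrCharacter G)
  rw [finsum_eq_sum_of_fintype] at h
  set o : IrrCharacter G := ⟨fun _ => 1, CfsgLib.Char.isIrrCharacter_one⟩ with ho
  have hterm : ∀ χ : IrrCharacter G, 0 ≤ 1 / ‖(χ : G → ℂ) 1‖ ^ 2 := fun χ => by positivity
  -- the double count
  have h2 : (∑ χ : IrrCharacter G, (χ : G → ℂ) g / (χ : G → ℂ) 1 ^ 3) ≠ 0 := by
    intro h0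
    rw [← Finset.add_sum_erase _ _ (Finset.mem_univ o)] at h0
    have e1 : (o : G → ℂ) g / (o : G → ℂ) 1 ^ 3 = 1 := by simp [ho]
    rw [e1, add_eq_zero_iff_eq_neg] at h0
    have h1 := congrArg norm h0
    rw [norm_one, norm_neg] at h1
    have hle : ∀ χ : IrrCharacter G, ‖(χ : G → ℂ) g / (χ : G → ℂ) 1 ^ 3‖ ≤ 1 / ‖(χ : G → ℂ) 1‖ ^ 2 := by
      intro χ
      have hpos : 0 < ‖(χ : G → ℂ) 1‖ := norm_pos_iff.mpr (CfsgLib.Char.irr_one_ne_zero χ)
      obtain ⟨n, ρ, -, hρ⟩ := χ.2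
      rw [norm_div, norm_pow, div_le_div_iff₀ (by positivity) (by positivity), one_mul]
      have hn : ‖(χ : G → ℂ) g‖ ≤ ‖(χ : G → ℂ) 1‖ := by
        rw [← hρ, Representation.char_one, RCLike.norm_natCast]
        exact CfsgLib.Char.norm_char_le ρ g
      nlinarith [pow_pos hpos 2]
    have h3 := (h1.le.trans (norm_sum_le _ _)).trans (Finset.sum_le_sum fun χ _ => hle χ)
    rw [← Finset.add_sum_erase _ _ (Finset.mem_univ o)] at h
    simp only [ho, norm_one, one_pow, div_one] at h h3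
    linarith
  have hcount : ∑ a : G, (Nat.card {q : G × G // q.1 * q.2 * q.1⁻¹ * q.2⁻¹ = a} : ℂ) *
      (Nat.card {q : G × G // q.1 * q.2 * q.1⁻¹ * q.2⁻¹ = a⁻¹ * g} : ℂ) =
      (Nat.card G : ℂ) ^ 3 * ∑ χ : IrrCharacter G, (χ : G → ℂ) g / (χ : G → ℂ) 1 ^ 3 := by
    simp only [CfsgLib.Char.card_commutator_eq]
    rw [Finset.mul_sum (s := Finset.univ) (a := (Nat.card G : ℂ) ^ 3)]
    calc ∑ a : G, ((Nat.card G : ℂ) * ∑ χ : IrrCharacter G, (χ : G → ℂ) a / (χ : G → ℂ) 1) *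
          ((Nat.card G : ℂ) * ∑ ψ : IrrCharacter G, (ψ : G → ℂ) (a⁻¹ * g) / (ψ : G → ℂ) 1)
        = ∑ χ : IrrCharacter G, ∑ ψ : IrrCharacter G, (Nat.card G : ℂ) ^ 2 /
            ((χ : G → ℂ) 1 * (ψ : G → ℂ) 1) * ∑ a : G, (χ : G → ℂ) a * (ψ : G → ℂ) (a⁻¹ * g) := by
          simp only [Finset.mul_sum, Finset.sum_mul]
          rw [Finset.sum_comm]
          rw [Finset.sum_congr rfl fun χ _ => Finset.sum_comm]
          rw [Finset.sum_comm]
          refine Finset.sum_congr rfl fun χ _ => Finset.sum_congr rfl fun ψ _ =>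
            Finset.sum_congr rfl fun a _ => ?_
          ring
      _ = _ := by
          refine Finset.sum_congr rfl fun χ _ => ?_
          rw [Finset.sum_eq_single χ (fun ψ _ hne => by
            rw [sum_irr_convolution_ne (Ne.symm hne), mul_zero]) (fun hn => absurd (Finset.mem_univ χ) hn),
            CfsgLib.Char.sum_irr_convolution]
          have h0 := CfsgLib.Char.irr_one_ne_zero χ
          field_simp
  by_contra hno
  push Not at hno
  have hz : ∑ a : G, (Nat.card {q : G × G // q.1 * q.2 * q.1⁻¹ * q.2⁻¹ = a} : ℂ) *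
      (Nat.card {q : G × G // q.1 * q.2 * q.1⁻¹ * q.2⁻¹ = a⁻¹ * g} : ℂ) = 0 := by
    refine Finset.sum_eq_zero fun a _ => ?_
    by_contra hne
    rw [mul_eq_zero, not_or, Nat.cast_eq_zero, Nat.cast_eq_zero] at hne
    obtain ⟨⟨q, hq⟩⟩ := (Nat.card_ne_zero.mp hne.1).1
    obtain ⟨⟨r, hr⟩⟩ := (Nat.card_ne_zero.mp hne.2).1
    exact hno q.1 q.2 r.1 r.2 (by rw [hq, hr, mul_inv_cancel_left])
  rw [hcount, mul_eq_zero] at hz
  exact hz.elim (fun h => pow_ne_zero 3 (Nat.cast_ne_zero.mpr Nat.card_pos.ne') h) h2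

end Cfsg.Agent.S4814
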