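import Cfsg.Statements.S4825
import Cfsg.Agent.Lib.Block.TraceFun
import Cfsg.Agent.Lib.Char.Clifford
import Cfsg.Agent.Lib.Char.Inertia

set_option autoImplicit false
open Cfsg CfsgLib CfsgLib.Block
open scoped ComplexConjugate

namespace Cfsg.Agent.S4825

/-- Let p be a prime, G a finite group with Sylow p-subgroup P, M a maximal ideal of the algebraic integers containing p, and B a p-block of G with defect group P. Let N be a normal subgroup of G not containing P and θ an irreducible character of N. Then the number of irreducible characters in B of degree prime to p lying over θ (having θ as a constituent on restriction to N) is either 0 or at least 2, and when p ≤ 3 it is divisible by p. -/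
theorem result {G : Type*} [Group G] [Fintype G] (p : ℕ) [Fact p.Prime] (P : Sylow p G) (M : Ideal Cfsg.AlgInt) (hM : Cfsg.IsPModular p M) (B : Set (Cfsg.IrrCharacter G)) (hB : Cfsg.IsPBlock M B) (hBP : Cfsg.IsDefectGroup p M B P) (N : Subgroup G) [N.Normal] [Fintype N] (hPN : ¬ (P : Subgroup G) ≤ N) (θ : Cfsg.IrrCharacter N) :
    (Nat.card {χ : Cfsg.IrrCharacter G // χ ∈ B ∧ ¬ p ∣ Cfsg.charDegree (χ : G → ℂ) ∧ Cfsg.classInner (fun n : N => (χ : G → ℂ) n) (θ : N → ℂ) ≠ 0} = 0 ∨
      2 ≤ Nat.card {χ : Cfsg.IrrCharacter G // χ ∈ B ∧ ¬ p ∣ Cfsg.charDegree (χ : G → ℂ) ∧ Cfsg.classInner (fun n : N => (χ : G → ℂ) n) (θ : N → ℂ) ≠ 0}) ∧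
    (p ≤ 3 → p ∣ Nat.card {χ : Cfsg.IrrCharacter G // χ ∈ B ∧ ¬ p ∣ Cfsg.charDegree (χ : G → ℂ) ∧ Cfsg.classInner (fun n : N => (χ : G → ℂ) n) (θ : N → ℂ) ≠ 0}) := by
  classical
  have : M.IsMaximal := hM.2.1
  have hp : p.Prime := hM.1
  have := Fintype.ofFinite (IrrCharacter G)
  have hS := IsBlockUnion.of_isPBlock hB
  obtain ⟨x, hxP, hxN⟩ := SetLike.not_le_iff_exists.mp hPN
  obtain ⟨k, hk⟩ := IsPGroup.iff_orderOf.mp P.isPGroup' ⟨x, hxP⟩
  rw [← Subgroup.orderOf_coe] at hk
  -- the multiplicities and the degrees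
  choose m hm using fun χ : IrrCharacter G => Char.classInner_isCharacter
    (Char.isCharacter_comp (Char.isCharacter_irr χ) N.subtype) (Char.isCharacter_irr θ)
  choose d hd0 hd using fun χ : IrrCharacter G => Char.isIrrCharacter_degree χ.2
  have hdeg : ∀ χ : IrrCharacter G, charDegree (χ : G → ℂ) = d χ := fun χ => by
    simp [charDegree, hd χ]
  obtain ⟨c, hc0, hc⟩ := Char.isIrrCharacter_degree θ.2
  set t := (Char.inertia N (θ : N → ℂ)).index with ht
  -- the block part of the induced character vanishes off `N`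
  set f : G → ℂ := fun g => ∑ χ ∈ Finset.univ.filter (· ∈ B), (m χ : ℂ) * (χ : G → ℂ) g with hf
  have hfx : f x = 0 := by
    have h : f x = (Nat.card N : ℂ)⁻¹ * ∑ n : N, conj ((θ : N → ℂ) n) *
        ∑ χ ∈ Finset.univ.filter (· ∈ B), (χ : G → ℂ) (n : G) * conj ((χ : G → ℂ) x⁻¹) := by
      simp only [hf, Finset.mul_sum]
      rw [Finset.sum_comm]
      refine Finset.sum_congr rfl fun χ _ => ?_
      rw [← hm χ, classInner, Finset.mul_sum, Finset.sum_mul]
      refine Finset.sum_congr rfl fun n _ => ?_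
      rw [show conj ((χ : G → ℂ) x⁻¹) = (χ : G → ℂ) x by rw [Char.irr_inv, Complex.conj_conj]]
      simp only [Function.comp_apply, Subgroup.coe_subtype]
      ring
    rw [h, Finset.sum_eq_zero fun n _ => ?_, mul_zero]
    obtain ⟨u, hu⟩ := exists_isPPart (p := p) hp (n : G)
    obtain ⟨y, huy, hcomm, ⟨j, hj⟩, hy⟩ := id hu
    have huN : u ∈ N := by
      rw [← QuotientGroup.eq_one_iff, ← orderOf_eq_one_iff]
      have h1 : (u : G ⧸ N) = ((y : G ⧸ N))⁻¹ := eq_inv_of_mul_eq_one_left (by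
        rw [← QuotientGroup.mk_mul, huy]; exact (QuotientGroup.eq_one_iff _).mpr n.2)
      refine Nat.eq_one_of_dvd_coprimes ((hp.coprime_iff_not_dvd.mpr hy).pow_left j)
        (hj ▸ orderOf_map_dvd (QuotientGroup.mk' N) u) ?_
      rw [h1, orderOf_inv]
      exact orderOf_map_dvd (QuotientGroup.mk' N) y
    have h0 := blockUnion_orthogonal_conj hM hS hu
      (x' := x⁻¹) (h := x⁻¹) ⟨1, mul_one _, Commute.one_right _, ⟨k, by rw [orderOf_inv, hk]⟩, by
        rw [orderOf_one]; exact hp.not_dvd_one⟩ (fun hconj => hxN (by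
          obtain ⟨v, hv⟩ := isConj_iff.mp hconj
          rw [← inv_inv x, ← hv]
          exact inv_mem (Subgroup.Normal.conj_mem inferInstance u huN v)))
    rw [finsum_mem_eq_toFinset_sum] at h0
    rw [show Finset.univ.filter (· ∈ B) = B.toFinset by ext; simp, h0, mul_zero]
  have hmod : p ∣ ∑ χ ∈ Finset.univ.filter (· ∈ B), m χ * d χ := by
    have := charP_resField hM
    rw [← CharP.cast_eq_zero_iff (ResField M) p, Nat.cast_sum]
    have h1 : ∑ χ ∈ Finset.univ.filter (· ∈ B), (m χ : locRing M) * irrLoc M χ x = 0 := Subtype.ext (by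
      rw [AddSubmonoidClass.coe_finsetSum]
      simpa [hf] using hfx)
    have h2 := congrArg (res M) h1
    rw [map_sum, map_zero] at h2
    refine Eq.trans (Finset.sum_congr rfl fun χ _ => ?_) h2
    have hval : res M (irrLoc M χ x) = res M (irrLoc M χ 1) := by
      have h := res_irr_mul_pElement hM χ (Commute.one_right x)
        (show x ^ p ^ k = 1 by rw [← hk, pow_orderOf_eq_one])
      rwa [mul_one] at h
    rw [map_mul, hval, show irrLoc M χ 1 = (d χ : locRing M) from Subtype.ext (by simp [hd χ]),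
      map_natCast, map_natCast, Nat.cast_mul]
  set S := Finset.univ.filter (fun χ : IrrCharacter G => χ ∈ B ∧ ¬ p ∣ charDegree (χ : G → ℂ) ∧
    classInner (fun n : N => (χ : G → ℂ) n) (θ : N → ℂ) ≠ 0) with hSdef
  have hcard : Nat.card {χ : IrrCharacter G // χ ∈ B ∧ ¬ p ∣ charDegree (χ : G → ℂ) ∧
      classInner (fun n : N => (χ : G → ℂ) n) (θ : N → ℂ) ≠ 0} = S.card := by
    rw [Nat.card_eq_fintype_card, Fintype.card_subtype, hSdef]
  have hmul : ∀ χ ∈ S, d χ = m χ * t * c := by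
    intro χ hχ
    have h := Char.clifford_degree N χ.2 θ.2 (Finset.mem_filter.mp hχ).2.2.2
    rw [show classInner (fun n : N => (χ : G → ℂ) n) (θ : N → ℂ) = (m χ : ℂ) from hm χ, hd χ, hc] at h
    exact_mod_cast h
  have hsq : p ∣ ∑ χ ∈ S, d χ * d χ := by
    have hsum : ∑ χ ∈ Finset.univ.filter (· ∈ B), m χ * d χ ≡ ∑ χ ∈ S, m χ * d χ [MOD p] := by
      rw [← Finset.sum_filter_add_sum_filter_not (Finset.univ.filter (· ∈ B))
        (fun χ => ¬ p ∣ charDegree (χ : G → ℂ) ∧
          classInner (fun n : N => (χ : G → ℂ) n) (θ : N → ℂ) ≠ 0), Finset.filter_filter,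
        show Finset.univ.filter (fun χ : IrrCharacter G => χ ∈ B ∧ ¬ p ∣ charDegree (χ : G → ℂ) ∧
          classInner (fun n : N => (χ : G → ℂ) n) (θ : N → ℂ) ≠ 0) = S from rfl]
      refine (Nat.ModEq.add_left _ (Nat.modEq_zero_iff_dvd.mpr (Finset.dvd_sum fun χ hχ => ?_))).trans
        (by rw [add_zero])
      obtain ⟨-, hn⟩ := Finset.mem_filter.mp hχ
      by_cases h0 : classInner (fun n : N => (χ : G → ℂ) n) (θ : N → ℂ) = 0
      · have h1 : (m χ : ℂ) = 0 := (hm χ).symm.trans h0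
        rw [Nat.cast_eq_zero.mp h1, zero_mul]
        exact dvd_zero p
      · have h1 : p ∣ charDegree (χ : G → ℂ) := by_contra fun h => hn ⟨h, h0⟩
        exact (hdeg χ ▸ h1).mul_left _
    have h1 : p ∣ ∑ χ ∈ S, m χ * d χ := (hsum.dvd_iff dvd_rfl).mp hmod
    have h2 : ∑ χ ∈ S, d χ * d χ = t * c * ∑ χ ∈ S, m χ * d χ := by
      rw [Finset.mul_sum]
      refine Finset.sum_congr rfl fun χ hχ => ?_
      nth_rewrite 1 [hmul χ hχ]
      ring
    rw [h2]
    exact h1.mul_left _
  have hnd : ∀ χ ∈ S, ¬ p ∣ d χ := fun χ hχ => hdeg χ ▸ (Finset.mem_filter.mp hχ).2.2.1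
  rw [hcard]
  refine ⟨?_, fun hp3 => ?_⟩
  · by_contra hcon
    push Not at hcon
    obtain ⟨χ, hχ⟩ := Finset.card_eq_one.mp (by omega : S.card = 1)
    rw [hχ, Finset.sum_singleton] at hsq
    exact hnd χ (hχ ▸ Finset.mem_singleton_self χ) ((Nat.Prime.dvd_mul hp).mp hsq |>.elim id id)
  · have h3 : ∀ χ ∈ S, d χ * d χ ≡ 1 [MOD p] := by
      intro χ hχ
      have h := hnd χ hχ
      rw [Nat.dvd_iff_mod_eq_zero] at h
      have hlt := Nat.mod_lt (d χ) hp.pos
      unfold Nat.ModEq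
      rw [Nat.mul_mod]
      have h2 := hp.two_le
      interval_cases p <;> interval_cases hr : d χ % _ <;> simp_all
    have h4 : ∑ χ ∈ S, d χ * d χ ≡ S.card [MOD p] := by
      refine (Nat.ModEq.sum h3).trans ?_
      rw [Finset.sum_const, smul_eq_mul, mul_one]
    exact (h4.dvd_iff dvd_rfl).mp hsq

end Cfsg.Agent.S4825
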