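import Cfsg.Statements.S4828
import Cfsg.Agent.Lib.Block.CentralDefect
-- import your own Cfsg.Agent.* helpers here

set_option autoImplicit false
open Cfsg CfsgLib.Block
open scoped CfsgLib.Block.Pair

namespace Cfsg.Agent.S4828

/-- Let p be a prime, M a maximal ideal of the algebraic integers containing p, and (Q, e) a Brauer pair of the finite group G (Q a p-subgroup, e a block of C_G(Q)). Then (Q, e) is a maximal Brauer pair of some block of G if and only if e contains an irreducible character θ such that θ takes the value θ(1) at every element of Z(Q) = Q ∩ C_G(Q), the p-part of θ(1) times the p-part of the order of Z(Q) equals the p-part of the order of C_G(Q) (θ has defect zero as a character of C_G(Q)/Z(Q)), and every element of N_G(Q) of p-power order that stabilizes e lies in Q·C_G(Q) (the stabilizer of e in N_G(Q) has index prime to p over Q·C_G(Q)). -/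
theorem result {G : Type*} [Group G] [Finite G] (p : ℕ) [Fact p.Prime] (M : Ideal Cfsg.AlgInt) (hM : Cfsg.IsPModular p M) (Q : Subgroup G) (e : Set (Cfsg.IrrCharacter (Subgroup.centralizer (Q : Set G)))) (he : Cfsg.IsBrauerPair p M Q e) :
    (∃ B : Set (Cfsg.IrrCharacter G), Cfsg.IsMaximalBrauerPair p M B Q e) ↔
      ∃ θ ∈ e, (∀ z : Subgroup.centralizer (Q : Set G), (z : G) ∈ Q → (θ : Subgroup.centralizer (Q : Set G) → ℂ) z = (θ : Subgroup.centralizer (Q : Set G) → ℂ) 1) ∧
        (Cfsg.charDegree (θ : Subgroup.centralizer (Q : Set G) → ℂ)).factorization p + (Nat.card ↥(Q ⊓ Subgroup.centralizer (Q : Set G))).factorization p = (Nat.card (Subgroup.centralizer (Q : Set G))).factorization p ∧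
        (∀ g : G, g ∈ Subgroup.normalizer (Q : Set G) → Cfsg.StabilizesBlock (Subgroup.centralizer (Q : Set G)) e g → (∃ k : ℕ, orderOf g = p ^ k) → g ∈ Q ⊔ Subgroup.centralizer (Q : Set G)) := by
  classical
  have := hM.2.1
  letI := Fintype.ofFinite G
  set Z : Subgroup (CQ Q) := (Q ⊓ CQ Q).subgroupOf (CQ Q) with hZdef
  have hZc : Nat.card Z = Nat.card (Q ⊓ CQ Q : Subgroup G) :=
    Nat.card_congr (Subgroup.subgroupOfEquivOfLe inf_le_right).toEquiv
  have hZcen : Z ≤ Subgroup.center (CQ Q) := fun z hz => Subgroup.mem_center_iff.mpr fun c =>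
    Subtype.ext (Subgroup.mem_centralizer_iff.mp c.2 _ (Subgroup.mem_subgroupOf.mp hz).1).symm
  have hZp : IsPGroup p Z := (he.1.to_le inf_le_left).of_equiv
    (Subgroup.subgroupOfEquivOfLe inf_le_right).symm
  have hZn : Z.Normal := ⟨fun z hz c => by
    rwa [Subgroup.mem_center_iff.mp (hZcen hz) c, mul_inv_cancel_right]⟩
  have hZmem : ∀ z : CQ Q, z ∈ Z ↔ (z : G) ∈ Q := fun z =>
    ⟨fun h => (Subgroup.mem_subgroupOf.mp h).1, fun h => Subgroup.mem_subgroupOf.mpr ⟨h, z.2⟩⟩
  let T : Subgroup G :=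
    { carrier := {u | u ∈ Subgroup.normalizer (Q : Set G) ∧ cj u (eG M e) = eG M e}
      one_mem' := ⟨one_mem _, cj_one _⟩
      mul_mem' := fun {a b} ha hb => ⟨mul_mem ha.1 hb.1, by rw [← cj_cj, hb.2, ha.2]⟩
      inv_mem' := fun {a} ha => ⟨inv_mem ha.1, by
        conv_lhs => rw [← ha.2, cj_cj, inv_mul_cancel, cj_one]⟩ }
  have hT : ∀ y, y ∈ T ↔ y ∈ Subgroup.normalizer (Q : Set G) ∧ StabilizesBlock (CQ Q) e y :=
    fun y => and_congr_right fun hy => (stabilizesBlock_iff hM hy he.2).symm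
  have hQT : Q ≤ T := fun u hu =>
    ⟨Subgroup.le_normalizer hu, cinv_iff_cj.mp (cinv_self_eG e) u hu⟩
  constructor
  · rintro ⟨B, hmax⟩
    have hstep : ∀ (R : Subgroup G), (∃ g, NSub p M Q e R g) → R = Q := by
      rintro R ⟨g, hg⟩
      exact hmax.2 R g ((hg.isBrauerPairOf_iff hM).mpr hmax.1) (SubpairLE.step hM hg)
    obtain ⟨D, hD⟩ := exists_defectGroup hM he.2
    have hDQ : D.map (CQ Q).subtype ≤ Q := sup_eq_left.mp (hstep _
      (((isLocalBlock_self he.2).conjLE_iff hM he hD
        (isPGroup_defectGroup hM he.2 hD)).mp (conjLE_of_le le_rfl)))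
    have hDZ : D = Z := le_antisymm
      (fun z hz => (hZmem z).mpr (hDQ (Subgroup.mem_map_of_mem _ hz)))
      (normal_le_defectGroup hM he.2 hD hZp)
    have hd : blockDefect p e = (Nat.card Z).factorization p := by
      rw [← hDZ, defectGroup_card hM he.2 hD, Nat.Prime.factorization_pow Fact.out,
        Finsupp.single_eq_same]
    obtain ⟨θ, hθ, hker, hdeg⟩ := exists_kernel_of_central_defect hM he.2 hZcen hZp hd
    refine ⟨θ, hθ, fun z hz => hker z ((hZmem z).mpr hz), ?_, fun g hgN hgS hgp => ?_⟩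
    · rw [← hZc]; exact hdeg
    · obtain ⟨k, hk⟩ := hgp
      obtain ⟨F, hL, -⟩ := exists_stabilizerBlock hM he hT
      obtain ⟨DF, hDF⟩ := exists_defectGroup hM hL.block
      have hDFQ : DF.map T.subtype ≤ Q := sup_eq_left.mp (hstep _
        ((hL.conjLE_iff hM he hDF (isPGroup_defectGroup hM hL.block hDF)).mp (conjLE_of_le le_rfl)))
      have hn : (Q.subgroupOf T).Normal :=
        Subgroup.normal_subgroupOf_iff_le_normalizer hQT |>.mpr hL.norm
      have hDFe : DF = Q.subgroupOf T := le_antisymm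
        (fun z hz => Subgroup.mem_subgroupOf.mpr (hDFQ (Subgroup.mem_map_of_mem _ hz)))
        (normal_le_defectGroup hM hL.block hDF
          (he.1.of_equiv (Subgroup.subgroupOfEquivOfLe hQT).symm))
      exact hL.pElement_le hM he hQT (hDFe ▸ hDF) ((hT g).mpr ⟨hgN, hgS⟩) hk
  · rintro ⟨θ, hθ, hker, hdeg, hst⟩
    obtain ⟨B, hB⟩ := (existsUnique_block_of_pair hM he).exists
    refine ⟨B, (isMaximalBrauerPair_iff hM).mpr ⟨hB, fun R hR hlt hRN hstab x hx => ?_⟩⟩
    by_contra hne
    have hd : blockDefect p e = (Nat.card Z).factorization p :=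
      blockDefect_eq_of_kernel hM he.2 hZcen hZp hθ (fun z hz => hker z ((hZmem z).mp hz))
        (by rw [hZc]; exact hdeg)
    obtain ⟨D, hD⟩ := exists_defectGroup hM he.2
    have hDcard : Nat.card D = Nat.card Z := by
      obtain ⟨j, hj⟩ := IsPGroup.iff_card.mp hZp
      rw [defectGroup_card hM he.2 hD, hd, hj, Nat.Prime.factorization_pow Fact.out,
        Finsupp.single_eq_same]
    have hxC : x ∈ CQ Q := cq_mono hlt.le hx
    set R' : Subgroup (CQ Q) := R.subgroupOf (CQ Q) with hR'
    have hR'p : IsPGroup p R' := hR.comap_of_injective _ Subtype.val_injective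
    have hcard : Nat.card R' ≤ Nat.card Z := by
      rw [← hDcard]
      refine (coeff_ne_zero_le_defect hM he.2 hD hR'p (x := ⟨x, hxC⟩) ?_ fun u hu => ?_).card_le
      · rw [← coeff_eG]; exact hne
      · exact Subtype.ext (Subgroup.mem_centralizer_iff.mp hx _ (Subgroup.mem_subgroupOf.mp hu))
    have hZR : Z ≤ R' := fun z hz => Subgroup.mem_subgroupOf.mpr (hlt.le ((hZmem z).mp hz))
    have hZeq : Z = R' := Subgroup.eq_of_le_of_card_ge hZR hcard
    refine hlt.not_ge fun u hu => ?_
    obtain ⟨k, hk⟩ := IsPGroup.iff_orderOf.mp hR ⟨u, hu⟩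
    have h1 : u ∈ Q ⊔ CQ Q := hst u (hRN hu)
      ((stabilizesBlock_iff hM (hRN hu) he.2).mpr (cinv_iff_cj.mp hstab u hu))
      ⟨k, by rwa [← Subgroup.orderOf_mk u hu]⟩
    rw [← SetLike.mem_coe, Subgroup.coe_mul_of_right_le_normalizer_left _ _
      (centralizer_le_normalizer' Q)] at h1
    obtain ⟨q, hq, c, hc, rfl⟩ := h1
    have hcR : (⟨c, hc⟩ : CQ Q) ∈ R' := by
      have := mul_mem (inv_mem (hlt.le hq)) hu
      simpa [hR', Subgroup.mem_subgroupOf] using this
    rw [← hZeq, hZmem] at hcR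
    exact mul_mem hq hcR

end Cfsg.Agent.S4828
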