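import Cfsg.Statements.S4836
import Cfsg.Agent.Lib.Char.TwoNonzero

set_option autoImplicit false
open Cfsg

namespace Cfsg.Agent.S4836

/-- Let G be a finite group of order greater than 2 with an irreducible character χ that is nonzero on exactly two conjugacy classes. Then χ is faithful (it takes the value χ(1) only at the identity), it is the only faithful irreducible character of G, and it is the only irreducible character of G that is nonzero on exactly two conjugacy classes. -/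
theorem result {G : Type*} [Group G] [Finite G] (hG : 2 < Nat.card G) (χ : Cfsg.IrrCharacter G) (hχ : Nat.card {C : ConjClasses G // ∃ g ∈ C.carrier, (χ : G → ℂ) g ≠ 0} = 2) :
    (∀ g : G, (χ : G → ℂ) g = (χ : G → ℂ) 1 → g = 1) ∧
      (∀ ψ : Cfsg.IrrCharacter G, (∀ g : G, (ψ : G → ℂ) g = (ψ : G → ℂ) 1 → g = 1) → ψ = χ) ∧
      (∀ ψ : Cfsg.IrrCharacter G, Nat.card {C : ConjClasses G // ∃ g ∈ C.carrier, (ψ : G → ℂ) g ≠ 0} = 2 → ψ = χ) := by
  have hfaith : ∀ φ : IrrCharacter G,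
      Nat.card {C : ConjClasses G // ∃ g ∈ C.carrier, (φ : G → ℂ) g ≠ 0} = 2 →
      ∀ g : G, (φ : G → ℂ) g = (φ : G → ℂ) 1 → g = 1 := by
    intro φ hφ g hg
    obtain ⟨N, _, _, hN, _, _, hval⟩ := CfsgLib.Char.TwoNonzero.exists_support hG φ hφ
    exact CfsgLib.Char.TwoNonzero.faithful φ hN hval hg
  obtain ⟨N, _, hN1, _, _, hker, _⟩ := CfsgLib.Char.TwoNonzero.exists_support hG χ hχ
  obtain ⟨k, hkN, hk1⟩ := N.bot_or_exists_ne_one.resolve_left hN1
  have huniq : ∀ ψ : IrrCharacter G, (∀ g : G, (ψ : G → ℂ) g = (ψ : G → ℂ) 1 → g = 1) → ψ = χ := by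
    intro ψ hψ
    by_contra hne
    exact hk1 (hψ k (hker ψ hne k hkN))
  exact ⟨hfaith χ hχ, huniq, fun ψ hψ => huniq ψ (hfaith ψ hψ)⟩

end Cfsg.Agent.S4836
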