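import Cfsg.Statements.S4837
import Cfsg.Agent.Lib.Char.TwoNonzero

set_option autoImplicit false
open Cfsg

namespace Cfsg.Agent.S4837

/-- Let G be a finite group of order greater than 2 with an irreducible character χ nonzero on exactly two conjugacy classes, and let N be the set of elements where χ is nonzero, given as a nontrivial normal p-subgroup of G for the prime p. Then for every nonidentity x in N the centralizer C_G(x) is a Sylow p-subgroup of G, and for every irreducible character λ ≠ 1 of N the stabilizer of λ in G (its inertia group) is a Sylow p-subgroup of G. -/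
theorem result {G : Type*} [Group G] [Finite G] (hG : 2 < Nat.card G) (χ : Cfsg.IrrCharacter G) (hχ : Nat.card {C : ConjClasses G // ∃ g ∈ C.carrier, (χ : G → ℂ) g ≠ 0} = 2) (p : ℕ) [Fact p.Prime] (N : Subgroup G) [N.Normal] (hN : ∀ g : G, g ∈ N ↔ (χ : G → ℂ) g ≠ 0) (hNp : IsPGroup p N) (hN1 : N ≠ ⊥) :
    (∀ x ∈ N, x ≠ 1 → ∃ P : Sylow p G, Subgroup.centralizer ({x} : Set G) = P) ∧
      (∀ μ : Cfsg.IrrCharacter N, (μ : N → ℂ) ≠ (fun _ => (1 : ℂ)) → ∃ P : Sylow p G, ∀ g : G, g ∈ (P : Subgroup G) ↔ ∀ n n' : N, (n' : G) = g * n * g⁻¹ → (μ : N → ℂ) n' = (μ : N → ℂ) n) := by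
  obtain ⟨N', hN'n, hN'1, hN', htr, -, -⟩ := CfsgLib.Char.TwoNonzero.exists_support hG χ hχ
  obtain rfl : N' = N := by ext g; rw [← hN', hN]
  obtain ⟨k, hkN, hk1⟩ := N'.bot_or_exists_ne_one.resolve_left hN1
  refine ⟨fun x hx hx1 => ?_, fun μ hμ => ?_⟩
  · obtain ⟨hC, hci, hcp⟩ := CfsgLib.Char.TwoNonzero.centralizer_data hG χ hχ hN hNp hx hx1
    exact ⟨hC.toSylow (by rwa [hci]), rfl⟩
  · obtain ⟨hC, hci, hcp⟩ := CfsgLib.Char.TwoNonzero.centralizer_data hG χ hχ hN hNp hkN hk1
    obtain ⟨p', -, -, hel⟩ := CfsgLib.Char.TwoNonzero.elementaryAbelian hN1 htr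
    haveI := hel.1
    obtain ⟨I, hI, hIi⟩ := CfsgLib.Char.TwoNonzero.exists_inertia
      (fun a b => hel.1.is_comm.comm a b) htr μ hμ
    have hcard : Nat.card I = Nat.card (Subgroup.centralizer ({k} : Set G)) := by
      have h1 := I.card_mul_index
      rw [← (Subgroup.centralizer ({k} : Set G)).card_mul_index, hIi, hci] at h1
      exact mul_right_cancel₀ (fun h => hcp (by simp [h])) h1
    have hIp : IsPGroup p I := by
      obtain ⟨n, hn⟩ := IsPGroup.iff_card.mp hC
      exact IsPGroup.of_card (hcard.trans hn)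
    exact ⟨hIp.toSylow (by rwa [hIi]), fun g => hI g⟩

end Cfsg.Agent.S4837
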