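import Cfsg.Statements.S4838
import Cfsg.Agent.Lib.Char.TwoNonzero
import Cfsg.Agent.Lib.Block.CentralDefect

set_option autoImplicit false
open Cfsg

namespace Cfsg.Agent.S4838

/-- Let G be a finite group of order greater than 2 with an irreducible character χ nonzero on exactly two conjugacy classes, N the normal p-subgroup of elements where χ is nonzero, and P a Sylow p-subgroup of G. Then (a) for every x outside N the centralizer of x in G has the same order as the centralizer of xN in G/N; (b) the centre of P lies in N, and equals N exactly when P is normal in G; (c) N, viewed inside P, is a term of the upper central series of P. -/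
theorem result {G : Type*} [Group G] [Finite G] (hG : 2 < Nat.card G) (χ : Cfsg.IrrCharacter G) (hχ : Nat.card {C : ConjClasses G // ∃ g ∈ C.carrier, (χ : G → ℂ) g ≠ 0} = 2) (p : ℕ) [Fact p.Prime] (N : Subgroup G) [N.Normal] (hN : ∀ g : G, g ∈ N ↔ (χ : G → ℂ) g ≠ 0) (hNp : IsPGroup p N) (hN1 : N ≠ ⊥) (P : Sylow p G) :
    (∀ x : G, x ∉ N → Nat.card (Subgroup.centralizer ({x} : Set G)) = Nat.card (Subgroup.centralizer ({(x : G ⧸ N)} : Set (G ⧸ N)))) ∧
      ((Subgroup.center ↥(P : Subgroup G)).map (P : Subgroup G).subtype ≤ N ∧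
        ((Subgroup.center ↥(P : Subgroup G)).map (P : Subgroup G).subtype = N ↔ (P : Subgroup G).Normal)) ∧
      (∃ i : ℕ, Subgroup.upperCentralSeries ↥(P : Subgroup G) i = N.subgroupOf (P : Subgroup G)) := by
  classical
  obtain ⟨N', hN'n, hN'1, hN', htr, hker, hval⟩ := CfsgLib.Char.TwoNonzero.exists_support hG χ hχ
  obtain rfl : N' = N := by ext g; rw [← hN', hN]
  have := Fintype.ofFinite G
  have := Fintype.ofFinite (IrrCharacter G)
  have := Fintype.ofFinite (IrrCharacter (G ⧸ N'))
  obtain ⟨k, hkN, hk1⟩ := N'.bot_or_exists_ne_one.resolve_left hN1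
  have hcc : ∀ x : G, x ∉ N' → Nat.card (Subgroup.centralizer ({x} : Set G)) =
      Nat.card (Subgroup.centralizer ({(x : G ⧸ N')} : Set (G ⧸ N'))) := by
    intro x hx
    have hzero : (χ : G → ℂ) x = 0 := by
      by_contra h; exact hx ((hN x).mpr h)
    have h1 := CfsgLib.Char.sum_irr_mul_conj x x
    have h2 := CfsgLib.Char.sum_irr_mul_conj (x : G ⧸ N') (x : G ⧸ N')
    rw [if_pos (IsConj.refl _)] at h1 h2
    rw [← Finset.sum_erase_add _ _ (Finset.mem_univ χ), hzero, zero_mul, add_zero] at h1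
    have h3 : ∑ θ : IrrCharacter (G ⧸ N'),
        (θ : G ⧸ N' → ℂ) x * (starRingEnd ℂ) ((θ : G ⧸ N' → ℂ) x) =
        ∑ ψ ∈ Finset.univ.erase χ, (ψ : G → ℂ) x * (starRingEnd ℂ) ((ψ : G → ℂ) x) := by
      refine Finset.sum_bij (fun θ _ => (⟨fun g => (θ : G ⧸ N' → ℂ) g,
        CfsgLib.Char.isIrrCharacter_comp_surjective θ.2 (QuotientGroup.mk' N')
          (QuotientGroup.mk'_surjective N')⟩ : IrrCharacter G))
        (fun θ _ => Finset.mem_erase.mpr ⟨fun e => ?_, Finset.mem_univ _⟩) ?_ ?_ (fun θ _ => rfl)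
      · refine hk1 (CfsgLib.Char.TwoNonzero.faithful χ (fun g => (hN g).symm) hval ?_)
        rw [← e]
        show (θ : G ⧸ N' → ℂ) k = (θ : G ⧸ N' → ℂ) (1 : G)
        rw [(QuotientGroup.eq_one_iff k).mpr hkN, QuotientGroup.mk_one]
      · intro θ _ θ' _ e
        refine Subtype.ext (funext fun q => ?_)
        obtain ⟨g, rfl⟩ := QuotientGroup.mk_surjective q
        exact congrFun (congrArg Subtype.val e) g
      · intro ψ hψ
        obtain ⟨θ, hθ⟩ := CfsgLib.Block.exists_deflate (N := N') ψ
          (hker ψ (Finset.ne_of_mem_erase hψ))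
        exact ⟨θ, Finset.mem_univ _, Subtype.ext (funext hθ)⟩
    rw [h3, h1] at h2
    exact_mod_cast h2
  have hNP : N' ≤ (P : Subgroup G) := IsPGroup.le_sylow_of_normal hNp P
  have hpc : ∀ x : G, x ∉ N' → ∀ S : Subgroup G, IsPGroup p S →
      S ≤ Subgroup.centralizer ({x} : Set G) → Nat.card S * Nat.card N' ≤ Nat.card (P : Subgroup G) := by
    intro x hx S hS hle
    have h1 : Nat.card S ∣ Nat.card (G ⧸ N') :=
      (Subgroup.card_dvd_of_le hle).trans ((dvd_of_eq (hcc x hx)).trans (Subgroup.card_subgroup_dvd_card _))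
    obtain ⟨s, hs⟩ := IsPGroup.iff_card.mp hS
    obtain ⟨n, hn⟩ := IsPGroup.iff_card.mp hNp
    have h2 : p ^ (s + n) ∣ Nat.card G := by
      rw [pow_add, ← hs, ← hn, Subgroup.card_eq_card_quotient_mul_card_subgroup N']
      exact Nat.mul_dvd_mul_right h1 _
    have h3 : p ^ (s + n) ∣ Nat.card (P : Subgroup G) := by
      rw [P.card_eq_multiplicity]
      exact pow_dvd_pow p (((Fact.out : p.Prime).pow_dvd_iff_le_factorization Nat.card_pos.ne').mp h2)
    rw [hs, hn, ← pow_add]
    exact Nat.le_of_dvd Nat.card_pos h3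
  have hNlt : 1 < Nat.card N' := by
    haveI : Nontrivial N' := (Subgroup.nontrivial_iff_ne_bot N').mpr hN1
    exact Finite.one_lt_card
  have hZN : (Subgroup.center ↥(P : Subgroup G)).map (P : Subgroup G).subtype ≤ N' := by
    rintro _ ⟨z, hz, rfl⟩
    by_contra hzN
    have hle : (P : Subgroup G) ≤ Subgroup.centralizer ({((P : Subgroup G).subtype z)} : Set G) := by
      intro u hu
      rw [Subgroup.mem_centralizer_singleton_iff]
      exact congrArg Subtype.val (Subgroup.mem_center_iff.mp hz ⟨u, hu⟩)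
    have h := hpc _ hzN _ P.isPGroup' hle
    have h2 : Nat.card (P : Subgroup G) * Nat.card N' ≤ Nat.card (P : Subgroup G) * 1 := by
      rw [mul_one]; exact h
    have := Nat.le_of_mul_le_mul_left h2 Nat.card_pos
    omega
  have hsyl : ∀ x ∈ N', x ≠ 1 → ∃ S : Sylow p G, Subgroup.centralizer ({x} : Set G) = S := by
    intro x hx hx1
    obtain ⟨hC, hci, hcp⟩ := CfsgLib.Char.TwoNonzero.centralizer_data hG χ hχ hN hNp hx hx1
    exact ⟨hC.toSylow (by rwa [hci]), rfl⟩
  refine ⟨hcc, ⟨hZN, ⟨fun hZ => ?_, fun hPn => le_antisymm hZN fun x hx => ?_⟩⟩, ?_⟩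
  · -- centralizers of nontrivial elements of N all equal P
    have hCP : ∀ x ∈ N', x ≠ 1 → Subgroup.centralizer ({x} : Set G) = (P : Subgroup G) := by
      intro x hx hx1
      obtain ⟨S, hS⟩ := hsyl x hx hx1
      rw [hS]
      refine P.is_maximal' S.isPGroup' ?_
      rw [← hS]
      intro u hu
      rw [← hZ] at hx
      obtain ⟨z, hz, rfl⟩ := hx
      rw [Subgroup.mem_centralizer_singleton_iff]
      exact congrArg Subtype.val (Subgroup.mem_center_iff.mp hz ⟨u, hu⟩)
    refine ⟨fun u hu g => ?_⟩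
    have hmem : g⁻¹ * k * g ∈ N' := by simpa using ‹N'.Normal›.conj_mem k hkN g⁻¹
    have hne : g⁻¹ * k * g ≠ 1 := fun e => hk1 (by
      simpa [mul_assoc] using congrArg (fun w => g * w * g⁻¹) e)
    rw [← hCP _ hmem hne, Subgroup.mem_centralizer_singleton_iff] at hu
    rw [← hCP k hkN hk1, Subgroup.mem_centralizer_singleton_iff]
    calc g * u * g⁻¹ * k = g * (u * (g⁻¹ * k * g)) * g⁻¹ := by group
      _ = g * ((g⁻¹ * k * g) * u) * g⁻¹ := by rw [hu]
      _ = k * (g * u * g⁻¹) := by group
  · refine ⟨⟨x, hNP hx⟩, Subgroup.mem_center_iff.mpr fun u => Subtype.ext ?_, rfl⟩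
    show (u : G) * x = x * u
    by_cases hx1 : x = 1
    · simp [hx1]
    obtain ⟨S, hS⟩ := hsyl x hx hx1
    haveI := Sylow.unique_of_normal P hPn
    have : (u : G) ∈ Subgroup.centralizer ({x} : Set G) := by
      rw [hS, Subsingleton.elim S P]; exact u.2
    exact Subgroup.mem_centralizer_singleton_iff.mp this
  · -- the upper central series passes through N
    haveI : Group.IsNilpotent (P : Subgroup G) := P.isPGroup'.isNilpotent
    set M := N'.subgroupOf (P : Subgroup G) with hM
    by_cases htop : M = ⊤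
    · obtain ⟨m, hm⟩ := ‹Group.IsNilpotent (P : Subgroup G)›.nilpotent'
      exact ⟨m, hm.trans htop.symm⟩
    obtain ⟨m, hm⟩ := ‹Group.IsNilpotent (P : Subgroup G)›.nilpotent'
    have hex : ∃ j, ¬ Subgroup.upperCentralSeries ↥(P : Subgroup G) j ≤ M :=
      ⟨m, fun h => htop (top_le_iff.mp (hm ▸ h))⟩
    obtain ⟨x, hx, hxM⟩ := SetLike.not_le_iff_exists.mp (Nat.find_spec hex)
    obtain ⟨j, hj⟩ : ∃ j, Nat.find hex = j + 1 := by
      refine ⟨Nat.find hex - 1, ?_⟩
      have : Nat.find hex ≠ 0 := fun h => Nat.find_spec hex (by rw [h]; simp)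
      omega
    have hjM : Subgroup.upperCentralSeries ↥(P : Subgroup G) j ≤ M :=
      not_not.mp (Nat.find_min hex (by omega))
    refine ⟨j, le_antisymm hjM ?_⟩
    rw [hj] at hx
    have hxN : (x : G) ∉ N' := fun h => hxM (Subgroup.mem_subgroupOf.mpr h)
    set Cx := Subgroup.centralizer ({x} : Set ↥(P : Subgroup G)) with hCx
    have hbound := hpc (x : G) hxN (Cx.map (P : Subgroup G).subtype)
      ((P.isPGroup'.to_subgroup Cx).map _) (by
        rintro _ ⟨u, hu, rfl⟩
        exact Subgroup.mem_centralizer_singleton_iff.mpr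
          (congrArg Subtype.val (Subgroup.mem_centralizer_singleton_iff.mp hu)))
    rw [Subgroup.card_map_of_injective (P : Subgroup G).subtype_injective,
      ← Cx.card_mul_index] at hbound
    have hidx : Nat.card N' ≤ Cx.index := Nat.le_of_mul_le_mul_left hbound Nat.card_pos
    have hcl : Cx.index ≤ Nat.card (Subgroup.upperCentralSeries ↥(P : Subgroup G) j) := by
      rw [hCx, ← CfsgLib.Char.card_isConj]
      refine Nat.card_le_card_of_injective (fun y => (⟨x⁻¹ * y.1, ?_⟩ :
        Subgroup.upperCentralSeries ↥(P : Subgroup G) j)) fun a b e => Subtype.ext ?_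
      · obtain ⟨c, hc⟩ := isConj_iff.mp y.2
        have h := (Subgroup.upperCentralSeries_isAscendingCentralSeries ↥(P : Subgroup G)).2 x j hx c
        rw [← hc]
        have h' := (inferInstance : (Subgroup.upperCentralSeries ↥(P : Subgroup G) j).Normal).conj_mem _
          ((Subgroup.upperCentralSeries ↥(P : Subgroup G) j).inv_mem h) x⁻¹
        convert h' using 1
        simp only [mul_inv_rev, inv_inv, commutatorElement_def]
        group
      · exact mul_left_cancel (congrArg Subtype.val e)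
    have hMc : Nat.card M = Nat.card N' :=
      Nat.card_congr (Subgroup.subgroupOfEquivOfLe hNP).toEquiv
    exact (Subgroup.eq_of_le_of_card_ge hjM (by omega)).ge

end Cfsg.Agent.S4838
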