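import Cfsg.Statements.S4839
import Cfsg.Agent.Lib.Char.TwoNonzero
import Cfsg.Agent.Lib.Invol.InvertedOdd
import Cfsg.Agent.Lib.Coprime.Frobenius

set_option autoImplicit false
open Cfsg

namespace Cfsg.Agent.S4839

namespace Aux

open CfsgLib

universe u

section
variable {G : Type u} [Group G] [Finite G] {p : ℕ} [Fact p.Prime] {N : Subgroup G} [N.Normal]

theorem no_prime_in_index (hcomm : ∀ a ∈ N, ∀ b ∈ N, a * b = b * a) (hexp : ∀ a ∈ N, a ^ p = 1)
    (hN1 : N ≠ ⊥) (hNp : IsPGroup p N) (hcore : Cfsg.pCore p G = N)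
    (hcent : ∀ c ∈ N, c ≠ 1 → IsPGroup p (Subgroup.centralizer ({c} : Set G)) ∧
      (Subgroup.centralizer ({c} : Set G)).index = Nat.card N - 1)
    (hcoset : ∀ y ∉ N, ∀ n ∈ N, IsConj y (y * n)) : ¬ p ∣ N.index := by
  classical
  intro hdvd
  have hp : p.Prime := Fact.out
  obtain ⟨x, hx, hx1⟩ := N.bot_or_exists_ne_one.resolve_left hN1
  -- the centralizer of `N` lies in `N`
  have hCN : ∀ g : G, (∀ n ∈ N, g * n = n * g) → g ∈ N := by
    intro g hg
    have hle : Subgroup.centralizer (N : Set G) ≤ Cfsg.pCore p G := by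
      refine Coprime.le_pCore ((hcent x hx hx1).1.to_le fun a ha => ?_)
      exact Subgroup.mem_centralizer_singleton_iff.2 (Subgroup.mem_centralizer_iff.1 ha x hx).symm
    exact hcore ▸ hle (Subgroup.mem_centralizer_iff.2 fun n hn => (hg n hn).symm)
  have hcj : ∀ (g : G), ∀ n ∈ N, g * n * g⁻¹ ∈ N := fun g n hn => ‹N.Normal›.conj_mem n hn g
  have hcj' : ∀ (g : G), ∀ n ∈ N, g⁻¹ * n * g ∈ N := fun g n hn => by
    simpa using hcj g⁻¹ n hn
  rcases hp.eq_two_or_odd with hp2 | hpodd
  · subst hp2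
    have hinv : ∀ a ∈ N, a⁻¹ = a := fun a ha =>
      inv_eq_of_mul_eq_one_right (by rw [← pow_two]; exact hexp a ha)
    -- no involutions outside `N`
    have hno : ∀ y : G, y * y = 1 → y ∈ N := by
      intro y hy
      by_contra hyN
      refine hyN (hCN y fun n hn => ?_)
      obtain ⟨g, hg⟩ := isConj_iff.1 (hcoset y hyN n hn)
      have h1 : y * n * (y * n) = 1 := by
        rw [← hg, show g * y * g⁻¹ * (g * y * g⁻¹) = g * (y * y) * g⁻¹ by group, hy, mul_one,
          mul_inv_cancel]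
      have hy' : y⁻¹ = y := inv_eq_of_mul_eq_one_right hy
      calc y * n = (y * n)⁻¹ := (inv_eq_of_mul_eq_one_right h1).symm
        _ = n * y := by rw [mul_inv_rev, hy', hinv n hn]
    obtain ⟨t, ht⟩ := exists_prime_orderOf_dvd_card' (G := G ⧸ N) 2
      (by rwa [← Subgroup.index_eq_card])
    obtain ⟨r, hr1, hrodd, hrinv⟩ := CfsgLib.Invol.exists_odd_inverted_of_notMem_pCore ht (by
      intro hmem
      set Pr := (Cfsg.pCore 2 (G ⧸ N)).comap (QuotientGroup.mk' N) with hPr
      haveI : (Cfsg.pCore 2 (G ⧸ N)).Normal := Coprime.pCore_normal' 2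
      have hPrp : IsPGroup 2 Pr :=
        (Coprime.pCore_isPGroup 2).comap_of_ker_isPGroup _ (by rwa [QuotientGroup.ker_mk'])
      obtain ⟨y, rfl⟩ := QuotientGroup.mk_surjective t
      have hy : y ∈ N := hcore ▸ Coprime.le_pCore hPrp (show y ∈ Pr from hmem)
      rw [(QuotientGroup.eq_one_iff y).2 hy, orderOf_one] at ht
      norm_num at ht)
    obtain ⟨ht2, ht1⟩ := CfsgLib.Invol.invol_iff.1 ht
    obtain ⟨y, rfl⟩ := QuotientGroup.mk_surjective t
    have ha : y * y ∈ N := (QuotientGroup.eq_one_iff _).1 (by rw [QuotientGroup.mk_mul]; exact ht2)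
    have hyN : y ∉ N := fun h => ht1 ((QuotientGroup.eq_one_iff y).2 h)
    obtain ⟨s, hs, hss⟩ := CfsgLib.Invol.exists_sqrt_of_odd hrodd
    obtain ⟨k, rfl⟩ := QuotientGroup.mk_surjective s
    -- `y' = k⁻¹ y k` has image `y r`
    have hy' : ((k⁻¹ * y * k : G) : G ⧸ N) = (y : G ⧸ N) * r := by
      obtain ⟨m, hm⟩ := Subgroup.mem_zpowers_iff.1 hs
      have h1 : (y : G ⧸ N) * k * (y : G ⧸ N)⁻¹ = (k : G ⧸ N)⁻¹ := by
        rw [← hm, ← conj_zpow, hrinv, inv_zpow]
      rw [QuotientGroup.mk_mul, QuotientGroup.mk_mul, QuotientGroup.mk_inv, ← h1, ← hss]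
      group
    set C := N ⊓ Subgroup.centralizer ({y} : Set G) with hC
    have hC' : ∀ {c : G}, c ∈ C → c ∈ N ∧ c * y = y * c := fun hc =>
      ⟨hc.1, Subgroup.mem_centralizer_singleton_iff.1 hc.2⟩
    -- `C` and its conjugate meet trivially
    let f : C × C → N := fun cd => ⟨cd.1 * (k⁻¹ * cd.2 * k), mul_mem cd.1.2.1 (hcj' k _ cd.2.2.1)⟩
    have hf : Function.Injective f := by
      rintro ⟨c, d⟩ ⟨c', d'⟩ e
      have e' : (c : G) * (k⁻¹ * d * k) = c' * (k⁻¹ * d' * k) := congrArg Subtype.val e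
      set w : G := (c' : G)⁻¹ * c with hw
      have hwC : w ∈ C := mul_mem (inv_mem c'.2) c.2
      have hw2 : w = k⁻¹ * ((d' : G) * (d : G)⁻¹) * k := by
        calc w = (c' : G)⁻¹ * (c * (k⁻¹ * d * k)) * (k⁻¹ * d * k)⁻¹ := by rw [hw]; group
          _ = k⁻¹ * ((d' : G) * (d : G)⁻¹) * k := by rw [e']; group
      have hdd : (d' : G) * (d : G)⁻¹ ∈ C := mul_mem d'.2 (inv_mem d.2)
      have hc1 : w * (k⁻¹ * y * k) = (k⁻¹ * y * k) * w := by
        rw [hw2, show k⁻¹ * ((d' : G) * (d : G)⁻¹) * k * (k⁻¹ * y * k) = k⁻¹ * (((d' : G) * (d : G)⁻¹) * y) * k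
          by group, (hC' hdd).2]
        group
      have hw1 : w = 1 := by
        by_contra hne
        set z := y⁻¹ * (k⁻¹ * y * k) with hz
        have hzc : z ∈ Subgroup.centralizer ({w} : Set G) := Subgroup.mem_centralizer_singleton_iff.2
          ((Commute.mul_right (Commute.inv_right (hC' hwC).2) hc1).symm.eq)
        obtain ⟨j, hj⟩ := (hcent w (hC' hwC).1 hne).1 ⟨z, hzc⟩
        have hzr : ((z : G) : G ⧸ N) = r := by
          rw [hz, QuotientGroup.mk_mul, hy', QuotientGroup.mk_inv, inv_mul_cancel_left]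
        have hr2 : r ^ 2 ^ j = 1 := by
          rw [← hzr, ← QuotientGroup.mk_pow, show z ^ 2 ^ j = 1 from congrArg Subtype.val hj,
            QuotientGroup.mk_one]
        obtain ⟨i, -, hi⟩ := (Nat.dvd_prime_pow Nat.prime_two).1 (orderOf_dvd_of_pow_eq_one hr2)
        refine hr1 (orderOf_eq_one_iff.1 ?_)
        rw [hi] at hrodd ⊢
        rcases i with _ | i
        · rfl
        · exact absurd hrodd (by simp [Nat.odd_iff, pow_succ, Nat.mul_mod_left])
      have hcc : (c : G) = c' := (inv_mul_eq_one.1 hw1).symm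
      rw [hcc] at e'
      exact Prod.ext (Subtype.ext hcc) (Subtype.ext (mul_left_cancel (mul_right_cancel (mul_left_cancel e'))))
    let φ : N →* N :=
      { toFun := fun n => ⟨y⁻¹ * n * y * n, mul_mem (hcj' y _ n.2) n.2⟩
        map_one' := Subtype.ext (by simp)
        map_mul' := fun a b => Subtype.ext (by
          show y⁻¹ * ((a : G) * b) * y * (a * b) = y⁻¹ * a * y * a * (y⁻¹ * b * y * b)
          calc y⁻¹ * ((a : G) * b) * y * (a * b) = y⁻¹ * a * y * ((y⁻¹ * b * y) * a) * b := by group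
            _ = y⁻¹ * a * y * ((a : G) * (y⁻¹ * b * y)) * b := by rw [hcomm _ (hcj' y _ b.2) _ a.2]
            _ = y⁻¹ * a * y * a * (y⁻¹ * b * y * b) := by group) }
    have hker : φ.ker.map N.subtype = C := by
      ext n
      constructor
      · rintro ⟨m, hm, rfl⟩
        refine ⟨m.2, Subgroup.mem_centralizer_singleton_iff.2 ?_⟩
        have h : y⁻¹ * (m : G) * y * m = 1 := congrArg Subtype.val hm
        have h2 : y⁻¹ * (m : G) * y = m := by rw [eq_inv_of_mul_eq_one_left h, hinv _ m.2]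
        calc (m : G) * y = y * (y⁻¹ * m * y) := by group
          _ = y * m := by rw [h2]
      · intro hn
        refine ⟨⟨n, (hC' hn).1⟩, Subtype.ext ?_, rfl⟩
        show y⁻¹ * n * y * n = 1
        rw [mul_assoc y⁻¹ n y, (hC' hn).2, ← mul_assoc, inv_mul_cancel, one_mul, ← pow_two,
          hexp n (hC' hn).1]
    have hrange : φ.range.map N.subtype ≤ C := by
      rintro _ ⟨_, ⟨m, rfl⟩, rfl⟩
      refine ⟨(φ m).2, Subgroup.mem_centralizer_singleton_iff.2 ?_⟩
      show y⁻¹ * (m : G) * y * m * y = y * (y⁻¹ * m * y * m)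
      have h1 : y⁻¹ * (y⁻¹ * (m : G) * y) * y = m := by
        rw [show y⁻¹ * (y⁻¹ * (m : G) * y) * y = (y * y)⁻¹ * (m * (y * y)) by group, hcomm _ m.2 _ ha,
          inv_mul_cancel_left]
      calc y⁻¹ * (m : G) * y * m * y = y * ((y⁻¹ * (y⁻¹ * (m : G) * y) * y) * (y⁻¹ * m * y)) := by group
        _ = y * ((m : G) * (y⁻¹ * m * y)) := by rw [h1]
        _ = y * (y⁻¹ * m * y * m) := by rw [hcomm _ m.2 _ (hcj' y _ m.2)]
    have hcardC : Nat.card φ.ker = Nat.card C := by
      rw [← hker, Subgroup.card_map_of_injective Subtype.val_injective]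
    have hsq := Nat.card_le_card_of_injective f hf
    rw [Nat.card_prod] at hsq
    have hmul : Nat.card φ.range * Nat.card φ.ker = Nat.card N := by
      rw [Subgroup.card_eq_card_quotient_mul_card_subgroup φ.ker,
        Nat.card_congr (QuotientGroup.quotientKerEquivRange φ).toEquiv]
    have hle := Subgroup.card_le_of_le hrange
    rw [Subgroup.card_map_of_injective Subtype.val_injective] at hle
    rw [hcardC] at hmul
    have heq : φ.range.map N.subtype = C := by
      refine Subgroup.eq_of_le_of_card_ge hrange ?_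
      rw [Subgroup.card_map_of_injective Subtype.val_injective]
      exact Nat.le_of_mul_le_mul_right (hsq.trans hmul.ge) Nat.card_pos
    have haC : y * y ∈ C := ⟨ha, Subgroup.mem_centralizer_singleton_iff.2 (mul_assoc y y y)⟩
    rw [← heq] at haC
    obtain ⟨_, ⟨n, rfl⟩, hn⟩ := haC
    have hn' : y⁻¹ * (n : G) * y * n = y * y := hn
    refine hyN ((mul_mem_cancel_right n.2).1 (hno (y * n) ?_))
    rw [show y * (n : G) * (y * n) = y * y * (y⁻¹ * n * y * n) by group, hn', ← pow_two,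
      hexp _ ha]
  · -- odd prime: an involution inverts `N`
    have hNodd : Odd (Nat.card N) := by
      obtain ⟨j, hj⟩ := hNp.exists_card_eq
      rw [hj]
      exact (Nat.odd_iff.2 hpodd).pow
    have h2G : 2 ∣ Nat.card G := by
      refine dvd_trans ?_ (Subgroup.index_dvd_card (Subgroup.centralizer ({x} : Set G)))
      rw [(hcent x hx hx1).2]
      obtain ⟨j, hj⟩ := hNodd
      exact ⟨j, by omega⟩
    haveI : Fact (Nat.Prime 2) := ⟨Nat.prime_two⟩
    obtain ⟨y, hy⟩ := exists_prime_orderOf_dvd_card' (G := G) 2 h2G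
    have hyy := CfsgLib.Invol.invol_mul_self hy
    have hfix : ∀ n ∈ N, n * y = y * n → n = 1 := by
      intro n hn hc
      by_contra hne
      obtain ⟨j, hj⟩ := (IsPGroup.iff_orderOf.1 (hcent n hn hne).1)
        ⟨y, Subgroup.mem_centralizer_singleton_iff.2 hc.symm⟩
      rw [← Subgroup.orderOf_coe, hy] at hj
      have := congrArg (fun t => t % 2) hj
      simp only [Nat.mod_self, Nat.odd_iff.1 ((Nat.odd_iff.2 hpodd).pow (n := j))] at this
      exact absurd this (by norm_num)
    have hy' : y⁻¹ = y := inv_eq_of_mul_eq_one_right hyy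
    have hinv : ∀ n ∈ N, y * n * y⁻¹ = n⁻¹ := by
      intro n hn
      have h : y * n * y⁻¹ * n = 1 := by
        refine hfix _ (mul_mem (hcj y n hn) hn) ?_
        calc y * n * y⁻¹ * n * y = y * n * y⁻¹ * n * y⁻¹ := by rw [hy']
          _ = y * (n * (y⁻¹ * n * y⁻¹⁻¹)) * (y⁻¹ * y⁻¹) := by group
          _ = y * (n * (y * n * y⁻¹)) * (y⁻¹ * y⁻¹) := by rw [hy', hy']
          _ = y * ((y * n * y⁻¹) * n) * (y⁻¹ * y⁻¹) := by rw [hcomm _ hn _ (hcj y n hn)]
          _ = y * (y * n * y⁻¹ * n) := by rw [show y⁻¹ * y⁻¹ = 1 by rw [hy', hyy], mul_one]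
      exact eq_inv_of_mul_eq_one_left h
    have hinvg : ∀ (g : G), ∀ n ∈ N, (g * y * g⁻¹) * n * (g * y * g⁻¹)⁻¹ = n⁻¹ := fun g n hn => by
      rw [show g * y * g⁻¹ * n * (g * y * g⁻¹)⁻¹ = g * (y * (g⁻¹ * n * g) * y⁻¹) * g⁻¹ by group,
        hinv _ (hcj' g n hn)]
      group
    have hadj : ∀ g : G, ∃ n ∈ N, Commute (n * g) y := by
      intro g
      set m := y⁻¹ * (g * y * g⁻¹) with hm
      have hmN : m ∈ N := hCN m fun n hn => by
        have h1 := hinvg g n hn
        have h2 := hinv _ (inv_mem hn)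
        rw [inv_inv] at h2
        have h3 : m * n * m⁻¹ = n := by
          rw [hm, show y⁻¹ * (g * y * g⁻¹) * n * (y⁻¹ * (g * y * g⁻¹))⁻¹ =
            y⁻¹ * (g * y * g⁻¹ * n * (g * y * g⁻¹)⁻¹) * y by group, h1]
          conv_rhs => rw [← h2]
          rw [hy']
        exact mul_inv_eq_iff_eq_mul.1 h3
      obtain ⟨n, hn, hnn⟩ := CfsgLib.Invol.exists_sqrt_of_odd (x := m)
        (hNodd.of_dvd_nat (Subgroup.orderOf_dvd_natCard N hmN))
      have hnN : n ∈ N := Subgroup.zpowers_le.2 hmN hn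
      refine ⟨n, hnN, ?_⟩
      show n * g * y = y * (n * g)
      have h4 : n * y = y * n⁻¹ := by
        rw [← hinv n hnN, ← mul_assoc, ← mul_assoc, hyy, one_mul, hy']
      calc n * g * y = n * y * (y⁻¹ * (g * y * g⁻¹)) * g := by group
        _ = y * n⁻¹ * (n * n) * g := by rw [h4, ← hm, hnn]
        _ = y * (n * g) := by group
    obtain ⟨t, ht⟩ := exists_prime_orderOf_dvd_card' (G := G ⧸ N) p
      (by rwa [← Subgroup.index_eq_card])
    obtain ⟨u₀, rfl⟩ := QuotientGroup.mk_surjective t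
    obtain ⟨n₀, hn₀, hw⟩ := hadj u₀
    set w := n₀ * u₀ with hwdef
    have hwu : (w : G ⧸ N) = (u₀ : G ⧸ N) := by
      rw [hwdef, QuotientGroup.mk_mul, (QuotientGroup.eq_one_iff n₀).2 hn₀, one_mul]
    have hwN : w ∉ N := fun h => by
      rw [← hwu, (QuotientGroup.eq_one_iff w).2 h, orderOf_one] at ht
      exact hp.ne_one ht.symm
    have hwp : w ^ p = 1 := by
      refine hfix _ ((QuotientGroup.eq_one_iff _).1 ?_) (hw.pow_left p).eq
      rw [QuotientGroup.mk_pow, hwu, ← ht, pow_orderOf_eq_one]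
    obtain ⟨c, hc, hc1, hcw⟩ : ∃ c ∈ N, c ≠ 1 ∧ w⁻¹ * c * w = c := by
      set W := Subgroup.zpowers w
      have hWp : IsPGroup p W := by
        refine IsPGroup.of_card (n := 1) ?_
        rw [Nat.card_zpowers, pow_one, orderOf_eq_prime hwp fun h => hwN (h ▸ one_mem N)]
      letI act : MulAction W N :=
        { smul := fun a n => ⟨(a : G) * n * (a : G)⁻¹, hcj _ _ n.2⟩
          one_smul := fun n => Subtype.ext (by show ((1 : W) : G) * n * ((1 : W) : G)⁻¹ = n; simp)
          mul_smul := fun a b n => Subtype.ext (by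
            show ((a * b : W) : G) * n * ((a * b : W) : G)⁻¹ = (a : G) * ((b : G) * n * (b : G)⁻¹) * (a : G)⁻¹
            push_cast
            group) }
      have hone : (1 : N) ∈ MulAction.fixedPoints W N := fun a => Subtype.ext (by
        show (a : G) * ((1 : N) : G) * (a : G)⁻¹ = ((1 : N) : G); simp)
      haveI : Nontrivial N := (Subgroup.nontrivial_iff_ne_bot N).2 hN1
      obtain ⟨j, hj0, hj⟩ := hNp.nontrivial_iff_card.1 this
      obtain ⟨b, hb, hb1⟩ := hWp.exists_fixed_point_of_prime_dvd_card_of_fixed_point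
        (α := N) (hj ▸ dvd_pow_self p hj0.ne') hone
      refine ⟨b, b.2, fun e => hb1 (Subtype.ext e.symm), ?_⟩
      have h : w * (b : G) * w⁻¹ = b := congrArg Subtype.val (hb ⟨w, Subgroup.mem_zpowers w⟩)
      nth_rewrite 1 [← h]
      group
    let ψ : N → N := fun n => ⟨w⁻¹ * n * w * (n : G)⁻¹, mul_mem (hcj' w _ n.2) (inv_mem n.2)⟩
    have hsurj : Function.Surjective ψ := by
      intro m
      obtain ⟨g, hg⟩ := isConj_iff.1 (hcoset w hwN m m.2)
      obtain ⟨n', hn', hk⟩ := hadj g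
      set k := n' * g with hkdef
      have hkw : k * w * k⁻¹ = w := by
        have hN' : w⁻¹ * (k * w * k⁻¹) ∈ N := by
          rw [hkdef, show n' * g * w * (n' * g)⁻¹ = n' * (g * w * g⁻¹) * n'⁻¹ by group, hg,
            show w⁻¹ * (n' * (w * (m : G)) * n'⁻¹) = w⁻¹ * n' * w * m * n'⁻¹ by group]
          exact mul_mem (mul_mem (hcj' w _ hn') m.2) (inv_mem hn')
        exact (inv_mul_eq_one.1 (hfix _ hN' ((hw.inv_left.mul_left
          ((hk.mul_left hw).mul_left hk.inv_left)).eq))).symm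
      refine ⟨⟨n'⁻¹, inv_mem hn'⟩, Subtype.ext ?_⟩
      show w⁻¹ * n'⁻¹ * w * n'⁻¹⁻¹ = m
      have h5 : n'⁻¹ * w * n'⁻¹⁻¹ = w * m := by
        rw [← hg]
        nth_rewrite 1 [← hkw]
        rw [hkdef]
        group
      calc w⁻¹ * n'⁻¹ * w * n'⁻¹⁻¹ = w⁻¹ * (n'⁻¹ * w * n'⁻¹⁻¹) := by group
        _ = m := by rw [h5, inv_mul_cancel_left]
    have hinj := Finite.injective_iff_surjective.2 hsurj
    have e : ψ ⟨c, hc⟩ = ψ 1 := Subtype.ext (by
      show w⁻¹ * c * w * c⁻¹ = w⁻¹ * ((1 : N) : G) * w * ((1 : N) : G)⁻¹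
      rw [hcw]
      simp)
    exact hc1 (congrArg Subtype.val (hinj e))

end

end Aux

/-- Let G be a finite group of order greater than 2 with an irreducible character χ nonzero on exactly two conjugacy classes, and let N be the normal p-subgroup of elements where χ is nonzero. Then N is the whole p-core O_p(G) if and only if G is a doubly transitive Frobenius group with kernel N: G has a Frobenius complement H whose Frobenius kernel is N and whose order is one less than that of N. -/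
theorem result {G : Type*} [Group G] [Finite G] (hG : 2 < Nat.card G) (χ : Cfsg.IrrCharacter G) (hχ : Nat.card {C : ConjClasses G // ∃ g ∈ C.carrier, (χ : G → ℂ) g ≠ 0} = 2) (p : ℕ) [Fact p.Prime] (N : Subgroup G) [N.Normal] (hN : ∀ g : G, g ∈ N ↔ (χ : G → ℂ) g ≠ 0) (hNp : IsPGroup p N) (hN1 : N ≠ ⊥) :
    N = Cfsg.pCore p G ↔ ∃ H : Subgroup G, Cfsg.IsFrobeniusComplement H ∧ Cfsg.frobeniusKernel H = (N : Set G) ∧ Nat.card H + 1 = Nat.card N := by
  classical
  obtain ⟨N', hN'n, -, hN', htr, hker, -⟩ := CfsgLib.Char.TwoNonzero.exists_support hG χ hχ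
  obtain rfl : N' = N := by ext g; rw [← hN', hN]
  obtain ⟨q, hq, hqp, hq_el⟩ := CfsgLib.Char.TwoNonzero.elementaryAbelian hN1 htr
  haveI hnt : Nontrivial N' := (Subgroup.nontrivial_iff_ne_bot N').2 hN1
  obtain ⟨j, hj0, hj⟩ := hNp.nontrivial_iff_card.1 hnt
  have hp : p.Prime := Fact.out
  have hpq : q = p := by
    haveI := Fact.mk hq
    obtain ⟨i, hi0, hi⟩ := hqp.nontrivial_iff_card.1 hnt
    exact ((Nat.prime_dvd_prime_iff_eq hp hq).1
      (hp.dvd_of_dvd_pow (by rw [← hi, hj]; exact dvd_pow_self p hj0.ne'))).symm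
  subst hpq
  obtain ⟨hcom, hexp⟩ := hq_el
  have hcomm : ∀ a ∈ N', ∀ b ∈ N', a * b = b * a := fun a ha b hb =>
    congrArg Subtype.val (hcom.1.comm ⟨a, ha⟩ ⟨b, hb⟩)
  have hcent : ∀ c ∈ N', c ≠ 1 → IsPGroup q (Subgroup.centralizer ({c} : Set G)) ∧
      (Subgroup.centralizer ({c} : Set G)).index = Nat.card N' - 1 := fun c hc hc1 =>
    let h := CfsgLib.Char.TwoNonzero.centralizer_data hG χ hχ hN hNp hc hc1
    ⟨h.1, h.2.1⟩
  obtain ⟨x, hx, hx1⟩ := N'.bot_or_exists_ne_one.resolve_left hN1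
  constructor
  · intro hcore
    have hcop : ¬ q ∣ N'.index := by
      refine Aux.no_prime_in_index hcomm hexp hN1 hNp hcore.symm hcent fun y hy n hn => ?_
      haveI := Fintype.ofFinite G
      refine CfsgLib.Char.isConj_of_irr_agree fun ψ => ?_
      by_cases hψ : ψ = χ
      · subst hψ
        have h1 : (ψ : G → ℂ) y = 0 := by
          by_contra h
          exact hy ((hN y).2 h)
        have h2 : (ψ : G → ℂ) (y * n) = 0 := by
          by_contra h
          exact hy ((mul_mem_cancel_right hn).1 ((hN _).2 h))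
        rw [h1, h2]
      · obtain ⟨χ', m, ρ, hρ, rfl⟩ := ψ
        have h3 : ρ.character n = ρ.character 1 := hker _ hψ n hn
        rw [Representation.char_one, CfsgLib.Char.char_eq_degree_iff ρ n] at h3
        show ρ.character y = ρ.character (y * n)
        unfold Representation.character
        rw [map_mul, h3, ← Module.End.one_eq_id, mul_one]
    have hCN : ∀ c ∈ N', c ≠ 1 → Subgroup.centralizer ({c} : Set G) = N' := by
      intro c hc hc1
      have hle : N' ≤ Subgroup.centralizer ({c} : Set G) := fun a ha =>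
        Subgroup.mem_centralizer_singleton_iff.2 (hcomm a ha c hc)
      refine le_antisymm (Subgroup.relIndex_eq_one.1 ?_) hle
      obtain ⟨i, hi⟩ := (hcent c hc hc1).1.exists_card_eq
      obtain ⟨l, -, hl⟩ := (Nat.dvd_prime_pow hp).1
        ((Subgroup.relIndex_dvd_card N' (Subgroup.centralizer ({c} : Set G))).trans hi.dvd)
      rcases l with _ | l
      · rw [hl, pow_zero]
      · exfalso
        refine hcop (dvd_trans ?_ (Subgroup.relIndex_dvd_index_of_normal N' (Subgroup.centralizer ({c} : Set G))))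
        exact hl ▸ dvd_pow_self q (Nat.succ_ne_zero l)
    have hidx : N'.index = Nat.card N' - 1 := by
      rw [← (hcent x hx hx1).2, hCN x hx hx1]
    have hco : Nat.Coprime (Nat.card N') N'.index := by
      rw [hj]
      exact Nat.Coprime.pow_left _ (hp.coprime_iff_not_dvd.2 hcop)
    obtain ⟨H, hH⟩ := Subgroup.exists_right_complement'_of_coprime hco
    have hcardH : Nat.card H = Nat.card N' - 1 := by rw [← hH.symm.index_eq_card, hidx]
    have hN2 : 2 ≤ Nat.card N' := Finite.one_lt_card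
    have hGcard := hH.card_mul
    have hFPF : ∀ h ∈ H, ∀ c ∈ N', c ≠ 1 → h * c = c * h → h = 1 := by
      intro h hh c hc hc1 he
      have : h ∈ N' := hCN c hc hc1 ▸ Subgroup.mem_centralizer_singleton_iff.2 he
      exact Subgroup.mem_bot.1 (hH.disjoint.le_bot ⟨this, hh⟩)
    have hbot : ∀ a ∈ N', a ∈ H → a = 1 := fun a ha ha' =>
      Subgroup.mem_bot.1 (hH.disjoint.le_bot ⟨ha, ha'⟩)
    have hFrob : Cfsg.IsFrobeniusComplement H := by
      refine ⟨fun e => ?_, fun e => ?_, fun g hg => ?_⟩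
      · rw [e, Subgroup.card_bot] at hcardH
        rw [e, Subgroup.card_bot, mul_one] at hGcard
        omega
      · rw [e, Subgroup.card_top] at hcardH hGcard
        nlinarith [Nat.card_pos (α := G)]
      · refine (Subgroup.eq_bot_iff_forall _).2 fun a ha => ?_
        obtain ⟨haH, hag⟩ := ha
        rw [← CfsgLib.Coprime.conjBy_eq_smul] at hag
        have hag' := CfsgLib.Coprime.mem_conjBy.1 hag
        obtain ⟨⟨n, h⟩, hnh, -⟩ := hH.existsUnique g
        have hnh' : (n : G) * h = g := hnh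
        have hn1 : (n : G) ≠ 1 := fun e => hg (by rw [← hnh', e, one_mul]; exact h.2)
        have h6 : (n : G)⁻¹ * a * n ∈ H := by
          have := mul_mem (mul_mem h.2 hag') (inv_mem h.2)
          rw [← hnh'] at this
          convert this using 1
          group
        refine hFPF a haH n n.2 hn1 ?_
        have h7 : a⁻¹ * ((n : G)⁻¹ * a * n) = 1 := by
          refine hbot _ ?_ (mul_mem (inv_mem haH) h6)
          rw [show a⁻¹ * ((n : G)⁻¹ * a * n) = a⁻¹ * (n : G)⁻¹ * a⁻¹⁻¹ * n by group]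
          exact mul_mem (hN'n.conj_mem _ (inv_mem n.2) a⁻¹) n.2
        calc a * n = (n : G) * a * (a⁻¹ * ((n : G)⁻¹ * a * n)) := by group
          _ = n * a := by rw [h7, mul_one]
    refine ⟨H, hFrob, ?_, by omega⟩
    symm
    refine Set.eq_of_subset_of_ncard_le (fun a ha => ?_) ?_ (Set.toFinite _)
    · rw [CfsgLib.Coprime.frob_mem_kernel_iff]
      refine or_iff_not_imp_left.2 fun ha1 g hg => ha1 ?_
      have := hbot _ (by simpa using hN'n.conj_mem a ha g⁻¹) hg
      calc a = g * (g⁻¹ * a * g) * g⁻¹ := by group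
        _ = 1 := by rw [this, mul_one, mul_inv_cancel]
    · rw [← Nat.card_coe_set_eq, ← Nat.card_coe_set_eq, CfsgLib.Coprime.frob_card_kernel hFrob,
        hH.index_eq_card]
      rfl
  · rintro ⟨H, -, hker', hcard⟩
    refine le_antisymm (CfsgLib.Coprime.le_pCore hNp) fun u hu => ?_
    by_contra huN
    have hnot : u ∉ Cfsg.frobeniusKernel H := by rw [hker']; exact huN
    rw [CfsgLib.Coprime.frob_mem_kernel_iff, not_or, not_forall] at hnot
    obtain ⟨hu1, g, hg⟩ := hnot
    rw [not_not] at hg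
    obtain ⟨i, hi⟩ := IsPGroup.iff_orderOf.1 (CfsgLib.Coprime.pCore_isPGroup q) (⟨u, hu⟩ : Cfsg.pCore q G)
    rw [← Subgroup.orderOf_coe] at hi
    rcases i with _ | i
    · exact hu1 (orderOf_eq_one_iff.1 (by rw [hi, pow_zero]))
    have h8 : q ∣ Nat.card H := by
      refine dvd_trans (dvd_pow_self q (Nat.succ_ne_zero i)) ?_
      rw [← hi, ← (MulAut.conj g⁻¹).orderOf_eq u, MulAut.conj_apply, inv_inv]
      exact Subgroup.orderOf_dvd_natCard H hg
    have h9 : q ∣ Nat.card N' := by rw [hj]; exact dvd_pow_self q hj0.ne'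
    rw [← hcard] at h9
    exact hp.not_dvd_one ((Nat.dvd_add_right h8).1 h9)

end Cfsg.Agent.S4839
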