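import Cfsg.Statements.S4840
import Cfsg.Agent.Lib.Char.TwoNonzero
import Cfsg.Agent.Lib.Char.TwoNonzeroSolvable

set_option autoImplicit false
open Cfsg

namespace Cfsg.Agent.S4840

/-- Let G be a finite solvable group of order greater than 2 with an irreducible character nonzero on exactly two conjugacy classes. Then there is exactly one prime p with O_p(G) ≠ 1, and the quotient G/O_p(G) has a normal p-complement and commutative Sylow p-subgroups. -/
theorem result {G : Type*} [Group G] [Finite G] [hs : Group.IsSolvable G] (hG : 2 < Nat.card G) (χ : Cfsg.IrrCharacter G) (hχ : Nat.card {C : ConjClasses G // ∃ g ∈ C.carrier, (χ : G → ℂ) g ≠ 0} = 2) :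
    ∃ p : ℕ, p.Prime ∧ (∀ q : ℕ, q.Prime → (Cfsg.pCore q G ≠ ⊥ ↔ q = p)) ∧
      Cfsg.HasNormalPComplement p (G ⧸ Cfsg.pCore p G) ∧ ∀ Q : Sylow p (G ⧸ Cfsg.pCore p G), IsMulCommutative (Q : Subgroup (G ⧸ Cfsg.pCore p G)) := by
  classical
  obtain ⟨N, hNn, hN1, hN, htr, -, -⟩ := CfsgLib.Char.TwoNonzero.exists_support hG χ hχ
  haveI := hNn
  obtain ⟨p, hp, hNp, -⟩ := CfsgLib.Char.TwoNonzero.elementaryAbelian hN1 htr
  haveI := Fact.mk hp
  haveI hK₀n : (Cfsg.pCore p G).Normal := CfsgLib.Coprime.pCore_normal' p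
  have hNK : N ≤ Cfsg.pCore p G := CfsgLib.Coprime.le_pCore hNp
  obtain ⟨x, hx, hx1⟩ := N.bot_or_exists_ne_one.resolve_left hN1
  have hcent := fun (v : G) (hv : v ∈ N) (hv1 : v ≠ 1) =>
    (CfsgLib.Char.TwoNonzero.centralizer_data hG χ hχ (fun g => (hN g).symm) hNp hv hv1).1
  have hK₀ne : Cfsg.pCore p G ≠ ⊥ := fun h => hN1 (le_bot_iff.1 (h ▸ hNK))
  refine ⟨p, hp, fun q hq => ⟨fun h => ?_, fun h => h ▸ hK₀ne⟩, ?_⟩
  · haveI := Fact.mk hq
    haveI : (Cfsg.pCore q G).Normal := CfsgLib.Coprime.pCore_normal' q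
    have hle := CfsgLib.Char.TwoNonzero.le_of_normal χ hN htr (K := Cfsg.pCore q G) h
    by_contra hne
    exact hN1 (disjoint_self.1 (IsPGroup.disjoint_of_ne q p hne N N
      ((CfsgLib.Coprime.pCore_isPGroup q).to_le hle) hNp))
  set K₀ := Cfsg.pCore p G with hK₀
  -- `K₀` centralizes `N`
  have hKC : K₀ ≤ Subgroup.centralizer (N : Set G) := by
    haveI : Nontrivial K₀ := (Subgroup.nontrivial_iff_ne_bot _).2 hK₀ne
    haveI := (CfsgLib.Coprime.pCore_isPGroup (G := G) p).center_nontrivial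
    haveI := CfsgLib.Coprime.map_subtype_normal_of_characteristic K₀ (Subgroup.center K₀)
    have hle := CfsgLib.Char.TwoNonzero.le_of_normal χ hN htr
      (K := (Subgroup.center K₀).map K₀.subtype) (fun h => (Subgroup.nontrivial_iff_ne_bot _).1
        inferInstance ((Subgroup.map_eq_bot_iff_of_injective _ K₀.subtype_injective).1 h))
    intro k hk
    refine Subgroup.mem_centralizer_iff.2 fun n hn => ?_
    obtain ⟨z, hz, rfl⟩ := hle hn
    exact (congrArg Subtype.val (Subgroup.mem_center_iff.1 hz ⟨k, hk⟩)).symm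
  let φ₀ : G →* MulAut N := MulAut.conjNormal
  have hker : φ₀.ker = K₀ := by
    refine le_antisymm ?_ fun k hk => ?_
    · haveI : φ₀.ker.Normal := φ₀.normal_ker
      refine CfsgLib.Coprime.le_pCore ((hcent x hx hx1).to_le fun g hg => ?_)
      have h := congrArg (fun σ : MulAut N => ((σ ⟨x, hx⟩ : N) : G)) (MonoidHom.mem_ker.1 hg)
      simp only [φ₀, MulAut.conjNormal_apply, MulAut.one_apply] at h
      exact Subgroup.mem_centralizer_singleton_iff.2 (mul_inv_eq_iff_eq_mul.1 h)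
    · refine MonoidHom.mem_ker.2 (MulEquiv.ext fun n => Subtype.ext ?_)
      simp only [φ₀, MulAut.conjNormal_apply, MulAut.one_apply]
      rw [← Subgroup.mem_centralizer_iff.1 (hKC hk) n n.2, mul_inv_cancel_right]
  let φ : G ⧸ K₀ →* MulAut N := QuotientGroup.lift K₀ φ₀ hker.ge
  have hφ : Function.Injective φ := by
    refine (injective_iff_map_eq_one _).2 fun a ha => ?_
    obtain ⟨g, rfl⟩ := QuotientGroup.mk_surjective a
    exact (QuotientGroup.eq_one_iff g).2 (hker ▸ MonoidHom.mem_ker.2 ha)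
  haveI : Nontrivial N := (Subgroup.nontrivial_iff_ne_bot N).2 hN1
  refine CfsgLib.Char.TwoNonzeroSolvable.complement_and_abelian_sylow
    (CfsgLib.Char.TwoNonzeroSolvable.not_dvd_commutator (φ := φ) hφ hNp (fun v hv h hh => ?_) ?_)
  · obtain ⟨g, rfl⟩ := QuotientGroup.mk_surjective h
    have hgv : g * (v : G) * g⁻¹ = v := congrArg Subtype.val hh
    obtain ⟨k, hk⟩ := IsPGroup.iff_orderOf.1 (hcent v v.2 fun e => hv (Subtype.ext e))
      ⟨g, Subgroup.mem_centralizer_singleton_iff.2 (mul_inv_eq_iff_eq_mul.1 hgv)⟩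
    rw [Subgroup.orderOf_mk] at hk
    obtain ⟨i, -, hi⟩ := (Nat.dvd_prime_pow hp).1
      (hk ▸ (orderOf_map_dvd (QuotientGroup.mk' K₀) g : orderOf (g : G ⧸ K₀) ∣ orderOf g))
    exact ⟨i, hi⟩
  · intro v w hv hw
    obtain ⟨g, hg⟩ := isConj_iff.1 (htr v v.2 w w.2 (fun e => hv (Subtype.ext e))
      fun e => hw (Subtype.ext e))
    exact ⟨(g : G ⧸ K₀), Subtype.ext hg⟩

end Cfsg.Agent.S4840
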