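import Cfsg.Statements.S4843
import Cfsg.Agent.Lib.Char.GaloisProduct
import Cfsg.Agent.Lib.Coprime.Fitting
import Cfsg.Agent.Lib.Coprime.Solvable

set_option autoImplicit false
open Cfsg

namespace Cfsg.Agent.S4843

/-- Let G be a finite group with a faithful irreducible character χ (taking the value χ(1) only at the identity) and let k be prime to the order of G, so that g ↦ χ(g^k) is a Galois conjugate of χ. If the pointwise product g ↦ χ(g)·χ(g^k) is again an irreducible character, then the Fitting subgroup of G equals its centre. -/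
theorem result {G : Type*} [Group G] [Finite G] (χ : Cfsg.IrrCharacter G) (hfaith : ∀ g : G, (χ : G → ℂ) g = (χ : G → ℂ) 1 → g = 1) (k : ℕ) (hk : Nat.Coprime k (Nat.card G)) (hirr : Cfsg.IsIrrCharacter G (fun g => (χ : G → ℂ) g * (χ : G → ℂ) (g ^ k))) : Cfsg.fittingSubgroup G = Subgroup.center G := by
  classical
  have := Fintype.ofFinite G
  haveI := CfsgLib.Coprime.fitting_normal (G := G)
  set F := Cfsg.fittingSubgroup G with hF
  set Z := Subgroup.center G with hZ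
  refine le_antisymm ?_ ?_
  swap
  · exact CfsgLib.Coprime.le_fitting (N := Z) (by
      letI : CommGroup (Subgroup.center G) := { (inferInstance : Group (Subgroup.center G)) with
        mul_comm := fun a b => Subtype.ext (Subgroup.mem_center_iff.1 b.2 a) }
      exact CommGroup.isNilpotent)
  by_contra hne
  have hcomm : ∀ a y : G, a * y * a⁻¹ * y⁻¹ ∈ Z → ∀ g, g * (a * y * a⁻¹ * y⁻¹) = a * y * a⁻¹ * y⁻¹ * g :=
    fun a y h g => Subgroup.mem_center_iff.1 h g
  let N : Subgroup G :=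
    { carrier := {x | x ∈ F ∧ ∀ y ∈ F, x * y * x⁻¹ * y⁻¹ ∈ Z}
      one_mem' := ⟨F.one_mem, fun y _ => by simp⟩
      mul_mem' := fun {a b} ha hb => ⟨F.mul_mem ha.1 hb.1, fun y hy => by
        have h1 := hb.2 y hy
        rw [show a * b * y * (a * b)⁻¹ * y⁻¹ = a * (b * y * b⁻¹ * y⁻¹) * a⁻¹ * (a * y * a⁻¹ * y⁻¹) by group,
          hcomm b y h1 a, mul_inv_cancel_right]
        exact Z.mul_mem h1 (ha.2 y hy)⟩
      inv_mem' := fun {a} ha => ⟨F.inv_mem ha.1, fun y hy => by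
        have h1 := ha.2 y hy
        rw [show a⁻¹ * y * a⁻¹⁻¹ * y⁻¹ = a⁻¹ * (a * y * a⁻¹ * y⁻¹)⁻¹ * a by group,
          Subgroup.mem_center_iff.1 (Z.inv_mem h1) a⁻¹, inv_mul_cancel_right]
        exact Z.inv_mem h1⟩ }
  haveI : N.Normal := ⟨fun x hx g => ⟨Subgroup.Normal.conj_mem inferInstance x hx.1 g, fun y hy => by
    have h1 := hx.2 (g⁻¹ * y * g) (by simpa using Subgroup.Normal.conj_mem inferInstance y hy g⁻¹)
    have h2 := (inferInstance : Z.Normal).conj_mem _ h1 g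
    rwa [show g * x * g⁻¹ * y * (g * x * g⁻¹)⁻¹ * y⁻¹ =
      g * (x * (g⁻¹ * y * g) * x⁻¹ * (g⁻¹ * y * g)⁻¹) * g⁻¹ by group]⟩⟩
  have hN := CfsgLib.Char.GaloisProduct.le_center_of_class_two χ k hfaith hk hirr N
    (fun x hx y hy => hx.2 y hy.1) (fun x hx hall => CfsgLib.Char.GaloisProduct.le_center_of_comm χ k hfaith hk
      hirr (N ⊓ Subgroup.centralizer (N : Set G))
      (fun a ha b hb => (Subgroup.mem_centralizer_iff.1 ha.2 b hb.1).symm)
      (Subgroup.mem_inf.2 ⟨hx, Subgroup.mem_centralizer_iff.2 fun y hy => (hall y hy).symm⟩))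
  -- the centre of `F` modulo the centre
  haveI : Group.IsNilpotent F := CfsgLib.Coprime.fitting_isNilpotent
  let π := QuotientGroup.mk' (Z.subgroupOf F)
  haveI : Group.IsNilpotent (F ⧸ Z.subgroupOf F) := inferInstance
  have htop : (⊤ : Subgroup (F ⧸ Z.subgroupOf F)) ≠ ⊥ := fun h0 => hne fun x hx => by
    have h1 : ((⟨x, hx⟩ : F) : F ⧸ Z.subgroupOf F) ∈ (⊥ : Subgroup (F ⧸ Z.subgroupOf F)) :=
      h0 ▸ Subgroup.mem_top _
    exact Subgroup.mem_subgroupOf.1 ((QuotientGroup.eq_one_iff _).1 (Subgroup.mem_bot.1 h1))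
  obtain ⟨q, hq, hq1⟩ := (Subgroup.bot_or_exists_ne_one _).resolve_left
    (CfsgLib.Coprime.nilpotent_inf_center_ne_bot ⊤ htop)
  obtain ⟨x, rfl⟩ := QuotientGroup.mk_surjective q
  refine hq1 ((QuotientGroup.eq_one_iff x).2 (Subgroup.mem_subgroupOf.2 (hN ⟨x.2, fun y hy => ?_⟩)))
  have h1 := Subgroup.mem_center_iff.1 (Subgroup.mem_inf.1 hq).2 ((⟨y, hy⟩ : F) : F ⧸ Z.subgroupOf F)
  have h2 : ((x * ⟨y, hy⟩ * x⁻¹ * (⟨y, hy⟩ : F)⁻¹ : F) : F ⧸ Z.subgroupOf F) = 1 := by
    rw [QuotientGroup.mk_mul, QuotientGroup.mk_mul, QuotientGroup.mk_mul, QuotientGroup.mk_inv,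
      QuotientGroup.mk_inv, ← h1, mul_inv_cancel_right, mul_inv_cancel]
  exact Subgroup.mem_subgroupOf.1 ((QuotientGroup.eq_one_iff _).1 h2)

end Cfsg.Agent.S4843
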