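import Cfsg.Statements.S4850
import Cfsg.Statements.S4850
import Cfsg.Agent.Lib.Char.VanishingPElements

set_option autoImplicit false
open Cfsg

namespace Cfsg.Agent.S4850

/-- Let p be a prime and G a finite solvable group whose vanishing elements (elements at which some irreducible character is zero) of order divisible by p all have the same order, with at least one such element. Let P be a Sylow p-subgroup of G. Then the derived subgroup of P is subnormal in G and the image of P in G/O_p(G) is cyclic. -/
theorem result {G : Type*} [Group G] [Finite G] [hs : Group.IsSolvable G] (p : ℕ) [Fact p.Prime] (b : ℕ) (hvo : {n : ℕ | p ∣ n ∧ ∃ (g : G) (χ : Cfsg.IrrCharacter G), orderOf g = n ∧ (χ : G → ℂ) g = 0} = {b}) (P : Sylow p G) :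
    ((commutator ↥(P : Subgroup G)).map (P : Subgroup G).subtype).IsSubnormal ∧ IsCyclic ↥((P : Subgroup G).map (QuotientGroup.mk' (Cfsg.pCore p G))) := by
  classical
  haveI hO : (Cfsg.pCore p G).Normal := CfsgLib.Coprime.pCore_normal' p
  have hb : ∀ g : G, p ∣ orderOf g → CfsgLib.Char.VanishingP.Vanishes g → orderOf g = b := by
    rintro g hd ⟨χ, hχ⟩
    exact (Set.ext_iff.1 hvo _).1 ⟨hd, g, χ, rfl, hχ⟩
  have hle := CfsgLib.Char.VanishingP.card_map_sylow_le hb P
  set π := QuotientGroup.mk' (Cfsg.pCore p G) with hπ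
  have hp := (Fact.out : p.Prime)
  have hcyc : IsCyclic ↥((P : Subgroup G).map π) := by
    obtain ⟨i, hi⟩ := IsPGroup.iff_card.1 (P.2.map π)
    rw [hi] at hle
    rcases Nat.lt_or_ge i 2 with h | h
    · interval_cases i
      · rw [pow_zero, Nat.card_eq_one_iff_unique] at hi
        haveI := hi.1
        infer_instance
      · exact isCyclic_of_prime_card (p := p) (by rw [hi, pow_one])
    · exfalso
      have h1 : p ^ 2 ≤ p ^ i := Nat.pow_le_pow_right hp.pos h
      have h2 : p * 2 ≤ p ^ 2 := by rw [sq]; exact Nat.mul_le_mul_left _ hp.two_le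
      have := hp.pos
      omega
  refine ⟨?_, hcyc⟩
  set D := (commutator ↥(P : Subgroup G)).map (P : Subgroup G).subtype with hD
  have hDle : D ≤ Cfsg.pCore p G := by
    rw [hD, commutator_def, Subgroup.map_commutator, ← MonoidHom.range_eq_map,
      Subgroup.range_subtype, Subgroup.commutator_le]
    intro x hx y hy
    rw [← QuotientGroup.eq_one_iff, ← QuotientGroup.mk'_apply, map_commutatorElement,
      commutatorElement_eq_one_iff_mul_comm]
    haveI := hcyc
    exact congrArg Subtype.val ((IsCyclic.commutative (α := ↥((P : Subgroup G).map π))).is_comm.comm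
      ⟨π x, x, hx, rfl⟩ ⟨π y, y, hy, rfl⟩)
  refine Subgroup.IsSubnormal.trans hDle ?_ hO.isSubnormal
  haveI : Group.IsNilpotent ↥(Cfsg.pCore p G) := (CfsgLib.Coprime.pCore_isPGroup p).isNilpotent
  exact CfsgLib.PGroup.isSubnormal_of_isNilpotent _

end Cfsg.Agent.S4850
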