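import Cfsg.Statements.S4859
import Cfsg.Agent.Lib.Char.SquareRoots

set_option autoImplicit false
open Cfsg

namespace Cfsg.Agent.S4859

/-- Let p be an odd prime, G a finite group and x an element of G whose order is a power of p (possibly 1) and whose centralizer has even order. Let y be a 2-element of the centralizer of x whose order is largest among the 2-elements of that centralizer. Then x * y is not a square in G, and some non-principal real-valued irreducible character of G does not vanish at x * y. -/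
theorem result {G : Type*} [Group G] [Finite G] (p : ℕ) [Fact p.Prime] (hp : p ≠ 2) (x : G) (hx : ∃ k : ℕ, orderOf x = p ^ k) (heven : Even (Nat.card (Subgroup.centralizer ({x} : Set G)))) (y : G) (hy : y ∈ Subgroup.centralizer ({x} : Set G)) (hy2 : ∃ k : ℕ, orderOf y = 2 ^ k) (hmax : ∀ z ∈ Subgroup.centralizer ({x} : Set G), (∃ k : ℕ, orderOf z = 2 ^ k) → orderOf z ≤ orderOf y) : (¬ ∃ u : G, u * u = x * y) ∧ ∃ χ : Cfsg.IrrCharacter G, ¬ ((χ : G → ℂ) = fun _ => (1 : ℂ)) ∧ (∀ g : G, ((χ : G → ℂ) g).im = 0) ∧ (χ : G → ℂ) (x * y) ≠ 0 := by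
  classical
  have := Fintype.ofFinite G
  have := Fintype.ofFinite (IrrCharacter G)
  obtain ⟨k, hk⟩ := hx
  obtain ⟨j, hj⟩ := hy2
  have hcxy : Commute x y := (Subgroup.mem_centralizer_singleton_iff.mp hy).symm
  have hj0 : j ≠ 0 := by
    intro h0
    obtain ⟨z, hz⟩ := exists_prime_orderOf_dvd_card' 2 (even_iff_two_dvd.mp heven)
    have := hmax z z.2 ⟨1, by rw [Subgroup.orderOf_coe, hz, pow_one]⟩
    rw [Subgroup.orderOf_coe, hz, hj, h0, pow_zero] at this
    omega
  obtain ⟨j, rfl⟩ : ∃ i, j = i + 1 := ⟨j - 1, by omega⟩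
  have hno : ¬ ∃ u : G, u * u = x * y := by
    rintro ⟨u, hu⟩
    have hcu : Commute u (x * y) := by rw [← hu]; exact (Commute.refl u).mul_right (Commute.refl u)
    have hux : Commute u x := by
      have h1 : (x * y) ^ 2 ^ (j + 1) = x ^ 2 ^ (j + 1) := by
        rw [hcxy.mul_pow, show y ^ 2 ^ (j + 1) = 1 by rw [← hj]; exact pow_orderOf_eq_one y, mul_one]
      have hco : (2 ^ (j + 1)).Coprime (orderOf x) := by
        rw [hk]
        exact ((Nat.coprime_primes Nat.prime_two Fact.out).mpr (Ne.symm hp)).pow _ _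
      obtain ⟨r, hr⟩ := exists_pow_eq_self_of_coprime hco
      rw [← hr, ← h1]
      exact (hcu.pow_right _).pow_right _
    set z := u ^ p ^ k with hz
    have hz2 : z ^ 2 = y ^ p ^ k := by
      rw [hz, ← pow_mul, mul_comm, pow_mul, pow_two, hu, hcxy.mul_pow,
        show x ^ p ^ k = 1 by rw [← hk]; exact pow_orderOf_eq_one x, one_mul]
    have hzo : orderOf z = 2 ^ (j + 1 + 1) := by
      haveI : Fact (Nat.Prime 2) := ⟨Nat.prime_two⟩
      refine orderOf_eq_prime_pow ?_ ?_
      · rw [pow_succ', pow_mul, hz2, ← pow_mul]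
        intro h
        have h1 := orderOf_dvd_of_pow_eq_one h
        rw [hj] at h1
        have hco : Nat.Coprime (2 ^ (j + 1)) (p ^ k) :=
          ((Nat.coprime_primes Nat.prime_two Fact.out).mpr (Ne.symm hp)).pow _ _
        have h2 := (Nat.pow_dvd_pow_iff_le_right (by omega : 1 < 2)).mp (hco.dvd_of_dvd_mul_left h1)
        omega
      · rw [pow_succ' 2 (j + 1), pow_mul, hz2, ← pow_mul, mul_comm, pow_mul, ← hj,
          pow_orderOf_eq_one, one_pow]
    have hzC : z ∈ Subgroup.centralizer ({x} : Set G) :=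
      Subgroup.mem_centralizer_singleton_iff.mpr (hux.pow_left _).eq
    have := hmax z hzC ⟨_, hzo⟩
    rw [hzo, hj] at this
    exact absurd this (not_le.mpr (Nat.pow_lt_pow_right (by omega) (by omega)))
  refine ⟨hno, ?_⟩
  by_contra hc
  push Not at hc
  have h0 : Nat.card {s : G // s * s = x * y} = 0 := by
    rw [Nat.card_eq_zero]
    exact Or.inl ⟨fun s => hno ⟨s.1, s.2⟩⟩
  let triv : IrrCharacter G := ⟨fun _ => 1, CfsgLib.Char.isIrrCharacter_one⟩
  have h := CfsgLib.Char.card_square_roots (x * y)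
  rw [h0, Nat.cast_zero, Finset.sum_eq_single_of_mem triv (Finset.mem_univ _) fun χ _ hne => ?_] at h
  · rw [show CfsgLib.Char.sqInd ((triv : IrrCharacter G) : G → ℂ) = 1 from CfsgLib.Char.sqInd_one] at h
    simp [triv] at h
  · by_cases h2 : CfsgLib.Char.sqInd (χ : G → ℂ) = 0
    · rw [h2, zero_mul]
    · rw [hc χ (fun e => hne (Subtype.ext e)) (CfsgLib.Char.real_of_sqInd_ne_zero χ h2), mul_zero]

end Cfsg.Agent.S4859
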