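import Cfsg.Statements.S4870
import Cfsg.Agent.Lib.Char.LinearTimesExtension
import Cfsg.Agent.Lib.Char.EigenDegree

set_option autoImplicit false
open Cfsg

namespace Cfsg.Agent.S4870

/-- Let G be a finite group with a non-abelian minimal normal subgroup N, and let φ be an irreducible complex character of N with stabilizer I in G (the elements g with φ(g n g⁻¹) = φ(n) for all n ∈ N) such that φ extends to an irreducible character of I. Put d = φ(1)·[G : I]. Then the number of linear characters of G is at most [G : I] times the number of irreducible characters of G of degree d. -/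
theorem result {G : Type*} [Group G] [Finite G] (N : Subgroup G) (hN : N.Normal) (hN1 : N ≠ ⊥) (hmin : ∀ M : Subgroup G, M.Normal → M ≤ N → M = ⊥ ∨ M = N) (hna : ¬ IsMulCommutative ↥N) (φ : Cfsg.IrrCharacter ↥N) (I : Subgroup G) (hI : ∀ g : G, g ∈ I ↔ ∀ n n' : ↥N, (n' : G) = g * (n : G) * g⁻¹ → (φ : ↥N → ℂ) n' = (φ : ↥N → ℂ) n) (hNI : N ≤ I) (hext : ∃ ψ : Cfsg.IrrCharacter ↥I, ∀ n : ↥N, (ψ : ↥I → ℂ) (Subgroup.inclusion hNI n) = (φ : ↥N → ℂ) n) : Nat.card {χ : Cfsg.IrrCharacter G // Cfsg.charDegree (χ : G → ℂ) = 1} ≤ I.index * Nat.card {χ : Cfsg.IrrCharacter G // Cfsg.charDegree (χ : G → ℂ) = Cfsg.charDegree (φ : ↥N → ℂ) * I.index} := by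
  classical
  haveI := Fintype.ofFinite G
  haveI := hN
  haveI := Fintype.ofFinite N
  obtain ⟨ψ, hψ⟩ := hext
  have hIe : I = CfsgLib.Char.inertia N (φ : N → ℂ) := by
    ext g
    rw [hI, CfsgLib.Char.mem_inertia]
    refine ⟨fun h => funext fun n => ?_, fun h n n' e => ?_⟩
    · exact h n ⟨g * n * g⁻¹, hN.conj_mem n n.2 g⟩ rfl
    · have := congrFun h n
      rw [← this]
      exact congrArg _ (Subtype.ext e)
  subst hIe
  have hperf : ∀ f : G →* ℂˣ, ∀ n ∈ N, f n = 1 := fun f n hn =>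
    CfsgLib.Char.LinearTimesExtension.hom_eq_one_of_perfect N hN1 hmin hna f hn
  have hmain := CfsgLib.Char.LinearTimesExtension.linear_count N φ hNI ψ hψ hperf (fun _ => True) (fun _ => True)
    (fun _ _ => trivial)
  have e1 : Nat.card {χ : Cfsg.IrrCharacter G // Cfsg.charDegree (χ : G → ℂ) = 1} =
      Nat.card {f : G →* ℂˣ // True} := by
    rw [Nat.card_congr (Equiv.subtypeUnivEquiv (p := fun _ : G →* ℂˣ => True) fun _ => trivial),
      Nat.card_congr CfsgLib.Char.linearCharEquiv]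
    refine Nat.card_congr (Equiv.subtypeEquivRight fun χ => ?_)
    rw [CfsgLib.Char.irr_one_eq_charDegree, Nat.cast_eq_one]
  have e2 : Nat.card {χ : Cfsg.IrrCharacter G // Cfsg.charDegree (χ : G → ℂ) =
      Cfsg.charDegree (φ : N → ℂ) * (CfsgLib.Char.inertia N (φ : N → ℂ)).index ∧ True} =
      Nat.card {χ : Cfsg.IrrCharacter G // Cfsg.charDegree (χ : G → ℂ) =
      Cfsg.charDegree (φ : N → ℂ) * (CfsgLib.Char.inertia N (φ : N → ℂ)).index} :=
    Nat.card_congr (Equiv.subtypeEquivRight fun χ => by simp)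
  rw [e1, ← e2]
  exact hmain

end Cfsg.Agent.S4870
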