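import Cfsg.Statements.S4871
import Cfsg.Agent.Lib.Char.Inertia
import Cfsg.Agent.Lib.Char.Clifford
import Cfsg.Agent.Lib.Char.Linear
import Cfsg.Agent.Lib.Char.ExtendChar
import Mathlib.RingTheory.IntegralDomain

set_option autoImplicit false
open Cfsg

namespace Cfsg.Agent.S4871

section
open CfsgLib.Char
open scoped ComplexConjugate

universe u

variable {G : Type u} [Group G]

/-- The number of sign characters of a group is bounded by index times that of a subgroup. -/
theorem card_sign_hom_le {X : Type*} [Group X] [Finite X] (H : Subgroup X)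
    [Finite {ψ : X →* ℂˣ // ∀ x, ψ x ^ 2 = 1}] [Finite {ψ : H →* ℂˣ // ∀ x, ψ x ^ 2 = 1}] :
    Nat.card {ψ : X →* ℂˣ // ∀ x, ψ x ^ 2 = 1} ≤
      H.index * Nat.card {ψ : H →* ℂˣ // ∀ x, ψ x ^ 2 = 1} := by
  classical
  let r : {ψ : X →* ℂˣ // ∀ x, ψ x ^ 2 = 1} → {ψ : H →* ℂˣ // ∀ x, ψ x ^ 2 = 1} :=
    fun ψ => ⟨ψ.1.comp H.subtype, fun x => ψ.2 x⟩
  haveI := Fintype.ofFinite {ψ : X →* ℂˣ // ∀ x, ψ x ^ 2 = 1}
  haveI := Fintype.ofFinite {ψ : H →* ℂˣ // ∀ x, ψ x ^ 2 = 1}
  haveI := Fintype.ofFinite (X ⧸ H)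
  have hfib : ∀ b, (Finset.univ.filter fun a => r a = b).card ≤ H.index := by
    intro b
    by_cases hb : ∃ a, r a = b
    · obtain ⟨a₀, ha₀⟩ := hb
      let S := {a : {ψ : X →* ℂˣ // ∀ x, ψ x ^ 2 = 1} // r a = b}
      have hin : ∀ a : S, ∀ h : H, (a.1.1 h : ℂˣ) = a₀.1 h := fun a h => by
        have := congrArg (fun c => c.1 h) (a.2.trans ha₀.symm)
        exact this
      let f : S → ((X ⧸ H) → ℂ) := fun a q => ((a.1.1 q.out * (a₀.1 q.out)⁻¹ : ℂˣ) : ℂ)
      have hinv : ∀ (a : S) (x : X),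
          a.1.1 x * (a₀.1 x)⁻¹ = a.1.1 (x : X ⧸ H).out * (a₀.1 (x : X ⧸ H).out)⁻¹ := by
        intro a x
        obtain ⟨h, hh⟩ := QuotientGroup.mk_out_eq_mul H x
        rw [hh, map_mul, map_mul, hin a h, ← div_eq_mul_inv, ← div_eq_mul_inv]
        exact (mul_div_mul_right_eq_div _ _ _).symm
      have hli : LinearIndependent ℂ f := by
        let F : S → (X →* ℂ) := fun a => (Units.coeHom ℂ).comp (a.1.1 * (a₀.1)⁻¹)
        have hF : Function.Injective F := fun a a' h => by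
          refine Subtype.ext (Subtype.ext (MonoidHom.ext fun x => ?_))
          have : a.1.1 x * (a₀.1 x)⁻¹ = a'.1.1 x * (a₀.1 x)⁻¹ := Units.ext (DFunLike.congr_fun h x)
          exact mul_right_cancel this
        have h1 := (linearIndependent_monoidHom X ℂ).comp F hF
        let L : ((X ⧸ H) → ℂ) →ₗ[ℂ] (X → ℂ) := LinearMap.funLeft ℂ ℂ (fun x : X => (x : X ⧸ H))
        refine LinearIndependent.of_comp L ?_
        have h2 : (⇑L ∘ f : S → X → ℂ) = (fun g : X →* ℂ => (g : X → ℂ)) ∘ F := by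
          funext a x
          show ((a.1.1 _ * (a₀.1 _)⁻¹ : ℂˣ) : ℂ) = _
          rw [← hinv a x]
          rfl
        rw [h2]
        exact h1
      haveI : Fintype S := Fintype.ofFinite S
      have := hli.fintype_card_le_finrank
      rw [Module.finrank_fintype_fun_eq_card, ← Nat.card_eq_fintype_card (α := X ⧸ H),
        ← Subgroup.index_eq_card] at this
      rwa [Fintype.card_subtype] at this
    · rw [Finset.card_eq_zero.2 (Finset.filter_eq_empty_iff.2 fun a _ h => hb ⟨a, h⟩)]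
      exact Nat.zero_le _
  rw [Nat.card_eq_fintype_card, Nat.card_eq_fintype_card]
  exact Finset.card_le_mul_card_image_of_maps_to (f := r) (fun a _ => Finset.mem_univ _) _
    (fun b _ => hfib b)

variable [Fintype G] (N P : Subgroup G) [N.Normal]

/-- Strongly real characters of even degree induced from an inertia subgroup. -/
theorem exists_family [Fintype N] (hab : ∀ a ∈ N, ∀ b ∈ N, a * b = b * a) (hdisj : N ⊓ P = ⊥)
    (hprod : N ⊔ P = ⊤) (hP : IsPGroup 2 P) (lam : N →* ℂˣ) (hlam : ∀ n : N, lam n ^ 2 = 1 → lam n = 1)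
    (hlam1 : lam ≠ 1) (z : G) (hzP : z ∈ P) (hzc : ∀ p ∈ P, p * z = z * p) (hz2 : z * z = 1)
    (hzinv : ∀ n ∈ N, z * n * z⁻¹ = n⁻¹) :
    ∃ (H : Subgroup P) (k : ℕ) (f : {ψ : H →* ℂˣ // ∀ x, ψ x ^ 2 = 1} → IrrCharacter G),
      Function.Injective f ∧ k = H.index ∧ 2 ∣ k ∧ ∀ ψ, (f ψ : G → ℂ) 1 = k ∧
        (Nat.card G : ℂ)⁻¹ * ∑ g : G, (f ψ : G → ℂ) (g * g) = 1 := by
  classical
  let lf : N → ℂ := fun n => (lam n : ℂ)
  have hlfI : IsIrrCharacter N lf := isIrrCharacter_lin lam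
  set T := inertia N lf with hT
  set H := T.comap P.subtype with hH
  -- the decomposition
  have hdec : ∀ g : G, ∃ n ∈ N, ∃ p ∈ P, n * p = g := fun g =>
    Subgroup.mem_sup_of_normal_left.1 (hprod.symm ▸ Subgroup.mem_top g)
  have huniq : ∀ n ∈ N, ∀ p ∈ P, ∀ n' ∈ N, ∀ p' ∈ P, n * p = n' * p' → n = n' ∧ p = p' := by
    intro n hn p hp n' hn' p' hp' h
    have h1 : n'⁻¹ * n = p' * p⁻¹ := by
      rw [eq_mul_inv_iff_mul_eq, mul_assoc, h, inv_mul_cancel_left]
    have h2 : n'⁻¹ * n ∈ N ⊓ P :=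
      Subgroup.mem_inf.2 ⟨mul_mem (inv_mem hn') hn, h1 ▸ mul_mem hp' (inv_mem hp)⟩
    rw [hdisj, Subgroup.mem_bot] at h2
    have e : n = n' := (inv_mul_eq_one.1 h2).symm
    exact ⟨e, mul_left_cancel (e ▸ h)⟩
  let em : N × P → G := fun x => (x.1 : G) * x.2
  have hem : Function.Bijective em := by
    refine ⟨fun x y h => ?_, fun g => ?_⟩
    · obtain ⟨h1, h2⟩ := huniq _ x.1.2 _ x.2.2 _ y.1.2 _ y.2.2 h
      exact Prod.ext (Subtype.ext h1) (Subtype.ext h2)
    · obtain ⟨n, hn, p, hp, rfl⟩ := hdec g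
      exact ⟨(⟨n, hn⟩, ⟨p, hp⟩), rfl⟩
  have hNT : N ≤ T := le_inertia N (isClassFunction_irr ⟨lf, hlfI⟩)
  have hmemT : ∀ (n : N) (p : P), em (n, p) ∈ T ↔ p ∈ H := fun n p =>
    ⟨fun h => by
      have := mul_mem (inv_mem (hNT n.2)) h
      rwa [inv_mul_cancel_left] at this, fun h => mul_mem (hNT n.2) h⟩
  have hcj : ∀ p : P, p ∈ H ↔ ∀ n : N, lam (normalConjHom N (p : G) n) = lam n := fun p =>
    ⟨fun h n => Units.ext (congrFun ((mem_inertia N lf (p : G)).1 h) n),
      fun h => (mem_inertia N lf (p : G)).2 (funext fun n => congrArg Units.val (h n))⟩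
  have hz : ∀ n : N, lam (normalConjHom N z n) = (lam n)⁻¹ := fun n => by
    rw [← map_inv]
    exact congrArg lam (Subtype.ext (hzinv n n.2))
  have hzH : (⟨z, hzP⟩ : P) ∉ H := by
    intro h
    refine hlam1 (MonoidHom.ext fun n => hlam n ?_)
    have := (hz n).symm.trans ((hcj _).1 h n)
    rw [pow_two]
    nth_rw 1 [← this]
    exact inv_mul_cancel _
  have hk2 : 2 ∣ H.index := by
    haveI : Fact (Nat.Prime 2) := ⟨Nat.prime_two⟩
    obtain ⟨j, hj⟩ := hP.index H
    rw [hj]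
    refine dvd_pow_self 2 fun h0 => hzH ?_
    rw [h0, pow_zero, Subgroup.index_eq_one] at hj
    rw [hj]; trivial
  have hTidx : T.index = H.index := by
    let eT : N × H → T := fun x => ⟨em (x.1, (x.2 : P)), (hmemT x.1 x.2).2 x.2.2⟩
    have heT : Function.Bijective eT := by
      refine ⟨fun x y h => ?_, fun g => ?_⟩
      · have := hem.1 (congrArg Subtype.val h)
        exact Prod.ext (Prod.mk.inj this).1 (Subtype.ext (Prod.mk.inj this).2)
      · obtain ⟨⟨n, p⟩, e⟩ := hem.2 g.1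
        exact ⟨(n, ⟨p, (hmemT n p).1 (e.symm ▸ g.2)⟩), Subtype.ext e⟩
    have h1 := T.card_mul_index
    rw [← Nat.card_congr (Equiv.ofBijective eT heT), ← Nat.card_congr (Equiv.ofBijective em hem),
      Nat.card_prod, Nat.card_prod, ← H.card_mul_index, mul_assoc] at h1
    exact Nat.eq_of_mul_eq_mul_left Nat.card_pos (Nat.eq_of_mul_eq_mul_left Nat.card_pos h1)
  -- the decomposition inside the inertia subgroup
  have hdT : ∀ g : T, ∃ x : N × H, em (x.1, (x.2 : P)) = g := fun g => by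
    obtain ⟨⟨n, p⟩, e⟩ := hem.2 g.1
    exact ⟨(n, ⟨p, (hmemT n p).1 (e.symm ▸ g.2)⟩), e⟩
  choose dd hdd using hdT
  have hdd' : ∀ (g : T) (n : N) (p : H), (g : G) = (n : G) * ((p : P) : G) → dd g = (n, p) := by
    intro g n p e
    have := hem.1 ((hdd g).trans e : em _ = em (n, (p : P)))
    exact Prod.ext (Prod.mk.inj this).1 (Subtype.ext (Prod.mk.inj this).2)
  let TH : (H →* ℂˣ) → (T →* ℂˣ) := fun ψ => MonoidHom.mk' (fun g => lam (dd g).1 * ψ (dd g).2) (by
    intro g g'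
    have e : dd (g * g') = ((dd g).1 * normalConjHom N (((dd g).2 : P) : G) (dd g').1, (dd g).2 * (dd g').2) := by
      refine hdd' _ _ _ ?_
      rw [Subgroup.coe_mul, ← hdd g, ← hdd g']
      simp only [em, Subgroup.coe_mul, normalConjHom, MonoidHom.coe_mk, OneHom.coe_mk]
      group
    rw [e, map_mul, map_mul, (hcj _).1 (dd g).2.2]
    exact mul_mul_mul_comm _ _ _ _)
  have hTHv : ∀ (ψ : H →* ℂˣ) (g : T) (n : N) (p : H), (g : G) = (n : G) * ((p : P) : G) →
      TH ψ g = lam n * ψ p := fun ψ g n p e => by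
    show lam (dd g).1 * ψ (dd g).2 = _
    rw [hdd' g n p e]
  have hTHN : ∀ (ψ : H →* ℂˣ) (n : N), TH ψ (Subgroup.inclusion hNT n) = lam n := fun ψ n => by
    rw [hTHv ψ _ n 1 (by simp), map_one, mul_one]
  let χ0 : (H →* ℂˣ) → G → ℂ := fun ψ => indFun T (fun g => (TH ψ g : ℂ))
  have hchar : ∀ ψ, IsCharacter G (χ0 ψ) := fun ψ => isCharacter_indFun T (isCharacter_hom (TH ψ))
  have hdeg : ∀ ψ, χ0 ψ 1 = (T.index : ℂ) := fun ψ => by
    show indFun T _ 1 = _
    rw [indFun_one, map_one, Units.val_one, mul_one]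
  have hover : ∀ (ψ : H →* ℂˣ) (φ : IrrCharacter G), classInner (χ0 ψ) (φ : G → ℂ) ≠ 0 →
      (φ : G → ℂ) = χ0 ψ ∧ classInner (fun n : N => (φ : G → ℂ) n) lf = 1 ∧
      classInner (fun g : T => (φ : G → ℂ) g) (fun g : T => (TH ψ g : ℂ)) ≠ 0 := by
    intro ψ φ hφ
    let θ : IrrCharacter T := ⟨_, isIrrCharacter_lin (TH ψ)⟩
    have h1 : classInner (fun g : T => (φ : G → ℂ) g) (θ : T → ℂ) ≠ 0 := by
      intro h0
      apply hφ
      show classInner (indFun T _) _ = 0
      rw [classInner_indFun T _ _ (isClassFunction_irr φ), ← classInner_conj,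
        show classInner (fun g : T => (φ : G → ℂ) g) (fun g : T => (TH ψ g : ℂ)) = 0 from h0, map_zero]
    have h2 := isCharacter_sub_constituent (isCharacter_comp (isCharacter_irr φ) T.subtype) θ h1
    have h3 : classInner (fun n : N => (φ : G → ℂ) n) lf ≠ 0 := by
      obtain ⟨c, hc⟩ := classInner_isCharacter (isCharacter_comp h2 (Subgroup.inclusion hNT))
        (isCharacter_hom lam)
      have e : (fun n : N => (φ : G → ℂ) n) =
          (fun n : N => (((fun a : T => (φ : G → ℂ) a) - (θ : T → ℂ)) (Subgroup.inclusion hNT n))) +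
            fun n : N => (lam n : ℂ) := by
        funext n
        simp only [Pi.add_apply, Pi.sub_apply]
        show _ = ((φ : G → ℂ) n - ((TH ψ (Subgroup.inclusion hNT n) : ℂˣ) : ℂ)) + _
        rw [hTHN]; ring
      rw [e, classInner_add_left]
      show classInner _ (fun n : N => (lam n : ℂ)) + classInner (fun n : N => (lam n : ℂ)) (fun n : N => (lam n : ℂ)) ≠ 0
      have hc' : classInner (fun n : N => (((fun a : T => (φ : G → ℂ) a) - (θ : T → ℂ)) (Subgroup.inclusion hNT n)))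
          (fun n : N => (lam n : ℂ)) = (c : ℂ) := hc
      rw [hc', show classInner (fun n : N => (lam n : ℂ)) (fun n : N => (lam n : ℂ)) = 1 from
        classInner_irr_self ⟨lf, hlfI⟩]
      exact_mod_cast Nat.succ_ne_zero c
    obtain ⟨e, he⟩ := classInner_isCharacter (isCharacter_comp (isCharacter_irr φ) N.subtype)
      (isCharacter_hom lam)
    have h3' : classInner (fun n : N => (φ : G → ℂ) n) lf = e := he
    have h4 := clifford_degree N φ.2 hlfI h3
    rw [h3', show lf 1 = 1 by simp [lf], mul_one, ← hT, ← Nat.cast_mul] at h4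
    obtain ⟨hle, heq⟩ := degree_le_of_constituent (hchar ψ) φ hφ (hdeg ψ) h4
    have he0 : e ≠ 0 := fun h => h3 (by rw [h3', h, Nat.cast_zero])
    have hidx : 0 < T.index := Nat.pos_of_ne_zero Subgroup.index_ne_zero_of_finite
    have he1 : e = 1 := by
      have : 1 ≤ e := Nat.one_le_iff_ne_zero.2 he0
      nlinarith
    exact ⟨(heq (by rw [he1, one_mul])).symm, by rw [h3', he1, Nat.cast_one], h1⟩
  haveI := Fintype.ofFinite (IrrCharacter G)
  have hirr : ∀ ψ, ∃ φ : IrrCharacter G, classInner (χ0 ψ) (φ : G → ℂ) ≠ 0 := by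
    intro ψ
    by_contra h
    push Not at h
    have h0 := classFun_eq_zero_of_perp (isClassFunction_of_isCharacter (hchar ψ)) h
    have := congrFun h0 1
    rw [hdeg] at this
    simp only [Pi.zero_apply] at this
    exact Subgroup.index_ne_zero_of_finite (H := T) (by exact_mod_cast this)
  choose f hf using hirr
  refine ⟨H, H.index, fun ψ => f ψ.1, ?_, rfl, hk2, fun ψ => ⟨?_, ?_⟩⟩
  · intro ψ ψ' h
    simp only at h
    obtain ⟨e1, e2, h1⟩ := hover ψ.1 _ (hf ψ.1)
    obtain ⟨-, -, h1'⟩ := hover ψ'.1 _ (hf ψ'.1)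
    rw [← h] at h1'
    by_contra hne
    let θ : IrrCharacter T := ⟨_, isIrrCharacter_lin (TH ψ.1)⟩
    let θ' : IrrCharacter T := ⟨_, isIrrCharacter_lin (TH ψ'.1)⟩
    have hθne : θ ≠ θ' := by
      intro hθ
      refine hne (Subtype.ext (MonoidHom.ext fun p => ?_))
      have := congrFun (congrArg Subtype.val hθ) ⟨em (1, (p : P)), (hmemT 1 p).2 p.2⟩
      have e3 : TH ψ.1 ⟨em (1, (p : P)), (hmemT 1 p).2 p.2⟩ = TH ψ'.1 _ := Units.ext this
      rwa [hTHv ψ.1 _ 1 p rfl, hTHv ψ'.1 _ 1 p rfl, map_one, one_mul, one_mul] at e3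
    have hc := isCharacter_sub_constituent (isCharacter_comp (isCharacter_irr (f ψ.1)) T.subtype) θ h1
    have h6 : classInner ((fun g : T => (f ψ.1 : G → ℂ) g) - (θ : T → ℂ)) (θ' : T → ℂ) ≠ 0 := by
      rw [classInner_sub_left, classInner_irr_ne hθne, sub_zero]; exact h1'
    have hc' := isCharacter_sub_constituent hc θ' h6
    obtain ⟨c, hcc⟩ := classInner_isCharacter (isCharacter_comp hc' (Subgroup.inclusion hNT))
      (isCharacter_hom lam)
    have e : (fun n : N => (f ψ.1 : G → ℂ) n) =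
        (fun n : N => (((fun a : T => (f ψ.1 : G → ℂ) a) - (θ : T → ℂ)) - (θ' : T → ℂ))
          (Subgroup.inclusion hNT n)) + (fun n : N => (lam n : ℂ)) + fun n : N => (lam n : ℂ) := by
      funext n
      simp only [Pi.add_apply, Pi.sub_apply]
      show _ = ((f ψ.1 : G → ℂ) n - ((TH ψ.1 (Subgroup.inclusion hNT n) : ℂˣ) : ℂ) -
        ((TH ψ'.1 (Subgroup.inclusion hNT n) : ℂˣ) : ℂ)) + _ + _
      rw [hTHN, hTHN]; ring
    rw [e, classInner_add_left, classInner_add_left] at e2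
    rw [show classInner (fun n : N => (lam n : ℂ)) lf = 1 from classInner_irr_self ⟨lf, hlfI⟩] at e2
    have h7 : ((c : ℂ) + 1 + 1) = 1 := by rw [← hcc]; exact e2
    have : c + 1 + 1 = 1 := by exact_mod_cast h7
    omega
  · rw [(hover ψ.1 _ (hf ψ.1)).1, hdeg, hTidx]
  · rw [(hover ψ.1 _ (hf ψ.1)).1]
    let θ : T → ℂ := fun g => (TH ψ.1 g : ℂ)
    have hsum : ∑ g : G, χ0 ψ.1 (g * g) =
        (Nat.card T : ℂ)⁻¹ * ((Nat.card G : ℂ) * ∑ g : G, extendByZero T θ (g * g)) := by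
      show ∑ g : G, (Nat.card T : ℂ)⁻¹ * ∑ x : G, extendByZero T θ (x⁻¹ * (g * g) * x) = _
      rw [← Finset.mul_sum, Finset.sum_comm, Finset.sum_congr rfl
        (g := fun _ => ∑ g : G, extendByZero T θ (g * g)) fun x _ => ?_, Finset.sum_const, Finset.card_univ,
        nsmul_eq_mul, ← Nat.card_eq_fintype_card]
      exact Fintype.sum_bijective (fun g => x⁻¹ * g * x)
        ((Group.mulRight_bijective x).comp (Group.mulLeft_bijective x⁻¹)) _ _ fun g => by group
    rw [hsum]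
    have hS : ∑ g : G, extendByZero T θ (g * g) = (Nat.card T : ℂ) := by
      rw [← Fintype.sum_bijective em hem _ _ fun x => rfl, Fintype.sum_prod_type_right]
      have hsq : ∀ p : P, p * p = ((⟨z, hzP⟩ : P)⁻¹ * p) * ((⟨z, hzP⟩ : P)⁻¹ * p) := fun p => Subtype.ext (by
        show (p : G) * p = z⁻¹ * p * (z⁻¹ * p)
        rw [inv_eq_of_mul_eq_one_right hz2, mul_assoc z, ← mul_assoc (p : G) z, hzc _ p.2,
          mul_assoc z (p : G), ← mul_assoc z z, hz2, one_mul])
      have hp : ∀ p : P, ∑ n : N, extendByZero T θ (em (n, p) * em (n, p)) =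
          if (⟨z, hzP⟩ : P)⁻¹ * p ∈ H then (Nat.card N : ℂ) else 0 := by
        intro p
        by_cases hp2 : p * p ∈ H
        · let μ : N →* ℂˣ := lam * lam.comp (normalConjHom N (p : G))
          have hval : ∀ n : N, extendByZero T θ (em (n, p) * em (n, p)) =
              (μ n : ℂ) * (ψ.1 ⟨p * p, hp2⟩ : ℂ) := by
            intro n
            have e : em (n, p) * em (n, p) = em (n * normalConjHom N (p : G) n, p * p) := by
              simp only [em, Subgroup.coe_mul, normalConjHom, MonoidHom.coe_mk, OneHom.coe_mk]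
              group
            rw [e, extendByZero_mem T θ ((hmemT _ _).2 hp2)]
            show (TH ψ.1 _ : ℂ) = _
            rw [hTHv ψ.1 _ (n * normalConjHom N (p : G) n) ⟨p * p, hp2⟩ rfl, map_mul, Units.val_mul]
            rfl
          rw [Finset.sum_congr rfl fun n _ => hval n, ← Finset.sum_mul]
          have hiff : ((Units.coeHom ℂ).comp μ = 1) ↔ (⟨z, hzP⟩ : P)⁻¹ * p ∈ H := by
            rw [hcj]
            have key : ∀ n : N, μ n = 1 ↔ lam (normalConjHom N (p : G) n) = lam (normalConjHom N z n) := by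
              intro n
              rw [hz, eq_inv_iff_mul_eq_one, mul_comm]
              rfl
            have hcomp : ∀ n : N, normalConjHom N (((⟨z, hzP⟩ : P)⁻¹ * p : P) : G) n =
                normalConjHom N z (normalConjHom N (p : G) n) := fun n => Subtype.ext (by
              have hzi : z⁻¹ = z := inv_eq_of_mul_eq_one_right hz2
              show (z⁻¹ * (p : G)) * n * (z⁻¹ * (p : G))⁻¹ = z * ((p : G) * n * (p : G)⁻¹) * z⁻¹
              conv_rhs => rw [← hzi]
              group)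
            constructor
            · intro h n
              rw [hcomp, hz, (key n).1 (Units.ext (DFunLike.congr_fun h n)), hz, inv_inv]
            · intro h
              refine MonoidHom.ext fun n => ?_
              show ((μ n : ℂˣ) : ℂ) = 1
              rw [(key n).2 ?_, Units.val_one]
              have := h n
              rw [hcomp, hz] at this
              rw [hz, ← this, inv_inv]
          rw [show ∑ n : N, ((μ n : ℂˣ) : ℂ) = _ from sum_hom_units ((Units.coeHom ℂ).comp μ)]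
          by_cases hc : (⟨z, hzP⟩ : P)⁻¹ * p ∈ H
          · rw [if_pos hc, if_pos (hiff.2 hc), ← Nat.card_eq_fintype_card]
            have : ψ.1 ⟨p * p, hp2⟩ = 1 := by
              rw [show (⟨p * p, hp2⟩ : H) = ⟨_, hc⟩ ^ 2 from Subtype.ext (by
                rw [SubgroupClass.coe_pow, pow_two]; exact hsq p), map_pow]
              exact ψ.2 _
            rw [this, Units.val_one, mul_one]
          · rw [if_neg hc, if_neg (fun h => hc (hiff.1 h)), Nat.cast_zero, zero_mul]
        · rw [if_neg, Finset.sum_eq_zero]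
          · intro n _
            have e : em (n, p) * em (n, p) = em (n * normalConjHom N (p : G) n, p * p) := by
              simp only [em, Subgroup.coe_mul, normalConjHom, MonoidHom.coe_mk, OneHom.coe_mk]
              group
            rw [e, extendByZero_not_mem T θ fun h => hp2 ((hmemT _ _).1 h)]
          · intro h
            refine hp2 ?_
            have e2 := hsq p
            rw [e2]
            exact mul_mem h h
      rw [Finset.sum_congr rfl fun p _ => hp p, ← Finset.sum_filter, Finset.sum_const, nsmul_eq_mul]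
      have hcnt : (Finset.univ.filter fun p : P => (⟨z, hzP⟩ : P)⁻¹ * p ∈ H).card = Nat.card H := by
        rw [← Fintype.card_subtype, ← Nat.card_eq_fintype_card]
        exact Nat.card_congr ((Equiv.mulLeft (⟨z, hzP⟩ : P)⁻¹).subtypeEquiv fun p => Iff.rfl)
      rw [hcnt]
      have h1 := T.card_mul_index
      rw [← Nat.card_congr (Equiv.ofBijective em hem), Nat.card_prod, ← H.card_mul_index, hTidx,
        ← mul_assoc] at h1
      rw [Nat.eq_of_mul_eq_mul_right (Nat.pos_of_ne_zero Subgroup.index_ne_zero_of_finite) h1]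
      push_cast; ring
    rw [hS, ← mul_assoc, ← mul_assoc, mul_comm ((Nat.card G : ℂ)⁻¹ * (Nat.card T : ℂ)⁻¹), ← mul_assoc,
      mul_inv_cancel₀ (by exact_mod_cast Nat.card_pos.ne'), one_mul,
      inv_mul_cancel₀ (by exact_mod_cast Nat.card_pos.ne')]

end


/-- Let G be a finite group that is the semidirect product of a normal elementary abelian subgroup N of odd order by a non-trivial 2-subgroup P, with N the unique minimal normal subgroup of G. Consider the strongly real irreducible complex characters of G (Frobenius–Schur indicator +1) whose degree is 1 or even. Then their average degree is at least 4/3: four times their number is at most three times the sum of their degrees. -/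
theorem result {G : Type*} [Group G] [Finite G] (N P : Subgroup G) (hN : N.Normal) (q : ℕ) [Fact q.Prime] (hq : q ≠ 2) (hNel : Cfsg.IsElementaryAbelian q N) (hP : IsPGroup 2 ↥P) (hP1 : P ≠ ⊥) (hdisj : N ⊓ P = ⊥) (hprod : N ⊔ P = ⊤) (hmin : N ≠ ⊥ ∧ ∀ M : Subgroup G, M.Normal → M ≠ ⊥ → N ≤ M) : 4 * Nat.card {χ : Cfsg.IrrCharacter G // (Cfsg.charDegree (χ : G → ℂ) = 1 ∨ 2 ∣ Cfsg.charDegree (χ : G → ℂ)) ∧ (Nat.card G : ℂ)⁻¹ * ∑ᶠ g : G, (χ : G → ℂ) (g * g) = 1} ≤ 3 * (∑ᶠ χ : {χ : Cfsg.IrrCharacter G // (Cfsg.charDegree (χ : G → ℂ) = 1 ∨ 2 ∣ Cfsg.charDegree (χ : G → ℂ)) ∧ (Nat.card G : ℂ)⁻¹ * ∑ᶠ g : G, (χ : G → ℂ) (g * g) = 1}, Cfsg.charDegree (χ.1 : G → ℂ)) := by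
  classical
  haveI := Fintype.ofFinite G
  haveI := hN
  haveI := Fintype.ofFinite N
  haveI : Fact (Nat.Prime 2) := ⟨Nat.prime_two⟩
  obtain ⟨hNc, hNq⟩ := hNel
  have hab : ∀ a ∈ N, ∀ b ∈ N, a * b = b * a := fun a ha b hb =>
    congrArg Subtype.val (hNc.is_comm.comm (⟨a, ha⟩ : N) ⟨b, hb⟩)
  have hqodd : Odd q := (Fact.out : q.Prime).odd_of_ne_two hq
  have hsq1 : ∀ n ∈ N, n ^ 2 = 1 → n = 1 := fun n hn h => by
    have hg : n ^ Nat.gcd 2 q = 1 := pow_gcd_eq_one.2 ⟨h, hNq n hn⟩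
    rwa [show Nat.gcd 2 q = 1 from Nat.coprime_two_left.2 hqodd, pow_one] at hg
  haveI : Nontrivial P := (Subgroup.nontrivial_iff_ne_bot P).2 hP1
  obtain ⟨z', hz'⟩ : ∃ z' : Subgroup.center P, orderOf z' = 2 :=
    exists_prime_orderOf_dvd_card' 2 (by
      haveI := hP.center_nontrivial
      obtain ⟨j, hj⟩ := (hP.to_subgroup (Subgroup.center P)).exists_card_eq
      rw [hj]
      exact dvd_pow_self 2 fun h => by
        have := Finite.one_lt_card (α := Subgroup.center P)
        rw [hj, h, pow_zero] at this; omega)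
  set z : G := ((z' : P) : G) with hzdef
  have hzP : z ∈ P := (z' : P).2
  have hzc : ∀ p ∈ P, p * z = z * p := fun p hp =>
    congrArg Subtype.val (Subgroup.mem_center_iff.1 z'.2 ⟨p, hp⟩)
  have hzo : orderOf z = 2 := by rw [hzdef, Subgroup.orderOf_coe, Subgroup.orderOf_coe, hz']
  have hz2 : z * z = 1 := by rw [← pow_two, ← hzo, pow_orderOf_eq_one]
  have hdec : ∀ g : G, ∃ n ∈ N, ∃ p ∈ P, n * p = g := fun g =>
    Subgroup.mem_sup_of_normal_left.1 (hprod.symm ▸ Subgroup.mem_top g)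
  set M := N ⊓ Subgroup.centralizer ({z} : Set G) with hM
  have hMn : M.Normal := ⟨fun x hx g => by
    obtain ⟨n, hn, p, hp, rfl⟩ := hdec g
    have h1 : p * x * p⁻¹ ∈ N := hN.conj_mem x hx.1 p
    have h2 : n * p * x * (n * p)⁻¹ = p * x * p⁻¹ := by
      rw [show n * p * x * (n * p)⁻¹ = n * (p * x * p⁻¹) * n⁻¹ by group, hab n hn _ h1, mul_inv_cancel_right]
    rw [h2]
    refine ⟨h1, Subgroup.mem_centralizer_singleton_iff.2 ?_⟩
    have h3 : x * z = z * x := Subgroup.mem_centralizer_singleton_iff.1 hx.2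
    have h4 : p⁻¹ * z = z * p⁻¹ := hzc _ (inv_mem hp)
    calc p * x * p⁻¹ * z = p * x * (p⁻¹ * z) := by group
      _ = p * x * (z * p⁻¹) := by rw [h4]
      _ = p * (x * z) * p⁻¹ := by group
      _ = p * (z * x) * p⁻¹ := by rw [h3]
      _ = (p * z) * x * p⁻¹ := by group
      _ = z * (p * x * p⁻¹) := by rw [hzc p hp]; group⟩
  have hMbot : M = ⊥ := by
    by_contra hM0
    have hle : N ≤ M := hmin.2 M hMn hM0
    haveI : (Subgroup.zpowers z).Normal := ⟨fun x hx g => by
      obtain ⟨i, rfl⟩ := Subgroup.mem_zpowers_iff.1 hx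
      obtain ⟨n, hn, p, hp, rfl⟩ := hdec g
      have hc : (n * p) * z * (n * p)⁻¹ = z := by
        rw [show n * p * z * (n * p)⁻¹ = n * (p * z) * p⁻¹ * n⁻¹ by group, hzc p hp,
          show n * (z * p) * p⁻¹ * n⁻¹ = n * z * n⁻¹ by group,
          Subgroup.mem_centralizer_singleton_iff.1 (hle hn).2, mul_inv_cancel_right]
      rw [← conj_zpow, hc]
      exact hx⟩
    have h1 := hmin.2 (Subgroup.zpowers z) inferInstance (fun h => by
      rw [Subgroup.zpowers_eq_bot] at h
      rw [h, orderOf_one] at hzo; omega)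
    exact hmin.1 (eq_bot_iff.2 (hdisj ▸ le_inf le_rfl (h1.trans (Subgroup.zpowers_le.2 hzP))))
  have hzi : z⁻¹ = z := inv_eq_of_mul_eq_one_right hz2
  have hzinv : ∀ n ∈ N, z * n * z⁻¹ = n⁻¹ := by
    intro n hn
    have h1 : z * n * z⁻¹ ∈ N := hN.conj_mem n hn z
    have h2 : n * (z * n * z⁻¹) ∈ M := by
      refine ⟨mul_mem hn h1, Subgroup.mem_centralizer_singleton_iff.2 ?_⟩
      have h5 : z * (n * (z * n * z⁻¹)) * z⁻¹ = n * (z * n * z⁻¹) := by
        rw [show z * (n * (z * n * z⁻¹)) * z⁻¹ = (z * n * z⁻¹) * ((z * z) * n * (z * z)⁻¹) by group, hz2,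
          one_mul, inv_one, mul_one, hab _ h1 n hn]
      conv_lhs => rw [← h5]
      group
    rw [hMbot, Subgroup.mem_bot] at h2
    exact eq_inv_of_mul_eq_one_right h2
  obtain ⟨lam, hlam1⟩ : ∃ lam : N →* ℂˣ, lam ≠ 1 := by
    haveI : Nontrivial N := (Subgroup.nontrivial_iff_ne_bot N).2 hmin.1
    obtain ⟨x, hx⟩ := exists_ne (1 : N)
    letI : CommGroup N := { (inferInstance : Group N) with mul_comm := hNc.is_comm.comm }
    obtain ⟨l, hl⟩ := CommGroup.exists_apply_ne_one_of_hasEnoughRootsOfUnity N ℂ hx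
    exact ⟨l, fun h => hl (by rw [h]; rfl)⟩
  have hlam : ∀ n : N, lam n ^ 2 = 1 → lam n = 1 := fun n h => by
    have h2 : lam n ^ q = 1 := by
      rw [← map_pow, show n ^ q = 1 from Subtype.ext (hNq n n.2), map_one]
    have hg : lam n ^ Nat.gcd 2 q = 1 := pow_gcd_eq_one.2 ⟨h, h2⟩
    rwa [show Nat.gcd 2 q = 1 from Nat.coprime_two_left.2 hqodd, pow_one] at hg
  obtain ⟨H, k, f, hinj, hk, hk2, hf⟩ :=
    exists_family N P hab hdisj hprod hP lam hlam hlam1 z hzP hzc hz2 hzinv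
  -- counting
  have hfinhom : ∀ (X : Type _) [Group X] [Finite X], Finite (X →* ℂˣ) := fun X _ _ =>
    Finite.of_equiv _ (CfsgLib.Char.linearCharEquiv (G := X)).symm
  haveI := hfinhom P
  haveI := hfinhom H
  set S := {χ : Cfsg.IrrCharacter G // (Cfsg.charDegree (χ : G → ℂ) = 1 ∨ 2 ∣ Cfsg.charDegree (χ : G → ℂ)) ∧
    (Nat.card G : ℂ)⁻¹ * ∑ᶠ g : G, (χ : G → ℂ) (g * g) = 1} with hS
  haveI := Fintype.ofFinite S
  rw [finsum_eq_sum_of_fintype, Nat.card_eq_fintype_card]
  have hdg : ∀ (φ : Cfsg.IrrCharacter G) (d : ℕ), (φ : G → ℂ) 1 = d → Cfsg.charDegree (φ : G → ℂ) = d :=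
    fun φ d h => by
      simp [Cfsg.charDegree, h]
  set L := Finset.univ.filter (fun χ : S => Cfsg.charDegree (χ.1 : G → ℂ) = 1) with hL
  set B := Finset.univ.filter (fun χ : S => ¬ Cfsg.charDegree (χ.1 : G → ℂ) = 1) with hB
  have hcardS : Fintype.card S = L.card + B.card := by
    rw [← Finset.card_univ, hL, hB, Finset.card_filter_add_card_filter_not]
  have hsumS : ∑ χ : S, Cfsg.charDegree (χ.1 : G → ℂ) = L.card + ∑ χ ∈ B, Cfsg.charDegree (χ.1 : G → ℂ) := by
    rw [← Finset.sum_filter_add_sum_filter_not Finset.univ (fun χ : S => Cfsg.charDegree (χ.1 : G → ℂ) = 1),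
      Finset.sum_congr rfl fun χ hχ => (Finset.mem_filter.1 hχ).2, Finset.sum_const, smul_eq_mul, mul_one]
  rw [hcardS, hsumS]
  have hB2 : 2 * B.card ≤ ∑ χ ∈ B, Cfsg.charDegree (χ.1 : G → ℂ) := by
    rw [mul_comm, ← smul_eq_mul, ← Finset.sum_const]
    refine Finset.sum_le_sum fun χ hχ => ?_
    obtain ⟨d, hd⟩ := CfsgLib.Char.isCharacter_degree (CfsgLib.Char.isCharacter_irr χ.1)
    have hd0 : d ≠ 0 := fun h => CfsgLib.Char.irr_one_ne_zero χ.1 (by rw [hd, h, Nat.cast_zero])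
    have hdd := (χ.2.1).resolve_left (Finset.mem_filter.1 hχ).2
    rw [hdg χ.1 d hd] at hdd ⊢
    exact Nat.le_of_dvd (Nat.pos_of_ne_zero hd0) hdd
  -- the sign characters of `H` give many characters of even degree
  have hfS : ∀ ψ, (Cfsg.charDegree (f ψ : G → ℂ) = 1 ∨ 2 ∣ Cfsg.charDegree (f ψ : G → ℂ)) ∧
      (Nat.card G : ℂ)⁻¹ * ∑ᶠ g : G, (f ψ : G → ℂ) (g * g) = 1 := fun ψ => by
    rw [finsum_eq_sum_of_fintype, hdg _ _ (hf ψ).1]
    exact ⟨Or.inr hk2, (hf ψ).2⟩
  haveI := Fintype.ofFinite {ψ : H →* ℂˣ // ∀ x, ψ x ^ 2 = 1}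
  have hBig : k * Nat.card {ψ : H →* ℂˣ // ∀ x, ψ x ^ 2 = 1} ≤ ∑ χ ∈ B, Cfsg.charDegree (χ.1 : G → ℂ) := by
    let F : {ψ : H →* ℂˣ // ∀ x, ψ x ^ 2 = 1} → S := fun ψ => ⟨f ψ, hfS ψ⟩
    have hFinj : Function.Injective F := fun a b h => hinj (congrArg Subtype.val h)
    have hsub : Finset.univ.image F ⊆ B := by
      intro χ hχ
      obtain ⟨ψ, -, rfl⟩ := Finset.mem_image.1 hχ
      refine Finset.mem_filter.2 ⟨Finset.mem_univ _, ?_⟩
      show ¬ Cfsg.charDegree (f ψ : G → ℂ) = 1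
      rw [hdg _ _ (hf ψ).1]
      omega
    refine le_trans (le_of_eq ?_) (Finset.sum_le_sum_of_subset hsub)
    rw [Finset.sum_image (fun a _ b _ h => hFinj h),
      Finset.sum_congr rfl (g := fun _ => k) fun ψ _ => hdg _ _ (hf ψ).1,
      Finset.sum_const, Finset.card_univ, smul_eq_mul, Nat.card_eq_fintype_card, mul_comm]
  have hLin : L.card ≤ Nat.card {ψ : P →* ℂˣ // ∀ x, ψ x ^ 2 = 1} := by
    have hlinhom : ∀ χ : {χ // χ ∈ L}, ∃ l : G →* ℂˣ, (χ.1.1 : G → ℂ) = fun g => (l g : ℂ) := by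
      intro χ
      obtain ⟨d, hd⟩ := CfsgLib.Char.isCharacter_degree (CfsgLib.Char.isCharacter_irr χ.1.1)
      have h1 := (Finset.mem_filter.1 χ.2).2
      rw [hdg _ d hd] at h1
      rw [h1, Nat.cast_one] at hd
      exact CfsgLib.Char.exists_hom_of_linear (CfsgLib.Char.isCharacter_irr χ.1.1) hd
    choose l hl using hlinhom
    have hl2 : ∀ χ g, l χ g ^ 2 = 1 := by
      intro χ g
      have hν := χ.1.2.2
      rw [finsum_eq_sum_of_fintype, hl χ] at hν
      simp only [map_mul, ← pow_two] at hν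
      by_contra hne
      have h0 : ∑ g : G, (((l χ * l χ) g : ℂˣ) : ℂ) = 0 :=
        sum_hom_units_eq_zero ((Units.coeHom ℂ).comp (l χ * l χ)) fun h => hne (by
          rw [pow_two]
          exact Units.ext (DFunLike.congr_fun h g))
      rw [Finset.sum_congr rfl (g := fun g => (((l χ * l χ) g : ℂˣ) : ℂ)) fun g _ => by
        rw [MonoidHom.mul_apply, ← pow_two, map_pow], h0, mul_zero] at hν
      exact zero_ne_one hν
    let R : {χ // χ ∈ L} → {ψ : P →* ℂˣ // ∀ x, ψ x ^ 2 = 1} :=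
      fun χ => ⟨(l χ).comp P.subtype, fun x => hl2 χ x⟩
    have hR : Function.Injective R := by
      intro a b h
      have hP' : ∀ p ∈ P, l a p = l b p := fun p hp =>
        DFunLike.congr_fun (congrArg Subtype.val h) ⟨p, hp⟩
      have hN' : ∀ c, ∀ n ∈ N, l c n = 1 := by
        intro c n hn
        have h2 : l c n ^ q = 1 := by rw [← map_pow, hNq n hn, map_one]
        have hg : l c n ^ Nat.gcd 2 q = 1 := pow_gcd_eq_one.2 ⟨hl2 c n, h2⟩
        rwa [show Nat.gcd 2 q = 1 from Nat.coprime_two_left.2 hqodd, pow_one] at hg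
      refine Subtype.ext (Subtype.ext (Subtype.ext ?_))
      rw [hl a, hl b]
      funext g
      obtain ⟨n, hn, p, hp, rfl⟩ := hdec g
      rw [map_mul, map_mul, hN' a n hn, hN' b n hn, hP' p hp]
    have := Nat.card_le_card_of_injective R hR
    rwa [Nat.card_eq_fintype_card, Fintype.card_coe] at this
  have hcmp := card_sign_hom_le H
  rw [← hk] at hcmp
  omega

end Cfsg.Agent.S4871
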