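import Cfsg.Statements.S4873
import Cfsg.Agent.Lib.Char.RealOddIndex

set_option autoImplicit false
open Cfsg

namespace Cfsg.Agent.S4873

/-- Let N be a normal subgroup of odd index in the finite group G. Then every irreducible complex character of N with Frobenius–Schur indicator +1 lies under exactly one irreducible character of G with Frobenius–Schur indicator +1. -/
theorem result {G : Type*} [Group G] [Finite G] (N : Subgroup G) [N.Normal] (hodd : Odd N.index) (φ : Cfsg.IrrCharacter ↥N) (hφ : (Nat.card ↥N : ℂ)⁻¹ * ∑ᶠ g : ↥N, (φ : ↥N → ℂ) (g * g) = 1) : ∃! χ : Cfsg.IrrCharacter G, (Nat.card G : ℂ)⁻¹ * ∑ᶠ g : G, (χ : G → ℂ) (g * g) = 1 ∧ (∑ᶠ n : ↥N, (χ : G → ℂ) n * (starRingEnd ℂ) ((φ : ↥N → ℂ) n)) ≠ 0 := by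
  classical
  have := Fintype.ofFinite G
  have := Fintype.ofFinite N
  rw [finsum_eq_sum_of_fintype] at hφ
  have hφr : ∀ k : N, ((φ : N → ℂ) k).im = 0 :=
    CfsgLib.Char.real_of_sqInd_ne_zero φ (by rw [show CfsgLib.Char.sqInd (φ : N → ℂ) = 1 from hφ]; exact one_ne_zero)
  obtain ⟨χ, hre, hne, hind, huniq⟩ := CfsgLib.Char.RealOddIndex.existsUnique_real_over N hodd φ hφr
  have hiff : ∀ χ : IrrCharacter G,
      (∑ᶠ n : N, (χ : G → ℂ) n * (starRingEnd ℂ) ((φ : N → ℂ) n)) =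
        (Nat.card N : ℂ) * Cfsg.classInner (fun n : N => (χ : G → ℂ) n) (φ : N → ℂ) := fun χ => by
    rw [finsum_eq_sum_of_fintype, Cfsg.classInner,
      mul_inv_cancel_left₀ (Nat.cast_ne_zero.mpr Nat.card_pos.ne')]
  refine ⟨χ, ⟨?_, ?_⟩, fun χ' h => huniq χ' ?_ ?_⟩
  · rw [finsum_eq_sum_of_fintype]
    exact hind.trans hφ
  · rw [hiff]; exact mul_ne_zero (Nat.cast_ne_zero.mpr Nat.card_pos.ne') hne
  · have h1 := h.1
    rw [finsum_eq_sum_of_fintype] at h1
    exact CfsgLib.Char.real_of_sqInd_ne_zero χ'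
      (by rw [show CfsgLib.Char.sqInd (χ' : G → ℂ) = 1 from h1]; exact one_ne_zero)
  · have h2 := h.2
    rw [hiff] at h2
    exact right_ne_zero_of_mul h2

end Cfsg.Agent.S4873
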