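import Cfsg.Statements.S4885
import Cfsg.Agent.Lib.Block.PSolvablePrincipal
import Cfsg.Agent.Lib.Block.PPrimeKernel
import Cfsg.Agent.Lib.PGroup.PSolvable
import Cfsg.Agent.Lib.Coprime.Fitting
import Cfsg.Agent.Lib.Coprime.SchurZassenhaus
import Cfsg.Agent.Lib.Coprime.Core

set_option autoImplicit false
open Cfsg

namespace Cfsg.Agent.S4885

section
open CfsgLib.Char

universe u

variable {G : Type u} [Group G]

/-- A proper subgroup supplementing `A` in a Sylow subgroup gives a character of degree prime to `p`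
that is nontrivial on `A`. -/
private theorem exists_char_nontrivial [Finite G] {p : ℕ} [hp : Fact p.Prime] (P : Sylow p G)
    (A R : Subgroup G) (hR : R < (P : Subgroup G)) (hP : (P : Subgroup G) ≤ A ⊔ R)
    (hA : A ≤ (P : Subgroup G)) :
    ∃ χ : IrrCharacter G, ¬ p ∣ charDegree (χ : G → ℂ) ∧ ∃ a ∈ A, (χ : G → ℂ) a ≠ (χ : G → ℂ) 1 := by
  classical
  haveI := Fintype.ofFinite G
  have hRt : R.subgroupOf (P : Subgroup G) ≠ ⊤ := fun h => hR.not_ge (Subgroup.subgroupOf_eq_top.1 h)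
  obtain ⟨Mx, hMx, hRMx⟩ := (eq_top_or_exists_le_coatom _).resolve_left hRt
  haveI := P.2.isNilpotent
  haveI : Mx.Normal := Subgroup.NormalizerCondition.normal_of_coatom _ Group.normalizerCondition_of_isNilpotent hMx
  obtain ⟨x, hxm⟩ : ∃ x : (P : Subgroup G), x ∉ Mx := by
    by_contra hc
    push Not at hc
    exact hMx.1 (top_unique fun x _ => hc x)
  have hgen : Mx ⊔ Subgroup.zpowers x = ⊤ :=
    hMx.2 _ (left_lt_sup.2 fun h => hxm (h (Subgroup.mem_zpowers x)))
  haveI hcyc : IsCyclic ((P : Subgroup G) ⧸ Mx) := ⟨⟨QuotientGroup.mk' Mx x, fun y => by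
    obtain ⟨z, rfl⟩ := QuotientGroup.mk'_surjective Mx y
    obtain ⟨m, hm, w, hw, rfl⟩ := Subgroup.mem_sup_of_normal_left.1
      (hgen.symm ▸ Subgroup.mem_top z : z ∈ Mx ⊔ Subgroup.zpowers x)
    obtain ⟨i, rfl⟩ := Subgroup.mem_zpowers_iff.1 hw
    refine Subgroup.mem_zpowers_iff.2 ⟨i, ?_⟩
    rw [map_mul, show QuotientGroup.mk' Mx m = 1 from (QuotientGroup.eq_one_iff m).2 hm, one_mul,
      map_zpow]⟩⟩
  letI : CommGroup ((P : Subgroup G) ⧸ Mx) := IsCyclic.commGroup
  have hx1 : QuotientGroup.mk' Mx x ≠ 1 := fun h => hxm ((QuotientGroup.eq_one_iff x).1 h)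
  obtain ⟨φ, hφ⟩ := CommGroup.exists_apply_ne_one_of_hasEnoughRootsOfUnity _ ℂ hx1
  let lam : (P : Subgroup G) →* ℂˣ := φ.comp (QuotientGroup.mk' Mx)
  by_contra hc
  push Not at hc
  apply hφ
  have hA1 : ∀ a : (P : Subgroup G), (a : G) ∈ A → lam a = 1 := fun a ha =>
    CfsgLib.Block.PPrimeKernel.lin_eq_one_of_forall (p := p) (P : Subgroup G) P.not_dvd_index lam
      (x := a) fun χ hχ => hc χ hχ a ha
  have hle : A.subgroupOf (P : Subgroup G) ⊔ R.subgroupOf (P : Subgroup G) ≤ lam.ker := by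
    refine sup_le (fun a ha => hA1 a ha) fun r hr => ?_
    show φ (QuotientGroup.mk' Mx r) = 1
    rw [show QuotientGroup.mk' Mx r = 1 from (QuotientGroup.eq_one_iff r).2 (hRMx hr), map_one]
  rw [← Subgroup.subgroupOf_sup hA hR.le] at hle
  exact hle (show x ∈ (A ⊔ R).subgroupOf (P : Subgroup G) from hP x.2)

/-- A normal `p`-subgroup which is the whole group, or not centralised by a normal overgroup of
index prime to `p`. -/
private theorem exists_char_of_action [Finite G] {p : ℕ} [hp : Fact p.Prime] (A X : Subgroup G)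
    [hAn : A.Normal] [hXn : X.Normal] (hA : IsPGroup p A) (hAX : A ≤ X) (hidx : ¬ p ∣ A.relIndex X)
    (hne : ¬ X ≤ A ⊔ Subgroup.centralizer (A : Set G)) :
    ∃ χ : IrrCharacter G, ¬ p ∣ charDegree (χ : G → ℂ) ∧ ∃ a ∈ A, (χ : G → ℂ) a ≠ (χ : G → ℂ) 1 := by
  classical
  obtain ⟨k, hk⟩ := IsPGroup.iff_card.1 hA
  have hcop : (Nat.card (A.subgroupOf X)).Coprime (A.subgroupOf X).index := by
    rw [Nat.card_congr (Subgroup.subgroupOfEquivOfLe hAX).toEquiv, hk]
    exact Nat.Coprime.pow_left k (hp.out.coprime_iff_not_dvd.2 hidx)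
  obtain ⟨K0, hK0⟩ := Subgroup.exists_right_complement'_of_coprime hcop
  set K := K0.map X.subtype with hKd
  have hKX : K ≤ X := Subgroup.map_subtype_le K0
  have hXAK : X ≤ A ⊔ K := fun x hx => by
    obtain ⟨⟨a, c⟩, hac⟩ := hK0.2 ⟨x, hx⟩
    have := congrArg Subtype.val hac
    simp only [Subgroup.coe_mul] at this
    rw [← this]
    exact Subgroup.mul_mem_sup a.2 (Subgroup.mem_map_of_mem _ c.2)
  have hKc : (Nat.card A).Coprime (Nat.card K) := by
    rw [hKd, Subgroup.card_map_of_injective X.subtype_injective, ← hK0.symm.index_eq_card, hk]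
    exact Nat.Coprime.pow_left k (hp.out.coprime_iff_not_dvd.2 hidx)
  obtain ⟨P⟩ : Nonempty (Sylow p G) := inferInstance
  have hAP : A ≤ (P : Subgroup G) :=
    le_sup_right.trans (P.3 (P.2.to_sup_of_normal_right hA) le_sup_left).le
  set N := Subgroup.normalizer (K : Set G) with hN
  refine exists_char_nontrivial P A ((P : Subgroup G) ⊓ N) ?_ (fun x hx => ?_) hAP
  · refine lt_of_le_of_ne inf_le_left fun h => hne ?_
    have hAN : A ≤ N := hAP.trans (inf_eq_left.1 h)
    refine hXAK.trans (sup_le_sup le_rfl fun c hc => ?_)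
    refine Subgroup.mem_centralizer_iff.2 fun a ha => ?_
    have h1 : a * c * a⁻¹ * c⁻¹ ∈ A ⊓ K := by
      refine ⟨?_, K.mul_mem ((Subgroup.mem_normalizer_iff.1 (hAN ha) c).1 hc) (K.inv_mem hc)⟩
      have h2 := A.mul_mem ha (hAn.conj_mem _ (A.inv_mem ha) c)
      rwa [show a * c * a⁻¹ * c⁻¹ = a * (c * a⁻¹ * c⁻¹) by group]
    rw [Subgroup.inf_eq_bot_of_coprime hKc, Subgroup.mem_bot] at h1
    exact mul_inv_eq_iff_eq_mul.1 (mul_inv_eq_one.1 h1)
  · obtain ⟨o, ho, hoK⟩ := CfsgLib.Coprime.sz_conj_in (A := K) (N := A)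
      (B := CfsgLib.Coprime.conjBy x K)
      (by rw [Subgroup.normalizer_eq_top_iff.2 hAn]; exact le_top)
      hKc
      (fun y hy => (sup_comm A K ▸ hXAK (by
        rw [CfsgLib.Coprime.mem_conjBy] at hy
        have := hXn.conj_mem _ (hKX hy) x
        rwa [show x * (x⁻¹ * y * x) * x⁻¹ = y by group] at this) : y ∈ K ⊔ A))
      (CfsgLib.Coprime.card_conjBy x K) (Or.inr (by
        haveI := hA.isNilpotent
        infer_instance))
    rw [CfsgLib.Coprime.conjBy_conjBy, CfsgLib.Coprime.conjBy_eq_self_iff] at hoK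
    rw [show x = o⁻¹ * (o * x) by group]
    exact Subgroup.mul_mem_sup (A.inv_mem ho) ⟨mul_mem (hAP ho) hx, hoK⟩

/-- A minimal normal subgroup of a `p`-soluble group is a `p`-group or a `p'`-group. -/
private theorem minimal_dichotomy [Finite G] {p : ℕ} [hp : Fact p.Prime] (hsolv : IsPSolvable p G)
    (Y : Subgroup G) [hYn : Y.Normal] (hmin : ∀ W : Subgroup G, W.Normal → W ≤ Y → W = ⊥ ∨ W = Y) :
    IsPGroup p Y ∨ (Nat.card Y).Coprime p := by
  obtain ⟨n, H, h0, hl, hm, hn, hf⟩ := hsolv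
  rcases eq_or_ne Y ⊥ with rfl | hY
  · exact Or.inl IsPGroup.of_bot
  obtain ⟨i, hi, hi'⟩ : ∃ i : Fin n, Y ⊓ H i.castSucc = ⊥ ∧ Y ⊓ H i.succ ≠ ⊥ := by
    by_contra hcon
    push Not at hcon
    have : ∀ i : Fin (n + 1), Y ⊓ H i = ⊥ :=
      fun i => Fin.induction (by rw [h0, inf_bot_eq]) (fun i hi => hcon i hi) i
    have h := this (Fin.last n)
    rw [hl, inf_top_eq] at h
    exact hY h
  haveI := hn i.succ
  haveI := hn i.castSucc
  have hYle : Y ≤ H i.succ :=
    inf_eq_left.1 ((hmin (Y ⊓ H i.succ) inferInstance inf_le_left).resolve_left hi')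
  have hd : Nat.card Y ∣ (H i.castSucc).relIndex (H i.succ) := by
    have h1 : Nat.card Y = (H i.castSucc).relIndex Y := by
      rw [← Subgroup.relIndex_bot_left, ← hi, inf_comm, Subgroup.inf_relIndex_right]
    rw [h1, ← Subgroup.relIndex_subgroupOf (H := H i.castSucc) (K := Y) (L := H i.succ) hYle]
    exact Subgroup.relIndex_dvd_index_of_normal _ _
  rcases hf i with ⟨m, hm'⟩ | hco
  · rw [hm'] at hd
    obtain ⟨j, -, hj⟩ := (Nat.dvd_prime_pow hp.out).1 hd
    exact Or.inl (IsPGroup.of_card hj)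
  · exact Or.inr (hco.coprime_dvd_left hd)

/-- The same above a normal subgroup. -/
private theorem chief_dichotomy [Finite G] {p : ℕ} [hp : Fact p.Prime] (hsolv : IsPSolvable p G)
    (Z Y : Subgroup G) [Z.Normal] [hYn : Y.Normal] (hZY : Z ≤ Y)
    (hmin : ∀ W : Subgroup G, W.Normal → Z ≤ W → W ≤ Y → W = Z ∨ W = Y) :
    (∃ k, Z.relIndex Y = p ^ k) ∨ (Z.relIndex Y).Coprime p := by
  set π := QuotientGroup.mk' Z with hπ
  haveI : (Y.map π).Normal := hYn.map π (QuotientGroup.mk'_surjective Z)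
  have hcard : Nat.card (Y.map π) = Z.relIndex Y := by
    rw [← Subgroup.relIndex_ker, hπ, QuotientGroup.ker_mk']
  have h := minimal_dichotomy (p := p) (CfsgLib.PGroup.isPSolvable_quotient hp.out hsolv Z) (Y.map π)
    fun W hW hWY => by
      have hle : Z ≤ W.comap π := fun z hz => by
        rw [Subgroup.mem_comap, show π z = 1 from (QuotientGroup.eq_one_iff z).2 hz]
        exact one_mem _
      have hleY : W.comap π ≤ Y := by
        refine (Subgroup.comap_mono hWY).trans ?_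
        rw [Subgroup.comap_map_eq, QuotientGroup.ker_mk', sup_eq_left.2 hZY]
      rcases hmin (W.comap π) (hW.comap π) hle hleY with h | h
      · left
        rw [← Subgroup.map_comap_eq_self_of_surjective (QuotientGroup.mk'_surjective Z) W, h,
          QuotientGroup.map_mk'_self]
      · right
        rw [← Subgroup.map_comap_eq_self_of_surjective (QuotientGroup.mk'_surjective Z) W, h]
  rcases h with h | h
  · exact Or.inl (hcard ▸ IsPGroup.iff_card.1 h)
  · exact Or.inr (hcard ▸ h)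

/-- A normal subgroup that is central-by-`r` is in the Fitting subgroup. -/
private theorem le_fitting_of_central [Finite G] {r : ℕ} [hr : Fact r.Prime] (Z Y : Subgroup G)
    [hZn : Z.Normal] [hYn : Y.Normal] (hc : ∀ z ∈ Z, ∀ y ∈ Y, z ∈ Y → y * z = z * y) {k : ℕ}
    (hidx : Z.relIndex Y = r ^ k) : Y ≤ fittingSubgroup G := by
  refine CfsgLib.Coprime.le_fitting ?_
  set f := QuotientGroup.mk' (Z.subgroupOf Y) with hf
  haveI : Group.IsNilpotent (Y ⧸ Z.subgroupOf Y) :=
    (IsPGroup.of_card (p := r) (n := k) (by rw [← Subgroup.index_eq_card]; exact hidx)).isNilpotent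
  refine Subgroup.isNilpotent_of_ker_le_center f fun z hz => ?_
  rw [hf, QuotientGroup.ker_mk', Subgroup.mem_subgroupOf] at hz
  exact Subgroup.mem_center_iff.2 fun y => Subtype.ext (hc z hz y y.2 z.2)

private theorem relIndex_dvd_card (D E : Subgroup G) [D.Normal] : D.relIndex E ∣ Nat.card E := by
  rw [← Subgroup.inf_relIndex_right, ← Subgroup.relIndex_bot_left E]
  exact Subgroup.relIndex_dvd_of_le_left E bot_le

/-- A normal subgroup centralizing `B` modulo `B` with `r`-power index over it is in the Fitting subgroup. -/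
private theorem centralizing_step [Finite G] {r : ℕ} [hr : Fact r.Prime] (B X F : Subgroup G) [B.Normal]
    [X.Normal] (hBF : B ≤ F) (hBX : B ≤ X) (hX : X ≤ B ⊔ Subgroup.centralizer (B : Set G))
    (hidx : ∃ k, B.relIndex X ∣ r ^ k) (hF : F = fittingSubgroup G) : X ≤ F := by
  set Y := X ⊓ Subgroup.centralizer (B : Set G)
  haveI : (Subgroup.centralizer (B : Set G)).Normal := Subgroup.normal_centralizer
  haveI : Y.Normal := inferInstance
  obtain ⟨k, hk⟩ := hidx
  have hd : B.relIndex Y ∣ B.relIndex X := by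
    haveI : (B.subgroupOf X).Normal := inferInstance
    have h3 := Subgroup.relIndex_dvd_index_of_normal (B.subgroupOf X) (Y.subgroupOf X)
    rwa [Subgroup.relIndex_subgroupOf inf_le_left] at h3
  obtain ⟨j, -, hj⟩ := (Nat.dvd_prime_pow hr.out).1 (hd.trans hk)
  have hYF : Y ≤ F := hF ▸ le_fitting_of_central (r := r) B Y
    (fun z hz y hy _ => (Subgroup.mem_centralizer_iff.1 hy.2 z hz).symm) hj
  intro x hx
  obtain ⟨b, hb, c, hc, rfl⟩ := Subgroup.mem_sup_of_normal_left.1 (hX hx)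
  by_cases hbX : b ∈ X
  · have hcX : c ∈ X := by
      have := X.mul_mem (X.inv_mem hbX) hx
      rwa [inv_mul_cancel_left] at this
    exact F.mul_mem (hBF hb) (hYF ⟨hcX, hc⟩)
  · exact absurd (hBX hb) hbX

/-- The data of two primes for a group whose cores of order prime to them meet trivially. -/
private theorem exists_acting [Finite G] {p q : ℕ} [hp : Fact p.Prime] [hq : Fact q.Prime]
    (hne : p ≠ q) (hps : IsPSolvable p G) (hqs : IsPSolvable q G)
    (hcores : pPrimeCore p G ⊓ pPrimeCore q G = ⊥) (hF : fittingSubgroup G ≠ ⊤) :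
    (∃ X : Subgroup G, X.Normal ∧ pCore p G ≤ X ∧ ¬ p ∣ (pCore p G).relIndex X ∧
      ¬ X ≤ pCore p G ⊔ Subgroup.centralizer (pCore p G : Set G)) ∨
    (∃ X : Subgroup G, X.Normal ∧ pCore q G ≤ X ∧ ¬ q ∣ (pCore q G).relIndex X ∧
      ¬ X ≤ pCore q G ⊔ Subgroup.centralizer (pCore q G : Set G)) := by
  classical
  haveI := CfsgLib.Coprime.pCore_normal' (G := G) p
  haveI := CfsgLib.Coprime.pCore_normal' (G := G) q
  set A := pCore p G with hA
  set B := pCore q G with hB
  set F := fittingSubgroup G with hFd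
  have hFle : F ≤ A ⊔ B := by
    rw [hFd, CfsgLib.Coprime.fitting_eq_iSup_pCore]
    refine iSup_le fun r => ?_
    by_cases h1 : (r : ℕ) = p
    · rw [h1]; exact le_sup_left
    by_cases h2 : (r : ℕ) = q
    · rw [h2]; exact le_sup_right
    haveI : Fact (r : ℕ).Prime := ⟨r.2⟩
    haveI := CfsgLib.Coprime.pCore_normal' (G := G) (r : ℕ)
    obtain ⟨k, hk⟩ := IsPGroup.iff_card.1 (CfsgLib.Coprime.pCore_isPGroup (G := G) (r : ℕ))
    have h3 : pCore (r : ℕ) G ≤ pPrimeCore p G ⊓ pPrimeCore q G := le_inf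
      (CfsgLib.Coprime.le_pPrimeCore (by rw [hk]; exact Nat.Coprime.pow_left k ((Nat.coprime_primes r.2 hp.out).2 h1)))
      (CfsgLib.Coprime.le_pPrimeCore (by rw [hk]; exact Nat.Coprime.pow_left k ((Nat.coprime_primes r.2 hq.out).2 h2)))
    rw [hcores] at h3
    exact h3.trans bot_le
  have hAF : A ≤ F := CfsgLib.Coprime.pCore_le_fitting p
  have hBF : B ≤ F := CfsgLib.Coprime.pCore_le_fitting q
  have hFeq : F = A ⊔ B := le_antisymm hFle (sup_le hAF hBF)
  haveI hFn : F.Normal := hFeq ▸ inferInstance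
  -- the Fitting subgroup is self-centralizing
  have hCF : Subgroup.centralizer (F : Set G) ≤ F := by
    set C := Subgroup.centralizer (F : Set G) with hC
    haveI : C.Normal := Subgroup.normal_centralizer
    by_contra hne
    obtain ⟨Y, hYC, hY⟩ := exists_minimal_le_of_wellFoundedLT (α := Subgroup G)
      (fun Y => Y.Normal ∧ C ⊓ F ≤ Y ∧ ¬ Y ≤ F) C ⟨inferInstance, inf_le_left, hne⟩
    obtain ⟨hYn, hZY, hYF⟩ := hY.prop
    haveI := hYn
    have hmin : ∀ W : Subgroup G, W.Normal → C ⊓ F ≤ W → W ≤ Y → W = C ⊓ F ∨ W = Y := fun W hW h1 h2 => by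
      by_cases hWF : W ≤ F
      · exact Or.inl (le_antisymm (le_inf (h2.trans hYC) hWF) h1)
      · exact Or.inr (le_antisymm h2 (hY.le_of_le ⟨hW, h1, hWF⟩ h2))
    have hcen : ∀ z ∈ C ⊓ F, ∀ y ∈ Y, z ∈ Y → y * z = z * y := fun z hz y hy _ =>
      (Subgroup.mem_centralizer_iff.1 (hYC hy) z hz.2).symm
    rcases chief_dichotomy (p := p) hps (C ⊓ F) Y hZY hmin with ⟨k, hk⟩ | h1
    · exact hYF (le_fitting_of_central (r := p) (C ⊓ F) Y hcen hk)
    rcases chief_dichotomy (p := q) hqs (C ⊓ F) Y hZY hmin with ⟨k, hk⟩ | h2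
    · exact hYF (le_fitting_of_central (r := q) (C ⊓ F) Y hcen hk)
    -- a complement of order prime to `p` and `q`
    set Z' := (C ⊓ F).subgroupOf Y with hZ'
    have hidx : Z'.index = (C ⊓ F).relIndex Y := rfl
    have hZpq : ∀ r : ℕ, r.Prime → r ∣ Nat.card Z' → r = p ∨ r = q := by
      intro r hr hrd
      rw [hZ', Nat.card_congr (Subgroup.subgroupOfEquivOfLe hZY).toEquiv] at hrd
      have h3 := hrd.trans (Subgroup.card_dvd_of_le (inf_le_right.trans hFle : C ⊓ F ≤ A ⊔ B))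
      obtain ⟨a, ha⟩ := IsPGroup.iff_card.1 (CfsgLib.Coprime.pCore_isPGroup (G := G) p)
      obtain ⟨b, hb⟩ := IsPGroup.iff_card.1 (CfsgLib.Coprime.pCore_isPGroup (G := G) q)
      have h4 : Nat.card (A ⊔ B : Subgroup G) ∣ Nat.card A * Nat.card B := by
        rw [← Subgroup.relIndex_bot_left (A ⊔ B), ← Subgroup.relIndex_mul_relIndex ⊥ A (A ⊔ B) bot_le le_sup_left,
          Subgroup.relIndex_bot_left, sup_comm A B, Subgroup.relIndex_sup_right]
        refine Nat.mul_dvd_mul_left _ ?_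
        rw [← Subgroup.inf_relIndex_right]
        exact (Subgroup.relIndex_dvd_of_le_left B bot_le).trans (dvd_of_eq (Subgroup.relIndex_bot_left B))
      rw [hA, hB, ha, hb] at h4
      rcases hr.dvd_mul.1 (h3.trans h4) with h | h
      · exact Or.inl ((Nat.prime_dvd_prime_iff_eq hr hp.out).1 (hr.dvd_of_dvd_pow h))
      · exact Or.inr ((Nat.prime_dvd_prime_iff_eq hr hq.out).1 (hr.dvd_of_dvd_pow h))
    have hZc : (Nat.card Z').Coprime Z'.index := by
      refine Nat.coprime_of_dvd' fun r hr hr1 hr2 => ?_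
      rcases hZpq r hr hr1 with rfl | rfl
      · exact absurd (Nat.eq_one_of_dvd_coprimes h1 hr2 dvd_rfl) hr.one_lt.ne'
      · exact absurd (Nat.eq_one_of_dvd_coprimes h2 hr2 dvd_rfl) hr.one_lt.ne'
    obtain ⟨K, hK⟩ := Subgroup.exists_right_complement'_of_coprime hZc
    haveI hKn : K.Normal := by
      refine ⟨fun x hx y => ?_⟩
      obtain ⟨⟨z, c⟩, hzc⟩ := hK.2 y
      have hz : ∀ w : Y, w * (z : Y) = z * w := fun w =>
        Subtype.ext (hcen _ z.2 w w.2 (z : Y).2)
      simp only at hzc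
      rw [← hzc, show (z : Y) * (c : Y) * x * ((z : Y) * (c : Y))⁻¹ = z * (c * x * (c : Y)⁻¹) * (z : Y)⁻¹ by group,
        ← hz, mul_inv_cancel_right]
      exact K.mul_mem (K.mul_mem c.2 hx) (K.inv_mem c.2)
    have hKcard : Nat.card K = Z'.index := hK.symm.index_eq_card.symm
    have hK1 : ∀ (r : ℕ), r.Prime → (Nat.card K).Coprime r → K.map Y.subtype ≤ pPrimeCore r G := by
      intro r hr' hKr
      have h5 : K ≤ pPrimeCore r Y := CfsgLib.Coprime.le_pPrimeCore hKr
      haveI : (pPrimeCore r Y).Characteristic := CfsgLib.Coprime.pPrimeCore_characteristic r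
      haveI : ((pPrimeCore r Y).map Y.subtype).Normal := inferInstance
      refine (Subgroup.map_mono h5).trans (CfsgLib.Coprime.le_pPrimeCore ?_)
      rw [Subgroup.card_map_of_injective Y.subtype_injective]
      exact CfsgLib.Coprime.pPrimeCore_coprime hr'
    have hKbot : K.map Y.subtype = ⊥ := le_bot_iff.1 (hcores ▸
      le_inf (hK1 p hp.out (by rw [hKcard]; exact h1)) (hK1 q hq.out (by rw [hKcard]; exact h2)))
    rw [Subgroup.map_eq_bot_iff_of_injective _ Y.subtype_injective] at hKbot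
    refine hYF fun y hy => ?_
    obtain ⟨⟨z, c⟩, hzc⟩ := hK.2 ⟨y, hy⟩
    have hc1 : (c : Y) = 1 := Subgroup.mem_bot.1 (hKbot ▸ c.2)
    simp only [hc1, mul_one] at hzc
    have := z.2
    rw [hzc] at this
    exact this.2
  -- a chief factor above the Fitting subgroup
  obtain ⟨X, -, hX⟩ := exists_minimal_le_of_wellFoundedLT (α := Subgroup G)
    (fun X => X.Normal ∧ F < X) ⊤ ⟨inferInstance, lt_top_iff_ne_top.2 hF⟩
  obtain ⟨hXn, hFX⟩ := hX.prop
  haveI := hXn
  have hmin : ∀ W : Subgroup G, W.Normal → F ≤ W → W ≤ X → W = F ∨ W = X := fun W hW h1 h2 => by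
    rcases h1.eq_or_lt with h | h
    · exact Or.inl h.symm
    · exact Or.inr (le_antisymm h2 (hX.le_of_le ⟨hW, h⟩ h2))
  have hmul : ∀ (r : ℕ) (D : Subgroup G), D ≤ F → F.relIndex X * D.relIndex F = D.relIndex X :=
    fun r D hD => by rw [mul_comm]; exact Subgroup.relIndex_mul_relIndex D F X hD hFX.le
  rcases eq_or_ne p q with hpq | hpq
  · exact absurd hpq hne
  have hdisj : Disjoint A B := IsPGroup.disjoint_of_ne p q hpq A B (CfsgLib.Coprime.pCore_isPGroup p)
    (CfsgLib.Coprime.pCore_isPGroup q)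
  have hBA : B ≤ Subgroup.centralizer (A : Set G) := fun b hb => Subgroup.mem_centralizer_iff.2 fun a ha =>
    Subgroup.commute_of_normal_of_disjoint A B inferInstance inferInstance hdisj a b ha hb
  obtain ⟨a, ha⟩ := IsPGroup.iff_card.1 (CfsgLib.Coprime.pCore_isPGroup (G := G) p)
  obtain ⟨b, hb⟩ := IsPGroup.iff_card.1 (CfsgLib.Coprime.pCore_isPGroup (G := G) q)
  have hA' : A.relIndex X ∣ F.relIndex X * q ^ b := by
    rw [← hmul p A hAF]
    exact Nat.mul_dvd_mul_left _ (by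
      rw [hFeq, sup_comm, Subgroup.relIndex_sup_right, ← hb]
      exact relIndex_dvd_card A B)
  have hB' : B.relIndex X ∣ F.relIndex X * p ^ a := by
    rw [← hmul q B hBF]
    exact Nat.mul_dvd_mul_left _ (by
      rw [hFeq, Subgroup.relIndex_sup_right, ← ha]
      exact relIndex_dvd_card B A)
  have he : F.relIndex X ≠ 1 := fun h => hFX.not_ge (Subgroup.relIndex_eq_one.1 h)
  by_cases hL : ¬ p ∣ F.relIndex X ∧ ¬ X ≤ A ⊔ Subgroup.centralizer (A : Set G)
  · refine Or.inl ⟨X, hXn, hAF.trans hFX.le, fun h => ?_, hL.2⟩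
    rcases hp.out.dvd_mul.1 (h.trans hA') with h | h
    · exact hL.1 h
    · exact hpq ((Nat.prime_dvd_prime_iff_eq hp.out hq.out).1 (hp.out.dvd_of_dvd_pow h))
  by_cases hR : ¬ q ∣ F.relIndex X ∧ ¬ X ≤ B ⊔ Subgroup.centralizer (B : Set G)
  · refine Or.inr ⟨X, hXn, hBF.trans hFX.le, fun h => ?_, hR.2⟩
    rcases hq.out.dvd_mul.1 (h.trans hB') with h | h
    · exact hR.1 h
    · exact hpq ((Nat.prime_dvd_prime_iff_eq hq.out hp.out).1 (hq.out.dvd_of_dvd_pow h)).symm
  exfalso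
  push Not at hL hR
  rcases chief_dichotomy (p := p) hps F X hFX.le hmin with ⟨k, hk⟩ | h1
  · have hq' : ¬ q ∣ F.relIndex X := fun h => by
      rw [hk] at h
      exact hpq ((Nat.prime_dvd_prime_iff_eq hq.out hp.out).1 (hq.out.dvd_of_dvd_pow h)).symm
    refine hFX.not_ge (centralizing_step (r := p) B X F hBF (hBF.trans hFX.le) (hR hq') ?_ hFd)
    exact ⟨k + a, hB'.trans (dvd_of_eq (by rw [hk, pow_add]))⟩
  rcases chief_dichotomy (p := q) hqs F X hFX.le hmin with ⟨k, hk⟩ | h2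
  · have hp' : ¬ p ∣ F.relIndex X := hp.out.coprime_iff_not_dvd.1 h1.symm
    refine hFX.not_ge (centralizing_step (r := q) A X F hAF (hAF.trans hFX.le) (hL hp') ?_ hFd)
    exact ⟨k + b, hA'.trans (dvd_of_eq (by rw [hk, pow_add]))⟩
  have hsA := hL (hp.out.coprime_iff_not_dvd.1 h1.symm)
  have hsB := hR (hq.out.coprime_iff_not_dvd.1 h2.symm)
  refine hFX.not_ge fun x hx => ?_
  obtain ⟨u, hu, c, hc, rfl⟩ := Subgroup.mem_sup_of_normal_left.1 (hsA hx)
  have hcX : c ∈ X := by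
    have := X.mul_mem (X.inv_mem ((hAF.trans hFX.le) hu)) hx
    rwa [inv_mul_cancel_left] at this
  obtain ⟨v, hv, c', hc', rfl⟩ := Subgroup.mem_sup_of_normal_left.1 (hsB hcX)
  have hc'A : c' ∈ Subgroup.centralizer (A : Set G) := by
    have := (Subgroup.centralizer (A : Set G)).mul_mem ((Subgroup.centralizer (A : Set G)).inv_mem (hBA hv)) hc
    rwa [inv_mul_cancel_left] at this
  refine F.mul_mem (hAF hu) (F.mul_mem (hBF hv) (hCF (Subgroup.mem_centralizer_iff.2 fun f hf => ?_)))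
  have hle : F ≤ Subgroup.centralizer ({c'} : Set G) := by
    rw [hFeq]
    refine sup_le (fun y hy => Subgroup.mem_centralizer_singleton_iff.2 ?_)
      (fun y hy => Subgroup.mem_centralizer_singleton_iff.2 ?_)
    · exact Subgroup.mem_centralizer_iff.1 hc'A y hy
    · exact Subgroup.mem_centralizer_iff.1 hc' y hy
  exact Subgroup.mem_centralizer_singleton_iff.1 (hle hf)

private theorem card_comap_mk [Finite G] (D : Subgroup G) [D.Normal] (W : Subgroup (G ⧸ D)) :
    Nat.card (W.comap (QuotientGroup.mk' D)) = Nat.card W * Nat.card D := by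
  have hle : D ≤ W.comap (QuotientGroup.mk' D) := fun x hx => by
    rw [Subgroup.mem_comap, show QuotientGroup.mk' D x = 1 from (QuotientGroup.eq_one_iff x).2 hx]
    exact one_mem _
  rw [← Subgroup.relIndex_bot_left (W.comap (QuotientGroup.mk' D)),
    ← Subgroup.relIndex_mul_relIndex ⊥ D _ bot_le hle, Subgroup.relIndex_bot_left, mul_comm]
  congr 1
  have h := Subgroup.relIndex_comap (⊥ : Subgroup (G ⧸ D)) (QuotientGroup.mk' D) (W.comap (QuotientGroup.mk' D))
  rw [MonoidHom.comap_bot, QuotientGroup.ker_mk', Subgroup.map_comap_eq_self_of_surjective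
    (QuotientGroup.mk'_surjective D), Subgroup.relIndex_bot_left] at h
  exact h

private theorem cores_quotient [Finite G] {p q : ℕ} [hp : Fact p.Prime] [hq : Fact q.Prime]
    (D : Subgroup G) [D.Normal] (hD : D = pPrimeCore p G ⊓ pPrimeCore q G) :
    pPrimeCore p (G ⧸ D) ⊓ pPrimeCore q (G ⧸ D) = ⊥ := by
  set W := pPrimeCore p (G ⧸ D) ⊓ pPrimeCore q (G ⧸ D) with hW
  have hpc : ∀ r : ℕ, r.Prime → W ≤ pPrimeCore r (G ⧸ D) → D ≤ pPrimeCore r G →
      W.comap (QuotientGroup.mk' D) ≤ pPrimeCore r G := by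
    intro r hr h1 h2
    haveI : W.Normal := inferInstance
    refine CfsgLib.Coprime.le_pPrimeCore ?_
    rw [card_comap_mk]
    exact Nat.Coprime.mul_left
      ((CfsgLib.Coprime.pPrimeCore_coprime hr).coprime_dvd_left (Subgroup.card_dvd_of_le h1))
      ((CfsgLib.Coprime.pPrimeCore_coprime hr).coprime_dvd_left (Subgroup.card_dvd_of_le h2))
  refine (Subgroup.eq_bot_iff_forall _).2 fun x hx => ?_
  obtain ⟨g, rfl⟩ := QuotientGroup.mk'_surjective D x
  have h : g ∈ D := hD ▸ Subgroup.mem_inf.2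
    ⟨hpc p hp.out inf_le_left (hD ▸ inf_le_left) hx, hpc q hq.out inf_le_right (hD ▸ inf_le_right) hx⟩
  exact (QuotientGroup.eq_one_iff g).2 h

/-- A character of the top quotient, nontrivial on the `p`-core, separates the two principal blocks. -/
private theorem side [Finite G] {p q : ℕ} [hp : Fact p.Prime] [hq : Fact q.Prime] (hne : p ≠ q)
    (h : ∀ χ : IrrCharacter G, ¬ p ∣ charDegree (χ : G → ℂ) →
      (∀ n ∈ pPrimeCore p G, (χ : G → ℂ) n = (χ : G → ℂ) 1) →
      ∀ n ∈ pPrimeCore q G, (χ : G → ℂ) n = (χ : G → ℂ) 1)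
    (D : Subgroup G) [D.Normal] (hD : D ≤ pPrimeCore q G)
    (χ : IrrCharacter ((G ⧸ D) ⧸ pPrimeCore p (G ⧸ D)))
    (hχd : ¬ p ∣ charDegree (χ : (G ⧸ D) ⧸ pPrimeCore p (G ⧸ D) → ℂ))
    (a : G ⧸ D) (ha : a ∈ pCore p (G ⧸ D))
    (hχa : (χ : (G ⧸ D) ⧸ pPrimeCore p (G ⧸ D) → ℂ) (QuotientGroup.mk' _ a) ≠
      (χ : (G ⧸ D) ⧸ pPrimeCore p (G ⧸ D) → ℂ) 1) : False := by
  haveI := CfsgLib.Coprime.pCore_normal' (G := G ⧸ D) p
  set π' := QuotientGroup.mk' (pPrimeCore p (G ⧸ D))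
  set π := QuotientGroup.mk' D
  have hsurj : Function.Surjective (π'.comp π) :=
    (QuotientGroup.mk'_surjective _).comp (QuotientGroup.mk'_surjective D)
  let ψ : IrrCharacter G := ⟨fun g => (χ : (G ⧸ D) ⧸ pPrimeCore p (G ⧸ D) → ℂ) (π'.comp π g),
    isIrrCharacter_comp_surjective χ.2 _ hsurj⟩
  have hd : charDegree (ψ : G → ℂ) = charDegree (χ : (G ⧸ D) ⧸ pPrimeCore p (G ⧸ D) → ℂ) := by
    show ⌊((χ : (G ⧸ D) ⧸ pPrimeCore p (G ⧸ D) → ℂ) (π'.comp π 1)).re⌋₊ = _
    rw [map_one]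
    rfl
  have htriv : ∀ n ∈ pPrimeCore p G, (ψ : G → ℂ) n = (ψ : G → ℂ) 1 := fun n hn => by
    have h1 : π n ∈ pPrimeCore p (G ⧸ D) :=
      CfsgLib.Coprime.map_pPrimeCore_le (QuotientGroup.mk'_surjective D) p
        (Subgroup.mem_map_of_mem π hn)
    show (χ : _ → ℂ) (π' (π n)) = (χ : _ → ℂ) (π' (π 1))
    rw [show π' (π n) = 1 from (QuotientGroup.eq_one_iff _).2 h1, map_one, map_one]
  obtain ⟨g, rfl⟩ := QuotientGroup.mk'_surjective D a
  have hg : g ∈ pPrimeCore q G := by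
    refine CfsgLib.Coprime.le_pPrimeCore (N := (pCore p (G ⧸ D)).comap π) ?_ ha
    rw [card_comap_mk]
    obtain ⟨k, hk⟩ := IsPGroup.iff_card.1 (CfsgLib.Coprime.pCore_isPGroup (G := G ⧸ D) p)
    refine Nat.Coprime.mul_left ?_
      ((CfsgLib.Coprime.pPrimeCore_coprime hq.out).coprime_dvd_left (Subgroup.card_dvd_of_le hD))
    rw [hk]
    exact Nat.Coprime.pow_left k ((Nat.coprime_primes hp.out hq.out).2 hne)
  apply hχa
  have h2 := h ψ (hd ▸ hχd) htriv g hg
  show (χ : _ → ℂ) (π' (π g)) = _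
  rw [show (χ : _ → ℂ) (π' (π g)) = (χ : _ → ℂ) (π' (π 1)) from h2, map_one, map_one]

/-- The top quotient of a group with an acting normal subgroup. -/
private theorem char_of_acting [Finite G] {p : ℕ} [hp : Fact p.Prime] (X : Subgroup G) [X.Normal]
    (hAX : pCore p G ≤ X) (hidx : ¬ p ∣ (pCore p G).relIndex X)
    (hne : ¬ X ≤ pCore p G ⊔ Subgroup.centralizer (pCore p G : Set G)) :
    ∃ χ : IrrCharacter (G ⧸ pPrimeCore p G), ¬ p ∣ charDegree (χ : G ⧸ pPrimeCore p G → ℂ) ∧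
      ∃ a ∈ pCore p G, (χ : G ⧸ pPrimeCore p G → ℂ) (QuotientGroup.mk' _ a) ≠
        (χ : G ⧸ pPrimeCore p G → ℂ) 1 := by
  haveI := CfsgLib.Coprime.pCore_normal' (G := G) p
  set A := pCore p G with hA
  set Z := pPrimeCore p G with hZ
  set π := QuotientGroup.mk' Z with hπ
  have hAp : IsPGroup p A := CfsgLib.Coprime.pCore_isPGroup p
  have hAZ : A ⊓ Z = ⊥ := by
    obtain ⟨k, hk⟩ := IsPGroup.iff_card.1 hAp
    refine Subgroup.inf_eq_bot_of_coprime ?_
    rw [hk]
    exact Nat.Coprime.pow_left k (CfsgLib.Coprime.pPrimeCore_coprime hp.out).symm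
  haveI : (A.map π).Normal := (inferInstance : A.Normal).map π (QuotientGroup.mk'_surjective Z)
  haveI : (X.map π).Normal := (inferInstance : X.Normal).map π (QuotientGroup.mk'_surjective Z)
  have hd : (A.map π).relIndex (X.map π) ∣ A.relIndex X := by
    have hsup : X ⊔ Z = X ⊔ (A ⊔ Z) := by rw [← sup_assoc, sup_eq_left.2 hAX]
    rw [Subgroup.relIndex_map_map, hπ, QuotientGroup.ker_mk', hsup, Subgroup.relIndex_sup_right]
    exact Subgroup.relIndex_dvd_of_le_left _ le_sup_left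
  obtain ⟨χ, hχd, a', ha', hχa⟩ := exists_char_of_action (A.map π) (X.map π) (hAp.map π)
    (Subgroup.map_mono hAX) (fun h => hidx (h.trans hd)) fun hle => hne fun x hx => by
      obtain ⟨u, hu, c, hc, huc⟩ := Subgroup.mem_sup_of_normal_left.1 (hle (Subgroup.mem_map_of_mem π hx))
      obtain ⟨a, ha, rfl⟩ := hu
      rw [show x = a * (a⁻¹ * x) by group]
      refine Subgroup.mul_mem_sup ha (Subgroup.mem_centralizer_iff.2 fun b hb => ?_)
      set y := a⁻¹ * x
      have hy : π y = c := by rw [map_mul, map_inv, ← huc, inv_mul_cancel_left]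
      have h1 : b * y * b⁻¹ * y⁻¹ ∈ A ⊓ Z := by
        refine ⟨?_, (QuotientGroup.eq_one_iff _).1 ?_⟩
        · have h2 := A.mul_mem hb ((inferInstance : A.Normal).conj_mem _ (A.inv_mem hb) y)
          rwa [show b * y * b⁻¹ * y⁻¹ = b * (y * b⁻¹ * y⁻¹) by group]
        · show π (b * y * b⁻¹ * y⁻¹) = 1
          rw [map_mul, map_mul, map_mul, hy, Subgroup.mem_centralizer_iff.1 hc (π b) (Subgroup.mem_map_of_mem π hb),
            map_inv, map_inv, hy]
          group
      rw [hAZ, Subgroup.mem_bot] at h1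
      exact mul_inv_eq_iff_eq_mul.1 (mul_inv_eq_one.1 h1)
  obtain ⟨a, ha, rfl⟩ := ha'
  exact ⟨χ, hχd, a, ha, hχa⟩

private theorem char_of_nilpotent [Finite G] {p q : ℕ} [hp : Fact p.Prime] [hq : Fact q.Prime] (hne : p ≠ q)
    (hcores : pPrimeCore p G ⊓ pPrimeCore q G = ⊥) (hF : fittingSubgroup G = ⊤) (hdvd : p ∣ Nat.card G) :
    ∃ χ : IrrCharacter (G ⧸ pPrimeCore p G), ¬ p ∣ charDegree (χ : G ⧸ pPrimeCore p G → ℂ) ∧
      ∃ a ∈ pCore p G, (χ : G ⧸ pPrimeCore p G → ℂ) (QuotientGroup.mk' _ a) ≠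
        (χ : G ⧸ pPrimeCore p G → ℂ) 1 := by
  haveI := CfsgLib.Coprime.pCore_normal' (G := G) p
  set π := QuotientGroup.mk' (pPrimeCore p G) with hπ
  have htop : (pCore p G).map π = ⊤ := by
    rw [eq_top_iff, ← Subgroup.map_top_of_surjective π (QuotientGroup.mk'_surjective _), ← hF,
      CfsgLib.Coprime.fitting_eq_iSup_pCore, Subgroup.map_iSup]
    refine iSup_le fun r => ?_
    by_cases h1 : (r : ℕ) = p
    · rw [h1]
    haveI : Fact (r : ℕ).Prime := ⟨r.2⟩
    haveI := CfsgLib.Coprime.pCore_normal' (G := G) (r : ℕ)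
    obtain ⟨k, hk⟩ := IsPGroup.iff_card.1 (CfsgLib.Coprime.pCore_isPGroup (G := G) (r : ℕ))
    refine le_trans ?_ bot_le
    rw [← QuotientGroup.map_mk'_self (pPrimeCore p G)]
    exact Subgroup.map_mono (CfsgLib.Coprime.le_pPrimeCore
      (by rw [hk]; exact Nat.Coprime.pow_left k ((Nat.coprime_primes r.2 hp.out).2 h1)))
  have hq' : IsPGroup p (G ⧸ pPrimeCore p G) := fun y => by
    obtain ⟨a, ha, rfl⟩ : y ∈ (pCore p G).map π := htop ▸ Subgroup.mem_top y
    obtain ⟨k, hk⟩ := CfsgLib.Coprime.pCore_isPGroup p ⟨a, ha⟩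
    exact ⟨k, by rw [← map_pow, show a ^ p ^ k = 1 from congrArg Subtype.val hk, map_one]⟩
  obtain ⟨P⟩ : Nonempty (Sylow p (G ⧸ pPrimeCore p G)) := inferInstance
  have hP : (P : Subgroup (G ⧸ pPrimeCore p G)) = ⊤ :=
    (P.3 (hq'.to_subgroup ⊤) le_top).symm
  obtain ⟨χ, hd, a', ha', hχ⟩ := exists_char_nontrivial P ((pCore p G).map π) ⊥ (by
    rw [hP, bot_lt_iff_ne_bot]
    intro h
    have h2 : (pPrimeCore p G).index = 1 := by
      rw [Subgroup.index_eq_card, ← Subgroup.card_top, h, Subgroup.card_bot]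
    rw [Subgroup.index_eq_one] at h2
    have h3 := CfsgLib.Coprime.pPrimeCore_coprime (G := G) hp.out
    rw [h2, Subgroup.card_top] at h3
    exact hp.out.one_lt.ne' (Nat.eq_one_of_dvd_coprimes h3 hdvd dvd_rfl))
    (by rw [htop]; exact le_top.trans le_sup_left) (by rw [hP]; exact le_top)
  obtain ⟨a, ha, rfl⟩ := ha'
  exact ⟨χ, hd, a, ha, hχ⟩

private theorem main [Finite G] {p q : ℕ} [hp : Fact p.Prime] [hq : Fact q.Prime] (hne : p ≠ q)
    (hps : IsPSolvable p G) (hqs : IsPSolvable q G) (hdvd : p ∣ Nat.card G)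
    (h1 : ∀ χ : IrrCharacter G, ¬ p ∣ charDegree (χ : G → ℂ) →
      (∀ n ∈ pPrimeCore p G, (χ : G → ℂ) n = (χ : G → ℂ) 1) →
      ∀ n ∈ pPrimeCore q G, (χ : G → ℂ) n = (χ : G → ℂ) 1)
    (h2 : ∀ χ : IrrCharacter G, ¬ q ∣ charDegree (χ : G → ℂ) →
      (∀ n ∈ pPrimeCore q G, (χ : G → ℂ) n = (χ : G → ℂ) 1) →
      ∀ n ∈ pPrimeCore p G, (χ : G → ℂ) n = (χ : G → ℂ) 1) : False := by
  set D := pPrimeCore p G ⊓ pPrimeCore q G with hD
  have hcores := cores_quotient (p := p) (q := q) D hD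
  have hdvd' : p ∣ Nat.card (G ⧸ D) := by
    rw [Subgroup.card_eq_card_quotient_mul_card_subgroup D] at hdvd
    exact (hp.out.dvd_mul.1 hdvd).resolve_right fun h => hp.out.one_lt.ne'
      (Nat.eq_one_of_dvd_coprimes (CfsgLib.Coprime.pPrimeCore_coprime hp.out)
        (h.trans (Subgroup.card_dvd_of_le inf_le_left)) dvd_rfl)
  by_cases hF : fittingSubgroup (G ⧸ D) = ⊤
  · obtain ⟨χ, hd, a, ha, hχ⟩ := char_of_nilpotent (p := p) hne hcores hF hdvd'
    exact side hne h1 D inf_le_right χ hd a ha hχ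
  rcases exists_acting (p := p) (q := q) hne (CfsgLib.PGroup.isPSolvable_quotient hp.out hps D)
    (CfsgLib.PGroup.isPSolvable_quotient hq.out hqs D) hcores hF with
    ⟨X, hXn, hAX, hidx, hX⟩ | ⟨X, hXn, hAX, hidx, hX⟩
  · haveI := hXn
    obtain ⟨χ, hd, a, ha, hχ⟩ := char_of_acting X hAX hidx hX
    exact side hne h1 D inf_le_right χ hd a ha hχ
  · haveI := hXn
    obtain ⟨χ, hd, a, ha, hχ⟩ := char_of_acting X hAX hidx hX
    exact side hne.symm h2 D inf_le_left χ hd a ha hχ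

end

/-- Let p and q be primes dividing the order of the finite group G, and suppose G is p-solvable and q-solvable. Fix maximal ideals of the algebraic integers containing p and q, defining the principal p-block and the principal q-block. If the irreducible characters of degree prime to p in the principal p-block are exactly the irreducible characters of degree prime to q in the principal q-block, then p = q. -/
theorem result {G : Type*} [Group G] [Finite G] (p q : ℕ) [Fact p.Prime] [Fact q.Prime] (hp : p ∣ Nat.card G) (hq : q ∣ Nat.card G) (hps : Cfsg.IsPSolvable p G) (hqs : Cfsg.IsPSolvable q G) (Mp Mq : Ideal Cfsg.AlgInt) (hMp : Cfsg.IsPModular p Mp) (hMq : Cfsg.IsPModular q Mq) (h : ∀ χ : Cfsg.IrrCharacter G, (χ ∈ Cfsg.principalBlock Mp G ∧ ¬ p ∣ Cfsg.charDegree (χ : G → ℂ)) ↔ (χ ∈ Cfsg.principalBlock Mq G ∧ ¬ q ∣ Cfsg.charDegree (χ : G → ℂ))) : p = q := by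
  classical
  by_contra hne
  haveI := hMp.2.1
  haveI := hMq.2.1
  refine main hne hps hqs hp (fun χ hd hn => ?_) (fun χ hd hn => ?_)
  · exact (CfsgLib.Block.PSolvablePrincipal.mem_iff hMq hqs χ).1
      ((h χ).1 ⟨(CfsgLib.Block.PSolvablePrincipal.mem_iff hMp hps χ).2 hn, hd⟩).1
  · exact (CfsgLib.Block.PSolvablePrincipal.mem_iff hMp hps χ).1
      ((h χ).2 ⟨(CfsgLib.Block.PSolvablePrincipal.mem_iff hMq hqs χ).2 hn, hd⟩).1

end Cfsg.Agent.S4885
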