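import Cfsg.Statements.S4886
import Cfsg.Agent.S0867
import Cfsg.Agent.Lib.Block.PSolvablePrincipal
import Cfsg.Agent.Lib.Block.PSolvableOne
import Cfsg.Agent.Lib.Block.PPrimeKernel
import Cfsg.Agent.Lib.Block.Glauberman
import Cfsg.Agent.Lib.Char.Inertia
import Cfsg.Agent.Lib.Char.SteinbergDescend
import Cfsg.Agent.Lib.Char.CoprimeCyclicAction
import Cfsg.Agent.Lib.PGroup.PSolvable
import Cfsg.Agent.Lib.PGroup.CoprimeOrbits
import Cfsg.Agent.Lib.Coprime.Fitting
import Cfsg.Agent.Lib.Coprime.Action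
import Cfsg.Agent.Lib.Coprime.Core

set_option autoImplicit false
open Cfsg

namespace Cfsg.Agent.S4886

section
open CfsgLib.Char
open scoped commutatorElement Pointwise

universe u

/-- An element of `q`-power order fixing all classes of a group of order prime to `q` centralises it. -/
private theorem centralize_of_fix_classes {H : Type u} [Group H] [Finite H] {q : ℕ} [hq : Fact q.Prime]
    (C : Subgroup H) (hC : ¬ q ∣ Nat.card C) (Z : Subgroup H) (hZ : IsPGroup q Z)
    (hfix : ∀ z ∈ Z, ∀ c : C, ∃ d : C, z * (c : H) * z⁻¹ = d ∧ IsConj c d) :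
    ∀ z ∈ Z, ∀ c ∈ C, z * c = c * z := by
  classical
  set D : Subgroup C := (Subgroup.centralizer (Z : Set H)).subgroupOf C
  have hmeet : ∀ c : C, ∃ x : C, ∃ d ∈ D, c = x * d * x⁻¹ := by
    intro c
    let X := {d : C // IsConj c d}
    have hmem : ∀ (z : Z) (d : X), ∃ e : X, (z : H) * (d.1 : H) * (z : H)⁻¹ = (e.1 : H) := fun z d => by
      obtain ⟨e, he, hde⟩ := hfix z z.2 d.1
      exact ⟨⟨e, d.2.trans hde⟩, he⟩
    choose act hact using hmem
    letI : MulAction Z X :=
      { smul := act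
        one_smul := fun d => Subtype.ext (Subtype.ext (by
          show ((act 1 d).1 : H) = _
          rw [← hact, OneMemClass.coe_one, one_mul, inv_one, mul_one]))
        mul_smul := fun a b d => Subtype.ext (Subtype.ext (by
          show ((act (a * b) d).1 : H) = ((act a (act b d)).1 : H)
          rw [← hact, ← hact, ← hact, Subgroup.coe_mul]
          group)) }
    have hX : ¬ q ∣ Nat.card X := by
      have h1 : Nat.card X = (Subgroup.centralizer ({c} : Set C)).index := by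
        haveI := Fintype.ofFinite C
        exact CfsgLib.Char.card_isConj c
      rw [h1]
      exact fun h => hC (h.trans (Subgroup.index_dvd_card _))
    obtain ⟨d, hd⟩ := hZ.nonempty_fixed_point_of_prime_not_dvd_card X hX
    have hdD : d.1 ∈ D := Subgroup.mem_centralizer_iff.2 fun z hz => by
      have h1 : ((act ⟨z, hz⟩ d).1 : H) = (d.1 : H) :=
        congrArg (fun e : X => ((e.1 : C) : H)) (hd ⟨z, hz⟩)
      rw [← hact] at h1
      exact mul_inv_eq_iff_eq_mul.1 h1
    obtain ⟨x, hx⟩ := isConj_iff.1 d.2.symm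
    exact ⟨x, d.1, hdD, hx.symm⟩
  have hD : D = ⊤ := by
    have hsurj : Function.Surjective (fun t : (C ⧸ D) × {d : D // d ≠ 1} ⊕ Unit =>
        match t with
        | Sum.inl (x, d) => x.out * (d.1 : C) * x.out⁻¹
        | Sum.inr _ => (1 : C)) := by
      intro c
      obtain ⟨x, d, hd, rfl⟩ := hmeet c
      by_cases h1 : d = 1
      · exact ⟨Sum.inr (), by simp [h1]⟩
      obtain ⟨e, he⟩ := QuotientGroup.mk_out_eq_mul D x
      have hmem : (e : C)⁻¹ * d * e ∈ D := D.mul_mem (D.mul_mem (D.inv_mem e.2) hd) e.2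
      refine ⟨Sum.inl ((x : C ⧸ D), ⟨⟨_, hmem⟩, fun h => h1 ?_⟩), ?_⟩
      · have h2 : (e : C)⁻¹ * d * e = 1 := congrArg Subtype.val h
        calc d = (e : C) * ((e : C)⁻¹ * d * e) * (e : C)⁻¹ := by group
          _ = 1 := by rw [h2]; group
      · show (x : C ⧸ D).out * ((e : C)⁻¹ * d * e) * (x : C ⧸ D).out⁻¹ = x * d * x⁻¹
        rw [he]; group
    have hle := Nat.card_le_card_of_surjective _ hsurj
    haveI := Fintype.ofFinite D
    rw [Nat.card_sum, Nat.card_prod, Nat.card_unique (α := Unit), ← Subgroup.index_eq_card,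
      Nat.card_eq_fintype_card (α := {d : D // d ≠ 1}), Fintype.card_subtype_compl,
      Fintype.card_subtype_eq, ← Nat.card_eq_fintype_card, ← D.index_mul_card, Nat.mul_sub,
      mul_one] at hle
    have h1 := Nat.pos_of_ne_zero (Subgroup.index_ne_zero_of_finite (H := D))
    have h2 : D.index ≤ D.index * Nat.card D := Nat.le_mul_of_pos_right _ Nat.card_pos
    exact Subgroup.index_eq_one.1 (by omega)
  intro z hz c hc
  have h := (hD ▸ Subgroup.mem_top (⟨c, hc⟩ : C) : (⟨c, hc⟩ : C) ∈ D)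
  exact Subgroup.mem_centralizer_iff.1 h z hz

/-- A minimal normal subgroup of a `p`-soluble group is a `p`-group or a `p'`-group. -/
private theorem minimal_dichotomy {G : Type u} [Group G] [Finite G] {p : ℕ} [hp : Fact p.Prime] (hsolv : IsPSolvable p G)
    (Y : Subgroup G) [hYn : Y.Normal] (hmin : ∀ W : Subgroup G, W.Normal → W ≤ Y → W = ⊥ ∨ W = Y) :
    IsPGroup p Y ∨ (Nat.card Y).Coprime p := by
  obtain ⟨n, H, h0, hl, hm, hn, hf⟩ := hsolv
  rcases eq_or_ne Y ⊥ with rfl | hY
  · exact Or.inl IsPGroup.of_bot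
  obtain ⟨i, hi, hi'⟩ : ∃ i : Fin n, Y ⊓ H i.castSucc = ⊥ ∧ Y ⊓ H i.succ ≠ ⊥ := by
    by_contra hcon
    push Not at hcon
    have : ∀ i : Fin (n + 1), Y ⊓ H i = ⊥ :=
      fun i => Fin.induction (by rw [h0, inf_bot_eq]) (fun i hi => hcon i hi) i
    have h := this (Fin.last n)
    rw [hl, inf_top_eq] at h
    exact hY h
  haveI := hn i.succ
  haveI := hn i.castSucc
  have hYle : Y ≤ H i.succ :=
    inf_eq_left.1 ((hmin (Y ⊓ H i.succ) inferInstance inf_le_left).resolve_left hi')
  have hd : Nat.card Y ∣ (H i.castSucc).relIndex (H i.succ) := by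
    have h1 : Nat.card Y = (H i.castSucc).relIndex Y := by
      rw [← Subgroup.relIndex_bot_left, ← hi, inf_comm, Subgroup.inf_relIndex_right]
    rw [h1, ← Subgroup.relIndex_subgroupOf (H := H i.castSucc) (K := Y) (L := H i.succ) hYle]
    exact Subgroup.relIndex_dvd_index_of_normal _ _
  rcases hf i with ⟨m, hm'⟩ | hco
  · rw [hm'] at hd
    obtain ⟨j, -, hj⟩ := (Nat.dvd_prime_pow hp.out).1 hd
    exact Or.inl (IsPGroup.of_card hj)
  · exact Or.inr (hco.coprime_dvd_left hd)

section Local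

variable {H : Type u} [Group H] [Fintype H] {p q : ℕ} [hp : Fact p.Prime] [hq : Fact q.Prime]

/-- An invariant character of a normal subgroup of order prime to `p` has inertia index prime to `q`. -/
private theorem inertia_index (hdeg : ∀ χ : IrrCharacter H, ¬ p ∣ charDegree (χ : H → ℂ) →
      ¬ q ∣ charDegree (χ : H → ℂ))
    (S : Sylow p H) (V : Subgroup H) [V.Normal] [Fintype V] (hV : ¬ p ∣ Nat.card V) (θ : IrrCharacter V)
    (hθ : (S : Subgroup H) ≤ inertia V (θ : V → ℂ)) : ¬ q ∣ (inertia V (θ : V → ℂ)).index := by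
  classical
  set W := V ⊔ (S : Subgroup H) with hW
  haveI := Fintype.ofFinite W
  set V' := V.subgroupOf W with hV'
  haveI hV'n : V'.Normal := inferInstance
  haveI := Fintype.ofFinite V'
  let eN : V' ≃* V := Subgroup.subgroupOfEquivOfLe le_sup_left
  have hθ' : IsIrrCharacter V' (fun x => (θ : V → ℂ) (eN x)) :=
    isIrrCharacter_comp_surjective θ.2 eN.toMonoidHom eN.surjective
  obtain ⟨d, -, hd⟩ := isIrrCharacter_degree θ.2
  have hpd : ¬ p ∣ d := fun h => hV (h.trans (degree_dvd_card θ hd))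
  have hWT : W ≤ inertia V (θ : V → ℂ) := sup_le (le_inertia V (isClassFunction_irr θ)) hθ
  have hinv : ∀ (t : W) (x : V'), (θ : V → ℂ) (eN ⟨t * x * t⁻¹, hV'n.conj_mem x x.2 t⟩) =
      (θ : V → ℂ) (eN x) := fun t x => congrFun ((mem_inertia V _ (t : H)).mp (hWT t.2)) (eN x)
  have hcard : Nat.card V' = Nat.card V := Nat.card_congr eN.toEquiv
  obtain ⟨s, hs⟩ := IsPGroup.iff_card.1 S.2
  have hidx : V'.index.Coprime (Nat.card V) := by
    have h1 : V'.index ∣ p ^ s := by
      show V.relIndex W ∣ _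
      rw [hW, sup_comm, Subgroup.relIndex_sup_right, ← hs, ← Subgroup.inf_relIndex_right,
        ← Subgroup.relIndex_bot_left (S : Subgroup H)]
      exact Subgroup.relIndex_dvd_of_le_left _ bot_le
    exact Nat.Coprime.coprime_dvd_left h1 (Nat.Coprime.pow_left s (hp.out.coprime_iff_not_dvd.2 hV))
  have hd' : (fun x : V' => (θ : V → ℂ) (eN x)) 1 = (d : ℂ) := by simp only [map_one, hd]
  have hdc : Nat.Coprime V'.index (detOrder (fun x : V' => (θ : V → ℂ) (eN x)) * d) :=
    Nat.Coprime.mul_right (hidx.coprime_dvd_right (hcard ▸ CoprimeCyclic.detOrder_dvd_card hθ'))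
      (hidx.coprime_dvd_right (degree_dvd_card θ hd))
  obtain ⟨η, ⟨hηirr, hηres, -⟩, -⟩ := Cfsg.Agent.S0867.result V' _ hθ' hinv d hd' hdc
  have hη1 : η 1 = (d : ℂ) := by
    have h1 := hηres 1
    rw [OneMemClass.coe_one] at h1
    rw [h1]; exact hd'
  obtain ⟨χ, hχp, hχ⟩ := CfsgLib.Block.PPrimeKernel.exists_pprime_constituent (p := p)
    (isCharacter_indFun W (isCharacter_of_isIrr hηirr)) (n := W.index * d)
    (by rw [indFun_one, hη1, Nat.cast_mul]) fun h => by
      rcases hp.out.dvd_mul.1 h with h | h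
      · exact S.not_dvd_index (h.trans (Subgroup.index_dvd_of_le le_sup_right))
      · exact hpd h
  have hχW : classInner (fun t : W => (χ : H → ℂ) t) η ≠ 0 := by
    rw [classInner_indFun W _ _ (isClassFunction_irr χ), ← classInner_conj] at hχ
    exact fun h0 => hχ (by rw [h0, map_zero])
  have hs' := isCharacter_sub_constituent (isCharacter_comp (isCharacter_irr χ) W.subtype)
    ⟨η, hηirr⟩ hχW
  let inW : V →* W := Subgroup.inclusion le_sup_left
  obtain ⟨k, hk⟩ := classInner_isCharacter (isCharacter_comp hs' inW) (isCharacter_irr θ)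
  have hηV : (fun v : V => η (inW v)) = (θ : V → ℂ) := funext fun v => hηres (⟨inW v, v.2⟩ : V')
  have hsum : classInner (fun v : V => (χ : H → ℂ) v) (θ : V → ℂ) = ((k + 1 : ℕ) : ℂ) := by
    rw [Nat.cast_add, Nat.cast_one, ← hk, ← classInner_irr_self θ, ← classInner_add_left]
    congr 1
    funext v
    have h2 := congrFun hηV v
    simp only [Pi.add_apply, Pi.sub_apply]
    rw [← h2]
    simp [inW]
  obtain ⟨a, -, ha⟩ := isIrrCharacter_degree χ.2
  have h := clifford_degree V χ.2 θ.2 (by rw [hsum]; exact_mod_cast Nat.succ_ne_zero k)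
  rw [hsum, ha, hd] at h
  have h' : a = (k + 1) * (inertia V (θ : V → ℂ)).index * d := by exact_mod_cast h
  intro hdvd
  refine hdeg χ hχp ?_
  rw [Cfsg.charDegree, ha, Complex.natCast_re, Nat.floor_natCast, h']
  exact dvd_mul_of_dvd_left (dvd_mul_of_dvd_right hdvd _) _

/-- The invariant Sylow subgroups of an intermediate group of index prime to `q`. -/
private theorem exists_conj_le (hpq : p ≠ q) (S : Sylow p H) (V Q T : Subgroup H) [V.Normal]
    (hV : ¬ q ∣ Nat.card V) (hVp : ¬ p ∣ Nat.card V) (hQ : IsPGroup q Q) [hY : (V ⊔ Q).Normal]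
    (hQS : Q ≤ Subgroup.centralizer ((S : Subgroup H) : Set H)) (hST : (S : Subgroup H) ≤ T)
    (hT : ¬ q ∣ T.index) :
    ∃ v ∈ V ⊓ Subgroup.centralizer ((S : Subgroup H) : Set H), CfsgLib.Coprime.conjBy v Q ≤ T := by
  classical
  set Y := V ⊔ Q with hYd
  obtain ⟨b, hb⟩ := IsPGroup.iff_card.1 hQ
  obtain ⟨s, hs⟩ := IsPGroup.iff_card.1 S.2
  have hinf : V ⊓ Q = ⊥ := Subgroup.inf_eq_bot_of_coprime (by
    rw [hb]; exact Nat.Coprime.pow_right b (Nat.coprime_comm.1 (hq.out.coprime_iff_not_dvd.2 hV)))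
  have hYc : Nat.card Y = Nat.card V * Nat.card Q := by
    rw [← Subgroup.relIndex_bot_left Y, ← Subgroup.relIndex_mul_relIndex ⊥ V Y bot_le le_sup_left,
      Subgroup.relIndex_bot_left, hYd, sup_comm, Subgroup.relIndex_sup_right, ← Subgroup.inf_relIndex_right,
      hinf, Subgroup.relIndex_bot_left]
  have hQY : CfsgLib.Coprime.IsSylowIn q Q Y := ⟨le_sup_right, by
    rw [hb, hYc, hb, Nat.factorization_mul Nat.card_pos.ne' (pow_ne_zero _ hq.out.ne_zero),
      Finsupp.add_apply, Nat.factorization_eq_zero_of_not_dvd hV, hq.out.factorization_pow,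
      Finsupp.single_eq_same, zero_add]⟩
  have hcop : (Nat.card (S : Subgroup H)).Coprime (Nat.card Y) := by
    rw [hs, hYc, hb]
    exact Nat.Coprime.pow_left s (Nat.Coprime.mul_right (hp.out.coprime_iff_not_dvd.2 hVp)
      (Nat.Coprime.pow_right b ((Nat.coprime_primes hp.out hq.out).2 hpq)))
  have hsol : Group.IsSolvable (S : Subgroup H) := by
    haveI := S.2.isNilpotent
    infer_instance
  have hSY : (S : Subgroup H) ≤ Subgroup.normalizer (Y : Set H) := by
    rw [Subgroup.normalizer_eq_top_iff.2 hY]; exact le_top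
  set U := T ⊓ Y with hU
  have hUd : U.relIndex Y ∣ T.index := by
    have h1 : U.relIndex T * T.index = U.index := Subgroup.relIndex_mul_index inf_le_left
    have h2 : U.relIndex Y * Y.index = U.index := Subgroup.relIndex_mul_index inf_le_right
    have h3 : U.relIndex T ∣ Y.index := by
      rw [hU, inf_comm, Subgroup.inf_relIndex_right]
      exact Subgroup.relIndex_dvd_index_of_normal Y T
    obtain ⟨t, ht⟩ := h3
    refine ⟨t, Nat.eq_of_mul_eq_mul_left (Nat.pos_of_ne_zero (Subgroup.index_ne_zero_of_finite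
      (H := U.subgroupOf T))) ?_⟩
    show U.relIndex T * T.index = U.relIndex T * (U.relIndex Y * t)
    rw [h1, ← h2, ht]; ring
  have hSU : (S : Subgroup H) ≤ Subgroup.normalizer (U : Set H) :=
    CfsgLib.Coprime.inf_le_normalizer (hST.trans Subgroup.le_normalizer) hSY
  obtain ⟨Q', hQ', hSQ'⟩ := CfsgLib.Coprime.exists_invariant_sylow (K := U) hSU
    (hcop.coprime_dvd_right (Subgroup.card_dvd_of_le inf_le_right)) (Or.inl hsol) q
  have hQ'Y : CfsgLib.Coprime.IsSylowIn q Q' Y := ⟨hQ'.1.trans inf_le_right, by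
    rw [hQ'.2]
    congr 1
    rw [← Subgroup.relIndex_bot_left Y, ← Subgroup.relIndex_mul_relIndex ⊥ U Y bot_le inf_le_right,
      Subgroup.relIndex_bot_left, Nat.factorization_mul Nat.card_pos.ne' ?_, Finsupp.add_apply,
      Nat.factorization_eq_zero_of_not_dvd fun h => hT (h.trans hUd), add_zero]
    exact Subgroup.index_ne_zero_of_finite⟩
  have hSQ : (S : Subgroup H) ≤ Subgroup.normalizer (Q : Set H) := fun x hx => by
    refine Subgroup.mem_normalizer_iff.2 fun y => ?_
    constructor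
    · intro hy
      rw [show x * y * x⁻¹ = y by rw [Subgroup.mem_centralizer_iff.1 (hQS hy) x hx, mul_inv_cancel_right]]
      exact hy
    · intro hy
      have h1 := Subgroup.mem_centralizer_iff.1 (hQS hy) x hx
      have h2 : y = x * y * x⁻¹ := by
        calc y = x⁻¹ * (x * y * x⁻¹) * x := by group
          _ = x⁻¹ * (x * (x * y * x⁻¹)) := by rw [h1]; group
          _ = _ := by group
      exact h2 ▸ hy
  obtain ⟨c, hc, hcQ⟩ := CfsgLib.Coprime.invariant_sylow_conj hSY hcop (Or.inl hsol) hQY hQ'Y hSQ hSQ'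
  obtain ⟨v, hv, y, hy, rfl⟩ := Subgroup.mem_sup_of_normal_left.1 hc.1
  refine ⟨v, ⟨hv, ?_⟩, ?_⟩
  · have := (Subgroup.centralizer ((S : Subgroup H) : Set H)).mul_mem hc.2
      ((Subgroup.centralizer ((S : Subgroup H) : Set H)).inv_mem (hQS hy))
    rwa [mul_inv_cancel_right] at this
  · rw [← CfsgLib.Coprime.conjBy_conjBy, CfsgLib.Coprime.conjBy_eq_self_of_mem hy] at hcQ
    rw [hcQ]
    exact hQ'.1.trans inf_le_left

/-- `Q` centralises the fixed points of `S` on `V`. -/
private theorem centralize_fixed (hpq : p ≠ q)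
    (hdeg : ∀ χ : IrrCharacter H, ¬ p ∣ charDegree (χ : H → ℂ) → ¬ q ∣ charDegree (χ : H → ℂ))
    (S : Sylow p H) (V Q : Subgroup H) [V.Normal] (hV : ¬ q ∣ Nat.card V) (hVp : ¬ p ∣ Nat.card V)
    (hQ : IsPGroup q Q) [(V ⊔ Q).Normal]
    (hQS : Q ≤ Subgroup.centralizer ((S : Subgroup H) : Set H)) :
    ∀ y ∈ Q, ∀ c ∈ V ⊓ Subgroup.centralizer ((S : Subgroup H) : Set H), y * c = c * y := by
  classical
  haveI := Fintype.ofFinite V
  set C := V ⊓ Subgroup.centralizer ((S : Subgroup H) : Set H) with hC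
  haveI := Fintype.ofFinite C
  haveI := Fintype.ofFinite (ConjClasses V)
  haveI := Fintype.ofFinite (ConjClasses C)
  obtain ⟨M, hM⟩ := CfsgLib.Block.exists_pModular hp.out
  haveI := hM.2.1
  haveI := CfsgLib.Block.charP_resField hM
  have hnorm : ∀ s ∈ (S : Subgroup H), ∀ g ∈ V, s * g * s⁻¹ ∈ V :=
    fun s _ g hg => (inferInstance : V.Normal).conj_mem g hg s
  have hVn : ∀ g : H, ∀ v ∈ V, g * v * g⁻¹ ∈ V := fun g v hv => (inferInstance : V.Normal).conj_mem v hv g
  have hCconj : ∀ z : H, z ∈ Subgroup.centralizer ((S : Subgroup H) : Set H) → ∀ c ∈ C, z * c * z⁻¹ ∈ C :=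
    fun z hz c hc => ⟨hVn z c hc.1, (Subgroup.centralizer _).mul_mem
      ((Subgroup.centralizer _).mul_mem hz hc.2) ((Subgroup.centralizer _).inv_mem hz)⟩
  have hfixβ : ∀ (β : IrrCharacter C) (y : H) (hy : y ∈ Q) (c : C),
      (β : C → ℂ) ⟨y * c * y⁻¹, hCconj y (hQS hy) c c.2⟩ = (β : C → ℂ) c := by
    intro β y hy c
    obtain ⟨θ, hθS, hθβ⟩ := CfsgLib.Block.Glauberman.exists_up (G := V) hC hM S.2 hnorm hVp β
    set T := inertia V (θ : V → ℂ) with hTd
    have hST : (S : Subgroup H) ≤ T := fun s hs => funext fun v => hθS s hs v _ rfl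
    obtain ⟨v, hv, hvT⟩ := exists_conj_le hpq S V Q T hV hVp hQ hQS hST
      (inertia_index hdeg S V hVp θ hST)
    set z := v * y * v⁻¹ with hz
    have hzT : z ∈ T := hvT (CfsgLib.Coprime.conj_mem_conjBy hy)
    have hzS : z ∈ Subgroup.centralizer ((S : Subgroup H) : Set H) :=
      (Subgroup.centralizer _).mul_mem ((Subgroup.centralizer _).mul_mem hv.2 (hQS hy))
        ((Subgroup.centralizer _).inv_mem hv.2)
    let e : C ≃* C :=
      { toFun := fun c => ⟨z * c * z⁻¹, hCconj z hzS c c.2⟩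
        invFun := fun c => ⟨z⁻¹ * c * z, by
          simpa using hCconj z⁻¹ ((Subgroup.centralizer _).inv_mem hzS) c c.2⟩
        left_inv := fun c => Subtype.ext (by group)
        right_inv := fun c => Subtype.ext (by group)
        map_mul' := fun a b => Subtype.ext (by simp [mul_assoc]) }
    let γ : IrrCharacter C := ⟨fun c => (β : C → ℂ) (e c),
      isIrrCharacter_comp_surjective β.2 e.toMonoidHom e.surjective⟩
    set f : C → ℂ := fun c => (θ : V → ℂ) ⟨c, c.2.1⟩ with hf
    have hfc : IsCharacter C f := isCharacter_comp (isCharacter_irr θ) (Subgroup.inclusion inf_le_left)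
    obtain ⟨m, hm⟩ := classInner_char_irr_nat hfc β
    have hmγ : classInner f (γ : C → ℂ) = (m : ℂ) := by
      rw [← hm]
      conv_rhs => rw [← classInner_equiv e f (β : C → ℂ)]
      congr 1
      funext c
      exact (congrFun ((mem_inertia V _ z).1 hzT) ⟨c, c.2.1⟩).symm
    have hm0 := (CfsgLib.Block.Glauberman.mult_congr (G := V) hC hM S.2 hnorm hVp hθS hθβ β hm).1 rfl
    have hγβ : γ = β := by
      by_contra hne
      have h0 := (CfsgLib.Block.Glauberman.mult_congr (G := V) hC hM S.2 hnorm hVp hθS hθβ γ hmγ).2 hne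
      rcases hm0 with h | h <;> rw [h0] at h
      · exact zero_ne_one h
      · exact neg_ne_zero.2 one_ne_zero h.symm
    -- `β` is invariant under `z`, hence under `y`
    have hzfix : ∀ d : C, (β : C → ℂ) (e d) = (β : C → ℂ) d := fun d =>
      congrFun (congrArg Subtype.val hγβ) d
    have hvC : v ∈ C := hv
    set d : C := ⟨v, hvC⟩ * c * ⟨v, hvC⟩⁻¹ with hd
    have h1 := hzfix d
    have hed : e d = ⟨v, hvC⟩ * ⟨y * c * y⁻¹, hCconj y (hQS hy) c c.2⟩ * ⟨v, hvC⟩⁻¹ := by
      refine Subtype.ext ?_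
      show z * ((v : H) * c * (v : H)⁻¹) * z⁻¹ = v * (y * c * y⁻¹) * v⁻¹
      rw [hz]; group
    rw [hed, isClassFunction_irr β, hd, isClassFunction_irr β] at h1
    exact h1
  refine centralize_of_fix_classes (q := q) C
    (fun h => hV (h.trans (Subgroup.card_dvd_of_le inf_le_left))) Q hQ fun z hz c => ?_
  refine ⟨⟨z * c * z⁻¹, hCconj z (hQS hz) c c.2⟩, rfl, ?_⟩
  exact (isConj_of_irr_agree fun β => (hfixβ β z hz c)).symm

/-- The data inside a complement. -/
private theorem exists_local (hpq : p ≠ q) (hqs : IsPSolvable q H) (hq' : q ∣ Nat.card H)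
    (hK : ¬ q ∣ (pPrimeCore p H).index) (hJ : ¬ p ∣ (pPrimeCore q H).index) (S : Sylow p H) :
    ∃ V Q : Subgroup H, V.Normal ∧ V ≤ pPrimeCore p H ∧ ¬ q ∣ Nat.card V ∧ ¬ p ∣ Nat.card V ∧
      IsPGroup q Q ∧ Q ≠ ⊥ ∧ Q ≤ pPrimeCore p H ∧ (V ⊔ Q).Normal ∧
      Q ≤ Subgroup.centralizer ((S : Subgroup H) : Set H) := by
  classical
  set K := pPrimeCore p H with hKd
  set J := pPrimeCore q H with hJd
  have hqK : q ∣ Nat.card K := by
    rw [← K.card_mul_index] at hq'
    exact (hq.out.dvd_mul.1 hq').resolve_right hK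
  have hKc : ¬ p ∣ Nat.card K := hp.out.coprime_iff_not_dvd.1 (CfsgLib.Coprime.pPrimeCore_coprime hp.out).symm
  have hJc : ¬ q ∣ Nat.card J := hq.out.coprime_iff_not_dvd.1 (CfsgLib.Coprime.pPrimeCore_coprime hq.out).symm
  set V := K ⊓ J with hV
  have hVq : ¬ q ∣ Nat.card V := fun h => hJc (h.trans (Subgroup.card_dvd_of_le inf_le_right))
  have hVp : ¬ p ∣ Nat.card V := fun h => hKc (h.trans (Subgroup.card_dvd_of_le inf_le_left))
  obtain ⟨Y, hYK, hY⟩ := exists_minimal_le_of_wellFoundedLT (α := Subgroup H)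
    (fun Y => Y.Normal ∧ V < Y) K ⟨inferInstance,
      inf_le_left.lt_of_ne fun h => hJc (hqK.trans (Subgroup.card_dvd_of_le (inf_eq_left.1 h)))⟩
  obtain ⟨hYn, hVY⟩ := hY.prop
  haveI := hYn
  -- the quotient is a minimal normal subgroup
  set π := QuotientGroup.mk' V with hπ
  have hker : ∀ v ∈ V, π v = 1 := fun v hv => (QuotientGroup.eq_one_iff v).2 hv
  haveI : (Y.map π).Normal := hYn.map π (QuotientGroup.mk'_surjective V)
  have hcard : Nat.card (Y.map π) = V.relIndex Y := by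
    rw [← Subgroup.relIndex_ker, hπ, QuotientGroup.ker_mk']
  have hdich := minimal_dichotomy (p := q) (CfsgLib.PGroup.isPSolvable_quotient hq.out hqs V) (Y.map π)
    fun W hW hWY => by
      have hle : V ≤ W.comap π := fun v hv => by
        rw [Subgroup.mem_comap, hker v hv]; exact one_mem _
      have hleY : W.comap π ≤ Y := by
        refine (Subgroup.comap_mono hWY).trans ?_
        rw [Subgroup.comap_map_eq, QuotientGroup.ker_mk', sup_eq_left.2 hVY.le]
      rcases hle.eq_or_lt with h | h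
      · left
        rw [← Subgroup.map_comap_eq_self_of_surjective (QuotientGroup.mk'_surjective V) W, ← h,
          QuotientGroup.map_mk'_self]
      · right
        rw [← Subgroup.map_comap_eq_self_of_surjective (QuotientGroup.mk'_surjective V) W,
          le_antisymm hleY (hY.le_of_le ⟨hW.comap π, h⟩ hleY)]
  have hYcard : Nat.card Y = Nat.card V * V.relIndex Y := by
    rw [← Subgroup.relIndex_bot_left Y, ← Subgroup.relIndex_mul_relIndex ⊥ V Y bot_le hVY.le,
      Subgroup.relIndex_bot_left]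
  obtain ⟨k, hk⟩ : ∃ k, V.relIndex Y = q ^ k := by
    rcases hdich with h | h
    · exact hcard ▸ IsPGroup.iff_card.1 h
    · exfalso
      rw [hcard] at h
      refine hVY.not_ge (le_inf hYK (CfsgLib.Coprime.le_pPrimeCore ?_))
      rw [hYcard]
      exact Nat.Coprime.mul_left (Nat.coprime_comm.1 (hq.out.coprime_iff_not_dvd.2 hVq)) h
  obtain ⟨s, hs⟩ := IsPGroup.iff_card.1 S.2
  have hcop : (Nat.card (S : Subgroup H)).Coprime (Nat.card Y) := by
    rw [hs]
    exact Nat.Coprime.pow_left s (hp.out.coprime_iff_not_dvd.2 fun h => hKc (h.trans (Subgroup.card_dvd_of_le hYK)))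
  have hSY : (S : Subgroup H) ≤ Subgroup.normalizer (Y : Set H) := by
    rw [Subgroup.normalizer_eq_top_iff.2 hYn]; exact le_top
  have hsol : Group.IsSolvable (S : Subgroup H) := by
    haveI := S.2.isNilpotent
    infer_instance
  obtain ⟨Q, hQ, hSQ⟩ := CfsgLib.Coprime.exists_invariant_sylow (K := Y) hSY hcop (Or.inl hsol) q
  have hQc : Nat.card Q = q ^ k := by
    rw [hQ.2, hYcard, hk, Nat.factorization_mul Nat.card_pos.ne' (pow_ne_zero _ hq.out.ne_zero),
      Finsupp.add_apply, Nat.factorization_eq_zero_of_not_dvd hVq, hq.out.factorization_pow,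
      Finsupp.single_eq_same, zero_add]
  have hVQ : V ⊔ Q = Y := by
    refine Subgroup.eq_of_le_of_card_ge (sup_le hVY.le hQ.1) ?_
    rw [hYcard, hk, ← hQc]
    refine le_of_eq ?_
    have hinf : V ⊓ Q = ⊥ := Subgroup.inf_eq_bot_of_coprime (by
      rw [hQc]; exact Nat.Coprime.pow_right k (Nat.coprime_comm.1 (hq.out.coprime_iff_not_dvd.2 hVq)))
    symm
    rw [← Subgroup.relIndex_bot_left (V ⊔ Q), ← Subgroup.relIndex_mul_relIndex ⊥ V (V ⊔ Q) bot_le le_sup_left,
      Subgroup.relIndex_bot_left, sup_comm, Subgroup.relIndex_sup_right, ← Subgroup.inf_relIndex_right,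
      hinf, Subgroup.relIndex_bot_left]
  have hSJ : (S : Subgroup H) ≤ J := by
    intro x hx
    have h1 : orderOf (QuotientGroup.mk' J x) = 1 := by
      refine Nat.eq_one_of_dvd_coprimes (Nat.Coprime.pow_left s (hp.out.coprime_iff_not_dvd.2 hJ)) ?_
        (Subgroup.index_eq_card J ▸ orderOf_dvd_natCard _)
      exact (orderOf_map_dvd _ x).trans (hs ▸ Subgroup.orderOf_dvd_natCard _ hx)
    exact (QuotientGroup.eq_one_iff x).1 (orderOf_eq_one_iff.1 h1)
  refine ⟨V, Q, inferInstance, inf_le_left, hVq, hVp, hQ.isPGroup, ?_, hQ.1.trans hYK, hVQ ▸ hYn, ?_⟩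
  · intro h
    rw [h, Subgroup.card_bot] at hQc
    exact hVY.not_ge (Subgroup.relIndex_eq_one.1 (hk.trans hQc.symm))
  · intro y hy
    refine Subgroup.mem_centralizer_iff.2 fun x hx => ?_
    have h1 : x * y * x⁻¹ * y⁻¹ ∈ Q ⊓ J := by
      refine ⟨Q.mul_mem ((Subgroup.mem_normalizer_iff.1 (hSQ hx) y).1 hy) (Q.inv_mem hy), ?_⟩
      have h2 := J.mul_mem (hSJ hx) ((inferInstance : J.Normal).conj_mem _ (J.inv_mem (hSJ hx)) y)
      rwa [show x * y * x⁻¹ * y⁻¹ = x * (y * x⁻¹ * y⁻¹) by group]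
    rw [Subgroup.inf_eq_bot_of_coprime (by
      rw [hQc]; exact Nat.Coprime.pow_left k (hq.out.coprime_iff_not_dvd.2 hJc)), Subgroup.mem_bot] at h1
    exact mul_inv_eq_iff_eq_mul.1 (mul_inv_eq_one.1 h1)

end Local

section Global

variable {p q : ℕ} [hp : Fact p.Prime] [hq : Fact q.Prime]

private theorem core_contradiction {G : Type u} [Group G] [Fintype G] (hpq : p ≠ q) (hqs : IsPSolvable q G)
    (hcore : pPrimeCore p G = ⊥)
    (hdeg : ∀ χ : IrrCharacter G, ¬ p ∣ charDegree (χ : G → ℂ) → ¬ q ∣ charDegree (χ : G → ℂ))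
    (M : Subgroup G) [M.Normal] (hMp : IsPGroup p M) (hMc : ∀ a ∈ M, ∀ b ∈ M, a * b = b * a)
    (hmin : ∀ W : Subgroup G, W.Normal → W ≤ M → W = ⊥ ∨ W = M)
    (hK : ¬ q ∣ (pPrimeCore p (G ⧸ M)).index) (hJ : ¬ p ∣ (pPrimeCore q (G ⧸ M)).index)
    (hqG : q ∣ Nat.card G) : False := by
  classical
  set π := QuotientGroup.mk' M with hπ
  have hsurj : Function.Surjective π := QuotientGroup.mk'_surjective M
  set R := (pPrimeCore p (G ⧸ M)).comap π with hR
  have hMR : M ≤ R := fun x hx => by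
    rw [hR, Subgroup.mem_comap, show π x = 1 from (QuotientGroup.eq_one_iff x).2 hx]
    exact one_mem _
  set M' := M.subgroupOf R with hM'
  obtain ⟨a, ha⟩ := IsPGroup.iff_card.1 hMp
  have hMidx : M'.index = Nat.card (pPrimeCore p (G ⧸ M)) := by
    show M.relIndex R = _
    have h1 : M = (⊥ : Subgroup (G ⧸ M)).comap π := by rw [MonoidHom.comap_bot, hπ, QuotientGroup.ker_mk']
    conv_lhs => rw [h1]
    rw [Subgroup.relIndex_comap, Subgroup.map_comap_eq_self_of_surjective hsurj, Subgroup.relIndex_bot_left]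
  have hcopM : (Nat.card M).Coprime M'.index := by
    rw [ha, hMidx]
    exact Nat.Coprime.pow_left a (CfsgLib.Coprime.pPrimeCore_coprime hp.out).symm
  obtain ⟨K0, hK0⟩ := Subgroup.exists_right_complement'_of_coprime (N := M')
    (by rw [hM', Nat.card_congr (Subgroup.subgroupOfEquivOfLe hMR).toEquiv]; exact hcopM)
  set K := K0.map R.subtype with hKd
  have hKR : K ≤ R := Subgroup.map_subtype_le K0
  have hKc : Nat.card K = Nat.card (pPrimeCore p (G ⧸ M)) := by
    rw [hKd, Subgroup.card_map_of_injective R.subtype_injective, ← hK0.symm.index_eq_card, hMidx]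
  have hdec : ∀ x ∈ R, ∃ m ∈ M, ∃ k ∈ K, x = m * k := fun x hx => by
    obtain ⟨⟨m, k⟩, hmk⟩ := hK0.2 ⟨x, hx⟩
    refine ⟨_, m.2, _, Subgroup.mem_map_of_mem R.subtype k.2, ?_⟩
    exact (congrArg Subtype.val hmk).symm
  set N := Subgroup.normalizer (K : Set G) with hN
  have hfr : ∀ g : G, ∃ o ∈ M, o * g ∈ N := fun g => by
    obtain ⟨o, ho, hoK⟩ := CfsgLib.Coprime.sz_conj_in (A := K) (N := M)
      (B := CfsgLib.Coprime.conjBy g K)
      (by rw [Subgroup.normalizer_eq_top_iff.2 inferInstance]; exact le_top)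
      (by rw [hKc, ← hMidx]; exact hcopM)
      (fun x hx => by
        rw [CfsgLib.Coprime.mem_conjBy] at hx
        have hRn : R.Normal := inferInstance
        have := hRn.conj_mem _ (hKR hx) g
        rw [show g * (g⁻¹ * x * g) * g⁻¹ = x by group] at this
        obtain ⟨m, hm, k, hk, rfl⟩ := hdec x this
        exact Subgroup.mul_mem _ (Subgroup.mem_sup_right hm) (Subgroup.mem_sup_left hk))
      (CfsgLib.Coprime.card_conjBy g K) (Or.inr (by
        haveI := hMp.isNilpotent
        infer_instance))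
    rw [CfsgLib.Coprime.conjBy_conjBy, CfsgLib.Coprime.conjBy_eq_self_iff] at hoK
    exact ⟨o, ho, hoK⟩
  have hqM : ¬ q ∣ Nat.card M := fun h => by
    rw [ha] at h
    exact hpq ((Nat.prime_dvd_prime_iff_eq hq.out hp.out).1 (hq.out.dvd_of_dvd_pow h)).symm
  -- `M` meets the complement trivially
  haveI : (Subgroup.centralizer (R : Set G)).Normal := Subgroup.normal_centralizer
  have hN0 : M ⊓ Subgroup.centralizer (R : Set G) = ⊥ := by
    rcases hmin (M ⊓ Subgroup.centralizer (R : Set G)) inferInstance inf_le_left with h | h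
    · exact h
    exfalso
    have hMC : M ≤ Subgroup.centralizer (R : Set G) := inf_eq_left.1 h
    have hMN : M ≤ N := fun m hm => Subgroup.mem_normalizer_iff.2 fun k => by
      have hc := fun y (hy : y ∈ K) => (Subgroup.mem_centralizer_iff.1 (hMC hm) y (hKR hy))
      constructor
      · intro hk
        rw [← hc k hk, mul_inv_cancel_right]; exact hk
      · intro hk
        have h1 := hc _ hk
        have h2 : k = m * k * m⁻¹ := by
          calc k = m⁻¹ * ((m * k * m⁻¹) * m) := by group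
            _ = m⁻¹ * (m * (m * k * m⁻¹)) := by rw [h1]
            _ = _ := by group
        exact h2 ▸ hk
    have htop : N = ⊤ := top_unique fun g _ => by
      obtain ⟨o, ho, hog⟩ := hfr g
      have := N.mul_mem (N.inv_mem (hMN ho)) hog
      rwa [inv_mul_cancel_left] at this
    haveI : K.Normal := Subgroup.normalizer_eq_top_iff.1 htop
    have hKle : K ≤ ⊥ := hcore ▸ CfsgLib.Coprime.le_pPrimeCore
      (by rw [hKc]; exact CfsgLib.Coprime.pPrimeCore_coprime hp.out)
    have hK1 : Nat.card K = 1 := Subgroup.card_eq_one.2 (le_bot_iff.1 hKle)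
    have h2 : Nat.card G = (pPrimeCore p (G ⧸ M)).index * Nat.card M := by
      rw [Subgroup.card_eq_card_quotient_mul_card_subgroup M, ← (pPrimeCore p (G ⧸ M)).index_mul_card, ← hKc,
        hK1, mul_one]
    rcases hq.out.dvd_mul.1 (h2 ▸ hqG) with h3 | h3
    · exact hK h3
    · exact hqM h3
  have hMN1 : ∀ x ∈ M, x ∈ N → x = 1 := fun x hxM hxN => by
    have hx : x ∈ M ⊓ Subgroup.centralizer (R : Set G) := by
      refine ⟨hxM, Subgroup.mem_centralizer_iff.2 fun r hr => ?_⟩
      obtain ⟨m, hm, k, hk, rfl⟩ := hdec r hr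
      have hck : k * x = x * k := by
        have h1 : x * k * x⁻¹ * k⁻¹ ∈ M ⊓ K := by
          refine ⟨?_, K.mul_mem ((Subgroup.mem_normalizer_iff.1 hxN k).1 hk) (K.inv_mem hk)⟩
          have h2 := M.mul_mem hxM ((inferInstance : M.Normal).conj_mem _ (M.inv_mem hxM) k)
          rwa [show x * k * x⁻¹ * k⁻¹ = x * (k * x⁻¹ * k⁻¹) by group]
        rw [Subgroup.inf_eq_bot_of_coprime (by rw [hKc, ← hMidx]; exact hcopM), Subgroup.mem_bot] at h1
        exact (mul_inv_eq_iff_eq_mul.1 (mul_inv_eq_one.1 h1)).symm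
      rw [mul_assoc, hck, ← mul_assoc, hMc m hm x hxM, mul_assoc]
    rwa [hN0, Subgroup.mem_bot] at hx
  -- the complement is isomorphic to the quotient
  have hbij : Function.Bijective (π.comp N.subtype) := by
    refine ⟨(injective_iff_map_eq_one _).2 fun x hx => Subtype.ext (hMN1 x ((QuotientGroup.eq_one_iff (x : G)).1 hx) x.2), fun z => ?_⟩
    obtain ⟨g, rfl⟩ := hsurj z
    obtain ⟨o, ho, hog⟩ := hfr g
    refine ⟨⟨o * g, hog⟩, ?_⟩
    show π (o * g) = π g
    rw [map_mul, show π o = 1 from (QuotientGroup.eq_one_iff o).2 ho, one_mul]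
  let e : N ≃* G ⧸ M := MulEquiv.ofBijective _ hbij
  have he : ∀ n : N, e n = π n := fun n => rfl
  let ρ : G →* N := e.symm.toMonoidHom.comp π
  have hρ : Function.Surjective ρ := e.symm.surjective.comp hsurj
  haveI := Fintype.ofFinite N
  have hdegN : ∀ χ : IrrCharacter N, ¬ p ∣ charDegree (χ : N → ℂ) → ¬ q ∣ charDegree (χ : N → ℂ) := by
    intro χ hχ
    let χ' : IrrCharacter G := ⟨fun g => (χ : N → ℂ) (ρ g), isIrrCharacter_comp_surjective χ.2 ρ hρ⟩
    have hd : charDegree (χ' : G → ℂ) = charDegree (χ : N → ℂ) := by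
      show ⌊((χ : N → ℂ) (ρ 1)).re⌋₊ = _
      rw [map_one]; rfl
    exact hd ▸ hdeg χ' (hd ▸ hχ)
  have hidxN : ∀ r : ℕ, (pPrimeCore r N).index = (pPrimeCore r (G ⧸ M)).index := fun r => by
    rw [← CfsgLib.Coprime.map_pPrimeCore_equiv e r, Subgroup.index_map_of_bijective (f := e.toMonoidHom) e.bijective]
  have hqN : q ∣ Nat.card N := by
    rw [Nat.card_congr e.toEquiv]
    rw [Subgroup.card_eq_card_quotient_mul_card_subgroup M] at hqG
    exact (hq.out.dvd_mul.1 hqG).resolve_right hqM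
  obtain ⟨S⟩ : Nonempty (Sylow p N) := inferInstance
  obtain ⟨V, Q, hVn, hVK, hVq, hVp, hQp, hQne, hQK, hYn, hQS⟩ := exists_local (p := p) (q := q) hpq
    (CfsgLib.CoprimeOrbit.isPSolvable_subgroup hq.out hqs N) hqN (by rwa [hidxN]) (by rwa [hidxN]) S
  haveI := hVn
  haveI := hYn
  -- `Q` does not centralize `M`
  obtain ⟨y0, hy0, m0, hm0, hne0⟩ : ∃ y ∈ Q, ∃ m ∈ M, (y : G) * m ≠ m * y := by
    by_contra hc
    push Not at hc
    set D := R ⊓ Subgroup.centralizer (M : Set G)
    haveI : (Subgroup.centralizer (M : Set G)).Normal := Subgroup.normal_centralizer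
    set K1 := K ⊓ Subgroup.centralizer (M : Set G)
    haveI : K1.Normal := ⟨fun k hk g => by
      obtain ⟨o, ho, hog⟩ := hfr g
      have h1 : (o * g) * k * (o * g)⁻¹ ∈ K1 := ⟨(Subgroup.mem_normalizer_iff.1 hog k).1 hk.1,
        (inferInstance : (Subgroup.centralizer (M : Set G)).Normal).conj_mem k hk.2 _⟩
      have h2 := Subgroup.mem_centralizer_iff.1 h1.2 o ho
      have h3 : g * k * g⁻¹ = (o * g) * k * (o * g)⁻¹ := by
        calc g * k * g⁻¹ = o⁻¹ * ((o * g) * k * (o * g)⁻¹ * o) := by group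
          _ = o⁻¹ * (o * ((o * g) * k * (o * g)⁻¹)) := by rw [h2]
          _ = _ := by group
      rw [h3]; exact h1⟩
    have hK1 : K1 ≤ ⊥ := hcore ▸ CfsgLib.Coprime.le_pPrimeCore
      ((show (Nat.card K).Coprime p by rw [hKc]; exact CfsgLib.Coprime.pPrimeCore_coprime hp.out).coprime_dvd_left
        (Subgroup.card_dvd_of_le inf_le_left))
    apply hQne
    rw [Subgroup.eq_bot_iff_forall]
    intro y hy
    have hyR : (y : G) ∈ R := by
      show π (y : G) ∈ pPrimeCore p (G ⧸ M)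
      rw [← he, ← CfsgLib.Coprime.map_pPrimeCore_equiv e p]
      exact Subgroup.mem_map_of_mem _ (hQK hy)
    obtain ⟨m, hm, k, hk, hyk⟩ := hdec _ hyR
    have hm1 : m = 1 := hMN1 m hm (by
      rw [show m = (y : G) * k⁻¹ by rw [hyk, mul_inv_cancel_right]]
      exact N.mul_mem y.2 (N.inv_mem (Subgroup.le_normalizer hk)))
    rw [hm1, one_mul] at hyk
    have hy1 : (y : G) ∈ K1 := ⟨hyk ▸ hk, Subgroup.mem_centralizer_iff.2 fun z hz => (hc y hy z hz).symm⟩
    exact Subtype.ext (Subgroup.mem_bot.1 (hK1 hy1))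
  -- a Sylow subgroup of `G`
  set S' := (S : Subgroup N).map N.subtype with hS'
  have hMS : M ⊓ S' = ⊥ := (Subgroup.eq_bot_iff_forall _).2 fun x hx =>
    hMN1 x hx.1 (Subgroup.map_subtype_le _ hx.2)
  have hPcard : Nat.card (M ⊔ S' : Subgroup G) = p ^ (Nat.card G).factorization p := by
    rw [← Subgroup.relIndex_bot_left (M ⊔ S'), ← Subgroup.relIndex_mul_relIndex ⊥ M (M ⊔ S') bot_le le_sup_left,
      Subgroup.relIndex_bot_left, sup_comm, Subgroup.relIndex_sup_right, ← Subgroup.inf_relIndex_right, hMS,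
      Subgroup.relIndex_bot_left, hS', Subgroup.card_map_of_injective N.subtype_injective,
      S.card_eq_multiplicity, Nat.card_congr e.toEquiv, Subgroup.card_eq_card_quotient_mul_card_subgroup M, ha,
      Nat.factorization_mul Nat.card_pos.ne' (pow_ne_zero _ hp.out.ne_zero), Finsupp.add_apply,
      hp.out.factorization_pow, Finsupp.single_eq_same, ← pow_add, add_comm]
  let P : Sylow p G := Sylow.ofCard (M ⊔ S') hPcard
  have hPdef : (P : Subgroup G) = M ⊔ S' := rfl
  haveI := Fintype.ofFinite M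
  haveI := Fintype.ofFinite (P : Subgroup G)
  have hMP : M ≤ (P : Subgroup G) := le_sup_left
  -- every linear character of `P` is fixed by `Q` on `M`
  have hfixν : ∀ ν : (P : Subgroup G) →* ℂˣ, ∀ y ∈ Q, ∀ (m : G) (hm : m ∈ M),
      ν ⟨(y : G) * m * (y : G)⁻¹, hMP ((inferInstance : M.Normal).conj_mem m hm y)⟩ = ν ⟨m, hMP hm⟩ := by
    intro ν y hy m hm
    let lam : M →* ℂˣ := ν.comp (Subgroup.inclusion hMP)
    set l : M → ℂ := fun m => (lam m : ℂ) with hl
    have hlirr : IsIrrCharacter M l := isIrrCharacter_lin lam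
    set T := inertia M l with hT
    have hPT : (P : Subgroup G) ≤ T := fun x hx => funext fun k => by
      show (ν _ : ℂ) = (ν _ : ℂ)
      congr 1
      have e1 : Subgroup.inclusion hMP ⟨x * (k : G) * x⁻¹, (inferInstance : M.Normal).conj_mem k k.2 x⟩ =
          (⟨x, hx⟩ : (P : Subgroup G)) * Subgroup.inclusion hMP k * (⟨x, hx⟩ : (P : Subgroup G))⁻¹ :=
        Subtype.ext rfl
      rw [e1, map_mul, map_mul, map_inv, mul_right_comm, mul_inv_cancel, one_mul]
    obtain ⟨χ, hχp, hχ⟩ := CfsgLib.Block.PPrimeKernel.exists_pprime_constituent (p := p)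
      (isCharacter_indFun (P : Subgroup G) (isCharacter_of_isIrr (isIrrCharacter_lin ν)))
      (n := (P : Subgroup G).index) (by rw [indFun_one]; simp) P.not_dvd_index
    have hχP : classInner (fun t : (P : Subgroup G) => (χ : G → ℂ) t) (fun t => (ν t : ℂ)) ≠ 0 := by
      rw [classInner_indFun (P : Subgroup G) _ _ (isClassFunction_irr χ), ← classInner_conj] at hχ
      exact fun h0 => hχ (by rw [h0, map_zero])
    have hs' := isCharacter_sub_constituent (isCharacter_comp (isCharacter_irr χ) (P : Subgroup G).subtype)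
      ⟨_, isIrrCharacter_lin ν⟩ hχP
    obtain ⟨k, hk⟩ := classInner_isCharacter (isCharacter_comp hs' (Subgroup.inclusion hMP))
      (isCharacter_of_isIrr hlirr)
    have hsum : classInner (fun v : M => (χ : G → ℂ) v) l = ((k + 1 : ℕ) : ℂ) := by
      rw [Nat.cast_add, Nat.cast_one, ← hk,
        ← (show classInner l l = 1 from classInner_irr_self (⟨l, hlirr⟩ : IrrCharacter M)), ← classInner_add_left]
      congr 1
      funext v
      simp [hl, lam]
    obtain ⟨a', -, ha'⟩ := isIrrCharacter_degree χ.2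
    have h := clifford_degree M χ.2 hlirr (by rw [hsum]; exact_mod_cast Nat.succ_ne_zero k)
    rw [hsum, ha', show l 1 = 1 by simp [hl], mul_one] at h
    have h' : a' = (k + 1) * T.index := by exact_mod_cast h
    have hqT : ¬ q ∣ T.index := fun hd => hdeg χ hχp (by
      rw [Cfsg.charDegree, ha', Complex.natCast_re, Nat.floor_natCast, h']
      exact dvd_mul_of_dvd_right hd _)
    have hMT : M ≤ T := hMP.trans hPT
    have hTidx : (T.subgroupOf N).index = T.index := by
      have hmap : (T.subgroupOf N).map e.toMonoidHom = T.map π := by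
        ext z
        constructor
        · rintro ⟨t, ht, rfl⟩
          exact ⟨(t : G), ht, rfl⟩
        · rintro ⟨t, ht, rfl⟩
          obtain ⟨o, ho, hot⟩ := hfr t
          refine ⟨⟨o * t, hot⟩, T.mul_mem (hMT ho) ht, ?_⟩
          show π (o * t) = π t
          rw [map_mul, show π o = 1 from (QuotientGroup.eq_one_iff o).2 ho, one_mul]
      rw [← Subgroup.index_map_of_bijective (f := e.toMonoidHom) e.bijective, hmap,
        Subgroup.index_map_eq T hsurj (by rwa [hπ, QuotientGroup.ker_mk'])]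
    obtain ⟨v, hv, hvT⟩ := exists_conj_le hpq S V Q (T.subgroupOf N) hVq hVp hQp hQS
      (fun s hs => hPT (Subgroup.mem_sup_right (Subgroup.mem_map_of_mem _ hs)))
      (by rw [hTidx]; exact hqT)
    have hyT : v * y * v⁻¹ ∈ T.subgroupOf N := hvT (CfsgLib.Coprime.conj_mem_conjBy hy)
    rw [show v * y * v⁻¹ = y by
      rw [← centralize_fixed hpq hdegN S V Q hVq hVp hQp hQS y hy v hv, mul_inv_cancel_right]] at hyT
    exact Units.ext (congrFun ((mem_inertia M l _).1 hyT) ⟨m, hm⟩)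
  -- a proper subgroup supplementing `M`
  set C := M ⊓ Subgroup.centralizer ((Q.map N.subtype : Subgroup G) : Set G) with hC
  have hSC : S' ≤ Subgroup.normalizer (C : Set G) := by
    refine CfsgLib.Coprime.inf_le_normalizer ?_ ?_
    · rw [Subgroup.normalizer_eq_top_iff.2 inferInstance]; exact le_top
    · rintro _ ⟨x, hx, rfl⟩
      refine Subgroup.mem_normalizer_iff.2 fun z => ?_
      have hcx : ∀ w ∈ Q.map N.subtype, (x : G) * w = w * x := by
        rintro _ ⟨w, hw, rfl⟩
        exact congrArg Subtype.val (Subgroup.mem_centralizer_iff.1 (hQS hw) x hx)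
      simp only [Subgroup.mem_centralizer_iff, Subgroup.coe_subtype]
      refine forall₂_congr fun w hw => ?_
      have h1 := hcx w hw
      constructor
      · intro h2
        calc w * ((x : G) * z * (x : G)⁻¹) = (x : G) * (w * z) * (x : G)⁻¹ := by
              rw [← mul_assoc, ← mul_assoc, ← h1]; group
          _ = (x : G) * z * (w * (x : G)⁻¹) := by rw [h2]; group
          _ = _ := by rw [show w * (x : G)⁻¹ = (x : G)⁻¹ * w from
              (eq_inv_mul_of_mul_eq (by rw [← mul_assoc, h1, mul_inv_cancel_right])).trans rfl]; group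
      · intro h2
        have h3 : w * (x : G)⁻¹ = (x : G)⁻¹ * w :=
          eq_inv_mul_of_mul_eq (by rw [← mul_assoc, h1, mul_inv_cancel_right])
        calc w * z = w * (x : G)⁻¹ * ((x : G) * z * (x : G)⁻¹) * x := by group
          _ = (x : G)⁻¹ * (w * ((x : G) * z * (x : G)⁻¹)) * x := by rw [h3]; group
          _ = (x : G)⁻¹ * (((x : G) * z * (x : G)⁻¹) * w) * x := by rw [h2]
          _ = z * ((x : G)⁻¹ * w * x) := by group
          _ = z * w := by rw [mul_assoc, ← h1, inv_mul_cancel_left]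
  set R' := C ⊔ S' with hR'
  have hR'P : R' ≤ (P : Subgroup G) := sup_le_sup inf_le_left le_rfl
  have hlt : R'.subgroupOf (P : Subgroup G) ≠ ⊤ := fun h => by
    have hm : m0 ∈ R' := Subgroup.subgroupOf_eq_top.1 h (hMP hm0)
    rw [hR', sup_comm] at hm
    have hm' : m0 ∈ ((S' : Set G) * (C : Set G)) := by
      rw [← Subgroup.coe_mul_of_left_le_normalizer_right S' C hSC]; exact hm
    obtain ⟨s, hs, c, hc, rfl⟩ := hm'
    have hs1 : s = 1 := by
      have : s ∈ M ⊓ S' := ⟨by simpa using M.mul_mem hm0 (M.inv_mem hc.1), hs⟩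
      rwa [hMS, Subgroup.mem_bot] at this
    subst hs1
    exact hne0 (by simpa using Subgroup.mem_centralizer_iff.1 hc.2 _ (Subgroup.mem_map_of_mem N.subtype hy0))
  obtain ⟨Mx, hMx, hRMx⟩ := (eq_top_or_exists_le_coatom _).resolve_left hlt
  haveI := P.2.isNilpotent
  haveI : Mx.Normal := Subgroup.NormalizerCondition.normal_of_coatom _ Group.normalizerCondition_of_isNilpotent hMx
  obtain ⟨x, hxm⟩ : ∃ x : (P : Subgroup G), x ∉ Mx := by
    by_contra hc
    push Not at hc
    exact hMx.1 (top_unique fun x _ => hc x)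
  have hgen : Mx ⊔ Subgroup.zpowers x = ⊤ :=
    hMx.2 _ (left_lt_sup.2 fun h => hxm (h (Subgroup.mem_zpowers x)))
  haveI hcyc : IsCyclic ((P : Subgroup G) ⧸ Mx) := ⟨⟨QuotientGroup.mk' Mx x, fun z => by
    obtain ⟨z, rfl⟩ := QuotientGroup.mk'_surjective Mx z
    obtain ⟨m, hm, w, hw, rfl⟩ := Subgroup.mem_sup_of_normal_left.1
      (hgen.symm ▸ Subgroup.mem_top z : z ∈ Mx ⊔ Subgroup.zpowers x)
    obtain ⟨i, rfl⟩ := Subgroup.mem_zpowers_iff.1 hw
    refine Subgroup.mem_zpowers_iff.2 ⟨i, ?_⟩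
    rw [map_mul, show QuotientGroup.mk' Mx m = 1 from (QuotientGroup.eq_one_iff m).2 hm, one_mul,
      map_zpow]⟩⟩
  letI : CommGroup ((P : Subgroup G) ⧸ Mx) := IsCyclic.commGroup
  have hx1 : QuotientGroup.mk' Mx x ≠ 1 := fun h => hxm ((QuotientGroup.eq_one_iff x).1 h)
  obtain ⟨φ, hφ⟩ := CommGroup.exists_apply_ne_one_of_hasEnoughRootsOfUnity _ ℂ hx1
  apply hφ
  let ν : (P : Subgroup G) →* ℂˣ := φ.comp (QuotientGroup.mk' Mx)
  have hνR : ∀ r (hr : r ∈ R'), ν ⟨r, hR'P hr⟩ = 1 := fun r hr => by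
    show φ (QuotientGroup.mk' Mx _) = 1
    rw [show QuotientGroup.mk' Mx (⟨r, hR'P hr⟩ : (P : Subgroup G)) = 1 from
      (QuotientGroup.eq_one_iff _).2 (hRMx hr), map_one]
  haveI := Fintype.ofFinite Q
  letI : CommGroup M := { (inferInstance : Group M) with mul_comm := fun a b => Subtype.ext (hMc a a.2 b b.2) }
  let cj : Q → M → M := fun y m => ⟨((y : N) : G) * m * ((y : N) : G)⁻¹, (inferInstance : M.Normal).conj_mem m m.2 _⟩
  let lam : M →* ℂˣ := ν.comp (Subgroup.inclusion hMP)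
  have hνM : ∀ m : M, lam m = 1 := by
    intro m
    set s : M := ∏ y : Q, cj y m
    have hs : (s : G) ∈ C := by
      refine ⟨s.2, Subgroup.mem_centralizer_iff.2 ?_⟩
      rintro _ ⟨w, hw, rfl⟩
      have h1 : cj ⟨w, hw⟩ s = s := by
        let φw : M →* M := MonoidHom.mk' (cj ⟨w, hw⟩) fun a b => Subtype.ext (by simp [cj, mul_assoc])
        show φw (∏ y : Q, cj y m) = _
        rw [map_prod]
        refine Fintype.prod_equiv (Equiv.mulLeft (⟨w, hw⟩ : Q)) _ _ fun y => Subtype.ext ?_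
        simp [φw, cj, mul_assoc]
      exact mul_inv_eq_iff_eq_mul.1 (congrArg Subtype.val h1)
    have h2 : lam s = lam m ^ Fintype.card Q := by
      rw [map_prod, Finset.prod_congr rfl fun (y : Q) _ => (show lam (cj y m) = lam m from hfixν ν y y.2 m m.2),
        Finset.prod_const, Finset.card_univ]
    rw [show lam s = 1 from hνR _ (Subgroup.mem_sup_left hs)] at h2
    obtain ⟨b, hb⟩ := IsPGroup.iff_card.1 hQp
    refine eq_one_of_pow_coprime (m := p ^ a) (k := Fintype.card Q) ?_ h2.symm ?_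
    · rw [← map_pow, ← ha, pow_card_eq_one', map_one]
    · rw [← Nat.card_eq_fintype_card, hb]
      exact Nat.Coprime.pow _ _ ((Nat.coprime_primes hp.out hq.out).2 hpq)
  have hx : (x : G) ∈ M ⊔ S' := x.2
  obtain ⟨m, hm, s, hs, hms⟩ := Subgroup.mem_sup_of_normal_left.1 hx
  have hxe : x = (⟨m, hMP hm⟩ : (P : Subgroup G)) * ⟨s, hR'P (Subgroup.mem_sup_right hs)⟩ :=
    Subtype.ext hms.symm
  show ν x = 1
  rw [hxe, map_mul, show ν ⟨m, hMP hm⟩ = 1 from hνM ⟨m, hm⟩, hνR _ (Subgroup.mem_sup_right hs), mul_one]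

private theorem index_comap_le {G : Type u} [Group G] [Finite G] {r : ℕ} (hr : r.Prime) (M : Subgroup G) [M.Normal]
    (hM : M ≤ pPrimeCore r G) {s : ℕ} (h : ¬ s ∣ (pPrimeCore r (G ⧸ M)).index) :
    ¬ s ∣ (pPrimeCore r G).index := by
  set W := (pPrimeCore r (G ⧸ M)).comap (QuotientGroup.mk' M) with hW
  have hMW : M ≤ W := fun x hx => by
    rw [hW, Subgroup.mem_comap, show QuotientGroup.mk' M x = 1 from (QuotientGroup.eq_one_iff x).2 hx]
    exact one_mem _
  have hle : W ≤ pPrimeCore r G := by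
    haveI : W.Normal := inferInstance
    refine CfsgLib.Coprime.le_pPrimeCore ?_
    have h1 : Nat.card W = Nat.card M * Nat.card (pPrimeCore r (G ⧸ M)) := by
      rw [← Subgroup.relIndex_bot_left W, ← Subgroup.relIndex_mul_relIndex ⊥ M W bot_le hMW,
        Subgroup.relIndex_bot_left]
      congr 1
      have h2 := Subgroup.relIndex_comap (⊥ : Subgroup (G ⧸ M)) (QuotientGroup.mk' M) W
      rwa [MonoidHom.comap_bot, QuotientGroup.ker_mk', hW, Subgroup.map_comap_eq_self_of_surjective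
        (QuotientGroup.mk'_surjective M), Subgroup.relIndex_bot_left] at h2
    rw [h1]
    exact Nat.Coprime.mul_left ((CfsgLib.Coprime.pPrimeCore_coprime hr).coprime_dvd_left (Subgroup.card_dvd_of_le hM))
      (CfsgLib.Coprime.pPrimeCore_coprime hr)
  intro hd
  apply h
  rw [← Subgroup.index_comap_of_surjective _ (QuotientGroup.mk'_surjective M)]
  exact hd.trans (Subgroup.index_dvd_of_le hle)

/-- The cross condition passes to the quotients. -/
private theorem cross_quotient {G : Type u} [Group G] [Fintype G] (M : Subgroup G) [M.Normal]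
    (h : ∀ χ : IrrCharacter G, ¬ p ∣ charDegree (χ : G → ℂ) →
      (∀ n ∈ pPrimeCore p G, (χ : G → ℂ) n = (χ : G → ℂ) 1) → ¬ q ∣ charDegree (χ : G → ℂ))
    (χ : IrrCharacter (G ⧸ M)) (hd : ¬ p ∣ charDegree (χ : G ⧸ M → ℂ))
    (hk : ∀ n ∈ pPrimeCore p (G ⧸ M), (χ : G ⧸ M → ℂ) n = (χ : G ⧸ M → ℂ) 1) :
    ¬ q ∣ charDegree (χ : G ⧸ M → ℂ) := by
  let χ' : IrrCharacter G := ⟨fun g => (χ : G ⧸ M → ℂ) (QuotientGroup.mk' M g),
    isIrrCharacter_comp_surjective χ.2 _ (QuotientGroup.mk'_surjective M)⟩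
  have hd' : charDegree (χ' : G → ℂ) = charDegree (χ : G ⧸ M → ℂ) := by
    show ⌊((χ : G ⧸ M → ℂ) (QuotientGroup.mk' M 1)).re⌋₊ = _
    rw [map_one]; rfl
  refine hd' ▸ h χ' (hd' ▸ hd) fun n hn => ?_
  show (χ : G ⧸ M → ℂ) (QuotientGroup.mk' M n) = (χ : G ⧸ M → ℂ) (QuotientGroup.mk' M 1)
  rw [map_one, hk _ (CfsgLib.Coprime.map_pPrimeCore_le (QuotientGroup.mk'_surjective M) p
    (Subgroup.mem_map_of_mem _ hn))]

private theorem index_prime_cores : ∀ (n : ℕ) (G : Type u) [Group G] [Fintype G], Nat.card G = n →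
    ∀ (p q : ℕ) [Fact p.Prime] [Fact q.Prime], p ≠ q → IsPSolvable p G → IsPSolvable q G →
    (∀ χ : IrrCharacter G, ¬ p ∣ charDegree (χ : G → ℂ) →
      (∀ n ∈ pPrimeCore p G, (χ : G → ℂ) n = (χ : G → ℂ) 1) → ¬ q ∣ charDegree (χ : G → ℂ)) →
    (∀ χ : IrrCharacter G, ¬ q ∣ charDegree (χ : G → ℂ) →
      (∀ n ∈ pPrimeCore q G, (χ : G → ℂ) n = (χ : G → ℂ) 1) → ¬ p ∣ charDegree (χ : G → ℂ)) →
    ¬ q ∣ (pPrimeCore p G).index := by
  intro n
  induction n using Nat.strong_induction_on with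
  | _ n ih =>
  intro G _ _ hn p q _ _ hpq hps hqs h1 h2
  classical
  have hquot : ∀ (M : Subgroup G) [M.Normal], M ≠ ⊥ →
      ¬ q ∣ (pPrimeCore p (G ⧸ M)).index ∧ ¬ p ∣ (pPrimeCore q (G ⧸ M)).index := by
    intro M _ hM
    haveI := Fintype.ofFinite (G ⧸ M)
    have hlt : Nat.card (G ⧸ M) < n := by
      rw [← hn, ← M.index_eq_card, ← M.index_mul_card]
      exact lt_mul_of_one_lt_right (Nat.pos_of_ne_zero M.index_ne_zero_of_finite)
        (M.one_lt_card_iff_ne_bot.2 hM)
    have hp' := CfsgLib.PGroup.isPSolvable_quotient (p := p) Fact.out hps M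
    have hq' := CfsgLib.PGroup.isPSolvable_quotient (p := q) Fact.out hqs M
    exact ⟨ih _ hlt (G ⧸ M) rfl p q hpq hp' hq' (cross_quotient M h1) (cross_quotient M h2),
      ih _ hlt (G ⧸ M) rfl q p hpq.symm hq' hp' (cross_quotient M h2) (cross_quotient M h1)⟩
  by_cases hA : pPrimeCore p G = ⊥
  swap
  · exact index_comap_le (Fact.out : p.Prime) (pPrimeCore p G) le_rfl (hquot _ hA).1
  rcases subsingleton_or_nontrivial G with hG | hG
  · rw [show pPrimeCore p G = ⊤ from Subsingleton.elim _ _, Subgroup.index_top]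
    exact (Fact.out : q.Prime).not_dvd_one
  rw [hA, Subgroup.index_bot]
  intro hqG
  haveI := CfsgLib.Coprime.pCore_normal' (G := G) p
  obtain ⟨M, hMn, hM1, hMle, hMmin⟩ := CfsgLib.Coprime.exists_minimal_normal_le
    ((CfsgLib.PGroup.pCore_ne_bot_or_pPrimeCore_ne_bot hps).resolve_right fun h => h hA)
  haveI := hMn
  have hMp : IsPGroup p M := (CfsgLib.Coprime.pCore_isPGroup p).to_le hMle
  haveI : Group.IsSolvable M := by haveI := hMp.isNilpotent; infer_instance
  exact core_contradiction hpq hqs hA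
    (fun χ hχ => h1 χ hχ fun n hn => by rw [hA, Subgroup.mem_bot] at hn; rw [hn])
    M hMp (CfsgLib.Coprime.minimal_normal_solvable hM1 hMmin).1 hMmin (hquot M hM1).1 (hquot M hM1).2 hqG

private theorem degree_prime_to {G : Type u} [Group G] [Finite G] (A : Subgroup G) [A.Normal] {q : ℕ}
    (hA : ¬ q ∣ A.index) (χ : IrrCharacter G) (hχ : ∀ n ∈ A, (χ : G → ℂ) n = (χ : G → ℂ) 1) :
    ¬ q ∣ charDegree (χ : G → ℂ) := by
  obtain ⟨χ', hirr, he⟩ := exists_isIrr_quotient χ.2 A hχ
  obtain ⟨d, -, hd⟩ := isIrrCharacter_degree hirr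
  have hd' : charDegree (χ : G → ℂ) = d := by
    rw [Cfsg.charDegree, ← he 1, QuotientGroup.mk_one, hd, Complex.natCast_re, Nat.floor_natCast]
  rw [hd']
  refine fun h => hA (h.trans ?_)
  rw [Subgroup.index_eq_card]
  exact degree_dvd_card ⟨χ', hirr⟩ hd

private theorem index_of_commuting {G : Type u} [Group G] [Finite G] {p q : ℕ} [Fact p.Prime] [Fact q.Prime]
    (hpq : p ≠ q) (hps : IsPSolvable p G) (P : Sylow p G) (Q : Sylow q G)
    (h : ∀ x ∈ (P : Subgroup G), ∀ y ∈ (Q : Subgroup G), x * y = y * x) :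
    ¬ q ∣ (pPrimeCore p G).index := by
  set π := QuotientGroup.mk' (pPrimeCore p G) with hπ
  have hsurj : Function.Surjective π := QuotientGroup.mk'_surjective _
  haveI := CfsgLib.Coprime.pCore_normal' (G := G ⧸ pPrimeCore p G) p
  have hcent := CfsgLib.Block.centralizer_pCore_le_of_isPSolvable
    (CfsgLib.PGroup.isPSolvable_quotient (Fact.out : p.Prime) hps (pPrimeCore p G))
    (CfsgLib.Coprime.pPrimeCore_quotient_eq_bot (Fact.out : p.Prime))
  have hle : pCore p (G ⧸ pPrimeCore p G) ≤ (P : Subgroup G).map π := by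
    have hP := (P.mapSurjective hsurj)
    exact le_sup_right.trans (le_of_eq ((P.mapSurjective hsurj).3
      ((P.mapSurjective hsurj).2.to_sup_of_normal_right (CfsgLib.Coprime.pCore_isPGroup p)) le_sup_left))
  have hQle : (Q : Subgroup G) ≤ pPrimeCore p G := by
    intro y hy
    have h1 : π y ∈ pCore p (G ⧸ pPrimeCore p G) := hcent (Subgroup.mem_centralizer_iff.2 fun z hz => by
      obtain ⟨x, hx, rfl⟩ := hle hz
      rw [← map_mul, ← map_mul, h x hx y hy])
    obtain ⟨k, hk⟩ := IsPGroup.iff_card.1 (CfsgLib.Coprime.pCore_isPGroup (G := G ⧸ pPrimeCore p G) p)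
    obtain ⟨l, hl⟩ := IsPGroup.iff_card.1 Q.2
    have h2 : orderOf (π y) = 1 := Nat.eq_one_of_dvd_coprimes
      (Nat.Coprime.pow l k ((Nat.coprime_primes (Fact.out : q.Prime) (Fact.out : p.Prime)).2 hpq.symm))
      ((orderOf_map_dvd π y).trans (hl ▸ Subgroup.orderOf_dvd_natCard _ hy))
      (hk ▸ Subgroup.orderOf_dvd_natCard _ h1)
    exact (QuotientGroup.eq_one_iff y).1 (orderOf_eq_one_iff.1 h2)
  exact fun hd => Q.not_dvd_index (hd.trans (Subgroup.index_dvd_of_le hQle))

private theorem commuting_of_index {G : Type u} [Group G] [Finite G] {p q : ℕ} [Fact p.Prime] [Fact q.Prime]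
    (hA : ¬ q ∣ (pPrimeCore p G).index) (hB : ¬ p ∣ (pPrimeCore q G).index) :
    ∃ (P : Sylow p G) (Q : Sylow q G), ∀ x ∈ (P : Subgroup G), ∀ y ∈ (Q : Subgroup G), x * y = y * x := by
  set A := pPrimeCore p G with hAd
  set B := pPrimeCore q G with hBd
  obtain ⟨P⟩ : Nonempty (Sylow p G) := inferInstance
  obtain ⟨s, hs⟩ := IsPGroup.iff_card.1 P.2
  have hcop : (Nat.card (P : Subgroup G)).Coprime (Nat.card A) := by
    rw [hs]; exact Nat.Coprime.pow_left s (CfsgLib.Coprime.pPrimeCore_coprime (Fact.out : p.Prime)).symm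
  have hsol : Group.IsSolvable (P : Subgroup G) := by
    haveI := P.2.isNilpotent
    infer_instance
  obtain ⟨Q, hQ, hPQ⟩ := CfsgLib.Coprime.exists_invariant_sylow (K := A)
    (show (P : Subgroup G) ≤ Subgroup.normalizer (A : Set G) by
      rw [Subgroup.normalizer_eq_top_iff.2 inferInstance]; exact le_top) hcop (Or.inl hsol) q
  have hQc : Nat.card Q = q ^ (Nat.card G).factorization q := by
    rw [hQ.2, ← A.card_mul_index, Nat.factorization_mul Nat.card_pos.ne' Subgroup.index_ne_zero_of_finite,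
      Finsupp.add_apply, Nat.factorization_eq_zero_of_not_dvd hA, add_zero]
  refine ⟨P, Sylow.ofCard Q hQc, fun x hx y hy => ?_⟩
  have hPB : x ∈ B := by
    have h1 : orderOf (QuotientGroup.mk' B x) = 1 := by
      refine Nat.eq_one_of_dvd_coprimes (Nat.Coprime.pow_left s ((Fact.out : p.Prime).coprime_iff_not_dvd.2 hB)) ?_
        (Subgroup.index_eq_card B ▸ orderOf_dvd_natCard _)
      exact (orderOf_map_dvd _ x).trans (hs ▸ Subgroup.orderOf_dvd_natCard _ hx)
    exact (QuotientGroup.eq_one_iff x).1 (orderOf_eq_one_iff.1 h1)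
  have h2 : x * y * x⁻¹ * y⁻¹ ∈ Q ⊓ B := by
    refine ⟨Q.mul_mem ((Subgroup.mem_normalizer_iff.1 (hPQ hx) y).1 hy) (Q.inv_mem hy), ?_⟩
    have h3 := B.mul_mem hPB ((inferInstance : B.Normal).conj_mem _ (B.inv_mem hPB) y)
    rwa [show x * y * x⁻¹ * y⁻¹ = x * (y * x⁻¹ * y⁻¹) by group]
  rw [Subgroup.inf_eq_bot_of_coprime (by
    rw [hQc]
    exact Nat.Coprime.pow_left _ ((Fact.out : q.Prime).coprime_iff_not_dvd.2
      ((Fact.out : q.Prime).coprime_iff_not_dvd.1
        (CfsgLib.Coprime.pPrimeCore_coprime (Fact.out : q.Prime)).symm))), Subgroup.mem_bot] at h2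
  exact mul_inv_eq_iff_eq_mul.1 (mul_inv_eq_one.1 h2)

end Global


end

/-- Let p ≠ q be primes and G a finite group that is p-solvable and q-solvable. Fix maximal ideals of the algebraic integers containing p and q, defining the principal p-block and the principal q-block. Then every irreducible character of degree prime to p in the principal p-block has degree prime to q and every irreducible character of degree prime to q in the principal q-block has degree prime to p, if and only if some Sylow p-subgroup of G commutes elementwise with some Sylow q-subgroup. -/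
theorem result {G : Type*} [Group G] [Finite G] (p q : ℕ) [Fact p.Prime] [Fact q.Prime] (hpq : p ≠ q) (Mp Mq : Ideal Cfsg.AlgInt) (hMp : Cfsg.IsPModular p Mp) (hMq : Cfsg.IsPModular q Mq) (hps : Cfsg.IsPSolvable p G) (hqs : Cfsg.IsPSolvable q G) : ((∀ χ : Cfsg.IrrCharacter G, χ ∈ Cfsg.principalBlock Mp G → ¬ p ∣ Cfsg.charDegree (χ : G → ℂ) → ¬ q ∣ Cfsg.charDegree (χ : G → ℂ)) ∧ (∀ χ : Cfsg.IrrCharacter G, χ ∈ Cfsg.principalBlock Mq G → ¬ q ∣ Cfsg.charDegree (χ : G → ℂ) → ¬ p ∣ Cfsg.charDegree (χ : G → ℂ))) ↔ ∃ (P : Sylow p G) (Q : Sylow q G), ∀ x ∈ (P : Subgroup G), ∀ y ∈ (Q : Subgroup G), x * y = y * x := by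
  classical
  haveI := Fintype.ofFinite G
  haveI := hMp.2.1
  haveI := hMq.2.1
  constructor
  · rintro ⟨h1, h2⟩
    have h1' : ∀ χ : Cfsg.IrrCharacter G, ¬ p ∣ Cfsg.charDegree (χ : G → ℂ) →
        (∀ n ∈ Cfsg.pPrimeCore p G, (χ : G → ℂ) n = (χ : G → ℂ) 1) →
        ¬ q ∣ Cfsg.charDegree (χ : G → ℂ) := fun χ hd hn =>
      h1 χ ((CfsgLib.Block.PSolvablePrincipal.mem_iff hMp hps χ).2 hn) hd
    have h2' : ∀ χ : Cfsg.IrrCharacter G, ¬ q ∣ Cfsg.charDegree (χ : G → ℂ) →
        (∀ n ∈ Cfsg.pPrimeCore q G, (χ : G → ℂ) n = (χ : G → ℂ) 1) →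
        ¬ p ∣ Cfsg.charDegree (χ : G → ℂ) := fun χ hd hn =>
      h2 χ ((CfsgLib.Block.PSolvablePrincipal.mem_iff hMq hqs χ).2 hn) hd
    exact commuting_of_index (index_prime_cores _ G rfl p q hpq hps hqs h1' h2')
      (index_prime_cores _ G rfl q p hpq.symm hqs hps h2' h1')
  · rintro ⟨P, Q, h⟩
    refine ⟨fun χ hχ _ => ?_, fun χ hχ _ => ?_⟩
    · exact degree_prime_to (Cfsg.pPrimeCore p G) (index_of_commuting hpq hps P Q h) χ
        ((CfsgLib.Block.PSolvablePrincipal.mem_iff hMp hps χ).1 hχ)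
    · exact degree_prime_to (Cfsg.pPrimeCore q G)
        (index_of_commuting hpq.symm hqs Q P fun y hy x hx => (h x hx y hy).symm) χ
        ((CfsgLib.Block.PSolvablePrincipal.mem_iff hMq hqs χ).1 hχ)

end Cfsg.Agent.S4886
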