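import Cfsg.Statements.S4888
import Cfsg.Agent.Lib.Block.PrincipalResidual

set_option autoImplicit false
open Cfsg CfsgLib.Block

namespace Cfsg.Agent.S4888

/-- Let G be a finite group, p a prime and M a maximal ideal of the algebraic integers containing p. Then all height-zero irreducible characters of the principal p-block of G (equivalently, all its characters of degree prime to p) have the same degree if and only if G has a normal p-complement. -/
theorem result {G : Type*} [Group G] [Finite G] (p : ℕ) [Fact p.Prime] (M : Ideal Cfsg.AlgInt) (hM : Cfsg.IsPModular p M) : (∃ d : ℕ, ∀ χ : Cfsg.IrrCharacter G, χ ∈ (Cfsg.principalBlock M G) → Cfsg.blockHeight p (Cfsg.principalBlock M G) (χ : G → ℂ) = 0 → Cfsg.charDegree (χ : G → ℂ) = d) ↔ Cfsg.HasNormalPComplement p G := by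
  classical
  have := Fintype.ofFinite G
  have : M.IsMaximal := hM.2.1
  have := Fintype.ofFinite (IrrCharacter G)
  constructor
  · rintro ⟨d, hd⟩
    have h1 : charDegree (oneChar G : G → ℂ) = 1 := by simp [charDegree, oneChar]
    have hd1 : d = 1 := (hd (oneChar G) one_mem_principalBlock
      ((blockHeight_principal_eq_zero_iff hM.1 one_mem_principalBlock).mpr
        (h1 ▸ hM.1.not_dvd_one))).symm.trans h1
    exact CfsgLib.Fusion.hasNormalPComplement_iff_not_dvd.mpr (not_dvd_card_pResidual hM fun χ hχ hp =>
      (hd χ hχ ((blockHeight_principal_eq_zero_iff hM.1 hχ).mpr hp)).trans hd1)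
  · exact fun h => ⟨1, fun χ hχ h0 => charDegree_eq_one_of_normalPComplement hM h hχ
      ((blockHeight_principal_eq_zero_iff hM.1 hχ).mp h0)⟩

end Cfsg.Agent.S4888
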