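import Cfsg.Statements.S4911
import Cfsg.Agent.S4444
import Cfsg.Agent.Lib.Char.Counting
import Cfsg.Agent.Lib.Block.Glauberman

set_option autoImplicit false
open Cfsg

namespace Cfsg.Agent.S4911

/-- Let P and K be subgroups of a finite group with P a p-group normalizing K and K of order prime to p. Then the number of P-invariant real-valued irreducible complex characters of K equals the number of conjugacy classes of K that are real (closed under inversion) and P-invariant. Moreover, if every real-valued irreducible character of K is P-invariant, then every real element of K (one conjugate in K to its inverse) is conjugate in K to an element centralized by P. -/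
theorem result {G : Type*} [Group G] [Finite G] (p : ℕ) [Fact p.Prime] (P K : Subgroup G) (hP : IsPGroup p ↥P) (hK : ¬ p ∣ Nat.card ↥K) (hPK : P ≤ Subgroup.normalizer (K : Set G)) : Nat.card {θ : Cfsg.IrrCharacter ↥K // (∀ k : ↥K, ((θ : ↥K → ℂ) k).im = 0) ∧ (∀ x ∈ P, ∀ k k' : ↥K, (k' : G) = x * (k : G) * x⁻¹ → (θ : ↥K → ℂ) k' = (θ : ↥K → ℂ) k)} = Nat.card {c : ConjClasses ↥K // (∀ k : ↥K, ConjClasses.mk k = c → IsConj k k⁻¹) ∧ ∀ k : ↥K, ConjClasses.mk k = c → ∀ x ∈ P, ∀ k' : ↥K, (k' : G) = x * (k : G) * x⁻¹ → ConjClasses.mk k' = c} ∧ ((∀ θ : Cfsg.IrrCharacter ↥K, (∀ k : ↥K, ((θ : ↥K → ℂ) k).im = 0) → (∀ x ∈ P, ∀ k k' : ↥K, (k' : G) = x * (k : G) * x⁻¹ → (θ : ↥K → ℂ) k' = (θ : ↥K → ℂ) k)) → ∀ k : ↥K, IsConj k k⁻¹ → ∃ k' : ↥K, IsConj k k' ∧ ∀ x ∈ P, x * (k' : G) * x⁻¹ = (k' : G)) := by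
  classical
  have hp : p.Prime := Fact.out
  have := Fintype.ofFinite G
  have := Fintype.ofFinite K
  have hnorm : ∀ s ∈ P, ∀ g ∈ K, s * g * s⁻¹ ∈ K := fun s hs g hg =>
    (Subgroup.mem_normalizer_iff.mp (hPK hs) g).mp hg
  set C : Subgroup G := K ⊓ Subgroup.centralizer (P : Set G) with hC
  have := Fintype.ofFinite C
  have hCK : C ≤ K := inf_le_left
  have hcop : (Nat.card K).Coprime (Nat.card P) := by
    obtain ⟨n, hn⟩ := IsPGroup.iff_card.mp hP
    rw [hn]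
    exact ((hp.coprime_iff_not_dvd.mpr hK).symm).pow_right n
  obtain ⟨hdown, -, hinj, hup⟩ := Cfsg.Agent.S4444.result K P hnorm hcop p hp hP C rfl hCK
  haveI : Nonempty (IrrCharacter C) := ⟨⟨fun _ => 1, CfsgLib.Char.isIrrCharacter_one⟩⟩
  choose! β hβ huni using hdown
  -- complex conjugation commutes with the correspondence
  have hcj : ∀ (θ : IrrCharacter K) (γ γ' : IrrCharacter C) (m : ℕ),
      (∀ k : K, ((θ : K → ℂ) k).im = 0) →
      (γ' : C → ℂ) = (fun c => (starRingEnd ℂ) ((γ : C → ℂ) c)) →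
      Cfsg.classInner (fun c : C => (θ : K → ℂ) ⟨c, hCK c.2⟩) (γ : C → ℂ) = (m : ℂ) →
      Cfsg.classInner (fun c : C => (θ : K → ℂ) ⟨c, hCK c.2⟩) (γ' : C → ℂ) = (m : ℂ) := by
    intro θ γ γ' m hre hγ hm
    rw [← Complex.conj_natCast (n := m), ← hm, Cfsg.classInner, Cfsg.classInner, map_mul, map_inv₀,
      Complex.conj_natCast, map_sum, hγ]
    refine congrArg _ (Finset.sum_congr rfl fun c _ => ?_)
    rw [map_mul, Complex.conj_eq_iff_im.mpr (hre _)]
  have hirrC : ∀ γ : IrrCharacter C, IsIrrCharacter C (fun c => (starRingEnd ℂ) ((γ : C → ℂ) c)) := by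
    intro γ
    have h := CfsgLib.Char.irr_inv_isIrr γ
    simp only [CfsgLib.Char.irr_inv] at h
    exact h
  let InvP : IrrCharacter K → Prop := fun θ =>
    ∀ x ∈ P, ∀ k k' : K, (k' : G) = x * (k : G) * x⁻¹ → (θ : K → ℂ) k' = (θ : K → ℂ) k
  have hbreal : ∀ θ : IrrCharacter K, (∀ k : K, ((θ : K → ℂ) k).im = 0) → InvP θ →
      ∀ c : C, ((β θ : C → ℂ) c).im = 0 := by
    intro θ hre hinv c
    obtain ⟨m, hm, hpm⟩ := hβ θ hinv
    have h := huni θ hinv ⟨_, hirrC (β θ)⟩ ⟨m, hcj θ (β θ) _ m hre rfl hm, hpm⟩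
    exact Complex.conj_eq_iff_im.mp (congrFun (congrArg Subtype.val h) c)
  have hreal_of : ∀ θ : IrrCharacter K, InvP θ → ∀ γ : IrrCharacter C, (∀ c : C, ((γ : C → ℂ) c).im = 0) →
      ∀ m : ℕ, Cfsg.classInner (fun c : C => (θ : K → ℂ) ⟨c, hCK c.2⟩) (γ : C → ℂ) = (m : ℂ) →
        ¬ p ∣ m → ∀ k : K, ((θ : K → ℂ) k).im = 0 := by
    intro θ hinv γ hre m hm hpm k
    have hθ' : IsIrrCharacter K (fun k => (starRingEnd ℂ) ((θ : K → ℂ) k)) := by
      have h := CfsgLib.Char.irr_inv_isIrr θ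
      simp only [CfsgLib.Char.irr_inv] at h
      exact h
    have h := hinj θ ⟨_, hθ'⟩ hinv (fun s hs g g' e => by
      show (starRingEnd ℂ) _ = (starRingEnd ℂ) _
      rw [hinv s hs g g' e]) γ m m hm hpm (by
      rw [← Complex.conj_natCast (n := m), ← hm, Cfsg.classInner, Cfsg.classInner, map_mul, map_inv₀,
        Complex.conj_natCast, map_sum]
      refine congrArg _ (Finset.sum_congr rfl fun c _ => ?_)
      simp only [map_mul, Complex.conj_eq_iff_im.mpr (hre c)]) hpm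
    exact Complex.conj_eq_iff_im.mp (congrFun (congrArg Subtype.val h) k).symm
  let RI := {θ : IrrCharacter K // (∀ k : K, ((θ : K → ℂ) k).im = 0) ∧ InvP θ}
  let RC := {γ : IrrCharacter C // ∀ c : C, ((γ : C → ℂ) c).im = 0}
  have e1 : Nat.card RI = Nat.card RC := by
    refine Nat.card_eq_of_bijective (fun θ : RI => (⟨β θ.1, hbreal θ.1 θ.2.1 θ.2.2⟩ : RC)) ⟨?_, ?_⟩
    · intro a b e
      have e' : β a.1 = β b.1 := congrArg Subtype.val e
      obtain ⟨m, hm, hpm⟩ := hβ a.1 a.2.2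
      obtain ⟨m', hm', hpm'⟩ := hβ b.1 b.2.2
      rw [← e'] at hm'
      exact Subtype.ext (hinj a.1 b.1 a.2.2 b.2.2 (β a.1) m m' hm hpm hm' hpm')
    · intro γ
      obtain ⟨θ, hinv, m, hm, hpm⟩ := hup γ.1
      exact ⟨⟨θ, hreal_of θ hinv γ.1 γ.2 m hm hpm, hinv⟩,
        Subtype.ext (huni θ hinv γ.1 ⟨m, hm, hpm⟩).symm⟩
  -- the classes
  let RK : ConjClasses K → Prop := fun c => (∀ k : K, ConjClasses.mk k = c → IsConj k k⁻¹) ∧
    ∀ k : K, ConjClasses.mk k = c → ∀ x ∈ P, ∀ k' : K, (k' : G) = x * (k : G) * x⁻¹ → ConjClasses.mk k' = c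
  have hfix : ∀ (k : K), (∀ x ∈ P, ∀ k' : K, (k' : G) = x * (k : G) * x⁻¹ → ConjClasses.mk k' = ConjClasses.mk k) →
      ∃ k' : K, IsConj k k' ∧ ∀ x ∈ P, x * (k' : G) * x⁻¹ = (k' : G) := by
    intro k hinv
    let X := {y : K // IsConj k y}
    let act : MulAction P X :=
      { smul := fun s y => ⟨⟨s * y.1 * (s : G)⁻¹, hnorm s s.2 y.1 y.1.2⟩, by
          obtain ⟨z, hz⟩ := isConj_iff.mp y.2
          have h1 := ConjClasses.mk_eq_mk_iff_isConj.mp
            (hinv s s.2 ⟨s * k * (s : G)⁻¹, hnorm s s.2 k k.2⟩ rfl)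
          refine h1.symm.trans (isConj_iff.mpr ⟨⟨s * z * (s : G)⁻¹, hnorm s s.2 z z.2⟩, Subtype.ext ?_⟩)
          show (s : G) * z * (s : G)⁻¹ * (s * k * (s : G)⁻¹) * ((s : G) * z * (s : G)⁻¹)⁻¹ = s * y.1 * (s : G)⁻¹
          rw [← hz]; simp only [Subgroup.coe_mul, InvMemClass.coe_inv]; group⟩
        one_smul := fun y => Subtype.ext (Subtype.ext (by
          show ((1 : P) : G) * y.1 * ((1 : P) : G)⁻¹ = y.1
          simp))
        mul_smul := fun s t y => Subtype.ext (Subtype.ext (by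
          show ((s * t : P) : G) * y.1 * ((s * t : P) : G)⁻¹ = (s : G) * ((t : G) * y.1 * (t : G)⁻¹) * (s : G)⁻¹
          rw [Subgroup.coe_mul]; group)) }
    have hX : Nat.card X ∣ Nat.card K := by
      rw [CfsgLib.Char.card_isConj]
      exact Subgroup.index_dvd_card _
    obtain ⟨y, hy⟩ := hP.nonempty_fixed_point_of_prime_not_dvd_card X fun h => hK (h.trans hX)
    exact ⟨y.1, y.2, fun x hx => congrArg (fun w : X => (w.1 : G)) (hy ⟨x, hx⟩)⟩
  have hmemC : ∀ k : K, (∀ x ∈ P, x * (k : G) * x⁻¹ = (k : G)) → (k : G) ∈ C := fun k hk =>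
    ⟨k.2, Subgroup.mem_centralizer_iff.mpr fun x hx => mul_inv_eq_iff_eq_mul.mp (hk x hx)⟩
  let f : C →* K := Subgroup.inclusion hCK
  have hconjC : ∀ c d : C, IsConj (f c) (f d) → IsConj c d := fun c d h => by
    obtain ⟨z, hz⟩ := isConj_iff.mp h
    exact CfsgLib.Block.Glauberman.isConj_of_isConj rfl hP hnorm hK ⟨z, z.2, congrArg Subtype.val hz⟩
  have e2 : Nat.card {c : ConjClasses C // ∀ x : C, ConjClasses.mk x = c → IsConj x x⁻¹} =
      Nat.card {c : ConjClasses K // RK c} := by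
    refine Nat.card_eq_of_bijective (fun c => (⟨ConjClasses.map f c.1, ?_⟩ : {c : ConjClasses K // RK c})) ⟨?_, ?_⟩
    · obtain ⟨⟨x⟩, hx⟩ := c
      refine ⟨fun k hk => ?_, fun k hk s hs k' hk' => ?_⟩
      · have h1 : IsConj k (f x) := ConjClasses.mk_eq_mk_iff_isConj.mp hk
        obtain ⟨z, hz⟩ := isConj_iff.mp h1
        have h2 : IsConj k⁻¹ (f x)⁻¹ := isConj_iff.mpr ⟨z, by rw [← hz]; group⟩
        refine h1.trans (IsConj.trans ?_ h2.symm)
        rw [← map_inv]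
        exact f.map_isConj (hx x rfl)
      · obtain ⟨z, hz⟩ := isConj_iff.mp (ConjClasses.mk_eq_mk_iff_isConj.mp hk)
        refine ConjClasses.mk_eq_mk_iff_isConj.mpr
          (isConj_iff.mpr ⟨⟨s * z * s⁻¹, hnorm s hs z z.2⟩, Subtype.ext ?_⟩)
        show s * (z : G) * s⁻¹ * k' * (s * (z : G) * s⁻¹)⁻¹ = (x : G)
        have hxs : s * (x : G) * s⁻¹ = x := by
          rw [Subgroup.mem_centralizer_iff.mp x.2.2 s hs, mul_inv_cancel_right]
        conv_rhs => rw [← hxs]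
        rw [show (x : G) = (z : G) * k * (z : G)⁻¹ from (congrArg Subtype.val hz).symm, hk']
        group
    · intro a b e
      obtain ⟨⟨x⟩, hx⟩ := a
      obtain ⟨⟨y⟩, hy⟩ := b
      exact Subtype.ext (ConjClasses.mk_eq_mk_iff_isConj.mpr
        (hconjC x y (ConjClasses.mk_eq_mk_iff_isConj.mp (congrArg Subtype.val e))))
    · rintro ⟨c, hc1, hc2⟩
      obtain ⟨k, rfl⟩ := ConjClasses.exists_rep c
      obtain ⟨k', hkk', hk'⟩ := hfix k (hc2 k rfl)
      let x : C := ⟨(k' : G), hmemC k' hk'⟩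
      have hfx : f x = k' := Subtype.ext rfl
      refine ⟨⟨ConjClasses.mk x, fun w hw => ?_⟩, Subtype.ext ?_⟩
      · refine hconjC w w⁻¹ ?_
        have h1 : IsConj (f w) k' := hfx ▸ f.map_isConj (ConjClasses.mk_eq_mk_iff_isConj.mp hw)
        have h3 : IsConj k' k'⁻¹ := hc1 k' (ConjClasses.mk_eq_mk_iff_isConj.mpr hkk'.symm)
        obtain ⟨z, hz⟩ := isConj_iff.mp h1
        have h2 : IsConj (f w)⁻¹ k'⁻¹ := isConj_iff.mpr ⟨z, by rw [← hz]; group⟩
        rw [map_inv]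
        exact (h1.trans h3).trans h2.symm
      · show ConjClasses.mk (f x) = ConjClasses.mk k
        rw [hfx]
        exact ConjClasses.mk_eq_mk_iff_isConj.mpr hkk'.symm
  have hmain : Nat.card RI = Nat.card {c : ConjClasses K // RK c} :=
    e1.trans ((CfsgLib.Char.card_real_irr (G := C)).trans e2)
  refine ⟨hmain, fun hall k hk => hfix k fun x hx k' hk' => ?_⟩
  have e3 : Nat.card RI = Nat.card {c : ConjClasses K // ∀ k : K, ConjClasses.mk k = c → IsConj k k⁻¹} := by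
    rw [← CfsgLib.Char.card_real_irr (G := K)]
    exact Nat.card_congr (Equiv.subtypeEquivRight fun θ => ⟨fun h => h.1, fun h => ⟨h, hall θ h⟩⟩)
  have hsurj := ((Nat.bijective_iff_injective_and_card
    (fun c : {c : ConjClasses K // RK c} =>
      (⟨c.1, c.2.1⟩ : {c : ConjClasses K // ∀ k : K, ConjClasses.mk k = c → IsConj k k⁻¹}))).mpr
    ⟨fun a b e => Subtype.ext (congrArg (fun w : {c : ConjClasses K //
      ∀ k : K, ConjClasses.mk k = c → IsConj k k⁻¹} => w.1) e), hmain.symm.trans e3⟩).2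
  obtain ⟨⟨c, hc⟩, hck⟩ := hsurj ⟨ConjClasses.mk k, fun u hu => by
    have h1 := ConjClasses.mk_eq_mk_iff_isConj.mp hu
    obtain ⟨z, hz⟩ := isConj_iff.mp h1
    exact (h1.trans hk).trans (isConj_iff.mpr ⟨z, by rw [← hz]; group⟩ : IsConj u⁻¹ k⁻¹).symm⟩
  have hck' : c = ConjClasses.mk k := congrArg Subtype.val hck
  subst hck'
  exact hc.2 k rfl x hx k' hk'

end Cfsg.Agent.S4911
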