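import Cfsg.Statements.S4912
import Cfsg.Agent.Lib.Char.LinearTimesExtension
import Cfsg.Agent.Lib.Char.EigenDegree

set_option autoImplicit false
open Cfsg

namespace Cfsg.Agent.S4912

/-- Let G be a finite group with a non-abelian minimal normal subgroup N, and let φ be an irreducible complex character of N with stabilizer I in G such that φ extends to an irreducible character of I with Frobenius–Schur indicator +1. Put d = φ(1)·[G : I]. Then the number of linear characters of G with Frobenius–Schur indicator +1 is at most [G : I] times the number of irreducible characters of G of degree d with Frobenius–Schur indicator +1. -/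
theorem result {G : Type*} [Group G] [Finite G] (N : Subgroup G) (hN : N.Normal) (hN1 : N ≠ ⊥) (hmin : ∀ M : Subgroup G, M.Normal → M ≤ N → M = ⊥ ∨ M = N) (hna : ¬ IsMulCommutative ↥N) (φ : Cfsg.IrrCharacter ↥N) (I : Subgroup G) (hI : ∀ g : G, g ∈ I ↔ ∀ n n' : ↥N, (n' : G) = g * (n : G) * g⁻¹ → (φ : ↥N → ℂ) n' = (φ : ↥N → ℂ) n) (hNI : N ≤ I) (hext : ∃ ψ : Cfsg.IrrCharacter ↥I, (Nat.card ↥I : ℂ)⁻¹ * ∑ᶠ g : ↥I, (ψ : ↥I → ℂ) (g * g) = 1 ∧ ∀ n : ↥N, (ψ : ↥I → ℂ) (Subgroup.inclusion hNI n) = (φ : ↥N → ℂ) n) : Nat.card {χ : Cfsg.IrrCharacter G // Cfsg.charDegree (χ : G → ℂ) = 1 ∧ (Nat.card G : ℂ)⁻¹ * ∑ᶠ g : G, (χ : G → ℂ) (g * g) = 1} ≤ I.index * Nat.card {χ : Cfsg.IrrCharacter G // Cfsg.charDegree (χ : G → ℂ) = Cfsg.charDegree (φ : ↥N → ℂ) * I.index ∧ (Nat.card G : ℂ)⁻¹ * ∑ᶠ g : G, (χ : G → ℂ) (g * g) = 1} := by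
  classical
  haveI := Fintype.ofFinite G
  haveI := hN
  haveI := Fintype.ofFinite N
  obtain ⟨ψ, hψ1, hψ⟩ := hext
  have hIe : I = CfsgLib.Char.inertia N (φ : N → ℂ) := by
    ext g
    rw [hI, CfsgLib.Char.mem_inertia]
    refine ⟨fun h => funext fun n => ?_, fun h n n' e => ?_⟩
    · exact h n ⟨g * n * g⁻¹, hN.conj_mem n n.2 g⟩ rfl
    · have := congrFun h n
      rw [← this]
      exact congrArg _ (Subtype.ext e)
  subst hIe
  haveI := Fintype.ofFinite (CfsgLib.Char.inertia N (φ : N → ℂ))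
  have hperf : ∀ f : G →* ℂˣ, ∀ n ∈ N, f n = 1 := fun f n hn =>
    CfsgLib.Char.LinearTimesExtension.hom_eq_one_of_perfect N hN1 hmin hna f hn
  rw [finsum_eq_sum_of_fintype] at hψ1
  have hind : ∀ (F : G → ℂ), (Nat.card G : ℂ)⁻¹ * ∑ᶠ g : G, F (g * g) = CfsgLib.Char.sqInd F := fun F => by
    rw [finsum_eq_sum_of_fintype]; rfl
  have hP : ∀ f : G →* ℂˣ, CfsgLib.Char.sqInd (fun g => ((f g : ℂˣ) : ℂ)) = 1 →
      CfsgLib.Char.sqInd (CfsgLib.Char.LinearTimesExtension.liftFun N φ ψ f) = 1 := by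
    intro f hf
    -- `f` has exponent two
    have hsq : ∀ g : G, f g * f g = 1 := by
      by_contra hc
      have hne : f * f ≠ 1 := fun e => hc fun g => DFunLike.congr_fun e g
      have h := CfsgLib.Char.classInner_irr_ne (χ := (CfsgLib.Char.linearCharEquiv (f * f)).1)
        (ψ := (CfsgLib.Char.linearCharEquiv (1 : G →* ℂˣ)).1)
        fun e => hne (CfsgLib.Char.linearCharEquiv.injective (Subtype.ext e))
      refine one_ne_zero (hf.symm.trans ((Eq.trans ?_ h)))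
      rw [CfsgLib.Char.sqInd, Cfsg.classInner]
      refine congrArg _ (Finset.sum_congr rfl fun g _ => ?_)
      show ((f (g * g) : ℂˣ) : ℂ) = (((f * f) g : ℂˣ) : ℂ) * (starRingEnd ℂ) (((1 : G →* ℂˣ) g : ℂˣ) : ℂ)
      simp [map_mul]
    let θ : Cfsg.IrrCharacter (CfsgLib.Char.inertia N (φ : N → ℂ)) :=
      ⟨_, CfsgLib.Char.isIrrCharacter_mul_linear ψ (f.comp (CfsgLib.Char.inertia N (φ : N → ℂ)).subtype)⟩
    refine CfsgLib.Char.LinearTimesExtension.sqInd_indFun N φ hNI θ (fun n => ?_) ?_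
    · show ((f ((n : G)) : ℂˣ) : ℂ) * (ψ : CfsgLib.Char.inertia N (φ : N → ℂ) → ℂ) (Subgroup.inclusion hNI n) = _
      rw [hperf f n n.2, Units.val_one, one_mul, hψ]
    · rw [← hψ1, CfsgLib.Char.sqInd]
      refine congrArg _ (Finset.sum_congr rfl fun t _ => ?_)
      show ((f ((t : G) * (t : G)) : ℂˣ) : ℂ) * _ = _
      rw [map_mul, hsq, Units.val_one, one_mul]
  have hmain := CfsgLib.Char.LinearTimesExtension.linear_count N φ hNI ψ hψ hperf
    (fun f => CfsgLib.Char.sqInd (fun g => ((f g : ℂˣ) : ℂ)) = 1)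
    (fun χ => CfsgLib.Char.sqInd (χ : G → ℂ) = 1) hP
  have e1 : Nat.card {χ : Cfsg.IrrCharacter G // Cfsg.charDegree (χ : G → ℂ) = 1 ∧
      CfsgLib.Char.sqInd (χ : G → ℂ) = 1} =
      Nat.card {f : G →* ℂˣ // CfsgLib.Char.sqInd (fun g => ((f g : ℂˣ) : ℂ)) = 1} := by
    let e : {χ : Cfsg.IrrCharacter G // Cfsg.charDegree (χ : G → ℂ) = 1 ∧
      CfsgLib.Char.sqInd (χ : G → ℂ) = 1} ≃
        {w : {χ : Cfsg.IrrCharacter G // (χ : G → ℂ) 1 = 1} // CfsgLib.Char.sqInd (w.1 : G → ℂ) = 1} :=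
      { toFun := fun χ => ⟨⟨χ.1, by rw [CfsgLib.Char.irr_one_eq_charDegree, χ.2.1, Nat.cast_one]⟩, χ.2.2⟩
        invFun := fun w => ⟨w.1.1, Nat.cast_eq_one.mp ((CfsgLib.Char.irr_one_eq_charDegree w.1.1).symm.trans w.1.2), w.2⟩
        left_inv := fun _ => rfl
        right_inv := fun _ => rfl }
    rw [Nat.card_congr e]
    exact (Nat.card_congr (CfsgLib.Char.linearCharEquiv.subtypeEquiv fun f => Iff.rfl)).symm
  simp only [hind]
  rw [e1]
  exact hmain

end Cfsg.Agent.S4912
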