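import Cfsg.Statements.S4914
import Cfsg.Agent.Lib.Block.SylowNormalAction

set_option autoImplicit false
open Cfsg CfsgLib.Block.SylowNormal

namespace Cfsg.Agent.S4914

/-- Let P and K be subgroups of a finite group G with P a p-group normalizing K, and suppose K has a normal Sylow p-subgroup Q. Let C be the subgroup of those k ∈ K whose commutator with every element of P lies in Q (so that C/Q is the fixed-point subgroup of P on K/Q). Then there is a bijection f from the P-invariant irreducible complex characters of K onto the P-invariant irreducible complex characters of C such that, for every P-invariant irreducible character χ of K, the multiplicity of f(χ) in the restriction of χ to C is a natural number congruent to 1 or to −1 modulo p, every other P-invariant irreducible character of C occurs in that restriction with multiplicity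 divisible by p, and the degrees of χ and f(χ) are congruent modulo p up to sign. -/
theorem result {G : Type*} [Group G] [Finite G] (p : ℕ) [Fact p.Prime] (P K Q C : Subgroup G) (hP : IsPGroup p ↥P) (hPK : P ≤ Subgroup.normalizer (K : Set G)) (hQK : Q ≤ K) (hQn : ∀ k ∈ K, ∀ q ∈ Q, k * q * k⁻¹ ∈ Q) (hQp : ∃ a : ℕ, Nat.card ↥Q = p ^ a) (hQsyl : ¬ p ∣ Q.relIndex K) (hCK : C ≤ K) (hC : ∀ k : G, k ∈ C ↔ (k ∈ K ∧ ∀ x ∈ P, x * k * x⁻¹ * k⁻¹ ∈ Q)) : ∃ f : {χ : Cfsg.IrrCharacter ↥K // (∀ x ∈ P, ∀ k k' : ↥K, (k' : G) = x * (k : G) * x⁻¹ → (χ : ↥K → ℂ) k' = (χ : ↥K → ℂ) k)} → {ξ : Cfsg.IrrCharacter ↥C // (∀ x ∈ P, ∀ k k' : ↥C, (k' : G) = x * (k : G) * x⁻¹ → (ξ : ↥C → ℂ) k' = (ξ : ↥C → ℂ) k)}, Function.Bijective f ∧ ∀ χ, (∀ ξ : {ξ : Cfsg.IrrCharacter ↥C // (∀ x ∈ P, ∀ k k' : ↥C, (k' : G) = x * (k : G) * x⁻¹ → (ξ : ↥C → ℂ) k' = (ξ : ↥C → ℂ) k)}, ∃ m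 : ℕ, (Nat.card ↥C : ℂ)⁻¹ * ∑ᶠ c : ↥C, (χ.1 : ↥K → ℂ) (Subgroup.inclusion hCK c) * (starRingEnd ℂ) ((ξ.1 : ↥C → ℂ) c) = (m : ℂ) ∧ (ξ = f χ → ((m : ZMod p) = 1 ∨ (m : ZMod p) = -1)) ∧ (ξ ≠ f χ → p ∣ m)) ∧ ((Cfsg.charDegree ((f χ).1 : ↥C → ℂ) : ZMod p) = (Cfsg.charDegree (χ.1 : ↥K → ℂ) : ZMod p) ∨ (Cfsg.charDegree ((f χ).1 : ↥C → ℂ) : ZMod p) = -(Cfsg.charDegree (χ.1 : ↥K → ℂ) : ZMod p)) := by
  classical
  have hQP : IsPGroup p Q := IsPGroup.iff_card.mpr hQp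
  have hPK' : ∀ a ∈ P, ∀ g ∈ K, a * g * a⁻¹ ∈ K := fun a ha g hg =>
    (Subgroup.mem_normalizer_iff.mp (hPK ha) g).mp hg
  have hCconj : ∀ a ∈ P, ∀ g ∈ C, a * g * a⁻¹ ∈ C := fun a ha g hg =>
    (hC _).mpr ⟨hPK' a ha g (hCK hg), fun c hc => by
      rw [show c * (a * g * a⁻¹) * c⁻¹ * (a * g * a⁻¹)⁻¹ =
        a * ((a⁻¹ * c * a) * g * (a⁻¹ * c * a)⁻¹ * g⁻¹) * a⁻¹ by group]
      exact conj_mem_Q hQK hQn hQP hQsyl (hPK' a ha)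
        (((hC g).mp hg).2 _ (mul_mem (mul_mem (inv_mem ha) hc) ha))⟩
  obtain ⟨he, hi, hs⟩ := corr_all hQK hQn hQP hQsyl P hP hPK' C hC hCK
  choose f hfinv hfsq hfu using fun χ : {χ : IrrCharacter K // PInv P (χ : K → ℂ)} => he χ.1 χ.2
  have hne : ∀ χ, ¬ p ∣ mult hCK χ.1 (f χ) := fun χ => not_dvd_of_mul_self (hfsq χ)
  refine ⟨fun χ => ⟨f ⟨χ.1, χ.2⟩, hfinv _⟩, ⟨fun χ χ' e => ?_, fun ξ => ?_⟩, fun χ => ⟨fun ξ => ?_, ?_⟩⟩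
  · have e' : f ⟨χ.1, χ.2⟩ = f ⟨χ'.1, χ'.2⟩ := congrArg Subtype.val e
    exact Subtype.ext (hi χ.1 χ'.1 _ χ.2 χ'.2 (hfinv ⟨χ.1, χ.2⟩) (hne ⟨χ.1, χ.2⟩) (e' ▸ hne ⟨χ'.1, χ'.2⟩))
  · obtain ⟨χ, hχ, hn⟩ := hs ξ.1 ξ.2
    exact ⟨⟨χ, hχ⟩, Subtype.ext (by_contra fun h => hn (hfu ⟨χ, hχ⟩ ξ.1 ξ.2 (Ne.symm h)))⟩
  · haveI := Fintype.ofFinite C
    refine ⟨mult hCK χ.1 ξ.1, ?_, fun h => ?_, fun h => hfu ⟨χ.1, χ.2⟩ ξ.1 ξ.2 fun e => h (Subtype.ext e)⟩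
    · rw [← mult_spec hCK χ.1 ξ.1, finsum_eq_sum_of_fintype]
      rfl
    · have h' : ξ.1 = f ⟨χ.1, χ.2⟩ := congrArg Subtype.val h
      rw [h']
      exact mul_self_eq_one_iff.mp (hfsq _)
  · have e := degree_congr hCK hP hCconj χ.1 χ.2 (f ⟨χ.1, χ.2⟩) (hfinv _) (hfu _)
    rcases mul_self_eq_one_iff.mp (hfsq ⟨χ.1, χ.2⟩) with h | h
    · exact Or.inl (by rw [e, h, one_mul])
    · exact Or.inr (by rw [e, h, neg_one_mul, neg_neg])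

end Cfsg.Agent.S4914
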