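import Cfsg.Statements.S4916
import Cfsg.Agent.Lib.Block.Orthogonality
import Cfsg.Agent.Lib.Block.Principal
import Cfsg.Agent.Lib.Block.CoprimeKernel

/-!
# A principal block with one character of p'-degree
-/

set_option autoImplicit false
open Cfsg

namespace Cfsg.Agent.S4916

open CfsgLib CfsgLib.Block
open scoped ComplexConjugate

/-- Let G be a finite group, p a prime and M a maximal ideal of the algebraic integers containing p. Then the principal character is the only irreducible character of degree prime to p in the principal p-block of G if and only if p does not divide the order of G. -/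
theorem result {G : Type*} [Group G] [Finite G] (p : ℕ) [Fact p.Prime] (M : Ideal Cfsg.AlgInt) (hM : Cfsg.IsPModular p M) : (∀ χ : Cfsg.IrrCharacter G, χ ∈ Cfsg.principalBlock M G → ¬ p ∣ Cfsg.charDegree (χ : G → ℂ) → (χ : G → ℂ) = fun _ => (1 : ℂ)) ↔ ¬ p ∣ Nat.card G := by
  classical
  have := hM.2.1
  let _ := Fintype.ofFinite G
  let _ := Fintype.ofFinite (IrrCharacter G)
  constructor
  · intro h hdvd
    obtain ⟨x, hx⟩ := exists_prime_orderOf_dvd_card' (G := G) p hdvd
    have hS := IsBlockUnion.of_isPBlock (isPBlock_principalBlock (M := M) (G := G))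
    have hzero := blockUnion_orthogonal_regular_singular hM hS (g := 1) (h := x)
      (by simp [hM.1.ne_one]) (hx ▸ dvd_rfl)
    rw [finsum_mem_eq_finite_toFinset_sum _ (Set.toFinite _)] at hzero
    have hint : ∀ χ : IrrCharacter G, IsIntegral ℤ (conj ((χ : G → ℂ) x)) := fun χ =>
      IsIntegral.map (starRingEnd ℂ).toIntAlgHom (irr_isIntegral χ x)
    set a : IrrCharacter G → AlgInt := fun χ => ⟨conj ((χ : G → ℂ) x), hint χ⟩
    have hone : oneChar G ∈ principalBlock M G := one_mem_principalBlock
    rw [← Finset.add_sum_erase _ _ ((Set.Finite.mem_toFinset _).mpr hone)] at hzero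
    have hA : (1 : AlgInt) + ∑ χ ∈ ((principalBlock M G).toFinite.toFinset).erase (oneChar G),
        (charDegree (χ : G → ℂ) : AlgInt) * a χ = 0 := by
      apply Subtype.ext
      push_cast
      rw [← hzero]
      congr 1
      · simp [oneChar]
      · refine Finset.sum_congr rfl fun χ _ => ?_
        simp [a, ← (charDegree_eq χ).1]
    have hmem : ∑ χ ∈ ((principalBlock M G).toFinite.toFinset).erase (oneChar G),
        (charDegree (χ : G → ℂ) : AlgInt) * a χ ∈ M := by
      refine Ideal.sum_mem _ fun χ hχ => Ideal.mul_mem_right _ _ ((natCast_mem_iff hM _).mpr ?_)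
      by_contra hd
      obtain ⟨hne, hχ'⟩ := Finset.mem_erase.mp hχ
      exact hne (Subtype.ext (h χ ((Set.Finite.mem_toFinset _).mp hχ') hd))
    refine Ideal.IsPrime.ne_top (inferInstance : M.IsPrime) ((Ideal.eq_top_iff_one _).mpr ?_)
    rw [eq_neg_of_add_eq_zero_left hA]
    exact neg_mem hmem
  · intro hG χ hχ _
    have h1 : SameBlock M (oneChar G : G → ℂ) (χ : G → ℂ) := hχ
    exact congrArg (fun θ : IrrCharacter G => (θ : G → ℂ)) (eq_of_sameBlock_of_coprime hM hG h1).symm

end Cfsg.Agent.S4916
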