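import Cfsg.Statements.S4931
import Cfsg.Agent.Lib.Fusion.Tate
import Cfsg.Agent.Lib.Fusion.Transfer
import Cfsg.Agent.Lib.Fusion.ThompsonComplement
import Cfsg.Agent.Lib.CFun.PNilpotent
import Cfsg.Agent.Lib.Coprime.PGroupFrattini
import Cfsg.Agent.Lib.Char.Degree
import Cfsg.Agent.Lib.Char.Virtual
import Cfsg.Agent.Lib.Block.Defect
import Cfsg.Agent.Lib.Invol.PrincipalBlock

set_option autoImplicit false
open Cfsg

namespace Cfsg.Agent.S4931

section

open scoped commutatorElement
open CfsgLib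

universe u

variable {G : Type u} [Group G] [Finite G]

private theorem exists_irr_ne {x : G} (hx : x ≠ 1) :
    ∃ θ : IrrCharacter G, (θ : G → ℂ) x ≠ (θ : G → ℂ) 1 := by
  classical
  letI := Fintype.ofFinite G
  haveI := Fintype.ofFinite (IrrCharacter G)
  by_contra hall
  push Not at hall
  have e1 : (Representation.leftRegular ℂ G).character x =
      (Representation.leftRegular ℂ G).character 1 := by
    rw [Char.regular_char_expand, Finset.sum_apply, Finset.sum_apply]
    refine Finset.sum_congr rfl fun θ _ => ?_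
    rw [Pi.smul_apply, Pi.smul_apply, hall θ]
  rw [Char.regular_char, Char.regular_char, if_neg hx, if_pos rfl] at e1
  exact Nat.card_pos.ne' (Nat.cast_eq_zero.1 e1.symm)

/-- Outside a normal subgroup some character trivial on it moves the element, of degree dividing the index
of any normal subgroup with commutative image. -/
private theorem exists_irr_quot (A B : Subgroup G) [A.Normal] [B.Normal] (hAB : A ≤ B)
    (hcomm : ∀ a ∈ B, ∀ b ∈ B, ⁅a, b⁆ ∈ A) {x : G} (hx : x ∉ A) :
    ∃ θ : IrrCharacter G, (∀ a ∈ A, (θ : G → ℂ) a = (θ : G → ℂ) 1) ∧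
      charDegree (θ : G → ℂ) ∣ B.index ∧ (θ : G → ℂ) x ≠ (θ : G → ℂ) 1 := by
  classical
  have hx' : QuotientGroup.mk' A x ≠ 1 := fun h => hx ((QuotientGroup.eq_one_iff x).1 h)
  obtain ⟨η, hη⟩ := exists_irr_ne hx'
  refine ⟨⟨_, Char.isIrrCharacter_comp_surjective η.2 (QuotientGroup.mk' A)
    (QuotientGroup.mk'_surjective A)⟩, fun a ha => ?_, ?_, ?_⟩
  · show (η : G ⧸ A → ℂ) (QuotientGroup.mk' A a) = (η : G ⧸ A → ℂ) (QuotientGroup.mk' A 1)
    rw [map_one, show QuotientGroup.mk' A a = 1 from (QuotientGroup.eq_one_iff a).2 ha]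
  · haveI : (B.map (QuotientGroup.mk' A)).Normal :=
      Subgroup.Normal.map inferInstance _ (QuotientGroup.mk'_surjective A)
    have h := Char.degree_dvd_index_abelian (G ⧸ A) (B.map (QuotientGroup.mk' A)) (by
      rintro _ ⟨a, ha, rfl⟩ _ ⟨b, hb, rfl⟩
      rw [← commutatorElement_eq_one_iff_mul_comm, ← map_commutatorElement]
      exact (QuotientGroup.eq_one_iff _).2 (hcomm a ha b hb)) _ η.2 _ (Block.charDegree_eq η).1
    rw [Subgroup.index_map_eq B (f := QuotientGroup.mk' A) (QuotientGroup.mk'_surjective A)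
      (by rw [QuotientGroup.ker_mk']; exact hAB)] at h
    have e : charDegree (fun g : G => (η : G ⧸ A → ℂ) (QuotientGroup.mk' A g)) =
        charDegree (η : G ⧸ A → ℂ) := by simp [charDegree]
    exact e ▸ h
  · show (η : G ⧸ A → ℂ) (QuotientGroup.mk' A x) ≠ (η : G ⧸ A → ℂ) (QuotientGroup.mk' A 1)
    rw [map_one]; exact hη

/-- A self-normalizing Sylow subgroup, abelian modulo a normal subgroup meeting it in its derived group. -/
private theorem pComplement_of_selfNormalizing {p : ℕ} [Fact p.Prime] (P : Sylow p G)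
    (hN : Subgroup.normalizer ((P : Subgroup G) : Set G) ≤ (P : Subgroup G))
    (M : Subgroup G) [M.Normal] (hMP : M ⊓ (P : Subgroup G) ≤ ⁅(P : Subgroup G), (P : Subgroup G)⁆)
    (hCM : ⁅(P : Subgroup G), (P : Subgroup G)⁆ ≤ M) : Cfsg.HasNormalPComplement p G := by
  set π := QuotientGroup.mk' M with hπ
  let Q : Sylow p (G ⧸ M) := P.mapSurjective (QuotientGroup.mk'_surjective M)
  have hQ : (Q : Subgroup (G ⧸ M)) = (P : Subgroup G).map π := rfl
  have hnorm : Subgroup.normalizer ((Q : Subgroup (G ⧸ M)) : Set (G ⧸ M)) ≤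
      (Q : Subgroup (G ⧸ M)) := by
    intro y hy
    obtain ⟨g, rfl⟩ := QuotientGroup.mk'_surjective M y
    set H := (P : Subgroup G) ⊔ M with hH
    have hcomap : (Q : Subgroup (G ⧸ M)).comap π = H := by
      rw [hQ, Subgroup.comap_map_eq, hπ, QuotientGroup.ker_mk']
    have hle' : ((g • P : Sylow p G) : Subgroup G) ≤ H := by
      intro z hz
      obtain ⟨w, hw, rfl⟩ : ∃ w ∈ (P : Subgroup G), g * w * g⁻¹ = z := by
        simpa [Sylow.smul_def, Sylow.pointwise_smul_def, Subgroup.mem_map,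
          Subgroup.pointwise_smul_def] using hz
      rw [← hcomap, Subgroup.mem_comap, map_mul, map_mul, map_inv]
      exact (Subgroup.mem_normalizer_iff.1 hy _).1 (Subgroup.mem_map_of_mem π hw)
    obtain ⟨h, hh⟩ := MulAction.exists_smul_eq H ((g • P).subtype hle') (P.subtype le_sup_left)
    rw [Sylow.smul_subtype] at hh
    have h1 : (h : G) * g ∈ Subgroup.normalizer ((P : Subgroup G) : Set G) := by
      refine Sylow.smul_eq_iff_mem_normalizer.1 ?_
      rw [mul_smul]
      exact Sylow.subtype_injective hh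
    have h2 : (h : G) * g ∈ H := le_sup_left (a := (P : Subgroup G)) (hN h1)
    have h3 : g ∈ H := by simpa using H.mul_mem (H.inv_mem h.2) h2
    rw [← hcomap] at h3
    exact h3
  have hbar : Cfsg.HasNormalPComplement p (G ⧸ M) :=
    Fusion.hasNormalPComplement_of_normalizer_le_centralizer Q (hnorm.trans fun y hy => by
      refine Subgroup.mem_centralizer_iff.2 fun z hz => ?_
      rw [hQ] at hy
      change z ∈ (P : Subgroup G).map π at hz
      obtain ⟨a, ha, rfl⟩ := hy
      obtain ⟨b, hb, rfl⟩ := hz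
      rw [← commutatorElement_eq_one_iff_mul_comm, ← map_commutatorElement]
      exact (QuotientGroup.eq_one_iff _).2 (hCM (Subgroup.commutator_mem_commutator hb ha)))
  haveI := Fusion.pResidual_normal (G := G) (p := p)
  have hint : Cfsg.pResidual p G ⊓ (P : Subgroup G) ≤
      (frattini (P : Subgroup G)).map (P : Subgroup G).subtype := by
    intro x hx
    have hxM : x ∈ M := (QuotientGroup.eq_one_iff x).1 <|
      Fusion.eq_one_of_pGroup_of_coprime (R := (P : Subgroup G).map π) (P.2.map π)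
        (Subgroup.mem_map_of_mem π hx.2)
        (Fusion.hasNormalPComplement_iff_coprime.1 hbar _
          (CFun.map_pResidual_le π (Subgroup.mem_map_of_mem π hx.1)))
    have hc : x ∈ (commutator (P : Subgroup G)).map (P : Subgroup G).subtype := by
      rw [commutator_def, Subgroup.map_commutator, ← MonoidHom.range_eq_map, Subgroup.range_subtype]
      exact hMP ⟨hxM, hx.2⟩
    exact Subgroup.map_mono (Coprime.commutator_le_frattini P.2) hc
  have hR := Fusion.hasNormalPComplement_of_inf_le_frattini P (Cfsg.pResidual p G) hint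
  rw [Fusion.hasNormalPComplement_iff_coprime] at hR ⊢
  have hself : Cfsg.pResidual p G ≤
      (Cfsg.pResidual p (Cfsg.pResidual p G)).map (Cfsg.pResidual p G).subtype :=
    (Subgroup.closure_le _).2 fun g hg =>
      ⟨⟨g, Fusion.mem_pResidual hg⟩, Fusion.mem_pResidual (by rw [Subgroup.orderOf_mk]; exact hg), rfl⟩
  intro g hg
  obtain ⟨z, hz, rfl⟩ := hself hg
  rw [Subgroup.subtype_apply, Subgroup.orderOf_coe]
  exact hR z hz

private theorem exists_complement {p : ℕ} [Fact p.Prime] (P : Sylow p G) (M T : Subgroup G) [M.Normal]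
    [T.Normal] (hMT : M ≤ T) (hPT : (P : Subgroup G) ≤ T)
    (hTN : T ⊓ Subgroup.normalizer ((P : Subgroup G) : Set G) ≤ (P : Subgroup G))
    (hMP : M ⊓ (P : Subgroup G) ≤ ⁅(P : Subgroup G), (P : Subgroup G)⁆)
    (hCM : ⁅(P : Subgroup G), (P : Subgroup G)⁆ ≤ M) :
    ∃ K : Subgroup G, K.Normal ∧ K ⊔ Subgroup.normalizer ((P : Subgroup G) : Set G) = ⊤ ∧
      K ⊓ Subgroup.normalizer ((P : Subgroup G) : Set G) = ⊥ := by
  let PT : Sylow p T := P.subtype hPT
  have hPT' : (PT : Subgroup T) = (P : Subgroup G).subgroupOf T := rfl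
  have hmap : (⁅(PT : Subgroup T), (PT : Subgroup T)⁆).map T.subtype =
      ⁅(P : Subgroup G), (P : Subgroup G)⁆ := by
    rw [Subgroup.map_commutator, hPT', Subgroup.subgroupOf_map_subtype, inf_of_le_left hPT]
  haveI : (M.subgroupOf T).Normal := Subgroup.Normal.subgroupOf ‹_› T
  have hc : Cfsg.HasNormalPComplement p T := by
    refine pComplement_of_selfNormalizing PT ?_ (M.subgroupOf T) ?_ ?_
    · intro t ht
      refine hTN ⟨t.2, Subgroup.mem_normalizer_iff.2 fun x => ⟨fun hx => ?_, fun hx => ?_⟩⟩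
      · exact (Subgroup.mem_normalizer_iff.1 ht ⟨x, hPT hx⟩).1 hx
      · have hxT : x ∈ T := by
          have := T.mul_mem (T.mul_mem (T.inv_mem t.2) (hPT hx)) t.2
          simpa [mul_assoc] using this
        exact (Subgroup.mem_normalizer_iff.1 ht ⟨x, hxT⟩).2 hx
    · intro x hx
      have h := hMP ⟨hx.1, hx.2⟩
      rw [← hmap] at h
      obtain ⟨y, hy, hxy⟩ := h
      exact Subtype.ext hxy ▸ hy
    · intro x hx
      exact hCM (hmap ▸ Subgroup.mem_map_of_mem T.subtype hx)
  refine ⟨(Cfsg.pResidual p T).map T.subtype, Subgroup.normalizer_eq_top_iff.1 (top_le_iff.1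
    (CFun.map_pResidual_normal T (Subgroup.normalizer_eq_top_iff.2 inferInstance).ge)), ?_, ?_⟩
  · have hsup : Cfsg.pResidual p T ⊔ (PT : Subgroup T) = ⊤ :=
      (Fusion.hasNormalPComplement_iff_forall_sylow.1 hc PT).sup_eq_top
    have hT : T = (Cfsg.pResidual p T).map T.subtype ⊔ (P : Subgroup G) := by
      have h := congrArg (Subgroup.map T.subtype) hsup
      rw [Subgroup.map_sup, hPT', Subgroup.subgroupOf_map_subtype, inf_of_le_left hPT,
        ← MonoidHom.range_eq_map, Subgroup.range_subtype] at h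
      exact h.symm
    have hF := Sylow.normalizer_sup_eq_top' P hPT
    rw [hT] at hF
    refine top_le_iff.1 (hF ▸ sup_le le_sup_right (sup_le le_sup_left ?_))
    exact Subgroup.le_normalizer.trans le_sup_right
  · refine (Subgroup.eq_bot_iff_forall _).2 fun x hx => ?_
    obtain ⟨⟨t, ht, rfl⟩, hxN⟩ := hx
    refine Fusion.eq_one_of_pGroup_of_coprime P.2 (hTN ⟨t.2, hxN⟩) ?_
    rw [Subgroup.subtype_apply, Subgroup.orderOf_coe]
    exact Fusion.hasNormalPComplement_iff_coprime.1 hc t ht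

private theorem forward {p : ℕ} [Fact p.Prime] (P : Sylow p G) (L : Subgroup G)
    (hL : L = Subgroup.normalizer ((P : Subgroup G) : Set G))
    (h : ∀ θ : IrrCharacter L, ¬ p ∣ charDegree (θ : L → ℂ) →
      ∃ χ : IrrCharacter G, ∀ x : L, (χ : G → ℂ) x = (θ : L → ℂ) x) :
    ∃ K : Subgroup G, K.Normal ∧ K ⊔ L = ⊤ ∧ K ⊓ L = ⊥ := by
  have hPL : (P : Subgroup G) ≤ L := hL ▸ Subgroup.le_normalizer
  set A := (P : Subgroup G).subgroupOf L with hA
  haveI hAn : A.Normal := by subst hL; exact Subgroup.normal_in_normalizer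
  have hCA : ⁅A, A⁆ ≤ A := Subgroup.commutator_le_left A A
  have hmapC : (⁅A, A⁆).map L.subtype = ⁅(P : Subgroup G), (P : Subgroup G)⁆ := by
    rw [Subgroup.map_commutator, hA, Subgroup.subgroupOf_map_subtype, inf_of_le_left hPL]
  have hidx : ¬ p ∣ A.index := by
    rw [hA]
    exact fun hd => P.not_dvd_index (hd.trans (Subgroup.relIndex_dvd_index_of_le hPL))
  let X := {θ : IrrCharacter L // ¬ p ∣ charDegree (θ : L → ℂ) ∧
    ∀ a ∈ ⁅A, A⁆, (θ : L → ℂ) a = (θ : L → ℂ) 1}
  choose χ hχ using fun θ : X => h θ.1 θ.2.1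
  choose N hNn hN using fun θ : X => Invol.exists_charKernel (χ θ)
  have hNL : ∀ (θ : X) (x : L), (x : G) ∈ N θ ↔ (θ.1 : L → ℂ) x = (θ.1 : L → ℂ) 1 := fun θ x => by
    have h1 : (χ θ : G → ℂ) 1 = (θ.1 : L → ℂ) 1 := hχ θ 1
    rw [hN, hχ θ x, h1]
  haveI : (⨅ θ : X, N θ).Normal := Subgroup.normal_iInf_normal hNn
  let Y := {θ : X // ∀ a ∈ A, (θ.1 : L → ℂ) a = (θ.1 : L → ℂ) 1}
  haveI : (⨅ θ : Y, N θ.1).Normal := Subgroup.normal_iInf_normal fun θ => hNn θ.1
  rw [hL]
  refine exists_complement P (⨅ θ : X, N θ) (⨅ θ : Y, N θ.1) (le_iInf fun θ => iInf_le _ θ.1)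
    (fun x hx => Subgroup.mem_iInf.2 fun θ => (hNL θ.1 ⟨x, hPL hx⟩).2 (θ.2 _ hx)) ?_ ?_ ?_
  · intro x hx
    by_contra hxP
    let y : L := ⟨x, hL ▸ hx.2⟩
    obtain ⟨θ, hθA, hθd, hθy⟩ := exists_irr_quot A A le_rfl
      (fun a ha b hb => hCA (Subgroup.commutator_mem_commutator ha hb)) (x := y) hxP
    let θX : X := ⟨θ, fun hd => hidx (hd.trans hθd), fun a ha => hθA a (hCA ha)⟩
    exact hθy ((hNL θX y).1 (Subgroup.mem_iInf.1 hx.1 ⟨θX, hθA⟩))
  · intro x hx
    let y : L := ⟨x, hPL hx.2⟩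
    suffices hy : y ∈ ⁅A, A⁆ by
      rw [← hmapC]
      exact ⟨y, hy, rfl⟩
    by_contra hyC
    obtain ⟨θ, hθA, hθd, hθy⟩ := exists_irr_quot ⁅A, A⁆ A hCA
      (fun a ha b hb => Subgroup.commutator_mem_commutator ha hb) hyC
    let θX : X := ⟨θ, fun hd => hidx (hd.trans hθd), hθA⟩
    exact hθy ((hNL θX y).1 (Subgroup.mem_iInf.1 hx.1 θX))
  · intro x hx
    rw [← hmapC] at hx
    obtain ⟨y, hy, rfl⟩ := hx
    exact Subgroup.mem_iInf.2 fun θ => (hNL θ y).2 (θ.2.2 y hy)

end

/-- Let G be a finite group, p a prime and P a Sylow p-subgroup of G with normalizer N. Then every irreducible complex character of N of degree not divisible by p is the restriction of an irreducible character of G if and only if there is a normal subgroup K of G with KN = G and K ∩ N = 1. -/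
theorem result {G : Type*} [Group G] [Finite G] (p : ℕ) [Fact p.Prime] (P : Sylow p G) :
    (∀ θ : Cfsg.IrrCharacter ↥(Subgroup.normalizer ((P : Subgroup G) : Set G)), ¬ p ∣ Cfsg.charDegree (θ : ↥(Subgroup.normalizer ((P : Subgroup G) : Set G)) → ℂ) →
        ∃ χ : Cfsg.IrrCharacter G, ∀ x : ↥(Subgroup.normalizer ((P : Subgroup G) : Set G)), (χ : G → ℂ) x = (θ : ↥(Subgroup.normalizer ((P : Subgroup G) : Set G)) → ℂ) x) ↔
      ∃ K : Subgroup G, K.Normal ∧ K ⊔ Subgroup.normalizer ((P : Subgroup G) : Set G) = ⊤ ∧ K ⊓ Subgroup.normalizer ((P : Subgroup G) : Set G) = ⊥ := by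
  constructor
  · exact forward P _ rfl
  · rintro ⟨K, hK, htop, hbot⟩ θ -
    have := Fintype.ofFinite G
    let f : ↥(Subgroup.normalizer ((P : Subgroup G) : Set G)) →* G ⧸ K :=
      (QuotientGroup.mk' K).comp (Subgroup.normalizer ((P : Subgroup G) : Set G)).subtype
    have hf : Function.Bijective f := by
      refine ⟨(injective_iff_map_eq_one f).2 fun x hx => ?_, fun y => ?_⟩
      · have h1 : (x : G) ∈ K ⊓ Subgroup.normalizer ((P : Subgroup G) : Set G) :=
          ⟨(QuotientGroup.eq_one_iff _).1 hx, x.2⟩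
        rw [hbot, Subgroup.mem_bot] at h1
        exact Subtype.ext h1
      · obtain ⟨g, rfl⟩ := QuotientGroup.mk'_surjective K y
        have hg : g ∈ K ⊔ Subgroup.normalizer ((P : Subgroup G) : Set G) := htop ▸ Subgroup.mem_top g
        obtain ⟨k, hk, n, hn, rfl⟩ := (Subgroup.mem_sup_of_normal_left (s := K)).1 hg
        refine ⟨⟨n, hn⟩, ?_⟩
        show QuotientGroup.mk' K n = _
        rw [map_mul, show QuotientGroup.mk' K k = 1 from (QuotientGroup.eq_one_iff k).2 hk, one_mul]
    let e := MulEquiv.ofBijective f hf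
    let ψ := e.symm.toMonoidHom.comp (QuotientGroup.mk' K)
    refine ⟨⟨_, CfsgLib.Char.isIrrCharacter_comp_surjective θ.2 ψ
      (e.symm.surjective.comp (QuotientGroup.mk'_surjective K))⟩, fun x => ?_⟩
    show (θ : _ → ℂ) (e.symm (f x)) = _
    rw [show e.symm (f x) = x from e.symm_apply_apply x]

end Cfsg.Agent.S4931
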