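import Cfsg.Statements.S4949
import Cfsg.Agent.Lib.SymBlock.Heights
import Cfsg.Agent.Lib.SymBlock.AltDefect

set_option autoImplicit false
open Cfsg

namespace Cfsg.Agent.S4949

open CfsgLib.SymBlock CfsgLib.Block
local notation:10000 m "!" => Nat.factorial m

/-- Let n be a natural number, p a prime, M a maximal ideal of the algebraic integers containing p, B a p-block of the alternating group of degree n and D a defect group of B. Then either B contains an irreducible character of height 1 and D has an irreducible complex character of degree p, or every irreducible character of B has height zero and D is commutative (so the least positive height in B and the least positive exponent of a character degree of D are both 1 or both absent). -/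
theorem result (n : ℕ) (p : ℕ) [Fact p.Prime] (M : Ideal Cfsg.AlgInt) (hM : Cfsg.IsPModular p M) (B : Set (Cfsg.IrrCharacter ↥(alternatingGroup (Fin n)))) (hB : Cfsg.IsPBlock M B) (D : Subgroup ↥(alternatingGroup (Fin n))) (hD : Cfsg.IsDefectGroup p M B D) :
    ((∃ χ : Cfsg.IrrCharacter ↥(alternatingGroup (Fin n)), χ ∈ B ∧ Cfsg.blockHeight p B (χ : ↥(alternatingGroup (Fin n)) → ℂ) = 1) ∧ (∃ φ : Cfsg.IrrCharacter ↥D, Cfsg.charDegree (φ : ↥D → ℂ) = p)) ∨
    ((∀ χ : Cfsg.IrrCharacter ↥(alternatingGroup (Fin n)), χ ∈ B → Cfsg.blockHeight p B (χ : ↥(alternatingGroup (Fin n)) → ℂ) = 0) ∧ IsMulCommutative D) := by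
  classical
  haveI : M.IsMaximal := hM.2.1
  have hp : p.Prime := hM.1
  letI := Fintype.ofFinite (IrrCharacter (alternatingGroup (Fin n)))
  -- a trivial defect group
  have htriv : Nat.card D = 1 →
      ((∀ χ : Cfsg.IrrCharacter ↥(alternatingGroup (Fin n)), χ ∈ B → Cfsg.blockHeight p B (χ : ↥(alternatingGroup (Fin n)) → ℂ) = 0) ∧ IsMulCommutative D) := by
    intro h1
    haveI := (Nat.card_eq_one_iff_unique.1 h1).1
    refine ⟨fun θ hθ => ?_, ⟨⟨fun _ _ => Subsingleton.elim _ _⟩⟩⟩
    have hd := defectGroup_card hM hB hD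
    rw [h1] at hd
    have hb0 : blockDefect p B = 0 := by
      by_contra h
      exact (Nat.one_lt_pow h hp.one_lt).ne hd
    have h2 : blockDefect p B = (Nat.card (alternatingGroup (Fin n))).factorization p - minDeg p B := rfl
    have h3 := degVal_le_card (p := p) θ
    rw [blockHeight_eq]
    omega
  by_cases hn : n ≤ 1
  · right
    refine htriv ?_
    haveI : Subsingleton (Fin n) := Fin.subsingleton_iff_le_one.2 hn
    haveI : Subsingleton D := ⟨fun a b => Subtype.ext (Subtype.ext (Subsingleton.elim _ _))⟩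
    exact Nat.card_unique
  haveI : Nontrivial (Fin n) := Fin.nontrivial_iff_two_le.2 (by omega)
  letI := Fintype.ofFinite (ConjClasses (alternatingGroup (Fin n)))
  letI := Fintype.ofFinite (Equiv.Perm (Fin n) ⧸ alternatingGroup (Fin n))
  obtain ⟨B', hB', hcov⟩ := exists_covers (G := Equiv.Perm (Fin n)) hB
  set Q := D.map (alternatingGroup (Fin n)).subtype with hQdef
  have hQD : IsDefectGroup p M B (Q.subgroupOf (alternatingGroup (Fin n))) := by
    rwa [Subgroup.subgroupOf, hQdef, Subgroup.comap_map_eq_self_of_injective (Subgroup.subtype_injective _)]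
  obtain ⟨P, hP, hPQ⟩ := hcov.exists_defect_inf hM hB' hB (Subgroup.map_subtype_le D) hQD
  let eD : D ≃* ↥(P ⊓ alternatingGroup (Fin n)) :=
    (D.equivMapOfInjective _ (Subgroup.subtype_injective _)).trans (MulEquiv.subgroupCongr (hQdef ▸ hPQ).symm)
  obtain ⟨N, hN, hNbig⟩ : ∃ N, n ≤ N ∧ p * (n + 1) + n ≤ N :=
    ⟨p * (n + 1) + n, Nat.le_add_left n _, le_rfl⟩
  obtain ⟨χ', hχ'⟩ := CfsgLib.Block.isPBlock_nonempty hB'
  obtain ⟨β₀, rfl⟩ := (stEquiv hN).surjective χ'
  obtain ⟨w, hw⟩ : ∃ w, Runner.weight p (natBead β₀) = w := ⟨_, rfl⟩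
  have hcardP : Nat.card P = p ^ ((p * w)!).factorization p :=
    hw ▸ defect_card hN hM hB' hχ' hNbig hP
  have hmin : minDeg p B' + ((p * w)!).factorization p = (n !).factorization p :=
    hw ▸ minDeg_add hN hM hB' hχ' hNbig
  have hcardD : Nat.card D = Nat.card ↥(P ⊓ alternatingGroup (Fin n)) := Nat.card_congr eD.toEquiv
  have hwn : w ≤ n := by
    have h1 := Runner.sum_eq (p := p) (natBead_injective β₀)
    have h2 := sum_fin_le_of_injective (Runner.core_injective hp.pos (natBead_injective β₀))
    have h3 := sum_natBead β₀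
    rw [hw] at h1
    have h4 := Nat.le_mul_of_pos_left w hp.pos
    omega
  have hbig : ∀ a < p, w ≤ (Finset.univ.filter fun i => (natBead β₀) i % p = a).card := fun a ha =>
    hwn.trans (Hooks.count_ge (natBead_injective β₀) (sum_natBead β₀) hNbig a ha)
  -- members of `B` and their valuations
  have hover : ∀ θ ∈ B, ∃ β : St N n, stEquiv hN β ∈ B' ∧
      degVal p θ + (if p = 2 ∧ twist (stEquiv hN β) = stEquiv hN β then 1 else 0) +
        Hooks.hookVal p (beadFin β) = (n !).factorization p := by
    intro θ hθ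
    obtain ⟨χ, hχ, hc⟩ := exists_mem_of_covers hM hB' hB hcov hθ
    obtain ⟨β, rfl⟩ := (stEquiv hN).surjective χ
    exact ⟨β, hχ, by rw [degVal_constituent hp hc, degVal_add_hookVal hN hp]⟩
  have hunder : ∀ β : St N n, stEquiv hN β ∈ B' → ∃ θ ∈ B,
      degVal p θ + (if p = 2 ∧ twist (stEquiv hN β) = stEquiv hN β then 1 else 0) +
        Hooks.hookVal p (beadFin β) = (n !).factorization p := by
    intro β hβ
    obtain ⟨θ, hθ, hc⟩ := hcov.exists_constituent_mem hM hB' hB hβ
    exact ⟨θ, hθ, by rw [degVal_constituent hp hc, degVal_add_hookVal hN hp]⟩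
  -- constant valuation gives heights zero
  have hzero : ∀ v : ℕ, (∀ θ ∈ B, degVal p θ = v) →
      ∀ θ : IrrCharacter (alternatingGroup (Fin n)), θ ∈ B → blockHeight p B (θ : _ → ℂ) = 0 := by
    intro v hv θ hθ
    obtain ⟨η, hη, he⟩ := exists_minDeg (p := p) (CfsgLib.Block.isPBlock_nonempty hB)
    rw [blockHeight_eq, ← he, hv θ hθ, hv η hη, Nat.sub_self]
  obtain ⟨x, hx, hxs, hxne⟩ :=
    exists_perm_chi_ne_zero hp (natBead β₀) (natBead_injective β₀) (sum_natBead β₀)
  have hne : (stEquiv hN β₀ : Equiv.Perm (Fin n) → ℂ) x ≠ 0 := by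
    rw [irr_eq, ← show intBead (natBead β₀) = β₀.1 from funext (natBead_cast β₀)]
    rcases eps_sq β₀ with h | h <;> simpa [h] using hxne
  rw [hw] at hxs
  obtain ⟨E, hEP, hEcard, -, hEcomm, hEodd⟩ := exists_elementary hM hB' hP hx hxs hχ' hne
  have hodd : p = 2 → 0 < w → ∃ a ∈ P, Equiv.Perm.sign a = -1 := fun h2 hw0 => by
    obtain ⟨a, ha, hs⟩ := hEodd h2 hw0
    exact ⟨a, hEP ha, hs⟩
  by_cases hw0 : w = 0
  · right
    refine htriv (le_antisymm ?_ Nat.card_pos)
    rw [hcardD, ← pow_zero p, ← show ((p * w)!).factorization p = 0 by simp [hw0], ← hcardP]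
    exact Nat.card_le_card_of_injective _ (Subgroup.inclusion_injective inf_le_left)
  by_cases hlarge : p ≤ w ∧ (p = 2 → 3 ≤ w)
  · left
    obtain ⟨hpw, h23⟩ := hlarge
    -- a character of height one
    obtain ⟨c, hc, hcc, hcs, hcv⟩ := Hooks.exists_config_max hp (natBead β₀) (natBead_injective β₀) (hw.symm ▸ hbig)
    rw [hw] at hcv
    obtain ⟨γ, hγ, hγB⟩ := exists_mem_of_config hN hM hB' hχ' hc hcc hcs
    rw [← hγ] at hcv
    obtain ⟨d, hd, hdc, hds, hdv, hd2⟩ :=
      Hooks.exists_config_one hp (natBead β₀) (natBead_injective β₀) (hw.symm ▸ hbig) (hw.symm ▸ hpw)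
        (hw.symm ▸ h23)
    rw [hw] at hdv
    obtain ⟨δ, hδ, hδB⟩ := exists_mem_of_config hN hM hB' hχ' hd hdc hds
    rw [← hδ] at hdv hd2
    have hγns : ¬ (p = 2 ∧ twist (stEquiv hN γ) = stEquiv hN γ) := by
      rintro ⟨rfl, htw⟩
      have h1 := hookVal_lt_of_twist hN htw
        (by rw [(weight_eq_of_mem hN hM hB' hχ' hγB).trans hw]; omega)
      rw [(weight_eq_of_mem hN hM hB' hχ' hγB).trans hw] at h1
      omega
    have hδns : ¬ (p = 2 ∧ twist (stEquiv hN δ) = stEquiv hN δ) := fun ⟨h2, htw⟩ =>
      hd2 h2 (card_runner_eq_of_twist hN htw)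
    have hlow : ∀ θ ∈ B, minDeg p B' ≤ degVal p θ := by
      intro θ hθ
      obtain ⟨β, hβ, he⟩ := hover θ hθ
      have h1 := hookVal_le_of_mem hN hM hB' hχ' hβ
      rw [hw] at h1
      split_ifs at he with hs
      · obtain ⟨rfl, htw⟩ := hs
        have h2 := hookVal_lt_of_twist hN htw
          (by rw [(weight_eq_of_mem hN hM hB' hχ' hβ).trans hw]; omega)
        rw [(weight_eq_of_mem hN hM hB' hχ' hβ).trans hw] at h2
        omega
      · omega
    obtain ⟨θ₀, hθ₀, he₀⟩ := hunder γ hγB
    obtain ⟨θ₁, hθ₁, he₁⟩ := hunder δ hδB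
    rw [if_neg hγns] at he₀
    rw [if_neg hδns] at he₁
    have hminB : minDeg p B = minDeg p B' := by
      have h1 := minDeg_le (p := p) hθ₀
      obtain ⟨η, hη, he⟩ := exists_minDeg (p := p) (CfsgLib.Block.isPBlock_nonempty hB)
      have := hlow η hη
      omega
    refine ⟨⟨θ₁, hθ₁, by rw [blockHeight_eq, hminB]; omega⟩, ?_⟩
    obtain ⟨F, hF, hout, hcard⟩ := exists_points hM hB' hP hx hxs hχ' hne
    refine exists_irr_degree_p_inf hout hcard (fun h2 => hodd h2 (Nat.pos_of_ne_zero hw0)) ?_ ?_ eD
    · rw [pow_two]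
      exact (Nat.mul_le_mul_left p hpw).trans hF
    · intro h2
      have := h23 h2
      subst h2
      omega
  · right
    -- the small cases
    by_cases h2 : p = 2
    · subst h2
      have hPne : ¬ P ≤ alternatingGroup (Fin n) := fun hle => by
        obtain ⟨a, ha, hs⟩ := hodd rfl (Nat.pos_of_ne_zero hw0)
        have h1 := Equiv.Perm.mem_alternatingGroup.1 (hle ha)
        rw [hs] at h1
        exact absurd h1 (by decide)
      have hlt : Nat.card ↥(P ⊓ alternatingGroup (Fin n)) < Nat.card P := by
        refine lt_of_not_ge fun h => hPne ?_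
        exact le_of_eq_of_le (Subgroup.eq_of_le_of_card_ge inf_le_left h).symm inf_le_right
      have hdvd := Subgroup.card_dvd_of_le (inf_le_left : P ⊓ alternatingGroup (Fin n) ≤ P)
      rw [hcardP] at hlt hdvd
      obtain ⟨k, -, hk⟩ := (Nat.dvd_prime_pow Nat.prime_two).1 hdvd
      rw [hk] at hlt
      have hklt := (Nat.pow_lt_pow_iff_right one_lt_two).1 hlt
      have hw2 : w = 1 ∨ w = 2 := by omega
      rcases hw2 with hw1 | hw2
      · -- weight one
        refine htriv ?_
        have hv : ((2 * w)!).factorization 2 = 1 := by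
          rw [hw1, Nat.mul_one, Nat.factorial_two, Nat.prime_two.factorization_self]
        rw [hcardD, hk, show k = 0 by omega, pow_zero]
      · -- weight two
        have hv : ((2 * w)!).factorization 2 = 3 := by
          rw [hw2, Nat.factorization_def _ Nat.prime_two, padicValNat_factorial_mul, Nat.factorial_two,
            padicValNat.self one_lt_two]
        refine ⟨hzero ((n !).factorization 2 - 3) fun θ hθ => ?_, ?_⟩
        · obtain ⟨β, hβ, he⟩ := hover θ hθ
          have hwβ := ((weight_eq_of_mem hN hM hB' hχ' hβ).trans hw).trans hw2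
          have hle := hookVal_le_of_mem hN hM hB' hχ' hβ
          rw [hw] at hle
          rw [hv] at hle
          have hge := Hooks.three_le_hookVal_two (natBead_injective β) hwβ
          change 3 ≤ Hooks.hookVal 2 (beadFin β) + 1 at hge
          by_cases h3 : Hooks.hookVal 2 (beadFin β) = 3
          · have hns : ¬ (2 = 2 ∧ twist (stEquiv hN β) = stEquiv hN β) := fun ⟨_, htw⟩ => by
              have h4 := hookVal_lt_of_twist hN htw (by omega)
              rw [(weight_eq_of_mem hN hM hB' hχ' hβ).trans hw, hv, h3] at h4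
              omega
            rw [if_neg hns] at he
            omega
          · -- the only such state is fixed
            obtain ⟨γ, hγ, hbγ⟩ := exists_twist_beadFin hN β
            have hγB : stEquiv hN γ ∈ B' := hγ ▸ twist_mem_two hM hB' hβ
            have hvγ : Hooks.hookVal 2 (beadFin γ) = Hooks.hookVal 2 (beadFin β) := by
              rw [hbγ, Hooks.hookVal_star (beadFin_subset hN β)]
            have hcnt : Runner.SameCnt 2 (natBead β) (natBead γ) := fun a =>
              ((mem_block_iff hN hM hB' hχ' β).1 hβ a).trans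
                ((mem_block_iff hN hM hB' hχ' γ).1 hγB a).symm
            have heq : beadFin β = beadFin γ := Hooks.config_two_unique (natBead_injective β)
              (natBead_injective γ) hcnt (by rw [sum_natBead, sum_natBead]) hwβ
              (show Hooks.hookVal 2 (beadFin β) + 1 = 3 by omega)
              (show Hooks.hookVal 2 (beadFin γ) + 1 = 3 by omega)
            have htw : twist (stEquiv hN β) = stEquiv hN β := by
              rw [← hγ, beadFin_injective heq.symm]
            rw [if_pos ⟨rfl, htw⟩] at he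
            omega
        · obtain ⟨V, hVP, hVA, hVcard, -, hVcomm⟩ := exists_even_elementary hM hB' hP hx hxs hχ' hne
          rw [hw2] at hVcard
          have hVeq : V = P ⊓ alternatingGroup (Fin n) := by
            refine Subgroup.eq_of_le_of_card_ge (le_inf hVP hVA) ?_
            rw [hk, hVcard]
            exact Nat.pow_le_pow_right two_pos (by omega)
          refine ⟨⟨fun a b => eD.injective (Subtype.ext ?_)⟩⟩
          rw [map_mul, map_mul, Subgroup.coe_mul, Subgroup.coe_mul]
          exact hVcomm _ (hVeq ▸ (eD a).2) _ (hVeq ▸ (eD b).2)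
    · -- odd, fewer than `p` moves
      have hwp : w < p := by
        by_contra h
        exact hlarge ⟨by omega, fun h' => absurd h' h2⟩
      refine ⟨hzero ((n !).factorization p - w) fun θ hθ => ?_, ?_⟩
      · obtain ⟨β, hβ, he⟩ := hover θ hθ
        have h1 := Hooks.hookVal_of_lt hp (natBead_injective β)
          (by rw [(weight_eq_of_mem hN hM hB' hχ' hβ).trans hw]; exact hwp)
        rw [(weight_eq_of_mem hN hM hB' hχ' hβ).trans hw] at h1
        change Hooks.hookVal p (beadFin β) = w at h1
        rw [if_neg fun h => h2 h.1] at he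
        omega
      · have hv : ((p * w)!).factorization p = w := by
          rw [Nat.factorization_def _ hp, padicValNat_factorial_mul,
            padicValNat.eq_zero_of_not_dvd (fun hd => hwp.not_ge (hp.dvd_factorial.1 hd)), zero_add]
        have hEeq : E = P := Subgroup.eq_of_le_of_card_ge hEP (by rw [hcardP, hEcard, hv])
        refine ⟨⟨fun a b => eD.injective (Subtype.ext ?_)⟩⟩
        rw [map_mul, map_mul, Subgroup.coe_mul, Subgroup.coe_mul]
        exact hEcomm _ (hEeq ▸ (eD a).2.1) _ (hEeq ▸ (eD b).2.1)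

end Cfsg.Agent.S4949
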