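import Cfsg.Statements.S4955
import Cfsg.Agent.Lib.Block.Cyclic.PrincipalSq
import Cfsg.Agent.Lib.Block.CentralDefect
import Cfsg.Agent.Lib.Char.Degree

set_option autoImplicit false
open Cfsg

namespace Cfsg.Agent.S4955

/-- Let X be a finite group with an abelian normal Sylow p-subgroup V (a normal p-subgroup of index prime to p in which any two elements commute), and let G be a complement to V in X. Then for every v in V, writing C for the centralizer of v in G, the number k(X) of conjugacy classes of X satisfies k(X) ≤ (order of C)·(order of V) − ((order of G) − k(G)); the statement is written with the subtracted term moved to the left. In particular, if some v in V is centralized by no nonidentity element of G, then k(X) is at most the order of V. -/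
theorem result {X : Type*} [Group X] [Finite X] (p : ℕ) [Fact p.Prime] (V : Subgroup X) [V.Normal] (hVp : IsPGroup p V) (hidx : ¬ p ∣ V.index) (hab : ∀ a ∈ V, ∀ b ∈ V, a * b = b * a) (G : Subgroup X) (hGV : Subgroup.IsComplement' V G) (v : X) (hv : v ∈ V) : Nat.card (ConjClasses X) + Nat.card G ≤ Nat.card ↥(G ⊓ Subgroup.centralizer ({v} : Set X)) * Nat.card V + Nat.card (ConjClasses G) := by
  classical
  have hp : p.Prime := Fact.out
  obtain ⟨M, hM⟩ := CfsgLib.Block.exists_pModular hp
  have : M.IsMaximal := hM.2.1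
  have := Fintype.ofFinite X
  have := Fintype.ofFinite (IrrCharacter X)
  have := Fintype.ofFinite (IrrCharacter (X ⧸ V))
  obtain ⟨k, hk⟩ : ∃ k, orderOf v = p ^ k := by
    obtain ⟨k, hk⟩ := IsPGroup.iff_orderOf.mp hVp ⟨v, hv⟩
    exact ⟨k, by rw [← hk, ← Subgroup.orderOf_coe]⟩
  set A : Finset (IrrCharacter X) :=
    Finset.univ.filter fun χ : IrrCharacter X => ∀ z ∈ V, (χ : X → ℂ) z = (χ : X → ℂ) 1 with hA
  -- the characters trivial on `V`
  let infl : IrrCharacter (X ⧸ V) → IrrCharacter X := fun θ => ⟨fun g => (θ : X ⧸ V → ℂ) g,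
    CfsgLib.Char.isIrrCharacter_comp_surjective θ.2 (QuotientGroup.mk' V) (QuotientGroup.mk'_surjective V)⟩
  have hinj : Function.Injective infl := fun θ θ' e => Subtype.ext (funext fun q => by
    obtain ⟨g, rfl⟩ := QuotientGroup.mk_surjective q
    exact congrFun (congrArg Subtype.val e) g)
  have himg : A = Finset.univ.image infl := by
    ext χ
    simp only [hA, Finset.mem_filter, Finset.mem_univ, true_and, Finset.mem_image]
    constructor
    · intro h
      obtain ⟨θ, hθ⟩ := CfsgLib.Block.exists_deflate (N := V) χ h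
      exact ⟨θ, Subtype.ext (funext hθ)⟩
    · rintro ⟨θ, rfl⟩ z hz
      show (θ : X ⧸ V → ℂ) z = (θ : X ⧸ V → ℂ) (1 : X)
      rw [(QuotientGroup.eq_one_iff z).mpr hz, QuotientGroup.mk_one]
  have hquot : Nat.card (X ⧸ V) = Nat.card G := by
    rw [← Subgroup.index_eq_card]; exact hGV.symm.index_eq_card
  have hAsum : ∑ χ ∈ A, (χ : X → ℂ) v * (starRingEnd ℂ) ((χ : X → ℂ) v) = (Nat.card G : ℂ) := by
    rw [himg, Finset.sum_image fun a _ b _ h => hinj h, ← hquot, ← CfsgLib.Char.sum_degree_sq]
    refine Finset.sum_congr rfl fun (θ : IrrCharacter (X ⧸ V)) _ => ?_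
    show (θ : X ⧸ V → ℂ) v * (starRingEnd ℂ) ((θ : X ⧸ V → ℂ) v) = _
    rw [(QuotientGroup.eq_one_iff v).mpr hv, CfsgLib.Char.conj_irr_one, sq]
  have hAcard : A.card = Nat.card (ConjClasses G) := by
    rw [himg, Finset.card_image_of_injective _ hinj, Finset.card_univ, ← Nat.card_eq_fintype_card,
      CfsgLib.Char.card_irr_eq_card_conjClasses]
    let e : G →* X ⧸ V := (QuotientGroup.mk' V).comp G.subtype
    have hsurj : Function.Surjective e := fun q => by
      obtain ⟨g, rfl⟩ := QuotientGroup.mk_surjective q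
      obtain ⟨⟨a, b⟩, hab⟩ := hGV.2 g
      refine ⟨b, ?_⟩
      simp only at hab
      show ((b : X) : X ⧸ V) = (g : X ⧸ V)
      rw [← hab, QuotientGroup.mk_mul, (QuotientGroup.eq_one_iff (a : X)).mpr a.2, one_mul]
    have hbij : Function.Bijective e := by
      haveI := Fintype.ofFinite G
      haveI := Fintype.ofFinite (X ⧸ V)
      refine (Fintype.bijective_iff_surjective_and_card _).mpr ⟨hsurj, ?_⟩
      rw [← Nat.card_eq_fintype_card, ← Nat.card_eq_fintype_card, hquot]
    let e' : G ≃* X ⧸ V := MulEquiv.ofBijective e hbij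
    exact (Nat.card_congr (Equiv.ofBijective (ConjClasses.map e'.toMonoidHom) ⟨fun a b hab => by
      obtain ⟨a, rfl⟩ := ConjClasses.exists_rep a
      obtain ⟨b, rfl⟩ := ConjClasses.exists_rep b
      obtain ⟨c, hc⟩ := isConj_iff.mp (ConjClasses.mk_eq_mk_iff_isConj.mp hab)
      refine ConjClasses.mk_eq_mk_iff_isConj.mpr (isConj_iff.mpr ⟨e'.symm c, e'.injective ?_⟩)
      simpa [map_mul, map_inv] using hc, ConjClasses.map_surjective e'.surjective⟩)).symm
  have hC : Nat.card (Subgroup.centralizer ({v} : Set X)) =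
      Nat.card V * Nat.card ↥(G ⊓ Subgroup.centralizer ({v} : Set X)) := by
    rw [← Nat.card_prod]
    refine (Nat.card_eq_of_bijective (fun q : V × ↥(G ⊓ Subgroup.centralizer ({v} : Set X)) =>
      (⟨(q.1 : X) * q.2, Subgroup.mul_mem _ ?_ q.2.2.2⟩ : Subgroup.centralizer ({v} : Set X))) ⟨?_, ?_⟩).symm
    · exact Subgroup.mem_centralizer_singleton_iff.mpr (hab q.1 q.1.2 v hv)
    · intro a b h
      have h' : (fun x : V × G => (x.1 : X) * x.2) (a.1, ⟨a.2, a.2.2.1⟩) =
          (fun x : V × G => (x.1 : X) * x.2) (b.1, ⟨b.2, b.2.2.1⟩) := congrArg Subtype.val h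
      have h2 := hGV.1 h'
      simp only [Prod.mk.injEq, Subtype.mk.injEq] at h2
      exact Prod.ext h2.1 (Subtype.ext h2.2)
    · rintro ⟨c, hc⟩
      obtain ⟨⟨a, b⟩, hab'⟩ := hGV.2 c
      simp only at hab'
      have hb : (b : X) ∈ Subgroup.centralizer ({v} : Set X) := by
        have ha : (a : X) ∈ Subgroup.centralizer ({v} : Set X) :=
          Subgroup.mem_centralizer_singleton_iff.mpr (hab a a.2 v hv)
        have := Subgroup.mul_mem _ (Subgroup.inv_mem _ ha) hc
        rwa [← hab', inv_mul_cancel_left] at this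
      exact ⟨(a, ⟨b, b.2, hb⟩), Subtype.ext hab'⟩
  -- the others
  have hnz : ∀ χ : IrrCharacter X, (χ : X → ℂ) v ≠ 0 := by
    intro χ
    obtain ⟨d, -, hd⟩ := CfsgLib.Char.isIrrCharacter_degree χ.2
    have hdeg : ¬ p ∣ Cfsg.charDegree (χ : X → ℂ) := by
      rw [Cfsg.charDegree, hd, Complex.natCast_re, Nat.floor_natCast]
      exact fun h => hidx (h.trans (CfsgLib.Char.degree_dvd_index_abelian X V hab _ χ.2 d hd))
    exact CfsgLib.Block.Cyclic.value_pElement_ne_zero hM hdeg ⟨k, hk⟩
  have htot := CfsgLib.Char.sum_irr_mul_conj v v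
  rw [if_pos (IsConj.refl v), ← Finset.sum_add_sum_compl A, hAsum] at htot
  have hvn : v ^ orderOf v = 1 := pow_orderOf_eq_one v
  have hle := CfsgLib.Block.card_le_sum_normSq (orderOf_pos v).ne'
    (fun χ : {χ // χ ∈ Aᶜ} => ⟨((χ : IrrCharacter X) : X → ℂ) v,
      CfsgLib.Block.Cyclic.char_mem_cycInt (CfsgLib.Char.isCharacter_irr (χ : IrrCharacter X)) hvn⟩)
    (fun χ => hnz χ) (N := (Nat.card (Subgroup.centralizer ({v} : Set X)) : ℤ) - Nat.card G)
    (by
      push_cast
      rw [Finset.sum_coe_sort Aᶜ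
        (fun χ : IrrCharacter X => (χ : X → ℂ) v * (starRingEnd ℂ) ((χ : X → ℂ) v))]
      linear_combination htot)
  rw [Fintype.card_coe, Finset.card_compl, hC] at hle
  have hk : Fintype.card (IrrCharacter X) = Nat.card (ConjClasses X) := by
    rw [← Nat.card_eq_fintype_card, CfsgLib.Char.card_irr_eq_card_conjClasses]
  have hAle := Finset.card_le_univ A
  rw [hk, hAcard] at hle hAle
  rw [mul_comm (Nat.card ↥(G ⊓ Subgroup.centralizer ({v} : Set X)))]
  omega

end Cfsg.Agent.S4955
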