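import Cfsg.Statements.S4956
import Cfsg.Agent.Lib.Coprime.SemidirectClasses

set_option autoImplicit false
open Cfsg

namespace Cfsg.Agent.S4956

/-- Let X be a finite group, V an abelian normal subgroup of X (any two elements of V commute) and G a complement to V in X whose order is coprime to that of V. Let S be a set of representatives of the orbits of G on V under conjugation: S lies in V and every element of V is conjugate under G to exactly one member of S. Then the number of conjugacy classes of X equals the sum, over s in S, of the number of conjugacy classes of the centralizer of s in G. -/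
theorem result {X : Type*} [Group X] [Finite X] (V : Subgroup X) [V.Normal] (hab : ∀ a ∈ V, ∀ b ∈ V, a * b = b * a) (G : Subgroup X) (hGV : Subgroup.IsComplement' V G) (hcop : (Nat.card V).Coprime (Nat.card G)) (S : Finset X) (hSV : ∀ s ∈ S, s ∈ V) (hrep : ∀ v ∈ V, ∃! s, s ∈ S ∧ ∃ g ∈ G, g * v * g⁻¹ = s) : Nat.card (ConjClasses X) = ∑ s ∈ S, Nat.card (ConjClasses ↥(G ⊓ Subgroup.centralizer ({s} : Set X))) := by
  classical
  letI : CommGroup V := { (inferInstance : Group V) with mul_comm := fun a b => Subtype.ext (hab a a.2 b b.2) }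
  letI : MulDistribMulAction G V :=
    MulDistribMulAction.compHom V ((MulAut.conjNormal (H := V)).comp G.subtype)
  have := Fintype.ofFinite V
  have := Fintype.ofFinite X
  have hsmul : ∀ (g : G) (v : V), ((g • v : V) : X) = (g : X) * v * (g : X)⁻¹ := fun g v => rfl
  let S' : Finset V := S.attach.map ⟨fun (s : {x // x ∈ S}) => (⟨s.1, hSV s.1 s.2⟩ : V), fun a b h =>
    Subtype.ext (congrArg (fun w : V => (w : X)) h)⟩
  have hmemS : ∀ w : V, w ∈ S' ↔ (w : X) ∈ S := fun w => by
    simp only [S', Finset.mem_map, Finset.mem_attach, true_and, Function.Embedding.coeFn_mk,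
      Subtype.exists]
    exact ⟨fun ⟨a, ha, e⟩ => by rw [← e]; exact ha, fun h => ⟨w, h, rfl⟩⟩
  have hrep' : ∀ v : V, ∃! s, s ∈ S' ∧ ∃ g : G, g • v = s := by
    intro v
    obtain ⟨s, ⟨hs, g, hg, e⟩, hu⟩ := hrep v v.2
    refine ⟨⟨s, hSV s hs⟩, ⟨(hmemS _).mpr hs, ⟨g, hg⟩, Subtype.ext e⟩, ?_⟩
    rintro t ⟨ht, k, rfl⟩
    exact Subtype.ext (hu _ ⟨(hmemS _).mp ht, k, k.2, rfl⟩)
  have hcop' : (Nat.card G).Coprime (Nat.card V) := hcop.symm
  -- commuting pairs of the product
  let φ : V × G ≃ X := Equiv.ofBijective (fun p => (p.1 : X) * p.2) hGV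
  have hφ : ∀ (v w : V) (g h : G), Commute ((v : X) * g) ((w : X) * h) ↔
      Commute g h ∧ v * (g • w) = w * (h • v) := by
    intro v w g h
    have e1 : (v : X) * g * ((w : X) * h) = φ (v * (g • w), g * h) := by
      show _ = ((v * (g • w) : V) : X) * ((g * h : G) : X)
      rw [Subgroup.coe_mul, Subgroup.coe_mul, hsmul]
      group
    have e2 : (w : X) * h * ((v : X) * g) = φ (w * (h • v), h * g) := by
      show _ = ((w * (h • v) : V) : X) * ((h * g : G) : X)
      rw [Subgroup.coe_mul, Subgroup.coe_mul, hsmul]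
      group
    rw [Commute, SemiconjBy, e1, e2, φ.injective.eq_iff, Prod.ext_iff]
    exact and_comm
  have hX : Nat.card {p : X × X // Commute p.1 p.2} = Nat.card V *
      (Nat.card G * ∑ s ∈ S', Nat.card (ConjClasses (MulAction.stabilizer G s))) := by
    let e1 : {p : X × X // Commute p.1 p.2} ≃
        Σ c : {q : G × G // Commute q.1 q.2},
          {r : V × V // r.1 * (c.1.1 • r.2) = r.2 * (c.1.2 • r.1)} :=
      { toFun := fun p =>
          have h := (hφ (φ.symm p.1.1).1 (φ.symm p.1.2).1 (φ.symm p.1.1).2 (φ.symm p.1.2).2).mp (by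
            have h1 : φ (φ.symm p.1.1) = p.1.1 := φ.apply_symm_apply _
            have h2 : φ (φ.symm p.1.2) = p.1.2 := φ.apply_symm_apply _
            change Commute (φ (φ.symm p.1.1)) (φ (φ.symm p.1.2))
            rw [h1, h2]; exact p.2)
          ⟨⟨((φ.symm p.1.1).2, (φ.symm p.1.2).2), h.1⟩, ⟨((φ.symm p.1.1).1, (φ.symm p.1.2).1), h.2⟩⟩
        invFun := fun c => ⟨(φ (c.2.1.1, c.1.1.1), φ (c.2.1.2, c.1.1.2)),
          (hφ _ _ _ _).mpr ⟨c.1.2, c.2.2⟩⟩
        left_inv := fun p => Subtype.ext (Prod.ext (φ.apply_symm_apply _) (φ.apply_symm_apply _))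
        right_inv := fun ⟨⟨⟨g, h⟩, hc⟩, ⟨⟨v, w⟩, hr⟩⟩ => by
          exact Sigma.subtype_ext (Subtype.ext (by simp only [Equiv.symm_apply_apply]))
            (by simp only [Equiv.symm_apply_apply]) }
    let e2 : (Σ c : {q : G × G // Commute q.1 q.2}, {v : V // c.1.1 • v = v ∧ c.1.2 • v = v}) ≃
        Σ v : V, {p : MulAction.stabilizer G v × MulAction.stabilizer G v // Commute p.1 p.2} :=
      { toFun := fun c => ⟨c.2.1, ⟨(⟨c.1.1.1, c.2.2.1⟩, ⟨c.1.1.2, c.2.2.2⟩), Subtype.ext c.1.2⟩⟩
        invFun := fun c => ⟨⟨(c.2.1.1.1, c.2.1.2.1), congrArg Subtype.val c.2.2⟩, ⟨c.1, c.2.1.1.2, c.2.1.2.2⟩⟩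
        left_inv := fun _ => rfl
        right_inv := fun _ => rfl }
    rw [Nat.card_congr e1, Nat.card_sigma,
      Finset.sum_congr rfl fun (c : {q : G × G // Commute q.1 q.2}) _ =>
        CfsgLib.Coprime.SemidirectClasses.card_pairs hcop' c.2,
      ← Finset.mul_sum, ← CfsgLib.Coprime.SemidirectClasses.sum_pairs S' hrep', ← Nat.card_sigma,
      Nat.card_congr e2, Nat.card_sigma]
  rw [card_comm_eq_card_conjClasses_mul_card, ← hGV.card_mul, mul_comm (Nat.card (ConjClasses X)),
    mul_assoc] at hX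
  have hX' := Nat.eq_of_mul_eq_mul_left Nat.card_pos (Nat.eq_of_mul_eq_mul_left Nat.card_pos hX)
  rw [hX']
  refine Finset.sum_bij (fun s _ => (s : X)) (fun s hs => (hmemS s).mp hs)
    (fun a _ b _ h => Subtype.ext h)
    (fun b hb => ⟨⟨b, hSV b hb⟩, (hmemS _).mpr hb, rfl⟩) fun s hs => ?_
  let K := G ⊓ Subgroup.centralizer ({(s : X)} : Set X)
  let e : MulAction.stabilizer G s ≃* K :=
    { toFun := fun a => ⟨((a : G) : X), (a : G).2, Subgroup.mem_centralizer_singleton_iff.mpr (by
        have h := congrArg (fun w : V => (w : X)) (MulAction.mem_stabilizer_iff.mp a.2)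
        simp only [hsmul] at h
        exact mul_inv_eq_iff_eq_mul.mp h)⟩
      invFun := fun k => ⟨⟨k, k.2.1⟩, MulAction.mem_stabilizer_iff.mpr (Subtype.ext (by
        rw [hsmul]
        exact mul_inv_eq_iff_eq_mul.mpr (Subgroup.mem_centralizer_singleton_iff.mp k.2.2)))⟩
      left_inv := fun a => rfl
      right_inv := fun k => rfl
      map_mul' := fun a b => rfl }
  exact Nat.card_congr (Equiv.ofBijective (ConjClasses.map e.toMonoidHom) ⟨fun a b hab => by
    obtain ⟨a, rfl⟩ := ConjClasses.exists_rep a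
    obtain ⟨b, rfl⟩ := ConjClasses.exists_rep b
    obtain ⟨c, hc⟩ := isConj_iff.mp (ConjClasses.mk_eq_mk_iff_isConj.mp hab)
    refine ConjClasses.mk_eq_mk_iff_isConj.mpr (isConj_iff.mpr ⟨e.symm c, e.injective ?_⟩)
    simpa [map_mul, map_inv] using hc, ConjClasses.map_surjective e.surjective⟩)

end Cfsg.Agent.S4956
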