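import Cfsg.Statements.S4959
import Cfsg.Agent.Lib.Char.KnorrReal.Main

set_option autoImplicit false
open Cfsg

namespace Cfsg.Agent.S4959

/-- Let X be a finite group and V a normal subgroup of X in which every element has order dividing the prime p, whose index in X is prime to p and which is its own centralizer in X; so V is an elementary abelian normal Sylow p-subgroup, and any complement G to V in X is a group of order prime to p acting faithfully on the vector space V by conjugation (the coprime linear setting of the k(GV) problem). Let G be a complement to V in X, let v be in V and let H be the centralizer of v in G. Suppose there is a subgroup U of V normalized by H, on which H acts faithfully, and carrying an H-invariant bi-additive pairing β with values in the integers modulo p that is nondegenerate on U (equivalently: the restriction of the module V to H has a faithful self-dual submodule; such a v is called a real vector for G). Then the number of conjugacy classes of X is at most the order of V (the real-vector criterion for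 the k(GV) problem). The pairing is given as a function on X whose relevant values are those on pairs from U. -/
theorem result {X : Type*} [Group X] [Finite X] (p : ℕ) [Fact p.Prime] (V : Subgroup X) [V.Normal] (hVexp : ∀ v ∈ V, v ^ p = 1) (hidx : ¬ p ∣ V.index) (hself : Subgroup.centralizer (V : Set X) = V) (G : Subgroup X) (hGV : Subgroup.IsComplement' V G) (v : X) (hv : v ∈ V) (U : Subgroup X) (hUV : U ≤ V) (hUinv : ∀ h ∈ G, h * v * h⁻¹ = v → ∀ u ∈ U, h * u * h⁻¹ ∈ U) (hUfaith : ∀ h ∈ G, h * v * h⁻¹ = v → (∀ u ∈ U, h * u * h⁻¹ = u) → h = 1) (β : X → X → ZMod p) (hβl : ∀ u ∈ U, ∀ u' ∈ U, ∀ w ∈ U, β (u * u') w = β u w + β u' w) (hβr : ∀ u ∈ U, ∀ w ∈ U, ∀ w' ∈ U, β u (w * w') = β u w + β u w') (hβinv : ∀ h ∈ G, h * v * h⁻¹ = v → ∀ u ∈ U, ∀ w ∈ U, β (h * u * h⁻¹) (h * w * h⁻¹) = β u w) (hβnd : ∀ u ∈ U, (∀ w ∈ U, β u w = 0) → u = 1) : Nat.card (ConjClasses X) ≤ Nat.card V := by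
  classical
  have hp := (Fact.out : p.Prime)
  set H : Subgroup X := G ⊓ Subgroup.centralizer ({v} : Set X) with hH
  have hHv : ∀ h : H, (h : X) * v * (h : X)⁻¹ = v := fun h => by
    rw [Subgroup.mem_centralizer_singleton_iff.1 h.2.2, mul_inv_cancel_right]
  have hVab : ∀ a ∈ V, ∀ b ∈ V, a * b = b * a := fun a ha b hb =>
    (Subgroup.mem_centralizer_iff.1 (hself.ge hb)) a ha
  letI : CommGroup U := { (inferInstance : Group U) with
    mul_comm := fun a b => Subtype.ext (hVab a (hUV a.2) b (hUV b.2)) }
  letI : Module (ZMod p) (Additive U) := AddCommGroup.zmodModule fun x => Subtype.ext (by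
    show ((x.toMul ^ p : U) : X) = ((1 : U) : X)
    rw [Subgroup.coe_pow, hVexp _ (hUV x.toMul.2)]
    rfl)
  let c : H → Additive U → Additive U := fun h x =>
    Additive.ofMul ⟨(h : X) * (x.toMul : X) * (h : X)⁻¹, hUinv h h.2.1 (hHv h) _ x.toMul.2⟩
  have hc : ∀ (h : H) (x : Additive U),
      ((c h x).toMul : X) = (h : X) * (x.toMul : X) * (h : X)⁻¹ := fun h x => rfl
  let ρ : Representation (ZMod p) H (Additive U) := CfsgLib.Char.KnorrReal.repOf c
    (fun h x y => Additive.toMul.injective (Subtype.ext (by
      rw [hc, toMul_add, toMul_add, Subgroup.coe_mul, Subgroup.coe_mul, hc, hc]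
      group)))
    (fun x => Additive.toMul.injective (Subtype.ext (by rw [hc]; simp)))
    fun g h x => Additive.toMul.injective (Subtype.ext (by
      rw [hc, hc, hc, Subgroup.coe_mul]
      group))
  let B : LinearMap.BilinForm (ZMod p) (Additive U) := CfsgLib.Char.KnorrReal.bilOf
    (fun x y => β x.toMul y.toMul)
    (fun x y z => hβl _ x.toMul.2 _ y.toMul.2 _ z.toMul.2)
    (fun x y z => hβr _ x.toMul.2 _ y.toMul.2 _ z.toMul.2)
  have hGcard : Nat.card G = V.index := by rw [← hGV.symm.card_left]; rfl
  have hcop : ¬ p ∣ Nat.card H := fun h =>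
    hidx (hGcard ▸ h.trans (Subgroup.card_dvd_of_le inf_le_left))
  have hHn : Nat.card H ∣ 8 * p * Nat.card X :=
    (Subgroup.card_subgroup_dvd_card H).trans (dvd_mul_left _ _)
  have hW := CfsgLib.Char.KnorrReal.hasW_selfdual (dvd_mul_right (8 * p) (Nat.card X)) hHn hcop ρ B
    (fun h x y => hβinv h h.2.1 (hHv h) _ x.toMul.2 _ y.toMul.2)
    fun x hx => Subtype.ext (hβnd _ x.toMul.2 fun w hw => hx (Additive.ofMul ⟨w, hw⟩))
  refine CfsgLib.Char.KnorrReal.card_conjClasses_le V hVexp hidx hself G hGV v hv U hUV hUfaith H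
    (fun g => and_congr_right fun _ => Subgroup.mem_centralizer_singleton_iff)
    (CfsgLib.Char.KnorrReal.fixCard ρ) (fun h => ?_)
    (CfsgLib.Char.KnorrReal.fixCard_mem_span ρ) hW
  exact Nat.card_congr
    { toFun := fun x => ⟨(x.1.toMul : X), x.1.toMul.2, Subgroup.mem_centralizer_singleton_iff.2
        (mul_inv_eq_iff_eq_mul.1 (congrArg (fun z : Additive U => (z.toMul : X)) x.2)).symm⟩
      invFun := fun x => ⟨Additive.ofMul ⟨x.1, x.2.1⟩, Subtype.ext (mul_inv_eq_iff_eq_mul.2
        (Subgroup.mem_centralizer_singleton_iff.1 x.2.2).symm)⟩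
      left_inv := fun x => rfl
      right_inv := fun x => rfl }

end Cfsg.Agent.S4959
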