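import Cfsg.Statements.S4964
import Cfsg.Agent.Lib.Block.QuotientDefect
import Cfsg.Agent.Lib.Block.NormalPQuot
import Cfsg.Agent.Lib.Coprime.Action
import Cfsg.Agent.Lib.Coprime.PGroupFrattini

set_option autoImplicit false
open Cfsg

namespace Cfsg.Agent.S4964

namespace Aux

open CfsgLib.Block CfsgLib.Block.Cyclic

open scoped commutatorElement

variable {p : ℕ} [Fact p.Prime] {M : Ideal Cfsg.AlgInt} [M.IsMaximal] {G : Type*} [Group G] [Fintype G]
  [DecidableEq G] {D : Subgroup G} [D.Normal] [Fintype (G ⧸ ⁅D, D⁆)] [DecidableEq (G ⧸ ⁅D, D⁆)]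

theorem centralRes_inflQ_of_central (hM : Cfsg.IsPModular p M) (hD : IsPGroup p D)
    (θ : Cfsg.IrrCharacter (G ⧸ ⁅D, D⁆)) {y : G} (hy : ¬ p ∣ orderOf y)
    (hc : (y : G ⧸ ⁅D, D⁆) ∈ Subgroup.centralizer ((D.map (QuotientGroup.mk' ⁅D, D⁆) : Subgroup (G ⧸ ⁅D, D⁆)) : Set (G ⧸ ⁅D, D⁆))) :
    centralRes M (inflQ θ) y = centralRes M θ (y : G ⧸ ⁅D, D⁆) := by
  have hp : p.Prime := Fact.out
  have hle : ⁅D, D⁆ ≤ D := Subgroup.commutator_le_left D D
  -- `y` centralizes `D`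
  have hyD : Subgroup.zpowers y ≤ Subgroup.centralizer (D : Set G) := by
    refine CfsgLib.Coprime.le_centralizer_of_trivial_on_frattini_quotient
      (fun a _ => by rw [Subgroup.normalizer_eq_top]; exact Subgroup.mem_top a) ?_ ?_
    · obtain ⟨k, hk⟩ := IsPGroup.iff_card.1 (hD.to_subgroup (frattini D))
      rw [hk, Nat.card_zpowers]
      exact Nat.Coprime.pow_right k (hp.coprime_iff_not_dvd.mpr hy).symm
    · intro a ha k hk
      have hmem : a * k * a⁻¹ * k⁻¹ ∈ ⁅D, D⁆ := by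
        obtain ⟨i, rfl⟩ := ha
        show y ^ i * k * (y ^ i)⁻¹ * k⁻¹ ∈ ⁅D, D⁆
        rw [← QuotientGroup.eq_one_iff, QuotientGroup.mk_mul, QuotientGroup.mk_mul, QuotientGroup.mk_mul,
          QuotientGroup.mk_inv, QuotientGroup.mk_inv, QuotientGroup.mk_zpow]
        have hcomm : Commute (y : G ⧸ ⁅D, D⁆) (k : G ⧸ ⁅D, D⁆) :=
          (Subgroup.mem_centralizer_iff.mp hc (k : G ⧸ ⁅D, D⁆) ⟨k, hk, rfl⟩).symm
        rw [(hcomm.zpow_left i).eq]
        group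
      have h1 := CfsgLib.Coprime.commutator_le_frattini hD
      rw [← D.map_subtype_commutator] at hmem
      exact Subgroup.map_mono h1 hmem
  have hcomap : (Subgroup.centralizer ({(y : G ⧸ ⁅D, D⁆)} : Set (G ⧸ ⁅D, D⁆))).comap
      (QuotientGroup.mk' ⁅D, D⁆) = Subgroup.centralizer ({y} : Set G) := by
    refine le_antisymm ?_ (QuotientDefect.centralizer_le_comap y)
    intro g hg
    rw [Subgroup.mem_comap, Subgroup.mem_centralizer_singleton_iff] at hg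
    rw [Subgroup.mem_centralizer_singleton_iff]
    have hd : y⁻¹ * (g * y * g⁻¹) ∈ ⁅D, D⁆ := by
      rw [← QuotientGroup.eq]
      show (y : G ⧸ ⁅D, D⁆) = ((g * y * g⁻¹ : G) : G ⧸ ⁅D, D⁆)
      rw [QuotientGroup.mk_mul, QuotientGroup.mk_mul, QuotientGroup.mk_inv]
      exact (mul_inv_eq_of_eq_mul hg).symm
    have hc' : Commute (y⁻¹ * (g * y * g⁻¹)) y :=
      Subgroup.mem_centralizer_iff.mp (hyD (Subgroup.mem_zpowers y)) _ (hle hd)
    obtain ⟨k, hk⟩ := hD ⟨_, hle hd⟩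
    have hk' : (y⁻¹ * (g * y * g⁻¹)) ^ p ^ k = 1 := congrArg Subtype.val hk
    obtain ⟨j, -, hj⟩ := (Nat.dvd_prime_pow hp).mp (orderOf_dvd_of_pow_eq_one hk')
    have e : IsPPart p (g * y * g⁻¹) (y⁻¹ * (g * y * g⁻¹)) :=
      ⟨y, by rw [hc'.eq, mul_inv_cancel_left], hc', ⟨j, hj⟩, hy⟩
    have h0 := isPPart_unique hp e (isPPart_one_of_not_dvd (by
      rwa [← MulAut.conj_apply, MulEquiv.orderOf_eq]))
    exact mul_inv_eq_iff_eq_mul.mp (inv_mul_eq_one.mp h0).symm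
  rw [QuotientDefect.centralRes_inflQ_eq, QuotientDefect.centIdx, hcomap, Subgroup.relIndex_self,
    Nat.cast_one, one_mul]

end Aux

/-- Let D be a normal p-subgroup of the finite group G, let D′ be its commutator subgroup (normal in G), and fix a maximal ideal M of the algebraic integers containing p. Then (i) two irreducible characters of G ⧸ D′ lie in the same p-block if and only if their inflations to G do, and (ii) every p-block of G contains the inflation of some irreducible character of G ⧸ D′; so inflation induces a bijection between the p-blocks of G ⧸ D′ and the p-blocks of G. -/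
theorem result {G : Type*} [Group G] [Finite G] (p : ℕ) [Fact p.Prime] (M : Ideal Cfsg.AlgInt) (hM : Cfsg.IsPModular p M) (D : Subgroup G) [D.Normal] (hD : IsPGroup p D) : (∀ χ ψ : Cfsg.IrrCharacter (G ⧸ ⁅D, D⁆), Cfsg.SameBlock M (χ : G ⧸ ⁅D, D⁆ → ℂ) (ψ : G ⧸ ⁅D, D⁆ → ℂ) ↔ Cfsg.SameBlock M ((χ : G ⧸ ⁅D, D⁆ → ℂ) ∘ QuotientGroup.mk) ((ψ : G ⧸ ⁅D, D⁆ → ℂ) ∘ QuotientGroup.mk)) ∧ ∀ B : Set (Cfsg.IrrCharacter G), Cfsg.IsPBlock M B → ∃ χ : Cfsg.IrrCharacter (G ⧸ ⁅D, D⁆), ∃ θ ∈ B, (θ : G → ℂ) = (χ : G ⧸ ⁅D, D⁆ → ℂ) ∘ QuotientGroup.mk := by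
  classical
  haveI := Fintype.ofFinite G
  haveI := Fintype.ofFinite (G ⧸ ⁅D, D⁆)
  haveI := hM.2.1
  have hle : ⁅D, D⁆ ≤ D := Subgroup.commutator_le_left D D
  have hN : IsPGroup p ↥⁅D, D⁆ := hD.to_le hle
  have hDbar : IsPGroup p (D.map (QuotientGroup.mk' ⁅D, D⁆) : Subgroup (G ⧸ ⁅D, D⁆)) := hD.map _
  haveI : (D.map (QuotientGroup.mk' ⁅D, D⁆)).Normal :=
    Subgroup.Normal.map inferInstance _ (QuotientGroup.mk'_surjective _)
  refine ⟨fun χ ψ => ⟨fun h => ?_, fun h => ?_⟩, fun B hB => ?_⟩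
  · show Cfsg.SameBlock M (CfsgLib.Block.Cyclic.inflQ χ : G → ℂ) (CfsgLib.Block.Cyclic.inflQ ψ : G → ℂ)
    refine CfsgLib.Block.sameBlock_iff_centralRes.mpr fun g => ?_
    rw [CfsgLib.Block.QuotientDefect.centralRes_inflQ_eq, CfsgLib.Block.QuotientDefect.centralRes_inflQ_eq,
      CfsgLib.Block.sameBlock_iff_centralRes.mp h]
  · refine CfsgLib.Block.sameBlock_of_regular hM fun q hq => ?_
    by_cases hc : q ∈ Subgroup.centralizer ((D.map (QuotientGroup.mk' ⁅D, D⁆) : Subgroup (G ⧸ ⁅D, D⁆)) : Set (G ⧸ ⁅D, D⁆))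
    · obtain ⟨y, hy, rfl⟩ := CfsgLib.Block.Cyclic.exists_regular_lift hN hq
      rw [← Aux.centralRes_inflQ_of_central hM hD χ hy hc, ← Aux.centralRes_inflQ_of_central hM hD ψ hy hc]
      exact CfsgLib.Block.sameBlock_iff_centralRes.mp
        (show Cfsg.SameBlock M (CfsgLib.Block.Cyclic.inflQ χ : G → ℂ) (CfsgLib.Block.Cyclic.inflQ ψ : G → ℂ) from h) y
    · rw [CfsgLib.Block.centralRes_eq_zero_of_not_centralize hM χ hDbar hc,
        CfsgLib.Block.centralRes_eq_zero_of_not_centralize hM ψ hDbar hc]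
  · obtain ⟨Bbar, hBbar, hsub, -⟩ := CfsgLib.Block.QuotientDefect.exists_image_block hM hN hB
    obtain ⟨θ, hθ⟩ := CfsgLib.Block.isPBlock_nonempty hBbar
    exact ⟨θ, CfsgLib.Block.Cyclic.inflQ θ, hsub θ hθ, rfl⟩

end Cfsg.Agent.S4964
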