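import Cfsg.Statements.S4965
import Mathlib

set_option autoImplicit false
open Cfsg

namespace Cfsg.Agent.S4965

/-- Let X be a finite group with an abelian normal subgroup V (any two elements of V commute), and let φ be the action of X ⧸ V on V induced by conjugation (well defined because V is abelian; the hypothesis hφ says that the class of x acts as conjugation by x). Then X has at most as many conjugacy classes as the semidirect product of V by X ⧸ V formed with this action: the split extension has the largest class number among extensions with the given action. -/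
theorem result {X : Type*} [Group X] [Finite X] (V : Subgroup X) [V.Normal] (hab : ∀ a ∈ V, ∀ b ∈ V, a * b = b * a) (φ : X ⧸ V →* MulAut ↥V) (hφ : ∀ (x : X) (v : ↥V), ((φ (QuotientGroup.mk x) v : ↥V) : X) = x * v * x⁻¹) : Nat.card (ConjClasses X) ≤ Nat.card (ConjClasses (SemidirectProduct ↥V (X ⧸ V) φ)) := by
  classical
  letI : CommGroup V := { (inferInstance : Group V) with mul_comm := fun a b => Subtype.ext (hab a a.2 b b.2) }
  have := Fintype.ofFinite V
  have := Fintype.ofFinite (X ⧸ V)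
  haveI : Finite (SemidirectProduct ↥V (X ⧸ V) φ) := Finite.of_equiv _ SemidirectProduct.equivProd.symm
  let s : X ⧸ V → X := Quotient.out
  have hs : ∀ a : X ⧸ V, ((s a : X) : X ⧸ V) = a := fun a => Quotient.out_eq a
  let e : V × (X ⧸ V) ≃ X :=
    Equiv.ofBijective (fun p => (p.1 : X) * s p.2) ⟨fun p q h => by
      have h2 : p.2 = q.2 := by
        have := congrArg (QuotientGroup.mk : X → X ⧸ V) h
        simpa [hs, (QuotientGroup.eq_one_iff (N := V) (p.1 : X)).mpr p.1.2,
          (QuotientGroup.eq_one_iff (N := V) (q.1 : X)).mpr q.1.2] using this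
      refine Prod.ext (Subtype.ext ?_) h2
      simp only [h2] at h
      exact mul_right_cancel h, fun x => ⟨(⟨x * (s (x : X ⧸ V))⁻¹, by
        rw [← QuotientGroup.eq_one_iff, QuotientGroup.mk_mul, QuotientGroup.mk_inv, hs, mul_inv_cancel]⟩,
        (x : X ⧸ V)), by simp⟩⟩
  let SX : (X ⧸ V) × (X ⧸ V) → Type _ := fun c =>
    {r : V × V // Commute (e (r.1, c.1)) (e (r.2, c.2))}
  let SS : (X ⧸ V) × (X ⧸ V) → Type _ := fun c =>
    {r : V × V // Commute (⟨r.1, c.1⟩ : SemidirectProduct ↥V (X ⧸ V) φ) ⟨r.2, c.2⟩}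
  have hX : Nat.card {p : X × X // Commute p.1 p.2} = ∑ c, Nat.card (SX c) := by
    rw [← Nat.card_sigma]
    exact Nat.card_congr
      { toFun := fun p => ⟨((e.symm p.1.1).2, (e.symm p.1.2).2), ⟨((e.symm p.1.1).1, (e.symm p.1.2).1), by
          show Commute (e (e.symm p.1.1)) (e (e.symm p.1.2))
          rw [e.apply_symm_apply, e.apply_symm_apply]; exact p.2⟩⟩
        invFun := fun c => ⟨(e (c.2.1.1, c.1.1), e (c.2.1.2, c.1.2)), c.2.2⟩
        left_inv := fun p => Subtype.ext (Prod.ext (e.apply_symm_apply _) (e.apply_symm_apply _))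
        right_inv := fun ⟨⟨a, b⟩, ⟨⟨v, w⟩, h⟩⟩ => Sigma.subtype_ext
          (by simp only [Equiv.symm_apply_apply]) (by simp only [Equiv.symm_apply_apply]) }
  have hS : Nat.card {p : SemidirectProduct ↥V (X ⧸ V) φ × SemidirectProduct ↥V (X ⧸ V) φ // Commute p.1 p.2} =
      ∑ c, Nat.card (SS c) := by
    rw [← Nat.card_sigma]
    exact Nat.card_congr
      { toFun := fun p => ⟨(p.1.1.right, p.1.2.right), ⟨(p.1.1.left, p.1.2.left), p.2⟩⟩
        invFun := fun c => ⟨(⟨c.2.1.1, c.1.1⟩, ⟨c.2.1.2, c.1.2⟩), c.2.2⟩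
        left_inv := fun p => rfl
        right_inv := fun c => rfl }
  have hφ' : ∀ (x : X) (v : V), x * v = (φ (x : X ⧸ V) v : V) * x := fun x v => by
    rw [hφ]; group
  have hcomp : ∀ (a b : X ⧸ V) (v w : V),
      e (v, a) * e (w, b) = ((v * φ a w : V) : X) * (s a * s b) := fun a b v w => by
    show (v : X) * s a * ((w : X) * s b) = _
    have := hφ' (s a) w
    rw [hs] at this
    rw [Subgroup.coe_mul, mul_assoc (v : X) (s a), ← mul_assoc (s a), this]
    group
  have hle : ∀ c, Nat.card (SX c) ≤ Nat.card (SS c) := by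
    rintro ⟨a, b⟩
    rcases isEmpty_or_nonempty (SX (a, b)) with hE | ⟨⟨⟨v₀, w₀⟩, h₀⟩⟩
    · simp [Nat.card_of_isEmpty]
    have hab' : a * b = b * a := by
      have := congrArg (QuotientGroup.mk : X → X ⧸ V) h₀.eq
      rw [show e (v₀, a) = (v₀ : X) * s a from rfl, show e (w₀, b) = (w₀ : X) * s b from rfl] at this
      simp only [QuotientGroup.mk_mul, hs] at this
      simpa [(QuotientGroup.eq_one_iff (N := V) (v₀ : X)).mpr v₀.2,
        (QuotientGroup.eq_one_iff (N := V) (w₀ : X)).mpr w₀.2] using this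
    refine Nat.card_le_card_of_injective (fun r => (⟨(r.1.1 * v₀⁻¹, r.1.2 * w₀⁻¹), ?_⟩ : SS (a, b))) ?_
    · obtain ⟨⟨v, w⟩, h⟩ := r
      have E1 : e (v, a) * e (w, b) = e (w, b) * e (v, a) := h.eq
      have E0 : e (v₀, a) * e (w₀, b) = e (w₀, b) * e (v₀, a) := h₀.eq
      rw [hcomp, hcomp] at E1 E0
      have E : (((v * φ a w) * (v₀ * φ a w₀)⁻¹ : V) : X) = (((w * φ b v) * (w₀ * φ b v₀)⁻¹ : V) : X) := by
        simp only [Subgroup.coe_mul, InvMemClass.coe_inv]
        simp only [Subgroup.coe_mul] at E1 E0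
        calc (v : X) * (φ a w : V) * ((v₀ : X) * (φ a w₀ : V))⁻¹
            = ((v : X) * (φ a w : V) * (s a * s b)) * ((v₀ : X) * (φ a w₀ : V) * (s a * s b))⁻¹ := by group
          _ = (w : X) * (φ b v : V) * ((w₀ : X) * (φ b v₀ : V))⁻¹ := by rw [E1, E0]; group
      refine SemidirectProduct.ext ?_ hab'
      show v * v₀⁻¹ * φ a (w * w₀⁻¹) = w * w₀⁻¹ * φ b (v * v₀⁻¹)
      rw [map_mul, map_mul, map_inv, map_inv, mul_mul_mul_comm, ← mul_inv,
        mul_mul_mul_comm w, ← mul_inv]
      exact Subtype.ext E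
    · intro r r' h
      have h' : (r.1.1 * v₀⁻¹, r.1.2 * w₀⁻¹) = (r'.1.1 * v₀⁻¹, r'.1.2 * w₀⁻¹) := congrArg Subtype.val h
      exact Subtype.ext (Prod.ext (mul_right_cancel (congrArg Prod.fst h')) (mul_right_cancel (congrArg Prod.snd h')))
  have h := (hX ▸ hS ▸ Finset.sum_le_sum fun c _ => hle c :
    Nat.card {p : X × X // Commute p.1 p.2} ≤
      Nat.card {p : SemidirectProduct ↥V (X ⧸ V) φ × SemidirectProduct ↥V (X ⧸ V) φ // Commute p.1 p.2})
  rw [card_comm_eq_card_conjClasses_mul_card, card_comm_eq_card_conjClasses_mul_card,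
    Nat.card_congr SemidirectProduct.equivProd, Nat.card_congr e.symm] at h
  exact Nat.le_of_mul_le_mul_right h Nat.card_pos

end Cfsg.Agent.S4965
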