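import Cfsg.Statements.S4989
import Cfsg.Agent.Lib.Block.NormBound
-- import your own Cfsg.Agent.* helpers here

set_option autoImplicit false
open Cfsg CfsgLib.Block

open Cfsg

namespace Cfsg.Agent.S4989

/-- Let H be a subgroup of the finite group G and χ an irreducible complex character of G. Then the inner product of the restriction of χ to H with itself, (1/#H)·Σ_{h ∈ H} |χ(h)|², is at most 1 + #(Z ∖ H)/#H, where Z is the set of zeros of χ in G. -/
theorem result {G : Type*} [Group G] [Finite G] (H : Subgroup G) (χ : Cfsg.IrrCharacter G) : (Nat.card ↥H : ℝ)⁻¹ * ∑ᶠ h : ↥H, ‖(χ : G → ℂ) h‖ ^ 2 ≤ 1 + (Set.ncard ({x : G | (χ : G → ℂ) x = 0} \ (H : Set G)) : ℝ) / (Nat.card ↥H : ℝ) := by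
  classical
  letI := Fintype.ofFinite G
  have := Fintype.ofFinite H
  rw [finsum_eq_sum_of_fintype]
  have hG : (0 : ℝ) < (Nat.card H : ℝ) := by exact_mod_cast Nat.card_pos
  have h3 := CfsgLib.Char.classInner_irr_self χ
  rw [CfsgLib.Char.classInner_self, Complex.ofReal_eq_one,
    inv_mul_eq_one₀ (by exact_mod_cast Nat.card_pos.ne'),
    ← Finset.sum_filter_add_sum_filter_not Finset.univ (fun x : G => x ∈ H),
    ← Finset.sum_filter_add_sum_filter_not (Finset.univ.filter fun x : G => x ∉ H)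
      (fun x : G => (χ : G → ℂ) x = 0)] at h3
  rw [Finset.filter_filter, Finset.filter_filter,
    Finset.sum_eq_zero (s := Finset.univ.filter fun x : G => x ∉ H ∧ (χ : G → ℂ) x = 0)
      (fun x hx => by rw [(Finset.mem_filter.mp hx).2.2, norm_zero]; simp), zero_add] at h3
  have hsub : ∑ h : H, ‖(χ : G → ℂ) h‖ ^ 2 = ∑ x ∈ Finset.univ.filter (fun x : G => x ∈ H), ‖(χ : G → ℂ) x‖ ^ 2 :=
    (Finset.sum_subtype _ (fun x => by simp) fun x : G => ‖(χ : G → ℂ) x‖ ^ 2).symm
  have hge := card_nonzero_le_sum_sq χ H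
  have hZ : ({x : G | (χ : G → ℂ) x = 0} \ (H : Set G)).ncard =
      (Finset.univ.filter fun x : G => x ∉ H ∧ (χ : G → ℂ) x = 0).card := by
    rw [← Set.ncard_coe_finset]; congr 1; ext x; simp [and_comm]
  have hc : ((Finset.univ.filter fun x : G => x ∈ H).card : ℝ) = (Nat.card H : ℝ) := by
    rw [← Fintype.card_subtype, Nat.card_eq_fintype_card]
  have hN : (Nat.card G : ℝ) = ((Finset.univ.filter fun x : G => x ∈ H).card : ℝ) +
      (((Finset.univ.filter fun x : G => x ∉ H ∧ (χ : G → ℂ) x = 0).card : ℝ) +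
      ((Finset.univ.filter fun x : G => x ∉ H ∧ ¬ (χ : G → ℂ) x = 0).card : ℝ)) := by
    rw [Nat.card_eq_fintype_card, ← Finset.card_univ, ← Finset.filter_filter, ← Finset.filter_filter,
      ← Nat.cast_add, ← Nat.cast_add, Finset.card_filter_add_card_filter_not,
      Finset.card_filter_add_card_filter_not]
  rw [hsub, hZ, inv_mul_eq_div, div_le_iff₀ hG, add_mul, one_mul, div_mul_cancel₀ _ hG.ne']
  linarith

end Cfsg.Agent.S4989
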