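import Cfsg.Statements.S4993
import Cfsg.Agent.Lib.Invol.PrimMetaDegree

set_option autoImplicit false
open Cfsg

namespace Cfsg.Agent.S4993

open CfsgLib.Char CfsgLib.Char.ChiefFactor

universe u

/-- A primitive character restricts homogeneously to every normal subgroup. -/
private theorem homogeneous {G : Type u} [Group G] [Fintype G] (χ : IrrCharacter G)
    (hprim : ¬ ∃ (H : Subgroup G), H ≠ ⊤ ∧ ∃ θ : ↥H → ℂ, Cfsg.IsCharacter ↥H θ ∧ Cfsg.indFun H θ = (χ : G → ℂ))
    (N : Subgroup G) (hN : N.Normal) :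
    ∃ (ϑ : N → ℂ) (e : ℕ), IsIrrCharacter N ϑ ∧ (fun n : N => (χ : G → ℂ) n) = (e : ℂ) • ϑ := by
  classical
  haveI := hN
  haveI := Fintype.ofFinite N
  obtain ⟨φ, e, C, hφ, hφC, hφ0, -, -, hcard, hres⟩ := exists_orbit_form N χ.2
  obtain ⟨ψ, hψ, hind⟩ := exists_inertia_correspondent N χ.2 hφ hφ0
  have hT : inertia N φ = ⊤ := by
    by_contra h
    exact hprim ⟨inertia N φ, h, ψ, isCharacter_of_isIrr hψ, hind.symm⟩
  rw [hT, Subgroup.index_top] at hcard
  obtain ⟨a, ha⟩ := Finset.card_eq_one.1 hcard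
  rw [ha, Finset.mem_singleton] at hφC
  rw [ha, Finset.sum_singleton, ← hφC] at hres
  exact ⟨φ, e, hφ, hres⟩


/-- Let G be a group of odd order whose order has exactly two prime divisors and whose quotient by its Fitting subgroup is nilpotent (G is metanilpotent), and let χ be a primitive irreducible complex character of G (not induced from a character of any proper subgroup). Then χ(1) divides the size of some conjugacy class of G. -/
theorem result {G : Type*} [Group G] [Fintype G] (hodd : Odd (Nat.card G)) (h2 : (Nat.card G).primeFactors.card = 2) [hF : (Cfsg.fittingSubgroup G).Normal] (hmeta : Group.IsNilpotent (G ⧸ Cfsg.fittingSubgroup G)) (χ : Cfsg.IrrCharacter G) (hprim : ¬ ∃ (H : Subgroup G), H ≠ ⊤ ∧ ∃ θ : ↥H → ℂ, Cfsg.IsCharacter ↥H θ ∧ Cfsg.indFun H θ = (χ : G → ℂ)) : ∃ g : G, Cfsg.charDegree (χ : G → ℂ) ∣ (Subgroup.centralizer ({g} : Set G)).index := by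
  classical
  -- the quotient by the kernel
  obtain ⟨n, ρ, hρ, hρχ⟩ := χ.2
  have hmem : ∀ g : G, g ∈ MonoidHom.ker ρ ↔ (χ : G → ℂ) g = (χ : G → ℂ) 1 := fun g => by
    rw [← hρχ, Representation.char_one, char_eq_degree_iff, MonoidHom.mem_ker]
    rfl
  set K := MonoidHom.ker ρ with hK
  obtain ⟨χ', hχ'⟩ := CfsgLib.Block.exists_deflate (N := K) χ fun z hz => (hmem z).1 hz
  let π := QuotientGroup.mk' K
  have hπs : Function.Surjective π := QuotientGroup.mk'_surjective K
  haveI := Fintype.ofFinite (G ⧸ K)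
  have hfaith : ∀ w, (χ' : G ⧸ K → ℂ) w = (χ' : G ⧸ K → ℂ) 1 → w = 1 := by
    intro w hw
    obtain ⟨x, rfl⟩ := QuotientGroup.mk_surjective w
    rw [← QuotientGroup.mk_one, hχ', hχ'] at hw
    exact (QuotientGroup.eq_one_iff x).2 ((hmem x).2 hw)
  have hqp : ∀ Nb : Subgroup (G ⧸ K), Nb.Normal → ∃ (ϑ : Nb → ℂ) (e : ℕ),
      IsIrrCharacter Nb ϑ ∧ (fun n : Nb => (χ' : G ⧸ K → ℂ) n) = (e : ℂ) • ϑ := by
    intro Nb hNb
    haveI := hNb
    haveI := Fintype.ofFinite Nb
    obtain ⟨φ, e, C, hφ, hφC, -, he0, hC, -, hres⟩ := exists_orbit_form Nb χ'.2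
    let N := Nb.comap π
    haveI := Fintype.ofFinite N
    obtain ⟨ϑ, e', hϑ, hϑe⟩ := homogeneous χ hprim N inferInstance
    let f : N →* Nb := π.subgroupComap Nb
    have hf : Function.Surjective f := fun w => by
      obtain ⟨x, hx⟩ := hπs (w : G ⧸ K)
      exact ⟨⟨x, by show π x ∈ Nb; rw [hx]; exact w.2⟩, Subtype.ext hx⟩
    have hlift : (e' : ℂ) • ϑ = (e : ℂ) • ∑ ψ ∈ C, fun x : N => ψ (f x) := by
      rw [← hϑe]
      funext x
      have h := congrFun hres (f x)
      simp only [Pi.smul_apply, Finset.sum_apply] at h ⊢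
      rw [← h]
      exact (hχ' x).symm
    have hcard : ∀ ψ ∈ C, (fun x : N => ψ (f x)) = ϑ := by
      intro ψ hψ
      by_contra hne
      have h0 : classInner ((e' : ℂ) • ϑ) (fun x : N => ψ (f x)) = 0 := by
        rw [classInner_smul_left, classInner_irr_ne (χ := ⟨ϑ, hϑ⟩)
          (ψ := ⟨_, isIrrCharacter_comp_surjective (hC ψ hψ) f hf⟩) (fun h => hne (congrArg Subtype.val h).symm), mul_zero]
      rw [hlift, classInner_smul_left, classInner_sum_left, Finset.sum_eq_single_of_mem ψ hψ fun b hb hbne =>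
        classInner_irr_ne (χ := ⟨_, isIrrCharacter_comp_surjective (hC b hb) f hf⟩)
          (ψ := ⟨_, isIrrCharacter_comp_surjective (hC ψ hψ) f hf⟩) fun h => hbne (funext fun w => by
            obtain ⟨x, rfl⟩ := hf w
            exact congrFun (congrArg Subtype.val h) x)] at h0
      rw [classInner_irr_self ⟨_, isIrrCharacter_comp_surjective (hC ψ hψ) f hf⟩, mul_one, Nat.cast_eq_zero] at h0
      omega
    have hC1 : C = {φ} := Finset.eq_singleton_iff_unique_mem.2 ⟨hφC, fun b hb => funext fun w => by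
      obtain ⟨x, rfl⟩ := hf w
      exact congrFun ((hcard b hb).trans (hcard φ hφC).symm) x⟩
    refine ⟨φ, e, hφ, ?_⟩
    rw [hres, hC1, Finset.sum_singleton]
  -- the primes
  obtain ⟨p, q, hne, hpq⟩ := Finset.card_eq_two.1 h2
  have hp : p.Prime := Nat.prime_of_mem_primeFactors (hpq ▸ Finset.mem_insert_self p {q})
  have hq : q.Prime := Nat.prime_of_mem_primeFactors
    (hpq ▸ Finset.mem_insert_of_mem (Finset.mem_singleton_self q))
  haveI := Fact.mk hp
  haveI := Fact.mk hq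
  obtain ⟨i, j, hij⟩ : ∃ i j, Nat.card (G ⧸ K) = p ^ i * q ^ j := by
    have hG : Nat.card G = p ^ (Nat.card G).factorization p * q ^ (Nat.card G).factorization q := by
      have h := Nat.prod_factorization_pow_eq_self (n := Nat.card G) Nat.card_pos.ne'
      rw [Finsupp.prod, Nat.support_factorization, hpq, Finset.prod_pair hne] at h
      exact h.symm
    obtain ⟨d1, d2, h1, h2, h3⟩ := exists_dvd_and_dvd_of_dvd_mul (hG ▸ Subgroup.card_quotient_dvd_card K)
    obtain ⟨i, -, rfl⟩ := (Nat.dvd_prime_pow hp).1 h1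
    obtain ⟨j, -, rfl⟩ := (Nat.dvd_prime_pow hq).1 h2
    exact ⟨i, j, h3⟩
  -- the Fitting subgroup of the quotient
  haveI := CfsgLib.Coprime.fitting_normal (G := G ⧸ K)
  haveI := CfsgLib.Coprime.fitting_isNilpotent (G := G ⧸ K)
  haveI := hmeta
  haveI : Group.IsNilpotent ((G ⧸ K) ⧸ Cfsg.fittingSubgroup (G ⧸ K)) := Group.nilpotent_of_surjective
    (QuotientGroup.map (Cfsg.fittingSubgroup G) (Cfsg.fittingSubgroup (G ⧸ K)) π
      (Subgroup.map_le_iff_le_comap.1 (CfsgLib.Coprime.map_fitting_le hπs)))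
    (fun w => by
      obtain ⟨v, rfl⟩ := QuotientGroup.mk_surjective w
      obtain ⟨x, rfl⟩ := hπs v
      exact ⟨(x : G ⧸ Cfsg.fittingSubgroup G), rfl⟩)
  have hZ : Subgroup.center (G ⧸ K) ≤ Cfsg.fittingSubgroup (G ⧸ K) :=
    CfsgLib.Coprime.le_fitting (by
      letI : CommGroup (Subgroup.center (G ⧸ K)) := { (inferInstance : Group (Subgroup.center (G ⧸ K))) with
        mul_comm := fun a b => Subtype.ext (Subgroup.mem_center_iff.1 a.2 b).symm }
      exact CommGroup.isNilpotent)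
  obtain ⟨w, hw⟩ := CfsgLib.Invol.PrimMeta.core hne
    (hodd.of_dvd_nat (Subgroup.card_quotient_dvd_card K)) hij χ' hfaith hqp _ hZ
  obtain ⟨x, rfl⟩ := hπs w
  refine ⟨x, ?_⟩
  have hdeg : Cfsg.charDegree (χ' : G ⧸ K → ℂ) = Cfsg.charDegree (χ : G → ℂ) := by
    have h1 := CfsgLib.Block.ItoMichler.one_eq_cast χ'
    rw [← QuotientGroup.mk_one, hχ', CfsgLib.Block.ItoMichler.one_eq_cast χ] at h1
    exact_mod_cast h1.symm
  rw [← hdeg]
  refine hw.trans ?_
  rw [← Subgroup.index_comap_of_surjective (Subgroup.centralizer ({π x} : Set (G ⧸ K))) hπs]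
  refine Subgroup.index_dvd_of_le fun y hy => ?_
  rw [Subgroup.mem_comap, Subgroup.mem_centralizer_singleton_iff, ← map_mul, ← map_mul,
    Subgroup.mem_centralizer_singleton_iff.1 hy]

end Cfsg.Agent.S4993
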