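import Cfsg.Statements.S4997
import Cfsg.Statements.S4997
import Cfsg.Agent.Lib.Char.VanishingPElements

set_option autoImplicit false
open Cfsg

namespace Cfsg.Agent.S4997

/-- Let p be an odd prime and G a finite solvable group with exactly one conjugacy class consisting of vanishing elements (elements at which some irreducible complex character is zero) of order divisible by p. Let P be a Sylow p-subgroup of G. Then the order of P is at most p times the order of the largest normal p-subgroup of G. -/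
theorem result {G : Type*} [Group G] [Finite G] (hsolv : Group.IsSolvable G) (p : ℕ) [Fact p.Prime] (hp : p ≠ 2) (h1 : Set.ncard {C : ConjClasses G | (∀ g ∈ C.carrier, ∃ χ : Cfsg.IrrCharacter G, (χ : G → ℂ) g = 0) ∧ ∃ g ∈ C.carrier, p ∣ orderOf g} = 1) (P : Sylow p G) : Nat.card ↥(P : Subgroup G) ≤ p * Nat.card ↥(Cfsg.pCore p G) := by
  classical
  haveI := hsolv
  haveI hO : (Cfsg.pCore p G).Normal := CfsgLib.Coprime.pCore_normal' p
  obtain ⟨C, hC⟩ := Set.ncard_eq_one.1 h1
  have hmem : ∀ g : G, p ∣ orderOf g → CfsgLib.Char.VanishingP.Vanishes g → ConjClasses.mk g = C := by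
    rintro g hd ⟨χ, hχ⟩
    refine (Set.ext_iff.1 hC _).1 ⟨fun x hx => ⟨χ, ?_⟩, g, ConjClasses.mem_carrier_mk, hd⟩
    have hx' : IsConj x g := ConjClasses.mk_eq_mk_iff_isConj.1 (ConjClasses.mem_carrier_iff_mk_eq.1 hx)
    rw [CfsgLib.Char.classFun_isConj (CfsgLib.Char.isClassFunction_irr χ) hx', hχ]
  obtain ⟨g₀, hg₀⟩ := ConjClasses.exists_rep C
  have hb : ∀ g : G, p ∣ orderOf g → CfsgLib.Char.VanishingP.Vanishes g → orderOf g = orderOf g₀ := by
    intro g hd hv
    obtain ⟨c, hc⟩ := isConj_iff.1 (ConjClasses.mk_eq_mk_iff_isConj.1 ((hmem g hd hv).trans hg₀.symm))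
    rw [← hc]
    exact ((MulAut.conj c).orderOf_eq g).symm
  have hle := CfsgLib.Char.VanishingP.card_map_sylow_le hb P
  set π := QuotientGroup.mk' (Cfsg.pCore p G) with hπ
  have h2 : Nat.card ↥(Cfsg.pCore p G) * Nat.card ↥((P : Subgroup G).map π) = Nat.card ↥(P : Subgroup G) := by
    have h3 := ((π.subgroupMap (P : Subgroup G)).ker).card_mul_index
    rw [Subgroup.index_ker, MonoidHom.range_eq_top.2 (π.subgroupMap_surjective _), Subgroup.card_top] at h3
    rw [← h3]
    congr 1
    have hle' : Cfsg.pCore p G ≤ (P : Subgroup G) :=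
      (CfsgLib.Coprime.pCore_isPGroup p).le_sylow_of_normal P
    refine Nat.card_congr ((Subgroup.subgroupOfEquivOfLe hle').symm.toEquiv.trans
      (Equiv.subtypeEquivRight fun x => ?_))
    rw [MonoidHom.mem_ker, Subgroup.mem_subgroupOf, Subtype.ext_iff, ← QuotientGroup.eq_one_iff]
    rfl
  rw [← h2, mul_comm p]
  exact Nat.mul_le_mul_left _ hle

end Cfsg.Agent.S4997
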