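import Cfsg.Statements.S5011
-- import your own Cfsg.Agent.* helpers here

set_option autoImplicit false


open Cfsg

namespace Cfsg.Agent.S5011

/-- Let G be a finite non-abelian simple group and ρ an irreducible complex representation of G on a space of dimension greater than one (irreducible in the sense that the only subspaces invariant under every ρ(x) are 0 and the whole space). Then for every non-identity element g of G, the centralizer of g does not act irreducibly: there is a non-zero proper subspace invariant under ρ(c) for every c commuting with g. -/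
theorem result {G : Type*} [Group G] [Finite G] [IsSimpleGroup G]
    (hG : ¬ IsMulCommutative G) {V : Type*} [AddCommGroup V] [Module ℂ V] [FiniteDimensional ℂ V]
    (ρ : Representation ℂ G V)
    (hirr : ∀ W : Submodule ℂ V, (∀ x : G, ∀ v ∈ W, ρ x v ∈ W) → W = ⊥ ∨ W = ⊤)
    (hdim : 1 < Module.finrank ℂ V) (g : G) (hg : g ≠ 1) :
    ∃ W : Submodule ℂ V, W ≠ ⊥ ∧ W ≠ ⊤ ∧ ∀ c ∈ Subgroup.centralizer ({g} : Set G), ∀ v ∈ W, ρ c v ∈ W := by
  classical
  have : Nontrivial V := Module.nontrivial_of_finrank_pos (R := ℂ) (by omega)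
  by_contra hW
  push Not at hW
  obtain ⟨l, hl⟩ := Module.End.exists_eigenvalue (ρ g)
  have htop : Module.End.eigenspace (ρ g) l = ⊤ := by
    by_contra hne
    obtain ⟨c, hc, v, hv, hbad⟩ := hW _ hl hne
    refine hbad (Module.End.mem_eigenspace_iff.mpr ?_)
    rw [← Module.End.mul_apply, ← map_mul, ← Subgroup.mem_centralizer_singleton_iff.mp hc, map_mul,
      Module.End.mul_apply, Module.End.mem_eigenspace_iff.mp hv, map_smul]
  have hg' : ∀ v, ρ g v = l • v := fun v =>
    Module.End.mem_eigenspace_iff.mp (htop ▸ Submodule.mem_top)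
  let N : Subgroup G :=
    { carrier := {x | ∀ y, ρ (x * y) = ρ (y * x)}
      one_mem' := fun y => by simp
      mul_mem' := fun {a b} ha hb y => by
        calc ρ (a * b * y) = ρ a * ρ (b * y) := by rw [mul_assoc, map_mul]
          _ = ρ (a * y) * ρ b := by rw [hb, map_mul, map_mul, mul_assoc]
          _ = ρ (y * (a * b)) := by rw [ha, ← map_mul, mul_assoc]
      inv_mem' := fun {a} ha y => by
        have h := ha (a⁻¹ * y * a⁻¹)
        rw [show a * (a⁻¹ * y * a⁻¹) = y * a⁻¹ by group, show a⁻¹ * y * a⁻¹ * a = a⁻¹ * y by group] at h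
        exact h.symm }
  have hgN : g ∈ N := fun y => LinearMap.ext fun v => by
    simp [map_mul, Module.End.mul_apply, hg', map_smul]
  have hNn : N.Normal := ⟨fun a ha x y => by
    have hx : ρ (x * a * x⁻¹) = ρ a := by
      rw [map_mul, ← ha x, ← map_mul, mul_inv_cancel_right]
    rw [map_mul, hx, ← map_mul, ha, map_mul, map_mul ρ y (x * a * x⁻¹), hx]⟩
  have hN : N = ⊤ := (IsSimpleGroup.eq_bot_or_eq_top_of_normal N hNn).resolve_left
    fun h => hg (by rw [h] at hgN; exact Subgroup.mem_bot.mp hgN)
  have hall : ∀ x : G, ∃ c : ℂ, ∀ v, ρ x v = c • v := by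
    intro x
    obtain ⟨c, hc⟩ := Module.End.exists_eigenvalue (ρ x)
    rcases hirr (Module.End.eigenspace (ρ x) c) (fun y v hv => Module.End.mem_eigenspace_iff.mpr (by
      have hx : x ∈ N := hN ▸ Subgroup.mem_top x
      rw [← Module.End.mul_apply, ← map_mul, hx y, map_mul, Module.End.mul_apply,
        Module.End.mem_eigenspace_iff.mp hv, map_smul])) with h | h
    · exact absurd h hc
    · exact ⟨c, fun v => Module.End.mem_eigenspace_iff.mp (h ▸ Submodule.mem_top)⟩
  obtain ⟨v, hv⟩ := exists_ne (0 : V)
  rcases hirr (Submodule.span ℂ {v}) (fun x w hw => by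
    obtain ⟨c, hc⟩ := hall x
    rw [hc]
    exact Submodule.smul_mem _ _ hw) with h | h
  · exact hv (Submodule.span_singleton_eq_bot.mp h)
  · have := congrArg (fun W : Submodule ℂ V => Module.finrank ℂ W) h
    simp only [finrank_span_singleton hv, finrank_top] at this
    omega

end Cfsg.Agent.S5011
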