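import Cfsg.Statements.S5012
import Cfsg.Agent.Lib.Block.DefectLie.ClassicalInst
import Cfsg.Agent.Lib.Block.DefectLie.Twisted
import Cfsg.Agent.Lib.Block.DefiningChar.ChevBlocks
import Cfsg.Agent.Lib.Lie.SylowOver.ClassicalInst
import Cfsg.Agent.Lib.Lie.Chev.FullAll
import Cfsg.Agent.Lib.Lie.Chev.Tw.E6Simple
import Cfsg.Agent.Lib.Lie.Chev.Tw.D4Simple
import Cfsg.Agent.Lib.Lie.Chev.Tw.F4Simple
import Cfsg.Agent.Lib.Lie.Chev.Tw.G2Simple
import Cfsg.Agent.Lib.Lie.Suz.Twisted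
import Cfsg.Agent.Lib.Classical.HermOrder

set_option autoImplicit false
open Cfsg

namespace Cfsg.Agent.S5012

open CfsgLib.Lie CfsgLib.Lie.Chev CfsgLib.Char.PolarSteinberg CfsgLib.Block CfsgLib.Block.DefectLie

theorem lieType {G : Type*} [Group G] [Finite G] (p : ℕ) [Fact p.Prime] (hG : Cfsg.IsLieTypeChar p G) :
    CfsgLib.Block.DefectLie.Crit p G := by
  rcases hG with ⟨F, _, _, _, n, hn, hn4, ⟨e⟩⟩ | ⟨F, _, _, _, m, hm, hm3, ⟨e⟩⟩ |
    ⟨F, _, _, _, n, q, hF, hn, hs, ⟨e⟩⟩ | ⟨F, _, _, _, m, hm, hodd, ⟨e⟩⟩ | ⟨F, _, _, _, m, hm, ⟨e⟩⟩ |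
    ⟨F, _, _, _, m, a, b, hm, hab, ⟨e⟩⟩ | ⟨F, _, _, _, h⟩ | ⟨K, _, _, _, q, hq, h⟩ |
    ⟨rfl, F, _, _, m, hm, hF, ⟨e⟩⟩ | ⟨rfl, K, _, _, m, hm, hK, ⟨e⟩⟩ | ⟨rfl, K, _, _, m, hm, hK, ⟨e⟩⟩
  · exact (psl hn p).of_equiv e
  · exact (psp hm p).of_equiv e
  · obtain ⟨C⟩ := CfsgLib.Classical.uctx_exists hF
    exact (psu C hn hF p).of_equiv e
  · have h2 : (2 : F) ≠ 0 := by
      intro h
      have := CharP.cast_eq_zero_iff F p 2
      have hp : p = 2 := (Nat.prime_dvd_prime_iff_eq Fact.out Nat.prime_two).1 (this.1 (by exact_mod_cast h))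
      subst hp
      exact Nat.not_odd_iff_even.2 (Nat.even_iff.2 (FiniteField.even_card_iff_char_two.1 (ringChar.eq F 2))) hodd
    obtain ⟨e'⟩ : Nonempty (G ≃* Cfsg.POmega F ⇑(CfsgLib.Classical.oddQ m F)) := by
      rw [CfsgLib.Classical.oddQ_coe]; exact ⟨e⟩
    exact (pomega _ _ (by simp; omega) (Orthog.frame_odd h2 m) (by omega) p).of_equiv e'
  · obtain ⟨k, rfl⟩ : ∃ k, m = k + 1 := ⟨m - 1, by omega⟩
    obtain ⟨e'⟩ : Nonempty (G ≃* Cfsg.POmega F ⇑(CfsgLib.Classical.plusQ (k + 1) F)) := by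
      rw [CfsgLib.Classical.plusQ_coe]; exact ⟨e⟩
    exact (pomega _ _ (by simp; omega) (Orthog.frame_plus (k + 1)) (by omega) p).of_equiv e'
  · obtain ⟨e'⟩ : Nonempty (G ≃* Cfsg.POmega F ⇑(CfsgLib.Classical.minusQ (m - 1) F a b)) := by
      rw [CfsgLib.Classical.minusQ_coe]; exact ⟨e⟩
    exact (pomega _ _ (by simp; omega) (Orthog.frame_minus hab (m - 1)) (by omega) p).of_equiv e'
  · have hbig : 3 ≤ Fintype.card F → ∃ a : F, a ≠ 0 ∧ a ≠ 1 := fun h => by
      classical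
      by_contra hcon
      push Not at hcon
      have hsub : (Finset.univ : Finset F) ⊆ {0, 1} := fun x _ => by
        simp only [Finset.mem_insert, Finset.mem_singleton]
        exact or_iff_not_imp_left.2 (hcon x)
      have := (Finset.card_le_card hsub).trans Finset.card_le_two
      rw [Finset.card_univ] at this
      omega
    rcases h with ⟨h3, ⟨e⟩⟩ | ⟨⟨e⟩⟩ | ⟨⟨e⟩⟩ | ⟨⟨e⟩⟩ | ⟨⟨e⟩⟩
    · exact (crit_of_radicalCentral (DefiningChar.Chevalley.radicalCentral_chev (p := p) (F := F) (D := Cfsg.Lie.chevG2) (by simp)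
        (fullOf (D := Cfsg.Lie.chevG2) (by simp)))).of_equiv e
    · exact (crit_of_radicalCentral (DefiningChar.Chevalley.radicalCentral_chev (p := p) (F := F) (D := Cfsg.Lie.chevF4) (by simp)
        (fullOf (D := Cfsg.Lie.chevF4) (by simp)))).of_equiv e
    · exact (crit_of_radicalCentral (DefiningChar.Chevalley.radicalCentral_chev (p := p) (F := F) (D := Cfsg.Lie.chevE6) (by simp)
        (fullOf (D := Cfsg.Lie.chevE6) (by simp)))).of_equiv e
    · exact (crit_of_radicalCentral (DefiningChar.Chevalley.radicalCentral_chev (p := p) (F := F) (D := Cfsg.Lie.chevE7) (by simp)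
        (fullOf (D := Cfsg.Lie.chevE7) (by simp)))).of_equiv e
    · exact (crit_of_radicalCentral (DefiningChar.Chevalley.radicalCentral_chev (p := p) (F := F) (D := Cfsg.Lie.chevE8) (by simp)
        (fullOf (D := Cfsg.Lie.chevE8) (by simp)))).of_equiv e
  · obtain ⟨θ, hθ⟩ : ∃ θ : K ≃+* K, ∀ x, θ x = x ^ q := by
      rcases h with ⟨hK, -⟩ | ⟨hK, -⟩ <;> exact Frob.exists_powEquiv hq hK
    rcases h with ⟨hK, ⟨e⟩⟩ | ⟨hK, ⟨e⟩⟩
    · have h2 : ∀ t : K, θ (θ t) = t := fun t => by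
        rw [hθ, hθ, ← pow_mul, show q * q = q ^ 2 from (pow_two q).symm, ← hK, FiniteField.pow_card]
      exact (twisted (TE6.twGp θ hθ h2) ⟨0, by decide +kernel⟩
        ((TE6.orbits θ).irred_of_tab (TE6.wO_val θ) (by decide +kernel)) p).of_equiv e
    · have h3 : ∀ t : K, θ (θ (θ t)) = t := fun t => by
        rw [hθ, hθ, hθ, ← pow_mul, ← pow_mul, show q * (q * q) = q ^ 3 from (pow_three q).symm, ← hK,
          FiniteField.pow_card]
      exact (twisted (TD4.twGp θ hθ h3) ⟨0, by decide +kernel⟩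
        ((TD4.orbits θ).irred_of_tab (TD4.wO_val θ) (by decide +kernel)) p).of_equiv e
  · obtain ⟨e'⟩ := Suz.exists_twEquiv (F := F) (m := m) (hm := hm) (hF := hF)
    exact (suzuki hm hF).of_equiv (e.trans e'.symm)
  · obtain ⟨hc, θ, hsq, hθ⟩ := TF4.exists_theta hK
    exact (twisted (TF4.twGp θ hsq hθ) TF4.o0
      ((TF4.orbits θ hsq).irred_of_tab (TF4.wO_val θ hsq) (by decide +kernel)) 2).of_equiv e
  · obtain ⟨hc, θ, hcu, hθ, hneg⟩ := TG2.exists_theta hK
    exact (twisted (TG2.twGp θ hcu hθ hneg) ⟨0, by decide +kernel⟩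
      ((TG2.orbits θ hcu).irred_of_tab (TG2.wO_val θ hcu) (by decide +kernel)) 3).of_equiv e

/-- Let G be a finite simple group of Lie type in characteristic p. Then every p-block of G has defect zero or full defect: its defect is 0 or the exponent of p in the order of G (its defect groups are trivial or Sylow p-subgroups). -/
theorem result {G : Type*} [Group G] [Finite G] (p : ℕ) [Fact p.Prime] (hG : Cfsg.IsLieTypeChar p G) (M : Ideal Cfsg.AlgInt) (hM : Cfsg.IsPModular p M) (B : Set (Cfsg.IrrCharacter G)) (hB : Cfsg.IsPBlock M B) : Cfsg.blockDefect p B = 0 ∨ Cfsg.blockDefect p B = (Nat.card G).factorization p := by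
  exact defect_zero_or_full hM (lieType p hG) hB

end Cfsg.Agent.S5012
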