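import Cfsg.Statements.S5015
import Cfsg.Agent.Lib.RootSub.RankOne


set_option autoImplicit false
open Cfsg

namespace Cfsg.Agent.S5015

open CfsgLib.RootSub

/-- Let a group Y act doubly transitively on a set Ω with at least three points, and suppose that the stabilizer of a point α contains a nilpotent subgroup A, normalized by that stabilizer, which acts regularly on the points other than α. Then for any y in Y moving α, the subgroups A and y A y⁻¹ are the unipotent subgroups of a rank one group, and the normal closure of A in Y (the subgroup generated by all conjugates of A) is generated by A and y A y⁻¹ alone. -/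
theorem result {Y Ω : Type*} [Group Y] [MulAction Y Ω]
    (h2 : MulAction.IsMultiplyPretransitive Y Ω 2) (hΩ : 3 ≤ ENat.card Ω) (α : Ω) (A : Subgroup Y)
    (hA : A ≤ MulAction.stabilizer Y α) (hAn : ∀ y ∈ MulAction.stabilizer Y α, Cfsg.conjBy A y = A)
    (hnil : Group.IsNilpotent A) (hreg : ∀ β γ : Ω, β ≠ α → γ ≠ α → ∃! a : Y, a ∈ A ∧ a • β = γ)
    (y : Y) (hy : y ∉ MulAction.stabilizer Y α) :
    Cfsg.IsRankOnePair A (Cfsg.conjBy A y) ∧ Subgroup.normalClosure (A : Set Y) = A ⊔ Cfsg.conjBy A y := by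
  classical
  have hAnorm : ∀ z ∈ MulAction.stabilizer Y α, z ∈ Subgroup.normalizer (A : Set Y) :=
    fun z hz => conjBy_eq_self_iff.1 (hAn z hz)
  set β := y • α with hβ
  have hβα : β ≠ α := fun e => hy (MulAction.mem_stabilizer_iff.2 e)
  obtain ⟨γ, hγα, hγβ⟩ : ∃ γ : Ω, γ ≠ α ∧ γ ≠ β := by
    by_contra hh
    push Not at hh
    have hsub : (Set.univ : Set Ω) ⊆ {α, β} := fun γ _ => by
      by_cases e : γ = α
      · exact Or.inl e
      · exact Or.inr (hh γ e)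
    have h1 := (Set.encard_le_encard hsub).trans (Set.encard_insert_le _ _)
    rw [Set.encard_singleton, Set.encard_univ] at h1
    have h3 : (3 : ℕ∞) ≤ 1 + 1 := hΩ.trans h1
    norm_num at h3
  set B := Cfsg.conjBy A y with hB
  have hBfix : ∀ b ∈ B, b • β = β := by
    rintro _ ⟨a, ha, rfl⟩
    show (y * a * y⁻¹) • β = β
    rw [hβ, mul_smul, mul_smul, inv_smul_smul, MulAction.mem_stabilizer_iff.1 (hA ha)]
  have hBreg : ∀ δ ε : Ω, δ ≠ β → ε ≠ β → ∃! b : Y, b ∈ B ∧ b • δ = ε := by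
    intro δ ε hδ hε
    obtain ⟨a, ⟨ha, hae⟩, hu⟩ := hreg (y⁻¹ • δ) (y⁻¹ • ε)
      (fun e => hδ (by rw [hβ, ← e, smul_inv_smul])) (fun e => hε (by rw [hβ, ← e, smul_inv_smul]))
    refine ⟨y * a * y⁻¹, ⟨conj_mem_conjBy ha, by rw [mul_smul, mul_smul, hae, smul_inv_smul]⟩, ?_⟩
    rintro b ⟨⟨a', ha', rfl⟩, hb⟩
    have hb' : (y * a' * y⁻¹) • δ = ε := hb
    show y * a' * y⁻¹ = _
    rw [hu a' ⟨ha', by rw [← hb', mul_smul, mul_smul, inv_smul_smul]⟩]
  have key : ∀ (P Q : Subgroup Y) (π ρ : Ω), π ≠ ρ → (∀ z : Y, z • π = π → Cfsg.conjBy P z = P) →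
      (∀ p ∈ P, p • π = π) →
      (∀ u v : Ω, u ≠ π → v ≠ π → ∃! p : Y, p ∈ P ∧ p • u = v) →
      (∀ u v : Ω, u ≠ ρ → v ≠ ρ → ∃! q : Y, q ∈ Q ∧ q • u = v) →
      ∀ w : Y, w • π = ρ → Cfsg.conjBy P w = Q → Cfsg.RankOneCondition P Q := by
    intro P Q π ρ hne hPn hPf hP hQ w hw hwQ a ha ha1
    have h1 : a⁻¹ • ρ ≠ ρ := by
      intro e
      obtain ⟨p, -, hu⟩ := hP ρ ρ hne.symm hne.symm
      exact ha1 (inv_eq_one.1 ((hu a⁻¹ ⟨inv_mem ha, e⟩).trans (hu 1 ⟨one_mem P, one_smul _ _⟩).symm))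
    obtain ⟨b, ⟨hb, hbe⟩, -⟩ := hQ (a⁻¹ • ρ) π h1 hne
    refine ⟨b, hb, fun e => ?_, ?_⟩
    · rw [e, one_smul] at hbe
      have := congrArg (fun u => a • u) hbe
      simp only [smul_inv_smul] at this
      exact hne (this.trans (hPf a ha)).symm
    · have h2 := hPn (b * a⁻¹ * w) (by rw [mul_smul, mul_smul, hw, hbe])
      rw [← conjBy_conjBy, hwQ, ← conjBy_conjBy] at h2
      have h3 := congrArg (fun X => Cfsg.conjBy X b⁻¹) h2
      rw [conjBy_conjBy, inv_mul_cancel, conjBy_one] at h3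
      exact h3.symm
  haveI := hnil
  refine ⟨⟨fun e => ?_, hnil, Group.nilpotent_of_mulEquiv
    (Subgroup.equivMapOfInjective A (MulAut.conj y).toMonoidHom (MulEquiv.injective _)), ?_, ?_⟩, ?_⟩
  · obtain ⟨a, ⟨ha, hae⟩, -⟩ := hreg β γ hβα hγα
    exact hγβ (hae.symm.trans (hBfix a (e ▸ ha)))
  · exact key A B α β hβα.symm (fun z hz => hAn z (MulAction.mem_stabilizer_iff.2 hz))
      (fun p hp => MulAction.mem_stabilizer_iff.1 (hA hp)) hreg hBreg y rfl rfl
  · refine key B A β α hβα (fun z hz => ?_) hBfix hBreg hreg y⁻¹ (inv_smul_smul y α)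
      (by rw [hB, conjBy_conjBy, inv_mul_cancel, conjBy_one])
    rw [hB, conjBy_conjBy, conjBy_eq_iff]
    refine hAnorm _ (MulAction.mem_stabilizer_iff.2 ?_)
    rw [mul_smul, mul_smul, ← hβ, hz, hβ, inv_smul_smul]
  refine le_antisymm ?_ (sup_le Subgroup.le_normalClosure ?_)
  swap
  · rintro _ ⟨a, ha, rfl⟩
    exact Subgroup.normalClosure_normal.conj_mem a (Subgroup.le_normalClosure ha) y
  have hconj : ∀ g : Y, ∀ a ∈ A, g * a * g⁻¹ ∈ A ⊔ B := by
    intro g a ha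
    by_cases e : g • α = α
    · exact Subgroup.mem_sup_left ((Subgroup.mem_normalizer_iff.1 (hAnorm g (MulAction.mem_stabilizer_iff.2 e)) a).1 ha)
    obtain ⟨a', ⟨ha', hae⟩, -⟩ := hreg β (g • α) hβα e
    have hz : (a' * y)⁻¹ * g ∈ MulAction.stabilizer Y α := by
      rw [MulAction.mem_stabilizer_iff, mul_smul, inv_smul_eq_iff, mul_smul]
      exact hae.symm
    have h1 := (Subgroup.mem_normalizer_iff.1 (hAnorm _ hz) a).1 ha
    have h2 : g * a * g⁻¹ = a' * (y * ((a' * y)⁻¹ * g * a * ((a' * y)⁻¹ * g)⁻¹) * y⁻¹) * a'⁻¹ := by group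
    rw [h2]
    exact mul_mem (mul_mem (Subgroup.mem_sup_left ha') (Subgroup.mem_sup_right (conj_mem_conjBy h1)))
      (inv_mem (Subgroup.mem_sup_left ha'))
  refine (Subgroup.closure_le _).2 fun x hx => ?_
  obtain ⟨a, ha, hc⟩ := Group.mem_conjugatesOfSet_iff.1 hx
  obtain ⟨g, rfl⟩ := isConj_iff.1 hc
  exact hconj g a ha

end Cfsg.Agent.S5015
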