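import Cfsg.Statements.S5017
import Cfsg.Agent.Lib.RootSub.RankOne


set_option autoImplicit false
open Cfsg

namespace Cfsg.Agent.S5017

open CfsgLib.RootSub

/-- Let X be a rank one group with unipotent subgroups A and B and N a normal subgroup of X. Then either X = N A or N lies in the centre of X. Consequently a perfect rank one group is quasisimple. -/
theorem result {X : Type*} [Group X] {A B : Subgroup X} (h : Cfsg.IsRankOneGroup X A B) :
    (∀ N : Subgroup X, N.Normal → N ⊔ A = ⊤ ∨ N ≤ Subgroup.center X) ∧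
    (Group.IsPerfect X → Cfsg.IsQuasisimple X) := by
  obtain ⟨htop, hp⟩ := h
  have hdich : ∀ N : Subgroup X, N.Normal → N ⊔ A = ⊤ ∨ N ≤ Subgroup.center X := by
    intro N hN
    by_cases hfix : ∀ n ∈ N, n ∈ Subgroup.normalizer (A : Set X)
    swap
    · left
      push Not at hfix
      obtain ⟨n, hn, hnA⟩ := hfix
      have hmem : Cfsg.conjBy A n ∈ Cfsg.unipotentSubgroups A B := ⟨n, htop ▸ Subgroup.mem_top n, rfl⟩
      obtain ⟨a, ha, he⟩ := (unipotent_cases hp hmem).resolve_left fun e => hnA (conjBy_eq_self_iff.1 e)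
      rw [eq_top_iff, ← htop]
      refine sup_le le_sup_right fun b hb => ?_
      have h1 : a * b * a⁻¹ ∈ Cfsg.conjBy A n := he ▸ conj_mem_conjBy hb
      obtain ⟨a', ha', hae⟩ := h1
      have h2 : a * b * a⁻¹ ∈ N ⊔ A := by
        rw [← hae]
        exact mul_mem (mul_mem (Subgroup.mem_sup_left hn) (Subgroup.mem_sup_right ha'))
          (inv_mem (Subgroup.mem_sup_left hn))
      have h3 := mul_mem (mul_mem (inv_mem (Subgroup.mem_sup_right (S := N) ha)) h2) (Subgroup.mem_sup_right ha)
      rwa [show a⁻¹ * (a * b * a⁻¹) * a = b by group] at h3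
    right
    intro n hn
    have hall : ∀ C ∈ Cfsg.unipotentSubgroups A B, n ∈ Subgroup.normalizer (C : Set X) := by
      rintro C ⟨x, -, rfl⟩
      rw [← conjBy_eq_self_iff, conjBy_conjBy, conjBy_eq_iff]
      have h1 := hfix _ (hN.conj_mem n hn x⁻¹)
      rw [inv_inv] at h1
      rwa [← mul_assoc]
    exact Subgroup.mem_center_iff.2 fun x =>
      central_of_normalizes_all hp (htop ▸ Subgroup.mem_top n) hall x (htop ▸ Subgroup.mem_top x)
  refine ⟨hdich, fun hP => ⟨hP, ?_⟩⟩
  haveI := hP
  haveI : Nontrivial X := by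
    obtain ⟨⟨a, -, ha1⟩, -⟩ := exists_ne_one hp
    exact ⟨⟨a, 1, ha1⟩⟩
  haveI : Nontrivial (X ⧸ Subgroup.center X) := by
    refine QuotientGroup.nontrivial_iff.2 fun e => ?_
    haveI : IsMulCommutative X := ⟨⟨fun a b => Subgroup.mem_center_iff.1 (e ▸ Subgroup.mem_top b) a⟩⟩
    exact Group.IsPerfect.not_isMulCommutative X inferInstance
  refine ⟨fun H hH => ?_⟩
  set N := H.comap (QuotientGroup.mk' (Subgroup.center X)) with hN
  have hNn : N.Normal := hH.comap _
  rcases hdich N hNn with hsup | hle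
  · right
    haveI := hNn
    have hNtop : N = ⊤ := by
      by_contra hne
      haveI : Nontrivial (X ⧸ N) := QuotientGroup.nontrivial_iff.2 hne
      haveI := hp.nilpotent_left
      have hsurj : Function.Surjective ((QuotientGroup.mk' N).comp A.subtype) := by
        intro q
        obtain ⟨x, rfl⟩ := QuotientGroup.mk'_surjective N q
        obtain ⟨n, hn, a, ha, rfl⟩ := Subgroup.mem_sup_of_normal_left.1 (hsup ▸ Subgroup.mem_top x)
        exact ⟨⟨a, ha⟩, by simp [(QuotientGroup.eq_one_iff n).2 hn]⟩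
      exact Group.IsPerfect.not_isNilpotent (X ⧸ N) (Group.nilpotent_of_surjective _ hsurj)
    rw [← Subgroup.map_comap_eq_self_of_surjective (QuotientGroup.mk'_surjective _) H, ← hN, hNtop,
      Subgroup.map_top_of_surjective _ (QuotientGroup.mk'_surjective _)]
  · left
    rw [← Subgroup.map_comap_eq_self_of_surjective (QuotientGroup.mk'_surjective _) H, ← hN,
      Subgroup.map_eq_bot_iff, QuotientGroup.ker_mk']
    exact hle

end Cfsg.Agent.S5017
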