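import Cfsg.Statements.S5018
import Cfsg.Agent.Lib.RootSub.RankOne


set_option autoImplicit false
open Cfsg

namespace Cfsg.Agent.S5018

open CfsgLib.RootSub
open scoped commutatorElement

/-- A rank one group is not nilpotent, and its second centre equals its centre. -/
theorem result {X : Type*} [Group X] {A B : Subgroup X} (h : Cfsg.IsRankOneGroup X A B) :
    Subgroup.upperCentralSeries X 2 = Subgroup.center X ∧ ¬ Group.IsNilpotent X := by
  obtain ⟨htop, hp⟩ := h
  have hsec : Subgroup.upperCentralSeries X 2 = Subgroup.center X := by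
    refine le_antisymm (fun n hn => ?_) (by rw [← Subgroup.upperCentralSeries_one]; exact Subgroup.upperCentralSeries_mono X one_le_two)
    have hcom : ∀ x : X, ⁅n, x⁆ ∈ Subgroup.center X := fun x => by
      rw [← Subgroup.upperCentralSeries_one]
      exact Subgroup.mem_upperCentralSeries_succ_iff.1 hn x
    have hall : ∀ C ∈ Cfsg.unipotentSubgroups A B, n ∈ Subgroup.normalizer (C : Set X) := by
      intro C hC
      rw [← conjBy_eq_self_iff]
      by_contra hne
      have hCu : Cfsg.conjBy C n ∈ Cfsg.unipotentSubgroups A B :=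
        conjBy_mem_unipotent hp hC (htop ▸ Subgroup.mem_top n)
      have hp' := pair_of_unipotent hp hCu hC hne
      obtain ⟨x, ⟨c, hc, rfl⟩, hx1⟩ := (exists_ne_one hp').1
      refine hx1 (eq_one_of_mem_normalizer (Cfsg.RankOnePair_symm hp') ⟨c, hc, rfl⟩ ?_)
      show n * c * n⁻¹ ∈ _
      rw [show n * c * n⁻¹ = ⁅n, c⁆ * c by rw [commutatorElement_def]; group]
      refine mul_mem (Subgroup.mem_normalizer_iff.2 fun y => ?_) (Subgroup.le_normalizer hc)
      rw [← Subgroup.mem_center_iff.1 (hcom c) y, mul_inv_cancel_right]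
    exact Subgroup.mem_center_iff.2 fun x =>
      central_of_normalizes_all hp (htop ▸ Subgroup.mem_top n) hall x (htop ▸ Subgroup.mem_top x)
  refine ⟨hsec, fun hnil => ?_⟩
  have hstep : ∀ k, Subgroup.upperCentralSeries X (k + 1) ≤ Subgroup.center X := by
    intro k
    induction k with
    | zero => rw [Subgroup.upperCentralSeries_one]
    | succ k ih =>
      intro x hx
      rw [← hsec]
      refine Subgroup.mem_upperCentralSeries_succ_iff.2 fun y => ?_
      rw [Subgroup.upperCentralSeries_one]
      exact ih (Subgroup.mem_upperCentralSeries_succ_iff.1 hx y)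
  obtain ⟨k, hk⟩ := hnil.nilpotent
  have hcen : ∀ x y : X, x * y = y * x := fun x y => Subgroup.mem_center_iff.1
    (hstep k (Subgroup.upperCentralSeries_mono X (Nat.le_succ k) (hk ▸ Subgroup.mem_top y))) x
  obtain ⟨b, hb, hb1⟩ := (exists_ne_one hp).2
  exact hb1 (eq_one_of_commute hp hb fun a _ => hcen a b)

end Cfsg.Agent.S5018
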