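import Cfsg.Statements.S5023
import Cfsg.Agent.Lib.RootSub.RankOne
-- import your own Cfsg.Agent.* helpers here

set_option autoImplicit false
open Cfsg

namespace Cfsg.Agent.S5023

open CfsgLib.RootSub


/-- Let X be a rank one group with unipotent subgroups A and B that acts faithfully on an abelian group V (written additively) with A acting quadratically: a' • (a • v − v) = a • v − v for all a, a' in A and v in V. Then A is either torsion-free or an elementary abelian p-group for some prime p. -/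
theorem result {X : Type*} [Group X] {A B : Subgroup X} (h : Cfsg.IsRankOneGroup X A B)
    {V : Type*} [AddCommGroup V] [DistribMulAction X V] (hf : ∀ x : X, (∀ v : V, x • v = v) → x = 1)
    (hq : ∀ a ∈ A, ∀ a' ∈ A, ∀ v : V, a' • (a • v - v) = a • v - v) :
    (∀ a ∈ A, a ≠ 1 → ¬ IsOfFinOrder a) ∨ ∃ p : ℕ, p.Prime ∧ Cfsg.IsElementaryAbelian p A := by
  classical
  have hp1 := h.2
  have hApow : ∀ a ∈ A, ∀ (n : ℕ) (v : V), a ^ n • v - v = n • (a • v - v) := by
    intro a ha n v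
    induction n with
    | zero => simp
    | succ k ih =>
      have e : a ^ (k + 1) • v - v = (a • (a ^ k • v - v) - (a ^ k • v - v)) + (a ^ k • v - v)
          + (a • v - v) := by
        rw [pow_succ', mul_smul, smul_sub]; abel
      rw [e, hq _ (pow_mem ha k) a ha, sub_self, zero_add, ih, succ_nsmul]
  -- `A` is commutative
  have hcomm : ∀ a ∈ A, ∀ a' ∈ A, a * a' = a' * a := by
    intro a ha a' ha'
    have hsum : ∀ x ∈ A, ∀ y ∈ A, ∀ v : V, (x * y) • v = (x • v - v) + (y • v - v) + v := by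
      intro x hx y hy v
      have e := hq y hy x hx v
      rw [smul_sub, sub_eq_iff_eq_add] at e
      rw [mul_smul, e]
      abel
    refine mul_inv_eq_one.1 (hf _ fun v => ?_) |>.trans rfl
    have e : ∀ w : V, (a * a') • w = (a' * a) • w := fun w => by
      rw [hsum a ha a' ha', hsum a' ha' a ha, add_comm (a • w - w)]
    calc (a * a' * (a' * a)⁻¹) • v = (a * a') • ((a' * a)⁻¹ • v) := mul_smul _ _ _
      _ = (a' * a) • ((a' * a)⁻¹ • v) := e _
      _ = v := smul_inv_smul _ _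
  by_cases htor : ∃ a ∈ A, a ≠ 1 ∧ IsOfFinOrder a
  swap
  · exact Or.inl fun a ha ha1 hfin => htor ⟨a, ha, ha1, hfin⟩
  obtain ⟨a₀, ha₀, ha₀1, hfin⟩ := htor
  right
  obtain ⟨p, hp, hpd⟩ := Nat.exists_prime_and_dvd (n := orderOf a₀) (by simp [ha₀1])
  obtain ⟨r, hr⟩ := hpd
  set c := a₀ ^ r with hc_def
  have hc : c ∈ A := pow_mem ha₀ r
  have hr0 : r ≠ 0 := by
    rintro rfl
    rw [mul_zero] at hr
    exact hfin.orderOf_pos.ne' hr
  have hc1 : c ≠ 1 := by
    intro e
    have := Nat.le_of_dvd (Nat.pos_of_ne_zero hr0) (orderOf_dvd_of_pow_eq_one e)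
    nlinarith [hp.two_le, Nat.pos_of_ne_zero hr0]
  have hcp : c ^ p = 1 := by rw [hc_def, ← pow_mul, mul_comm, ← hr, pow_orderOf_eq_one]
  refine ⟨p, hp, ⟨⟨fun x y => Subtype.ext (hcomm x x.2 y y.2)⟩⟩, fun a ha => ?_⟩
  -- elements killed by `p`, and the congruence modulo them
  have hker : ∀ v : V, p • (c • v - v) = 0 := fun v => by
    rw [← hApow c hc p v, hcp, one_smul, sub_self]
  obtain ⟨b, hb, -, he⟩ := hp1.cond_left c hc hc1
  have hA' : ∀ x ∈ A, ∃ β ∈ B, ∀ v : V, p • (x • v - v) = p • (β • v - v) := by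
    intro x hx
    have h1 : b⁻¹ * x * b ∈ Cfsg.conjBy B c⁻¹ := by
      rw [← he]; simpa using conj_mem_conjBy (g := b⁻¹) hx
    rw [mem_conjBy, inv_inv] at h1
    refine ⟨b * (c * (b⁻¹ * x * b) * c⁻¹) * b⁻¹, mul_mem (mul_mem hb h1) (inv_mem hb), fun v => ?_⟩
    have hfixc : ∀ w : V, p • (c • w) = p • w := fun w => by
      rw [← sub_eq_zero, ← smul_sub]; exact hker w
    have hfixci : ∀ w : V, p • (c⁻¹ • w) = p • w := fun w => by
      have := hfixc (c⁻¹ • w); rw [smul_inv_smul] at this; exact this.symm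
    have hpull : ∀ (g : X) (w : V), p • (g • w) = g • (p • w) := fun g w =>
      (map_nsmul (DistribMulAction.toAddMonoidHom V g) p w).symm
    simp only [smul_sub, mul_smul]
    congr 1
    symm
    rw [hpull b, hfixc, hpull b⁻¹, hpull x, hpull b, hfixci, hpull b⁻¹, smul_inv_smul,
      smul_inv_smul]
    exact (hpull x v).symm
  have hBq : ∀ β ∈ B, ∀ β' ∈ B, ∀ v : V, β' • (β • v - v) = β • v - v := by
    intro β hβ β' hβ' v
    have hmem : ∀ y ∈ B, b * (c⁻¹ * y * c) * b⁻¹ ∈ A := by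
      intro y hy
      have h1 : c⁻¹ * y * c ∈ Cfsg.conjBy A b⁻¹ := by
        rw [he]; simpa using conj_mem_conjBy (g := c⁻¹) hy
      rw [mem_conjBy, inv_inv] at h1
      exact h1
    have e := hq _ (hmem β hβ) _ (hmem β' hβ') ((b * c⁻¹) • v)
    have e' : ∀ y : X, (b * (c⁻¹ * y * c) * b⁻¹) • ((b * c⁻¹) • v) = (b * c⁻¹) • (y • v) := by
      intro y; rw [← mul_smul, ← mul_smul]; congr 1; group
    have e'' : ∀ (y : X) (w : V), (b * (c⁻¹ * y * c) * b⁻¹) • ((b * c⁻¹) • w) = (b * c⁻¹) • (y • w) := by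
      intro y w; rw [← mul_smul, ← mul_smul]; congr 1; group
    rw [e' β, ← smul_sub, e''] at e
    exact smul_left_cancel _ e
  refine eq_one_of_commute (Cfsg.RankOnePair_symm hp1) (pow_mem ha p) fun β hβ => ?_
  obtain ⟨β₁, hβ₁, hcong⟩ := hA' a ha
  have key1 : ∀ v : V, a ^ p • (β • v - v) = β • v - v := fun v => by
    rw [← sub_eq_zero, hApow a ha p, hcong, hBq β hβ β₁ hβ₁, sub_self, smul_zero]
  have key2 : ∀ v : V, β • (a ^ p • v - v) = a ^ p • v - v := fun v => by
    rw [hApow a ha p, hcong,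
      show β • (p • (β₁ • v - v)) = p • (β • (β₁ • v - v)) from
        map_nsmul (DistribMulAction.toAddMonoidHom V β) p _, hBq β₁ hβ₁ β hβ]
  refine mul_inv_eq_one.1 (hf _ fun w => ?_)
  have e : ∀ v : V, (β * a ^ p) • v = (a ^ p * β) • v := fun v => by
    have h1 := key1 v
    have h2 := key2 v
    rw [smul_sub, sub_eq_iff_eq_add] at h1 h2
    rw [mul_smul, mul_smul, h1, h2]
    abel
  calc (β * a ^ p * (a ^ p * β)⁻¹) • w = (β * a ^ p) • ((a ^ p * β)⁻¹ • w) := mul_smul _ _ _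
    _ = (a ^ p * β) • ((a ^ p * β)⁻¹ • w) := e _
    _ = w := smul_inv_smul _ _

end Cfsg.Agent.S5023
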