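import Cfsg.Statements.S5024
import Cfsg.Agent.Lib.RootSub.RankOne


set_option autoImplicit false
open Cfsg

namespace Cfsg.Agent.S5024

open CfsgLib.RootSub

/-- Let S be a set of abstract root subgroups of G, A and C members of S, B a rank one partner of A in S and D a rank one partner of C in S. If the rank one group ⟨A, B⟩ is contained in ⟨C, D⟩ then the two coincide, and C and D are conjugates of A inside ⟨A, B⟩. -/
theorem result {G : Type*} [Group G] {S : Set (Subgroup G)} (hS : Cfsg.IsRootSubgroupSet S)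
    {A B C D : Subgroup G} (hA : A ∈ S) (hC : C ∈ S) (hB : B ∈ Cfsg.rankOnePartners S A) (hD : D ∈ Cfsg.rankOnePartners S C)
    (hle : A ⊔ B ≤ C ⊔ D) : A ⊔ B = C ⊔ D ∧ C ∈ Cfsg.unipotentSubgroups A B ∧ D ∈ Cfsg.unipotentSubgroups A B := by
  obtain ⟨hBS, hAB⟩ := hB
  obtain ⟨hDS, hCD⟩ := hD
  have h1 := mem_unipotent_of_le hS hC hDS hCD hA hAB hle
  have h2 := mem_unipotent_of_le hS hC hDS hCD hBS (Cfsg.RankOnePair_symm hAB) (by rwa [sup_comm])
  obtain ⟨x, hx, hAx, hBx⟩ := two_transitive hCD h1 h2 hAB.ne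
  have heq : A ⊔ B = C ⊔ D := sup_unipotent hCD h1 h2 hAB.ne
  have hxAB : x⁻¹ ∈ A ⊔ B := heq ▸ inv_mem hx
  refine ⟨heq, ⟨x⁻¹, hxAB, by rw [hAx, conjBy_conjBy, inv_mul_cancel, conjBy_one]⟩, ?_⟩
  have hD' : D = Cfsg.conjBy B x⁻¹ := by rw [hBx, conjBy_conjBy, inv_mul_cancel, conjBy_one]
  exact hD' ▸ conjBy_mem_unipotent hAB (right_mem hAB) hxAB

end Cfsg.Agent.S5024
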