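import Cfsg.Statements.S5026
import Cfsg.Agent.Lib.RootSub.RankOne


set_option autoImplicit false
open Cfsg

namespace Cfsg.Agent.S5026

open CfsgLib.RootSub

/-- Let S be a degenerate set of abstract root subgroups of G (a set of abstract transvection groups) and let a, b be commuting non-identity elements of members of S with a b ≠ 1. Then the members of S centralizing a b are exactly those centralizing both a and b. -/
theorem result {G : Type*} [Group G] {S : Set (Subgroup G)} (hS : Cfsg.IsRootSubgroupSet S) (hdeg : Cfsg.IsDegenerateRootSet S)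
    {a b : G} (ha : a ∈ Cfsg.rootElements S) (hb : b ∈ Cfsg.rootElements S) (hab : a * b = b * a) (hab1 : a * b ≠ 1) :
    Cfsg.centralizingMembers S (Subgroup.zpowers (a * b)) =
      Cfsg.centralizingMembers S (Subgroup.zpowers a) ∩ Cfsg.centralizingMembers S (Subgroup.zpowers b) := by
  obtain ⟨ha1, A, hA, haA⟩ := ha
  obtain ⟨hb1, B, hB, hbB⟩ := hb
  have hz : ∀ (x : G) (E : Subgroup G), E ≤ Subgroup.centralizer ((Subgroup.zpowers x : Subgroup G) : Set G) ↔
      ∀ e ∈ E, e * x = x * e := by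
    intro x E
    constructor
    · exact fun h e he => ((Subgroup.mem_centralizer_iff.1 (h he)) x (Subgroup.mem_zpowers x)).symm
    · intro h e he
      refine Subgroup.mem_centralizer_iff.2 fun y hy => ?_
      obtain ⟨n, rfl⟩ := Subgroup.mem_zpowers_iff.1 hy
      exact (Commute.zpow_left (show Commute x e from (h e he).symm) n).eq
  ext E
  simp only [Cfsg.centralizingMembers, Set.mem_inter_iff, Set.mem_ofPred_eq, hz]
  constructor
  swap
  · rintro ⟨⟨hE, h1⟩, -, h2⟩
    exact ⟨hE, fun e he => by rw [← mul_assoc, h1 e he, mul_assoc, h2 e he, ← mul_assoc]⟩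
  rintro ⟨hE, hab'⟩
  suffices hea : ∀ e ∈ E, e * a = a * e by
    refine ⟨⟨hE, hea⟩, hE, fun e he => ?_⟩
    have h1 := hab' e he
    rw [← mul_assoc, hea e he, mul_assoc, mul_assoc] at h1
    exact mul_left_cancel h1
  rcases hS.pair A hA E hE with h | h | h
  · exact fun e he => (commute_of_commutator_eq_bot h haA he).symm
  swap
  · exact absurd h (hdeg A hA E hE)
  exfalso
  have hab2 : a * b = b * a := hab
  rcases hS.pair B hB E hE with h' | h' | h'
  · refine ha1 (eq_one_of_commute (Cfsg.RankOnePair_symm h) haA fun e he => ?_)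
    have h1 := hab' e he
    rw [hab2, ← mul_assoc, ← commute_of_commutator_eq_bot h' hbB he, mul_assoc, mul_assoc] at h1
    exact mul_left_cancel h1
  swap
  · exact absurd h' (hdeg B hB E hE)
  obtain ⟨e₁, he₁, -, hp₁⟩ := h.cond_left a⁻¹ (inv_mem haA) (inv_ne_one.2 ha1)
  obtain ⟨e₂, he₂, -, hp₂⟩ := h'.cond_left b hbB hb1
  have hEab : Cfsg.conjBy E (a * b) = E := by
    refine conjBy_eq_self_iff.2 (Subgroup.mem_normalizer_iff.2 fun x => ⟨fun hx => ?_, fun hx => ?_⟩)
    · rwa [← hab' x hx, mul_inv_cancel_right]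
    · have h1 := hab' _ hx
      rw [show a * b * x * (a * b)⁻¹ * (a * b) = a * b * x by group] at h1
      have : x = a * b * x * (a * b)⁻¹ := mul_left_cancel h1
      rwa [this]
  have hEq : Cfsg.conjBy E a = Cfsg.conjBy E b⁻¹ := by
    rw [conjBy_eq_iff, inv_inv, ← hab2]
    exact conjBy_eq_self_iff.1 hEab
  rw [inv_inv, hEq, ← hp₂] at hp₁
  have hBA : B = Cfsg.conjBy A (e₂ * e₁⁻¹) := by
    rw [← conjBy_conjBy, hp₁, conjBy_conjBy, mul_inv_cancel, conjBy_one]
  rcases eq_or_ne (e₂ * e₁⁻¹) 1 with e | e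
  · rw [e, conjBy_one] at hBA
    subst hBA
    exact hab1 (eq_one_of_commute (Cfsg.RankOnePair_symm h) (mul_mem haA hbB) hab')
  · have hx : e₂ * e₁⁻¹ ∈ A ⊔ E := Subgroup.mem_sup_right (mul_mem he₂ (inv_mem he₁))
    have hne : A ≠ B := fun e' => e (eq_one_of_mem_normalizer h (mul_mem he₂ (inv_mem he₁))
      (conjBy_eq_self_iff.1 (e'.trans hBA).symm))
    have hp := pair_of_unipotent h (left_mem h) ⟨_, hx, hBA⟩ hne
    have hBb : Cfsg.conjBy B a ∈ S := hS.conj_mem B hB a
    have hbB' : b ∈ Cfsg.conjBy B a := by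
      rw [mem_conjBy, show a⁻¹ * b * a = b by rw [mul_assoc, ← hab2, inv_mul_cancel_left]]
      exact hbB
    have hBeq := eq_of_mem_both hS hB hA (Cfsg.RankOnePair_symm hp) hBb hbB hbB' hb1
    exact ha1 (eq_one_of_mem_normalizer (Cfsg.RankOnePair_symm hp) haA (conjBy_eq_self_iff.1 hBeq.symm))

end Cfsg.Agent.S5026
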