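import Cfsg.Statements.S5027
import Cfsg.Agent.Lib.RootSub.RankOne


set_option autoImplicit false
open Cfsg

namespace Cfsg.Agent.S5027

open scoped commutatorElement

/-- Let S be a set of abstract root subgroups of G such that every member of S has a rank one partner in S (the graph of rank one pairs on S has no isolated vertex). Then the second centre of G equals its centre. -/
theorem result {G : Type*} [Group G] {S : Set (Subgroup G)} (hS : Cfsg.IsRootSubgroupSet S)
    (hF : ∀ A ∈ S, ¬ Cfsg.IsIsolatedIn (Cfsg.FAdj S) S A) : Subgroup.upperCentralSeries G 2 = Subgroup.center G := by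
  refine le_antisymm (fun n hn => ?_) (by rw [← Subgroup.upperCentralSeries_one]; exact Subgroup.upperCentralSeries_mono G one_le_two)
  have hcom : ∀ x : G, ⁅n, x⁆ ∈ Subgroup.center G := fun x => by
    rw [← Subgroup.upperCentralSeries_one]
    exact Subgroup.mem_upperCentralSeries_succ_iff.1 hn x
  have hall : ∀ A ∈ S, A ≤ Subgroup.centralizer ({n} : Set G) := by
    intro A hA a ha
    obtain ⟨P, hP, hAP⟩ : ∃ P, P ∈ S ∧ Cfsg.IsRankOnePair A P := by
      by_contra hh
      push Not at hh
      exact hF A hA ⟨hA, fun P => ⟨fun h => hh P h.2.1 h.2.2, fun h => hh P h.1 (Cfsg.RankOnePair_symm h.2.2)⟩⟩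
    refine Subgroup.mem_centralizer_singleton_iff.2 ?_
    rcases eq_or_ne a 1 with rfl | ha1
    · rw [one_mul, mul_one]
    by_contra hne
    have hz1 : ⁅n, a⁆ ≠ 1 := fun e => hne (commutatorElement_eq_one_iff_commute.1 e).symm
    refine CfsgLib.RootSub.not_rootElement hS hA ⟨hP, hAP⟩ (Subgroup.mem_centralizer_iff.2 fun x _ =>
      Subgroup.mem_center_iff.1 (hcom a) x) hz1 a ha ha1 ⟨?_, Cfsg.conjBy A n, hS.conj_mem A hA n, ?_⟩
    · rw [commutatorElement_def, inv_mul_cancel_right]
      exact fun h0 => ha1 (conj_eq_one_iff.1 h0)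
    · rw [commutatorElement_def, inv_mul_cancel_right]
      exact CfsgLib.RootSub.conj_mem_conjBy ha
  have htop : (⊤ : Subgroup G) ≤ Subgroup.centralizer ({n} : Set G) := by
    rw [← hS.generates]
    exact iSup₂_le hall
  exact Subgroup.mem_center_iff.2 fun x => Subgroup.mem_centralizer_singleton_iff.1 (htop (Subgroup.mem_top x))

end Cfsg.Agent.S5027
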