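import Cfsg.Statements.S5028
import Cfsg.Agent.Lib.RootSub.RankOne


set_option autoImplicit false
open Cfsg

namespace Cfsg.Agent.S5028

/-- Let S be a set of abstract root subgroups of G and A a member of S having a rank one partner in S. Then A meets every other member of S trivially. -/
theorem result {G : Type*} [Group G] {S : Set (Subgroup G)} (hS : Cfsg.IsRootSubgroupSet S)
    {A : Subgroup G} (hA : ¬ Cfsg.IsIsolatedIn (Cfsg.FAdj S) S A) (hAS : A ∈ S) : ∀ B ∈ S, A ⊓ B = ⊥ ∨ A = B := by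
  intro B hB
  by_contra hne
  push Not at hne
  obtain ⟨h1, h2⟩ := hne
  obtain ⟨a, ha, ha1⟩ := (Subgroup.bot_or_exists_ne_one _).resolve_left h1
  have hP : ∃ P, P ∈ S ∧ Cfsg.IsRankOnePair A P := by
    by_contra hh
    push Not at hh
    exact hA ⟨hAS, fun P => ⟨fun h => hh P h.2.1 h.2.2, fun h => hh P h.1 (Cfsg.RankOnePair_symm h.2.2)⟩⟩
  obtain ⟨P, hP, hAP⟩ := hP
  exact h2 (CfsgLib.RootSub.eq_of_mem_both hS hAS hP hAP hB (Subgroup.mem_inf.1 ha).1 (Subgroup.mem_inf.1 ha).2 ha1)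

end Cfsg.Agent.S5028
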