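import Cfsg.Statements.S5029
import Cfsg.Agent.Lib.RootSub.Commutator


set_option autoImplicit false
open Cfsg

namespace Cfsg.Agent.S5029

open CfsgLib.RootSub
open scoped commutatorElement

/-- Let S be a set of abstract root subgroups of G, A ∈ S having a rank one partner in S, and B ∈ S with C = ⁅A, B⁆ ∈ S. Then the members of S contained in AC are the conjugates of A by elements of B together with C, they partition AC, the members of S inside AC partition AC so that A is a line partner of C, and for every non-identity a ∈ A the map b ↦ a⁻¹ b⁻¹ a b is an isomorphism from B onto C. -/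
theorem result {G : Type*} [Group G] {S : Set (Subgroup G)} (hS : Cfsg.IsRootSubgroupSet S)
    {A B : Subgroup G} (hA : ¬ Cfsg.IsIsolatedIn (Cfsg.FAdj S) S A) (hAS : A ∈ S) (hB : B ∈ S) (hC : ⁅A, B⁆ ∈ S) :
    Cfsg.membersIn S (A ⊔ ⁅A, B⁆) = (fun b : G => Cfsg.conjBy A b) '' (B : Set G) ∪ {⁅A, B⁆} ∧
    Cfsg.IsSubgroupPartition (A ⊔ ⁅A, B⁆) (Cfsg.membersIn S (A ⊔ ⁅A, B⁆)) ∧
    A ∈ Cfsg.linePartners S ⁅A, B⁆ ∧
    ∀ a ∈ A, a ≠ 1 → ∃ φ : ↥B ≃* ↥⁅A, B⁆, ∀ b : ↥B, (φ b : G) = a⁻¹ * (b : G)⁻¹ * a * b := by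
  have hn := nonIso_of_not_isolated hAS hA
  have h := comm_case hS hAS hB hC
  refine ⟨case_membersIn hS h hAS hn hB, case_partition hS h hAS hn hB, ?_, fun a ha ha1 => ?_⟩
  · have hcom : ⁅⁅A, B⁆, A⁆ = ⊥ :=
      commutator_eq_bot_of_commute fun c hc x hx => case_central h hc (Subgroup.mem_sup_left hx)
    refine ⟨⟨hAS, case_ne h hS, hcom⟩, ?_⟩
    rw [sup_comm]
    exact case_partition hS h hAS hn hB
  · let f : ↥B →* ↥⁅A, B⁆ :=
      (commMap h (inv_mem ha)).codRestrict ⁅A, B⁆ fun b => Subgroup.commutator_mem_commutator (inv_mem ha) b.2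
    have hf : Function.Bijective f := by
      refine ⟨(injective_iff_map_eq_one f).2 fun b hb => Subtype.ext ?_, fun c => ?_⟩
      · exact case_inj hS h hAS hn (inv_mem ha) (inv_ne_one.2 ha1) b.2 (congrArg Subtype.val hb)
      · obtain ⟨b, hb, he⟩ := case_surj h (inv_mem ha) (inv_ne_one.2 ha1) c.2
        exact ⟨⟨b, hb⟩, Subtype.ext he⟩
    haveI := hS.commutative B hB
    letI : CommGroup ↥B := { (inferInstance : Group ↥B) with mul_comm := fun x y => Subtype.ext (comm_of_mem hS hB x.2 y.2) }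
    refine ⟨(MulEquiv.inv ↥B).trans (MulEquiv.ofBijective f hf), fun b => ?_⟩
    show ⁅a⁻¹, ((b⁻¹ : ↥B) : G)⁆ = _
    rw [commutatorElement_def, Subgroup.coe_inv, inv_inv, inv_inv]

end Cfsg.Agent.S5029
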