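import Cfsg.Statements.S5030
import Cfsg.Agent.Lib.RootSub.Commutator
-- import your own Cfsg.Agent.* helpers here

set_option autoImplicit false
open Cfsg

namespace Cfsg.Agent.S5030

open Subgroup CfsgLib.RootSub
open scoped commutatorElement

variable {G : Type*} [Group G]

theorem mem_of_gens {T : Set G} {K : Subgroup G} {g : G}
    (hn : ∀ k ∈ K, ∀ w ∈ closure T, w * k * w⁻¹ ∈ K) (h : ∀ t ∈ T, ⁅g, t⁆ ∈ K) :
    ∀ y ∈ closure T, ⁅g, y⁆ ∈ K := by
  intro y hy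
  induction hy using closure_induction with
  | mem t ht => exact h t ht
  | one => rw [commutatorElement_one_right]; exact one_mem K
  | mul y z hy _ ihy ihz =>
    rw [show ⁅g, y * z⁆ = ⁅g, y⁆ * (y * ⁅g, z⁆ * y⁻¹) by simp only [commutatorElement_def]; group]
    exact mul_mem ihy (hn _ ihz y hy)
  | inv y hy ihy =>
    rw [show ⁅g, y⁻¹⁆ = y⁻¹ * ⁅g, y⁆⁻¹ * y⁻¹⁻¹ by simp only [commutatorElement_def]; group]
    exact hn _ (inv_mem ihy) _ (inv_mem hy)

theorem derived_le {T : Set G} {K : Subgroup G}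
    (hc : ∀ k ∈ K, ∀ w ∈ closure T, k * w = w * k) (h : ∀ s ∈ T, ∀ t ∈ T, ⁅s, t⁆ ∈ K) :
    ⁅closure T, closure T⁆ ≤ K := by
  have hn : ∀ k ∈ K, ∀ w ∈ closure T, w * k * w⁻¹ ∈ K := fun k hk w hw => by
    rw [← hc k hk w hw, mul_inv_cancel_right]; exact hk
  refine commutator_le.2 fun x hx y hy => mem_of_gens hn (fun t ht => ?_) y hy
  rw [← inv_mem_iff, commutatorElement_inv]
  exact mem_of_gens hn (fun s hs => h t ht s hs) x hx

theorem commute_sup {U V : Subgroup G} {x : G} (hU : ∀ u ∈ U, x * u = u * x)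
    (hV : ∀ v ∈ V, x * v = v * x) : ∀ w ∈ U ⊔ V, x * w = w * x := fun w hw => by
  have h : U ⊔ V ≤ centralizer ({x} : Set G) := sup_le
    (fun u hu => mem_centralizer_singleton_iff.2 (hU u hu).symm)
    (fun v hv => mem_centralizer_singleton_iff.2 (hV v hv).symm)
  exact (mem_centralizer_singleton_iff.1 (h hw)).symm

theorem commutative_sup {U V : Subgroup G} (hU : ∀ u ∈ U, ∀ u' ∈ U, u * u' = u' * u)
    (hV : ∀ v ∈ V, ∀ v' ∈ V, v * v' = v' * v) (hUV : ∀ u ∈ U, ∀ v ∈ V, u * v = v * u) :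
    IsMulCommutative ↥(U ⊔ V) :=
  ⟨⟨fun x y => Subtype.ext (commute_sup
    (fun u hu => (commute_sup (hU u hu) (hUV u hu) _ x.2).symm)
    (fun v hv => (commute_sup (fun u hu => (hUV u hu v hv).symm) (hV v hv) _ x.2).symm) _ y.2)⟩⟩

variable {S : Set (Subgroup G)} (hS : Cfsg.IsRootSubgroupSet S)

include hS in
theorem chain_data {A B C : Subgroup G} (hA : A ∈ S) (hC : C ∈ S) (h1 : Cfsg.RootCommutatorCase S A B)
    (h2 : Cfsg.RootCommutatorCase S B C) (hAC : ∀ a ∈ A, ∀ c ∈ C, a * c = c * a) {b : G} (hb : b ∈ B)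
    (hb1 : b ≠ 1) :
    (IsMulCommutative ↥(A ⊔ Cfsg.conjBy C b⁻¹) ↔ ⁅A, ⁅B, C⁆⁆ = ⊥) ∧
      ⁅⁅A ⊔ Cfsg.conjBy C b⁻¹, A ⊔ Cfsg.conjBy C b⁻¹⁆, A ⊔ Cfsg.conjBy C b⁻¹⁆ = ⊥ ∧
      ⁅B, C⁆ ≤ C ⊔ Cfsg.conjBy C b⁻¹ := by
  have hAc : ∀ a ∈ A, ∀ a' ∈ A, a * a' = a' * a := fun a ha a' ha' => comm_of_mem hS hA ha ha'
  set E := ⁅B, C⁆ with hE
  have hEC : ∀ c ∈ C, ∀ e ∈ E, c * e = e * c := fun c hc e he =>
    (case_central h2 he (mem_sup_right hc)).symm
  have hsplit : ∀ c ∈ C, ∃ e ∈ E, b⁻¹ * c * b = c * e := fun c hc => by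
    refine ⟨⁅b⁻¹, c⁻¹⁆⁻¹, inv_mem (commutator_mem_commutator (inv_mem hb) (inv_mem hc)), ?_⟩
    rw [commutatorElement_def]; group
  have hEle : E ≤ C ⊔ Cfsg.conjBy C b⁻¹ := by
    rw [hE, ← h2.2.2.1 b⁻¹ (inv_mem hb) (inv_ne_one.2 hb1), closure_le]
    rintro _ ⟨c, hc, rfl⟩
    exact mul_mem (mem_sup_right (conj_mem_conjBy hc)) (mem_sup_left (inv_mem hc))
  have hC'le : ∀ x ∈ Cfsg.conjBy C b⁻¹, x ∈ C ⊔ E := by
    intro x hx
    obtain ⟨c, hc, rfl⟩ := hx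
    obtain ⟨e, he, hce⟩ := hsplit c hc
    show b⁻¹ * c * b⁻¹⁻¹ ∈ C ⊔ E
    rw [inv_inv, hce]
    exact mul_mem (mem_sup_left hc) (mem_sup_right he)
  have hC'c : ∀ x ∈ Cfsg.conjBy C b⁻¹, ∀ y ∈ Cfsg.conjBy C b⁻¹, x * y = y * x := fun x hx y hy =>
    comm_of_mem hS (hS.conj_mem C hC b⁻¹) hx hy
  have hiff : IsMulCommutative ↥(A ⊔ Cfsg.conjBy C b⁻¹) ↔ ⁅A, E⁆ = ⊥ := by
    refine ⟨fun hX => commutator_eq_bot_of_commute fun a ha e he => ?_,
      fun h0 => commutative_sup hAc hC'c fun a ha x hx => ?_⟩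
    · refine commute_sup (fun c hc => hAC a ha c hc) (fun x hx => ?_) e (hEle he)
      exact congrArg Subtype.val
        (hX.is_comm.comm ⟨a, mem_sup_left ha⟩ ⟨x, mem_sup_right hx⟩)
    · exact commute_sup (fun c hc => hAC a ha c hc)
        (fun e he => commute_of_commutator_eq_bot h0 ha he) x (hC'le x hx)
  refine ⟨hiff, ?_, hEle⟩
  by_cases h0 : ⁅A, E⁆ = ⊥
  · have hX := hiff.2 h0
    have h : ⁅A ⊔ Cfsg.conjBy C b⁻¹, A ⊔ Cfsg.conjBy C b⁻¹⁆ = ⊥ :=
      commutator_eq_bot_of_commute fun x hx y hy =>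
        congrArg Subtype.val (hX.is_comm.comm ⟨x, hx⟩ ⟨y, hy⟩)
    rw [h, commutator_bot_left]
  -- `(A, E)` is in the commutator case
  have hES : E ∈ S := h2.1
  have hcase : Cfsg.RootCommutatorCase S A E := by
    rcases hS.pair A hA E hES with h | h | h
    · exact absurd h h0
    · exfalso
      obtain ⟨c, hc, e, he, hce, he1⟩ : ∃ c ∈ C, ∃ e ∈ E, b⁻¹ * c * b = c * e ∧ e ≠ 1 := by
        by_contra! hall
        refine hS.ne_bot _ h2.1 ((h2.2.2.1 b⁻¹ (inv_mem hb) (inv_ne_one.2 hb1)).symm.trans ?_)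
        rw [closure_eq_bot_iff]
        rintro _ ⟨c, hc, rfl⟩
        obtain ⟨e, he, hce⟩ := hsplit c hc
        show b⁻¹ * c * b⁻¹⁻¹ * c⁻¹ = 1
        rw [inv_inv, hce, hall c hc e he hce, mul_one, mul_inv_cancel]
      have hc1 : c ≠ 1 := by
        rintro rfl
        rw [mul_one, inv_mul_cancel, one_mul] at hce
        exact he1 hce.symm
      refine not_rootElement hS hES ⟨hA, Cfsg.RankOnePair_symm h⟩ (z := c)
        (mem_centralizer_iff.2 fun x hx => (commute_sup (fun e' he' => hEC c hc e' he')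
          (fun a ha => (hAC a ha c hc).symm) x hx).symm) hc1 e he he1
        ⟨?_, Cfsg.conjBy C b⁻¹, hS.conj_mem C hC b⁻¹, ?_⟩
      · rw [← hce]
        intro e'
        apply hc1
        calc c = b * (b⁻¹ * c * b) * b⁻¹ := by group
          _ = 1 := by rw [e']; group
      · rw [← hce]; simpa using conj_mem_conjBy (g := b⁻¹) hc
    · exact h
  have hXW : A ⊔ Cfsg.conjBy C b⁻¹ ≤ closure ((A : Set G) ∪ C ∪ E) := by
    rw [Subgroup.closure_union, Subgroup.closure_union, closure_eq, closure_eq, closure_eq, sup_assoc]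
    exact sup_le le_sup_left fun x hx => mem_sup_right (hC'le x hx)
  have hKc : ∀ k ∈ ⁅A, E⁆, ∀ w ∈ closure ((A : Set G) ∪ C ∪ E), k * w = w * k := by
    intro k hk w hw
    rw [Subgroup.closure_union, Subgroup.closure_union, closure_eq, closure_eq, closure_eq] at hw
    refine commute_sup (commute_sup (fun a ha => case_central hcase hk (mem_sup_left ha))
      (fun c hc => ?_)) (fun e he => case_central hcase hk (mem_sup_right he)) w hw
    exact (commute_sup (fun a ha => (hAC a ha c hc).symm) (hEC c hc) k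
      (commutator_le_sup A E hk)).symm
  have h1' : ∀ x y : G, x * y = y * x → ⁅x, y⁆ ∈ ⁅A, E⁆ := fun x y h => by
    rw [commutatorElement_eq_one_iff_commute.2 h]; exact one_mem _
  have hder : ⁅closure ((A : Set G) ∪ C ∪ E), closure ((A : Set G) ∪ C ∪ E)⁆ ≤ ⁅A, E⁆ := by
    refine derived_le hKc ?_
    rintro s ((hs | hs) | hs) t ((ht | ht) | ht)
    · exact h1' _ _ (hAc s hs t ht)
    · exact h1' _ _ (hAC s hs t ht)
    · exact commutator_mem_commutator hs ht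
    · exact h1' _ _ (hAC t ht s hs).symm
    · exact h1' _ _ (comm_of_mem hS hC hs ht)
    · exact h1' _ _ (hEC s hs t ht)
    · rw [← inv_mem_iff, commutatorElement_inv]; exact commutator_mem_commutator ht hs
    · exact h1' _ _ (hEC t ht s hs).symm
    · exact h1' _ _ (comm_of_mem hS hES hs ht)
  refine le_bot_iff.1 ((commutator_mono ((commutator_mono hXW hXW).trans hder) hXW).trans ?_)
  exact (commutator_eq_bot_of_commute hKc).le

theorem upper_step {T : Set G} {n : ℕ} {x : G} (hx : x ∈ closure T)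
    (h : ∀ t ∈ T, ⁅x, t⁆ ∈ (Subgroup.upperCentralSeries ↥(closure T) n).map (closure T).subtype) :
    x ∈ (Subgroup.upperCentralSeries ↥(closure T) (n + 1)).map (closure T).subtype := by
  have hn : ∀ k ∈ (Subgroup.upperCentralSeries ↥(closure T) n).map (closure T).subtype, ∀ w ∈ closure T,
      w * k * w⁻¹ ∈ (Subgroup.upperCentralSeries ↥(closure T) n).map (closure T).subtype := by
    rintro _ ⟨k, hk, rfl⟩ w hw
    exact ⟨⟨w, hw⟩ * k * ⟨w, hw⟩⁻¹, Normal.conj_mem inferInstance k hk _, rfl⟩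
  refine ⟨⟨x, hx⟩, Subgroup.mem_upperCentralSeries_succ_iff.2 fun y => ?_, rfl⟩
  obtain ⟨z, hz, hzy⟩ := mem_of_gens hn h y y.2
  have : z = ⁅(⟨x, hx⟩ : ↥(closure T)), y⁆ := Subtype.ext hzy
  rwa [← this]


/-- Let S be a set of abstract root subgroups of G and A, B, C ∈ S with ⁅A, B⁆ ∈ S and ⁅B, C⁆ ∈ S, where A and C are different and commute. For a non-identity b ∈ B put X = ⟨A, b⁻¹ C b⟩ and Y = ⟨b⁻¹ A b, C⟩ and R = ⟨A, B, C⟩. Then X and Y are either both abelian or both nilpotent of class exactly two; X and Y commute elementwise; XY is normal in R with R = (XY) B; and R is nilpotent. -/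
theorem result {G : Type*} [Group G] {S : Set (Subgroup G)} (hS : Cfsg.IsRootSubgroupSet S)
    {A B C : Subgroup G} (hA : A ∈ S) (hB : B ∈ S) (hC : C ∈ S) (hAB : ⁅A, B⁆ ∈ S) (hBC : ⁅B, C⁆ ∈ S)
    (hAC : C ∈ Cfsg.commutingPartners S A)
    {b : G} (hb : b ∈ B) (hb1 : b ≠ 1) :
    ((IsMulCommutative ↥(A ⊔ Cfsg.conjBy C b⁻¹) ∧ IsMulCommutative ↥(Cfsg.conjBy A b⁻¹ ⊔ C)) ∨
      ((¬ IsMulCommutative ↥(A ⊔ Cfsg.conjBy C b⁻¹) ∧
          ⁅⁅A ⊔ Cfsg.conjBy C b⁻¹, A ⊔ Cfsg.conjBy C b⁻¹⁆, A ⊔ Cfsg.conjBy C b⁻¹⁆ = ⊥) ∧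
        (¬ IsMulCommutative ↥(Cfsg.conjBy A b⁻¹ ⊔ C) ∧
          ⁅⁅Cfsg.conjBy A b⁻¹ ⊔ C, Cfsg.conjBy A b⁻¹ ⊔ C⁆, Cfsg.conjBy A b⁻¹ ⊔ C⁆ = ⊥))) ∧
    ⁅A ⊔ Cfsg.conjBy C b⁻¹, Cfsg.conjBy A b⁻¹ ⊔ C⁆ = ⊥ ∧
    (∀ r ∈ A ⊔ B ⊔ C, Cfsg.conjBy ((A ⊔ Cfsg.conjBy C b⁻¹) ⊔ (Cfsg.conjBy A b⁻¹ ⊔ C)) r =
      (A ⊔ Cfsg.conjBy C b⁻¹) ⊔ (Cfsg.conjBy A b⁻¹ ⊔ C)) ∧
    ((A ⊔ Cfsg.conjBy C b⁻¹) ⊔ (Cfsg.conjBy A b⁻¹ ⊔ C)) ⊔ B = A ⊔ B ⊔ C ∧
    Group.IsNilpotent ↥(A ⊔ B ⊔ C) := by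
  classical
  obtain ⟨-, hACne, hACbot⟩ := hAC
  have h1 := comm_case hS hA hB hAB
  have h2 := comm_case hS hB hC hBC
  have hac : ∀ a ∈ A, ∀ c ∈ C, a * c = c * a := fun a ha c hc =>
    commute_of_commutator_eq_bot hACbot ha hc
  have hAc : ∀ a ∈ A, ∀ a' ∈ A, a * a' = a' * a := fun a ha a' ha' => comm_of_mem hS hA ha ha'
  have hBc : ∀ x ∈ B, ∀ y ∈ B, x * y = y * x := fun x hx y hy => comm_of_mem hS hB hx hy
  have hCc : ∀ x ∈ C, ∀ y ∈ C, x * y = y * x := fun x hx y hy => comm_of_mem hS hC hx hy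
  obtain ⟨hX1, hX2, hEle⟩ := chain_data hS hA hC h1 h2 hac hb hb1
  obtain ⟨hY1, hY2, hDle⟩ := chain_data hS hC hA (case_symm h2) (case_symm h1)
    (fun c hc a ha => (hac a ha c hc).symm) hb hb1
  rw [sup_comm C (Cfsg.conjBy A b⁻¹)] at hY1 hY2
  set D := ⁅B, A⁆ with hDdef
  set E := ⁅B, C⁆ with hEdef
  set X := A ⊔ Cfsg.conjBy C b⁻¹ with hX
  set Y := Cfsg.conjBy A b⁻¹ ⊔ C with hY
  have hDA : ∀ d ∈ D, ∀ x ∈ B ⊔ A, d * x = x * d := fun d hd x hx =>
    case_central (case_symm h1) hd hx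
  have hEC : ∀ e ∈ E, ∀ x ∈ B ⊔ C, e * x = x * e := fun e he x hx => case_central h2 he hx
  -- `X` and `Y` commute
  have hA'le : ∀ x ∈ Cfsg.conjBy A b⁻¹, x ∈ A ⊔ D := by
    rintro _ ⟨a, ha, rfl⟩
    show b⁻¹ * a * b⁻¹⁻¹ ∈ A ⊔ D
    rw [show b⁻¹ * a * b⁻¹⁻¹ = ⁅b⁻¹, a⁆ * a by rw [commutatorElement_def]; group]
    exact mul_mem (mem_sup_right (commutator_mem_commutator (inv_mem hb) ha)) (mem_sup_left ha)
  have hC'le : ∀ x ∈ Cfsg.conjBy C b⁻¹, x ∈ C ⊔ E := by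
    rintro _ ⟨c, hc, rfl⟩
    show b⁻¹ * c * b⁻¹⁻¹ ∈ C ⊔ E
    rw [show b⁻¹ * c * b⁻¹⁻¹ = ⁅b⁻¹, c⁆ * c by rw [commutatorElement_def]; group]
    exact mul_mem (mem_sup_right (commutator_mem_commutator (inv_mem hb) hc)) (mem_sup_left hc)
  have hXY : ∀ x ∈ X, ∀ y ∈ Y, x * y = y * x := fun x hx y hy => by
    refine (commute_sup (fun a ha => ?_) (fun c' hc' => ?_) x hx).symm
    · refine (commute_sup (fun a' ha' => ?_) (fun c hc => hac a ha c hc) y hy).symm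
      exact commute_sup (hAc a ha) (fun d hd => (hDA d hd a (mem_sup_right ha)).symm) a' (hA'le a' ha')
    · refine (commute_sup (fun a' ha' => ?_) (fun c hc => ?_) y hy).symm
      · obtain ⟨a, ha, rfl⟩ := ha'
        obtain ⟨c, hc, rfl⟩ := hc'
        exact (congrArg (MulAut.conj b⁻¹) (hac a ha c hc).symm).trans (map_mul _ _ _) |> fun e =>
          ((map_mul _ _ _).symm.trans e)
      · exact (commute_sup (hCc c hc) (fun e he => (hEC e he c (mem_sup_right hc)).symm) c'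
          (hC'le c' hc')).symm
  have hAN : A ≤ X ⊔ Y := le_sup_left.trans le_sup_left
  have hCN : C ≤ X ⊔ Y := le_sup_right.trans le_sup_right
  have hEN : E ≤ X ⊔ Y := hEle.trans (sup_le hCN (le_sup_right.trans le_sup_left))
  have hDN : D ≤ X ⊔ Y := hDle.trans (sup_le hAN (le_sup_left.trans le_sup_right))
  -- the product is normal
  have hnorm : A ⊔ B ⊔ C ≤ normalizer ((X ⊔ Y : Subgroup G) : Set G) := by
    refine sup_le (sup_le (hAN.trans le_normalizer) ?_) (hCN.trans le_normalizer)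
    refine le_normalizer_of_conj_mem fun β hβ y hy => ?_
    have hle : X ⊔ Y ≤ A ⊔ C ⊔ D ⊔ E := by
      refine sup_le (sup_le (le_sup_left.trans (le_sup_left.trans le_sup_left)) fun x hx => ?_)
        (sup_le (fun x hx => ?_) (le_sup_right.trans (le_sup_left.trans le_sup_left)))
      · exact (sup_le (le_sup_right.trans (le_sup_left.trans le_sup_left)) le_sup_right :
          C ⊔ E ≤ A ⊔ C ⊔ D ⊔ E) (hC'le x hx)
      · exact (sup_le (le_sup_left.trans (le_sup_left.trans le_sup_left))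
          (le_sup_right.trans le_sup_left) : A ⊔ D ≤ A ⊔ C ⊔ D ⊔ E) (hA'le x hx)
    have hc : A ⊔ C ⊔ D ⊔ E ≤ (X ⊔ Y).comap (MulAut.conj β).toMonoidHom := by
      refine sup_le (sup_le (sup_le ?_ ?_) ?_) ?_ <;> intro z hz <;>
        show β * z * β⁻¹ ∈ X ⊔ Y
      · rw [show β * z * β⁻¹ = ⁅β, z⁆ * z by rw [commutatorElement_def]; group]
        exact mul_mem (hDN (commutator_mem_commutator hβ hz)) (hAN hz)
      · rw [show β * z * β⁻¹ = ⁅β, z⁆ * z by rw [commutatorElement_def]; group]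
        exact mul_mem (hEN (commutator_mem_commutator hβ hz)) (hCN hz)
      · rw [← hDA z hz β (mem_sup_left hβ), mul_inv_cancel_right]
        exact hDN hz
      · rw [← hEC z hz β (mem_sup_left hβ), mul_inv_cancel_right]
        exact hEN hz
    exact hc (hle hy)
  have hbR : b ∈ A ⊔ B ⊔ C := mem_sup_left (mem_sup_right hb)
  have hXR : X ⊔ Y ≤ A ⊔ B ⊔ C := by
    have hconj : ∀ U : Subgroup G, U ≤ A ⊔ B ⊔ C → Cfsg.conjBy U b⁻¹ ≤ A ⊔ B ⊔ C := by
      rintro U hU _ ⟨u, hu, rfl⟩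
      exact mul_mem (mul_mem (inv_mem hbR) (hU hu)) (inv_mem (inv_mem hbR))
    exact sup_le (sup_le (le_sup_left.trans le_sup_left) (hconj C le_sup_right))
      (sup_le (hconj A (le_sup_left.trans le_sup_left)) le_sup_right)
  refine ⟨?_, commutator_eq_bot_of_commute hXY,
    fun r hr => conjBy_eq_self_iff.2 (hnorm hr),
    le_antisymm (sup_le hXR (le_sup_right.trans le_sup_left))
      (sup_le (sup_le (hAN.trans le_sup_left) le_sup_right) (hCN.trans le_sup_left)), ?_⟩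
  · -- the classes of `X` and `Y` agree
    have hrot1 : ∀ U : Subgroup G, ⁅⁅C, A⁆, U⁆ = ⊥ := fun U => by
      rw [commutator_comm C A, hACbot, commutator_bot_left]
    have hrot2 : ∀ U : Subgroup G, ⁅⁅A, C⁆, U⁆ = ⊥ := fun U => by
      rw [hACbot, commutator_bot_left]
    have hiff : ⁅A, ⁅B, C⁆⁆ = ⊥ ↔ ⁅C, ⁅B, A⁆⁆ = ⊥ := by
      constructor
      · intro h
        rw [commutator_comm C ⁅B, A⁆, commutator_comm B A]
        exact commutator_commutator_eq_bot_of_rotate (by rw [commutator_comm]; exact h) (hrot1 B)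
      · intro h
        rw [commutator_comm A ⁅B, C⁆, commutator_comm B C]
        exact commutator_commutator_eq_bot_of_rotate (by rw [commutator_comm]; exact h) (hrot2 B)
    by_cases h0 : ⁅A, ⁅B, C⁆⁆ = ⊥
    · exact Or.inl ⟨hX1.2 h0, hY1.2 (hiff.1 h0)⟩
    · exact Or.inr ⟨⟨fun h => h0 (hX1.1 h), hX2⟩, ⟨fun h => h0 (hiff.2 (hY1.1 h)), hY2⟩⟩
  -- nilpotency
  set Q := ⁅X, X⁆ ⊔ ⁅Y, Y⁆ with hQ
  have hXX : ∀ k ∈ ⁅X, X⁆, ∀ x ∈ X, k * x = x * k := fun k hk x hx =>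
    commute_of_commutator_eq_bot hX2 hk hx
  have hYY : ∀ k ∈ ⁅Y, Y⁆, ∀ y ∈ Y, k * y = y * k := fun k hk y hy =>
    commute_of_commutator_eq_bot hY2 hk hy
  have hXself : ⁅X, X⁆ ≤ X := (commutator_le_sup X X).trans (sup_idem X).le
  have hYself : ⁅Y, Y⁆ ≤ Y := (commutator_le_sup Y Y).trans (sup_idem Y).le
  have hcl : closure ((X : Set G) ∪ Y) = X ⊔ Y := by rw [Subgroup.closure_union, closure_eq, closure_eq]
  have hQc : ∀ k ∈ Q, ∀ w ∈ X ⊔ Y, k * w = w * k := fun k hk w hw =>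
    (commute_sup (fun k hk => (commute_sup (hXX k hk) (fun y hy => hXY k (hXself hk) y hy) w hw).symm)
      (fun k hk => (commute_sup (fun x hx => (hXY x hx k (hYself hk)).symm) (hYY k hk) w hw).symm) k hk).symm
  have hder : ⁅X ⊔ Y, X ⊔ Y⁆ ≤ Q := by
    rw [← hcl]
    refine derived_le (by rw [hcl]; exact hQc) ?_
    rintro s (hs | hs) t (ht | ht)
    · exact mem_sup_left (commutator_mem_commutator hs ht)
    · rw [commutatorElement_eq_one_iff_commute.2 (hXY s hs t ht)]; exact one_mem _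
    · rw [commutatorElement_eq_one_iff_commute.2 (hXY t ht s hs).symm]; exact one_mem _
    · exact mem_sup_right (commutator_mem_commutator hs ht)
  have hR : A ⊔ B ⊔ C = closure ((A : Set G) ∪ B ∪ C) := by
    rw [Subgroup.closure_union, Subgroup.closure_union, closure_eq, closure_eq, closure_eq]
  rw [hR] at hXR hbR ⊢
  set T : Set G := (A : Set G) ∪ B ∪ C with hT
  let Z : ℕ → Subgroup G := fun n => (Subgroup.upperCentralSeries ↥(closure T) n).map (closure T).subtype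
  have up : ∀ (n : ℕ) (x : G), x ∈ closure T → (∀ t ∈ T, ⁅x, t⁆ ∈ Z n) → x ∈ Z (n + 1) :=
    fun n x hx h => upper_step hx h
  have hone : ∀ (n : ℕ) (x y : G), x * y = y * x → ⁅x, y⁆ ∈ Z n := fun n x y h => by
    rw [commutatorElement_eq_one_iff_commute.2 h]; exact one_mem _
  have hNR : X ⊔ Y ≤ closure T := hXR
  have hL : ⁅D, E⁆ ≤ Z 1 := by
    intro l hl
    have hlN : l ∈ X ⊔ Y := sup_le hDN hEN (commutator_le_sup D E hl)
    have hlQ := hder (commutator_mono hDN hEN hl)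
    refine up 0 l (hNR hlN) fun t ht => hone 0 l t ?_
    rcases ht with (ht | ht) | ht
    · exact hQc l hlQ t (hAN ht)
    · exact (commute_sup (fun d hd => (hDA d hd t (mem_sup_left ht)).symm)
        (fun e he => (hEC e he t (mem_sup_left ht)).symm) l (commutator_le_sup D E hl)).symm
    · exact hQc l hlQ t (hCN ht)
  have hK : ∀ U V W : Subgroup G, U ≤ X ⊔ Y → V ≤ X ⊔ Y → W ≤ X ⊔ Y →
      (∀ u ∈ U, ∀ β ∈ B, ∃ w ∈ W, β * u * β⁻¹ = u * w) → (∀ v ∈ V, ∀ β ∈ B, v * β = β * v) →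
      ⁅W, V⁆ ≤ Z 1 → ⁅U, V⁆ ≤ Z 2 := by
    intro U V W hU hV hW hconj hVB hWV
    refine commutator_le.2 fun u hu v hv => ?_
    have hk := hder (commutator_mem_commutator (hU hu) (hV hv))
    refine up 1 _ (hNR (sup_le (hXself.trans le_sup_left) (hYself.trans le_sup_right) hk)) fun t ht => ?_
    rcases ht with (ht | ht) | ht
    · exact hone _ _ _ (hQc _ hk t (hAN ht))
    · obtain ⟨w, hw, hwe⟩ := hconj u hu t ht
      rw [← inv_mem_iff, commutatorElement_inv]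
      have hvt : t * v * t⁻¹ = v := by rw [← hVB v hv t ht, mul_inv_cancel_right]
      have hl := hder (commutator_mem_commutator (hW hw) (hV hv))
      rw [show ⁅t, ⁅u, v⁆⁆ = ⁅t * u * t⁻¹, t * v * t⁻¹⁆ * ⁅u, v⁆⁻¹ by
          simp only [commutatorElement_def]; group, hwe, hvt,
        show ⁅u * w, v⁆ = u * ⁅w, v⁆ * u⁻¹ * ⁅u, v⁆ by simp only [commutatorElement_def]; group,
        mul_inv_cancel_right, ← hQc _ hl u (hU hu), mul_inv_cancel_right]
      exact hWV (commutator_mem_commutator hw hv)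
    · exact hone _ _ _ (hQc _ hk t (hCN ht))
  have hAconj : ∀ a ∈ A, ∀ β ∈ B, ∃ d ∈ D, β * a * β⁻¹ = a * d := fun a ha β hβ => by
    refine ⟨⁅β, a⁆, commutator_mem_commutator hβ ha, ?_⟩
    rw [← hDA _ (commutator_mem_commutator hβ ha) a (mem_sup_right ha), commutatorElement_def]
    group
  have hCconj : ∀ c ∈ C, ∀ β ∈ B, ∃ e ∈ E, β * c * β⁻¹ = c * e := fun c hc β hβ => by
    refine ⟨⁅β, c⁆, commutator_mem_commutator hβ hc, ?_⟩
    rw [← hEC _ (commutator_mem_commutator hβ hc) c (mem_sup_right hc), commutatorElement_def]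
    group
  have hAE : ⁅A, E⁆ ≤ Z 2 := hK A E D hAN hEN hDN hAconj
    (fun e he β hβ => hEC e he β (mem_sup_left hβ)) hL
  have hCD : ⁅C, D⁆ ≤ Z 2 := hK C D E hCN hDN hEN hCconj
    (fun d hd β hβ => hDA d hd β (mem_sup_left hβ)) (by rw [commutator_comm]; exact hL)
  have hD3 : D ≤ Z 3 := fun d hd => up 2 d (hNR (hDN hd)) fun t ht => by
    rcases ht with (ht | ht) | ht
    · exact hone _ _ _ (hDA d hd t (mem_sup_right ht))
    · exact hone _ _ _ (hDA d hd t (mem_sup_left ht))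
    · exact hCD ((commutator_comm D C).le (commutator_mem_commutator hd ht))
  have hE3 : E ≤ Z 3 := fun e he => up 2 e (hNR (hEN he)) fun t ht => by
    rcases ht with (ht | ht) | ht
    · exact hAE ((commutator_comm E A).le (commutator_mem_commutator he ht))
    · exact hone _ _ _ (hEC e he t (mem_sup_left ht))
    · exact hone _ _ _ (hEC e he t (mem_sup_right ht))
  have hT4 : closure T ≤ Z 4 := by
    rw [closure_le]
    intro x hx
    refine up 3 x (subset_closure hx) fun t ht => ?_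
    rcases hx with (hx | hx) | hx <;> rcases ht with (ht | ht) | ht
    · exact hone _ _ _ (hAc x hx t ht)
    · exact hD3 ((commutator_comm A B).le (commutator_mem_commutator hx ht))
    · exact hone _ _ _ (hac x hx t ht)
    · exact hD3 (commutator_mem_commutator hx ht)
    · exact hone _ _ _ (hBc x hx t ht)
    · exact hE3 (commutator_mem_commutator hx ht)
    · exact hone _ _ _ (hac t ht x hx).symm
    · exact hE3 ((commutator_comm C B).le (commutator_mem_commutator hx ht))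
    · exact hone _ _ _ (hCc x hx t ht)
  refine ⟨⟨4, eq_top_iff.2 fun y _ => ?_⟩⟩
  obtain ⟨z, hz, hzy⟩ := hT4 y.2
  rwa [← Subtype.ext hzy]

end Cfsg.Agent.S5030
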