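import Cfsg.Statements.S5031
import Cfsg.Agent.Lib.RootSub.Commutator


set_option autoImplicit false
open Cfsg

namespace Cfsg.Agent.S5031

open CfsgLib.RootSub
open scoped commutatorElement

/-- Let S be a set of abstract root subgroups of G and let A, B ∈ S lie in different connected components of the graph of rank one pairs on S, each component having more than one member. Then B is not a line partner of A. -/
theorem result {G : Type*} [Group G] {S : Set (Subgroup G)} (hS : Cfsg.IsRootSubgroupSet S)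
    {A B : Subgroup G} (hA : A ∈ S) (hB : B ∈ S)
    (hne : Cfsg.componentOf (Cfsg.FAdj S) S A ≠ Cfsg.componentOf (Cfsg.FAdj S) S B)
    (hA2 : ∃ A' ∈ Cfsg.componentOf (Cfsg.FAdj S) S A, A' ≠ A) (hB2 : ∃ B' ∈ Cfsg.componentOf (Cfsg.FAdj S) S B, B' ≠ B) :
    B ∉ Cfsg.linePartners S A := by
  intro hBl
  obtain ⟨⟨-, hBA, hAB⟩, hpart⟩ := hBl
  have hnon : ∀ X ∈ S, (∃ Y ∈ Cfsg.componentOf (Cfsg.FAdj S) S X, Y ≠ X) → NonIso S X := by
    rintro X _ ⟨Y, ⟨-, hY⟩, hne⟩
    rcases Relation.ReflTransGen.cases_head hY with h | ⟨Z, hZ, -⟩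
    · exact absurd h.symm hne
    · exact ⟨Z, hZ.2.1, hZ.2.2⟩
  obtain ⟨P, hP, hAP⟩ := hnon A hA hA2
  obtain ⟨Q, hQ, hBQ⟩ := hnon B hB hB2
  obtain ⟨a, ha, ha1⟩ := (exists_ne_one hAP).1
  obtain ⟨b, hb, hb1⟩ := (exists_ne_one hBQ).1
  have hab : a * b ≠ 1 := by
    intro e
    refine hBA (eq_of_mem_both hS hA hP hAP hB ha ?_ ha1).symm
    rw [eq_inv_of_mul_eq_one_left e]
    exact inv_mem hb
  obtain ⟨E, hE, hxE⟩ := hpart.2.1 _ (mul_mem (Subgroup.mem_sup_left ha) (Subgroup.mem_sup_right hb)) hab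
  have hxE' : b * a ∈ E := by rwa [← commute_of_commutator_eq_bot hAB ha hb]
  have hreach : Relation.ReflTransGen (Cfsg.FAdj S) A B := by
    have h1 : Relation.ReflTransGen (Cfsg.FAdj S) A P := .single ⟨hA, hP, hAP⟩
    have h2 : Relation.ReflTransGen (Cfsg.FAdj S) Q B := .single ⟨hQ, hB, Cfsg.RankOnePair_symm hBQ⟩
    rcases partner_or hS hA hP hB hE.1 hAP hAB hBA.symm ha ha1 hb hb1 hxE with h | h
    · exact h1.tail ⟨hP, hB, h⟩
    rcases partner_or hS hB hQ hA hE.1 hBQ (by rwa [Subgroup.commutator_comm]) hBA hb hb1 ha ha1 hxE' with k | k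
    · exact (Relation.ReflTransGen.head (fadj_symm ⟨hQ, hA, k⟩) .refl).trans h2
    · exact ((h1.tail ⟨hP, hE.1, h⟩).tail (fadj_symm ⟨hQ, hE.1, k⟩)).trans h2
  refine hne (Set.ext fun X => and_congr_right fun _ => ⟨fun h => (reach_symm hreach).trans h, hreach.trans⟩)

end Cfsg.Agent.S5031
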