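import Cfsg.Statements.S5032
import Cfsg.Agent.Lib.RootSub.Commutator


set_option autoImplicit false
open Cfsg

namespace Cfsg.Agent.S5032

open CfsgLib.RootSub
open scoped commutatorElement

/-- Let S be a set of abstract root subgroups of G with more than one member. Then the graph of rank one pairs on S is connected if and only if S is a single conjugacy class of G and some member of S has a rank one partner in S. -/
theorem result {G : Type*} [Group G] {S : Set (Subgroup G)} (hS : Cfsg.IsRootSubgroupSet S) (h2 : ∃ A ∈ S, ∃ B ∈ S, A ≠ B) :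
    Cfsg.IsConnectedFamily (Cfsg.FAdj S) S ↔
      (Cfsg.IsConjClassOfSubgroups S ∧ ∃ A ∈ S, ¬ Cfsg.IsIsolatedIn (Cfsg.FAdj S) S A) := by
  constructor
  · intro hc
    obtain ⟨A, hA, B, hB, hne⟩ := h2
    refine ⟨⟨⟨A, hA⟩, fun X hX Y hY => reach_isConj (hc X hX Y hY)⟩, A, hA, ?_⟩
    rcases Relation.ReflTransGen.cases_head (hc A hA B hB) with h | ⟨Z, hZ, -⟩
    · exact absurd h hne
    · exact not_isolated_of_nonIso hA ⟨Z, hZ.2.1, hZ.2.2⟩
  · rintro ⟨⟨-, hcl⟩, A, hA, hn⟩ X hX Y hY
    obtain ⟨g, rfl⟩ := hcl A hA X hX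
    obtain ⟨g', rfl⟩ := hcl A hA Y hY
    have hn' := nonIso_of_not_isolated hA hn
    exact (reach_symm (reach_conj hS hA hn' g)).trans (reach_conj hS hA hn' g')

end Cfsg.Agent.S5032
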