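import Cfsg.Statements.S5035
import Cfsg.Agent.Lib.RootSub.Commutator


set_option autoImplicit false
open Cfsg

namespace Cfsg.Agent.S5035

open CfsgLib.RootSub
open scoped commutatorElement

/-- Let S be a set of abstract root subgroups of G whose graph of rank one pairs is connected, and f a homomorphism from G onto a group H. Then either the images of the members of S form a set of abstract root subgroups of H whose graph of rank one pairs is again connected, or H equals the image of a member of S. -/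
theorem result {G H : Type*} [Group G] [Group H] {S : Set (Subgroup G)} (hS : Cfsg.IsRootSubgroupSet S)
    (hc : Cfsg.IsConnectedFamily (Cfsg.FAdj S) S) (f : G →* H) (hf : Function.Surjective f) :
    (Cfsg.IsRootSubgroupSet ((fun A : Subgroup G => A.map f) '' S) ∧
      Cfsg.IsConnectedFamily (Cfsg.FAdj ((fun A : Subgroup G => A.map f) '' S)) ((fun A : Subgroup G => A.map f) '' S)) ∨
    ∃ A ∈ S, A.map f = ⊤ := by
  by_cases hempty : S = ∅
  · subst hempty
    have hG : (⊤ : Subgroup G) = ⊥ := by
      rw [← hS.generates]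
      simp
    left
    refine ⟨⟨by simp, by simp, ?_, by simp, by simp⟩, by simp [Cfsg.IsConnectedFamily]⟩
    rw [Set.image_empty]
    have : (⊤ : Subgroup H) = ⊥ := by
      rw [← Subgroup.map_top_of_surjective f hf, hG, Subgroup.map_bot]
    simp [this]
  obtain ⟨A₀, hA₀⟩ := Set.nonempty_iff_ne_empty.2 hempty
  have hmapconj : ∀ (A : Subgroup G) (g : G), (Cfsg.conjBy A g).map f = Cfsg.conjBy (A.map f) (f g) := by
    intro A g
    ext y
    constructor
    · rintro ⟨_, ⟨a, ha, rfl⟩, rfl⟩
      exact ⟨f a, Subgroup.mem_map_of_mem f ha, by simp⟩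
    · rintro ⟨_, ⟨a, ha, rfl⟩, rfl⟩
      exact ⟨g * a * g⁻¹, conj_mem_conjBy ha, by simp⟩
  by_cases hkill : ∃ A ∈ S, A.map f = ⊥
  · obtain ⟨A, hA, hAf⟩ := hkill
    refine Or.inr ⟨A, hA, ?_⟩
    have hall : ∀ B ∈ S, B.map f = ⊥ := fun B hB => by
      obtain ⟨g, rfl⟩ := reach_isConj (hc A hA B hB)
      rw [hmapconj, hAf]
      exact Subgroup.map_bot _
    rw [hAf, ← Subgroup.map_top_of_surjective f hf, ← hS.generates, Subgroup.map_iSup]
    refine (eq_bot_iff.2 (iSup_le fun B => ?_)).symm
    rw [Subgroup.map_iSup]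
    exact iSup_le fun hB => (hall B hB).le
  push Not at hkill
  left
  have hpair : ∀ A B : Subgroup G, A.map f ≠ B.map f → Cfsg.IsRankOnePair A B →
      Cfsg.IsRankOnePair (A.map f) (B.map f) := by
    intro A B hne h
    have key : ∀ {A B : Subgroup G}, A.map f ≠ B.map f → Cfsg.RankOneCondition A B →
        Cfsg.RankOneCondition (A.map f) (B.map f) := by
      intro A B hne hAB a' ha' ha1
      obtain ⟨a, ha, rfl⟩ := ha'
      obtain ⟨b, hb, -, he⟩ := hAB a ha (fun e => ha1 (by rw [e, map_one]))
      have h1 := congrArg (fun X : Subgroup G => X.map f) he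
      simp only [hmapconj, map_inv] at h1
      refine ⟨f b, Subgroup.mem_map_of_mem f hb, fun e => hne ?_, h1⟩
      rw [e, inv_one, conjBy_one] at h1
      have h2 := congrArg (fun X => Cfsg.conjBy X (f a)) h1
      simp only [conjBy_conjBy, mul_inv_cancel, conjBy_one] at h2
      rwa [conjBy_eq_self_of_mem (Subgroup.mem_map_of_mem f ha)] at h2
    haveI := h.nilpotent_left
    haveI := h.nilpotent_right
    exact ⟨hne, Group.nilpotent_of_surjective (f.subgroupMap A) (f.subgroupMap_surjective A),
      Group.nilpotent_of_surjective (f.subgroupMap B) (f.subgroupMap_surjective B),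
      key hne h.cond_left, key hne.symm h.cond_right⟩
  refine ⟨⟨?_, ?_, ?_, ?_, ?_⟩, ?_⟩
  · rintro _ ⟨A, hA, rfl⟩
    haveI := hS.commutative A hA
    infer_instance
  · rintro _ ⟨A, hA, rfl⟩
    exact hkill A hA
  · rw [iSup_image, ← Subgroup.map_top_of_surjective f hf, ← hS.generates]
    simp only [Subgroup.map_iSup]
  · rintro _ ⟨A, hA, rfl⟩ h
    obtain ⟨g, rfl⟩ := hf h
    exact ⟨_, hS.conj_mem A hA g, hmapconj A g⟩
  · rintro _ ⟨A, hA, rfl⟩ _ ⟨B, hB, rfl⟩
    rcases hS.pair A hA B hB with h | h | h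
    · left
      rw [← Subgroup.map_commutator, h, Subgroup.map_bot]
    · by_cases he : A.map f = B.map f
      · left
        show ⁅A.map f, B.map f⁆ = ⊥
        rw [← he]
        refine commutator_eq_bot_of_commute ?_
        rintro _ ⟨x, hx, rfl⟩ _ ⟨y, hy, rfl⟩
        rw [← map_mul, ← map_mul, comm_of_mem hS hA hx hy]
      · exact Or.inr (Or.inl (hpair A B he h))
    · refine Or.inr (Or.inr ?_)
      have himg : ⁅A.map f, B.map f⁆ = ⁅A, B⁆.map f := (Subgroup.map_commutator A B f).symm
      refine ⟨⟨_, h.1, himg.symm⟩, ?_, ?_, ?_⟩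
      · intro c hc x hx
        rw [himg] at hc
        rw [← Subgroup.map_sup] at hx
        obtain ⟨c, hc', rfl⟩ := hc
        obtain ⟨x, hx', rfl⟩ := hx
        rw [← map_mul, ← map_mul, h.2.1 c hc' x hx']
      · rintro _ ⟨a, ha, rfl⟩ ha1
        rw [himg, ← h.2.2.1 a ha (fun e => ha1 (by rw [e, map_one])), MonoidHom.map_closure]
        simp only [Subgroup.coe_map, Set.image_image, map_mul, map_inv]
      · rintro _ ⟨b, hb, rfl⟩ hb1
        rw [himg, ← h.2.2.2 b hb (fun e => hb1 (by rw [e, map_one])), MonoidHom.map_closure]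
        simp only [Subgroup.coe_map, Set.image_image, map_mul, map_inv]
  · rintro _ ⟨A, hA, rfl⟩ _ ⟨B, hB, rfl⟩
    have hp := hc A hA B hB
    clear hB
    induction hp with
    | refl => exact .refl
    | @tail X Y hXY h2 ih =>
      show Relation.ReflTransGen _ (A.map f) (Y.map f)
      by_cases he : X.map f = Y.map f
      · rw [← he]
        exact ih
      · exact ih.tail ⟨⟨X, h2.1, rfl⟩, ⟨Y, h2.2.1, rfl⟩, hpair X Y he h2.2.2⟩

end Cfsg.Agent.S5035
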