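import Cfsg.Statements.S5038
import Cfsg.Agent.Lib.RootSub.Commutator


set_option autoImplicit false
open Cfsg

namespace Cfsg.Agent.S5038

open CfsgLib.RootSub
open scoped commutatorElement

/-- Let S be a set of abstract root subgroups of G in which every member has a rank one partner, A ∈ S and B a line partner of A. Then the subgroup generated by the members of S normalizing AB permutes the members of S inside AB doubly transitively by conjugation. -/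
theorem result {G : Type*} [Group G] {S : Set (Subgroup G)} (hS : Cfsg.IsRootSubgroupSet S)
    (hF : ∀ A ∈ S, ¬ Cfsg.IsIsolatedIn (Cfsg.FAdj S) S A) {A B : Subgroup G} (hA : A ∈ S) (hB : B ∈ Cfsg.linePartners S A) :
    ∀ C₁ ∈ Cfsg.membersIn S (A ⊔ B), ∀ C₂ ∈ Cfsg.membersIn S (A ⊔ B), ∀ D₁ ∈ Cfsg.membersIn S (A ⊔ B),
      ∀ D₂ ∈ Cfsg.membersIn S (A ⊔ B), C₁ ≠ C₂ → D₁ ≠ D₂ →
        ∃ x ∈ ⨆ E ∈ Cfsg.normalizingMembers S (A ⊔ B), E, Cfsg.conjBy C₁ x = D₁ ∧ Cfsg.conjBy C₂ x = D₂ := by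
  obtain ⟨⟨hBS, hBA, hAB⟩, hpart⟩ := hB
  set N := A ⊔ B with hN
  set Y := ⨆ E ∈ Cfsg.normalizingMembers S N, E with hY
  set T := Cfsg.membersIn S N with hT
  have hNab : ∀ x ∈ N, ∀ y ∈ N, x * y = y * x := by
    intro x hx y hy
    obtain ⟨a, ha, b, hb, rfl⟩ := mem_sup_of_commute (fun a ha b hb => commute_of_commutator_eq_bot hAB ha hb) hx
    obtain ⟨a', ha', b', hb', rfl⟩ := mem_sup_of_commute (fun a ha b hb => commute_of_commutator_eq_bot hAB ha hb) hy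
    calc a * b * (a' * b') = a * (b * a') * b' := by group
      _ = a * (a' * b) * b' := by rw [commute_of_commutator_eq_bot hAB ha' hb]
      _ = (a * a') * (b * b') := by group
      _ = (a' * a) * (b' * b) := by rw [comm_of_mem hS hA ha ha', comm_of_mem hS hBS hb hb']
      _ = a' * (a * b') * b := by group
      _ = a' * (b' * a) * b := by rw [commute_of_commutator_eq_bot hAB ha hb']
      _ = a' * b' * (a * b) := by group
  have hnon : ∀ X ∈ S, NonIso S X := fun X hX => nonIso_of_not_isolated hX (hF X hX)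
  have hATmem : A ∈ T := ⟨hA, le_sup_left⟩
  have hBTmem : B ∈ T := ⟨hBS, le_sup_right⟩
  have hYN : Y ≤ Subgroup.normalizer (N : Set G) := iSup₂_le fun E hE => hE.2
  have hTinv : ∀ {C}, C ∈ T → ∀ {y}, y ∈ Y → Cfsg.conjBy C y ∈ T := by
    intro C hC y hy
    refine ⟨hS.conj_mem C hC.1 y, ?_⟩
    rintro _ ⟨c, hc, rfl⟩
    exact (Subgroup.mem_normalizer_iff.1 (hYN hy) c).1 (hC.2 hc)
  -- a member `E` whose stabilizer is transitive on the other members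
  set Good : Subgroup G → Prop := fun E => ∀ D₁ ∈ T, D₁ ≠ E → ∀ D₂ ∈ T, D₂ ≠ E →
    ∃ y ∈ Y, Cfsg.conjBy E y = E ∧ Cfsg.conjBy D₁ y = D₂ with hGood
  have hgood : ∀ A₀ ∈ T, ∀ C ∈ T, C ≠ A₀ → N = A₀ ⊔ C → ∃ E ∈ T, E ≠ A₀ ∧ N = A₀ ⊔ E ∧ Good E := by
    intro A₀ h₀ C hC hCA hgen
    obtain ⟨Q, hQ, hAQ⟩ := hnon A₀ h₀.1
    have hnc : ∀ E ∈ T, E ≠ A₀ → ¬ Cfsg.IsRankOnePair Q E → Cfsg.RootCommutatorCase S Q E := by
      intro E hE hEA hnot
      rcases hS.pair Q hQ E hE.1 with h | h | h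
      · exfalso
        obtain ⟨a, ha, ha1⟩ := (exists_ne_one hAQ).1
        obtain ⟨e, he, he1⟩ := (Subgroup.bot_or_exists_ne_one _).resolve_left (hS.ne_bot E hE.1)
        have hz : e ∈ Subgroup.centralizer ((A₀ ⊔ Q : Subgroup G) : Set G) := by
          have : A₀ ⊔ Q ≤ Subgroup.centralizer ({e} : Set G) := sup_le
            (fun x hx => Subgroup.mem_centralizer_singleton_iff.2 (hNab x (h₀.2 hx) e (hE.2 he)))
            (fun x hx => Subgroup.mem_centralizer_singleton_iff.2 (commute_of_commutator_eq_bot h hx he))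
          exact Subgroup.mem_centralizer_iff.2 fun x hx => Subgroup.mem_centralizer_singleton_iff.1 (this hx)
        have hea : e * a ≠ 1 := by
          intro e0
          refine hEA (eq_of_mem_both hS h₀.1 hQ hAQ hE.1 ha ?_ ha1).symm
          rw [eq_inv_of_mul_eq_one_right e0]
          exact inv_mem he
        obtain ⟨E', hE', hmem⟩ := hpart.2.1 _ (mul_mem (hE.2 he) (h₀.2 ha)) hea
        exact not_rootElement hS h₀.1 ⟨hQ, hAQ⟩ hz he1 a ha ha1 ⟨hea, E', hE'.1, hmem⟩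
      · exact absurd h hnot
      · exact h
    have hstep : ∀ E ∈ T, Cfsg.RootCommutatorCase S Q E →
        Cfsg.RootCommutatorCase S A₀ ⁅Q, E⁆ ∧ ⁅A₀, ⁅Q, E⁆⁆ = E := fun E hE hc =>
      line_step hS h₀.1 hQ hE.1 hAQ
        (commutator_eq_bot_of_commute fun x hx y hy => hNab x (h₀.2 hx) y (hE.2 hy)) (hnon E hE.1) hc
        fun x hx hx1 => by
          obtain ⟨E', hE', hxE'⟩ := hpart.2.1 x (sup_le h₀.2 hE.2 hx) hx1
          exact ⟨E', hE'.1, hxE'⟩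
    obtain ⟨E, hE, hEA, hQE, hsup⟩ :
        ∃ E ∈ T, E ≠ A₀ ∧ Cfsg.RootCommutatorCase S Q E ∧ N = A₀ ⊔ E := by
      by_cases hQC : Cfsg.IsRankOnePair Q C
      swap
      · exact ⟨C, hC, hCA, hnc C hC hCA hQC, hgen⟩
      obtain ⟨q, hq, hq1⟩ := (exists_ne_one hAQ).2
      obtain ⟨a, ha, ha1, hea⟩ := hAQ.cond_right q hq hq1
      obtain ⟨c, hc, hc1, hec⟩ := (Cfsg.RankOnePair_symm hQC).cond_right q hq hq1
      have hx1 : c⁻¹ * a ≠ 1 := by
        intro e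
        exact hCA (eq_of_mem_both hS h₀.1 hQ hAQ hC.1 ha (inv_mul_eq_one.1 e ▸ hc) ha1).symm
      obtain ⟨E, hE, hxE⟩ := hpart.2.1 _ (mul_mem (inv_mem (hC.2 hc)) (h₀.2 ha)) hx1
      have hEA : E ≠ A₀ := by
        intro e
        refine hCA (eq_of_mem_both hS h₀.1 hQ hAQ hC.1 ?_ hc hc1).symm
        have := mul_mem ha (inv_mem (e ▸ hxE))
        rwa [show a * (c⁻¹ * a)⁻¹ = c by group] at this
      have hnot : ¬ Cfsg.IsRankOnePair Q E := by
        intro hQE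
        have hne : Q ≠ Cfsg.conjBy Q (c⁻¹ * a) := fun e => hx1
          (eq_one_of_mem_normalizer hQE hxE (conjBy_eq_self_iff.1 e.symm))
        refine not_commutator_bot (pair_of_unipotent hQE (left_mem hQE)
          ⟨_, Subgroup.mem_sup_right hxE, rfl⟩ hne) ?_
        have h1 : ⁅Cfsg.conjBy Q a⁻¹, Cfsg.conjBy Q c⁻¹⁆ = ⊥ := by
          rw [hea, hec, ← case_conjBy, commutator_eq_bot_of_commute (H := A₀) (K := C)
            fun x hx y hy => hNab x (h₀.2 hx) y (hC.2 hy)]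
          exact Subgroup.map_bot _
        have h2 := congrArg (fun X => Cfsg.conjBy X a) h1
        beta_reduce at h2
        rwa [case_conjBy, conjBy_conjBy, conjBy_conjBy, mul_inv_cancel, conjBy_one,
          hNab a (h₀.2 ha) c⁻¹ (inv_mem (hC.2 hc)), show Cfsg.conjBy (⊥ : Subgroup G) a = ⊥ from Subgroup.map_bot _] at h2
      have hc' := hnc E hE hEA hnot
      refine ⟨E, hE, hEA, hc', le_antisymm ?_ (sup_le h₀.2 hE.2)⟩
      obtain ⟨hcase, hK⟩ := hstep E hE hc'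
      rw [hgen]
      refine sup_le le_sup_left ?_
      have hcm : c ∈ A₀ ⊔ ⁅A₀, ⁅Q, E⁆⁆ := by
        rw [hK, show c = a * (c⁻¹ * a)⁻¹ by group]
        exact mul_mem (Subgroup.mem_sup_left ha) (inv_mem (Subgroup.mem_sup_right hxE))
      rcases case_cover hcase hcm with h | ⟨f, hf, h⟩
      · rw [hK] at h
        rw [nonIso_eq hS hC.1 (hnon C hC.1) hE.1 hc h hc1]
        exact le_sup_right
      · rw [nonIso_eq hS hC.1 (hnon C hC.1) (hS.conj_mem A₀ h₀.1 f) hc h hc1]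
        rintro _ ⟨x, hx, rfl⟩
        have := conj_mem_sup_commutator hx hf
        rwa [hK] at this
    obtain ⟨hcase, hK⟩ := hstep E hE hQE
    refine ⟨E, hE, hEA, hsup, ?_⟩
    have hmem := case_membersIn hS hcase h₀.1 (hnon A₀ h₀.1) hQE.1
    rw [hK, ← hsup] at hmem
    have hFE : ∀ f ∈ ⁅Q, E⁆, Cfsg.conjBy E f = E := fun f hf =>
      conjBy_eq_self_iff.2 (Subgroup.centralizer_le_normalizer _ (Subgroup.mem_centralizer_iff.2
        fun x hx => (case_central hQE hf (Subgroup.mem_sup_right hx)).symm))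
    have hFN : ⁅Q, E⁆ ≤ Subgroup.normalizer (N : Set G) := le_normalizer_of_conj_mem fun f hf y hy => by
      have hle : N ≤ N.comap (MulAut.conj f).toMonoidHom := by
        rw [hsup]
        refine sup_le (fun x hx => ?_) (fun x hx => ?_)
        · have := conj_mem_sup_commutator hx hf
          rw [hK] at this
          exact this
        · exact Subgroup.mem_sup_right ((Subgroup.mem_normalizer_iff.1 (conjBy_eq_self_iff.1 (hFE f hf)) x).1 hx)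
      exact hle hy
    have hFY : ⁅Q, E⁆ ≤ Y := le_iSup₂ (f := fun E (_ : E ∈ Cfsg.normalizingMembers S N) => E) ⁅Q, E⁆ ⟨hQE.1, hFN⟩
    intro D₁ h1 hne1 D₂ h2 hne2
    rw [hT, hmem] at h1 h2
    obtain ⟨f₁, hf1, rfl⟩ := h1.resolve_right hne1
    obtain ⟨f₂, hf2, rfl⟩ := h2.resolve_right hne2
    refine ⟨f₂ * f₁⁻¹, hFY (mul_mem hf2 (inv_mem hf1)), hFE _ (mul_mem hf2 (inv_mem hf1)), ?_⟩
    rw [conjBy_conjBy, inv_mul_cancel_right]
  obtain ⟨E₁, hE1, hE1A, hsup1, hg1⟩ := hgood A hATmem B hBTmem hBA hN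
  obtain ⟨E₂, hE2, hE2E, -, hg2⟩ := hgood E₁ hE1 A hATmem (Ne.symm hE1A) (by rw [hsup1, sup_comm])
  have hthird : ∃ D ∈ T, D ≠ E₁ ∧ D ≠ E₂ := by
    obtain ⟨e₁, he1, he11⟩ := (Subgroup.bot_or_exists_ne_one _).resolve_left (hS.ne_bot E₁ hE1.1)
    obtain ⟨e₂, he2, he21⟩ := (Subgroup.bot_or_exists_ne_one _).resolve_left (hS.ne_bot E₂ hE2.1)
    have h1 : e₁ * e₂ ≠ 1 := by
      intro e
      refine hE2E (nonIso_eq hS hE2.1 (hnon E₂ hE2.1) hE1.1 he2 ?_ he21)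
      rw [eq_inv_of_mul_eq_one_right e]
      exact inv_mem he1
    obtain ⟨D, hD, hxD⟩ := hpart.2.1 _ (mul_mem (hE1.2 he1) (hE2.2 he2)) h1
    refine ⟨D, hD, fun e => ?_, fun e => ?_⟩ <;> subst e
    · exact hE2E (nonIso_eq hS hE2.1 (hnon E₂ hE2.1) hE1.1 he2 (by simpa using mul_mem (inv_mem he1) hxD) he21)
    · exact hE2E (nonIso_eq hS hE1.1 (hnon E₁ hE1.1) hE2.1 he1 (by simpa using mul_mem hxD (inv_mem he2)) he11).symm
  have hone : ∀ X ∈ T, ∀ X' ∈ T, (X ≠ E₁ ∧ X' ≠ E₁) ∨ (X ≠ E₂ ∧ X' ≠ E₂) → ∃ y ∈ Y, Cfsg.conjBy X y = X' := by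
    rintro X hX X' hX' (⟨h, h'⟩ | ⟨h, h'⟩)
    · obtain ⟨y, hy, -, he⟩ := hg1 X hX h X' hX' h'
      exact ⟨y, hy, he⟩
    · obtain ⟨y, hy, -, he⟩ := hg2 X hX h X' hX' h'
      exact ⟨y, hy, he⟩
  have htrans : ∀ X ∈ T, ∀ X' ∈ T, ∃ y ∈ Y, Cfsg.conjBy X y = X' := by
    intro X hX X' hX'
    by_cases h : (X ≠ E₁ ∧ X' ≠ E₁) ∨ (X ≠ E₂ ∧ X' ≠ E₂)
    · exact hone X hX X' hX' h
    obtain ⟨D, hD, hD1, hD2⟩ := hthird
    have hor : ∀ Z : Subgroup G, (Z ≠ E₁ ∧ D ≠ E₁) ∨ (Z ≠ E₂ ∧ D ≠ E₂) := fun Z => by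
      by_cases hZ : Z = E₁
      · exact Or.inr ⟨hZ ▸ hE2E.symm, hD2⟩
      · exact Or.inl ⟨hZ, hD1⟩
    obtain ⟨y, hy, he⟩ := hone X hX D hD (hor X)
    obtain ⟨y', hy', he'⟩ := hone D hD X' hX' ((hor X').imp And.symm And.symm)
    exact ⟨y' * y, mul_mem hy' hy, by rw [← conjBy_conjBy, he, he']⟩
  intro C₁ hC1 C₂ hC2 D₁ hD1 D₂ hD2 hC hD
  obtain ⟨y₁, hy1, he1⟩ := htrans C₁ hC1 D₁ hD1
  obtain ⟨y₀, hy0, he0⟩ := htrans E₁ hE1 D₁ hD1
  have hback : ∀ Z, Cfsg.conjBy (Cfsg.conjBy Z y₀⁻¹) y₀ = Z := fun Z => by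
    rw [conjBy_conjBy, mul_inv_cancel, conjBy_one]
  have hne : ∀ Z, Z ≠ D₁ → Cfsg.conjBy Z y₀⁻¹ ≠ E₁ := fun Z hZ e => hZ (by rw [← hback Z, e, he0])
  obtain ⟨y, hy, hfix, hmov⟩ := hg1 _ (hTinv (hTinv hC2 hy1) (inv_mem hy0))
    (hne _ fun e => hC (conjBy_inj y₁ (he1.trans e.symm))) _ (hTinv hD2 (inv_mem hy0)) (hne _ hD.symm)
  refine ⟨y₀ * y * y₀⁻¹ * y₁, mul_mem (mul_mem (mul_mem hy0 hy) (inv_mem hy0)) hy1, ?_, ?_⟩
  · rw [← conjBy_conjBy, he1, ← he0, conjBy_conjBy, inv_mul_cancel_right, ← conjBy_conjBy, hfix]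
  · rw [← conjBy_conjBy, ← conjBy_conjBy, ← conjBy_conjBy, hmov, hback]

end Cfsg.Agent.S5038
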