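import Cfsg.Statements.S5043
import Cfsg.Agent.Lib.RootSub.TransvectionSL
-- import your own Cfsg.Agent.* helpers here

set_option autoImplicit false
open Matrix
open Cfsg

namespace Cfsg.Agent.S5043

open CfsgLib.Transv
open scoped commutatorElement

/-- Let k be a field and n a natural number. In SL_{n+3}(k) (so in every dimension at least 3) the conjugates of the root subgroup of elementary transvections 1 + c E₁₂ (c ∈ k) — that is, the groups of transvections attached to an incident point–hyperplane pair — form a non-degenerate class of abstract k-root subgroups of SL_{n+3}(k) whose graph of rank one pairs is connected. -/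
theorem result (k : Type*) [Field k] (n : ℕ) :
    Cfsg.IsRootSubgroupClass {A : Subgroup (Matrix.SpecialLinearGroup (Fin (n + 3)) k) |
        ∃ g : Matrix.SpecialLinearGroup (Fin (n + 3)) k,
          A = Cfsg.conjBy (Subgroup.closure {t : Matrix.SpecialLinearGroup (Fin (n + 3)) k |
            ∃ c : k, (t : Matrix (Fin (n + 3)) (Fin (n + 3)) k) = Matrix.transvection 0 1 c}) g} ∧
    Cfsg.IsNondegenerateRootSet {A : Subgroup (Matrix.SpecialLinearGroup (Fin (n + 3)) k) |
        ∃ g : Matrix.SpecialLinearGroup (Fin (n + 3)) k,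
          A = Cfsg.conjBy (Subgroup.closure {t : Matrix.SpecialLinearGroup (Fin (n + 3)) k |
            ∃ c : k, (t : Matrix (Fin (n + 3)) (Fin (n + 3)) k) = Matrix.transvection 0 1 c}) g} ∧
    Cfsg.IsKRootSubgroupSet k {A : Subgroup (Matrix.SpecialLinearGroup (Fin (n + 3)) k) |
        ∃ g : Matrix.SpecialLinearGroup (Fin (n + 3)) k,
          A = Cfsg.conjBy (Subgroup.closure {t : Matrix.SpecialLinearGroup (Fin (n + 3)) k |
            ∃ c : k, (t : Matrix (Fin (n + 3)) (Fin (n + 3)) k) = Matrix.transvection 0 1 c}) g} ∧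
    Cfsg.IsConnectedFamily (Cfsg.FAdj {A : Subgroup (Matrix.SpecialLinearGroup (Fin (n + 3)) k) |
        ∃ g : Matrix.SpecialLinearGroup (Fin (n + 3)) k,
          A = Cfsg.conjBy (Subgroup.closure {t : Matrix.SpecialLinearGroup (Fin (n + 3)) k |
            ∃ c : k, (t : Matrix (Fin (n + 3)) (Fin (n + 3)) k) = Matrix.transvection 0 1 c}) g})
      {A : Subgroup (Matrix.SpecialLinearGroup (Fin (n + 3)) k) |
        ∃ g : Matrix.SpecialLinearGroup (Fin (n + 3)) k,
          A = Cfsg.conjBy (Subgroup.closure {t : Matrix.SpecialLinearGroup (Fin (n + 3)) k |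
            ∃ c : k, (t : Matrix (Fin (n + 3)) (Fin (n + 3)) k) = Matrix.transvection 0 1 c}) g} := by
  have h01 : (0 : Fin (n + 3)) ≠ 1 := by simp
  set T0 := Subgroup.closure {t : Matrix.SpecialLinearGroup (Fin (n + 3)) k |
    ∃ c : k, (t : Matrix (Fin (n + 3)) (Fin (n + 3)) k) = Matrix.transvection 0 1 c}
  have hT : TG (SL.act k (n + 3)) (RingHom.id k) (Pi.single 0 (1 : k)) (LinearMap.proj 1) T0 :=
    SL.tg_elementary h01 fun t => Iff.rfl
  rw [← SL.fam_eq_conj ⟨_, _, hT⟩]
  refine ⟨⟨SL.fam_rootSet, ⟨T0, _, _, hT⟩, fun A hA B hB => ?_⟩, ?_, SL.fam_kRoot, SL.fam_connected⟩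
  · exact conj_of_path (SL.fam_connected A hA B hB)
  have v2 : ((2 : Fin (n + 3)) : ℕ) = 2 := by
    show 2 % (n + 3) = 2
    exact Nat.mod_eq_of_lt (by omega)
  have h02 : (0 : Fin (n + 3)) ≠ 2 := fun e => by
    have := congrArg Fin.val e; rw [v2] at this; simp at this
  have h12 : (1 : Fin (n + 3)) ≠ 2 := fun e => by
    have := congrArg Fin.val e; rw [v2] at this; simp at this
  have mk : ∀ i j : Fin (n + 3), i ≠ j →
      ∃ A, A ∈ SL.fam k (n + 3) ∧ TG (SL.act k (n + 3)) (RingHom.id k) (Pi.single i (1 : k))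
        (LinearMap.proj j) A := fun i j hij =>
    SL.fam_exists (fun e => by have := congrFun e i; simp at this)
      (fun e => by have := LinearMap.congr_fun e (Pi.single j (1 : k)); simp at this)
      (by simp [hij.symm])
  obtain ⟨A, hA, hA'⟩ := mk 0 1 h01
  obtain ⟨B, hB, hB'⟩ := mk 0 2 h02
  obtain ⟨C, hC, hC'⟩ := mk 1 0 h01.symm
  obtain ⟨E, hE, hE'⟩ := mk 1 2 h12
  refine ⟨⟨A, hA, B, hB, ?_, ?_⟩, ⟨A, hA, C, hC, ?_⟩, ⟨A, hA, E, hE, ?_⟩⟩
  · intro e
    obtain ⟨g, hg⟩ := hA'.surj 1
    have hgA : g ∈ A := (hA'.mem g).2 ⟨1, hg⟩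
    rw [e] at hgA
    obtain ⟨c, hc⟩ := (hB'.mem g).1 hgA
    rw [hg] at hc
    have := congrFun (LinearMap.congr_fun hc (Pi.single 1 (1 : k))) 0
    simp [tv_apply, h01, h01.symm, h12, h12.symm] at this
  · exact commutator_eq_bot SL.act_injective hA' hB' (by simp) (by simp [h02, h02.symm])
  · exact (opposite SL.act_injective hA' hC' (by simp) (by simp) (γ := 1) (by simp)).1
  · refine commutatorCase SL.act_injective hA' hE' (by simp [h02, h02.symm]) ?_ hB
    simpa using hB' 

end Cfsg.Agent.S5043
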