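import Cfsg.Statements.S5045
import Cfsg.Agent.Lib.RootSub.Triple
import Cfsg.Agent.Lib.Invol.BaerSuzuki
import Cfsg.Agent.Lib.PGroup.Basic
-- import your own Cfsg.Agent.* helpers here

set_option autoImplicit false
open Cfsg

namespace Cfsg.Agent.S5045

open CfsgLib.RootInvol

variable {G : Type*} [Group G] {D : Set G}

theorem adj_conj (hD : Cfsg.IsRootInvolutionSet D) {a b : G} (h : Cfsg.OddAdj D a b) (g : G) :
    Cfsg.OddAdj D (g * a * g⁻¹) (g * b * g⁻¹) := by
  refine ⟨hD.conj_mem a h.1 g, hD.conj_mem b h.2.1 g, fun e => h.2.2.1 ?_, ?_⟩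
  · exact mul_left_cancel (mul_right_cancel e)
  · rw [show g * a * g⁻¹ * (g * b * g⁻¹) = MulAut.conj g (a * b) by
      rw [MulAut.conj_apply]; group, MulEquiv.orderOf_eq]
    exact h.2.2.2

theorem reach_symm (hD : Cfsg.IsRootInvolutionSet D) {a b : G}
    (h : Relation.ReflTransGen (Cfsg.OddAdj D) a b) : Relation.ReflTransGen (Cfsg.OddAdj D) b a := by
  induction h with
  | refl => exact Relation.ReflTransGen.refl
  | tail _ h2 ih => exact (Relation.ReflTransGen.single (oddAdj_symm hD h2)).trans ih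

theorem nonisolated {a : G} (h : ∃ a' ∈ Cfsg.elemComponentOf (Cfsg.OddAdj D) D a, a' ≠ a) :
    ∃ r, Cfsg.OddAdj D a r := by
  obtain ⟨a', ⟨-, hr⟩, hne⟩ := h
  rcases hr.cases_head with h | ⟨r, hr, -⟩
  · exact absurd h.symm hne
  · exact ⟨r, hr⟩

theorem reach_partner (hD : Cfsg.IsRootInvolutionSet D) {a e r s : G} (ha : a ∈ D) (he : e ∈ D)
    (hc : e * a = a * e) (hea : e * a ∈ D) (hr : Cfsg.OddAdj D e r) (hs : Cfsg.OddAdj D a s) :
    Relation.ReflTransGen (Cfsg.OddAdj D) a e := by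
  have e1 : a * (e * a) = e := by rw [hc, ← mul_assoc, mul_self hD ha, one_mul]
  have e2 : e * (e * a) = a := by rw [← mul_assoc, mul_self hD he, one_mul]
  have c1 : a * (e * a) = e * a * a := by rw [hc, mul_assoc]; rw [← hc]
  have c2 : e * (e * a) = e * a * e := by rw [hc, ← mul_assoc, hc]
  rcases triple hD ha hea (by rw [e1]; exact he) c1 hr.2.1 (by rw [e1]; exact hr.2.2.1)
    (by rw [e1]; exact hr.2.2.2) with ⟨h1, h2⟩ | ⟨h1, h2⟩
  · exact (Relation.ReflTransGen.single ⟨ha, hr.2.1, h1, h2⟩).trans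
      (Relation.ReflTransGen.single (oddAdj_symm hD hr))
  rcases triple hD he hea (by rw [e2]; exact ha) c2 hs.2.1 (by rw [e2]; exact hs.2.2.1)
    (by rw [e2]; exact hs.2.2.2) with ⟨h3, h4⟩ | ⟨h3, h4⟩
  · exact (Relation.ReflTransGen.single hs).trans
      (Relation.ReflTransGen.single (oddAdj_symm hD ⟨he, hs.2.1, h3, h4⟩))
  · exact ((Relation.ReflTransGen.single hs).trans
      (Relation.ReflTransGen.single (oddAdj_symm hD ⟨hea, hs.2.1, h3, h4⟩))).trans
      ((Relation.ReflTransGen.single ⟨hea, hr.2.1, h1, h2⟩).trans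
      (Relation.ReflTransGen.single (oddAdj_symm hD hr)))


/-- Let G be a finite group generated by a set D of root involutions, and W the set of members of D whose product with every other member of D has even order or is trivial (the isolated vertices of the odd-order-product graph on D). Then W is conjugation-invariant and generates a normal 2-subgroup of G meeting D in exactly W; the commutator of two members of D lying in different connected components of that graph, each with more than one member, lies in the subgroup generated by W; and for a in such a component, every member of D commuting with a, different from a and with product with a in D, lies in that component or in W. -/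
theorem result {G : Type*} [Group G] [Finite G] {D : Set G} (hD : Cfsg.IsRootInvolutionSet D) :
    (∀ w ∈ {w | Cfsg.IsIsolatedElem (Cfsg.OddAdj D) D w}, ∀ g : G, g * w * g⁻¹ ∈ {w | Cfsg.IsIsolatedElem (Cfsg.OddAdj D) D w}) ∧
    (Subgroup.closure {w | Cfsg.IsIsolatedElem (Cfsg.OddAdj D) D w}).Normal ∧
    IsPGroup 2 ↥(Subgroup.closure {w | Cfsg.IsIsolatedElem (Cfsg.OddAdj D) D w}) ∧
    (Subgroup.closure {w | Cfsg.IsIsolatedElem (Cfsg.OddAdj D) D w} : Set G) ∩ D = {w | Cfsg.IsIsolatedElem (Cfsg.OddAdj D) D w} ∧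
    (∀ a ∈ D, ∀ b ∈ D, (∃ a' ∈ Cfsg.elemComponentOf (Cfsg.OddAdj D) D a, a' ≠ a) →
      (∃ b' ∈ Cfsg.elemComponentOf (Cfsg.OddAdj D) D b, b' ≠ b) →
      Cfsg.elemComponentOf (Cfsg.OddAdj D) D a ≠ Cfsg.elemComponentOf (Cfsg.OddAdj D) D b →
        a * b * a⁻¹ * b⁻¹ ∈ Subgroup.closure {w | Cfsg.IsIsolatedElem (Cfsg.OddAdj D) D w}) ∧
    (∀ a ∈ D, (∃ a' ∈ Cfsg.elemComponentOf (Cfsg.OddAdj D) D a, a' ≠ a) →
      Cfsg.productPartners D a ⊆ Cfsg.elemComponentOf (Cfsg.OddAdj D) D a ∪ {w | Cfsg.IsIsolatedElem (Cfsg.OddAdj D) D w}) := by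
  classical
  haveI : Fact (Nat.Prime 2) := ⟨Nat.prime_two⟩
  set W := {w | Cfsg.IsIsolatedElem (Cfsg.OddAdj D) D w} with hW
  have hWD : ∀ w ∈ W, w ∈ D := fun w hw => hw.1
  have hconj : ∀ w ∈ W, ∀ g : G, g * w * g⁻¹ ∈ W := by
    intro w hw g
    refine ⟨hD.conj_mem w hw.1 g, fun b => ⟨fun h => ?_, fun h => ?_⟩⟩
    · have := adj_conj hD h g⁻¹
      rw [show g⁻¹ * (g * w * g⁻¹) * g⁻¹⁻¹ = w by group] at this
      exact (hw.2 _).1 this
    · have := adj_conj hD h g⁻¹
      rw [show g⁻¹ * (g * w * g⁻¹) * g⁻¹⁻¹ = w by group] at this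
      exact (hw.2 _).2 this
  have hnormal : (Subgroup.closure W).Normal := by
    refine ⟨fun x hx g => ?_⟩
    have h1 : (Subgroup.closure W).map (MulAut.conj g).toMonoidHom ≤ Subgroup.closure W := by
      rw [MonoidHom.map_closure, Subgroup.closure_le]
      rintro _ ⟨w, hw, rfl⟩
      exact Subgroup.subset_closure (hconj w hw g)
    exact h1 ⟨x, hx, rfl⟩
  have hO : ∀ w ∈ W, w ∈ Cfsg.pCore 2 G := by
    intro w hw
    obtain ⟨N, hN, hN2, hwN⟩ := CfsgLib.Invol.exists_normal_pGroup_mem (p := 2) (x := w) (by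
      intro g
      have hv := hconj w hw g
      set v := g * w * g⁻¹ with hvdef
      have hvD := hWD v hv
      have hpow : ∃ k, (w * v) ^ 2 ^ k = 1 := by
        by_cases hwv : w = v
        · exact ⟨0, by rw [← hwv, mul_self hD hw.1, one_pow]⟩
        rcases hD.pair w hw.1 v hvD with h | h | ⟨h, -⟩
        · exact ⟨1, by rw [pow_one, (show Commute w v from h).mul_pow, pow_two, pow_two,
            mul_self hD hw.1, mul_self hD hvD, one_mul]⟩
        · exact absurd ⟨hw.1, hvD, hwv, h⟩ (hw.2 v).1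
        · exact ⟨2, by rw [show 2 ^ 2 = 4 from rfl, ← h, pow_orderOf_eq_one]⟩
      obtain ⟨k, hk⟩ := hpow
      have hP : IsPGroup 2 ↥(Subgroup.zpowers (w * v)) := by
        rintro ⟨_, i, rfl⟩
        exact ⟨k, Subtype.ext (by
          show ((w * v) ^ i) ^ 2 ^ k = 1
          rw [← zpow_natCast, zpow_comm, zpow_natCast, hk, one_zpow])⟩
      have hw2 : IsPGroup 2 ↥(Subgroup.zpowers w) := by
        rintro ⟨_, i, rfl⟩
        exact ⟨1, Subtype.ext (by
          show (w ^ i) ^ 2 ^ 1 = 1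
          rw [← zpow_natCast, zpow_comm, zpow_natCast, pow_one, pow_two, mul_self hD hw.1,
            one_zpow])⟩
      have hle : Subgroup.zpowers w ≤ Subgroup.normalizer (Subgroup.zpowers (w * v) : Set G) := by
        rw [Subgroup.zpowers_le]
        refine CfsgLib.Invol.mem_normalizer_of_conj_map_eq ?_
        rw [MonoidHom.map_zpowers]
        have e : (MulAut.conj w).toMonoidHom (w * v) = (w * v)⁻¹ := by
          show w * (w * v) * w⁻¹ = _
          rw [mul_inv_rev, inv_eq hD hw.1, inv_eq hD hvD, ← mul_assoc w w, mul_self hD hw.1,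
            one_mul]
        rw [e, Subgroup.zpowers_inv]
      refine (hw2.to_sup_of_normal_right' hP hle).to_le ((Subgroup.closure_le _).2 ?_)
      rintro x (rfl | rfl)
      · exact Subgroup.mem_sup_left (Subgroup.mem_zpowers _)
      · have : v = w * (w * v) := by rw [← mul_assoc, mul_self hD hw.1, one_mul]
        have h2 : w * (w * v) ∈ Subgroup.zpowers w ⊔ Subgroup.zpowers (w * v) :=
          mul_mem (Subgroup.mem_sup_left (Subgroup.mem_zpowers _))
            (Subgroup.mem_sup_right (Subgroup.mem_zpowers _))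
        rwa [← this] at h2)
    exact CfsgLib.PGroup.le_pCore hN hN2 hwN
  have hle : Subgroup.closure W ≤ Cfsg.pCore 2 G := (Subgroup.closure_le _).2 hO
  have hp : IsPGroup 2 ↥(Cfsg.pCore 2 G) := CfsgLib.PGroup.isPGroup_pCore 2 G
  refine ⟨hconj, hnormal, hp.to_le hle, ?_, ?_, ?_⟩
  · refine Set.ext fun x => ⟨fun hx => ?_, fun hx => ⟨Subgroup.subset_closure hx, hWD x hx⟩⟩
    obtain ⟨hxW, hxD⟩ := hx
    refine ⟨hxD, fun b => ?_⟩
    have hno : ¬ Cfsg.OddAdj D x b := by
      rintro ⟨-, hb, hne, hodd⟩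
      obtain ⟨g, hg⟩ := conj_of_odd hD hxD hb hodd
      have hbO : b ∈ Cfsg.pCore 2 G := hg ▸ hle (hnormal.conj_mem x hxW g)
      obtain ⟨k, hk⟩ := hp ⟨x * b, mul_mem (hle hxW) hbO⟩
      have hd := orderOf_dvd_of_pow_eq_one (congrArg Subtype.val hk : (x * b) ^ 2 ^ k = 1)
      have h1 := Nat.eq_one_of_dvd_coprimes ((Nat.coprime_two_right.2 hodd).pow_right k) dvd_rfl hd
      rw [orderOf_eq_one_iff] at h1
      exact hne (by rw [← inv_eq hD hb]; exact eq_inv_of_mul_eq_one_left h1)
    exact ⟨hno, fun h => hno (oddAdj_symm hD h)⟩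
  · intro a ha b hb ha' hb' hne
    obtain ⟨s, hs⟩ := nonisolated ha'
    obtain ⟨s', hs'⟩ := nonisolated hb'
    have hreach : ¬ Relation.ReflTransGen (Cfsg.OddAdj D) a b := by
      intro h
      refine hne (Set.ext fun x => ⟨fun hx => ⟨hx.1, (reach_symm hD h).trans hx.2⟩,
        fun hx => ⟨hx.1, h.trans hx.2⟩⟩)
    rw [inv_eq hD ha, inv_eq hD hb]
    rcases hD.pair a ha b hb with h | h | ⟨h4, hcD⟩
    · rw [h, mul_assoc b a a, mul_self hD ha, mul_one, mul_self hD hb]
      first | done | exact one_mem _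
    · by_cases hab : a = b
      · exact absurd (hab ▸ Relation.ReflTransGen.refl) hreach
      · exact absurd (Relation.ReflTransGen.single ⟨ha, hb, hab, h⟩) hreach
    · have hc : a * b * a * b = (a * b) ^ 2 := by simp only [pow_two, mul_assoc]
      rw [hc]
      set c := (a * b) ^ 2 with hcdef
      by_cases hcW : c ∈ W
      · exact Subgroup.subset_closure hcW
      exfalso
      obtain ⟨r, hr⟩ : ∃ r, Cfsg.OddAdj D c r := by
        by_contra hh
        exact hcW ⟨hcD, fun x => ⟨fun h => hh ⟨x, h⟩, fun h => hh ⟨x, oddAdj_symm hD h⟩⟩⟩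
      have hcinv : c = (b * a) ^ 2 := by
        have h1 := inv_eq hD hcD
        rw [hcdef, ← inv_pow, mul_inv_rev, inv_eq hD ha, inv_eq hD hb] at h1
        exact h1.symm
      have key : ∀ u v : G, u ∈ D → v ∈ D → c = (u * v) ^ 2 → c = (v * u) ^ 2 →
          c * u = u * c ∧ c * u ∈ D := by
        intro u v hu hv e1 e2
        have h1 : c * u = u * c := by
          nth_rewrite 1 [e1]
          rw [e2, pow_two, pow_two]
          simp only [mul_assoc]
        refine ⟨h1, ?_⟩
        rw [h1, e1, pow_two, show u * (u * v * (u * v)) = v * u * v by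
          simp only [← mul_assoc, mul_self hD hu, one_mul]]
        have := hD.conj_mem u hu v
        rwa [inv_eq hD hv] at this
      obtain ⟨k1, k2⟩ := key a b ha hb rfl hcinv
      obtain ⟨k3, k4⟩ := key b a hb ha hcinv rfl
      exact hreach ((reach_partner hD ha hcD k1 k2 hr hs).trans
        (reach_symm hD (reach_partner hD hb hcD k3 k4 hr hs')))
  · intro a ha ha' e he
    obtain ⟨s, hs⟩ := nonisolated ha'
    obtain ⟨⟨heD, hc, -⟩, hea⟩ := he
    by_cases heW : e ∈ W
    · exact Or.inr heW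
    obtain ⟨r, hr⟩ : ∃ r, Cfsg.OddAdj D e r := by
      by_contra hh
      exact heW ⟨heD, fun x => ⟨fun h => hh ⟨x, h⟩, fun h => hh ⟨x, oddAdj_symm hD h⟩⟩⟩
    exact Or.inl ⟨heD, reach_partner hD ha heD hc hea hr hs⟩

end Cfsg.Agent.S5045
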