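import Cfsg.Statements.S5049
import Cfsg.Agent.Lib.RootSub.RankOne
import Cfsg.Agent.Lib.Coprime.Core
import Cfsg.Agent.Lib.PGroup.Basic


set_option autoImplicit false
open Cfsg

namespace Cfsg.Agent.S5049

open scoped commutatorElement

/-- Let G be a finite group generated by a set D of odd transpositions (root involutions with no product of order 4), Q = O₂(G), and for a ∈ D let Q_a be the commutator subgroup of Q with a. Then every member of D commuting with a centralizes Q_a; and for b ∈ D with ab of odd order greater than 1, the centralizer of ab in Q is the intersection of the centralizers of a and b in Q. -/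
theorem result {G : Type*} [Group G] [Finite G] {D : Set G} (hD : Cfsg.IsOddTranspositionSet D) {a : G} (ha : a ∈ D) :
    (∀ e ∈ Cfsg.commutingMembers D a, ∀ q ∈ ⁅Cfsg.pCore 2 G, Subgroup.zpowers a⁆, e * q = q * e) ∧
    (∀ b ∈ Cfsg.oddPartners D a,
      Cfsg.pCore 2 G ⊓ Subgroup.centralizer {a * b} = Cfsg.pCore 2 G ⊓ Subgroup.centralizer {a} ⊓ Subgroup.centralizer {b}) := by
  haveI : Fact (Nat.Prime 2) := ⟨Nat.prime_two⟩
  obtain ⟨hR, h4⟩ := hD
  have hO : IsPGroup 2 (Cfsg.pCore 2 G) := CfsgLib.PGroup.isPGroup_pCore 2 G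
  haveI hOn : (Cfsg.pCore 2 G).Normal := CfsgLib.Coprime.pCore_normal' 2
  have hinv : ∀ d ∈ D, d * d = 1 := fun d hd => by rw [← pow_two, ← hR.orderOf_eq d hd, pow_orderOf_eq_one]
  have heq : ∀ x ∈ Cfsg.pCore 2 G, Odd (orderOf x) → x = 1 := by
    intro x hx hodd
    obtain ⟨k, hk⟩ := IsPGroup.iff_orderOf.1 hO ⟨x, hx⟩
    rw [Subgroup.orderOf_mk] at hk
    rcases k with _ | k
    · exact orderOf_eq_one_iff.1 (by simpa using hk)
    · rw [hk] at hodd
      exact absurd ⟨2 ^ k, by ring⟩ (Nat.not_even_iff_odd.2 hodd)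
  have hcomm : ∀ d ∈ D, ∀ d' ∈ D, d * d' ∈ Cfsg.pCore 2 G → d * d' = d' * d := by
    intro d hd d' hd' hO'
    rcases hR.pair d hd d' hd' with h | h | h
    · exact h
    · have h1 := heq _ hO' h
      have : d = d' := by
        have := congrArg (fun u => u * d') h1
        simpa [mul_assoc, hinv d' hd'] using this
      rw [this]
    · exact absurd h.1 (h4 d hd d' hd')
  refine ⟨?_, ?_⟩
  · rintro e ⟨heD, hea⟩ q hq
    suffices hle : ⁅Cfsg.pCore 2 G, Subgroup.zpowers a⁆ ≤ Subgroup.centralizer ({e} : Set G) from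
      (Subgroup.mem_centralizer_singleton_iff.1 (hle hq)).symm
    refine Subgroup.commutator_le.2 fun x hx z hz => Subgroup.mem_centralizer_singleton_iff.2 ?_
    have hza : z = 1 ∨ z = a := by
      obtain ⟨n, rfl⟩ := Subgroup.mem_zpowers_iff.1 hz
      rw [← zpow_mod_orderOf, hR.orderOf_eq a ha]
      rcases Int.emod_two_eq n with h | h <;> norm_num [h]
    rcases hza with rfl | rfl
    · simp
    set z' := x * z * x⁻¹ with ha'
    have hzi : z⁻¹ = z := inv_eq_of_mul_eq_one_right (hinv z ha)
    have hzz : z' * z = ⁅x, z⁆ := by rw [commutatorElement_def, ha', hzi]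
    have hO' : z' * z ∈ Cfsg.pCore 2 G := by
      rw [ha', show x * z * x⁻¹ * z = x * (z * x⁻¹ * z⁻¹) by rw [hzi]; group]
      exact mul_mem hx (hOn.conj_mem _ (inv_mem hx) z)
    have hzD : z' ∈ D := hR.conj_mem z ha x
    rw [← hzz]
    have hcz : e * z' = z' * e := by
      rcases hR.pair e heD z' hzD with h | h | h
      · exact h
      · set m := orderOf (e * z')
        have h1 : (QuotientGroup.mk' (Cfsg.pCore 2 G) (e * z)) ^ m = 1 := by
          have : QuotientGroup.mk' (Cfsg.pCore 2 G) (e * z) = QuotientGroup.mk' (Cfsg.pCore 2 G) (e * z') := by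
            refine QuotientGroup.eq.2 ?_
            have hm := hOn.conj_mem _ hO' z
            rw [show z * (z' * z) * z⁻¹ = z * z' by group] at hm
            rwa [show (e * z)⁻¹ * (e * z') = z⁻¹ * z' by group, hzi]
          rw [this, ← map_pow, pow_orderOf_eq_one, map_one]
        have h2 : (QuotientGroup.mk' (Cfsg.pCore 2 G) (e * z)) ^ 2 = 1 := by
          rw [← map_pow, pow_two, show e * z * (e * z) = e * e * (z * z) by
            rw [← mul_assoc, mul_assoc e z e, ← hea]; group, hinv e heD, hinv z ha, one_mul, map_one]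
        have h3 := pow_gcd_eq_one.2 ⟨h1, h2⟩
        rw [Nat.coprime_iff_gcd_eq_one.1 (Nat.Coprime.symm (Nat.coprime_two_left.2 h)), pow_one] at h3
        have h4' : e * z ∈ Cfsg.pCore 2 G := (QuotientGroup.eq_one_iff _).1 h3
        have h5 : e * z' ∈ Cfsg.pCore 2 G := by
          have hm := hOn.conj_mem _ hO' z
          rw [show z * (z' * z) * z⁻¹ = z * z' by group] at hm
          rw [show e * z' = (e * z) * (z⁻¹ * z') by group, hzi]
          exact mul_mem h4' hm
        exact hcomm e heD z' hzD h5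
      · exact absurd h.1 (h4 e heD z' hzD)
    rw [mul_assoc, ← hea, ← mul_assoc, ← hcz, mul_assoc]
  · rintro b ⟨hbD, hba, hodd⟩
    ext q
    simp only [Subgroup.mem_inf, Subgroup.mem_centralizer_singleton_iff]
    constructor
    swap
    · rintro ⟨⟨hq, h1⟩, h2⟩
      exact ⟨hq, by rw [← mul_assoc, h1, mul_assoc, h2, ← mul_assoc]⟩
    rintro ⟨hq, hqab⟩
    suffices hqa : q * a = a * q by
      refine ⟨⟨hq, hqa⟩, ?_⟩
      rw [← mul_assoc, hqa, mul_assoc, mul_assoc] at hqab
      exact mul_left_cancel hqab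
    set a' := q * a * q⁻¹ with ha'
    set b' := q * b * q⁻¹ with hb'
    have hai : a⁻¹ = a := inv_eq_of_mul_eq_one_right (hinv a ha)
    have hbi : b⁻¹ = b := inv_eq_of_mul_eq_one_right (hinv b hbD)
    have ha'D : a' ∈ D := hR.conj_mem a ha q
    have hb'D : b' ∈ D := hR.conj_mem b hbD q
    have hprod : a' * b' = a * b := by rw [ha', hb', show q * a * q⁻¹ * (q * b * q⁻¹) = q * (a * b) * q⁻¹ by group, hqab, mul_inv_cancel_right]
    set r := a * a' with hr
    have hrO : r ∈ Cfsg.pCore 2 G := by
      rw [hr, ha', show a * (q * a * q⁻¹) = (a * q * a⁻¹) * q⁻¹ by rw [hai]; group]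
      exact mul_mem (hOn.conj_mem q hq a) (inv_mem hq)
    have hcaa := hcomm a ha a' ha'D hrO
    have hbb : b' * b = r := by
      rw [hr, show b' = a'⁻¹ * (a * b) by rw [← hprod, inv_mul_cancel_left], mul_assoc, mul_assoc, hinv b hbD, mul_one,
        inv_eq_of_mul_eq_one_right (hinv a' ha'D), hcaa]
    have hcbb := hcomm b' hb'D b hbD (hbb ▸ hrO)
    have hrb : r * b = b * r := by rw [← hbb, mul_assoc, hinv b hbD, mul_one, hcbb, ← mul_assoc, hinv b hbD, one_mul]
    have hr2 : r * r = 1 := by
      rw [hr, mul_assoc a a', ← mul_assoc a' a a', ← hcaa, mul_assoc a a' a', hinv a' ha'D, mul_one, hinv a ha]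
    have hra : r * a = a * r := by
      rw [hr, mul_assoc, ← hcaa]
    have ha'e : a' = r * a := by rw [hra, hr, ← mul_assoc, hinv a ha, one_mul]
    suffices hr1 : r = 1 by
      rw [hr1, one_mul] at ha'e
      rw [ha'] at ha'e
      exact mul_inv_eq_iff_eq_mul.1 ha'e
    by_contra hr1
    have hcom : Commute r (a * b) := (show Commute r a from hra).mul_right (show Commute r b from hrb)
    have hro : orderOf r = 2 := orderOf_eq_prime (by rw [pow_two, hr2]) hr1
    have ho : orderOf (a' * b) = 2 * orderOf (a * b) := by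
      rw [ha'e, mul_assoc, hcom.orderOf_mul_eq_mul_orderOf_of_coprime (by rw [hro]; exact Nat.coprime_two_left.2 hodd), hro]
    rcases hR.pair a' ha'D b hbD with h | h | h
    · have h1 : (a * b) * (a * b) = 1 := by
        have h2 : (a' * b) * (a' * b) = 1 := by
          rw [mul_assoc, ← mul_assoc b a' b, ← h, mul_assoc a' b b, hinv b hbD, mul_one, hinv a' ha'D]
        rw [ha'e, mul_assoc r a b] at h2
        calc a * b * (a * b) = r * r * (a * b * (a * b)) := by rw [hr2, one_mul]
          _ = r * (r * (a * b)) * (a * b) := by group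
          _ = r * (a * b * r) * (a * b) := by rw [hcom.eq]
          _ = r * (a * b) * (r * (a * b)) := by group
          _ = 1 := h2
      have h2 : orderOf (a * b) ∣ 2 := orderOf_dvd_of_pow_eq_one (by rw [pow_two, h1])
      rcases (Nat.dvd_prime Nat.prime_two).1 h2 with h3 | h3
      · have h4 := congrArg (fun u => u * b) (orderOf_eq_one_iff.1 h3)
        simp only [one_mul] at h4
        rw [mul_assoc, hinv b hbD, mul_one] at h4
        exact hba h4.symm
      · rw [h3] at hodd
        exact absurd hodd (by decide)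
    · rw [ho] at h
      exact absurd ⟨_, two_mul _⟩ (Nat.not_even_iff_odd.2 h)
    · exact h4 a' ha'D b hbD h.1

end Cfsg.Agent.S5049
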