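import Cfsg.Statements.S5050
import Cfsg.Agent.Lib.RootSub.OddTr.Main

set_option autoImplicit false
open Cfsg

namespace Cfsg.Agent.S5050

open CfsgLib.RootInvol in
/-- Let G be a finite group generated by a class D of odd transpositions whose commuting graph is connected, with some product of two different commuting members again in D. Then for every d ∈ D and every x ∈ D with dx of odd order greater than 1, some member of D commutes with both d and x. -/
theorem result {G : Type*} [Group G] [Finite G] {D : Set G} (hD : Cfsg.IsOddTranspositionSet D) (hcl : Cfsg.IsRootInvolutionClass D)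
    (hc : Cfsg.IsConnectedSet (Cfsg.CommAdj D) D) (hDD : (D ∩ Cfsg.commutingProducts D).Nonempty)
    {d x : G} (hd : d ∈ D) (hx : x ∈ Cfsg.oddPartners D d) : ∃ e ∈ D, e * d = d * e ∧ e * x = x * e := by
  obtain ⟨_, hm, a, ha, b, hb, hab, -, rfl⟩ := hDD
  have hne : b ≠ a := by
    rintro rfl
    rw [mul_self hD.1 ha] at hm
    have := hD.1.orderOf_eq 1 hm
    rw [orderOf_one] at this
    exact absurd this (by decide)
  obtain ⟨g, rfl⟩ := hcl.2.2 a ha d hd
  have hl := OddTr.lined_conj hD.1 (⟨b, hb, hne, hab, hm⟩ : OddTr.Lined D a) g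
  have hr : OddTr.Reach D (g * a * g⁻¹) x :=
    Relation.ReflTransGen.mono (fun _ _ h => ⟨h.1, h.2.1, h.2.2.2⟩) (g * a * g⁻¹) x (hc _ hd x hx.1)
  obtain ⟨e, he, h1, h2⟩ := OddTr.common (OddTr.goal hD) hd hl hr
  exact ⟨e, he, h1.eq, h2.eq⟩

end Cfsg.Agent.S5050
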