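import Cfsg.Statements.S5057
import Mathlib.GroupTheory.SpecificGroups.Alternating.Simple


set_option autoImplicit false
open Cfsg

namespace Cfsg.Agent.S5057

open Equiv

/-- The reference involution. -/
def t0 : Perm (Fin 6) := swap 0 1 * swap 2 3

theorem check : ∀ b : Perm (Fin 6), b * b = 1 → (Finset.univ.filter fun i => b i = i).card = 2 →
    t0 * b = b * t0 ∨ (t0 * b) ^ 3 = 1 ∨ (t0 * b) ^ 5 = 1 ∨ ((t0 * b) ^ 4 = 1 ∧ (t0 * b) ^ 2 ≠ 1) := by
  decide +kernel

theorem type_of_involution {x : ↥(alternatingGroup (Fin 6))} (hx : orderOf x = 2) :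
    Perm.cycleType (x : Perm (Fin 6)) = Multiset.replicate 2 2 ∧ (x : Perm (Fin 6)) * x = 1 ∧
      (Finset.univ.filter fun i => (x : Perm (Fin 6)) i = i).card = 2 := by
  have ho : orderOf (x : Perm (Fin 6)) = 2 := by rw [Subgroup.orderOf_coe, hx]
  have h2 : (x : Perm (Fin 6)) * x = 1 := by rw [← pow_two, ← ho, pow_orderOf_eq_one]
  obtain ⟨n, hn⟩ := Perm.cycleType_prime_order (ho ▸ Nat.prime_two : (orderOf (x : Perm (Fin 6))).Prime)
  rw [ho] at hn
  have hsum : (x : Perm (Fin 6)).support.card = 2 * (n + 1) := by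
    rw [← Perm.sum_cycleType, hn, Multiset.sum_replicate, smul_eq_mul, mul_comm]
  have hle : (x : Perm (Fin 6)).support.card ≤ 6 := (Finset.card_le_univ _).trans_eq (Fintype.card_fin 6)
  have heven : Even (n + 1) := by
    have h := x.2
    rw [Perm.mem_alternatingGroup, Perm.sign_of_cycleType, hn, Multiset.sum_replicate, Multiset.card_replicate, smul_eq_mul] at h
    rwa [neg_one_pow_eq_one_iff_even (by decide), Nat.even_add, iff_true_left (even_iff_two_dvd.2 (Dvd.intro_left _ rfl))] at h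
  obtain ⟨k, hk⟩ := heven
  have hk1 : n + 1 = 2 := by omega
  refine ⟨by rw [hn, hk1], h2, ?_⟩
  have h3 : (Finset.univ.filter fun i => (x : Perm (Fin 6)) i = i) = (x : Perm (Fin 6)).supportᶜ := by
    ext i; simp
  rw [h3, Finset.card_compl, hsum, Fintype.card_fin, hk1]

theorem t0_mem : t0 ∈ alternatingGroup (Fin 6) := by
  rw [Perm.mem_alternatingGroup, t0, Perm.sign_mul, Perm.sign_swap (by decide), Perm.sign_swap (by decide)]
  rfl

/-- The reference involution in the alternating group. -/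
def a0 : ↥(alternatingGroup (Fin 6)) := ⟨t0, t0_mem⟩

theorem a0_order : orderOf a0 = 2 := by
  rw [← Subgroup.orderOf_coe]
  exact orderOf_eq_prime (by decide +kernel) (by decide +kernel)

theorem conj_a0 {x : ↥(alternatingGroup (Fin 6))} (hx : orderOf x = 2) :
    ∃ g : ↥(alternatingGroup (Fin 6)), x = g * a0 * g⁻¹ := by
  have h1 := (type_of_involution hx).1
  have h0 : Perm.cycleType t0 = Multiset.replicate 2 2 := (type_of_involution a0_order).1
  obtain ⟨g, hg⟩ := isConj_iff.1 (Perm.isConj_iff_cycleType_eq.2 (h0.trans h1.symm))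
  by_cases hgA : g ∈ alternatingGroup (Fin 6)
  · exact ⟨⟨g, hgA⟩, Subtype.ext hg.symm⟩
  refine ⟨⟨g * swap 0 1, ?_⟩, Subtype.ext ?_⟩
  · rw [Perm.mem_alternatingGroup, Perm.sign_mul, Perm.sign_swap (by decide)]
    rw [Perm.mem_alternatingGroup] at hgA
    rcases Int.units_eq_one_or (Perm.sign g) with h | h
    · exact absurd h hgA
    · rw [h]; rfl
  · show (x : Perm (Fin 6)) = g * swap 0 1 * t0 * (g * swap 0 1)⁻¹
    rw [mul_inv_rev, ← hg, show g * swap 0 1 * t0 * ((swap 0 1)⁻¹ * g⁻¹) = g * (swap 0 1 * t0 * (swap 0 1)⁻¹) * g⁻¹ by group,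
      show swap (0 : Fin 6) 1 * t0 * (swap 0 1)⁻¹ = t0 by decide +kernel]

theorem pair {d e : ↥(alternatingGroup (Fin 6))} (hd : orderOf d = 2) (he : orderOf e = 2) :
    (d * e = e * d ∧ orderOf (d * e) ≤ 2) ∨ ((d * e) ^ 3 = 1) ∨ ((d * e) ^ 5 = 1) ∨
      ((d * e) ^ 4 = 1 ∧ (d * e) ^ 2 ≠ 1) := by
  obtain ⟨g, rfl⟩ := conj_a0 hd
  set e' := g⁻¹ * e * g with he'
  have he2 : orderOf e' = 2 := by
    have h1 := (MulAut.conj g⁻¹).orderOf_eq e
    rw [MulAut.conj_apply, inv_inv] at h1
    rw [he', h1, he]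
  obtain ⟨-, h1, h2⟩ := type_of_involution he2
  have hde : g * a0 * g⁻¹ * e = g * (a0 * e') * g⁻¹ := by rw [he']; group
  have hed : e * (g * a0 * g⁻¹) = g * (e' * a0) * g⁻¹ := by rw [he']; group
  rw [hde, hed]
  simp only [conj_pow, ne_eq, conj_eq_one_iff]
  rcases check _ h1 h2 with h | h | h | ⟨h, h'⟩
  · refine Or.inl ⟨by rw [show a0 * e' = e' * a0 from Subtype.ext h], ?_⟩
    refine Nat.le_of_dvd two_pos (orderOf_dvd_of_pow_eq_one ?_)
    rw [conj_pow, conj_eq_one_iff, (show Commute a0 e' from Subtype.ext h).mul_pow]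
    conv_lhs => rw [← a0_order, pow_orderOf_eq_one, a0_order, ← he2, pow_orderOf_eq_one, one_mul]
  · exact Or.inr (Or.inl (Subtype.ext h))
  · exact Or.inr (Or.inr (Or.inl (Subtype.ext h)))
  · exact Or.inr (Or.inr (Or.inr ⟨Subtype.ext h, fun e4 => h' (congrArg Subtype.val e4)⟩))

/-- The involutions of the alternating group of degree 6 form a class of root involutions (a single conjugacy class of involutions generating the group, any two of which commute, have product of odd order, or have product of order 4 whose square is again an involution of the class), and the product of any two of them has order at most 5. -/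
theorem result :
    Cfsg.IsRootInvolutionClass {g : ↥(alternatingGroup (Fin 6)) | orderOf g = 2} ∧
    ∀ d ∈ {g : ↥(alternatingGroup (Fin 6)) | orderOf g = 2}, ∀ e ∈ {g : ↥(alternatingGroup (Fin 6)) | orderOf g = 2},
      orderOf (d * e) ≤ 5 := by
  haveI : Fact (Nat.Prime 2) := ⟨Nat.prime_two⟩
  refine ⟨⟨⟨fun d hd => hd, ?_, fun d hd g => ?_, fun d hd e he => ?_⟩, ⟨a0, a0_order⟩, fun d hd e he => ?_⟩, fun d hd e he => ?_⟩
  · haveI : IsSimpleGroup ↥(alternatingGroup (Fin 6)) := alternatingGroup.isSimpleGroup (by simp)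
    set C := Subgroup.closure {g : ↥(alternatingGroup (Fin 6)) | orderOf g = 2}
    have hn : C.Normal := by
      refine ⟨fun x hx g => ?_⟩
      refine (Subgroup.closure_le (C.comap (MulAut.conj g).toMonoidHom)).2 (fun y hy => ?_) hx
      exact Subgroup.subset_closure (((MulAut.conj g).orderOf_eq y).trans hy)
    refine hn.eq_bot_or_eq_top.resolve_left fun e => ?_
    have h1 : a0 ∈ C := Subgroup.subset_closure a0_order
    rw [e, Subgroup.mem_bot] at h1
    exact absurd a0_order (by rw [h1, orderOf_one]; omega)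
  · exact ((MulAut.conj g).orderOf_eq d).trans hd
  · rcases pair hd he with ⟨h, -⟩ | h | h | ⟨h, h'⟩
    · exact Or.inl h
    · rcases (Nat.dvd_prime Nat.prime_three).1 (orderOf_dvd_of_pow_eq_one h) with e3 | e3 <;>
        exact Or.inr (Or.inl (by rw [e3]; decide))
    · rcases (Nat.dvd_prime Nat.prime_five).1 (orderOf_dvd_of_pow_eq_one h) with e3 | e3 <;>
        exact Or.inr (Or.inl (by rw [e3]; decide))
    · have ho : orderOf (d * e) = 4 := orderOf_eq_prime_pow (p := 2) (n := 1) (by simpa using h') (by simpa using h)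
      exact Or.inr (Or.inr ⟨ho, by
        show orderOf ((d * e) ^ 2) = 2
        rw [orderOf_pow' _ (by norm_num), ho]; rfl⟩)
  · obtain ⟨g, rfl⟩ := conj_a0 hd
    obtain ⟨g', rfl⟩ := conj_a0 he
    exact ⟨g' * g⁻¹, by group⟩
  · rcases pair hd he with ⟨-, h⟩ | h | h | ⟨h, -⟩
    · omega
    · exact (Nat.le_of_dvd (by norm_num) (orderOf_dvd_of_pow_eq_one h)).trans (by norm_num)
    · exact Nat.le_of_dvd (by norm_num) (orderOf_dvd_of_pow_eq_one h)
    · exact (Nat.le_of_dvd (by norm_num) (orderOf_dvd_of_pow_eq_one h)).trans (by norm_num)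

end Cfsg.Agent.S5057
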