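import Cfsg.Statements.S5058
import Cfsg.Agent.Lib.RootSub.TransvectionSL
-- import your own Cfsg.Agent.* helpers here

set_option autoImplicit false
open Matrix
open Cfsg

namespace Cfsg.Agent.S5058

open CfsgLib.Transv
open scoped commutatorElement MatrixGroups
open CfsgLib.QuadPair (upper lower upper_val lower_val conj_upper)

/-- A product of upper and lower transvections in characteristic two has odd order. -/
theorem odd_two {F : Type*} [Field F] [Fintype F] [CharP F 2] {c d : F} (hc : c ≠ 0) (hd : d ≠ 0) :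
    Odd (orderOf (upper c * lower d)) ∧ (c * d = 1 → orderOf (upper c * lower d) = 3) := by
  set g : SL(2, F) := upper c * lower d with hg
  set M : Matrix (Fin 2) (Fin 2) F := g.1 with hM
  have h2 : (2 : F) = 0 := CharTwo.two_eq_zero
  have hMv : M = !![1 + c * d, c; d, 1] := by
    rw [hM, hg, Matrix.SpecialLinearGroup.coe_mul, upper_val, lower_val]
    simp [Matrix.mul_fin_two]
  have hsq : M * M = (c * d) • M + 1 := by
    rw [hMv, Matrix.one_fin_two]
    ext i j
    fin_cases i <;> fin_cases j <;> simp [Matrix.mul_apply, Fin.sum_univ_two] <;> grind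
  have hspan : ∀ j : ℕ, ∃ r s : F, M ^ j = r • M + s • 1 := by
    intro j
    induction j with
    | zero => exact ⟨0, 1, by simp⟩
    | succ m ih =>
      obtain ⟨r, s, h⟩ := ih
      refine ⟨r * (c * d) + s, r, ?_⟩
      rw [pow_succ, h, add_mul, smul_mul_assoc, hsq, smul_mul_assoc, one_mul]
      module
  refine ⟨?_, fun h1 => ?_⟩
  · by_contra hev
    rw [Nat.not_odd_iff_even] at hev
    obtain ⟨j, hj⟩ := hev
    have hpos := orderOf_pos g
    have hne : g ^ j ≠ 1 := pow_ne_one_of_lt_orderOf (by omega) (by omega)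
    obtain ⟨r, s, hrs⟩ := hspan j
    have hN : (r • M + s • 1) * (r • M + s • 1) = 1 := by
      rw [← hrs, ← pow_add, ← hj, hM, ← Matrix.SpecialLinearGroup.coe_pow, pow_orderOf_eq_one,
        Matrix.SpecialLinearGroup.coe_one]
    have h01 := congrFun (congrFun hN 0) 1
    have h11 := congrFun (congrFun hN 1) 1
    rw [hMv] at h01 h11
    simp [Matrix.mul_apply, Fin.sum_univ_two] at h01 h11
    have hr : r = 0 := by
      have : r * r * (c * d) * c = 0 := by grind
      simpa [hc, hd] using this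
    have hs : s = 1 := by
      subst hr
      have : (s - 1) * (s - 1) = 0 := by grind
      exact sub_eq_zero.1 (mul_self_eq_zero.1 this)
    apply hne
    apply Subtype.ext
    rw [Matrix.SpecialLinearGroup.coe_pow, ← hM, hrs, hr, hs]
    simp
  · refine orderOf_eq_prime (Subtype.ext ?_) fun e => ?_
    · rw [Matrix.SpecialLinearGroup.coe_pow, ← hM, pow_succ, pow_two, hsq, h1, one_smul, add_mul, hsq, h1,
        one_smul, one_mul, Matrix.SpecialLinearGroup.coe_one]
      ext i j
      simp only [Matrix.add_apply]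
      grind
    · have : M = 1 := by rw [hM, e]; rfl
      rw [hMv] at this
      have := congrFun (congrFun this 0) 1
      simp at this
      exact hc this

/-- Let F be a finite field of characteristic 2 and n a natural number. Then the transvections of SL_{n+3}(F) (so in every dimension at least 3) (the conjugates of the elementary matrices 1 + c E₁₂, c ≠ 0) form a class of root involutions of SL_{n+3}(F); when F has two elements they form a class of {3,4}⁺-transpositions (every product of odd order has order 1 or 3). -/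
theorem result (F : Type*) [Field F] [Fintype F] [CharP F 2] (n : ℕ) :
    Cfsg.IsRootInvolutionClass {t : Matrix.SpecialLinearGroup (Fin (n + 3)) F | ∃ c : F, c ≠ 0 ∧
        ∃ g : Matrix.SpecialLinearGroup (Fin (n + 3)) F, ((g⁻¹ * t * g : Matrix.SpecialLinearGroup (Fin (n + 3)) F) :
          Matrix (Fin (n + 3)) (Fin (n + 3)) F) = Matrix.transvection 0 1 c} ∧
    (Fintype.card F = 2 → Cfsg.IsThreeFourPlusTranspositionSet {t : Matrix.SpecialLinearGroup (Fin (n + 3)) F | ∃ c : F, c ≠ 0 ∧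
        ∃ g : Matrix.SpecialLinearGroup (Fin (n + 3)) F, ((g⁻¹ * t * g : Matrix.SpecialLinearGroup (Fin (n + 3)) F) :
          Matrix (Fin (n + 3)) (Fin (n + 3)) F) = Matrix.transvection 0 1 c}) := by
  haveI : CharP F 2 := inferInstance
  set D := {t : Matrix.SpecialLinearGroup (Fin (n + 3)) F | ∃ c : F, c ≠ 0 ∧
        ∃ g : Matrix.SpecialLinearGroup (Fin (n + 3)) F, ((g⁻¹ * t * g : Matrix.SpecialLinearGroup (Fin (n + 3)) F) :
          Matrix (Fin (n + 3)) (Fin (n + 3)) F) = Matrix.transvection 0 1 c} with hD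
  have h01 : (0 : Fin (n + 3)) ≠ 1 := by simp
  set ι := SL.act F (n + 3) with hι
  have hinj : Function.Injective ι := SL.act_injective
  have hT0 := SL.tg_elementary (T := {t : Matrix.SpecialLinearGroup (Fin (n + 3)) F |
    ∃ c : F, (t : Matrix (Fin (n + 3)) (Fin (n + 3)) F) = Matrix.transvection 0 1 c}) h01 fun t => Iff.rfl
  set T0 := Subgroup.closure {t : Matrix.SpecialLinearGroup (Fin (n + 3)) F |
    ∃ c : F, (t : Matrix (Fin (n + 3)) (Fin (n + 3)) F) = Matrix.transvection 0 1 c} with hT0def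
  have hT0f : T0 ∈ SL.fam F (n + 3) := ⟨_, _, hT0⟩
  have hfam := SL.fam_eq_conj hT0f
  have hmem : ∀ t, t ∈ D ↔ ∃ A ∈ SL.fam F (n + 3), t ∈ A ∧ t ≠ 1 := by
    intro t
    constructor
    · rintro ⟨c, hc, g, hg⟩
      have e : g⁻¹ * t * g = Matrix.SpecialLinearGroup.transvection h01 c := Subtype.ext hg
      refine ⟨Cfsg.conjBy T0 g, by rw [hfam]; exact ⟨g, rfl⟩,
        CfsgLib.RootSub.mem_conjBy.2 (Subgroup.subset_closure ⟨c, hg⟩), fun e1 => hc ?_⟩
      rw [e1, mul_one, inv_mul_cancel] at e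
      have := congrArg ι e
      rw [map_one, hι, SL.act_transvection, ← tv_zero (Pi.single 0 (1 : F)) (LinearMap.proj 1)] at this
      exact (tv_inj hT0.ne_x hT0.ne_φ this).symm
    · rintro ⟨A, hA, htA, ht1⟩
      rw [hfam] at hA
      obtain ⟨g, rfl⟩ := hA
      obtain ⟨c, hc⟩ := (hT0.mem _).1 (CfsgLib.RootSub.mem_conjBy.1 htA)
      have e : g⁻¹ * t * g = Matrix.SpecialLinearGroup.transvection h01 c :=
        hinj (by rw [hc, hι, SL.act_transvection, RingHom.id_apply])
      refine ⟨c, fun e0 => ht1 ?_, g, by rw [e]; rfl⟩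
      rw [e0, Matrix.SpecialLinearGroup.transvection_coeff_zero] at e
      calc t = g * (g⁻¹ * t * g) * g⁻¹ := by group
        _ = 1 := by rw [e]; group
  have hdata : ∀ t ∈ D, ∃ A ∈ SL.fam F (n + 3), ∃ x φ c, TG ι (RingHom.id F) x φ A ∧ c ≠ 0 ∧
      ι t = tv x φ c ∧ t ∈ A := by
    intro t ht
    obtain ⟨A, hA, htA, ht1⟩ := (hmem t).1 ht
    obtain ⟨x, φ, hA'⟩ := hA
    obtain ⟨c, hc⟩ := (hA'.mem t).1 htA
    exact ⟨A, ⟨x, φ, hA'⟩, x, φ, c, hA', fun e => ht1 (hinj (by rw [hc, e, map_zero, tv_zero, map_one])),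
      hc, htA⟩
  have hinv : ∀ t ∈ D, orderOf t = 2 := by
    intro t ht
    obtain ⟨A, -, x, φ, c, hA', hc, htc, -⟩ := hdata t ht
    refine orderOf_eq_prime (hinj ?_) fun e => hc ?_
    · rw [pow_two, map_mul, htc, tv_mul hA'.inc, CharTwo.add_self_eq_zero, tv_zero, map_one]
    · rw [e, map_one, ← tv_zero x φ] at htc
      exact (tv_inj hA'.ne_x hA'.ne_φ htc).symm
  have hpair : ∀ a ∈ D, ∀ b ∈ D, a * b = b * a ∨ (Odd (orderOf (a * b)) ∧
      (Fintype.card F = 2 → orderOf (a * b) = 3)) ∨ (orderOf (a * b) = 4 ∧ (a * b) ^ 2 ∈ D) := by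
    intro a ha b hb
    obtain ⟨A, -, x, φ, c, hA', hc, hac, -⟩ := hdata a ha
    obtain ⟨B, -, y, ψ, d, hB', hd, hbd, -⟩ := hdata b hb
    have sa : a⁻¹ = a := inv_eq_of_mul_eq_one_right (by rw [← pow_two, ← hinv a ha, pow_orderOf_eq_one])
    have sb : b⁻¹ = b := inv_eq_of_mul_eq_one_right (by rw [← pow_two, ← hinv b hb, pow_orderOf_eq_one])
    have four : ∀ z, a * b * a * b = z → z ∈ D → orderOf (a * b) = 4 ∧ (a * b) ^ 2 ∈ D := by
      intro z hz hzD
      have e : (a * b) ^ 2 = z := by rw [← hz]; simp only [pow_two, mul_assoc]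
      refine ⟨?_, e ▸ hzD⟩
      haveI : Fact (Nat.Prime 2) := ⟨Nat.prime_two⟩
      refine orderOf_eq_prime_pow (p := 2) (n := 1) ?_ ?_
      · rw [pow_one, e]
        intro e1
        have := hinv z hzD
        rw [e1, orderOf_one] at this
        exact absurd this (by decide)
      · rw [pow_succ, pow_one, pow_mul, e, ← hinv z hzD, pow_orderOf_eq_one]
    by_cases h1 : φ y = 0 <;> by_cases h2 : ψ x = 0
    · exact Or.inl (commute_of_incident hinj hac hbd h1 h2)
    · obtain ⟨C, hC, hC'⟩ := SL.fam_exists (x := ψ x • y) (φ := φ) (smul_ne_zero h2 hB'.ne_x) hA'.ne_φ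
        (by rw [map_smul, h1, smul_zero])
      obtain ⟨z, hz⟩ := hC'.surj (d * c)
      have hzD : z ∈ D := (hmem z).2 ⟨C, hC, (hC'.mem z).2 ⟨_, hz⟩, fun e => by
        rw [e, map_one, ← tv_zero (ψ x • y) φ, RingHom.id_apply] at hz
        exact mul_ne_zero hd hc (tv_inj hC'.ne_x hC'.ne_φ hz).symm⟩
      have e := commutator_eq hinj h1 hA'.inc hbd hac hz
      rw [sa, sb] at e
      have hzinv : z⁻¹ = z := inv_eq_of_mul_eq_one_right (by rw [← pow_two, ← hinv z hzD, pow_orderOf_eq_one])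
      refine Or.inr (Or.inr (four z ?_ hzD))
      rw [← hzinv, ← e, _root_.mul_inv_rev, _root_.mul_inv_rev, _root_.mul_inv_rev, sa, sb]
      simp only [mul_assoc]
    · obtain ⟨C, hC, hC'⟩ := SL.fam_exists (x := φ y • x) (φ := ψ) (smul_ne_zero h1 hA'.ne_x) hB'.ne_φ
        (by rw [map_smul, h2, smul_zero])
      obtain ⟨z, hz⟩ := hC'.surj (c * d)
      have hzD : z ∈ D := (hmem z).2 ⟨C, hC, (hC'.mem z).2 ⟨_, hz⟩, fun e => by
        rw [e, map_one, ← tv_zero (φ y • x) ψ, RingHom.id_apply] at hz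
        exact mul_ne_zero hc hd (tv_inj hC'.ne_x hC'.ne_φ hz).symm⟩
      have e := commutator_eq hinj h2 hB'.inc hac hbd hz
      rw [sa, sb] at e
      exact Or.inr (Or.inr (four z e hzD))
    · obtain ⟨Φ, hΦinj, hu, hl⟩ := exists_hom hinj hA' hB' h1 h2 (γ := φ y * ψ x) rfl
      have e1 : a = Φ (upper c) := hinj (by rw [hu, hac, RingHom.id_apply])
      have e2 : b = Φ (lower (d * (φ y * ψ x))) := hinj (by
        rw [hl, hbd, RingHom.id_apply, mul_div_cancel_right₀ _ (mul_ne_zero h1 h2)])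
      have hd' : d * (φ y * ψ x) ≠ 0 := mul_ne_zero hd (mul_ne_zero h1 h2)
      obtain ⟨hodd, h3⟩ := odd_two hc hd'
      refine Or.inr (Or.inl ?_)
      rw [e1, e2, ← map_mul, orderOf_injective Φ hΦinj]
      refine ⟨hodd, fun hcard => h3 ?_⟩
      have h := FiniteField.pow_card_sub_one_eq_one (c * (d * (φ y * ψ x))) (mul_ne_zero hc hd')
      rw [hcard] at h
      simpa using h
  have hconjD : ∀ t ∈ D, ∀ g, g * t * g⁻¹ ∈ D := by
    rintro t ⟨c, hc, k, hk⟩ g
    exact ⟨c, hc, g * k, by rw [show (g * k)⁻¹ * (g * t * g⁻¹) * (g * k) = k⁻¹ * t * k by group]; exact hk⟩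
  have hgen : Subgroup.closure D = ⊤ := by
    rw [eq_top_iff, ← SL.fam_top (F := F) (N := n + 3)]
    refine iSup₂_le fun A hA t ht => ?_
    by_cases h : t = 1
    · rw [h]; exact one_mem _
    · exact Subgroup.subset_closure ((hmem t).2 ⟨A, hA, ht, h⟩)
  have hroot : Cfsg.IsRootInvolutionSet D := by
    refine ⟨hinv, hgen, hconjD, fun a ha b hb => ?_⟩
    rcases hpair a ha b hb with h | h | h
    · exact Or.inl h
    · exact Or.inr (Or.inl h.1)
    · exact Or.inr (Or.inr h)
  have hcentre : ∀ t ∈ D, ∃ g, g * Matrix.SpecialLinearGroup.transvection h01 (1 : F) * g⁻¹ = t := by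
    rintro t ⟨c, hc, k, hk⟩
    have e : k⁻¹ * t * k = Matrix.SpecialLinearGroup.transvection h01 c := Subtype.ext hk
    obtain ⟨C, hC, hC'⟩ := SL.fam_exists (F := F) (x := Pi.single (1 : Fin (n + 3)) 1)
      (φ := LinearMap.proj 0) (fun e => by have := congrFun e 1; simp at this)
      (fun e => by have := LinearMap.congr_fun e (Pi.single 0 (1 : F)); simp at this) (by simp [h01])
    obtain ⟨Φ, -, hu, -⟩ := exists_hom hinj hT0 hC' (by simp) (by simp) (γ := 1) (by simp)
    obtain ⟨s, hs⟩ := FiniteField.isSquare_of_char_two (ringChar.eq F 2) c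
    have hs0 : s ≠ 0 := fun e => hc (by rw [hs, e, mul_zero])
    set T : SL(2, F) := ⟨!![s, 0; 0, s⁻¹], by simp [Matrix.det_fin_two, hs0]⟩ with hTdef
    refine ⟨k * Φ T, ?_⟩
    have h2 : Matrix.SpecialLinearGroup.transvection h01 (1 : F) = Φ (upper 1) :=
      hinj (by rw [hu, hι, SL.act_transvection, RingHom.id_apply])
    have h3 : Φ (upper c) = Matrix.SpecialLinearGroup.transvection h01 c :=
      hinj (by rw [hu, hι, SL.act_transvection, RingHom.id_apply])
    calc k * Φ T * Matrix.SpecialLinearGroup.transvection h01 1 * (k * Φ T)⁻¹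
        = k * (Φ T * Φ (upper 1) * (Φ T)⁻¹) * k⁻¹ := by rw [h2]; group
      _ = k * (k⁻¹ * t * k) * k⁻¹ := by
        rw [e, ← h3, ← map_inv, ← map_mul, ← map_mul, conj_upper (by simp [hTdef])]
        congr 4
        simp [hTdef, hs, pow_two]
      _ = t := by group
  refine ⟨⟨hroot, ⟨Matrix.SpecialLinearGroup.transvection h01 1, 1, one_ne_zero, 1, by
    rw [inv_one, one_mul, mul_one]; rfl⟩, fun a ha b hb => ?_⟩, fun hcard => ⟨hroot, fun a ha b hb hodd => ?_⟩⟩
  · obtain ⟨g, rfl⟩ := hcentre a ha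
    obtain ⟨k, rfl⟩ := hcentre b hb
    exact ⟨k * g⁻¹, by group⟩
  · rcases hpair a ha b hb with h | h | h
    · left
      have h2 : (a * b) ^ 2 = 1 := by
        rw [(show Commute a b from h).mul_pow, ← hinv a ha, pow_orderOf_eq_one, hinv a ha, ← hinv b hb,
          pow_orderOf_eq_one, one_mul]
      rcases (Nat.dvd_prime Nat.prime_two).1 (orderOf_dvd_of_pow_eq_one h2) with h' | h'
      · exact h'
      · rw [h'] at hodd; exact absurd hodd (by decide)
    · exact Or.inr (h.2 hcard)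
    · rw [h.1] at hodd; exact absurd hodd (by decide)

end Cfsg.Agent.S5058
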