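import Cfsg.Statements.S5060
import Cfsg.Agent.Lib.QuadPair.Rosenlicht


set_option autoImplicit false
open Cfsg

namespace Cfsg.Agent.S5060

open CfsgLib.QuadPair

/-- Let k ⊆ K be fields with the characteristic of k not 2 and k not of order 3, and let α ∈ K be a non-zero element algebraic over k. Then the subgroup of SL₂(K) generated by the upper unitriangular matrices with entry c and the lower unitriangular matrices with entry cα, c ranging over k, is exactly the group of matrices of SL₂(K) with all entries in k(α). -/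
theorem result {k K : Type*} [Field k] [Field K] [Algebra k K] (hk2 : ringChar k ≠ 2) (hk3 : Nat.card k ≠ 3)
    (α : K) (hα : IsAlgebraic k α) (hα0 : α ≠ 0) :
    (Subgroup.closure ({g : Matrix.SpecialLinearGroup (Fin 2) K | ∃ c : k, (g : Matrix (Fin 2) (Fin 2) K) = !![1, algebraMap k K c; 0, 1]} ∪
        {g : Matrix.SpecialLinearGroup (Fin 2) K | ∃ c : k, (g : Matrix (Fin 2) (Fin 2) K) = !![1, 0; algebraMap k K c * α, 1]}) :
      Set (Matrix.SpecialLinearGroup (Fin 2) K)) =
    {g : Matrix.SpecialLinearGroup (Fin 2) K | ∀ i j : Fin 2, (g : Matrix (Fin 2) (Fin 2) K) i j ∈ IntermediateField.adjoin k ({α} : Set K)} := by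
  have h2 : (2 : k) ≠ 0 := Ring.two_ne_zero hk2
  set L := IntermediateField.adjoin k ({α} : Set K) with hL
  haveI : FiniteDimensional k L := IntermediateField.adjoin.finiteDimensional hα.isIntegral
  let a : L := ⟨α, IntermediateField.subset_adjoin k _ rfl⟩
  have htop : IntermediateField.adjoin k ({a} : Set L) = ⊤ := by
    apply IntermediateField.map_injective L.val
    rw [IntermediateField.adjoin_map, ← AlgHom.fieldRange_eq_map, IntermediateField.fieldRange_val, Set.image_singleton]
    rfl
  have hgen := pairGroup_eq_top (k := k) h2 hk3 (fun h => hα0 (congrArg Subtype.val h) : a ≠ 0) htop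
  let f : Matrix.SpecialLinearGroup (Fin 2) L →* Matrix.SpecialLinearGroup (Fin 2) K :=
    Matrix.SpecialLinearGroup.map (algebraMap L K)
  have hf : ∀ (g : Matrix.SpecialLinearGroup (Fin 2) L) i j,
      (f g : Matrix (Fin 2) (Fin 2) K) i j = ((g : Matrix (Fin 2) (Fin 2) L) i j : K) := fun g i j => rfl
  have hu : ∀ c : k, f (upper (algebraMap k L c)) = upper (algebraMap k K c) := fun c => by
    refine ext_two ?_ ?_ ?_ ?_ <;> simp [hf, upper_val]
  have hl : ∀ c : k, f (lower (algebraMap k L c * a)) = lower (algebraMap k K c * α) := fun c => by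
    refine ext_two ?_ ?_ ?_ ?_ <;> simp [hf, lower_val, a]
  refine Eq.trans (congrArg SetLike.coe (show _ = f.range from ?_)) ?_
  · rw [MonoidHom.range_eq_map, ← hgen, pairGroup, MonoidHom.map_closure]
    congr 1
    ext g
    constructor
    · rintro (⟨c, hc⟩ | ⟨c, hc⟩)
      · exact ⟨_, Or.inl ⟨c, rfl⟩, (hu c).trans (Subtype.ext hc.symm)⟩
      · exact ⟨_, Or.inr ⟨c, rfl⟩, (hl c).trans (Subtype.ext hc.symm)⟩
    · rintro ⟨_, ⟨c, rfl⟩ | ⟨c, rfl⟩, rfl⟩
      · exact Or.inl ⟨c, by rw [hu]; rfl⟩
      · exact Or.inr ⟨c, by rw [hl]; rfl⟩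
  · ext g
    constructor
    · rintro ⟨g', rfl⟩ i j
      rw [hf]
      exact SetLike.coe_mem _
    · intro hg
      refine ⟨⟨Matrix.of fun i j => ⟨_, hg i j⟩, ?_⟩, ?_⟩
      · refine (algebraMap L K).injective ?_
        rw [RingHom.map_det, map_one]
        exact g.2
      · ext i j; rfl

end Cfsg.Agent.S5060
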