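import Cfsg.Statements.S5067


set_option autoImplicit false
open Cfsg

namespace Cfsg.Agent.S5067

open scoped commutatorElement

/-- Let P be a non-abelian nilpotent p-group (every element of p-power order; P possibly infinite) generated by two abelian subgroups E and F. Then the normal closure of E in P, and likewise that of F, has nilpotency class strictly smaller than that of P. -/
theorem result {P : Type*} [Group P] {p : ℕ} [Fact p.Prime] (hP : IsPGroup p P) [Group.IsNilpotent P]
    (hna : ¬ IsMulCommutative P) {E F : Subgroup P} (hE : IsMulCommutative ↥E) (hF : IsMulCommutative ↥F) (hgen : E ⊔ F = ⊤) :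
    Group.nilpotencyClass ↥(Subgroup.normalClosure (E : Set P)) < Group.nilpotencyClass P ∧
    Group.nilpotencyClass ↥(Subgroup.normalClosure (F : Set P)) < Group.nilpotencyClass P := by
  have key : ∀ E : Subgroup P, IsMulCommutative ↥E →
      Group.nilpotencyClass ↥(Subgroup.normalClosure (E : Set P)) < Group.nilpotencyClass P := by
    intro E hE
    set N := Subgroup.normalClosure (E : Set P) with hN
    set M := E ⊔ (⊤ : Subgroup P).lowerCentralSeries 1 with hM
    haveI hMn : M.Normal := Subgroup.Normal.of_commutator_le _ le_sup_right
    have hNM : N ≤ M := Subgroup.normalClosure_le_normal fun x hx => Subgroup.mem_sup_left hx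
    have hbase : N.lowerCentralSeries 1 ≤ (⊤ : Subgroup P).lowerCentralSeries 2 := by
      let π := QuotientGroup.mk' ((⊤ : Subgroup P).lowerCentralSeries 2)
      have hcen : ∀ d ∈ (⊤ : Subgroup P).lowerCentralSeries 1, ∀ y : P, π d * π y = π y * π d := by
        intro d hd y
        have h1 : π ⁅d, y⁆ = 1 := (QuotientGroup.eq_one_iff _).2
          (Subgroup.commutator_mem_commutator hd (Subgroup.mem_top y))
        rw [map_commutatorElement, commutatorElement_eq_one_iff_commute] at h1
        exact h1
      have hMM : ∀ u ∈ M, ∀ v ∈ M, π u * π v = π v * π u := by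
        have hle : ∀ x ∈ E, M ≤ (Subgroup.centralizer ({π x} : Set _)).comap π := fun x hx => sup_le
          (fun y hy => Subgroup.mem_centralizer_singleton_iff.2 (by
            rw [← map_mul, ← map_mul, show y * x = x * y from congrArg Subtype.val (hE.is_comm.comm (⟨y, hy⟩ : E) ⟨x, hx⟩)]))
          (fun y hy => Subgroup.mem_centralizer_singleton_iff.2 (hcen y hy x))
        intro u hu v hv
        have hle2 : M ≤ (Subgroup.centralizer ({π u} : Set _)).comap π := sup_le
          (fun x hx => Subgroup.mem_centralizer_singleton_iff.2 (Subgroup.mem_centralizer_singleton_iff.1 (hle x hx hu)).symm)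
          (fun y hy => Subgroup.mem_centralizer_singleton_iff.2 (hcen y hy u))
        exact (Subgroup.mem_centralizer_singleton_iff.1 (hle2 hv)).symm
      rw [Subgroup.lowerCentralSeries_succ, Subgroup.lowerCentralSeries_zero, Subgroup.commutator_le]
      intro x hx y hy
      refine (QuotientGroup.eq_one_iff _).1 ?_
      show π ⁅x, y⁆ = 1
      rw [map_commutatorElement, commutatorElement_eq_one_iff_commute]
      exact hMM x (hNM hx) y (hNM hy)
    have hstep : ∀ k : ℕ, N.lowerCentralSeries (k + 1) ≤ (⊤ : Subgroup P).lowerCentralSeries (k + 2) := by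
      intro k
      induction k with
      | zero => exact hbase
      | succ k ih => exact Subgroup.commutator_mono ih le_top
    obtain ⟨c, hc⟩ : ∃ c, Group.nilpotencyClass P = c + 2 := by
      refine Nat.exists_eq_add_of_le' ?_
      by_contra hlt
      have h1 : (⊤ : Subgroup P).lowerCentralSeries 1 = ⊥ :=
        Subgroup.lowerCentralSeries_eq_bot_iff_nilpotencyClass_le.2 (by omega)
      refine hna ⟨⟨fun a b => ?_⟩⟩
      have h2 : ⁅a, b⁆ ∈ (⊤ : Subgroup P).lowerCentralSeries 1 :=
        Subgroup.commutator_mem_commutator (Subgroup.mem_top a) (Subgroup.mem_top b)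
      rw [h1, Subgroup.mem_bot, commutatorElement_eq_one_iff_commute] at h2
      exact h2
    have hbot : (⊤ : Subgroup ↥N).lowerCentralSeries (c + 1) = ⊥ := by
      refine Subgroup.map_injective N.subtype_injective ?_
      rw [Subgroup.top_subtype_lowerCentralSeries, Subgroup.map_bot, eq_bot_iff]
      refine (hstep c).trans ?_
      rw [← hc, Subgroup.lowerCentralSeries_nilpotencyClass]
    have := Subgroup.lowerCentralSeries_eq_bot_iff_nilpotencyClass_le.1 hbot
    omega
  exact ⟨key E hE, key F hF⟩

end Cfsg.Agent.S5067
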