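import Cfsg.Statements.S5069
import Cfsg.Agent.Lib.QuadPair.Quasisimple


set_option autoImplicit false
universe u
open Cfsg

namespace Cfsg.Agent.S5069

open CfsgLib.QuadPair

/-- Let k be a field of characteristic not 2 with k not of order 3, M a finite-dimensional k-vector space and G ≤ GL(M) such that (G, M) is a quadratic pair (M irreducible for G, and G generated by its quadratically acting elements σ whose scalar family 1 + c(σ − 1), c ∈ k, lies in G). Write 𝒬_d for the quadratic elements of G of minimal commutator rank, E(σ) for the subgroup generated by the members of 𝒬_d with the same fixed space and commutator space as σ, and Σ for the set of these subgroups. Then Σ is a disjoint union of finitely many parts Σ₁, …, Σ_r such that the subgroups G_i generated by the Σ_i commute pairwise, each G_i is quasisimple, and inside G_i the members of Σ_i form a class of abstract root subgroups in which every rank one pair A, B contains subgroups A₀ ≤ A, B₀ ≤ B generating an image of SL₂(k₁) with central kernel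 on unitriangular subgroups for some field k₁ with at least four elements. -/
theorem result {k : Type u} [Field k] (hk2 : ringChar k ≠ 2) (hk3 : Nat.card k ≠ 3)
    {M : Type u} [AddCommGroup M] [Module k M] [FiniteDimensional k M]
    {G : Subgroup (LinearMap.GeneralLinearGroup k M)} (hG : Cfsg.IsQuadraticPair G) :
    ∃ (r : ℕ) (part : Fin r → Set (Subgroup (LinearMap.GeneralLinearGroup k M))),
      (⋃ i, part i) = Cfsg.quadraticRootSubgroups G ∧ (∀ i j, i ≠ j → Disjoint (part i) (part j)) ∧ (∀ i, (part i).Nonempty) ∧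
      (∀ i j, i ≠ j → ⁅(⨆ A ∈ part i, A), (⨆ A ∈ part j, A)⁆ = ⊥) ∧
      (∀ i, Cfsg.IsQuasisimple ↥(⨆ A ∈ part i, A) ∧
        Cfsg.IsRootSubgroupClass ((fun A : Subgroup (LinearMap.GeneralLinearGroup k M) => A.subgroupOf (⨆ B ∈ part i, B)) '' (part i)) ∧
        ∀ A ∈ part i, ∀ B ∈ Cfsg.rankOnePartners (part i) A, ∃ A₀ B₀ : Subgroup (LinearMap.GeneralLinearGroup k M), A₀ ≤ A ∧ B₀ ≤ B ∧
          ∃ (k₁ : Type u) (_ : Field k₁), 3 < ENat.card k₁ ∧ Cfsg.IsPSL2PairOver k₁ A₀ B₀) := by
  have h2 : (2 : k) ≠ 0 := Ring.two_ne_zero hk2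
  obtain ⟨r, f, hf, hinj⟩ : ∃ (r : ℕ) (f : Fin r → Set (Subgroup (LinearMap.GeneralLinearGroup k M))),
      Set.range f = component G '' quadraticRootSubgroups G ∧ Function.Injective f := by
    have hfin := finite_components h2 hk3 hG
    haveI := hfin.to_subtype
    obtain ⟨r, ⟨e⟩⟩ := Finite.exists_equiv_fin ↥(component G '' quadraticRootSubgroups G)
    refine ⟨r, fun i => (e.symm i).1, ?_, fun i j h => e.symm.injective (Subtype.ext h)⟩
    ext c
    exact ⟨fun ⟨i, hi⟩ => hi ▸ (e.symm i).2, fun hc => ⟨e ⟨c, hc⟩, by simp⟩⟩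
  have hmem : ∀ i, ∃ A ∈ quadraticRootSubgroups G, f i = component G A := by
    intro i
    obtain ⟨A, hA, e⟩ : f i ∈ component G '' quadraticRootSubgroups G := hf ▸ Set.mem_range_self i
    exact ⟨A, hA, e.symm⟩
  choose A hA hfA using hmem
  refine ⟨r, f, ?_, fun i j hij => ?_, fun i => ⟨A i, hfA i ▸ mem_component_self (hA i)⟩, fun i j hij => ?_, fun i => ?_⟩
  · ext B
    rw [Set.mem_iUnion]
    constructor
    · rintro ⟨i, hi⟩
      rw [hfA] at hi
      exact hi.1
    · intro hB
      obtain ⟨i, hi⟩ : component G B ∈ Set.range f := hf ▸ ⟨B, hB, rfl⟩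
      exact ⟨i, hi ▸ mem_component_self hB⟩
  · rw [Set.disjoint_left]
    intro B hi hj
    rw [hfA] at hi hj
    exact hij (hinj (by rw [hfA, hfA, ← component_eq_of_mem hi, ← component_eq_of_mem hj]))
  · rw [hfA, hfA]
    exact componentJoin_commute h2 hk3 hG fun e => hij (hinj (by rw [hfA, hfA, e]))
  · rw [hfA]
    refine ⟨componentJoin_quasisimple h2 hk3 hG (hA i), isRootSubgroupClass_component h2 hk3 hG (hA i),
      fun B hB C hC => ?_⟩
    obtain ⟨A₀, B₀, hA₀, hB₀, h⟩ := psl2_of_rankOne h2 hk3 hG hB.1 hC.1.1 hC.2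
    exact ⟨A₀, B₀, hA₀, hB₀, k, inferInstance, three_lt_encard h2 hk3, h⟩

end Cfsg.Agent.S5069
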