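import Cfsg.Statements.S5070
import Cfsg.Agent.Lib.RootSub.Transvection
import Cfsg.Agent.Lib.Perm.Trans.SympGen
-- import your own Cfsg.Agent.* helpers here

set_option autoImplicit false
open Matrix
open Cfsg

namespace Cfsg.Agent.S5070

open CfsgLib.Transv
open scoped commutatorElement

variable (F : Type*) [Field F] (m : ℕ)

/-- The natural action. -/
def act : ↥(Matrix.symplecticGroup (Fin (m + 1)) F) →* Module.End F (Fin (m + 1) ⊕ Fin (m + 1) → F) where
  toFun g := Matrix.mulVecLin g.1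
  map_one' := LinearMap.ext fun v => by simp
  map_mul' g h := LinearMap.ext fun v => by simp [Matrix.mulVec_mulVec]

theorem act_injective : Function.Injective (act F m) := fun g h e =>
  Subtype.ext (Matrix.toLin'.injective e)

/-- Let F be a field, m a natural number and V = F^{2(m+1)} with the standard non-degenerate alternating form f(u, v) = uᵀ J v. For a non-zero vector p let T(p) be the group of symplectic transvections v ↦ v + c f(v, p) p, c ∈ F. Then the subgroups T(p), p ≠ 0, generate the symplectic group Sp_{2(m+1)}(F) and form a degenerate class of abstract F-root subgroups of it (any two of them either commute elementwise or are the unipotent subgroups of a rank one group that is an image of SL₂(F) with central kernel, never the commutator case), and their graph of rank one pairs is connected. -/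
theorem result (F : Type*) [Field F] (m : ℕ) :
    Cfsg.IsRootSubgroupClass {A : Subgroup ↥(Matrix.symplecticGroup (Fin (m + 1)) F) | ∃ p : Fin (m + 1) ⊕ Fin (m + 1) → F, p ≠ 0 ∧
        A = Subgroup.closure {g : ↥(Matrix.symplecticGroup (Fin (m + 1)) F) | ∃ c : F, ∀ v : Fin (m + 1) ⊕ Fin (m + 1) → F,
          (g : Matrix (Fin (m + 1) ⊕ Fin (m + 1)) (Fin (m + 1) ⊕ Fin (m + 1)) F) *ᵥ v =
            v + (c * (v ⬝ᵥ (Matrix.J (Fin (m + 1)) F *ᵥ p))) • p}} ∧
    Cfsg.IsDegenerateRootSet {A : Subgroup ↥(Matrix.symplecticGroup (Fin (m + 1)) F) | ∃ p : Fin (m + 1) ⊕ Fin (m + 1) → F, p ≠ 0 ∧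
        A = Subgroup.closure {g : ↥(Matrix.symplecticGroup (Fin (m + 1)) F) | ∃ c : F, ∀ v : Fin (m + 1) ⊕ Fin (m + 1) → F,
          (g : Matrix (Fin (m + 1) ⊕ Fin (m + 1)) (Fin (m + 1) ⊕ Fin (m + 1)) F) *ᵥ v =
            v + (c * (v ⬝ᵥ (Matrix.J (Fin (m + 1)) F *ᵥ p))) • p}} ∧
    Cfsg.IsKRootSubgroupSet F {A : Subgroup ↥(Matrix.symplecticGroup (Fin (m + 1)) F) | ∃ p : Fin (m + 1) ⊕ Fin (m + 1) → F, p ≠ 0 ∧
        A = Subgroup.closure {g : ↥(Matrix.symplecticGroup (Fin (m + 1)) F) | ∃ c : F, ∀ v : Fin (m + 1) ⊕ Fin (m + 1) → F,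
          (g : Matrix (Fin (m + 1) ⊕ Fin (m + 1)) (Fin (m + 1) ⊕ Fin (m + 1)) F) *ᵥ v =
            v + (c * (v ⬝ᵥ (Matrix.J (Fin (m + 1)) F *ᵥ p))) • p}} ∧
    Cfsg.IsConnectedFamily (Cfsg.FAdj {A : Subgroup ↥(Matrix.symplecticGroup (Fin (m + 1)) F) | ∃ p : Fin (m + 1) ⊕ Fin (m + 1) → F, p ≠ 0 ∧
        A = Subgroup.closure {g : ↥(Matrix.symplecticGroup (Fin (m + 1)) F) | ∃ c : F, ∀ v : Fin (m + 1) ⊕ Fin (m + 1) → F,
          (g : Matrix (Fin (m + 1) ⊕ Fin (m + 1)) (Fin (m + 1) ⊕ Fin (m + 1)) F) *ᵥ v =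
            v + (c * (v ⬝ᵥ (Matrix.J (Fin (m + 1)) F *ᵥ p))) • p}})
      {A : Subgroup ↥(Matrix.symplecticGroup (Fin (m + 1)) F) | ∃ p : Fin (m + 1) ⊕ Fin (m + 1) → F, p ≠ 0 ∧
        A = Subgroup.closure {g : ↥(Matrix.symplecticGroup (Fin (m + 1)) F) | ∃ c : F, ∀ v : Fin (m + 1) ⊕ Fin (m + 1) → F,
          (g : Matrix (Fin (m + 1) ⊕ Fin (m + 1)) (Fin (m + 1) ⊕ Fin (m + 1)) F) *ᵥ v =
            v + (c * (v ⬝ᵥ (Matrix.J (Fin (m + 1)) F *ᵥ p))) • p}} := by
  set S := {A : Subgroup ↥(Matrix.symplecticGroup (Fin (m + 1)) F) | ∃ p : Fin (m + 1) ⊕ Fin (m + 1) → F, p ≠ 0 ∧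
        A = Subgroup.closure {g : ↥(Matrix.symplecticGroup (Fin (m + 1)) F) | ∃ c : F, ∀ v : Fin (m + 1) ⊕ Fin (m + 1) → F,
          (g : Matrix (Fin (m + 1) ⊕ Fin (m + 1)) (Fin (m + 1) ⊕ Fin (m + 1)) F) *ᵥ v =
            v + (c * (v ⬝ᵥ (Matrix.J (Fin (m + 1)) F *ᵥ p))) • p}} with hS
  set φ : (Fin (m + 1) ⊕ Fin (m + 1) → F) → ((Fin (m + 1) ⊕ Fin (m + 1) → F) →ₗ[F] F) :=
    fun p => CfsgLib.Sp.sfLin p with hφ
  have hval : ∀ p v, φ p v = v ⬝ᵥ (Matrix.J (Fin (m + 1)) F *ᵥ p) := fun p v => rfl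
  have hskew : ∀ p q, φ p q = -φ q p := by
    intro p q
    show CfsgLib.Sp.sf q p = -CfsgLib.Sp.sf p q
    have h := CfsgLib.Sp.sf_self (p + q)
    rw [CfsgLib.Sp.sf_add_left, CfsgLib.Sp.sf_add_right, CfsgLib.Sp.sf_add_right, CfsgLib.Sp.sf_self,
      CfsgLib.Sp.sf_self] at h
    linear_combination h
  have hne : ∀ p, p ≠ 0 → φ p ≠ 0 := by
    intro p hp e
    refine hp ?_
    have h1 : Matrix.J (Fin (m + 1)) F *ᵥ p = 0 := by
      ext i
      have := LinearMap.congr_fun e (Pi.single i 1)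
      rwa [hval, single_one_dotProduct, LinearMap.zero_apply] at this
    have h2 := congrArg (fun v => Matrix.J (Fin (m + 1)) F *ᵥ v) h1
    simpa [Matrix.mulVec_mulVec, Matrix.J_squared, Matrix.neg_mulVec] using h2
  have hsurj : ∀ p (c : F), ∃ g, act F m g = tv p (φ p) c := fun p c =>
    ⟨CfsgLib.Sp.tv p c, LinearMap.ext fun v => by
      rw [tv_apply]; exact CfsgLib.Sp.tv_mulVec p c v⟩
  have hTG : ∀ A ∈ S, ∃ p, p ≠ 0 ∧ TG (act F m) (RingHom.id F) p (φ p) A := by
    rintro A ⟨p, hp, rfl⟩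
    refine ⟨p, hp, TG.closure _ _ (act_injective F m) hp (hne p hp)
      (by show CfsgLib.Sp.sf p p = 0; exact CfsgLib.Sp.sf_self p) (hsurj p) fun g => ?_⟩
    refine exists_congr fun c => ⟨fun h => LinearMap.ext fun v => ?_, fun h v => ?_⟩
    · rw [tv_apply]; exact h v
    · have := LinearMap.congr_fun h v
      rwa [tv_apply] at this
  have hmk : ∀ p, p ≠ 0 → ∃ A ∈ S, TG (act F m) (RingHom.id F) p (φ p) A := by
    intro p hp
    refine ⟨_, ⟨p, hp, rfl⟩, TG.closure _ _ (act_injective F m) hp (hne p hp)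
      (by show CfsgLib.Sp.sf p p = 0; exact CfsgLib.Sp.sf_self p) (hsurj p) fun g => ?_⟩
    refine exists_congr fun c => ⟨fun h => LinearMap.ext fun v => ?_, fun h v => ?_⟩
    · rw [tv_apply]; exact h v
    · have := LinearMap.congr_fun h v
      rwa [tv_apply] at this
  have hcases : ∀ A ∈ S, ∀ B ∈ S, ⁅A, B⁆ = ⊥ ∨
      (Cfsg.IsRankOnePair A B ∧ Cfsg.IsPSL2PairOver F A B) := by
    intro A hA B hB
    obtain ⟨p, hp, hA'⟩ := hTG A hA
    obtain ⟨q, hq, hB'⟩ := hTG B hB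
    by_cases h : φ p q = 0
    · exact Or.inl (commutator_eq_bot (act_injective F m) hA' hB' h (by rw [hskew, h, neg_zero]))
    · exact Or.inr (opposite (act_injective F m) hA' hB' h
        (by rw [hskew, neg_ne_zero]; exact h) (γ := φ p q * φ q p) rfl)
  have hconn : Cfsg.IsConnectedFamily (Cfsg.FAdj S) S := by
    intro A hA B hB
    obtain ⟨p, hp, hA'⟩ := hTG A hA
    obtain ⟨q, hq, hB'⟩ := hTG B hB
    obtain ⟨z, hz1, hz2⟩ := exists_common (hne p hp) (hne q hq)
    obtain ⟨C, hC, hC'⟩ := hmk z (fun e => hz1 (by rw [e, map_zero]))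
    have p1 := (opposite (act_injective F m) hA' hC' hz1 (by rw [hskew, neg_ne_zero]; exact hz1)
      (γ := φ p z * φ z p) rfl).1
    have p2 := (opposite (act_injective F m) hC' hB' (by rw [hskew, neg_ne_zero]; exact hz2) hz2
      (γ := φ z q * φ q z) rfl).1
    exact (Relation.ReflTransGen.single ⟨hA, hC, p1⟩).trans (Relation.ReflTransGen.single ⟨hC, hB, p2⟩)
  have hroot : Cfsg.IsRootSubgroupSet S := by
    refine ⟨fun A hA => (hTG A hA).choose_spec.2.comm (act_injective F m),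
      fun A hA => (hTG A hA).choose_spec.2.ne_bot, ?_, fun A hA g => ?_, fun A hA B hB => ?_⟩
    · rw [eq_top_iff, ← CfsgLib.Perm.Trans.Symp.closure_tvSet, Subgroup.closure_le]
      rintro t ⟨w, c, hw⟩
      by_cases hw0 : w = 0
      · have : t = 1 := Subtype.ext (by rw [hw, hw0]; simp [Cfsg.sympTransvection])
        rw [this]
        exact one_mem _
      obtain ⟨A, hA, hA'⟩ := hmk w hw0
      refine (le_iSup₂ (f := fun (A : Subgroup ↥(Matrix.symplecticGroup (Fin (m + 1)) F)) (_ : A ∈ S) => A) A hA)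
        ((hA'.mem t).2 ⟨c, LinearMap.ext fun v => ?_⟩)
      rw [tv_apply]
      show t.1 *ᵥ v = _
      rw [hw]
      exact CfsgLib.Sp.tv_mulVec w c v
    · obtain ⟨p, hp, hA'⟩ := hTG A hA
      have h1 := hA'.conj g
      have h2 : (φ p) ∘ₗ act F m g⁻¹ = φ (act F m g p) := LinearMap.ext fun v => by
        have e : act F m g (act F m g⁻¹ v) = v := by
          rw [← Module.End.mul_apply, ← map_mul, mul_inv_cancel, map_one, Module.End.one_apply]
        show CfsgLib.Sp.sf (act F m g⁻¹ v) p = CfsgLib.Sp.sf v (act F m g p)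
        conv_rhs => rw [← e]
        exact (CfsgLib.Sp.sf_sp g _ _).symm
      rw [h2] at h1
      obtain ⟨B, hB, hB'⟩ := hmk _ h1.ne_x
      rw [h1.unique hB']
      exact hB
    · rcases hcases A hA B hB with h | h
      · exact Or.inl h
      · exact Or.inr (Or.inl h.1)
  have hnonempty : S.Nonempty := by
    obtain ⟨A, hA, -⟩ := hmk (Pi.single (Sum.inl 0) 1) (fun e => by
      have := congrFun e (Sum.inl 0); simp at this)
    exact ⟨A, hA⟩
  refine ⟨⟨hroot, hnonempty, fun A hA B hB => conj_of_path (hconn A hA B hB)⟩,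
    fun A hA B hB h => ?_, ⟨hroot, fun A hA B hB h => ?_⟩, hconn⟩
  · rcases hcases A hA B hB with h' | h'
    · exact hroot.ne_bot _ h.1 h'
    · exact CfsgLib.RootSub.not_pair_of_case hroot hA h h'.1
  · rcases hcases A hA B hB with h' | h'
    · exact absurd h' (CfsgLib.RootSub.not_commutator_bot h)
    · exact h'.2

end Cfsg.Agent.S5070
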