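import Cfsg.Statements.S5071
import Cfsg.Agent.Lib.RootSub.Transvection
import Cfsg.Agent.Lib.Classical.HermOrder
import Cfsg.Agent.Lib.QuadPair.Transfer
-- import your own Cfsg.Agent.* helpers here

set_option autoImplicit false
open Matrix
open Cfsg

namespace Cfsg.Agent.S5071

open Matrix CfsgLib.SU CfsgLib.Descent CfsgLib.Transv
open scoped commutatorElement

/-- A copy of `Fin m`, to carry a field structure. -/
def Car (m : ℕ) : Type := Fin m

section main

variable {F : Type*} [Field F] [Fintype F] {q n : ℕ} (C : UCtx F q)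

set_option quotPrecheck false
local notation "V" => (Fin n → F)
local notation "SUn" => ↥(Cfsg.SU n F q)

variable (F n q) in
/-- The natural action of a subgroup. -/
def act (X : Subgroup SUn) : ↥X →* Module.End F V where
  toFun g := Matrix.mulVecLin g.1.1.1
  map_one' := LinearMap.ext fun v => by simp
  map_mul' g h := LinearMap.ext fun v => by simp [Matrix.mulVec_mulVec]

theorem act_injective (X : Subgroup SUn) : Function.Injective (act F q n X) := fun g h e =>
  Subtype.ext (Subtype.ext (Subtype.ext (Matrix.toLin'.injective e)))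

/-- The conditions defining a unitary transvection group. -/
def IsT (p : V) (g : SUn) : Prop :=
  (∀ v : V, ∃ c : F, g.1.1 *ᵥ v = v + c • p) ∧ ∀ v : V, C.form v p = 0 → g.1.1 *ᵥ v = v

theorem main (hn : 2 ≤ n) (hF2 : Fintype.card F = q ^ 2) (T : Set (Subgroup SUn))
    (hT : ∀ A, A ∈ T ↔ ∃ p : V, p ≠ 0 ∧ C.form p p = 0 ∧ A = Subgroup.closure {g | IsT C p g}) :
    Cfsg.IsRootSubgroupClass ((fun A : Subgroup SUn => A.subgroupOf (⨆ B ∈ T, B)) '' T) ∧
    Cfsg.IsDegenerateRootSet ((fun A : Subgroup SUn => A.subgroupOf (⨆ B ∈ T, B)) '' T) ∧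
    (∃ (L : Type) (_ : Field L) (_ : Fintype L), Fintype.card L = q ∧
      Cfsg.IsKRootSubgroupSet L ((fun A : Subgroup SUn => A.subgroupOf (⨆ B ∈ T, B)) '' T)) ∧
    Cfsg.IsConnectedFamily (Cfsg.FAdj ((fun A : Subgroup SUn => A.subgroupOf (⨆ B ∈ T, B)) '' T))
      ((fun A : Subgroup SUn => A.subgroupOf (⨆ B ∈ T, B)) '' T) := by
  classical
  set X : Subgroup SUn := ⨆ B ∈ T, B with hX
  set S := (fun A : Subgroup SUn => A.subgroupOf X) '' T with hS
  haveI : Fintype (fixedField C.bar) := Fintype.ofFinite _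
  set e : fixedField C.bar ≃ Car (Fintype.card (fixedField C.bar)) := Fintype.equivFin (fixedField C.bar)
  letI : Field (Car (Fintype.card (fixedField C.bar))) := e.symm.field
  letI : Fintype (Car (Fintype.card (fixedField C.bar))) := Fintype.ofEquiv _ e
  set κ : Car (Fintype.card (fixedField C.bar)) →+* F :=
    (fixedField C.bar).subtype.comp (e.symm.ringEquiv : _ ≃+* fixedField C.bar).toRingHom with hκ
  have hκsurj : ∀ y : F, C.bar y = y → ∃ l, κ l = y := fun y hy =>
    ⟨e ⟨y, hy⟩, by simp [hκ, Equiv.ringEquiv]⟩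
  have hκfix : ∀ l, C.bar (κ l) = κ l := fun l => (e.symm l).2
  have hcard : Fintype.card (Car (Fintype.card (fixedField C.bar))) = q := by
    rw [← Fintype.card_congr e, ← Nat.card_eq_fintype_card]
    have h := card_fixedField_pow C.bar
    rw [C.order_two] at h
    exact Nat.pow_left_injective two_ne_zero (h.trans hF2)
  obtain ⟨δ, hδ, hδ0⟩ := C.exists_trace_zero
  have hδb : C.bar δ = -δ := eq_neg_of_add_eq_zero_right hδ0
  set φ : V → (V →ₗ[F] F) := fun p =>
    { toFun := fun v => δ * C.form v p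
      map_add' := fun a b => by rw [C.form_add_left, mul_add]
      map_smul' := fun a b => by rw [C.form_smul_left, RingHom.id_apply, smul_eq_mul]; ring } with hφdef
  have hφ : ∀ p v, φ p v = δ * C.form v p := fun p v => rfl
  have hne : ∀ p, p ≠ 0 → φ p ≠ 0 := by
    intro p hp e
    obtain ⟨v, hv⟩ := C.exists_form_eq_one hp
    have := LinearMap.congr_fun e v
    rw [hφ, hv, mul_one, LinearMap.zero_apply] at this
    exact hδ this
  have hle : ∀ A ∈ T, A ≤ X := fun A hA => le_iSup₂ (f := fun (A : Subgroup SUn) (_ : A ∈ T) => A) A hA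
  have hmk : ∀ p, p ≠ 0 → C.form p p = 0 →
      Subgroup.closure {g | IsT C p g} ∈ T ∧
        TG (act F q n X) κ p (φ p) ((Subgroup.closure {g | IsT C p g}).subgroupOf X) := by
    intro p hp hpp
    set A := Subgroup.closure {g | IsT C p g} with hAdef
    have hAT : A ∈ T := (hT A).2 ⟨p, hp, hpp, rfl⟩
    have hgood : ∀ g : SUn, IsT C p g → ∃ l, ∀ v, g.1.1 *ᵥ v = v + (κ l * (δ * C.form v p)) • p := by
      intro g hg
      obtain ⟨x0, hx0⟩ := C.exists_form_eq_one hp
      obtain ⟨c0, hc0⟩ := hg.1 x0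
      have hval : ∀ v, g.1.1 *ᵥ v = v + (C.form v p * c0) • p := by
        intro v
        have h1 := hg.2 (v - C.form v p • x0) (by rw [C.form_sub_left, C.form_smul_left, hx0]; ring)
        rw [Matrix.mulVec_sub, Matrix.mulVec_smul, hc0, sub_eq_iff_eq_add] at h1
        rw [h1]; module
      have htr : c0 + C.bar c0 = 0 := by
        have h1 := C.form_su g x0 x0
        have hpx : C.form p x0 = 1 := by rw [← C.bar_form, hx0, map_one]
        rw [hc0, C.form_add_left, C.form_add_right, C.form_add_right, C.form_smul_left,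
          C.form_smul_left, C.form_smul_right, C.form_smul_right, hx0, hpx, hpp] at h1
        linear_combination h1
      obtain ⟨l, hl⟩ := hκsurj (c0 / δ) (by
        rw [map_div₀, hδb, eq_neg_of_add_eq_zero_right htr, neg_div_neg_eq])
      exact ⟨l, fun v => by rw [hval v, hl]; congr 2; field_simp⟩
    have hsur : ∀ l, ∃ g : SUn, IsT C p g ∧ ∀ v, g.1.1 *ᵥ v = v + (κ l * (δ * C.form v p)) • p := by
      intro l
      have ht : κ l * δ + C.bar (κ l * δ) = 0 := by rw [map_mul, hκfix, hδb]; ring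
      refine ⟨C.tv p hpp _ ht, ⟨fun v => ⟨_, C.tv_mulVec p hpp _ ht v⟩, fun v hv => ?_⟩, fun v => ?_⟩
      · rw [C.tv_mulVec, hv, mul_zero, zero_smul, add_zero]
      · rw [C.tv_mulVec, mul_assoc]
    have hinA : ∀ g : SUn, IsT C p g → g ∈ A := fun g hg => Subgroup.subset_closure hg
    have htg := TG.closure (act F q n X) κ (act_injective X) hp (hne p hp)
      (by rw [hφ, hpp, mul_zero]) (fun l => by
        obtain ⟨g, hg, hgv⟩ := hsur l
        exact ⟨⟨g, hle A hAT (hinA g hg)⟩, LinearMap.ext fun v => by rw [tv_apply]; exact hgv v⟩)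
      (T := {g : ↥X | IsT C p g.1}) (fun g => by
        constructor
        · intro hg
          obtain ⟨l, hl⟩ := hgood g.1 hg
          exact ⟨l, LinearMap.ext fun v => by rw [tv_apply]; exact hl v⟩
        · rintro ⟨l, hl⟩
          refine ⟨fun v => ⟨κ l * φ p v, ?_⟩, fun v hv => ?_⟩
          · have := LinearMap.congr_fun hl v
            rw [tv_apply] at this
            exact this
          · have := LinearMap.congr_fun hl v
            rw [tv_apply, hφ, hv, mul_zero, mul_zero, zero_smul, add_zero] at this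
            exact this)
    refine ⟨hAT, ?_⟩
    convert htg using 1
    apply Subgroup.map_injective X.subtype_injective
    rw [CfsgLib.QuadPair.map_subgroupOf_le (hle A hAT), MonoidHom.map_closure, hAdef]
    congr 1
    ext g
    exact ⟨fun hg => ⟨⟨g, hle A hAT (hinA g hg)⟩, hg, rfl⟩, by rintro ⟨k, hk, rfl⟩; exact hk⟩
  have hTG : ∀ B ∈ S, ∃ p, p ≠ 0 ∧ C.form p p = 0 ∧ TG (act F q n X) κ p (φ p) B := by
    rintro _ ⟨A, hA, rfl⟩
    obtain ⟨p, hp, hpp, rfl⟩ := (hT A).1 hA
    exact ⟨p, hp, hpp, (hmk p hp hpp).2⟩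
  have hcomm : ∀ p r, φ p r = 0 → φ r p = 0 := by
    intro p r h
    rw [hφ, mul_eq_zero] at h
    rw [hφ, C.form_swap_zero (h.resolve_left hδ), mul_zero]
  have hγ : ∀ p r, ∃ γ, κ γ = φ p r * φ r p := by
    intro p r
    refine hκsurj _ ?_
    rw [hφ, hφ, map_mul, map_mul, map_mul, hδb, C.bar_form, C.bar_form]
    ring
  have hcases : ∀ A ∈ S, ∀ B ∈ S, ⁅A, B⁆ = ⊥ ∨
      (Cfsg.IsRankOnePair A B ∧ Cfsg.IsPSL2PairOver (Car (Fintype.card (fixedField C.bar))) A B) := by
    intro A hA B hB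
    obtain ⟨p, hp, -, hA'⟩ := hTG A hA
    obtain ⟨r, hr, -, hB'⟩ := hTG B hB
    by_cases h : φ p r = 0
    · exact Or.inl (commutator_eq_bot (act_injective X) hA' hB' h (hcomm p r h))
    · exact Or.inr (opposite (act_injective X) hA' hB' h (fun h2 => h (hcomm r p h2))
        (γ := (hγ p r).choose) (hγ p r).choose_spec)
  have hconn : Cfsg.IsConnectedFamily (Cfsg.FAdj S) S := by
    intro A hA B hB
    obtain ⟨p, hp, hpp, hA'⟩ := hTG A hA
    obtain ⟨r, hr, hrr, hB'⟩ := hTG B hB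
    obtain ⟨z, hzz, hzp, hzr⟩ : ∃ z, C.form z z = 0 ∧ C.form z p ≠ 0 ∧ C.form z r ≠ 0 := by
      by_cases hpr : C.form p r = 0
      · obtain ⟨u, hu1, hu2⟩ := exists_common (hne p hp) (hne r hr)
        rw [hφ, mul_ne_zero_iff] at hu1 hu2
        obtain ⟨t, ht⟩ := C.exists_trace (c := -C.form u u) (by rw [map_neg, C.form_self_fixed])
        have hpu : C.form p u ≠ 0 := fun e => hu1.2 (C.form_swap_zero e)
        refine ⟨u + (t / C.form p u) • p, ?_, ?_, ?_⟩
        · rw [C.form_add_left, C.form_add_right, C.form_add_right, C.form_smul_left, C.form_smul_left,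
            C.form_smul_right, C.form_smul_right, hpp, map_div₀, C.bar_form, mul_zero, mul_zero, add_zero,
            div_mul_cancel₀ _ hu1.2, div_mul_cancel₀ _ hpu]
          linear_combination ht
        · rw [C.form_add_left, C.form_smul_left, hpp, mul_zero, add_zero]; exact hu1.2
        · rw [C.form_add_left, C.form_smul_left, hpr, mul_zero, add_zero]; exact hu2.2
      · have hrp : C.form r p ≠ 0 := fun e => hpr (C.form_swap_zero e)
        refine ⟨p + (δ / C.form r p) • r, ?_, ?_, ?_⟩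
        · rw [C.form_add_left, C.form_add_right, C.form_add_right, C.form_smul_left, C.form_smul_left,
            C.form_smul_right, C.form_smul_right, hpp, hrr, map_div₀, C.bar_form, mul_zero, mul_zero,
            add_zero, div_mul_cancel₀ _ hpr, div_mul_cancel₀ _ hrp, zero_add]
          linear_combination hδ0
        · rw [C.form_add_left, C.form_smul_left, hpp, zero_add, div_mul_cancel₀ _ hrp]; exact hδ
        · rw [C.form_add_left, C.form_smul_left, hrr, mul_zero, add_zero]; exact hpr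
    have hz : z ≠ 0 := fun e => hzp (by rw [e, C.form_zero_left])
    obtain ⟨hCT, hC'⟩ := hmk z hz hzz
    have hCS : (Subgroup.closure {g | IsT C z g}).subgroupOf X ∈ S := ⟨_, hCT, rfl⟩
    have h1 : φ p z ≠ 0 := mul_ne_zero hδ hzp
    have h2 : φ r z ≠ 0 := mul_ne_zero hδ hzr
    have p1 := (opposite (act_injective X) hA' hC' h1 (fun e => h1 (hcomm z p e))
      (γ := (hγ p z).choose) (hγ p z).choose_spec).1
    have p2 := (opposite (act_injective X) hC' hB' (fun e => h2 (hcomm z r e)) h2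
      (γ := (hγ z r).choose) (hγ z r).choose_spec).1
    exact (Relation.ReflTransGen.single ⟨hA, hCS, p1⟩).trans (Relation.ReflTransGen.single ⟨hCS, hB, p2⟩)
  have hroot : Cfsg.IsRootSubgroupSet S := by
    refine ⟨fun A hA => (hTG A hA).choose_spec.2.2.comm (act_injective X),
      fun A hA => (hTG A hA).choose_spec.2.2.ne_bot, ?_, fun A hA g => ?_, fun A hA B hB => ?_⟩
    · apply Subgroup.map_injective X.subtype_injective
      rw [← MonoidHom.range_eq_map, Subgroup.range_subtype]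
      refine le_antisymm (Subgroup.map_subtype_le _) (iSup₂_le fun A hA => ?_)
      rw [← CfsgLib.QuadPair.map_subgroupOf_le (hle A hA)]
      exact Subgroup.map_mono (le_iSup₂ (f := fun (A : Subgroup ↥X) (_ : A ∈ S) => A) _ ⟨A, hA, rfl⟩)
    · obtain ⟨p, hp, hpp, hA'⟩ := hTG A hA
      have h1 := hA'.conj g
      have hgp : C.form (act F q n X g p) (act F q n X g p) = 0 := (C.form_su g.1 p p).trans hpp
      have h2 : (φ p) ∘ₗ act F q n X g⁻¹ = φ (act F q n X g p) := LinearMap.ext fun v => by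
        have e : act F q n X g (act F q n X g⁻¹ v) = v := by
          rw [← Module.End.mul_apply, ← map_mul, mul_inv_cancel, map_one, Module.End.one_apply]
        rw [LinearMap.comp_apply, hφ, hφ]
        conv_rhs => rw [← e]
        congr 1
        exact (C.form_su g.1 _ _).symm
      rw [h2] at h1
      obtain ⟨hBT, hB'⟩ := hmk _ h1.ne_x hgp
      exact ⟨_, hBT, (h1.unique hB').symm⟩
    · rcases hcases A hA B hB with h | h
      · exact Or.inl h
      · exact Or.inr (Or.inl h.1)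
  have hnonempty : S.Nonempty := by
    obtain ⟨p, hp, hpp⟩ := C.exists_isotropic hn
    exact ⟨_, _, (hmk p hp hpp).1, rfl⟩
  refine ⟨⟨hroot, hnonempty, fun A hA B hB => conj_of_path (hconn A hA B hB)⟩,
    fun A hA B hB h => ?_,
    ⟨Car (Fintype.card (fixedField C.bar)), inferInstance, inferInstance, hcard, hroot, fun A hA B hB h => ?_⟩,
    hconn⟩
  · rcases hcases A hA B hB with h' | h'
    · exact hroot.ne_bot _ h.1 h'
    · exact CfsgLib.RootSub.not_pair_of_case hroot hA h h'.1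
  · rcases hcases A hA B hB with h' | h'
    · exact absurd h' (CfsgLib.RootSub.not_commutator_bot h)
    · exact h'.2

end main

/-- Let F be a finite field with q² elements, n a natural number, and h the Hermitian form Σ uᵢ vᵢ^q on F^{n+2}. For a non-zero isotropic vector p let T(p) be the group of unitary transvections with centre ⟨p⟩: the elements of SU_{n+2}(q) moving every vector by a multiple of p and fixing every vector perpendicular to p. Let Σ be the set of these T(p) and G₀ the subgroup they generate. Then, viewed inside G₀, the members of Σ form a degenerate class of abstract k-root subgroups of G₀ for some field k with q elements (any two commute or are the unipotent subgroups of a rank one group that is an image of SL₂(k) with central kernel, never the commutator case), and their graph of rank one pairs is connected. -/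
theorem result (F : Type*) [Field F] [Fintype F] (q n : ℕ) (hF : Fintype.card F = q ^ 2) :
    Cfsg.IsRootSubgroupClass ((fun A : Subgroup ↥(Cfsg.SU (n + 2) F q) => A.subgroupOf (⨆ B ∈ {A : Subgroup ↥(Cfsg.SU (n + 2) F q) | ∃ p : Fin (n + 2) → F, p ≠ 0 ∧ Cfsg.hermForm (n + 2) F q p p = 0 ∧
          A = Subgroup.closure {g : ↥(Cfsg.SU (n + 2) F q) |
            (∀ v : Fin (n + 2) → F, ∃ c : F, ((g : Matrix.SpecialLinearGroup (Fin (n + 2)) F) : Matrix (Fin (n + 2)) (Fin (n + 2)) F) *ᵥ v = v + c • p) ∧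
            ∀ v : Fin (n + 2) → F, Cfsg.hermForm (n + 2) F q v p = 0 →
              ((g : Matrix.SpecialLinearGroup (Fin (n + 2)) F) : Matrix (Fin (n + 2)) (Fin (n + 2)) F) *ᵥ v = v}}, B)) ''
      {A : Subgroup ↥(Cfsg.SU (n + 2) F q) | ∃ p : Fin (n + 2) → F, p ≠ 0 ∧ Cfsg.hermForm (n + 2) F q p p = 0 ∧
          A = Subgroup.closure {g : ↥(Cfsg.SU (n + 2) F q) |
            (∀ v : Fin (n + 2) → F, ∃ c : F, ((g : Matrix.SpecialLinearGroup (Fin (n + 2)) F) : Matrix (Fin (n + 2)) (Fin (n + 2)) F) *ᵥ v = v + c • p) ∧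
            ∀ v : Fin (n + 2) → F, Cfsg.hermForm (n + 2) F q v p = 0 →
              ((g : Matrix.SpecialLinearGroup (Fin (n + 2)) F) : Matrix (Fin (n + 2)) (Fin (n + 2)) F) *ᵥ v = v}}) ∧
    Cfsg.IsDegenerateRootSet ((fun A : Subgroup ↥(Cfsg.SU (n + 2) F q) => A.subgroupOf (⨆ B ∈ {A : Subgroup ↥(Cfsg.SU (n + 2) F q) | ∃ p : Fin (n + 2) → F, p ≠ 0 ∧ Cfsg.hermForm (n + 2) F q p p = 0 ∧
          A = Subgroup.closure {g : ↥(Cfsg.SU (n + 2) F q) |
            (∀ v : Fin (n + 2) → F, ∃ c : F, ((g : Matrix.SpecialLinearGroup (Fin (n + 2)) F) : Matrix (Fin (n + 2)) (Fin (n + 2)) F) *ᵥ v = v + c • p) ∧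
            ∀ v : Fin (n + 2) → F, Cfsg.hermForm (n + 2) F q v p = 0 →
              ((g : Matrix.SpecialLinearGroup (Fin (n + 2)) F) : Matrix (Fin (n + 2)) (Fin (n + 2)) F) *ᵥ v = v}}, B)) ''
      {A : Subgroup ↥(Cfsg.SU (n + 2) F q) | ∃ p : Fin (n + 2) → F, p ≠ 0 ∧ Cfsg.hermForm (n + 2) F q p p = 0 ∧
          A = Subgroup.closure {g : ↥(Cfsg.SU (n + 2) F q) |
            (∀ v : Fin (n + 2) → F, ∃ c : F, ((g : Matrix.SpecialLinearGroup (Fin (n + 2)) F) : Matrix (Fin (n + 2)) (Fin (n + 2)) F) *ᵥ v = v + c • p) ∧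
            ∀ v : Fin (n + 2) → F, Cfsg.hermForm (n + 2) F q v p = 0 →
              ((g : Matrix.SpecialLinearGroup (Fin (n + 2)) F) : Matrix (Fin (n + 2)) (Fin (n + 2)) F) *ᵥ v = v}}) ∧
    (∃ (L : Type) (_ : Field L) (_ : Fintype L), Fintype.card L = q ∧ Cfsg.IsKRootSubgroupSet L ((fun A : Subgroup ↥(Cfsg.SU (n + 2) F q) => A.subgroupOf (⨆ B ∈ {A : Subgroup ↥(Cfsg.SU (n + 2) F q) | ∃ p : Fin (n + 2) → F, p ≠ 0 ∧ Cfsg.hermForm (n + 2) F q p p = 0 ∧
          A = Subgroup.closure {g : ↥(Cfsg.SU (n + 2) F q) |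
            (∀ v : Fin (n + 2) → F, ∃ c : F, ((g : Matrix.SpecialLinearGroup (Fin (n + 2)) F) : Matrix (Fin (n + 2)) (Fin (n + 2)) F) *ᵥ v = v + c • p) ∧
            ∀ v : Fin (n + 2) → F, Cfsg.hermForm (n + 2) F q v p = 0 →
              ((g : Matrix.SpecialLinearGroup (Fin (n + 2)) F) : Matrix (Fin (n + 2)) (Fin (n + 2)) F) *ᵥ v = v}}, B)) ''
      {A : Subgroup ↥(Cfsg.SU (n + 2) F q) | ∃ p : Fin (n + 2) → F, p ≠ 0 ∧ Cfsg.hermForm (n + 2) F q p p = 0 ∧
          A = Subgroup.closure {g : ↥(Cfsg.SU (n + 2) F q) |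
            (∀ v : Fin (n + 2) → F, ∃ c : F, ((g : Matrix.SpecialLinearGroup (Fin (n + 2)) F) : Matrix (Fin (n + 2)) (Fin (n + 2)) F) *ᵥ v = v + c • p) ∧
            ∀ v : Fin (n + 2) → F, Cfsg.hermForm (n + 2) F q v p = 0 →
              ((g : Matrix.SpecialLinearGroup (Fin (n + 2)) F) : Matrix (Fin (n + 2)) (Fin (n + 2)) F) *ᵥ v = v}})) ∧
    Cfsg.IsConnectedFamily (Cfsg.FAdj ((fun A : Subgroup ↥(Cfsg.SU (n + 2) F q) => A.subgroupOf (⨆ B ∈ {A : Subgroup ↥(Cfsg.SU (n + 2) F q) | ∃ p : Fin (n + 2) → F, p ≠ 0 ∧ Cfsg.hermForm (n + 2) F q p p = 0 ∧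
          A = Subgroup.closure {g : ↥(Cfsg.SU (n + 2) F q) |
            (∀ v : Fin (n + 2) → F, ∃ c : F, ((g : Matrix.SpecialLinearGroup (Fin (n + 2)) F) : Matrix (Fin (n + 2)) (Fin (n + 2)) F) *ᵥ v = v + c • p) ∧
            ∀ v : Fin (n + 2) → F, Cfsg.hermForm (n + 2) F q v p = 0 →
              ((g : Matrix.SpecialLinearGroup (Fin (n + 2)) F) : Matrix (Fin (n + 2)) (Fin (n + 2)) F) *ᵥ v = v}}, B)) ''
      {A : Subgroup ↥(Cfsg.SU (n + 2) F q) | ∃ p : Fin (n + 2) → F, p ≠ 0 ∧ Cfsg.hermForm (n + 2) F q p p = 0 ∧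
          A = Subgroup.closure {g : ↥(Cfsg.SU (n + 2) F q) |
            (∀ v : Fin (n + 2) → F, ∃ c : F, ((g : Matrix.SpecialLinearGroup (Fin (n + 2)) F) : Matrix (Fin (n + 2)) (Fin (n + 2)) F) *ᵥ v = v + c • p) ∧
            ∀ v : Fin (n + 2) → F, Cfsg.hermForm (n + 2) F q v p = 0 →
              ((g : Matrix.SpecialLinearGroup (Fin (n + 2)) F) : Matrix (Fin (n + 2)) (Fin (n + 2)) F) *ᵥ v = v}})) ((fun A : Subgroup ↥(Cfsg.SU (n + 2) F q) => A.subgroupOf (⨆ B ∈ {A : Subgroup ↥(Cfsg.SU (n + 2) F q) | ∃ p : Fin (n + 2) → F, p ≠ 0 ∧ Cfsg.hermForm (n + 2) F q p p = 0 ∧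
          A = Subgroup.closure {g : ↥(Cfsg.SU (n + 2) F q) |
            (∀ v : Fin (n + 2) → F, ∃ c : F, ((g : Matrix.SpecialLinearGroup (Fin (n + 2)) F) : Matrix (Fin (n + 2)) (Fin (n + 2)) F) *ᵥ v = v + c • p) ∧
            ∀ v : Fin (n + 2) → F, Cfsg.hermForm (n + 2) F q v p = 0 →
              ((g : Matrix.SpecialLinearGroup (Fin (n + 2)) F) : Matrix (Fin (n + 2)) (Fin (n + 2)) F) *ᵥ v = v}}, B)) ''
      {A : Subgroup ↥(Cfsg.SU (n + 2) F q) | ∃ p : Fin (n + 2) → F, p ≠ 0 ∧ Cfsg.hermForm (n + 2) F q p p = 0 ∧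
          A = Subgroup.closure {g : ↥(Cfsg.SU (n + 2) F q) |
            (∀ v : Fin (n + 2) → F, ∃ c : F, ((g : Matrix.SpecialLinearGroup (Fin (n + 2)) F) : Matrix (Fin (n + 2)) (Fin (n + 2)) F) *ᵥ v = v + c • p) ∧
            ∀ v : Fin (n + 2) → F, Cfsg.hermForm (n + 2) F q v p = 0 →
              ((g : Matrix.SpecialLinearGroup (Fin (n + 2)) F) : Matrix (Fin (n + 2)) (Fin (n + 2)) F) *ᵥ v = v}}) := by
  obtain ⟨C⟩ := CfsgLib.Classical.uctx_exists hF
  refine main C (by omega) hF _ fun A => ?_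
  have e : ∀ u v : Fin (n + 2) → F, Cfsg.hermForm (n + 2) F q u v = C.form u v := fun u v => C.hermForm_eq u v
  simp only [Set.mem_setOf_eq, e]
  rfl

end Cfsg.Agent.S5071
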