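import Cfsg.Statements.S5072
import Cfsg.Agent.Lib.RootSub.SqZero
import Cfsg.Agent.Lib.RootSub.Siegel
import Cfsg.Agent.Lib.QuadPair.Transfer

set_option autoImplicit false
open Matrix
open Cfsg

namespace Cfsg.Agent.S5072

open CfsgLib.Siegel CfsgLib.SqZero
open scoped commutatorElement

section

variable {F : Type*} [Field F] {n : ℕ}

set_option quotPrecheck false
local notation "V" => (Fin n ⊕ Fin n → F)
local notation "Og" => ↥(Cfsg.isometryGroup F (Cfsg.quadFormPlus n F))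

variable (F n) in
/-- the polar form -/
def pol : V →ₗ[F] V →ₗ[F] F :=
  LinearMap.mk₂ F (fun v w => ∑ i : Fin n, (v (.inl i) * w (.inr i) + w (.inl i) * v (.inr i)))
    (fun a b c => by simp [← Finset.sum_add_distrib]; exact Finset.sum_congr rfl fun i _ => by ring)
    (fun r a b => by simp [Finset.mul_sum]; exact Finset.sum_congr rfl fun i _ => by ring)
    (fun a b c => by simp [← Finset.sum_add_distrib]; exact Finset.sum_congr rfl fun i _ => by ring)
    (fun r a b => by simp [Finset.mul_sum]; exact Finset.sum_congr rfl fun i _ => by ring)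

theorem pol_apply (v w : V) :
    pol F n v w = ∑ i : Fin n, (v (.inl i) * w (.inr i) + w (.inl i) * v (.inr i)) := rfl

theorem isQuad : Quad (Cfsg.quadFormPlus n F) (pol F n) where
  add v w := by
    simp only [Cfsg.quadFormPlus, pol_apply, Pi.add_apply, ← Finset.sum_add_distrib]
    exact Finset.sum_congr rfl fun i _ => by ring
  smul c v := by
    simp only [Cfsg.quadFormPlus, Pi.smul_apply, smul_eq_mul, Finset.mul_sum]
    exact Finset.sum_congr rfl fun i _ => by ring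
  nondeg v h := funext fun i => by
    rcases i with i | i
    · simpa [pol_apply, Pi.single_apply] using h (Pi.single (.inr i) 1)
    · simpa [pol_apply, Pi.single_apply] using h (Pi.single (.inl i) 1)

theorem polar_eq (v w : V) :
    Cfsg.quadFormPlus n F (v + w) - Cfsg.quadFormPlus n F v - Cfsg.quadFormPlus n F w = pol F n v w := by
  rw [isQuad.add]; ring

variable (F n) in
/-- the natural action -/
def act : Og →* Module.End F V where
  toFun g := Matrix.mulVecLin ((g : Matrix.GeneralLinearGroup (Fin n ⊕ Fin n) F) : Matrix (Fin n ⊕ Fin n) (Fin n ⊕ Fin n) F)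
  map_one' := LinearMap.ext fun v => by simp
  map_mul' g h := LinearMap.ext fun v => by simp [Matrix.mulVec_mulVec]

theorem act_injective : Function.Injective (act F n) := fun g h e =>
  Subtype.ext (Units.ext (Matrix.toLin'.injective e))

theorem act_iso (g : Og) (v : V) : Cfsg.quadFormPlus n F (act F n g v) = Cfsg.quadFormPlus n F v :=
  g.2 v v

theorem act_surj {p r : V} (h : Ln (Cfsg.quadFormPlus n F) (p, r)) (c : F) :
    ∃ g, act F n g = 1 + c • Sg (pol F n) p r := by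
  obtain ⟨L, hL⟩ : ∃ L : F → Module.End F V, ∀ d, L d = 1 + d • Sg (pol F n) p r := ⟨_, fun d => rfl⟩
  have hmul : ∀ a b : F, LinearMap.toMatrix' (L a) * LinearMap.toMatrix' (L b) = LinearMap.toMatrix' (L (a + b)) := by
    intro a b
    rw [← LinearMap.toMatrix'_comp]
    congr 1
    rw [← Module.End.mul_eq_comp, hL, hL, hL]
    exact mul_one_add (Sg_sq isQuad h) a b
  have h1 : LinearMap.toMatrix' (L 0) = 1 := by
    rw [hL, zero_smul, add_zero, Module.End.one_eq_id, LinearMap.toMatrix'_id]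
  let g : Matrix.GeneralLinearGroup (Fin n ⊕ Fin n) F :=
    ⟨LinearMap.toMatrix' (L c), LinearMap.toMatrix' (L (-c)), by rw [hmul, add_neg_cancel, h1],
      by rw [hmul, neg_add_cancel, h1]⟩
  have hg : ∀ v, (g : Matrix (Fin n ⊕ Fin n) (Fin n ⊕ Fin n) F) *ᵥ v = L c v := fun v => by
    show LinearMap.toMatrix' (L c) *ᵥ v = _
    rw [LinearMap.toMatrix'_mulVec]
  refine ⟨⟨g, fun u v => ?_⟩, LinearMap.ext fun v => ?_⟩
  · show Cfsg.quadFormPlus n F ((g : Matrix (Fin n ⊕ Fin n) (Fin n ⊕ Fin n) F) *ᵥ u) = _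
    rw [hg, hL]
    exact Sg_preserves isQuad h c u
  · show (g : Matrix (Fin n ⊕ Fin n) (Fin n ⊕ Fin n) F) *ᵥ v = _
    rw [hg, hL]

theorem exists_ts : ∃ E : Submodule F V, TS (Cfsg.quadFormPlus n F) E ∧ n ≤ Module.finrank F E := by
  obtain ⟨L, hL⟩ : ∃ L : (Fin n → F) →ₗ[F] V, ∀ x, L x = Sum.elim x 0 :=
    ⟨{ toFun := fun x => Sum.elim x 0
       map_add' := fun a b => funext fun i => by rcases i with i | i <;> simp
       map_smul' := fun a b => funext fun i => by rcases i with i | i <;> simp }, fun x => rfl⟩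
  refine ⟨LinearMap.range L, ?_, ?_⟩
  · rintro _ ⟨x, rfl⟩
    rw [hL]
    exact Finset.sum_eq_zero fun i _ => by simp
  · rw [LinearMap.finrank_range_of_inj fun a b hab => funext fun i => by
      simpa [hL] using congrFun hab (Sum.inl i), Module.finrank_fin_fun]

theorem main (hn : 3 ≤ n) (T : Set (Subgroup Og))
    (hT : ∀ A, A ∈ T ↔ ∃ p r : V, LinearIndependent F ![p, r] ∧ Cfsg.quadFormPlus n F p = 0 ∧
      Cfsg.quadFormPlus n F r = 0 ∧ Cfsg.quadFormPlus n F (p + r) = 0 ∧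
      A = Subgroup.closure {σ : Og | ∀ v : V,
        Cfsg.quadFormPlus n F (v + p) - Cfsg.quadFormPlus n F v - Cfsg.quadFormPlus n F p = 0 →
        Cfsg.quadFormPlus n F (v + r) - Cfsg.quadFormPlus n F v - Cfsg.quadFormPlus n F r = 0 →
        act F n σ v = v}) :
    Cfsg.IsKRootSubgroupSet F ((fun A : Subgroup Og => A.subgroupOf (⨆ B ∈ T, B)) '' T) ∧
      Cfsg.IsConnectedFamily (Cfsg.FAdj T) T := by
  classical
  obtain ⟨E₀, hE₀, hdim⟩ := exists_ts (F := F) (n := n)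
  have hle : ∀ A ∈ T, A ≤ ⨆ B ∈ T, B := fun A hA => le_iSup₂ (f := fun (A : Subgroup Og) (_ : A ∈ T) => A) A hA
  have hmk : ∀ ℓ : V × V, Ln (Cfsg.quadFormPlus n F) ℓ →
      ∃ A ∈ T, SG (F := F) (act F n) (Sg (pol F n) ℓ.1 ℓ.2) A := fun ℓ hℓ => by
    refine ⟨_, (hT _).2 ⟨ℓ.1, ℓ.2, hℓ.1, hℓ.2.1, hℓ.2.2.1, hℓ.2.2.2, rfl⟩,
      SG.closure _ act_injective (Sg_ne_zero isQuad hℓ) (Sg_sq isQuad hℓ) (act_surj hℓ) fun g => ?_⟩
    simp only [Set.mem_setOf_eq, polar_eq]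
    refine ⟨fun hg => eq_siegel isQuad hℓ (act_iso g) hg, fun ⟨c, hc⟩ v h1 h2 => ?_⟩
    rw [hc, fix_apply h1 h2]
  have hTG : ∀ A ∈ T, ∃ ℓ, Ln (Cfsg.quadFormPlus n F) ℓ ∧ SG (F := F) (act F n) (Sg (pol F n) ℓ.1 ℓ.2) A := by
    intro A hA
    obtain ⟨p, r, h1, h2, h3, h4, rfl⟩ := (hT A).1 hA
    refine ⟨(p, r), ⟨h1, h2, h3, h4⟩,
      SG.closure _ act_injective (Sg_ne_zero isQuad ⟨h1, h2, h3, h4⟩) (Sg_sq isQuad ⟨h1, h2, h3, h4⟩)
        (act_surj ⟨h1, h2, h3, h4⟩) fun g => ?_⟩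
    simp only [Set.mem_setOf_eq, polar_eq]
    refine ⟨fun hg => eq_siegel isQuad ⟨h1, h2, h3, h4⟩ (act_iso g) hg, fun ⟨c, hc⟩ v e1 e2 => ?_⟩
    rw [hc, fix_apply e1 e2]
  have hopp : ∀ A B ℓ m, Ln (Cfsg.quadFormPlus n F) ℓ → Ln (Cfsg.quadFormPlus n F) m →
      SG (F := F) (act F n) (Sg (pol F n) ℓ.1 ℓ.2) A → SG (F := F) (act F n) (Sg (pol F n) m.1 m.2) B →
      gam (pol F n) ℓ m ≠ 0 → Cfsg.IsRankOnePair A B := fun A B ℓ m hℓ hm hA hB h =>
    (opposite act_injective hA hB h (Sg_triple isQuad hℓ hm) (by rw [gam_comm isQuad]; exact Sg_triple isQuad hm hℓ)).1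
  have hconn : Cfsg.IsConnectedFamily (Cfsg.FAdj T) T := by
    intro A hA B hB
    obtain ⟨ℓ, hℓ, hAℓ⟩ := hTG A hA
    obtain ⟨m, hm, hBm⟩ := hTG B hB
    suffices ∀ m, Reach (Cfsg.quadFormPlus n F) (pol F n) ℓ m → ∀ B ∈ T,
        SG (F := F) (act F n) (Sg (pol F n) m.1 m.2) B → Relation.ReflTransGen (Cfsg.FAdj T) A B from
      this m (connected isQuad hE₀ (hn.trans hdim) hℓ hm) B hB hBm
    intro m h
    induction h with
    | refl =>
      intro B _ hB'
      rw [SG.unique hAℓ hB' one_ne_zero (one_smul F _).symm]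
    | @tail x y _ hxy ih =>
      intro B hB hB'
      obtain ⟨C, hC, hC'⟩ := hmk x hxy.1
      exact (ih C hC hC').tail ⟨hC, hB, hopp C B x y hxy.1 hxy.2.1 hC' hB' hxy.2.2⟩
  obtain ⟨X, hX⟩ : ∃ X, X = ⨆ B ∈ T, B := ⟨_, rfl⟩
  rw [← hX] at hle ⊢
  obtain ⟨S, hS⟩ : ∃ S, S = (fun A : Subgroup Og => A.subgroupOf X) '' T := ⟨_, rfl⟩
  rw [← hS]
  have hι : Function.Injective ((act F n).comp X.subtype) := act_injective.comp X.subtype_injective
  have hTG' : ∀ A ∈ S, ∃ ℓ, Ln (Cfsg.quadFormPlus n F) ℓ ∧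
      SG (F := F) ((act F n).comp X.subtype) (Sg (pol F n) ℓ.1 ℓ.2) A := by
    rw [hS]
    rintro _ ⟨A, hA, rfl⟩
    obtain ⟨ℓ, hℓ, h⟩ := hTG A hA
    exact ⟨ℓ, hℓ, h.subgroupOf (hle A hA)⟩
  have hmk' : ∀ ℓ : V × V, Ln (Cfsg.quadFormPlus n F) ℓ →
      ∃ A ∈ S, SG (F := F) ((act F n).comp X.subtype) (Sg (pol F n) ℓ.1 ℓ.2) A := fun ℓ hℓ => by
    obtain ⟨A, hA, h⟩ := hmk ℓ hℓ
    exact ⟨_, hS ▸ ⟨A, hA, rfl⟩, h.subgroupOf (hle A hA)⟩
  have hcases : ∀ A ∈ S, ∀ B ∈ S, ⁅A, B⁆ = ⊥ ∨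
      (Cfsg.IsRankOnePair A B ∧ Cfsg.IsPSL2PairOver F A B) ∨ Cfsg.RootCommutatorCase S A B := by
    intro A hA B hB
    obtain ⟨⟨p, r⟩, hℓ, hA'⟩ := hTG' A hA
    obtain ⟨⟨p', r'⟩, hm, hB'⟩ := hTG' B hB
    by_cases h : gam (pol F n) (p, r) (p', r') = 0
    · obtain ⟨x, y, he, h1, h2, h3, h4, h5 | h5⟩ := degenerate isQuad hℓ hm h
      · exact Or.inl (commutator_eq_bot hι hA' hB' (sub_eq_zero.1 (he.trans h5)))
      · obtain ⟨C, hC, hC'⟩ := hmk' (y, x) h5
        exact Or.inr (Or.inr (commutatorCase hι hA' hB' hC' he h1 h2 h3 h4 hC))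
    · exact Or.inr (Or.inl (opposite hι hA' hB' h (Sg_triple isQuad hℓ hm)
        (by rw [gam_comm isQuad]; exact Sg_triple isQuad hm hℓ)))
  have hroot : Cfsg.IsRootSubgroupSet S := by
    refine ⟨fun A hA => (hTG' A hA).choose_spec.2.comm hι, fun A hA => (hTG' A hA).choose_spec.2.ne_bot, ?_,
      fun A hA g => ?_, fun A hA B hB => ?_⟩
    · apply Subgroup.map_injective X.subtype_injective
      rw [← MonoidHom.range_eq_map, X.range_subtype, Subgroup.map_iSup]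
      refine le_antisymm (iSup_le fun A => ?_) ?_
      · rw [Subgroup.map_iSup]
        exact iSup_le fun _ => Subgroup.map_subtype_le _
      · conv_lhs => rw [hX]
        refine iSup₂_le fun A hA => le_iSup_of_le (A.subgroupOf X) ?_
        rw [Subgroup.map_iSup]
        refine le_iSup_of_le (hS ▸ ⟨A, hA, rfl⟩) ?_
        rw [CfsgLib.QuadPair.map_subgroupOf_le (hle A hA)]
    · obtain ⟨ℓ, hℓ, hA'⟩ := hTG' A hA
      have h1 := hA'.conj g
      have hq := fun v => act_iso (g : Og) v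
      have hinv : ∀ v, act F n (g : Og) (act F n ((g⁻¹ : ↥X) : Og) v) = v := fun v => by
        rw [← Module.End.mul_apply, ← map_mul, Subgroup.coe_inv, mul_inv_cancel, map_one, Module.End.one_apply]
      rw [show ((act F n).comp X.subtype) g * Sg (pol F n) ℓ.1 ℓ.2 * ((act F n).comp X.subtype) g⁻¹ =
        Sg (pol F n) (act F n (g : Og) ℓ.1) (act F n (g : Og) ℓ.2) from Sg_conj isQuad hq hinv ℓ.1 ℓ.2] at h1
      have hinj : LinearMap.ker (act F n (g : Og)) = ⊥ := LinearMap.ker_eq_bot.2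
        (Function.LeftInverse.injective (g := act F n ((g⁻¹ : ↥X) : Og)) fun v => by
          rw [← Module.End.mul_apply, ← map_mul, Subgroup.coe_inv, inv_mul_cancel, map_one, Module.End.one_apply])
      have hℓ' : Ln (Cfsg.quadFormPlus n F) (act F n (g : Og) ℓ.1, act F n (g : Og) ℓ.2) := by
        refine ⟨?_, (hq _).trans hℓ.2.1, (hq _).trans hℓ.2.2.1, ?_⟩
        · have := hℓ.1.map' (act F n (g : Og)) hinj
          rw [show (act F n (g : Og)) ∘ ![ℓ.1, ℓ.2] = ![act F n (g : Og) ℓ.1, act F n (g : Og) ℓ.2] from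
            funext fun i => by fin_cases i <;> rfl] at this
          exact this
        · rw [← map_add, hq]; exact hℓ.2.2.2
      obtain ⟨B, hB, hB'⟩ := hmk' _ hℓ'
      rw [SG.unique h1 hB' one_ne_zero (one_smul F _).symm]
      exact hB
    · rcases hcases A hA B hB with h | h | h
      · exact Or.inl h
      · exact Or.inr (Or.inl h.1)
      · exact Or.inr (Or.inr h)
  refine ⟨⟨hroot, fun A hA B hB hp => ?_⟩, hconn⟩
  rcases hcases A hA B hB with h | h | h
  · exact absurd h (CfsgLib.RootSub.not_commutator_bot hp)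
  · exact h.2
  · exact absurd hp (CfsgLib.RootSub.not_pair_of_case hroot hA h)

end

/-- Let F be a field, m a natural number and V = F^{2(m+3)} with the hyperbolic quadratic form q(x, y) = Σ xᵢ yᵢ (non-degenerate, Witt index m + 3 ≥ 3). For a singular line ℓ (a 2-dimensional subspace on which q vanishes) let T(ℓ) be the group of isometries of q fixing every vector of ℓ^⊥ (the Siegel transvection group of ℓ), let Σ be the set of these groups and G₀ the subgroup they generate. Then, viewed inside G₀, the members of Σ form a set of abstract F-root subgroups of G₀ (any two commute, or are the unipotent subgroups of a rank one group that is an image of SL₂(F) with central kernel, or satisfy the commutator case), and their graph of rank one pairs is connected. -/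
theorem result (F : Type*) [Field F] (m : ℕ) :
    Cfsg.IsKRootSubgroupSet F ((fun A : Subgroup ↥(Cfsg.isometryGroup F (Cfsg.quadFormPlus (m + 3) F)) => A.subgroupOf (⨆ B ∈ {A : Subgroup ↥(Cfsg.isometryGroup F (Cfsg.quadFormPlus (m + 3) F)) | ∃ p r : Fin (m + 3) ⊕ Fin (m + 3) → F, LinearIndependent F ![p, r] ∧
          Cfsg.quadFormPlus (m + 3) F p = 0 ∧ Cfsg.quadFormPlus (m + 3) F r = 0 ∧
          Cfsg.quadFormPlus (m + 3) F (p + r) = 0 ∧
          A = Subgroup.closure {σ : ↥(Cfsg.isometryGroup F (Cfsg.quadFormPlus (m + 3) F)) | ∀ v : Fin (m + 3) ⊕ Fin (m + 3) → F,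
            Cfsg.quadFormPlus (m + 3) F (v + p) - Cfsg.quadFormPlus (m + 3) F v - Cfsg.quadFormPlus (m + 3) F p = 0 →
            Cfsg.quadFormPlus (m + 3) F (v + r) - Cfsg.quadFormPlus (m + 3) F v - Cfsg.quadFormPlus (m + 3) F r = 0 →
              ((σ : Matrix.GeneralLinearGroup (Fin (m + 3) ⊕ Fin (m + 3)) F) : Matrix (Fin (m + 3) ⊕ Fin (m + 3)) (Fin (m + 3) ⊕ Fin (m + 3)) F) *ᵥ v = v}}, B)) ''
      {A : Subgroup ↥(Cfsg.isometryGroup F (Cfsg.quadFormPlus (m + 3) F)) | ∃ p r : Fin (m + 3) ⊕ Fin (m + 3) → F, LinearIndependent F ![p, r] ∧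
          Cfsg.quadFormPlus (m + 3) F p = 0 ∧ Cfsg.quadFormPlus (m + 3) F r = 0 ∧
          Cfsg.quadFormPlus (m + 3) F (p + r) = 0 ∧
          A = Subgroup.closure {σ : ↥(Cfsg.isometryGroup F (Cfsg.quadFormPlus (m + 3) F)) | ∀ v : Fin (m + 3) ⊕ Fin (m + 3) → F,
            Cfsg.quadFormPlus (m + 3) F (v + p) - Cfsg.quadFormPlus (m + 3) F v - Cfsg.quadFormPlus (m + 3) F p = 0 →
            Cfsg.quadFormPlus (m + 3) F (v + r) - Cfsg.quadFormPlus (m + 3) F v - Cfsg.quadFormPlus (m + 3) F r = 0 →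
              ((σ : Matrix.GeneralLinearGroup (Fin (m + 3) ⊕ Fin (m + 3)) F) : Matrix (Fin (m + 3) ⊕ Fin (m + 3)) (Fin (m + 3) ⊕ Fin (m + 3)) F) *ᵥ v = v}}) ∧
    Cfsg.IsConnectedFamily (Cfsg.FAdj {A : Subgroup ↥(Cfsg.isometryGroup F (Cfsg.quadFormPlus (m + 3) F)) | ∃ p r : Fin (m + 3) ⊕ Fin (m + 3) → F, LinearIndependent F ![p, r] ∧
          Cfsg.quadFormPlus (m + 3) F p = 0 ∧ Cfsg.quadFormPlus (m + 3) F r = 0 ∧
          Cfsg.quadFormPlus (m + 3) F (p + r) = 0 ∧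
          A = Subgroup.closure {σ : ↥(Cfsg.isometryGroup F (Cfsg.quadFormPlus (m + 3) F)) | ∀ v : Fin (m + 3) ⊕ Fin (m + 3) → F,
            Cfsg.quadFormPlus (m + 3) F (v + p) - Cfsg.quadFormPlus (m + 3) F v - Cfsg.quadFormPlus (m + 3) F p = 0 →
            Cfsg.quadFormPlus (m + 3) F (v + r) - Cfsg.quadFormPlus (m + 3) F v - Cfsg.quadFormPlus (m + 3) F r = 0 →
              ((σ : Matrix.GeneralLinearGroup (Fin (m + 3) ⊕ Fin (m + 3)) F) : Matrix (Fin (m + 3) ⊕ Fin (m + 3)) (Fin (m + 3) ⊕ Fin (m + 3)) F) *ᵥ v = v}})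
      {A : Subgroup ↥(Cfsg.isometryGroup F (Cfsg.quadFormPlus (m + 3) F)) | ∃ p r : Fin (m + 3) ⊕ Fin (m + 3) → F, LinearIndependent F ![p, r] ∧
          Cfsg.quadFormPlus (m + 3) F p = 0 ∧ Cfsg.quadFormPlus (m + 3) F r = 0 ∧
          Cfsg.quadFormPlus (m + 3) F (p + r) = 0 ∧
          A = Subgroup.closure {σ : ↥(Cfsg.isometryGroup F (Cfsg.quadFormPlus (m + 3) F)) | ∀ v : Fin (m + 3) ⊕ Fin (m + 3) → F,
            Cfsg.quadFormPlus (m + 3) F (v + p) - Cfsg.quadFormPlus (m + 3) F v - Cfsg.quadFormPlus (m + 3) F p = 0 →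
            Cfsg.quadFormPlus (m + 3) F (v + r) - Cfsg.quadFormPlus (m + 3) F v - Cfsg.quadFormPlus (m + 3) F r = 0 →
              ((σ : Matrix.GeneralLinearGroup (Fin (m + 3) ⊕ Fin (m + 3)) F) : Matrix (Fin (m + 3) ⊕ Fin (m + 3)) (Fin (m + 3) ⊕ Fin (m + 3)) F) *ᵥ v = v}} := by
  exact main (F := F) (n := m + 3) (Nat.le_add_left 3 m) _ fun A => Iff.rfl

end Cfsg.Agent.S5072
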