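import Cfsg.Statements.S5075
import Cfsg.Agent.Lib.RootSub.Pairs.Split
import Cfsg.Agent.Lib.RootSub.Pairs.Coord

set_option autoImplicit false
open Cfsg

namespace Cfsg.Agent.S5075

open Module CfsgLib.RootSub.Pairs

/-- the automorphisms fixing every vector of a subspace -/
def fixOn {F V : Type*} [Field F] [AddCommGroup V] [Module F V] (S : Submodule F V) : Subgroup (V ≃ₗ[F] V) where
  carrier := {g | ∀ v ∈ S, g v = v}
  one_mem' := fun v _ => rfl
  mul_mem' := fun {a b} ha hb v hv => by rw [LinearEquiv.mul_apply, hb v hv, ha v hv]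
  inv_mem' := fun {a} ha v hv => a.injective (by rw [← LinearEquiv.mul_apply, mul_inv_cancel, ha v hv]; rfl)

theorem exists_data {p : ℕ} [Fact p.Prime] {V : Type*} [AddCommGroup V] [Module (ZMod p) V] [Finite V]
    {H : Subgroup (V ≃ₗ[ZMod p] V)} {t : V ≃ₗ[ZMod p] V} (htH : t ∈ H) (ho : orderOf t = p)
    (hr : finrank (ZMod p) ↥(LinearMap.ker ((t : V →ₗ[ZMod p] V) - LinearMap.id)) + 1 = finrank (ZMod p) V) :
    ∃ u φ, XH H u φ ∧ Tv t u φ := by
  obtain ⟨f, hf⟩ : ∃ f, f = (t : V →ₗ[ZMod p] V) - LinearMap.id := ⟨_, rfl⟩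
  rw [← hf] at hr
  have hfv : ∀ v, f v = t v - v := fun v => by rw [hf]; rfl
  have h1 : finrank (ZMod p) (LinearMap.range f) = 1 := by
    have := LinearMap.finrank_range_add_finrank_ker f; omega
  obtain ⟨⟨u, hu⟩, hu0, hspan⟩ := finrank_eq_one_iff'.1 h1
  have hu0' : u ≠ 0 := fun h => hu0 (Subtype.ext h)
  obtain ⟨θ, hθ⟩ : ∃ θ : Dual (ZMod p) V, θ u ≠ 0 := by
    by_contra hno
    exact hu0' ((Module.forall_dual_apply_eq_zero_iff (ZMod p) u).1 fun θ => by_contra fun h => hno ⟨θ, h⟩)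
  have htv : Tv t u ((θ u)⁻¹ • θ.comp f) := fun v => by
    obtain ⟨c, hc⟩ := hspan ⟨f v, LinearMap.mem_range_self f v⟩
    have hc' : c • u = f v := congrArg Subtype.val hc
    rw [LinearMap.smul_apply, LinearMap.comp_apply, ← hc', map_smul, smul_eq_mul, smul_eq_mul, mul_left_comm,
      inv_mul_cancel₀ hθ, mul_one, hc', hfv, add_sub_cancel]
  generalize (θ u)⁻¹ • θ.comp f = φ at htv
  have hφ0 : φ ≠ 0 := by
    rintro rfl
    obtain ⟨v, hv⟩ := hu
    rw [hfv, htv] at hv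
    exact hu0' (by simpa using hv.symm)
  refine ⟨u, φ, ⟨hu0', hφ0, ?_, t, htH, htv⟩, htv⟩
  have hpow : ∀ k : ℕ, (t ^ k) u = (1 + φ u) ^ k • u := by
    intro k
    induction k with
    | zero => simp
    | succ k ih => rw [pow_succ', LinearEquiv.mul_apply, ih, map_smul, htv, pow_succ, mul_smul, add_smul, one_smul]
  have h2 := hpow p
  rw [orderOf_dvd_iff_pow_eq_one.1 (by rw [ho] : orderOf t ∣ p), ZMod.pow_card, add_smul, one_smul, LinearEquiv.coe_one, id_eq,
    left_eq_add] at h2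
  exact (smul_eq_zero.1 h2).resolve_right hu0'

/-- Let p be an odd prime, V a finite-dimensional vector space over the field with p elements, and H a group of linear automorphisms of V generated by transvections (elements of order p fixing a hyperplane pointwise) and having no nontrivial normal p-subgroup. Then for some n ≥ 1 there are a decomposition V = V₀ ⊕ V₁ ⊕ ⋯ ⊕ Vₙ into H-invariant subspaces and a decomposition of H as the internal direct product of normal subgroups H₁, …, Hₙ such that Hⱼ acts trivially on every Vᵢ with i ≠ j, and Hⱼ induces on Vⱼ exactly the special linear group of Vⱼ or exactly the isometry group of a non-degenerate alternating form on Vⱼ. -/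
theorem result {p : ℕ} [Fact p.Prime] (hp : Odd p) {V : Type*} [AddCommGroup V] [Module (ZMod p) V] [Finite V]
    (H : Subgroup (V ≃ₗ[ZMod p] V)) (T : Set (V ≃ₗ[ZMod p] V)) (hHT : H = Subgroup.closure T)
    (hT : ∀ t ∈ T, orderOf t = p ∧
      Module.finrank (ZMod p) ↥(LinearMap.ker ((t : V →ₗ[ZMod p] V) - LinearMap.id)) + 1 =
        Module.finrank (ZMod p) V)
    (hOp : Cfsg.pCore p ↥H = ⊥) :
    ∃ (n : ℕ) (W : Fin (n + 1) → Submodule (ZMod p) V) (K : Fin n → Subgroup (V ≃ₗ[ZMod p] V)),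
      1 ≤ n ∧ DirectSum.IsInternal W ∧
      (∀ h ∈ H, ∀ i, (W i).map (h : V →ₗ[ZMod p] V) = W i) ∧
      (∀ j, K j ≤ H ∧ ((K j).subgroupOf H).Normal) ∧ ⨆ j, K j = H ∧
      (∀ j, K j ⊓ (⨆ j' ∈ {j' : Fin n | j' ≠ j}, K j') = ⊥) ∧
      (∀ j j', j ≠ j' → ∀ a ∈ K j, ∀ b ∈ K j', a * b = b * a) ∧
      (∀ j, ∀ h ∈ K j, ∀ i : Fin (n + 1), i ≠ j.succ → ∀ v ∈ W i, h v = v) ∧
      (∀ j, ∃ ρ : ↥(K j) →* (↥(W j.succ) ≃ₗ[ZMod p] ↥(W j.succ)),
        (∀ (h : ↥(K j)) (v : ↥(W j.succ)), ((ρ h v : ↥(W j.succ)) : V) = (h : V ≃ₗ[ZMod p] V) (v : V)) ∧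
        ((ρ.range : Set (↥(W j.succ) ≃ₗ[ZMod p] ↥(W j.succ))) =
            {f : ↥(W j.succ) ≃ₗ[ZMod p] ↥(W j.succ) | LinearMap.det (f : ↥(W j.succ) →ₗ[ZMod p] ↥(W j.succ)) = 1} ∨
          ∃ B : LinearMap.BilinForm (ZMod p) ↥(W j.succ), B.IsAlt ∧ B.Nondegenerate ∧
            (ρ.range : Set (↥(W j.succ) ≃ₗ[ZMod p] ↥(W j.succ))) = {f : ↥(W j.succ) ≃ₗ[ZMod p] ↥(W j.succ) | ∀ x y, B (f x) (f y) = B x y})) := by
  classical
  haveI : Module.Finite (ZMod p) V := Module.Finite.of_finite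
  have hTX : ∀ t ∈ T, ∃ u φ, XH H u φ ∧ Tv t u φ := fun t ht =>
    exists_data (hHT ▸ Subgroup.subset_closure ht) (hT t ht).1 (hT t ht).2
  have hG := good_of_pCore hp hHT hTX hOp
  obtain ⟨n, Us, Cs, hn, hcompl, hle, hmem, hkill, hclass⟩ := exists_family hG
  obtain ⟨W, hW⟩ : ∃ W : Fin (n + 1) → Submodule (ZMod p) V,
      W = (Fin.cases (⨅ j, Cs j) Us : Fin (n + 1) → Submodule (ZMod p) V) := ⟨_, rfl⟩
  have hW0 : W 0 = ⨅ j, Cs j := by rw [hW]; rfl
  have hWs : ∀ j : Fin n, W j.succ = Us j := fun j => by rw [hW]; rfl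
  have hWle : ∀ i : Fin (n + 1), ∀ j : Fin n, i ≠ j.succ → W i ≤ Cs j := by
    intro i j hij
    induction i using Fin.cases with
    | zero => rw [hW0]; exact iInf_le _ j
    | succ i => rw [hWs]; exact hle i j fun h => hij (congrArg Fin.succ h)
  have hinv : ∀ i, H ≤ stabSub (W i) := fun i => inv_stab hHT hTX fun u φ h => by
    obtain ⟨j, hj⟩ := hmem u φ h
    by_cases hij : i = j.succ
    · exact Or.inl (by rw [hij, hWs]; exact hj)
    · exact Or.inr fun m hm => hkill j u φ h hj m (hWle i j hij hm)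
  obtain ⟨G, hGd⟩ : ∃ G : Fin n → Set (V ≃ₗ[ZMod p] V),
      G = fun j => {g | g ∈ H ∧ ∃ u φ, XH H u φ ∧ u ∈ Us j ∧ Tv g u φ} := ⟨_, rfl⟩
  obtain ⟨K, hK⟩ : ∃ K : Fin n → Subgroup (V ≃ₗ[ZMod p] V), K = fun j => Subgroup.closure (G j) := ⟨_, rfl⟩
  have hKH : ∀ j, K j ≤ H := fun j => by rw [hK, Subgroup.closure_le, hGd]; exact fun g hg => hg.1
  have hKfix : ∀ j, K j ≤ fixOn (Cs j) := fun j => by
    rw [hK, Subgroup.closure_le, hGd]
    rintro g ⟨-, u, φ, h, hu, hg⟩ v hv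
    rw [hg, show φ v = 0 from hkill j u φ h hu v hv, zero_smul, add_zero]
  have hKmove : ∀ j, ∀ g ∈ K j, ∀ v, g v - v ∈ Us j := fun j g hg v => by
    obtain ⟨x, hx, y, hy, rfl⟩ := Submodule.mem_sup.1
      ((hcompl j).sup_eq_top ▸ Submodule.mem_top : v ∈ Us j ⊔ Cs j)
    rw [map_add, hKfix j hg y hy, add_sub_add_right_eq_sub]
    have : g x ∈ Us j := by rw [← hWs]; exact (hinv j.succ (hKH j hg) x).2 (by rw [hWs]; exact hx)
    exact (Us j).sub_mem this hx
  have hconj : ∀ j, ∀ h ∈ H, (K j).map (MulAut.conj h).toMonoidHom ≤ K j := fun j h hh => by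
    rw [hK, MonoidHom.map_closure, Subgroup.closure_le, hGd]
    rintro _ ⟨g, ⟨hgH, u, φ, hX, hu, hg⟩, rfl⟩
    obtain ⟨h1, h2, h3, -⟩ := hX
    have hgH' : h * g * h⁻¹ ∈ H := H.mul_mem (H.mul_mem hh hgH) (H.inv_mem hh)
    refine Subgroup.subset_closure ⟨hgH', h u, _, ⟨fun h0 => h1 (h.injective (by rw [h0, map_zero])),
      fun h0 => h2 (LinearMap.ext fun v => by simpa using LinearMap.congr_fun h0 (h v)), by simpa using h3,
      _, hgH', Tv.conj hg⟩, ?_, Tv.conj hg⟩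
    rw [← hWs]
    exact (hinv j.succ hh u).2 (by rw [hWs]; exact hu)
  refine ⟨n, W, K, hn, ?_, fun h hh i => ?_, fun j => ⟨hKH j, ⟨fun a ha g => ?_⟩⟩, ?_, fun j => ?_,
    fun j j' hjj' a ha b hb => ?_, fun j h hh i hij v hv => hKfix j hh v (hWle i j hij hv), fun j => ?_⟩
  · rw [hW]; exact isInternal_cases hcompl hle
  · refine Submodule.ext fun v => ?_
    rw [Submodule.mem_map]
    refine ⟨?_, fun hv => ⟨h⁻¹ v, (hinv i (H.inv_mem hh) v).2 hv, h.apply_symm_apply v⟩⟩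
    rintro ⟨x, hx, rfl⟩
    exact (hinv i hh x).2 hx
  · exact hconj j g.1 g.2 ⟨a.1, ha, rfl⟩
  · refine le_antisymm (iSup_le hKH) (le_of_eq_of_le hHT ((Subgroup.closure_le _).2 fun t ht => ?_))
    obtain ⟨u, φ, hX, htv⟩ := hTX t ht
    obtain ⟨j, hj⟩ := hmem u φ hX
    refine Subgroup.mem_iSup_of_mem j ?_
    rw [hK, hGd]
    exact Subgroup.subset_closure ⟨hHT ▸ Subgroup.subset_closure ht, u, φ, hX, hj, htv⟩
  · refine le_bot_iff.1 fun g ⟨hg1, hg2⟩ => Subgroup.mem_bot.2 (LinearEquiv.ext fun v => ?_)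
    have hle' : (⨆ j' ∈ {j' : Fin n | j' ≠ j}, K j') ≤ fixOn (Us j) :=
      iSup₂_le fun k hk x hx v hv => hKfix k hx v (hle j k (Ne.symm hk) hv)
    obtain ⟨x, hx, y, hy, rfl⟩ := Submodule.mem_sup.1
      ((hcompl j).sup_eq_top ▸ Submodule.mem_top : v ∈ Us j ⊔ Cs j)
    rw [map_add, hle' hg2 x hx, hKfix j hg1 y hy]
    rfl
  · refine LinearEquiv.ext fun v => ?_
    have h1 : a (b v - v) = b v - v := hKfix j ha _ (hle j' j hjj'.symm (hKmove j' b hb v))
    have h2 : b (a v - v) = a v - v := hKfix j' hb _ (hle j j' hjj' (hKmove j a ha v))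
    rw [map_sub] at h1 h2
    rw [LinearEquiv.mul_apply, LinearEquiv.mul_apply, sub_eq_iff_eq_add.1 h1, sub_eq_iff_eq_add.1 h2]
    abel
  · have hst : ∀ h : K j, ∀ v, (h : V ≃ₗ[ZMod p] V) v ∈ W j.succ ↔ v ∈ W j.succ := fun h =>
      hinv j.succ (hKH j h.2)
    let ρ : K j →* (↥(W j.succ) ≃ₗ[ZMod p] ↥(W j.succ)) :=
      { toFun := fun h => LinearEquiv.ofSubmodules (h : V ≃ₗ[ZMod p] V) (W j.succ) (W j.succ) (Submodule.ext fun v => by
          rw [Submodule.mem_map]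
          refine ⟨?_, fun hv => ⟨(h⁻¹ : K j).1 v, (hst h⁻¹ v).2 hv, (h : V ≃ₗ[ZMod p] V).apply_symm_apply v⟩⟩
          rintro ⟨x, hx, rfl⟩
          exact (hst h x).2 hx)
        map_one' := LinearEquiv.ext fun v => rfl
        map_mul' := fun a b => LinearEquiv.ext fun v => rfl }
    have hρ : ∀ (h : K j) (v : W j.succ), ((ρ h v : W j.succ) : V) = (h : V ≃ₗ[ZMod p] V) (v : V) := fun h v => rfl
    refine ⟨ρ, hρ, ?_⟩
    rcases hclass j with hbot | ⟨u₀, hu₀, hU⟩
    · refine Or.inl (Set.ext fun f => ⟨?_, fun _ => ⟨1, LinearEquiv.ext fun v => Subtype.ext ?_⟩⟩)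
      · rintro -
        show LinearMap.det _ = 1
        rw [show (f : ↥(W j.succ) →ₗ[ZMod p] ↥(W j.succ)) = LinearMap.id from LinearMap.ext fun v => Subtype.ext (by
          have hz : ∀ x : W j.succ, (x : V) = 0 := fun x => by
            simpa [hbot] using (hWs j).le x.2
          rw [hz, hz]), LinearMap.det_id]
      · have hz : ∀ x : W j.succ, (x : V) = 0 := fun x => by
          simpa [hbot] using (hWs j).le x.2
        rw [hz, hz]
    have hWU : W j.succ = U (Dual.eval (ZMod p) V) (XH H) u₀ := (hWs j).trans hU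
    have hgen : ∀ h : K j, ∀ P : (↥(W j.succ) ≃ₗ[ZMod p] ↥(W j.succ)) → Prop, P 1 → (∀ a b, P a → P b → P (a * b)) →
        (∀ a, P a → P a⁻¹) → (∀ (x : W j.succ) (φ : Dual (ZMod p) V), XH H x.1 φ →
          ∀ f, Tv f x (φ.comp (W j.succ).subtype) → P f) → P (ρ h) := by
      rintro ⟨h, hh⟩ P h1 hmul hinv' hgenP
      have hh' : h ∈ Subgroup.closure (G j) := by simpa [hK] using hh
      have hsub : G j ⊆ (K j : Set (V ≃ₗ[ZMod p] V)) := by rw [hK]; exact Subgroup.subset_closure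
      have key : ∀ hh : h ∈ K j, P (ρ ⟨h, hh⟩) := by
        clear hh
        induction hh' using Subgroup.closure_induction with
        | mem g hg =>
          intro hgK
          rw [hGd] at hg
          obtain ⟨-, u, φ, hX, hu, hgt⟩ := hg
          exact hgenP ⟨u, (hWs j).ge hu⟩ φ hX _ fun v => Subtype.ext (hgt v.1)
        | one =>
          intro hh
          rw [show (⟨1, hh⟩ : K j) = 1 from rfl, map_one]
          exact h1
        | mul a b ha hb iha ihb =>
          intro hh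
          have haK : a ∈ K j := by rw [hK]; exact ha
          have hbK : b ∈ K j := by rw [hK]; exact hb
          rw [show (⟨a * b, hh⟩ : K j) = ⟨a, haK⟩ * ⟨b, hbK⟩ from rfl, map_mul]
          exact hmul _ _ (iha haK) (ihb hbK)
        | inv a ha iha =>
          intro hh
          have haK : a ∈ K j := by rw [hK]; exact ha
          rw [show (⟨a⁻¹, hh⟩ : K j) = ⟨a, haK⟩⁻¹ from rfl, map_inv]
          exact hinv' _ (iha haK)
      exact key hh
    have hmake : ∀ (x : W j.succ) (φ : Dual (ZMod p) V), XH H x.1 φ →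
        ∃ f ∈ ρ.range, Tv f x (φ.comp (W j.succ).subtype) := by
      intro x φ hX
      obtain ⟨-, -, -, g, hg, hgt⟩ := id hX
      have hgK : g ∈ K j := by
        rw [hK, hGd]
        exact Subgroup.subset_closure ⟨hg, x.1, φ, hX, (hWs j).le x.2, hgt⟩
      exact ⟨ρ ⟨g, hgK⟩, ⟨_, rfl⟩, fun v => Subtype.ext (hgt v.1)⟩
    by_cases hL : 2 ≤ finrank (ZMod p) (Ax hG u₀)
    · refine Or.inl (coe_eq_SL ?_ fun x θ hθ => ?_)
      · rintro _ ⟨h, rfl⟩
        refine hgen h (fun f => LinearMap.det (f : ↥(W j.succ) →ₗ[ZMod p] ↥(W j.succ)) = 1) LinearMap.det_id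
          (fun a b ha hb => ?_) (fun a ha => ?_) fun x φ hX f hf => Tv.det hf hX.2.2.1
        · show LinearMap.det ((a : ↥(W j.succ) →ₗ[ZMod p] ↥(W j.succ)) * (b : ↥(W j.succ) →ₗ[ZMod p] ↥(W j.succ))) = 1
          rw [map_mul, ha, hb, one_mul]
        · have := LinearEquiv.det_coe_symm a
          rw [ha, inv_one] at this
          exact this
      · by_cases hx : x = 0
        · exact ⟨1, ρ.range.one_mem, fun v => by simp [hx]⟩
        by_cases hθ0 : θ = 0
        · exact ⟨1, ρ.range.one_mem, fun v => by simp [hθ0]⟩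
        have hxU : x.1 ∈ U (Dual.eval (ZMod p) V) (XH H) u₀ := hWU.le x.2
        have hxK := mem_K hG hu₀ hxU fun h => hx (Subtype.ext h)
        let i : U (Dual.eval (ZMod p) V) (XH H) u₀ ≃ₗ[ZMod p] W j.succ := LinearEquiv.ofEq _ _ hWU.symm
        obtain ⟨α, hα, hαθ⟩ := axes_full hG hu₀ hL hxK (θ.comp i.toLinearMap) hθ
        have hcomp : α.comp (W j.succ).subtype = θ := LinearMap.ext fun v => hαθ ⟨v.1, hWU.le v.2⟩
        have hα' : XH H x.1 α := mem_Ax hG hα fun h => hθ0 (by rw [← hcomp, h]; rfl)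
        rw [← hcomp]
        exact hmake x α hα'
    · obtain ⟨ω, halt, hnd, hω⟩ := exists_form hG hu₀ hL
      let i : W j.succ ≃ₗ[ZMod p] U (Dual.eval (ZMod p) V) (XH H) u₀ := LinearEquiv.ofEq _ _ hWU
      have hnd' : LinearMap.BilinForm.Nondegenerate (ω.comp i.toLinearMap i.toLinearMap) :=
        ⟨fun x hx => i.map_eq_zero_iff.1 (hnd.1 _ fun y => by simpa using hx (i.symm y)),
          fun x hx => i.map_eq_zero_iff.1 (hnd.2 _ fun y => by simpa using hx (i.symm y))⟩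
      refine Or.inr ⟨ω.comp i.toLinearMap i.toLinearMap, fun x => halt (i x), hnd', coe_eq_Sp (fun x => halt (i x)) hnd' ?_ ?_⟩
      · rintro _ ⟨h, rfl⟩
        refine hgen h (fun f => ∀ x y, ω (i (f x)) (i (f y)) = ω (i x) (i y)) (fun x y => rfl)
          (fun a b ha hb x y => (ha _ _).trans (hb x y)) (fun a ha x y => ?_) fun x φ hX f hf y z => ?_
        · conv_rhs => rw [← a.apply_symm_apply x, ← a.apply_symm_apply y, ha]
          rfl
        · obtain ⟨φ₁, hφ₁, hφ₁ω⟩ := hω (i x) fun h => hX.1 (congrArg Subtype.val (i.map_eq_zero_iff.1 h))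
          obtain ⟨c, rfl⟩ := axes_prop hG hL (mem_K hG hu₀ (hWU.le x.2) hX.1) hφ₁ hX
          have hval : ∀ v : W j.succ, φ₁ v.1 = ω (i v) (i x) := fun v => hφ₁ω (i v)
          have hsk : ω (i x) (i z) = -ω (i z) (i x) := (LinearMap.IsAlt.neg halt (i z) (i x)).symm
          simp only [hf y, hf z, LinearMap.comp_apply, Submodule.coe_subtype, LinearMap.smul_apply, smul_eq_mul, hval,
            map_add, map_smul, LinearMap.add_apply, halt.self_eq_zero, hsk]
          ring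
      · intro x c
        by_cases hx : x = 0
        · exact ⟨1, ρ.range.one_mem, fun v => by simp [hx]⟩
        by_cases hc : c = 0
        · exact ⟨1, ρ.range.one_mem, fun v => by simp [hc]⟩
        obtain ⟨φ, hφ, hφω⟩ := hω (i x) fun h => hx (i.map_eq_zero_iff.1 h)
        obtain ⟨f, hf, hft⟩ := hmake x (c • φ) (hG.smul_φ hφ hc)
        refine ⟨f, hf, fun v => (hft v).trans ?_⟩
        show v + (c * φ v.1) • x = _
        rw [show φ v.1 = ω (i v) (i x) from hφω (i v)]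
        rfl

end Cfsg.Agent.S5075
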