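import Cfsg.Statements.S5083
import Cfsg.Agent.Lib.Fusion.System.Alperin

set_option autoImplicit false
open Cfsg

namespace Cfsg.Agent.S5083

/-- If F is a saturated fusion system over a finite p-group S in which Aut_F(P) is a p-group for every P ≤ S, then F is the inner fusion system of S (all its maps are conjugations by elements of S). -/
theorem result {Ω : Type*} [Group Ω] {S : Subgroup Ω} [Finite S] (p : ℕ) [Fact p.Prime] (hS : IsPGroup p S) (F : Cfsg.FusionSystem S) (hF : F.IsSaturated p) (h : ∀ P : Subgroup Ω, P ≤ S → IsPGroup p (F.autGroup P)) : F = Cfsg.innerFusionSystem S := by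
  have key : F ≤ innerFusionSystem S := by
    refine CfsgLib.Fusion.le_of_autGroup_le hS hF fun P hP => ?_
    rcases hP with hP | hP
    · subst hP
      have hP : P ≤ P := le_rfl
      obtain ⟨Q, hPQ, ha, -⟩ := hF P hP
      have hQ : Q = P := CfsgLib.Fusion.eq_of_le_of_card_le hP (CfsgLib.Fusion.isConj_le hPQ).2
        (CfsgLib.Fusion.isConj_card hPQ).ge
      subst hQ
      obtain ⟨-, hi⟩ := (CfsgLib.Fusion.isFullyAutomized_iff hS).1 ha
      intro α hα
      have hle : F.autGroup Q ≤ autInducedBy Q Q := by
        haveI := CfsgLib.Fusion.finite_of_le (S := Q) hP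
        haveI := CfsgLib.Fusion.finite_mulAut (P := Q)
        exact (CfsgLib.Fusion.eq_of_le_of_isPGroup_of_not_dvd_relIndex (h Q hP)
          (CfsgLib.Fusion.autInducedBy_le_autGroup hP) le_rfl hi).le
      obtain ⟨g, hg, e⟩ := CfsgLib.Fusion.mem_autInducedBy_iff.1 (hle hα)
      refine (CfsgLib.Fusion.mem_autGroup_iff hP).2 ?_
      exact (CfsgLib.Fusion.isMap_conj hP hg).congr e
    · exfalso
      obtain ⟨-, hn, hN, E, hE⟩ := hP
      haveI := CfsgLib.Fusion.finite_of_le hn.1
      haveI := CfsgLib.Fusion.finite_mulAut (P := P)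
      have htop := CfsgLib.Fusion.eq_bot_of_embedded hE (N := ⊤)
        (((h P hn.1).to_quotient _).of_equiv Subgroup.topEquiv.symm)
      have hd := hE.1
      rw [← Subgroup.card_top, htop, Subgroup.card_bot] at hd
      exact (Fact.out : p.Prime).not_dvd_one hd
  have key' : innerFusionSystem S ≤ F := by
    rintro P φ ⟨hP, g, hg, e⟩
    rw [show φ = conjHom P g from MonoidHom.ext e]
    exact F.conj_mem hP hg
  have hH : F.Hom = (innerFusionSystem S).Hom :=
    funext fun P => Set.Subset.antisymm (key P) (key' P)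
  cases F
  simp only [innerFusionSystem] at hH ⊢
  subst hH
  rfl

end Cfsg.Agent.S5083
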