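import Cfsg.Statements.S5084
import Cfsg.Agent.Lib.Fusion.System.Normal

set_option autoImplicit false
open Cfsg

namespace Cfsg.Agent.S5084

/-- In a saturated fusion system over a finite p-group S, a subgroup Q is central in the system if and only if Q ≤ S and no element of Q is conjugate in the system to any element other than itself. -/
theorem result {Ω : Type*} [Group Ω] {S : Subgroup Ω} [Finite S] (p : ℕ) [Fact p.Prime] (hS : IsPGroup p S) (F : Cfsg.FusionSystem S) (hF : F.IsSaturated p) (Q : Subgroup Ω) : F.IsCentral Q ↔ (Q ≤ S ∧ ∀ x ∈ Q, ∀ y : Ω, F.IsConjElt x y → y = x) := by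
  constructor
  · intro hQ
    refine ⟨hQ.1, fun x hx y hy => ?_⟩
    obtain ⟨f, hf, rfl⟩ := CfsgLib.Fusion.isConjElt_iff.1 hy
    obtain ⟨g, -, hgf, hgQ⟩ := (CfsgLib.Fusion.isCentral_iff.1 hQ).2 _ f hf
    exact (hgf x (Subgroup.mem_zpowers x)).symm.trans (hgQ x hx)
  · rintro ⟨hQ, h⟩
    have hfix : ∀ (R : Subgroup Ω) (f : Ω → Ω), CfsgLib.Fusion.IsMap F R f →
        ∀ x ∈ R, x ∈ Q → f x = x := fun R f hf x hx hxQ =>
      h x hxQ _ (CfsgLib.Fusion.isConjElt_iff.2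
        ⟨f, hf.mono ((Subgroup.zpowers_le).2 hx), rfl⟩)
    have hc : F.StronglyClosed Q := CfsgLib.Fusion.stronglyClosed_iff.2
      ⟨hQ, fun R f hR hf x hx => by rw [hfix R f hf x hx (hR hx)]; exact hR hx⟩
    have hab : ∀ x ∈ Q, ∀ y ∈ Q, Commute x y := fun x hx y hy => by
      have e : x * y * x⁻¹ = y :=
        hfix Q _ (CfsgLib.Fusion.isMap_conj hQ (hQ hx)) y hy hy
      exact mul_inv_eq_iff_eq_mul.1 e
    have hn := CfsgLib.Fusion.isNormal_of_stronglyClosed_abelian hS hF hc hab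
    refine CfsgLib.Fusion.isCentral_iff.2 ⟨hQ, fun P f hf => ?_⟩
    obtain ⟨g, hg, hgf, -⟩ := (CfsgLib.Fusion.isNormal_iff.1 hn).2 P f hf
    exact ⟨g, hg, hgf, fun x hx => hfix _ g hg x ((le_sup_right : Q ≤ P ⊔ Q) hx) hx⟩

end Cfsg.Agent.S5084
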