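import Cfsg.Statements.S5087
import Cfsg.Agent.Lib.Fusion.System.Normal

set_option autoImplicit false
open Cfsg

namespace Cfsg.Agent.S5087

/-- In a saturated fusion system over a finite p-group S, a subgroup Q is normal in the system if and only if every subgroup P that equals S or is essential contains Q and every element of Aut_F(P) maps Q onto itself. -/
theorem result {Ω : Type*} [Group Ω] {S : Subgroup Ω} [Finite S] (p : ℕ) [Fact p.Prime] (hS : IsPGroup p S) (F : Cfsg.FusionSystem S) (hF : F.IsSaturated p) (Q : Subgroup Ω) : F.IsNormal Q ↔ ∀ P : Subgroup Ω, (P = S ∨ F.IsEssential p P) → (Q ≤ P ∧ ∀ α ∈ F.autGroup P, (Q.subgroupOf P).map α.toMonoidHom = Q.subgroupOf P) := by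
  constructor
  · intro hQ P hP
    have hQP : Q ≤ P := by
      rcases hP with hP | hP
      · exact hP ▸ hQ.1
      · exact CfsgLib.Fusion.le_of_isNormal hS hQ hP.1
          (CfsgLib.Fusion.isRadical_of_isEssential hS hP)
    refine ⟨hQP, fun α hα => ?_⟩
    have hPS : P ≤ S := hP.elim (fun e => e.le) (fun e => e.1.1)
    have hm := (CfsgLib.Fusion.mem_autGroup_iff hPS).1 hα
    have hc := CfsgLib.Fusion.stronglyClosed_of_isNormal hQ
    have himg := CfsgLib.Fusion.img_eq_of_map_le hQ.1 hm hQP fun x hx =>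
      (CfsgLib.Fusion.stronglyClosed_iff.1 hc).2 Q _ le_rfl (hm.mono hQP) x hx
    apply Subgroup.map_injective P.subtype_injective
    rw [Subgroup.map_map, Subgroup.subgroupOf_map_subtype, inf_eq_left.2 hQP,
      CfsgLib.Fusion.map_subgroupOf_eq_img hQP]
    exact himg
  · intro h
    refine CfsgLib.Fusion.isNormal_of_invariant hS hF (h S (Or.inl rfl)).1 fun P hP => ?_
    obtain ⟨hQP, hinv⟩ := h P hP
    refine ⟨hQP, fun α hα => ?_⟩
    have e := congrArg (Subgroup.map P.subtype) (hinv α hα)
    rw [Subgroup.map_map, Subgroup.subgroupOf_map_subtype, inf_eq_left.2 hQP,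
      CfsgLib.Fusion.map_subgroupOf_eq_img hQP] at e
    exact e

end Cfsg.Agent.S5087
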