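import Cfsg.Statements.S5089
import Cfsg.Agent.Lib.Fusion.System.Normal

set_option autoImplicit false
open Cfsg

namespace Cfsg.Agent.S5089

/-- A saturated fusion system over a finite p-group has a nontrivial subgroup that is normal in the system (O_p(F) ≠ 1) if and only if some nontrivial abelian subgroup is strongly closed in the system. -/
theorem result {Ω : Type*} [Group Ω] {S : Subgroup Ω} [Finite S] (p : ℕ) [Fact p.Prime] (hS : IsPGroup p S) (F : Cfsg.FusionSystem S) (hF : F.IsSaturated p) : F.core ≠ ⊥ ↔ ∃ Q : Subgroup Ω, Q ≠ ⊥ ∧ IsMulCommutative Q ∧ F.StronglyClosed Q := by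
  constructor
  · intro h
    have hc := CfsgLib.Fusion.isNormal_core (F := F)
    set C := F.core with hC
    haveI := CfsgLib.Fusion.finite_of_le hc.1
    haveI : Group.IsNilpotent C := (hS.to_le hc.1).isNilpotent
    haveI : Nontrivial C := (Subgroup.nontrivial_iff_ne_bot C).2 h
    refine ⟨(Subgroup.center C).map C.subtype, fun he => ?_, ?_, ?_⟩
    · rw [Subgroup.map_eq_bot_iff_of_injective _ C.subtype_injective] at he
      exact (Subgroup.nontrivial_iff_ne_bot _).1 (hS.to_le hc.1).center_nontrivial he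
    · refine ⟨⟨?_⟩⟩
      rintro ⟨_, a, ha, rfl⟩ ⟨_, b, hb, rfl⟩
      exact Subtype.ext (congrArg Subtype.val (Subgroup.mem_center_iff.1 hb a) :)
    · refine CfsgLib.Fusion.stronglyClosed_of_isNormal
        (CfsgLib.Fusion.isNormal_of_characteristic hc (Subgroup.map_subtype_le _) ?_)
      rw [Subgroup.subgroupOf, Subgroup.comap_map_eq_self_of_injective C.subtype_injective]
      infer_instance
  · rintro ⟨Q, hQ1, hQ2, hQ3⟩ hbot
    refine hQ1 (le_bot_iff.1 (hbot ▸ CfsgLib.Fusion.le_core ?_))
    refine CfsgLib.Fusion.isNormal_of_stronglyClosed_abelian hS hF hQ3 fun x hx y hy => ?_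
    exact (congrArg Subtype.val (hQ2.is_comm.comm ⟨x, hx⟩ ⟨y, hy⟩) :)

end Cfsg.Agent.S5089
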