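import Cfsg.Statements.S5102
import Cfsg.Agent.Lib.Fusion.System.Group

open CfsgLib.Fusion

set_option autoImplicit false
open Cfsg

namespace Cfsg.Agent.S5102

/-- A normal p-subgroup of a finite group G is normal in the fusion system of G on a Sylow p-subgroup. -/
theorem result {G : Type*} [Group G] [Finite G] (p : ℕ) [Fact p.Prime] (S : Sylow p G) (R : Subgroup G) [R.Normal] (hR : IsPGroup p R) : (Cfsg.groupFusionSystem (S : Subgroup G)).IsNormal R := by
  have hRS : R ≤ (S : Subgroup G) := by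
    obtain ⟨T, hT⟩ := hR.exists_le_sylow
    obtain ⟨g, hg⟩ := MulAction.exists_smul_eq G T S
    intro x hx
    have h1 : g⁻¹ * x * g ∈ (T : Subgroup G) :=
      hT (by simpa using Subgroup.Normal.conj_mem inferInstance x hx g⁻¹)
    rw [← hg, Sylow.coe_subgroup_smul]
    exact ⟨_, h1, by simp [MulAut.conj_apply, mul_assoc]⟩
  refine ⟨hRS, fun P φ hφ => ?_⟩
  obtain ⟨hP, g, hg⟩ := isMap_group_iff.1 (isMap_toFun hφ)
  have hRn : conjBy g R = R := conjBy_eq_iff.2 (by
    rw [Subgroup.normalizer_eq_top]; exact Subgroup.mem_top g)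
  have hle : conjBy g (P ⊔ R) ≤ (S : Subgroup G) := by
    rw [conjBy, Subgroup.map_sup]
    exact sup_le (conjBy_le_iff.2 fun x hx => (hg x hx).1) (hRn.le.trans hRS)
  obtain ⟨ψ, hψ, hψg⟩ := isMap_group_conj (sup_le hP hRS) hle
  refine ⟨ψ, hψ, fun x => ?_, ?_⟩
  · rw [hψg, ← toFun_coe φ x, (hg x x.2).2]
    rfl
  · ext y
    rw [Subgroup.mem_map]
    constructor
    · rintro ⟨x, hx, rfl⟩
      rw [hψg]
      exact hRn.le (conj_mem_conjBy hx)
    · intro hy
      refine ⟨⟨g⁻¹ * y * g, Subgroup.mem_sup_right (mem_conjBy.1 (hRn.ge hy))⟩,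
        mem_conjBy.1 (hRn.ge hy), ?_⟩
      rw [hψg]
      group

end Cfsg.Agent.S5102
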