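import Cfsg.Statements.S5104
import Cfsg.Agent.Lib.Fusion.System.Group

open CfsgLib.Fusion

set_option autoImplicit false
open Cfsg

namespace Cfsg.Agent.S5104

/-- In a saturated fusion system over a finite p-group S, a fully centralized subgroup U with C_S(U) ≤ U is centric. -/
theorem result {Ω : Type*} [Group Ω] {S : Subgroup Ω} [Finite S] (p : ℕ) [Fact p.Prime] (hS : IsPGroup p S) (F : Cfsg.FusionSystem S) (hF : F.IsSaturated p) (U : Subgroup Ω) (hU : F.IsFullyCentralized U) (hC : Cfsg.FusionSystem.centralizerIn S U ≤ U) : F.IsCentric U := by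
  obtain ⟨hUS, hmax⟩ := hU
  refine ⟨hUS, fun Q hQ => ?_⟩
  obtain ⟨f, hf, rfl⟩ := isConj_iff.1 hQ
  have hUC : Cfsg.FusionSystem.centralizerIn S U ≤ U := hC
  have hle : img (Cfsg.FusionSystem.centralizerIn S U) f ≤
      Cfsg.FusionSystem.centralizerIn S (img U f) := fun y hy => by
    obtain ⟨c, hc, rfl⟩ := (hf.mono hUC).mem_img.1 hy
    exact map_mem_centralizerIn hf le_rfl (hUC hc) hc.2
  have heq := eq_of_le_of_card_le inf_le_left hle
    ((hmax _ hQ).trans (hf.mono hUC).card_img.ge)
  refine heq.ge.trans ?_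
  exact IsMap.img_mono hf hUC

end Cfsg.Agent.S5104
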