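import Cfsg.Statements.S5110
import Cfsg.Agent.Lib.Fusion.System.FamilySatCriterion

set_option autoImplicit false
open Cfsg

namespace Cfsg.Agent.S5110

/-- Saturation criterion: let F be a fusion system over a finite p-group S and H a family of subgroups of S closed under conjugacy in F, such that every conjugacy class inside H contains a fully automized receptive member, F is the smallest fusion system over S containing all its maps with source in H, and every centric subgroup outside H is conjugate in F to some P for which Aut_S(P) ∩ O_p(Aut_F(P)) is not contained in Inn(P). Then F is saturated. -/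
theorem result {Ω : Type*} [Group Ω] {S : Subgroup Ω} [Finite S] (p : ℕ) [Fact p.Prime] (hS : IsPGroup p S) (F : Cfsg.FusionSystem S) (ℋ : Set (Subgroup Ω)) (hℋS : ∀ P ∈ ℋ, P ≤ S) (hℋconj : ∀ P ∈ ℋ, ∀ Q, F.IsConj P Q → Q ∈ ℋ) (hsat : ∀ P ∈ ℋ, ∃ Q, F.IsConj P Q ∧ F.IsFullyAutomized p Q ∧ F.IsReceptive Q) (hgen : ∀ E : Cfsg.FusionSystem S, (∀ P ∈ ℋ, F.Hom P ⊆ E.Hom P) → F ≤ E) (hstar : ∀ P : Subgroup Ω, F.IsCentric P → P ∉ ℋ → ∃ Q, F.IsConj P Q ∧ ¬ (Cfsg.autInducedBy S Q ⊓ (Cfsg.pCore p ↥(F.autGroup Q)).map (F.autGroup Q).subtype ≤ Cfsg.Inn Q)) : F.IsSaturated p := by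
  refine CfsgLib.Fusion.FamilySat.isSaturated_of_family hS hℋconj hsat hgen fun P hP hPℋ => ?_
  classical
  by_cases hc : F.IsCentric P
  · obtain ⟨Q, hQ, hne⟩ := hstar P hc hPℋ
    refine ⟨Q, hQ, ?_⟩
    obtain ⟨a, ha, haI⟩ := SetLike.not_le_iff_exists.1 hne
    obtain ⟨haS, haO⟩ := Subgroup.mem_inf.1 ha
    obtain ⟨n, hn, hnx⟩ := CfsgLib.Fusion.mem_autInducedBy_iff.1 haS
    refine ⟨n, ⟨⟨hn, CfsgLib.Fusion.mem_normalizer_of_autFun hnx⟩, a, haO, hnx⟩, fun hnQ => haI ?_⟩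
    refine ⟨⟨n, hnQ⟩, MulEquiv.ext fun x => Subtype.ext ?_⟩
    rw [← CfsgLib.Fusion.autFun_coe a x, hnx x x.2]
    rfl
  · obtain ⟨Q, hQ, hne⟩ : ∃ Q, F.IsConj P Q ∧ ¬ Cfsg.FusionSystem.centralizerIn S Q ≤ Q := by
      by_contra hcon
      push Not at hcon
      exact hc ⟨hP, hcon⟩
    obtain ⟨c, hc, hcQ⟩ := SetLike.not_le_iff_exists.1 hne
    refine ⟨Q, hQ, c, ⟨⟨hc.1, Subgroup.centralizer_le_normalizer _ hc.2⟩, 1, one_mem _,
      fun x hx => ?_⟩, hcQ⟩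
    rw [CfsgLib.Fusion.autFun_one hx, ← Subgroup.mem_centralizer_iff.1 hc.2 x hx]
    simp

end Cfsg.Agent.S5110
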