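import Cfsg.Statements.S5112
import Cfsg.Agent.Lib.PGroup.CyclicIndexTwoAut
import Cfsg.Agent.Lib.Fusion.System.Alperin

set_option autoImplicit false
open Cfsg

namespace Cfsg.Agent.S5112

/-- If S is a dihedral or generalized quaternion 2-group of order at least 16, then in every saturated fusion system over S (at the prime 2) the automorphism group Aut_F(S) consists of the inner automorphisms of S. -/
theorem result {Ω : Type*} [Group Ω] {S : Subgroup Ω} [Finite S] (n : ℕ) (hn : 4 ≤ n) (hshape : Nonempty (S ≃* DihedralGroup (2 ^ (n - 1))) ∨ Nonempty (S ≃* QuaternionGroup (2 ^ (n - 2)))) (F : Cfsg.FusionSystem S) (hF : F.IsSaturated 2) : F.autGroup S = Cfsg.Inn S := by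
  have key : ∀ (T : Type) [Group T], IsPGroup 2 (MulAut T) → Nonempty (S ≃* T) → IsPGroup 2 (MulAut S) := by
    rintro T _ h ⟨e⟩
    exact h.of_equiv (MulAut.congr e).symm
  have hA : IsPGroup 2 (MulAut S) := by
    rcases hshape with h | h
    · exact key _ (CfsgLib.CyclicTwoAut.isPGroup_mulAut_dihedral (j := n - 1) (by omega)) h
    · exact key _ (CfsgLib.CyclicTwoAut.isPGroup_mulAut_quaternion (j := n - 2) (by omega)) h
  have hS : IsPGroup 2 S := by
    rcases hshape with ⟨⟨e⟩⟩ | ⟨⟨e⟩⟩
    · refine IsPGroup.of_card (n := n) ?_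
      rw [Nat.card_congr e.toEquiv, DihedralGroup.nat_card, ← pow_succ', Nat.sub_add_cancel (by omega)]
    · haveI : NeZero (2 ^ (n - 2)) := ⟨by positivity⟩
      refine IsPGroup.of_card (n := n) ?_
      rw [Nat.card_congr e.toEquiv, Nat.card_eq_fintype_card, QuaternionGroup.card, show (4 : ℕ) = 2 ^ 2 from rfl, ← pow_add]
      congr 1
      omega
  obtain ⟨-, hi⟩ := (CfsgLib.Fusion.isFullyAutomized_iff hS).1 (CfsgLib.Fusion.IsSaturated.automized_receptive hS hF CfsgLib.Fusion.isFullyNormalized_self).1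
  haveI : Finite (MulAut S) := Finite.of_injective (fun f : MulAut S => (f : S → S)) DFunLike.coe_injective
  rw [CfsgLib.Fusion.inn_eq_autInducedBy]
  exact CfsgLib.Fusion.eq_of_le_of_isPGroup_of_not_dvd_relIndex (hA.to_subgroup _)
    (CfsgLib.Fusion.autInducedBy_le_autGroup le_rfl) le_rfl hi

end Cfsg.Agent.S5112
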