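import Cfsg.Statements.S5114
import Cfsg.Agent.Lib.Fusion.System.PPrimeIndex

set_option autoImplicit false
open Cfsg

namespace Cfsg.Agent.S5114

/-- Let F be a saturated fusion system over a finite p-group S and E a fusion system over S contained in F. If Aut_E(P) contains the subgroup of Aut_F(P) generated by its elements of p-power order for every subgroup P that is centric in F, then the same holds for every subgroup of S (E has index prime to p in F), every map of F with source a subgroup P of S is an element of Aut_F(S) composed with a map of E, and a subgroup is centric in E exactly when it is centric in F. -/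
theorem result {Ω : Type*} [Group Ω] {S : Subgroup Ω} [Finite S] (p : ℕ) [Fact p.Prime] (hS : IsPGroup p S) (F : Cfsg.FusionSystem S) (hF : F.IsSaturated p) (E : Cfsg.FusionSystem S) (hEF : E.IsSubsystemOf F) (h : ∀ P : Subgroup Ω, F.IsCentric P → (Subgroup.closure {α : ↥(F.autGroup P) | ∃ k : ℕ, orderOf α = p ^ k}).map (F.autGroup P).subtype ≤ E.autGroup P) : E.HasPrimeToPIndexIn F p ∧ (∀ (P : Subgroup Ω) (φ : P →* Ω), φ ∈ F.Hom P → ∃ α ∈ F.autGroup S, ∃ φ₀ ∈ E.Hom P, ∀ (x : P) (hx : φ₀ x ∈ S), φ x = ((α ⟨φ₀ x, hx⟩ : S) : Ω)) ∧ ∀ P : Subgroup Ω, E.IsCentric P ↔ F.IsCentric P := by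
  classical
  set 𝒞 : Set (Subgroup Ω) := {R | F.IsCentric R}
  have h𝒞 : ∀ R ∈ 𝒞, ∀ R', F.IsConj R R' → R' ∈ 𝒞 := fun R hR R' hc =>
    CfsgLib.Fusion.isCentric_of_isConj hR hc
  have hess : ∀ R, F.IsEssential p R → R ∈ 𝒞 := fun R hR => hR.1
  have heE : ∀ P f, CfsgLib.Fusion.PPrime.EMap F p 𝒞 P f → CfsgLib.Fusion.IsMap E P f := by
    intro P f hf
    induction hf with
    | @base R P β k hC hle hR hβ hk =>
      obtain ⟨j, -, hj⟩ := (Nat.dvd_prime_pow (Fact.out : p.Prime)).1 (orderOf_dvd_of_pow_eq_one hk)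
      refine ((CfsgLib.Fusion.mem_autGroup_iff hR).1 (h R hC ?_)).mono hle
      exact ⟨⟨β, hβ⟩, Subgroup.subset_closure ⟨j, by rw [← hj]; exact Subgroup.orderOf_mk _ _⟩, rfl⟩
    | conj hP hs => exact CfsgLib.Fusion.isMap_conj hP hs
    | comp _ _ hm h1 h2 => exact h1.comp h2 hm
    | congr _ he h1 => exact h1.congr he
  refine ⟨CfsgLib.Fusion.PPrime.hasPrimeToPIndex h𝒞 hS hF hess hEF heE, fun P φ hφ => ?_,
    fun P => ⟨CfsgLib.Fusion.PPrime.isCentric_of_sub h𝒞 hS hF hess heE,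
      CfsgLib.Fusion.PPrime.isCentric_sub hEF⟩⟩
  obtain ⟨α, hα, e, he, hfe⟩ :=
    CfsgLib.Fusion.PPrime.frattini h𝒞 hS hF hess (CfsgLib.Fusion.isMap_toFun hφ)
  obtain ⟨φ₀, hφ₀, hφ₀e⟩ := heE P e he
  refine ⟨α, hα, φ₀, hφ₀, fun x hx => ?_⟩
  rw [← CfsgLib.Fusion.toFun_coe φ x, hfe x x.2, ← CfsgLib.Fusion.autFun_apply α hx, hφ₀e]

end Cfsg.Agent.S5114
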