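import Cfsg.Statements.S5123
import Cfsg.Agent.Lib.Fusion.System.Group

open CfsgLib.Fusion

set_option autoImplicit false
open Cfsg

namespace Cfsg.Agent.S5123

/-- Let G be a finite group with Sylow p-subgroup S, P, Q ≤ S and g ∈ G with gPg⁻¹ = Q, and suppose N_S(Q) is a Sylow p-subgroup of N_G(Q). Let N be the set of x ∈ N_S(P) with gxg⁻¹ ∈ N_S(Q)C_G(Q). Then some h ∈ C_G(Q) satisfies (hg)N(hg)⁻¹ ≤ S. -/
theorem result {G : Type*} [Group G] [Finite G] (p : ℕ) [Fact p.Prime] (S : Sylow p G) (P Q : Subgroup G) (hP : P ≤ S) (hQ : Q ≤ S) (g : G) (hg : P.map (MulAut.conj g).toMonoidHom = Q) (hN : (∃ R : Sylow p ↥(Subgroup.normalizer (Q : Set G)), (R : Subgroup ↥(Subgroup.normalizer (Q : Set G))) = (Cfsg.FusionSystem.normalizerIn (S : Subgroup G) Q).subgroupOf (Subgroup.normalizer (Q : Set G)))) : ∃ h ∈ Subgroup.centralizer (Q : Set G), ((Cfsg.FusionSystem.normalizerIn (S : Subgroup G) P) ⊓ (Cfsg.FusionSystem.normalizerIn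 (S : Subgroup G) Q ⊔ Subgroup.centralizer (Q : Set G)).comap (MulAut.conj g).toMonoidHom).map (MulAut.conj (h * g)).toMonoidHom ≤ S := by
  rw [exists_sylow_eq_subgroupOf_iff (isPGroup_normalizerIn S Q) inf_le_right] at hN
  obtain ⟨ψ, hψ, hψf⟩ := (isReceptive_iff.1
    (isReceptive_group S hQ (not_dvd_centralizerIn_of_normalizerIn S hN))).2 P
    (fun x => g * x * g⁻¹)
    (isMap_group_conj hP (show conjBy g P ≤ (S : Subgroup G) from hg.le.trans hQ))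
    ((img_conj P g).trans hg)
  obtain ⟨-, k, hk⟩ := isMap_group_iff.1 hψ
  have hPE : P ≤ extSub (S : Subgroup G) P (fun x => g * x * g⁻¹) :=
    le_extSub (isMap_group_conj hP (show conjBy g P ≤ (S : Subgroup G) from hg.le.trans hQ))
  refine ⟨k * g⁻¹, ?_, ?_⟩
  · refine mem_centralizer_iff'.2 fun y hy => ?_
    rw [← hg] at hy
    obtain ⟨x, hx, rfl⟩ := hy
    show k * g⁻¹ * (g * x * g⁻¹) * (k * g⁻¹)⁻¹ = g * x * g⁻¹
    have h1 := (hk x (hPE hx)).2.symm.trans (hψf x hx)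
    calc k * g⁻¹ * (g * x * g⁻¹) * (k * g⁻¹)⁻¹ = k * x * k⁻¹ := by group
      _ = _ := h1
  · rw [inv_mul_cancel_right]
    rintro y ⟨n, ⟨hnP, hnQ⟩, rfl⟩
    refine (hk n ⟨hnP, ?_⟩).1
    have hm : g * n * g⁻¹ ∈ ((Cfsg.FusionSystem.normalizerIn (S : Subgroup G) Q ⊔
      Subgroup.centralizer (Q : Set G) : Subgroup G) : Set G) := hnQ
    rw [Subgroup.coe_mul_of_left_le_normalizer_right (Cfsg.FusionSystem.normalizerIn (S : Subgroup G) Q) _
      (le_trans inf_le_right (le_normalizer_centralizer Q))] at hm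
    obtain ⟨s, hs, c, hc, hsc⟩ := hm
    refine ⟨s, hs.1, fun x hx => ?_⟩
    have hsc' : s * c = g * n * g⁻¹ := hsc
    have hgx : g * x * g⁻¹ ∈ Q := hg ▸ Subgroup.mem_map_of_mem (MulAut.conj g).toMonoidHom hx
    calc g * (n * x * n⁻¹) * g⁻¹ = (g * n * g⁻¹) * (g * x * g⁻¹) * (g * n * g⁻¹)⁻¹ := by group
      _ = s * (c * (g * x * g⁻¹) * c⁻¹) * s⁻¹ := by rw [← hsc']; group
      _ = s * (g * x * g⁻¹) * s⁻¹ := by rw [mem_centralizer_iff'.1 hc _ hgx]

end Cfsg.Agent.S5123
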