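import Cfsg.Statements.S5130
import Cfsg.Agent.Lib.Fusion.System.DirectFactors
-- import your own Cfsg.Agent.* helpers here

set_option autoImplicit false
open Cfsg

namespace Cfsg.Agent.S5130

open CfsgLib.Fusion CfsgLib.Fusion.Transport

/-- Let F be a saturated fusion system over a finite p-group S that is the direct product of two subgroups S₁ and S₂, each strongly closed in F. Let R be the full subsystem of F over S₁ (all maps of F between subgroups of S₁) and R′ the subsystem over S₁ of those maps that extend to the subgroup generated with S₂ fixing S₂ elementwise. Then R and R′ are saturated, R′ is normal in F and in R, and R is weakly normal in F. -/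
theorem result {Ω : Type*} [Group Ω] {S : Subgroup Ω} [Finite S] (p : ℕ) [Fact p.Prime] (hS : IsPGroup p S) (F : Cfsg.FusionSystem S) (hF : F.IsSaturated p) (S₁ S₂ : Subgroup Ω) (hprod : Cfsg.IsInternalDirectProduct S₁ S₂ S) (h₁ : F.StronglyClosed S₁) (h₂ : F.StronglyClosed S₂) (R R' : Cfsg.FusionSystem S₁) (hR : ∀ P : Subgroup Ω, P ≤ S₁ → R.Hom P = F.Hom P) (hR' : ∀ P : Subgroup Ω, P ≤ S₁ → R'.Hom P = F.centralizerHom S₂ P) : R.IsSaturated p ∧ R'.IsSaturated p ∧ R'.IsNormalIn F p ∧ R'.IsNormalIn R p ∧ R.IsWeaklyNormalIn F p := by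
  have D : DirectFactors.Data F p S₁ S₂ := ⟨hS, hF, hprod, h₁, h₂⟩
  obtain ⟨N1, N2⟩ := D.normal_in_both hR hR'
  have hsub : R.IsSubsystemOf F := subsystem_iff.2 fun P f hf => ((D.isMap_iff_full hR).1 hf).2
  refine ⟨N2.satF, N1.satE, normalData_iff.2 N1, normalData_iff.2 N2, N2.satF, hF, hsub, h₁,
    fun P hPT φ hφ α hα => ?_, fun P hP φ hφ => ?_⟩
  · have ha : IsMap F S₁ (autFun α) := (mem_autGroup_iff D.le₁).1 hα
    have hφF : IsMap F P (toFun φ) := isMap_le_of_subsystem hsub (isMap_toFun hφ)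
    obtain ⟨a', ha', hl, hr⟩ := ha.exists_inv
    rw [img_autFun] at ha' hr
    have hmem : ∀ z ∈ img P (autFun α), a' z ∈ P := fun z hz => by
      obtain ⟨x, hx, rfl⟩ := (ha.mono hPT).mem_img.1 hz
      rwa [hl x (hPT hx)]
    have hle : img P (autFun α) ≤ S₁ := D.img_le₁ hPT (ha.mono hPT)
    have h1 := (ha'.mono hle).comp hφF hmem
    have hv : ∀ z ∈ img P (autFun α), toFun φ (a' z) ∈ S₁ := fun z hz =>
      D.map_mem₁ hPT hφF (hmem z hz)
    have h2 := h1.comp ha hv
    obtain ⟨χ, hχ, hχe⟩ := (D.isMap_iff_full hR).2 ⟨hle, h2⟩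
    have himg : img P (autFun α) = (P.subgroupOf S₁).map (S₁.subtype.comp α.toMonoidHom) :=
      (map_subgroupOf_eq_img hPT (S₁.subtype.comp α.toMonoidHom)).symm
    obtain ⟨χ', hχ', hχ'e⟩ := (himg ▸ (⟨χ, hχ, hχe⟩ : IsMap R _ _) :
      IsMap R ((P.subgroupOf S₁).map (S₁.subtype.comp α.toMonoidHom)) _)
    refine ⟨χ', hχ', fun x hφx hαx => ?_⟩
    rw [hχ'e]
    show autFun α (toFun φ (a' ((α ⟨x, hPT x.2⟩ : S₁) : Ω))) = _
    rw [← autFun_apply α (hPT x.2), hl _ (hPT x.2), toFun_coe, autFun_apply α hφx]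
  · refine ⟨1, one_mem _, φ, (hR P hP).symm ▸ hφ, fun x hx => ?_⟩
    rfl

end Cfsg.Agent.S5130
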