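import Cfsg.Statements.S5142
import Cfsg.Agent.Lib.Fusion.System.PPrimeResidualNormal
-- import your own Cfsg.Agent.* helpers here

set_option autoImplicit false
open Cfsg

namespace Cfsg.Agent.S5142

open Subgroup CfsgLib.Fusion CfsgLib.Fusion.PPrimeChar CfsgLib.Fusion.PPrime
open Cfsg.FusionSystem (normalizerIn centralizerIn)

variable {Ω : Type*} [Group Ω] {S T : Subgroup Ω} [Finite S] {F : Cfsg.FusionSystem S}
  {E D : Cfsg.FusionSystem T} {p : ℕ} [Fact p.Prime] {P R : Subgroup Ω}

/-- A `p`-element of an automizer of `E` lies in every weakly normal subsystem over the same subgroup. -/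
theorem pElement_isMap (hE : Setup F E p (1 : F.autGroup T →* Unit))
    (hD : Setup F D p (1 : F.autGroup T →* Unit)) (hR : R ≤ T) {a : MulAut R} (ha : a ∈ E.autGroup R)
    {k : ℕ} (hk : a ^ p ^ k = 1) : IsMap D R (autFun a) := by
  classical
  haveI : Finite T := finite_of_le hE.le
  obtain ⟨θ, hθ, -, hθA⟩ := exists_conj_pAut (hE.isPGroup.to_le hE.le) hE.satE hR
    (isPGroup_zpowers_of_pow hk) (Subgroup.zpowers_le.2 ha)
  obtain ⟨t, ht, htx⟩ := hθA a (Subgroup.mem_zpowers a)
  obtain ⟨g, e, he, hθe⟩ := hD.exists_decomp (hE.isMap_sub hθ) hR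
  have hm := (mem_autGroup_iff hE.le).1 (inv_mem g.2)
  obtain ⟨e', he', he'1, -⟩ := he.exists_inv
  set u := autFun (g : MulAut T)⁻¹ t
  have hu : u ∈ T := autFun_mem _ ht.1
  have key : ∀ x ∈ R, e (autFun a x) = u * e x * u⁻¹ := fun x hx => by
    have h1 := htx x hx
    have hax := autFun_mem a hx
    rw [hθe _ hax, hθe x hx] at h1
    have h2 := congrArg (autFun (g : MulAut T)⁻¹) h1
    rwa [autFun_symm (he.mem_S hax), hm.map_conj ht.1 (autFun_mem _ (he.mem_S hx)),
      autFun_symm (he.mem_S hx)] at h2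
  have himg : ∀ x ∈ R, u * e x * u⁻¹ ∈ img R e := fun x hx =>
    key x hx ▸ he.mem_img.2 ⟨_, autFun_mem a hx, rfl⟩
  refine ((he.comp (isMap_conj le_rfl hu) fun x hx => he.mem_S hx).comp he' himg).congr fun x hx => ?_
  show autFun a x = e' (u * e x * u⁻¹)
  rw [← key x hx, he'1 _ (autFun_mem a hx)]

/-- The composites of `p`-elements of automizers of `E` lie in `D`. -/
theorem eMap_isMap (hE : Setup F E p (1 : F.autGroup T →* Unit))
    (hD : Setup F D p (1 : F.autGroup T →* Unit)) {𝒞 : Set (Subgroup Ω)} {f : Ω → Ω}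
    (hf : EMap E p 𝒞 P f) : IsMap D P f := by
  induction hf with
  | base hC hle hR hβ hk => exact (pElement_isMap hE hD hR hβ hk).mono hle
  | conj hP hs => exact isMap_conj hP hs
  | comp _ _ hm h1 h2 => exact h1.comp h2 hm
  | congr _ he h1 => exact h1.congr he

/-- An automorphism of `T` in `E` lies in `D` as soon as it does so on a centric subgroup. -/
theorem aut_isMap_of_centric (hE : Setup F E p (1 : F.autGroup T →* Unit))
    (hD : Setup F D p (1 : F.autGroup T →* Unit)) {α : MulAut T} (hα : α ∈ E.autGroup T) (hP : E.IsCentric P)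
    (hm : IsMap D P (autFun α)) : IsMap D T (autFun α) := by
  classical
  haveI : Finite T := finite_of_le hE.le
  have hT : IsPGroup p T := hE.isPGroup.to_le hE.le
  have hαF : α ∈ F.autGroup T :=
    (mem_autGroup_iff hE.le).2 (hE.isMap_sub ((mem_autGroup_iff le_rfl).1 hα))
  have hαm : IsMap F T (autFun α) := (mem_autGroup_iff hE.le).1 hαF
  have hαm' : IsMap F T (autFun α⁻¹) := (mem_autGroup_iff hE.le).1 (inv_mem hαF)
  induction hk : Nat.card T - Nat.card P using Nat.strong_induction_on generalizing P with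
  | _ k ih =>
  by_cases hPT : P = T
  · exact hPT ▸ hm
  set Q := img P (autFun α) with hQ
  have hQE : E.IsCentric Q := hE.isCentric_img hP ⟨α, hαF⟩
  have hQD : D.IsCentric Q := by
    refine ⟨hQE.1, fun U hU => ?_⟩
    obtain ⟨g, hg, rfl⟩ := isConj_iff.1 hU
    exact centralizerIn_le_of_isCentric (hE.isCentric_of_map hQE (hD.isMap_sub hg))
  obtain ⟨e, he, hee⟩ := (isReceptive_iff.1 (IsSaturated.isReceptive hT hD.satE
    (isFullyCentralized_of_isCentric hQD))).2 P _ hm rfl
  set N := normalizerIn T P with hN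
  have hPN : P ≤ N := le_normalizerIn hP.1
  have hNT : N ≤ T := inf_le_left
  have hext : N ≤ extSub T P (autFun α) := fun n hn =>
    ⟨hn, autFun α n, autFun_mem α hn.1,
      fun x hx => hαm.map_conj hn.1 (hP.1 hx)⟩
  have he := he.mono hext
  have heF : IsMap F N e := hD.isMap_sub he
  have himgP : img P e = Q := IsMap.img_congr hee
  have hγm : IsMap F N (autFun α⁻¹ ∘ e) := heF.comp hαm' fun x hx => he.mem_S hx
  have hQP : img Q (autFun α⁻¹) = P := by
    rw [hQ, img_img (hαm.mono hP.1)]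
    exact (IsMap.img_congr fun x hx => autFun_symm (hP.1 hx)).trans img_id
  have hγN : img N (autFun α⁻¹ ∘ e) = N := by
    refine img_eq_of_map_le (hNT.trans hE.le) hγm le_rfl fun x hx => ?_
    have h1 : e x ∈ normalizerIn T Q := by
      rw [← himgP]; exact map_mem_normalizerIn he hPN hx hx.2
    have h2 := map_mem_normalizerIn hαm' hQE.1 h1.1 h1.2
    rw [hQP] at h2
    exact ⟨autFun_mem _ h1.1, h2.2⟩
  set γ := autOf hγm hγN with hγdef
  have hγ : ∀ x ∈ N, autFun γ x = autFun α⁻¹ (e x) := fun x hx => autFun_autOf hγm hγN hx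
  have hγfix : ∀ x ∈ P, autFun γ x = x := fun x hx => by
    rw [hγ x (hPN hx), hee x hx, autFun_symm (hP.1 hx)]
  have hγP : ∀ x ∈ N, x⁻¹ * autFun γ x ∈ P := fun x hx => by
    refine centralizerIn_le_of_isCentric hP (Subgroup.mem_inf.2 ⟨mul_mem (inv_mem (hNT hx)) (hNT (autFun_mem γ hx)),
      Subgroup.mem_centralizer_iff.2 fun y hy => ?_⟩)
    have hxy : x * y * x⁻¹ ∈ P := (Subgroup.mem_normalizer_iff.1 hx.2 y).1 hy
    have hm' := hγm.congr hγ
    have h1 := hm'.map_conj hx (hPN hy)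
    rw [hγfix y hy, hγfix _ hxy] at h1
    calc y * (x⁻¹ * autFun γ x) = x⁻¹ * (x * y * x⁻¹) * autFun γ x := by group
      _ = x⁻¹ * (autFun γ x * y * (autFun γ x)⁻¹) * autFun γ x := by rw [← h1]
      _ = _ := by group
  haveI : Finite N := finite_of_le hNT
  haveI := finite_mulAut (P := N)
  obtain ⟨m, hcard⟩ := IsPGroup.iff_card.1 hT
  have hγp : γ ^ p ^ m = 1 := by
    have hit : ∀ (i : ℕ) x, x ∈ N → autFun (γ ^ i) x = x * (x⁻¹ * autFun γ x) ^ i := by
      intro i
      induction i with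
      | zero => intro x hx; rw [pow_zero, autFun_one hx, pow_zero, mul_one]
      | succ i ihi =>
        intro x hx
        have hm' := hγm.congr hγ
        rw [pow_succ', autFun_mul _ _ hx, ihi x hx, hm'.map_mul hx (hPN (pow_mem (hγP x hx) i)),
          hγfix _ (pow_mem (hγP x hx) i), pow_succ', ← mul_assoc x, mul_inv_cancel_left]
    refine autFun_ext fun x hx => ?_
    rw [hit _ x hx, autFun_one hx, mul_eq_left]
    have h1 := orderOf_dvd_natCard (⟨_, hP.1 (hγP x hx)⟩ : T)
    rw [hcard, orderOf_dvd_iff_pow_eq_one] at h1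
    exact congrArg Subtype.val h1
  -- a power of `α` prime to `p` lies in `D`
  haveI := finite_mulAut (P := T)
  set j := orderOf α / p ^ (orderOf α).factorization p with hj
  have hjD : α ^ j ∈ D.autGroup T := (mem_autGroup_iff le_rfl).2
    (pElement_isMap hE hD le_rfl (pow_mem hα j) (k := (orderOf α).factorization p) (by
      rw [← pow_mul, hj, Nat.div_mul_cancel (Nat.ordProj_dvd _ p)]
      exact pow_orderOf_eq_one α))
  have hjp : Nat.Coprime p j := Nat.coprime_ordCompl Fact.out (orderOf_pos α).ne'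
  have hpow : ∀ i : ℕ, ∃ d, IsMap D N d ∧ ∀ x ∈ N, autFun (γ ^ i) x = autFun ((α ^ i)⁻¹) (d x) := by
    intro i
    induction i with
    | zero => exact ⟨id, isMap_id hNT, fun x hx => by rw [pow_zero, pow_zero, inv_one, autFun_one hx, id, autFun_one (hNT hx)]⟩
    | succ i ihi =>
      obtain ⟨d, hd, hdx⟩ := ihi
      have hi : α ^ i ∈ F.autGroup T := pow_mem hαF i
      have hc := hD.conj_E hi he
      refine ⟨_, hd.comp hc fun x hx => ?_, fun x hx => ?_⟩
      · refine (((mem_autGroup_iff hE.le).1 hi).mono hNT).mem_img.2 ⟨_, autFun_mem (γ ^ i) hx, ?_⟩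
        rw [hdx x hx, autFun_symm' (hd.mem_S hx)]
      · have h0 := autFun_mem (γ ^ i) hx
        rw [pow_succ', autFun_mul _ _ hx, hγ _ h0, hdx x hx]
        show autFun α⁻¹ (e (autFun ((α ^ i)⁻¹) (d x))) =
          autFun ((α ^ (i + 1))⁻¹) (autFun (α ^ i) (e (autFun ((α ^ i)⁻¹) (d x))))
        have h1 : autFun ((α ^ i)⁻¹) (d x) ∈ N := by rw [← hdx x hx]; exact h0
        rw [← autFun_mul _ _ (he.mem_S h1)]
        congr 1
        group
  have hγD : γ ∈ D.autGroup N := by
    obtain ⟨d, hd, hdx⟩ := hpow j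
    have h1 : γ ^ j ∈ D.autGroup N := (mem_autGroup_iff hNT).2
      ((hd.comp ((mem_autGroup_iff le_rfl).1 (inv_mem hjD)) fun x hx => hd.mem_S hx).congr hdx)
    have hcop : Nat.Coprime (orderOf γ) j :=
      (Nat.Coprime.pow_left m hjp).coprime_dvd_left (orderOf_dvd_of_pow_eq_one hγp)
    obtain ⟨i, hi⟩ := exists_pow_eq_self_of_coprime hcop.symm
    exact hi ▸ pow_mem h1 i
  have hmN : IsMap D N (autFun α) :=
    (((mem_autGroup_iff hNT).1 (inv_mem hγD)).comp he fun x hx => autFun_mem _ hx).congr fun x hx => by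
      show autFun α x = e (autFun γ⁻¹ x)
      have h1 := hγ _ (autFun_mem γ⁻¹ hx)
      rw [autFun_symm' hx] at h1
      conv_lhs => rw [h1]
      exact autFun_symm' (he.mem_S (autFun_mem _ hx))
  refine ih _ ?_ (isCentric_mono hP hPN hNT) hmN rfl
  have h1 := card_lt_of_lt hNT (lt_normalizerIn hT hP.1 hPT)
  have h2 : Nat.card N ≤ Nat.card T := card_le_of_le' le_rfl hNT
  omega


/-- Let F be a saturated fusion system over a finite p-group S and E a normal subsystem of F over T. Then the p'-residual subsystem of E (the least saturated subsystem of E over T of index prime to p) is contained in every normal subsystem of F over T; together with its normality in F (the case of a weakly normal E) this makes it the least normal subsystem of F over T. -/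
theorem result {Ω : Type*} [Group Ω] {S : Subgroup Ω} [Finite S] (p : ℕ) [Fact p.Prime] (hS : IsPGroup p S) (F : Cfsg.FusionSystem S) (hF : F.IsSaturated p) {T : Subgroup Ω} (E : Cfsg.FusionSystem T) (hE : E.IsNormalIn F p) (D : Cfsg.FusionSystem T) (hD : E.IsPPrimeResidual p D) : ∀ D' : Cfsg.FusionSystem T, D'.IsNormalIn F p → D.IsSubsystemOf D' := by
  classical
  obtain ⟨⟨hEsat, -, hEinv⟩, -⟩ := hE
  have hTS : T ≤ S := hEinv.2.1.1
  haveI : Finite T := CfsgLib.Fusion.finite_of_le hTS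
  have hTp : IsPGroup p T := hS.to_le hTS
  have hsE : Setup F E p (1 : F.autGroup T →* Unit) :=
    ⟨hS, hF, hTS, hEsat, hEinv, by simp, fun _ _ => by simp⟩
  intro D' hD'
  obtain ⟨⟨hDsat, -, hDinv⟩, -⟩ := hD'
  have hsD : Setup F D' p (1 : F.autGroup T →* Unit) :=
    ⟨hS, hF, hTS, hDsat, hDinv, by simp, fun _ _ => by simp⟩
  set 𝒞 : Set (Subgroup Ω) := {R | E.IsCentric R}
  have h𝒞 : ∀ R ∈ 𝒞, ∀ R', E.IsConj R R' → R' ∈ 𝒞 := fun R hR R' hc =>
    CfsgLib.Fusion.isCentric_of_isConj hR hc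
  have hess : ∀ R, E.IsEssential p R → R ∈ 𝒞 := fun R hR => hR.1
  set A₀ : Set (MulAut T) := {α | α ∈ E.autGroup T ∧ ∃ P, E.IsCentric P ∧ EMap E p 𝒞 P (autFun α)}
  have hH : Subgroup.closure A₀ ≤ E.autGroup T := (Subgroup.closure_le _).2 fun α hα => hα.1
  have hHD : Subgroup.closure A₀ ≤ D'.autGroup T := (Subgroup.closure_le _).2 fun α ⟨hαE, Q, hQ, he⟩ =>
    (mem_autGroup_iff le_rfl).2 (aut_isMap_of_centric hsE hsD hαE hQ (eMap_isMap hsE hsD he))
  have hE'sub : (hSystem (p := p) h𝒞 hH).IsSubsystemOf E := hSystem_isSubsystemOf h𝒞 hH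
  have hle := hD.2.2 _
    (isSaturated_hSystem h𝒞 hTp hEsat hess (ℋ := 𝒞) le_rfl (isCentric_self E) h𝒞 (fun R hR => hR) hH
      (fun P hP α hα he => Subgroup.subset_closure ⟨hα, P, hP, he⟩) (fun P hP hn => absurd hP hn))
    (hasPrimeToPIndex h𝒞 hTp hEsat hess hE'sub fun P f hf =>
      (isMap_hSystem_iff h𝒞 hH).2 (HMap.of_eMap hf))
  intro P φ hφ
  obtain ⟨α, hα, e, he, hfe⟩ := (isMap_hSystem_iff h𝒞 hH).1 (isMap_of_subsystem hle (isMap_toFun hφ))
  exact mem_hom_iff.2 (((eMap_isMap hsE hsD he).comp ((mem_autGroup_iff le_rfl).1 (hHD hα))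
    fun x hx => he.isMap.mem_S hx).congr hfe)

end Cfsg.Agent.S5142
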