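import Cfsg.Agent.Lib.Fusion.System.Meet.ProductCand
import Cfsg.Prelude.Def_FusionComponents

/-!
# The product of a normal subsystem with a subgroup

`D` is the subsystem of `p`-power index over `R` of the product `E S`; any saturated subsystem with
the residual of `E` contains `E` and agrees with `D`.
-/

set_option autoImplicit false

namespace CfsgLib.Fusion.Product

open Cfsg (FusionSystem)
open CfsgLib.Fusion CfsgLib.Fusion.CentLift CfsgLib.Fusion.Meet

universe u

variable {Ω : Type u} [Group Ω] {S T U : Subgroup Ω} {F : FusionSystem S} {p : ℕ}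
  {E : FusionSystem T} {G : FusionSystem U} [Finite S] [Fact p.Prime]

/-- A system over `G.hyperfocalSubgroup` has the maps of `pSystem G` if it is the residual. -/
theorem hom_residual_iff (hS : IsPGroup p U) [Finite U] (hG : G.IsSaturated p)
    {D₁ : FusionSystem (G.hyperfocalSubgroup p)} (hD₁ : G.IsPResidual p D₁) {P : Subgroup Ω}
    {f : Ω → Ω} : IsMap D₁ P f ↔ PMap G p (G.hyperfocalSubgroup p) P f := by
  have hle : G.hyperfocalSubgroup p ≤ U := hyperfocal_le_S
  obtain ⟨E₀, -, hu⟩ := exists_unique_pPowerIndex hS hG hle le_rfl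
  rw [hu D₁ hD₁.1 hD₁.2, ← hu (pSystem G p _ hle le_rfl) (isSaturated_pSystem hS hG)
    pSystem_hasPPowerIndex]
  exact isMap_pSystem_iff

theorem hom_eq_of_pMap {K K' : Subgroup Ω} {A : FusionSystem K} {A' : FusionSystem K'}
    {M M' : Subgroup Ω → (Ω → Ω) → Prop} (h₁ : ∀ P f, IsMap A P f ↔ M P f)
    (h₂ : ∀ P f, IsMap A' P f ↔ M' P f) (he : ∀ P f, M P f ↔ M' P f) (P : Subgroup Ω) :
    A.Hom P = A'.Hom P := by
  ext φ
  rw [mem_hom_iff, mem_hom_iff, h₁, h₂, he]

end CfsgLib.Fusion.Product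

namespace Cfsg.Agent.S5143

open CfsgLib.Fusion CfsgLib.Fusion.Meet CfsgLib.Fusion.Product in
/-- Let F be a saturated fusion system over a finite p-group S, E a normal subsystem over T, and R a subgroup with T ≤ R ≤ S. Then there is exactly one saturated subsystem D of F over R (exactly one family of map sets) whose p-residual subsystem is that of E: the hyperfocal subgroups of D and E coincide and the p-residual subsystems of D and of E have the same maps. -/
theorem result {Ω : Type*} [Group Ω] {S : Subgroup Ω} [Finite S] (p : ℕ) [Fact p.Prime] (hS : IsPGroup p S) (F : Cfsg.FusionSystem S) (hF : F.IsSaturated p) {T : Subgroup Ω} (E : Cfsg.FusionSystem T) (hE : E.IsNormalIn F p) (R : Subgroup Ω) (hTR : T ≤ R) (hRS : R ≤ S) : ∃ D : Cfsg.FusionSystem R, (D.IsSaturated p ∧ D.IsSubsystemOf F ∧ D.hyperfocalSubgroup p = E.hyperfocalSubgroup p ∧ ∀ (D₁ : Cfsg.FusionSystem (D.hyperfocalSubgroup p)) (E₁ : Cfsg.FusionSystem (E.hyperfocalSubgroup p)), D.IsPResidual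 p D₁ → E.IsPResidual p E₁ → ∀ P : Subgroup Ω, D₁.Hom P = E₁.Hom P) ∧ ∀ D' : Cfsg.FusionSystem R, D'.IsSaturated p → D'.IsSubsystemOf F → D'.hyperfocalSubgroup p = E.hyperfocalSubgroup p → (∀ (D₁ : Cfsg.FusionSystem (D'.hyperfocalSubgroup p)) (E₁ : Cfsg.FusionSystem (E.hyperfocalSubgroup p)), D'.IsPResidual p D₁ → E.IsPResidual p E₁ → ∀ P : Subgroup Ω, D₁.Hom P = E₁.Hom P) → ∀ P : Subgroup Ω, D'.Hom P = D.Hom P := by
  have hs := Side.of_weaklyNormal hS hE.1
  have h : Setup F p E E T := ⟨hS, hF, hs, hs, inf_idem T⟩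
  haveI := finite_of_le hRS
  haveI := finite_of_le h.hTS
  have hRp := hS.to_le hRS
  have hTp := hS.to_le h.hTS
  obtain ⟨D, c⟩ := exists_cand h hE hTR hRS
  refine ⟨D, ⟨c.sat, c.sub, c.hyp, fun D₁ E₁ hD₁ hE₁ P => ?_⟩, fun D' hsat hsub hhyp hres => ?_⟩
  · refine hom_eq_of_pMap (fun P f => hom_residual_iff hRp c.sat hD₁)
      (fun P f => hom_residual_iff hTp hs.sat hE₁) (fun P f => ?_) P
    rw [c.hyp]
    exact c.res P f
  · have c' : Cand F p E D' := by
      refine ⟨hRS, hTR, hsat, hsub, hhyp, fun P f => ?_⟩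
      have hle : D'.hyperfocalSubgroup p ≤ R := hyperfocal_le_S
      have hle' : E.hyperfocalSubgroup p ≤ T := hyperfocal_le_S
      have hh := hres (pSystem D' p _ hle le_rfl) (pSystem E p _ hle' le_rfl)
        ⟨isSaturated_pSystem hRp hsat, pSystem_hasPPowerIndex⟩
        ⟨isSaturated_pSystem hTp hs.sat, pSystem_hasPPowerIndex⟩ P
      have e : PMap D' p (E.hyperfocalSubgroup p) P f ↔
          PMap D' p (D'.hyperfocalSubgroup p) P f := by rw [hhyp]
      rw [e, ← isMap_pSystem_iff (hTS := hle) (hT := le_rfl),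
        ← isMap_pSystem_iff (hTS := hle') (hT := le_rfl)]
      exact ⟨fun ⟨φ, hφ, he⟩ => ⟨φ, hh ▸ hφ, he⟩, fun ⟨φ, hφ, he⟩ => ⟨φ, hh.symm ▸ hφ, he⟩⟩
    exact fun P => c'.hom_eq h hE c P

end Cfsg.Agent.S5143
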