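import Cfsg.Statements.S5147
import Cfsg.Agent.Lib.Fusion.System.ConstrainedQuotient

set_option autoImplicit false
open Cfsg

namespace Cfsg.Agent.S5147

/-- Let G be a finite group with Sylow 2-subgroup S whose 2-fusion system on S is constrained, and L a component of G (a subnormal quasisimple subgroup). Then the 2-fusion system of L/Z(L) on the image of S ∩ L is constrained. -/
theorem result {G : Type*} [Group G] [Finite G] (S : Sylow 2 G) (hF : (Cfsg.groupFusionSystem (S : Subgroup G)).IsConstrained 2) (L : Subgroup G) (hL : Cfsg.IsComponent L) : (Cfsg.groupFusionSystem (((S : Subgroup G).subgroupOf L).map (QuotientGroup.mk' (Subgroup.center L)))).IsConstrained 2 := by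
  have h := CfsgLib.Fusion.isConstrained_group_subnormal S hF L hL.1
  let T : Sylow 2 L := ((S.2.to_le (inf_le_left : (S : Subgroup G) ⊓ L ≤ S)).of_equiv
    (Subgroup.subgroupOfEquivOfLe (inf_le_right : (S : Subgroup G) ⊓ L ≤ L)).symm).toSylow
    (CfsgLib.Coprime.not_dvd_relIndex_inf_of_isSubnormal S hL.1)
  have hT : (T : Subgroup L) = (S : Subgroup G).subgroupOf L := by
    show ((S : Subgroup G) ⊓ L).subgroupOf L = _
    rw [Subgroup.inf_subgroupOf_right]
  rw [← hT] at h ⊢
  exact CfsgLib.Fusion.isConstrained_central_quotient T h le_rfl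

end Cfsg.Agent.S5147
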