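import Cfsg.Statements.S5156
import Cfsg.Agent.Lib.Fusion.System.PSolvableModel
import Cfsg.Agent.Lib.Fusion.System.SolvableNormal
import Cfsg.Agent.Lib.Fusion.System.PPowerNormal
import Cfsg.Agent.Lib.Fusion.System.ConstrainedSub
import Cfsg.Agent.Lib.Fusion.System.RealizedNormal
import Cfsg.Agent.Lib.Fusion.System.Hyperfocal
import Cfsg.Agent.Lib.PGroup.CoprimeOrbits
import Cfsg.Agent.S5140
import Cfsg.Agent.S5141
-- import your own Cfsg.Agent.* helpers here

set_option autoImplicit false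
universe u
open Cfsg

set_option linter.style.haveILetI false
set_option maxHeartbeats 400000
set_option linter.unusedSectionVars false

namespace Cfsg.Agent.S5156

open Subgroup CfsgLib.Fusion
open Cfsg.FusionSystem (normalizerIn centralizerIn preimageAlong)

/-- `p`-solvability goes up along extensions by `p`-groups or by groups of order prime to `p`. -/
theorem step {X : Type*} {Y : Type*} [Group X] [Group Y] {p : ℕ} (f : X →* Y) (hf : Function.Surjective f)
    (hk : (∃ m : ℕ, Nat.card f.ker = p ^ m) ∨ (Nat.card f.ker).Coprime p) (h : Cfsg.IsPSolvable p Y) :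
    Cfsg.IsPSolvable p X := by
  obtain ⟨n, H, h0, hl, hm, hn, hs⟩ := h
  refine ⟨n + 1, Fin.cons ⊥ fun i => (H i).comap f, rfl, ?_, ?_, ?_, ?_⟩
  · rw [← Fin.succ_last, Fin.cons_succ, hl, Subgroup.comap_top]
  · refine Fin.monotone_iff_le_succ.2 fun i => ?_
    induction i using Fin.cases with
    | zero => simp
    | succ i =>
      rw [Fin.castSucc_succ, Fin.cons_succ, Fin.cons_succ]
      exact Subgroup.comap_mono (hm (Fin.castSucc_le_succ i))
  · intro i
    induction i using Fin.cases with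
    | zero => simp
    | succ i => simpa using (hn i).comap f
  · intro i
    induction i using Fin.cases with
    | zero =>
      simp only [Fin.castSucc_zero, Fin.cons_zero, Fin.cons_succ, h0, Subgroup.relIndex_bot_left,
        MonoidHom.comap_bot]
      exact hk
    | succ i =>
      have : ((H i.castSucc).comap f).relIndex ((H i.succ).comap f) =
          (H i.castSucc).relIndex (H i.succ) := by
        rw [Subgroup.relIndex_comap, Subgroup.map_comap_eq_self_of_surjective hf]
      simpa [Fin.castSucc_succ, this] using hs i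

theorem pSolvable_extension {p : ℕ} [Fact p.Prime] (n : ℕ) : ∀ (A : Type u) [Group A] [Finite A],
    Nat.card A = n → ∀ N : Subgroup A, N.Normal → Cfsg.IsPSolvable p N →
      ((∃ m : ℕ, N.index = p ^ m) ∨ N.index.Coprime p) → Cfsg.IsPSolvable p A := by
  induction n using Nat.strong_induction_on with
  | _ n ih =>
  intro A _ _ hn N hN hsol hidx
  haveI := hN
  rcases eq_or_ne N ⊥ with hb | hb
  · subst hb
    refine ⟨1, ![⊥, ⊤], rfl, rfl, ?_, ?_, ?_⟩
    · exact Fin.monotone_iff_le_succ.2 fun i => by fin_cases i; simp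
    · intro i; fin_cases i <;> simp <;> infer_instance
    · intro i; fin_cases i; simpa using hidx
  haveI : Nontrivial N := (Subgroup.nontrivial_iff_ne_bot _).2 hb
  have key : ∀ M₀ : Subgroup N, M₀ ≠ ⊥ → M₀.Characteristic →
      ((∃ m : ℕ, Nat.card M₀ = p ^ m) ∨ (Nat.card M₀).Coprime p) → Cfsg.IsPSolvable p A := by
    intro M₀ hne hchar hcard
    haveI := hchar
    haveI : (M₀.map N.subtype).Normal := ConjAct.normal_of_characteristic_of_normal
    set M := M₀.map N.subtype with hM
    set π := QuotientGroup.mk' M with hπ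
    have hπs : Function.Surjective π := QuotientGroup.mk'_surjective M
    have hMN : M ≤ N := Subgroup.map_subtype_le _
    have hcM : Nat.card M = Nat.card M₀ := Subgroup.card_map_of_injective N.subtype_injective
    have hlt : Nat.card (A ⧸ M) < n := by
      have h1 := Subgroup.card_eq_card_quotient_mul_card_subgroup M
      have h2 : 1 < Nat.card M := by rw [hcM]; exact (Subgroup.one_lt_card_iff_ne_bot _).2 hne
      have h3 : 0 < Nat.card (A ⧸ M) := Nat.card_pos
      rw [← hn, h1]
      exact lt_mul_right h3 h2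
    haveI : (N.map π).Normal := hN.map π hπs
    refine step π hπs ?_ (ih _ hlt _ rfl (N.map π) inferInstance ?_ ?_)
    · rw [hπ, QuotientGroup.ker_mk', hcM]; exact hcard
    · exact isPSolvable_of_surjective ((π.subgroupMap N)) (π.subgroupMap_surjective N) hsol
    · rw [Subgroup.index_map_eq (H := N) hπs (by rw [hπ, QuotientGroup.ker_mk']; exact hMN)]
      exact hidx
  rcases CfsgLib.PGroup.pCore_ne_bot_or_pPrimeCore_ne_bot hsol with h | h
  · exact key _ h (CfsgLib.Coprime.pCore_characteristic p)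
      (Or.inl (IsPGroup.iff_card.1 (CfsgLib.Coprime.pCore_isPGroup (G := N) p)))
  · exact key _ h (CfsgLib.Coprime.pPrimeCore_characteristic p)
      (Or.inr (((Fact.out : p.Prime).coprime_iff_not_dvd.2
        (CfsgLib.Coprime.pPrimeCore_not_dvd (G := N) Fact.out)).symm))

theorem psolv_equiv {p : ℕ} [Fact p.Prime] {X Y : Type*} [Group X] [Group Y] (e : X ≃* Y)
    (h : Cfsg.IsPSolvable p X) : Cfsg.IsPSolvable p Y :=
  isPSolvable_of_surjective e.toMonoidHom e.surjective h

theorem psolv_le {p : ℕ} [Fact p.Prime] {X : Type*} [Group X] {H K : Subgroup X} [Finite K] (hle : H ≤ K)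
    (h : Cfsg.IsPSolvable p K) : Cfsg.IsPSolvable p H :=
  psolv_equiv (Subgroup.subgroupOfEquivOfLe hle)
    (CfsgLib.CoprimeOrbit.isPSolvable_subgroup Fact.out h (H.subgroupOf K))

/-- The extension step used for `p`-residual subsystems. -/
theorem psolv_restrict {p : ℕ} [Fact p.Prime] {A : Type u} [Group A] [Finite A] {B : Type u} [Group B]
    [Finite B] (ρ : A →* B) (B₀ : Subgroup B) (h₀ : Cfsg.IsPSolvable p B₀)
    (hle : ∀ a : A, Nat.Coprime (orderOf a) p → ρ a ∈ B₀)
    (hker : ∀ a ∈ Cfsg.pResidual p A, ρ a = 1 → ∃ k : ℕ, a ^ p ^ k = 1) : Cfsg.IsPSolvable p A := by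
  haveI := pResidual_normal (G := A) (p := p)
  set N := Cfsg.pResidual p A
  have hNρ : N.map ρ ≤ B₀ := Subgroup.map_le_iff_le_comap.2 ((Subgroup.closure_le _).2 hle)
  have h1 : Cfsg.IsPSolvable p (N.map ρ) := psolv_le hNρ h₀
  have hk : IsPGroup p (ρ.subgroupMap N).ker := fun a => by
    obtain ⟨k, hk⟩ := hker (a : N) (a : N).2 (congrArg Subtype.val a.2)
    exact ⟨k, Subtype.ext (Subtype.ext hk)⟩
  exact pSolvable_extension _ A rfl N inferInstance
    (step (ρ.subgroupMap N) (ρ.subgroupMap_surjective N) (Or.inl (IsPGroup.iff_card.1 hk)) h1)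
    (Or.inl exists_index_pResidual)

variable {Ω : Type u} [Group Ω] {S T : Subgroup Ω} {p : ℕ} [Fact p.Prime]
  {F : Cfsg.FusionSystem S} {E : Cfsg.FusionSystem T}

/-- All automizers are `p`-solvable. -/
def AllPS (F : Cfsg.FusionSystem S) (p : ℕ) : Prop :=
  ∀ R : Subgroup Ω, R ≤ S → Cfsg.IsPSolvable p (F.autGroup R)

theorem normal_closure_conj {G : Type*} [Group G] (s : Set G) (h : ∀ g ∈ s, ∀ x : G, x * g * x⁻¹ ∈ s) :
    (Subgroup.closure s).Normal := by
  refine ⟨fun n hn g => ?_⟩
  have h1 : MulAut.conj g '' s ⊆ s := by rintro _ ⟨a, ha, rfl⟩; exact h a ha g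
  have h2 : (Subgroup.closure s).map (MulAut.conj g).toMonoidHom ≤ Subgroup.closure s := by
    rw [MonoidHom.map_closure]; exact Subgroup.closure_mono h1
  exact h2 ⟨n, hn, rfl⟩

theorem ext_pow {G : Type*} [Group G] {ι : S →* G} {R : Subgroup Ω} (hR : R ≤ S) {α : MulAut R}
    {g : G} (hg : ∀ x ∈ R, ext1 ι (autFun α x) = g * ext1 ι x * g⁻¹) (n : ℕ) :
    ∀ x ∈ R, ext1 ι (autFun (α ^ n) x) = g ^ n * ext1 ι x * (g ^ n)⁻¹ := by
  induction n with
  | zero => intro x hx; simp [autFun_one hx]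
  | succ n ih =>
    intro x hx
    rw [pow_succ, autFun_mul _ _ hx, ih _ (autFun_mem α hx), hg x hx, pow_succ]
    group

/-- An automorphism of coprime order is induced by an element of coprime order. -/
theorem exists_coprime_conj {G : Type*} [Group G] [Finite G] {ι : S →* G} {R : Subgroup Ω} (hR : R ≤ S)
    {α : MulAut R} (hα : Nat.Coprime (orderOf α) p) {g : G}
    (hg : ∀ x ∈ R, ext1 ι (autFun α x) = g * ext1 ι x * g⁻¹) :
    ∃ h : G, Nat.Coprime (orderOf h) p ∧ ∀ x ∈ R, ext1 ι (autFun α x) = h * ext1 ι x * h⁻¹ := by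
  have hp : p.Prime := Fact.out
  obtain ⟨a, m, hm, hgm⟩ := Nat.exists_eq_pow_mul_and_not_dvd (orderOf_pos g).ne' p hp.ne_one
  obtain ⟨i, hi⟩ := exists_pow_eq_self_of_coprime (x := α) (n := p ^ a) (hα.symm.pow_left a)
  refine ⟨(g ^ p ^ a) ^ i, Nat.Coprime.coprime_dvd_left (orderOf_dvd_of_pow_eq_one ?_)
    (hp.coprime_iff_not_dvd.2 hm).symm, fun x hx => ?_⟩
  · rw [← pow_mul, mul_comm i m, ← pow_mul, ← mul_assoc, ← hgm, pow_mul, pow_orderOf_eq_one, one_pow]
  · conv_lhs => rw [← hi, ← pow_mul]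
    rw [← pow_mul]
    exact ext_pow hR hg _ x hx

/-- An automorphism of `p`-power order is induced by a `p`-element. -/
theorem exists_pElement_conj {G : Type*} [Group G] [Finite G] {ι : S →* G} {R : Subgroup Ω} (hR : R ≤ S)
    {α : MulAut R} {k : ℕ} (hα : orderOf α = p ^ k) {g : G}
    (hg : ∀ x ∈ R, ext1 ι (autFun α x) = g * ext1 ι x * g⁻¹) :
    ∃ h : G, (∃ j : ℕ, orderOf h = p ^ j) ∧ ∀ x ∈ R, ext1 ι (autFun α x) = h * ext1 ι x * h⁻¹ := by
  have hp : p.Prime := Fact.out
  obtain ⟨a, m, hm, hgm⟩ := Nat.exists_eq_pow_mul_and_not_dvd (orderOf_pos g).ne' p hp.ne_one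
  obtain ⟨i, hi⟩ := exists_pow_eq_self_of_coprime (x := α) (n := m)
    (hα ▸ ((hp.coprime_iff_not_dvd.2 hm).symm.pow_right k))
  refine ⟨(g ^ m) ^ i, ?_, fun x hx => ?_⟩
  · have h1 : ((g ^ m) ^ i) ^ (p ^ a) = 1 := by
      rw [← pow_mul, mul_comm i, ← pow_mul, ← mul_assoc, mul_comm m, ← hgm, pow_mul, pow_orderOf_eq_one,
        one_pow]
    obtain ⟨j, -, hj⟩ := (Nat.dvd_prime_pow hp).1 (orderOf_dvd_of_pow_eq_one h1)
    exact ⟨j, hj⟩
  · conv_lhs => rw [← hi, ← pow_mul]
    rw [← pow_mul]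
    exact ext_pow hR hg _ x hx

/-- Automizers of a system realized by a `p`-solvable group are `p`-solvable. -/
theorem allPS_of_realized {G : Type*} [Group G] [Finite G] {ι : S →* G} (hF : F.IsRealizedBy ι)
    (hG : Cfsg.IsPSolvable p G) : AllPS F p := by
  intro R hR
  set N := Subgroup.normalizer (imgι ι R : Set G)
  let E₀ : R →* imgι ι R :=
    MonoidHom.mk' (fun x => ⟨ext1 ι x, ext1_mem_imgι hR x.2⟩) fun x y => Subtype.ext (ext1_mul ι (hR x.2) (hR y.2))
  have hbij : Function.Bijective E₀ := by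
    refine ⟨fun x y h => Subtype.ext (ext1_inj hF.1 (hR x.2) (hR y.2) (congrArg Subtype.val h)), fun y => ?_⟩
    obtain ⟨x, hx, hxy⟩ := (mem_imgι hR).1 y.2
    exact ⟨⟨x, hx⟩, Subtype.ext hxy⟩
  let e := MulEquiv.ofBijective E₀ hbij
  let Φ : N →* MulAut R := (MulAut.congr e.symm).toMonoidHom.comp (Subgroup.normalizerMonoidHom (imgι ι R))
  have hΦ : ∀ (g : N) (x : R), ext1 ι ((Φ g x : R) : Ω) = g * ext1 ι x * (g : G)⁻¹ := by
    intro g x
    have h1 : e (Φ g x) = Subgroup.normalizerMonoidHom (imgι ι R) g (e x) := by simp [Φ, MulAut.congr]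
    exact congrArg Subtype.val h1
  have hrange : Φ.range = F.autGroup R := by
    refine le_antisymm ?_ fun α hα => ?_
    · rintro _ ⟨g, rfl⟩
      rw [mem_autGroup_iff hR, isMap_realized_iff hF]
      refine ⟨hR, fun x hx => hR (autFun_mem _ hx), fun x hx y hy => autFun_map_mul _ hx hy, g, fun x hx => ?_⟩
      rw [autFun_apply _ hx]
      exact hΦ g ⟨x, hx⟩
    · have hm := (mem_autGroup_iff hR).1 hα
      obtain ⟨-, -, -, g, hg⟩ := (isMap_realized_iff hF).1 hm
      have hgN : g ∈ N := by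
        refine conjBy_eq_iff.1 ?_
        rw [← imgι_img hF hm hg, img_autFun]
      refine ⟨⟨g, hgN⟩, MulEquiv.ext fun x => Subtype.ext (ext1_inj hF.1 (hR (Φ _ x).2) (hR (α x).2) ?_)⟩
      rw [hΦ, ← autFun_coe α x, hg x x.2]
  rw [← hrange]
  exact isPSolvable_of_surjective Φ.rangeRestrict Φ.rangeRestrict_surjective
    (CfsgLib.CoprimeOrbit.isPSolvable_subgroup Fact.out hG N)

theorem allPS_mono (hFs : AllPS F p) [Finite S] (h : E.IsSubsystemOf F) (hTS : T ≤ S) : AllPS E p := by
  intro R hR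
  haveI := finite_of_le (hR.trans hTS)
  haveI := finite_mulAut (P := R)
  refine psolv_le (fun α hα => (mem_autGroup_iff (hR.trans hTS)).2 ?_) (hFs R (hR.trans hTS))
  obtain ⟨φ, hφ, hφf⟩ := (mem_autGroup_iff hR).1 hα
  exact ⟨φ, h R hφ, hφf⟩

/-- A system is weakly normal in itself. -/
theorem weaklyNormal_self (hF : F.IsSaturated p) : F.IsWeaklyNormalIn F p := by
  refine ⟨hF, hF, fun P => subset_rfl, ⟨le_rfl, fun _ _ _ h => (F.le_of_mem h).2⟩, fun P hP φ hφ α hα => ?_, fun P hP φ hφ => ?_⟩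
  · have hα' := isMap_autFun_of_mem (F := F) le_rfl hα
    have hm := hα'.mono hP
    obtain ⟨a', ha', h01, h02⟩ := hm.exists_inv
    have hcomp : IsMap F (img P (autFun α)) (autFun α ∘ toFun φ ∘ a') :=
      (ha'.comp (isMap_toFun hφ) fun y hy => (h02 y hy).1).comp hα'
        fun y hy => (isMap_toFun hφ).mem_S (h02 y hy).1
    rw [show (P.subgroupOf S).map (S.subtype.comp α.toMonoidHom) = img P (autFun α) from
      (map_subgroupOf_eq_img hP _).trans rfl]
    obtain ⟨χ, hχ, hχe⟩ := hcomp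
    refine ⟨χ, hχ, fun x hφx hαx => ?_⟩
    rw [hχe ⟨_, hαx⟩]
    simp only [Function.comp_apply]
    rw [← autFun_apply α (hP x.2), h01 x x.2, toFun_coe, autFun_apply α hφx]
  · exact ⟨1, one_mem _, φ, hφ, fun x hx => rfl⟩

/-- Solvability ascends when all maps are conjugations modulo the smaller subgroup. -/
theorem solvable_up [Finite S] (hS : IsPGroup p S) (hE : E.IsWeaklyNormalIn F p) (hsol : E.IsSolvableSystem)
    (hconj : ∀ (P : Subgroup Ω) (f : Ω → Ω), IsMap F P f → ConjMod S T P f) : F.IsSolvableSystem := by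
  obtain ⟨-, hF, hinv⟩ := id hE
  have hT := hinv.2.1
  haveI : (T.subgroupOf S).Normal := (Subgroup.normal_subgroupOf_iff_le_normalizer hT.1).2
    ((le_normalizerIn_of_stronglyClosed hT).trans inf_le_right)
  obtain ⟨D, hD, hmor, hDs⟩ := exists_factor hS hF hT
  refine (isSolvableSystem_iff_normal_factor hS hE hD).2 ⟨hsol, ?_⟩
  set θ := QuotientGroup.mk' (T.subgroupOf S) with hθ
  set Q := S ⧸ T.subgroupOf S
  have hQ : IsPGroup p Q := hS.to_quotient _
  haveI : Group.IsNilpotent Q := hQ.isNilpotent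
  haveI : Group.IsSolvable Q := inferInstance
  obtain ⟨n, hn⟩ := (Group.isSolvable_def Q).1 inferInstance
  refine isSolvableSystem_of_series (hQ.to_subgroup ⊤) hDs
    (T := fun i : Fin (n + 1) => derivedSeries Q (n - (i : ℕ))) (by simpa using hn) (by simp) (fun i => ?_) fun i => ?_
  · have hnor : (derivedSeries Q (n - (i : ℕ))).Normal := inferInstance
    refine stronglyClosed_iff.2 ⟨le_top, fun A f' hA hf' y hy => ?_⟩
    obtain ⟨f, hf, hfe⟩ := exists_lift_map hmor hf'
    have hA' : A ≤ θ.range := fun z _ => by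
      rw [hθ, MonoidHom.range_eq_top.2 (QuotientGroup.mk'_surjective _)]; exact Subgroup.mem_top z
    obtain ⟨x, hx, hxy⟩ := exists_preimage (α := θ) hA' hy
    obtain ⟨g, hg, hgx⟩ := hconj _ f hf
    have hxS := preimageAlong_le θ A hx
    have h1 := hgx x hx
    have hfS := hf.mem_S hx
    have h2 : ext1 θ (f x) = ext1 θ g * ext1 θ x * (ext1 θ g)⁻¹ := by
      have h3 : θ (⟨f x, hfS⟩ * (⟨g, hg⟩ * ⟨x, hxS⟩ * ⟨g, hg⟩⁻¹)⁻¹) = 1 := by
        rw [hθ, QuotientGroup.mk'_apply, QuotientGroup.eq_one_iff, Subgroup.mem_subgroupOf]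
        exact h1
      rw [map_mul, map_inv, mul_inv_eq_one, map_mul, map_mul, map_inv] at h3
      rw [ext1_apply θ hfS, ext1_apply θ hg, ext1_apply θ hxS]
      exact h3
    rw [← hxy, ← hfe x hx, h2, hxy]
    exact hnor.conj_mem y (hA hy) _
  · have he : n - ((i.castSucc : Fin (n + 1)) : ℕ) = (n - ((i.succ : Fin (n + 1)) : ℕ)) + 1 := by
      have := i.2; simp; omega
    rw [he, derivedSeries_succ]

theorem invariants {S : Subgroup Ω} {F : Cfsg.FusionSystem S} {q : ℕ}
    (h : F.HasTerminatingResidualSeries q) : q = p → Finite S → IsPGroup p S → F.IsSaturated p →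
      F.IsSolvableSystem ∧ AllPS F p := by
  induction h with
  | @trivial S F q hb =>
    intro _ _ hS hF
    subst hb
    refine ⟨isSolvableSystem_of_series hS hF (n := 0) (T := fun _ => ⊥) rfl rfl
      (fun _ => stronglyClosed_bot) fun i => i.elim0, fun R hR => ?_⟩
    obtain rfl := le_bot_iff.1 hR
    haveI : Subsingleton (MulAut (⊥ : Subgroup Ω)) := ⟨fun a b => MulEquiv.ext fun x => Subsingleton.elim _ _⟩
    exact ⟨0, fun _ => ⊥, rfl, Subsingleton.elim _ _, fun _ _ _ => le_rfl, fun _ => inferInstance, fun i => i.elim0⟩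
  | @step S F E q D hE hD _ ih =>
    intro hq hfin hS hF
    subst hq
    obtain ⟨hEs, hEi, -⟩ := id hE
    let K := E.hyperfocalSubgroup q
    have hKS : K ≤ S := hyperfocal_le_S
    haveI := finite_of_le hKS
    obtain ⟨hDsol, hDps⟩ := ih rfl inferInstance (hS.to_le hKS) hD.1
    have hab := absorbs_hyperfocal (F := E) (p := q)
    have hKsc : E.StronglyClosed K := hab.stronglyClosed hS hEs
    have hDn : D.IsNormalIn E q := isNormalIn_of_pPowerIndex hS hEs hKS
      ((Subgroup.normal_subgroupOf_iff_le_normalizer hKS).2 hab.normal) le_rfl hD.1 hD.2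
    have hEsol := solvable_up hS hDn.1 hDsol fun P f hf => hab.conjMod hS hEs hf
    have hEn : E.IsNormalIn F q := Cfsg.Agent.S5141.result q hS F hF F (weaklyNormal_self hF) E hE
    refine ⟨solvable_up hS hEn.1 hEsol fun P f hf =>
      ⟨1, one_mem S, fun x hx => mul_mem (hf.mem_S hx) (inv_mem (by simpa using hf.le hx))⟩, ?_⟩
    have hEps : AllPS E q := by
      intro R hR
      set R' := R ⊓ K with hR'
      have hR'R : R' ≤ R := inf_le_left
      have hR'S : R' ≤ S := hR'R.trans hR
      haveI := finite_of_le hR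
      haveI := finite_of_le hR'S
      haveI := finite_mulAut (P := R)
      haveI := finite_mulAut (P := R')
      have hmap : ∀ a : E.autGroup R, IsMap E R' (autFun (a : MulAut R)) := fun a =>
        ((mem_autGroup_iff hR).1 a.2).mono hR'R
      have himg : ∀ a : E.autGroup R, img R' (autFun (a : MulAut R)) = R' := fun a =>
        img_eq_of_map_le hR'S (hmap a) le_rfl fun x hx => Subgroup.mem_inf.2
          ⟨autFun_mem _ (hR'R hx),
            (stronglyClosed_iff.1 hKsc).2 R' _ inf_le_right (hmap a) x hx⟩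
      obtain ⟨ρ, hρ⟩ : ∃ ρ : E.autGroup R →* E.autGroup R', ∀ a, ∀ x ∈ R',
          autFun ((ρ a : E.autGroup R') : MulAut R') x = autFun (a : MulAut R) x :=
        ⟨MonoidHom.mk' (fun a => ⟨autOf (hmap a) (himg a), autOf_mem _ _⟩)
          fun a b => Subtype.ext (autFun_ext fun x hx => by
            show autFun (autOf (hmap (a * b)) (himg (a * b))) x =
              autFun (autOf (hmap a) (himg a) * autOf (hmap b) (himg b)) x
            rw [autFun_mul _ _ hx, autFun_autOf _ _ (autFun_mem _ hx), autFun_autOf _ _ hx, autFun_autOf _ _ hx]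
            exact autFun_mul _ _ (hR'R hx)),
          fun a x hx => autFun_autOf (hmap a) (himg a) hx⟩
      have h0 : Cfsg.IsPSolvable q ((D.autGroup R').subgroupOf (E.autGroup R')) :=
        psolv_equiv (Subgroup.subgroupOfEquivOfLe (fun α hα => (mem_autGroup_iff hR'S).2 (by
          obtain ⟨φ, hφ, hφf⟩ := (mem_autGroup_iff (show R' ≤ K from inf_le_right)).1 hα
          exact ⟨φ, hD.2.1 R' hφ, hφf⟩))).symm (hDps R' inf_le_right)
      refine psolv_restrict ρ _ h0 (fun a ha => hD.2.2.2 R' inf_le_right ⟨ρ a, mem_pResidual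
          (Nat.Coprime.coprime_dvd_left (orderOf_map_dvd ρ a) ha), rfl⟩) fun a haN ha1 => ?_
      have hfix : ∀ x ∈ R', autFun (a : MulAut R) x = x := fun x hx => by
        rw [← hρ a x hx, ha1]
        exact autFun_one hx
      have hw : ∀ x ∈ R, x⁻¹ * autFun (a : MulAut R) x ∈ R' := fun x hx =>
        Subgroup.mem_inf.2 ⟨mul_mem (inv_mem hx) (autFun_mem _ hx), mem_hyperfocal hR haN hx⟩
      have hpow : ∀ (n : ℕ) x, x ∈ R →
          autFun ((a : MulAut R) ^ n) x = x * (x⁻¹ * autFun (a : MulAut R) x) ^ n := by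
        intro n
        induction n with
        | zero => intro x hx; simp [autFun_one hx]
        | succ n ihn =>
          intro x hx
          rw [pow_succ', autFun_mul _ _ hx, ihn x hx, autFun_map_mul _ hx (pow_mem (hR'R (hw x hx)) n),
            hfix _ (pow_mem (hw x hx) n), pow_succ', ← mul_assoc, mul_inv_cancel_left]
      obtain ⟨k, hk⟩ := IsPGroup.iff_card.1 (hS.to_le hR'S)
      refine ⟨k, Subtype.ext (autFun_ext fun x hx => ?_)⟩
      have h5 : (x⁻¹ * autFun (a : MulAut R) x) ^ q ^ k = 1 := by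
        simpa [hk] using congrArg Subtype.val (pow_card_eq_one' (x := (⟨_, hw x hx⟩ : R')))
      rw [Subgroup.coe_pow, hpow _ x hx, h5, mul_one]
      exact (autFun_one hx).symm
    intro R hR
    haveI := finite_of_le hR
    haveI := finite_mulAut (P := R)
    set A := F.autGroup R
    set N := (E.autGroup R).subgroupOf A with hNd
    have hle : E.autGroup R ≤ A := autGroup_mono hEi.1 hR
    haveI : N.Normal := ⟨fun n hn g => by
      rw [hNd, Subgroup.mem_subgroupOf] at hn ⊢
      exact conj_mem_autGroup_of_invariant hEn.1.2.2 hR g.2 hn⟩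
    refine pSolvable_extension _ A rfl N inferInstance
      (psolv_equiv (Subgroup.subgroupOfEquivOfLe hle).symm (hEps R hR)) (Or.inr ?_)
    refine Nat.Coprime.symm ((Fact.out : q.Prime).coprime_iff_not_dvd.2 fun hd => ?_)
    rw [Subgroup.index_eq_card] at hd
    obtain ⟨c, hc⟩ := exists_prime_orderOf_dvd_card' q hd
    obtain ⟨a, rfl⟩ := QuotientGroup.mk'_surjective N c
    obtain ⟨k, m, hm, ham⟩ := Nat.exists_eq_pow_mul_and_not_dvd (orderOf_pos a).ne' q (Fact.out : q.Prime).ne_one
    have h1 : a ^ m ∈ N := by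
      have h2 : (a ^ m) ^ q ^ k = 1 := by rw [← pow_mul, mul_comm, ← ham, pow_orderOf_eq_one]
      obtain ⟨j, -, hj⟩ := (Nat.dvd_prime_pow (Fact.out : q.Prime)).1 (orderOf_dvd_of_pow_eq_one h2)
      exact hEi.2 R hR ⟨a ^ m, Subgroup.subset_closure ⟨j, hj⟩, rfl⟩
    have h3 : (QuotientGroup.mk' N a) ^ m = 1 := by
      rw [← map_pow, QuotientGroup.mk'_apply, QuotientGroup.eq_one_iff]; exact h1
    exact hm (hc ▸ orderOf_dvd_of_pow_eq_one h3)

theorem backward : ∀ (n : ℕ) {S : Subgroup Ω} [Finite S] (F : Cfsg.FusionSystem S), Nat.card S = n →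
    IsPGroup p S → F.IsSaturated p → F.IsConstrained p → AllPS F p →
      F.HasTerminatingResidualSeries p := by
  intro n
  induction n using Nat.strong_induction_on with
  | _ n ih =>
  intro S _ F hn hS hF hcon hps
  by_cases hb : S = ⊥
  · exact Cfsg.FusionSystem.HasTerminatingResidualSeries.trivial F p hb
  obtain ⟨E, hE⟩ := Cfsg.Agent.S5140.result p hS F hF
  obtain ⟨hEs, hEi, hEmin⟩ := id hE
  have hEn : E.IsNormalIn F p := Cfsg.Agent.S5141.result p hS F hF F (weaklyNormal_self hF) E hE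
  have hEcon := isConstrained_of_normal hS hcon hEn
  have hEps : AllPS E p := allPS_mono hps hEi.1 le_rfl
  obtain ⟨G, _, _, ι, hGs, hr, T, hT⟩ :=
    (realizable_pSolvable_iff hS hEs).2 ⟨hEcon, hEps _ (isNormal_core (F := E)).1⟩
  set K := E.hyperfocalSubgroup p with hKd
  have hKS : K ≤ S := hyperfocal_le_S
  haveI := finite_of_le hKS
  obtain ⟨D, ⟨hDs, hDi⟩, -⟩ := exists_unique_pPowerIndex hS hEs hKS (le_refl K)
  have hab := absorbs_hyperfocal (F := E) (p := p)
  have hDn : D.IsNormalIn E p := isNormalIn_of_pPowerIndex hS hEs hKS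
    ((Subgroup.normal_subgroupOf_iff_le_normalizer hKS).2 hab.normal) le_rfl hDs hDi
  refine Cfsg.FusionSystem.HasTerminatingResidualSeries.step F E p D hE ⟨hDs, hDi⟩
    (ih _ ?_ D rfl (hS.to_le hKS) hDs (isConstrained_of_normal hS hEcon hDn) (allPS_mono hEps hDi.1 hKS))
  rw [← hn]
  refine card_lt_of_lt le_rfl (lt_of_le_of_ne hKS fun hKS' => ?_)
  set W := Subgroup.closure {g : G | ∃ k : ℕ, orderOf g = p ^ k} with hW
  haveI : W.Normal := normal_closure_conj _ fun g hg x => by
    obtain ⟨k, hk⟩ := hg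
    exact ⟨k, by rw [show x * g * x⁻¹ = MulAut.conj x g from rfl, (MulAut.conj x).orderOf_eq, hk]⟩
  have hTW : (T : Subgroup G) ≤ W := fun t ht => by
    obtain ⟨j, hj⟩ := T.2.exists_orderOf_eq_pow ⟨t, ht⟩
    exact Subgroup.subset_closure ⟨j, by rwa [Subgroup.orderOf_mk] at hj⟩
  have hιW : ∀ s, ι s ∈ W := fun s => hTW (hT.ge ⟨s, rfl⟩)
  have hU : preimageAlong ι W = S := le_antisymm (preimageAlong_le ι W) fun s hs =>
    mem_preimageAlong.2 ⟨hs, by rw [ext1_apply ι hs]; exact hιW _⟩
  have hhom : ∀ P, (RealizedNormal.nlSystem W hr).Hom P = E.Hom P := by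
    have key : ∀ {U : Subgroup Ω} (E₁ : Cfsg.FusionSystem U), U = S → E₁.IsSaturated p →
        E₁.IsSubsystemOf E → (∀ P f, IsMap E₁ P f ↔ RealizedNormal.NLMap W ι P f) →
        ∀ P, E₁.Hom P = E.Hom P := by
      intro U E₁ hUS h1 h2 h3 P
      subst hUS
      refine Set.Subset.antisymm (h2 P) (hEmin E₁ h1 ⟨fun Q => (h2 Q).trans (hEi.1 Q), fun R hR => ?_⟩ P)
      rw [Subgroup.map_le_iff_le_comap, Subgroup.closure_le]
      rintro α ⟨k, hk⟩
      show (α : MulAut R) ∈ E₁.autGroup R
      have hαE : (α : MulAut R) ∈ E.autGroup R := hEi.2 R hR ⟨α, Subgroup.subset_closure ⟨k, hk⟩, rfl⟩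
      obtain ⟨-, -, -, g, hg⟩ := (isMap_realized_iff hr).1 ((mem_autGroup_iff hR).1 hαE)
      rw [← Subgroup.orderOf_coe] at hk
      obtain ⟨h, hh, hhe⟩ := exists_pElement_conj hR hk hg
      refine (mem_autGroup_iff hR).2 ((h3 R _).2 ⟨fun x hx => ?_, fun x hx => ?_, h, Subgroup.subset_closure hh, hhe⟩)
      · rw [hU]; exact hR hx
      · rw [hU]; exact hR (autFun_mem _ hx)
    exact key _ hU (RealizedNormal.isSaturated_nlSystem W hr hS hT)
      (fun P φ hφ => mem_hom_iff.2 ((RealizedNormal.NLMap.isMap W hr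
        ((RealizedNormal.isMap_nlSystem_iff W hr).1 (isMap_toFun hφ)))))
      (fun P f => RealizedNormal.isMap_nlSystem_iff W hr)
  have hrW := RealizedNormal.isRealizedBy_codRestrict W hr hιW hhom
  have hWs : Cfsg.IsPSolvable p W := CfsgLib.CoprimeOrbit.isPSolvable_subgroup Fact.out hGs W
  -- a proper normal subgroup of `W` with a `p`- or `p'`-quotient
  obtain ⟨m, H, h0, hl, -, hnor, hf⟩ := hWs
  obtain ⟨i, hi, hi'⟩ : ∃ i : Fin m, H i.castSucc ≠ ⊤ ∧ H i.succ = ⊤ := by
    by_contra hcon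
    push Not at hcon
    have hall : ∀ i : Fin (m + 1), H i ≠ ⊤ := by
      intro i
      refine Fin.induction (fun h => ?_) (fun j hj => hcon j hj) i
      have h1 : (⊥ : Subgroup W) = ⊤ := h0.symm.trans h
      obtain ⟨s, hs, hs1⟩ := (Subgroup.bot_or_exists_ne_one S).resolve_left hb
      have h2 : (⟨ι ⟨s, hs⟩, hιW _⟩ : W) ∈ (⊥ : Subgroup W) := h1 ▸ Subgroup.mem_top _
      exact hs1 (congrArg Subtype.val (hr.1 ((congrArg Subtype.val (Subgroup.mem_bot.1 h2)).trans (map_one ι).symm)))
    exact hall _ hl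
  haveI := hnor i.castSucc
  set M := H i.castSucc
  have hidx := hf i
  rw [hi', Subgroup.relIndex_top_right] at hidx
  apply hi
  rcases hidx with ⟨e, he⟩ | hco
  · have hpel : ∀ w : W, Nat.Coprime (orderOf w) p → w ∈ M := fun w hw => by
      rw [← QuotientGroup.eq_one_iff, ← orderOf_eq_one_iff]
      refine Nat.eq_one_of_dvd_coprimes (hw.pow_right e) (orderOf_map_dvd (QuotientGroup.mk' M) w) ?_
      rw [← he, Subgroup.index_eq_card]; exact orderOf_dvd_natCard _
    set ι' := ι.codRestrict W hιW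
    have hKM : K ≤ preimageAlong ι' M := by
      rw [hKd]
      refine (Subgroup.closure_le _).2 ?_
      rintro y ⟨P, α, x, hP, hα, rfl⟩
      rw [← autFun_coe]
      refine mem_of_mem_pResidual_aut (fun a ha x hx => ?_) hα x.2
      obtain ⟨-, -, -, g, hg⟩ := (isMap_realized_iff hrW).1 ((mem_autGroup_iff hP).1 a.2)
      rw [← Subgroup.orderOf_coe] at ha
      obtain ⟨h, hh, hhe⟩ := exists_coprime_conj hP ha hg
      have hax := hP (autFun_mem (a : MulAut P) hx)
      refine mem_preimageAlong.2 ⟨mul_mem (inv_mem (hP hx)) hax, ?_⟩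
      rw [ext1_mul ι' (inv_mem (hP hx)) hax, ext1_inv ι' (hP hx), hhe x hx, ← mul_assoc, ← mul_assoc]
      exact mul_mem (by simpa using (hnor i.castSucc).conj_mem h (hpel h hh) (ext1 ι' x)⁻¹)
        (inv_mem (hpel h hh))
    have hTM : (T.subtype hTW : Subgroup W) ≤ M := fun t ht => by
      rw [Sylow.coe_subtype, Subgroup.mem_subgroupOf, hT] at ht
      obtain ⟨s, hs⟩ := ht
      have h1 := (mem_preimageAlong.1 (hKM (hKS'.ge s.2))).2
      rw [ext1_coe] at h1
      rwa [show t = ι' s from Subtype.ext hs.symm]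
    refine Subgroup.index_eq_one.1 (Nat.eq_one_of_dvd_coprimes
      (Nat.Coprime.pow_left e ((Fact.out : p.Prime).coprime_iff_not_dvd.2 (T.subtype hTW).not_dvd_index))
      (dvd_of_eq he) (Subgroup.index_dvd_of_le hTM))
  · refine (Subgroup.eq_top_iff' M).2 fun w => ?_
    have hle : W ≤ M.map W.subtype := by
      show Subgroup.closure _ ≤ _
      refine (Subgroup.closure_le _).2 ?_
      rintro g ⟨k, hk⟩
      refine ⟨⟨g, Subgroup.subset_closure ⟨k, hk⟩⟩, ?_, rfl⟩
      rw [SetLike.mem_coe, ← QuotientGroup.eq_one_iff, ← orderOf_eq_one_iff]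
      refine Nat.eq_one_of_dvd_coprimes (hco.pow_right k) ?_ ?_
      · rw [Subgroup.index_eq_card]; exact orderOf_dvd_natCard _
      · refine (orderOf_map_dvd (QuotientGroup.mk' M) _).trans ?_
        rw [Subgroup.orderOf_mk, hk]
    obtain ⟨v, hv, hvw⟩ := hle w.2
    rwa [← show v = w from Subtype.ext hvw]


/-- A saturated fusion system over a finite p-group has a terminating alternating chain of p'-residual and p-residual subsystems (the chain reaches the trivial system — the notion of solvability adapted to fusion systems of p-solvable groups) if and only if it is constrained and its models are p-solvable (a model is a finite group realizing the system on a Sylow p-subgroup with self-centralizing largest normal p-subgroup; it exists and is unique up to isomorphism for constrained systems). -/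
theorem result {Ω : Type u} [Group Ω] {S : Subgroup Ω} [Finite S] (p : ℕ) [Fact p.Prime] (hS : IsPGroup p S) (F : Cfsg.FusionSystem S) (hF : F.IsSaturated p) : F.HasTerminatingResidualSeries p ↔ (F.IsConstrained p ∧ ∀ (G : Type u) [Group G] (ι : S →* G), F.IsModel p G ι → Cfsg.IsPSolvable p G) := by
  constructor
  · intro h
    obtain ⟨hsol, hps⟩ := invariants h rfl inferInstance hS hF
    refine ⟨isConstrained_of_solvable hS hF hsol, fun G _ ι hM => ?_⟩
    obtain ⟨hfin, hr, ⟨T, hT⟩, hC⟩ := hM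
    haveI := hfin
    exact (isPSolvable_model_iff hS hr hT hC).2 (hps _ (isNormal_core (F := F)).1)
  · rintro ⟨hcon, hmod⟩
    obtain ⟨-, Q, hQ, hQc⟩ := id hcon
    obtain ⟨L, hL, ι, hfin, hr, ⟨T, hT⟩, hC⟩ := exists_model_of_normal_centric hS hF hQ hQc
    haveI := hfin
    exact backward _ F rfl hS hF hcon
      (allPS_of_realized hr (hmod L ι ⟨hfin, hr, ⟨T, hT⟩, hC⟩))

end Cfsg.Agent.S5156
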