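import Cfsg.Statements.S5160
import Cfsg.Agent.Lib.Fusion.System.Invariant

set_option autoImplicit false
open Cfsg

namespace Cfsg.Agent.S5160

/-- Let G be a finite group with nontrivial Sylow p-subgroup S and F its fusion system on S. Suppose (a) no nontrivial proper subgroup of S is strongly closed in F, and (b) the automorphisms of S induced by G are generated by those induced, for R running over the fully normalized radical centric subgroups of F, by the subgroup of N_G(R) generated by its elements of p-power order. Then F is simple. -/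
theorem result {G : Type*} [Group G] [Finite G] (p : ℕ) [Fact p.Prime] (S : Sylow p G) (hS1 : (S : Subgroup G) ≠ ⊥) (ha : ∀ T : Subgroup G, (Cfsg.groupFusionSystem (S : Subgroup G)).StronglyClosed T → T = ⊥ ∨ T = (S : Subgroup G)) (hb : Cfsg.autInducedBy ⊤ (S : Subgroup G) = ⨆ (R : Subgroup G) (_ : (Cfsg.groupFusionSystem (S : Subgroup G)).IsFullyNormalized R ∧ (Cfsg.groupFusionSystem (S : Subgroup G)).IsRadical p R ∧ (Cfsg.groupFusionSystem (S : Subgroup G)).IsCentric R), Cfsg.autInducedBy (Subgroup.closure {g : G | g ∈ Subgroup.normalizer (R : Set G) ∧ ∃ k : ℕ, orderOf g = p ^ k}) (S : Subgroup G)) : (Cfsg.groupFusionSystem (S : Subgroup G)).IsSimple p := by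
  have hF := CfsgLib.Fusion.isSaturated_group S
  refine ⟨hF, hS1, fun T E hE => ?_⟩
  obtain ⟨⟨hEsat, -, hinv⟩, -⟩ := hE
  rcases ha T hinv.2.1 with hT | hT
  · exact Or.inl hT
  subst hT
  refine Or.inr ⟨rfl, fun P => Set.Subset.antisymm (hinv.1 P) fun φ hφ => ?_⟩
  refine CfsgLib.Fusion.mem_hom_iff.2
    (CfsgLib.Fusion.le_of_invariant S.2 hF hinv ?_ (CfsgLib.Fusion.isMap_toFun hφ))
  rw [CfsgLib.Fusion.autGroup_group le_rfl, hb]
  refine iSup₂_le fun R hR => ?_
  obtain ⟨hRn, -, hRc⟩ := hR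
  intro α hα
  obtain ⟨g, hgK, hgα⟩ := CfsgLib.Fusion.mem_autInducedBy_iff.1 hα
  set K := Subgroup.closure {g : G | g ∈ Subgroup.normalizer (R : Set G) ∧
    ∃ k : ℕ, orderOf g = p ^ k}
  have hKN : K ≤ Subgroup.normalizer (R : Set G) := (Subgroup.closure_le _).2 fun x hx => hx.1
  have hmem : ∀ x (hx : x ∈ K), CfsgLib.Fusion.conjAut (P := R) x (hKN hx) ∈ E.autGroup R := by
    intro x hx
    have hKle : K ≤ ((E.autGroup R).comap R.normalizerMonoidHom).map
        (Subgroup.normalizer (R : Set G)).subtype := by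
      refine (Subgroup.closure_le _).2 ?_
      rintro y ⟨hy, k, hk⟩
      refine ⟨⟨y, hy⟩, CfsgLib.Fusion.pElement_mem_of_invariant S.2 hF hinv hRn ?_ (k := k) ?_, rfl⟩
      · rw [CfsgLib.Fusion.autGroup_group hRn.1]
        exact CfsgLib.Fusion.conjAut_mem (Subgroup.mem_top _) hy
      · rw [← map_pow, show (⟨y, hy⟩ : Subgroup.normalizer (R : Set G)) ^ p ^ k = 1 from
          Subtype.ext (by rw [Subgroup.coe_pow, ← hk, pow_orderOf_eq_one]; rfl), map_one]
    obtain ⟨⟨y, hyN⟩, hy', rfl⟩ := hKle hx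
    exact hy'
  refine (CfsgLib.Fusion.mem_autGroup_iff le_rfl).2
    (CfsgLib.Fusion.IsMap.congr (f := fun y => g * y * g⁻¹) ?_ hgα)
  refine CfsgLib.Fusion.conj_isMap_of_centric S.2 hF hinv.1 hEsat (R := R) ?_ hRc
    (fun y hy => (Subgroup.mem_normalizer_iff.1 (hKN hgK) y).1 hy) ?_
  · exact CfsgLib.Fusion.isMap_group_conj le_rfl (CfsgLib.Fusion.conjBy_le_iff.2 fun x hx =>
      hgα x hx ▸ CfsgLib.Fusion.autFun_mem α hx)
  · exact ((CfsgLib.Fusion.mem_autGroup_iff hRn.1).1 (hmem g hgK)).congr fun y hy =>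
      (CfsgLib.Fusion.autFun_conjAut (hKN hgK) hy).symm

end Cfsg.Agent.S5160
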