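import Cfsg.Statements.S5164
import Cfsg.Agent.Lib.Fusion.Alternating.Simple

set_option autoImplicit false
open Cfsg
open scoped Pointwise

namespace Cfsg.Agent.S5164

/-- For n ≥ 6 and a prime p, a nontrivial Sylow p-subgroup of the alternating group of degree n is abelian if and only if n < p². -/
theorem result (n p : ℕ) (hn : 6 ≤ n) [Fact p.Prime] (S : Sylow p (alternatingGroup (Fin n))) (hS : (S : Subgroup (alternatingGroup (Fin n))) ≠ ⊥) : IsMulCommutative S ↔ n < p ^ 2 := by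
  classical

  have hp := (Fact.out : p.Prime)
  constructor
  · intro hc
    by_contra hle
    have hnp : p ^ 2 ≤ n := not_lt.1 hle
    have hm : p ≤ n / p := (Nat.le_div_iff_mul_le hp.pos).2 (by rw [← pow_two]; exact hnp)
    let e : ((ZMod p ⊕ Fin (n / p - p)) × ZMod p) ⊕ Fin (n % p) ≃ Fin n := Fintype.equivOfCardEq (by
      rw [Fintype.card_sum, Fintype.card_prod, Fintype.card_sum, ZMod.card, Fintype.card_fin,
        Fintype.card_fin, Fintype.card_fin, Nat.add_sub_cancel' hm, mul_comm]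
      exact Nat.div_add_mod n p)
    have hcp : CfsgLib.AltFus.cad (D := Fin (n / p - p)) (1 : ZMod p) ^ p = 1 := by
      rw [← CfsgLib.AltFus.cad_natCast, ZMod.natCast_self, CfsgLib.AltFus.cad_zero]
    obtain ⟨Q, hQ⟩ := (CfsgLib.Fusion.isPGroup_zpowers_of_pow (p := p) (k := 1)
      (a := CfsgLib.AltFus.cad (D := Fin (n / p - p)) (1 : ZMod p))
      (by rw [pow_one]; exact hcp)).exists_le_sylow
    obtain ⟨e', hS'⟩ := CfsgLib.AltFus.exists_coordinates
      (by rw [Fintype.card_fin]; exact Nat.mod_lt _ hp.pos) e Q S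
    obtain ⟨f, hf0, hf1, hfs⟩ : ∃ f : ZMod p ⊕ Fin (n / p - p) → ZMod p,
        f (Sum.inl 0) = 1 ∧ f (Sum.inl 1) = 0 ∧
          Equiv.Perm.sign (CfsgLib.AltFus.trY e' f) = 1 := by
      by_cases h2 : p = 2
      · subst h2
        let d : Fin (n / 2 - 2) := ⟨0, by omega⟩
        refine ⟨Pi.single (Sum.inl 0) 1 + Pi.single (Sum.inr d) 1, by simp, by simp, ?_⟩
        rw [CfsgLib.AltFus.trY_add, map_mul, CfsgLib.AltFus.isSwap_trY_single e' rfl,
          CfsgLib.AltFus.isSwap_trY_single e' rfl, Int.units_mul_self]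
      · exact ⟨Pi.single (Sum.inl 0) 1, by simp, by simp,
          CfsgLib.AltFus.sign_eq_one_of_pow h2 (CfsgLib.AltFus.trY_pow_prime e' _)⟩
    have hb : Equiv.Perm.sign
        (CfsgLib.AltFus.pm e' (CfsgLib.AltFus.bl (p := p) (CfsgLib.AltFus.cad 1))) = 1 := by
      rw [CfsgLib.AltFus.sign_pm, CfsgLib.AltFus.sign_bl, ← map_pow, hcp, map_one]
    have hx := (hS' ⟨_, Equiv.Perm.mem_alternatingGroup.2 hb⟩).2
      (Subgroup.mem_map_of_mem _ (CfsgLib.AltFus.bl_mem_wr (hQ (Subgroup.mem_zpowers _))))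
    have hy := (hS' ⟨_, Equiv.Perm.mem_alternatingGroup.2 hfs⟩).2
      (Subgroup.mem_map_of_mem _ (CfsgLib.AltFus.tr_mem_wr f))
    have h := congrArg Subtype.val (congrArg Subtype.val (hc.is_comm.comm ⟨_, hx⟩ ⟨_, hy⟩))
    change CfsgLib.AltFus.pm e' _ * CfsgLib.AltFus.pm e' _ =
      CfsgLib.AltFus.pm e' _ * CfsgLib.AltFus.pm e' _ at h
    rw [← map_mul, ← map_mul, CfsgLib.AltFus.bl_mul_tr] at h
    have h' := congrFun (CfsgLib.AltFus.tr_injective
      (mul_right_cancel (CfsgLib.AltFus.pm_injective e' h))) (Sum.inl 1)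
    rw [hf1, Function.comp_apply, show (CfsgLib.AltFus.cad (1 : ZMod p)).symm (Sum.inl 1) =
      (Sum.inl 0 : ZMod p ⊕ Fin (n / p - p)) from (Equiv.symm_apply_eq _).2 (by simp), hf0] at h'
    exact one_ne_zero h'
  · intro hlt
    let e : (Fin (n / p) × ZMod p) ⊕ Fin (n % p) ≃ Fin n := Fintype.equivOfCardEq (by
      rw [Fintype.card_sum, Fintype.card_prod, Fintype.card_fin, ZMod.card, Fintype.card_fin,
        Fintype.card_fin, mul_comm]
      exact Nat.div_add_mod n p)
    obtain ⟨Q⟩ : Nonempty (Sylow p (Equiv.Perm (Fin (n / p)))) := inferInstance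
    obtain ⟨S₀, hS₀⟩ := CfsgLib.AltFus.exists_sylow_alt e
      (by rw [Fintype.card_fin]; exact Nat.mod_lt _ hp.pos) Q
    have hQ : (Q : Subgroup (Equiv.Perm (Fin (n / p)))) = ⊥ := by
      apply Subgroup.eq_bot_of_card_eq
      rw [Q.card_eq_multiplicity, Nat.card_perm, Nat.card_eq_fintype_card, Fintype.card_fin,
        Nat.factorization_eq_zero_of_not_dvd, pow_zero]
      rw [hp.dvd_factorial]
      exact not_le.2 (Nat.div_lt_iff_lt_mul hp.pos |>.2 (by rw [← pow_two]; exact hlt))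
    have key : ∀ a b : alternatingGroup (Fin n), a ∈ (S₀ : Subgroup (alternatingGroup (Fin n))) →
        b ∈ (S₀ : Subgroup (alternatingGroup (Fin n))) → a * b = b * a := by
      intro a b ha hb
      obtain ⟨_, ⟨f, σ, hσ, rfl⟩, hae⟩ := (hS₀ a).1 ha
      obtain ⟨_, ⟨g, τ, hτ, rfl⟩, hbe⟩ := (hS₀ b).1 hb
      rw [hQ, Subgroup.mem_bot] at hσ hτ
      subst hσ hτ
      refine Subtype.ext ?_
      rw [Subgroup.coe_mul, Subgroup.coe_mul, ← hae, ← hbe]
      change CfsgLib.AltFus.trY e f * CfsgLib.AltFus.trY e g =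
        CfsgLib.AltFus.trY e g * CfsgLib.AltFus.trY e f
      rw [← CfsgLib.AltFus.trY_add, ← CfsgLib.AltFus.trY_add, add_comm]
    obtain ⟨a, ha⟩ := MulAction.exists_smul_eq (alternatingGroup (Fin n)) S₀ S
    refine ⟨⟨fun x y => Subtype.ext ?_⟩⟩
    have hmem : ∀ z : ↥S, a⁻¹ * (z : alternatingGroup (Fin n)) * a ∈
        (S₀ : Subgroup (alternatingGroup (Fin n))) := fun z => by
      have hz : (z : alternatingGroup (Fin n)) ∈
          ((a • S₀ : Sylow p (alternatingGroup (Fin n))) : Subgroup (alternatingGroup (Fin n))) := by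
        rw [ha]; exact z.2
      rw [Sylow.coe_subgroup_smul, Subgroup.mem_pointwise_smul_iff_inv_smul_mem, ← map_inv,
        MulAut.smul_def, MulAut.conj_apply, inv_inv] at hz
      exact hz
    have := key _ _ (hmem x) (hmem y)
    rw [show a⁻¹ * (x : alternatingGroup (Fin n)) * a * (a⁻¹ * (y : alternatingGroup (Fin n)) * a) =
        a⁻¹ * ((x : alternatingGroup (Fin n)) * y) * a by group,
      show a⁻¹ * (y : alternatingGroup (Fin n)) * a * (a⁻¹ * (x : alternatingGroup (Fin n)) * a) =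
        a⁻¹ * ((y : alternatingGroup (Fin n)) * x) * a by group] at this
    exact mul_left_cancel (mul_right_cancel this)

end Cfsg.Agent.S5164
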