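import Cfsg.Agent.Lib.PGroup.RankTwoThree
import Cfsg.Agent.Lib.Coprime.Solvable
import Cfsg.Agent.Lib.Fusion.System.EssentialExtraspecial
import Cfsg.Agent.Lib.Fusion.System.CenterIndexCore
import Cfsg.Agent.Lib.PGroup.ExtraspecialCard
import Cfsg.Statements.S5178
-- import your own Cfsg.Agent.* helpers here

set_option autoImplicit false
universe u
open Cfsg
open scoped commutatorElement

namespace Cfsg.Agent.S5178

/-- Let p be an odd prime, S a finite p-group containing an extraspecial subgroup Q of index p, and F a saturated fusion system over S whose largest subgroup normal in F is trivial. Then the centre of S equals the centre of Q. -/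
theorem result {Ω : Type u} [Group Ω] {S : Subgroup Ω} [Finite S] (p : ℕ) [Fact p.Prime] (hp : Odd p) (hS : IsPGroup p S)
    (Q : Subgroup Ω) (hQS : Q ≤ S) (hQ : Cfsg.IsExtraspecial p ↥Q) (hQi : (Q.subgroupOf S).index = p)
    (F : Cfsg.FusionSystem S) (hF : F.IsSaturated p) (hO : F.core = ⊥) :
    S ⊓ Subgroup.centralizer (S : Set Ω) = Q ⊓ Subgroup.centralizer (Q : Set Ω) := by
  have hp' : p.Prime := Fact.out
  haveI := CfsgLib.Fusion.finite_of_le hQS
  have hp2 : p ≠ 2 := by rintro rfl; exact absurd hp (by decide)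
  set Zq := Q ⊓ Subgroup.centralizer (Q : Set Ω) with hZq
  set Zs := S ⊓ Subgroup.centralizer (S : Set Ω) with hZs
  have hmap : ∀ T : Subgroup Ω, T ⊓ Subgroup.centralizer (T : Set Ω) = (Subgroup.center ↥T).map T.subtype := by
    intro T; ext x
    constructor
    · exact fun hx => ⟨⟨x, hx.1⟩, Subgroup.mem_center_iff.2 fun y => Subtype.ext (hx.2 y y.2), rfl⟩
    · rintro ⟨y, hy, rfl⟩
      exact ⟨y.2, Subgroup.mem_centralizer_iff.2 fun w hw =>
        congrArg Subtype.val (Subgroup.mem_center_iff.1 hy ⟨w, hw⟩)⟩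
  have hZqc : Nat.card Zq = p := by
    rw [hZq, hmap, Subgroup.card_map_of_injective Q.subtype_injective, hQ.2]
  have hQn : S ≤ Subgroup.normalizer (Q : Set Ω) := by
    intro s hs
    haveI hQnor : (Q.subgroupOf S).Normal := CfsgLib.RankTwoThree.normal_of_index hS hQi
    rw [Subgroup.mem_normalizer_iff]
    refine fun x => ⟨fun hx => ?_, fun hx => ?_⟩
    · exact hQnor.conj_mem ⟨x, hQS hx⟩ hx ⟨s, hs⟩
    · have h := hQnor.conj_mem ⟨_, hQS hx⟩ hx ⟨s, hs⟩⁻¹
      rw [Subgroup.mem_subgroupOf] at h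
      simpa [mul_assoc] using h
  -- the centre of `Q` is central in `S`
  have hqs : Zq ≤ Zs := by
    have hc : Zq.subgroupOf S ≤ Subgroup.center ↥S := by
      haveI : (Zq.subgroupOf S).Normal := ⟨fun n hn g => by
        have hg := hQn g.2
        refine Subgroup.mem_subgroupOf.2 ⟨(Subgroup.mem_normalizer_iff.1 hg _).1 hn.1,
          Subgroup.mem_centralizer_iff.2 fun w hw => ?_⟩
        have h1 := Subgroup.mem_centralizer_iff.1 hn.2 _ ((Subgroup.mem_normalizer_iff''.1 hg w).1 hw)
        show w * ((g : Ω) * n * (g : Ω)⁻¹) = (g : Ω) * n * (g : Ω)⁻¹ * w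
        calc w * ((g : Ω) * n * (g : Ω)⁻¹) = (g : Ω) * (((g : Ω)⁻¹ * w * g) * n) * (g : Ω)⁻¹ := by group
          _ = (g : Ω) * n * (g : Ω)⁻¹ * w := by erw [h1]; simp only [Subgroup.coe_subtype]; group⟩
      haveI : Group.IsNilpotent ↥S := hS.isNilpotent
      have hcardS : Nat.card (Zq.subgroupOf S) = p :=
        (Nat.card_congr (Subgroup.subgroupOfEquivOfLe (inf_le_left.trans hQS)).toEquiv).trans hZqc
      have h1 := CfsgLib.Coprime.nilpotent_inf_center_ne_bot (Zq.subgroupOf S) (fun h => by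
        rw [h, Subgroup.card_bot] at hcardS
        exact hp'.ne_one hcardS.symm)
      intro y hy
      obtain ⟨w, hw1⟩ := (Subgroup.ne_bot_iff_exists_ne_one.1 h1)
      haveI : Fact (Nat.Prime p) := ⟨hp'⟩
      obtain ⟨k, hk⟩ := Subgroup.mem_zpowers_iff.1 (mem_zpowers_of_prime_card hcardS
        (g := (⟨w, (Subgroup.mem_inf.1 w.2).1⟩ : ↥(Zq.subgroupOf S))) (fun e => hw1 (Subtype.ext (congrArg (fun a : ↥(Zq.subgroupOf S) => (a : ↥S)) e)))
        (g' := ⟨y, hy⟩))
      have h3 := congrArg Subtype.val hk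
      rw [Subgroup.coe_zpow] at h3
      rw [show y = (w : ↥S) ^ k from h3.symm]
      exact zpow_mem (Subgroup.mem_inf.1 w.2).2 k
    exact fun x hx => (hmap S).ge ⟨⟨x, hQS hx.1⟩, hc hx, rfl⟩
  refine le_antisymm ?_ hqs
  by_contra hne
  obtain ⟨x, hxs, hxq⟩ := SetLike.not_le_iff_exists.1 hne
  have hxQ : x ∉ Q := fun h => hxq ⟨h, Subgroup.centralizer_le hQS hxs.2⟩
  have hsup : Q.subgroupOf S ⊔ Subgroup.zpowers (⟨x, hxs.1⟩ : ↥S) = ⊤ := by
    by_contra h1
    have h2 := Subgroup.index_dvd_of_le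
      (le_sup_left : Q.subgroupOf S ≤ Q.subgroupOf S ⊔ Subgroup.zpowers (⟨x, hxs.1⟩ : ↥S))
    rw [hQi] at h2
    rcases (Nat.dvd_prime hp').1 h2 with h4 | h4
    · exact h1 (Subgroup.index_eq_one.1 h4)
    · refine hxQ ?_
      have h5 : Q.subgroupOf S = Q.subgroupOf S ⊔ Subgroup.zpowers (⟨x, hxs.1⟩ : ↥S) :=
        le_antisymm le_sup_left (Subgroup.relIndex_eq_one.1 (by
          have h6 := Subgroup.relIndex_mul_index
            (le_sup_left : Q.subgroupOf S ≤ Q.subgroupOf S ⊔ Subgroup.zpowers (⟨x, hxs.1⟩ : ↥S))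
          rw [h4, hQi] at h6
          exact (mul_eq_right₀ hp'.ne_zero).1 h6))
      exact h5.ge (Subgroup.mem_sup_right (Subgroup.mem_zpowers _))
  have hxc : (⟨x, hxs.1⟩ : ↥S) ∈ Subgroup.center ↥S :=
    Subgroup.mem_center_iff.2 fun y => Subtype.ext (hxs.2 y y.2)
  set c : ↥Q →* ↥S := Subgroup.inclusion hQS
  have hrange : Q.subgroupOf S = c.range := (Subgroup.inclusion_range hQS).symm
  have hcq : (Subgroup.center ↥Q).map c ≤ Subgroup.center ↥S := by
    rintro _ ⟨q, hq, rfl⟩
    have h1 := hqs ((hmap Q).ge ⟨q, hq, rfl⟩)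
    exact Subgroup.mem_center_iff.2 fun y => Subtype.ext (h1.2 y y.2)
  have hcomm : commutator ↥S = (Subgroup.center ↥Q).map c := by
    rw [← hQ.1.2.2, commutator_def, commutator_def, Subgroup.map_commutator, ← MonoidHom.range_eq_map,
      ← hrange]
    refine le_antisymm ?_ (Subgroup.commutator_mono le_top le_top)
    haveI hQnor : (Q.subgroupOf S).Normal := CfsgLib.RankTwoThree.normal_of_index hS hQi
    rw [← hsup]
    have hz : ∀ a ∈ Q.subgroupOf S ⊔ Subgroup.zpowers (⟨x, hxs.1⟩ : ↥S),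
        ∃ q ∈ Q.subgroupOf S, ∃ z ∈ Subgroup.center ↥S, a = q * z := by
      intro a ha
      obtain ⟨q, hq, z, hz, rfl⟩ := Subgroup.mem_sup_of_normal_left.1 ha
      exact ⟨q, hq, z, (Subgroup.zpowers_le.2 hxc) hz, rfl⟩
    refine Subgroup.commutator_le.2 fun a ha b hb => ?_
    obtain ⟨q, hq, z, hz', rfl⟩ := hz a ha
    obtain ⟨r, hr, w, hw, rfl⟩ := hz b hb
    have e : ⁅q * z, r * w⁆ = ⁅q, r⁆ := by
      rw [Subgroup.mem_center_iff] at hz' hw
      calc ⁅q * z, r * w⁆ = q * (z * (r * w)) * z⁻¹ * q⁻¹ * (w⁻¹ * r⁻¹) := by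
            simp only [commutatorElement_def]; group
        _ = q * r * (w * q⁻¹) * w⁻¹ * r⁻¹ := by rw [← hz' (r * w)]; group
        _ = ⁅q, r⁆ := by rw [← hw q⁻¹, commutatorElement_def]; group
    rw [e]
    exact Subgroup.commutator_mem_commutator hq hr
  have hD : Nat.card (commutator ↥S) = p := by
    rw [hcomm, Subgroup.card_map_of_injective (Subgroup.inclusion_injective hQS), hQ.2]
  have hcenter : Nat.card (Subgroup.center ↥S) = p ^ 2 := by
    have hinf : Q.subgroupOf S ⊓ Subgroup.center ↥S = (Subgroup.center ↥Q).map c := by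
      refine le_antisymm (fun y hy => ⟨⟨y, hy.1⟩, Subgroup.mem_center_iff.2 fun w =>
        Subgroup.inclusion_injective hQS (Subgroup.mem_center_iff.1 hy.2 (c w)), rfl⟩) ?_
      exact le_inf (by rw [hrange]; exact Subgroup.map_le_range _ _) hcq
    have h1 : (Q.subgroupOf S).relIndex (Subgroup.center ↥S) = p := by
      haveI hQnor : (Q.subgroupOf S).Normal := CfsgLib.RankTwoThree.normal_of_index hS hQi
      rw [← Subgroup.relIndex_sup_right, show Subgroup.center ↥S ⊔ Q.subgroupOf S = ⊤ from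
        top_unique (hsup.ge.trans (sup_le le_sup_right ((Subgroup.zpowers_le.2 hxc).trans le_sup_left))),
        Subgroup.relIndex_top_right, hQi]
    have h2 := Subgroup.relIndex_mul_relIndex ⊥ (Q.subgroupOf S ⊓ Subgroup.center ↥S)
      (Subgroup.center ↥S) bot_le inf_le_right
    rw [Subgroup.inf_relIndex_right, h1, Subgroup.relIndex_bot_left, Subgroup.relIndex_bot_left, hinf,
      Subgroup.card_map_of_injective (Subgroup.inclusion_injective hQS), hQ.2] at h2
    rw [← h2, pow_two]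
  have hcard : Nat.card S = Nat.card ↥Q * p := by
    rw [← hQi, ← Nat.card_congr (Subgroup.subgroupOfEquivOfLe hQS).toEquiv, Subgroup.card_mul_index]
  have hS1 : S ≠ ⊥ := fun h => by
    subst h
    rw [Subgroup.card_bot] at hcard
    exact absurd (Nat.eq_one_of_mul_eq_one_left hcard.symm) hp'.ne_one
  obtain ⟨R, hR⟩ := CfsgLib.Fusion.CenterIndex.exists_essential hS hF hS1 hO
  obtain ⟨m, hm⟩ := CfsgLib.PGroup.card_eq_odd_pow_of_center p (Nat.card ↥Q) ↥Q rfl hQ.2 hQ.1.2.2.le
  by_cases h2 : 2 ≤ m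
  · refine hS1 (CfsgLib.Fusion.CenterIndex.eq_bot_of_invariant hS hF hO le_rfl (fun R' hR' => ?_)
      (fun φ _ y hy => CfsgLib.Fusion.autFun_mem φ hy) fun R' hR' β _ y hy => ?_)
    · refine (CfsgLib.Fusion.eq_of_essential_le_derived_prime hS hF le_rfl hD (hcomm.le.trans hcq)
        ?_ hR'.1.1 hR').ge
      rw [hcenter, hcard, hm, ← pow_add, ← pow_succ]
      exact Nat.pow_lt_pow_right hp'.one_lt (by omega)
    · have hR'S : R' = S := CfsgLib.Fusion.eq_of_essential_le_derived_prime hS hF le_rfl hD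
        (hcomm.le.trans hcq) (by
          rw [hcenter, hcard, hm, ← pow_add, ← pow_succ]
          exact Nat.pow_lt_pow_right hp'.one_lt (by omega)) hR'.1.1 hR'
      subst hR'S
      exact CfsgLib.Fusion.autFun_mem β hy
  · have hm1 : m = 1 := by
      rcases Nat.eq_zero_or_pos m with rfl | h
      · exfalso
        have h3 : commutator ↥Q = ⊥ := by
          haveI : IsCyclic ↥Q := isCyclic_of_prime_card (hm.trans (pow_one p))
          rw [commutator_eq_bot_iff_center_eq_top, eq_top_iff]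
          exact fun a _ => Subgroup.mem_center_iff.2 fun b => isMulCommutative_iff.1 IsCyclic.commutative b a
        have h4 := hQ.2
        rw [← hQ.1.2.2, h3, Subgroup.card_bot] at h4
        exact hp'.ne_one h4.symm
      · omega
    subst hm1
    have hidx : (Cfsg.FusionSystem.centralizerIn S S).relIndex S = p ^ 2 := by
      rw [Subgroup.relIndex, CfsgLib.Fusion.CenterIndex.centralizerIn_subgroupOf]
      have := (Subgroup.center ↥S).card_mul_index
      rw [hcenter, hcard, hm] at this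
      exact Nat.eq_of_mul_eq_mul_left (pow_pos hp'.pos 2) (this.trans (by ring))
    have h3 := CfsgLib.Fusion.CenterIndex.center_eq_derived_odd hp2 hS hF hO hidx hR
    rw [CfsgLib.Fusion.CenterIndex.derived_eq_map,
      show Cfsg.FusionSystem.centralizerIn S S = S ⊓ Subgroup.centralizer (S : Set Ω) from rfl,
      hmap] at h3
    rw [Subgroup.map_injective S.subtype_injective h3, hD] at hcenter
    nlinarith [hp'.two_le]

end Cfsg.Agent.S5178
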