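import Cfsg.Statements.S5181
import Cfsg.Agent.Lib.Fusion.System.RankThree.NormalFamily.System
import Cfsg.Agent.Lib.Fusion.System.RankThree.NormalFamily.SpFour
-- import your own Cfsg.Agent.* helpers here

set_option autoImplicit false
universe u
open Cfsg

namespace Cfsg.Agent.S5181

/-- Let p be an odd prime, S a finite p-group of sectional p-rank exactly 3, and F a saturated fusion system over S whose largest subgroup normal in F is trivial. Then either S is isomorphic to a Sylow p-subgroup of Sp(4,p), or some essential subgroup of F is not normal in S. -/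
theorem result {Ω : Type u} [Group Ω] {S : Subgroup Ω} [Finite S] (p : ℕ) [Fact p.Prime] (hp : Odd p) (hS : IsPGroup p S) (hsr : Cfsg.SectionalPRankLE p 3 ↥S ∧ ¬ Cfsg.SectionalPRankLE p 2 ↥S)
    (F : Cfsg.FusionSystem S) (hF : F.IsSaturated p) (hO : F.core = ⊥) :
    (∃ P : Sylow p ↥(Matrix.symplecticGroup (Fin 2) (ZMod p)),
        Nonempty (↥S ≃* ↥(P : Subgroup ↥(Matrix.symplecticGroup (Fin 2) (ZMod p))))) ∨
      ∃ E : Subgroup Ω, F.IsEssential p E ∧ ¬ S ≤ Subgroup.normalizer (E : Set Ω) := by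
  by_contra hcon
  push Not at hcon
  have hodd : p ≠ 2 := fun h2 => by rw [h2] at hp; exact (by decide : ¬ Odd 2) hp
  haveI : NeZero p := ⟨(Fact.out : p.Prime).ne_zero⟩
  have hsh := CfsgLib.Fusion.IndexFamily.shape_of_all_normal hodd hS hsr.1 hsr.2 hF hO hcon.2
  obtain ⟨P, hP⟩ := CfsgLib.Fusion.IndexFamily.exists_sylow_chart (p := p) hodd
  obtain ⟨φ⟩ := hsh.isChart.nonempty_equiv hP
  exact (hcon.1 P).false φ

end Cfsg.Agent.S5181
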