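import Cfsg.Statements.S5186
import Cfsg.Agent.Lib.Fusion.System.EssentialCube

set_option autoImplicit false
universe u
open Cfsg

namespace Cfsg.Agent.S5186

/-- Let F be a saturated fusion system over a finite p-group S and H an essential subgroup of order p³. Then H is elementary abelian, or p is odd and H is extraspecial of exponent p, or p = 2 and H is the quaternion group of order 8. -/
theorem result {Ω : Type u} [Group Ω] {S : Subgroup Ω} [Finite S] (p : ℕ) [Fact p.Prime] (hS : IsPGroup p S)
    (F : Cfsg.FusionSystem S) (hF : F.IsSaturated p) (H : Subgroup Ω) (hH : F.IsEssential p H) (hcard : Nat.card H = p ^ 3) :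
    Cfsg.IsElementaryAbelian p H ∨ (Odd p ∧ Cfsg.IsExtraspecial p ↥H ∧ ∀ x ∈ H, x ^ p = 1) ∨
      (p = 2 ∧ Nonempty (↥H ≃* QuaternionGroup 2)) := by
  classical
  have _ := hF
  haveI := CfsgLib.Fusion.finite_of_le hH.1.1
  by_cases hab : IsMulCommutative H
  · left
    haveI := hab
    open scoped IsMulCommutative in
    have D : CfsgLib.Fusion.EssentialRankTwo.AutData (H := H) p (F.autGroup H) :=
      ⟨hS.to_le hH.1.1, CfsgLib.Fusion.EssentialPlane.dvd_card_autGroup hH,
        CfsgLib.Fusion.EssentialPlane.pCore_autGroup_eq_bot hS hH fun a b => mul_comm' a b⟩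
    open scoped IsMulCommutative in
    have hfr := CfsgLib.Fusion.EssentialRankTwo.frattini_eq_powLayer_one D.pgroup
    refine ⟨hab, fun a ha => ?_⟩
    by_cases h2 : (frattini H).index ≤ p ^ 2
    · exfalso
      have hp := (Fact.out : p.Prime)
      open scoped IsMulCommutative in
      rcases D.rank_two (D.index_powLayer_one h2) with ⟨hc, -⟩ | ⟨-, k, ⟨e⟩⟩
      · rw [hcard] at hc
        exact absurd (Nat.pow_right_injective hp.two_le hc) (by norm_num)
      · have hc := Nat.card_congr e.toEquiv
        rw [hcard, Nat.card_congr Multiplicative.toAdd, Nat.card_prod, Nat.card_zmod, ← pow_add] at hc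
        have := Nat.pow_right_injective hp.two_le hc
        omega
    · have hbot : frattini H = ⊥ := by
        have hp := (Fact.out : p.Prime)
        obtain ⟨i, hi, hie⟩ := (Nat.dvd_prime_pow hp).1 (hcard ▸ (frattini H).index_dvd_card)
        rw [hie] at h2
        have h3 : i = 3 := by
          by_contra h
          exact h2 (Nat.pow_le_pow_right hp.pos (by omega))
        have hm := (frattini H).card_mul_index
        rw [hie, h3, hcard] at hm
        exact Subgroup.eq_bot_of_card_eq _ ((Nat.mul_eq_right (pow_pos hp.pos 3).ne').1 hm)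
      open scoped IsMulCommutative in
      have hmem := CfsgLib.Fusion.EssentialRankTwo.pow_mem_powLayer_one (p := p) (⟨a, ha⟩ : H)
      rw [← hfr, hbot, Subgroup.mem_bot] at hmem
      exact congrArg Subtype.val hmem
  · right
    obtain ⟨a, b, hne⟩ : ∃ a b : H, a * b ≠ b * a := by
      by_contra hcon
      push Not at hcon
      exact hab ⟨⟨hcon⟩⟩
    obtain ⟨hcore, hdvd⟩ := CfsgLib.Fusion.EssentialCube.autGroup_data hS hH
    rcases CfsgLib.Fusion.EssentialCube.classify hcard hne (F.autGroup H) hcore hdvd with ⟨h1, h2, h3⟩ | h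
    · exact Or.inl ⟨h1, h2, fun x hx => congrArg Subtype.val (h3 ⟨x, hx⟩)⟩
    · exact Or.inr h

end Cfsg.Agent.S5186
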