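import Cfsg.Statements.S5189
import Cfsg.Agent.Lib.Fusion.System.RankThree.NormalFamily.PairSystem
import Cfsg.Agent.Lib.Fusion.System.RankThree.NormalFamily.SpFour
import Cfsg.Agent.Lib.PGroup.GenExtraspecialSplit
-- import your own Cfsg.Agent.* helpers here

set_option autoImplicit false
universe u
open Cfsg

namespace Cfsg.Agent.S5189

/-- Let p be an odd prime, S a finite p-group of sectional p-rank exactly 3, and F a saturated fusion system over S whose largest subgroup normal in F is trivial. Suppose S has two distinct essential subgroups E₁, E₂ each of which is invariant under every F-automorphism of S. Then S is isomorphic to a Sylow p-subgroup of Sp(4,p), and one of E₁, E₂ is extraspecial of order p³ and exponent p while the other is elementary abelian of order p³. -/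
theorem result {Ω : Type u} [Group Ω] {S : Subgroup Ω} [Finite S] (p : ℕ) [Fact p.Prime] (hp : Odd p) (hS : IsPGroup p S)
    (hsr : Cfsg.SectionalPRankLE p 3 ↥S ∧ ¬ Cfsg.SectionalPRankLE p 2 ↥S)
    (F : Cfsg.FusionSystem S) (hF : F.IsSaturated p) (hO : F.core = ⊥)
    (E₁ E₂ : Subgroup Ω) (hne : E₁ ≠ E₂) (hE₁ : F.IsEssential p E₁) (hE₂ : F.IsEssential p E₂)
    (hc₁ : (∀ φ : MulAut ↥S, φ ∈ F.autGroup S → (E₁.subgroupOf S).map φ.toMonoidHom = E₁.subgroupOf S))
    (hc₂ : (∀ φ : MulAut ↥S, φ ∈ F.autGroup S → (E₂.subgroupOf S).map φ.toMonoidHom = E₂.subgroupOf S)) :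
    (∃ P : Sylow p ↥(Matrix.symplecticGroup (Fin 2) (ZMod p)),
        Nonempty (↥S ≃* ↥(P : Subgroup ↥(Matrix.symplecticGroup (Fin 2) (ZMod p))))) ∧
      ((Cfsg.IsExtraspecial p ↥E₁ ∧ Nat.card E₁ = p ^ 3 ∧ (∀ x ∈ E₁, x ^ p = 1) ∧
          Cfsg.IsElementaryAbelian p E₂ ∧ Nat.card E₂ = p ^ 3) ∨
        (Cfsg.IsExtraspecial p ↥E₂ ∧ Nat.card E₂ = p ^ 3 ∧ (∀ x ∈ E₂, x ^ p = 1) ∧
          Cfsg.IsElementaryAbelian p E₁ ∧ Nat.card E₁ = p ^ 3)) := by
  have hodd : p ≠ 2 := fun h2 => by rw [h2] at hp; exact (by decide : ¬ Odd 2) hp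
  haveI : NeZero p := ⟨(Fact.out : p.Prime).ne_zero⟩
  obtain ⟨b, hsh, hcb, heb, hcb', hexp, hna⟩ := CfsgLib.Fusion.IndexFamily.type_of_two_invariant
    hodd hS hsr.1 hsr.2 hF hO (fun b => bif b then E₁ else E₂)
    (fun b => by cases b; exacts [Ne.symm hne, hne]) (fun b => by cases b <;> assumption)
    (fun b => by cases b <;> assumption)
  obtain ⟨P, hP⟩ := CfsgLib.Fusion.IndexFamily.exists_sylow_chart (p := p) hodd
  refine ⟨⟨P, hsh.isChart.nonempty_equiv hP⟩, ?_⟩
  push Not at hna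
  obtain ⟨x, hx, y, hy, hxy⟩ := hna
  have hex : Cfsg.IsExtraspecial p ↥(bif !b then E₁ else E₂) := by
    haveI : Finite ↥(bif !b then E₁ else E₂) :=
      Nat.finite_of_card_ne_zero (by rw [hcb']; exact pow_ne_zero 3 (NeZero.ne p))
    exact CfsgLib.GenExtraspecial.isExtraspecial_of_cube hcb' (a := ⟨x, hx⟩) (b := ⟨y, hy⟩)
      (fun e => hxy (congrArg Subtype.val e)) (fun g => Subtype.ext (hexp g g.2))
  cases b
  · exact Or.inl ⟨hex, hcb', hexp, heb, hcb⟩
  · exact Or.inr ⟨hex, hcb', hexp, heb, hcb⟩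

end Cfsg.Agent.S5189
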