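import Cfsg.Statements.S5191
import Cfsg.Agent.Lib.Fusion.Sylow

set_option autoImplicit false
open Cfsg

namespace Cfsg.Agent.S5191

/-- Fusion in a finite group G and in its quotient by O_{p'}(G) agree. Let S be a Sylow p-subgroup of G, N = O_{p'}(G) and P ≤ S. If an element of G/N conjugates the image of P into the image of S, then some element g of G conjugates P into S and induces the same map on P modulo N. (Together with the injectivity of S → G/N this says that g ↦ gN induces an isomorphism of the fusion system of G on S with that of G/N on SN/N.) -/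
theorem result {G : Type*} [Group G] [Finite G] {p : ℕ} [Fact p.Prime]
    [hN : (Cfsg.pPrimeCore p G).Normal] (S : Sylow p G) (P : Subgroup G) (hP : P ≤ (S : Subgroup G))
    (γ : G ⧸ Cfsg.pPrimeCore p G)
    (hγ : ∀ x ∈ P, γ * QuotientGroup.mk x * γ⁻¹ ∈ ((S : Subgroup G).map (QuotientGroup.mk' (Cfsg.pPrimeCore p G)))) :
    ∃ g : G, ∀ x ∈ P, g * x * g⁻¹ ∈ S ∧
      (QuotientGroup.mk (g * x * g⁻¹) : G ⧸ Cfsg.pPrimeCore p G) = γ * QuotientGroup.mk x * γ⁻¹ := by
  obtain ⟨g₀, rfl⟩ := QuotientGroup.mk_surjective γ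
  set N := Cfsg.pPrimeCore p G with hNdef
  have hQ : CfsgLib.Fusion.conjBy g₀ P ≤ (S : Subgroup G) ⊔ N := CfsgLib.Fusion.conjBy_le_iff.2 fun x hx => by
    have h := hγ x hx
    rw [← QuotientGroup.mk_inv, ← QuotientGroup.mk_mul, ← QuotientGroup.mk_mul] at h
    have h' : g₀ * x * g₀⁻¹ ∈ ((S : Subgroup G).map (QuotientGroup.mk' N)).comap (QuotientGroup.mk' N) := h
    rwa [Subgroup.comap_map_eq, QuotientGroup.ker_mk'] at h'
  have hi : ¬ p ∣ (S : Subgroup G).relIndex ((S : Subgroup G) ⊔ N) := fun hd =>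
    S.not_dvd_index (hd.trans (Subgroup.relIndex_dvd_index_of_le le_sup_left))
  obtain ⟨h, hh, hle⟩ := CfsgLib.Fusion.exists_conj_le_of_not_dvd_relIndex S.2 le_sup_left hi
    (CfsgLib.Fusion.isPGroup_conjBy g₀ (S.2.to_le hP)) hQ
  rw [← SetLike.mem_coe, Subgroup.mul_normal] at hh
  obtain ⟨s, hs, n, hn, rfl⟩ := Set.mem_mul.1 hh
  refine ⟨n * g₀, fun x hx => ⟨?_, ?_⟩⟩
  · have h1 := hle (CfsgLib.Fusion.conj_mem_conjBy (g := s * n) (CfsgLib.Fusion.conj_mem_conjBy (g := g₀) hx))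
    have h2 := (S : Subgroup G).mul_mem ((S : Subgroup G).mul_mem ((S : Subgroup G).inv_mem hs) h1) hs
    have e : n * g₀ * x * (n * g₀)⁻¹ = s⁻¹ * (s * n * (g₀ * x * g₀⁻¹) * (s * n)⁻¹) * s := by group
    rw [e]
    exact h2
  · have hn1 : (QuotientGroup.mk n : G ⧸ Cfsg.pPrimeCore p G) = 1 := (QuotientGroup.eq_one_iff n).2 hn
    simp only [QuotientGroup.mk_mul, QuotientGroup.mk_inv, hn1, one_mul]

end Cfsg.Agent.S5191
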