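import Cfsg.Statements.S5196
import Cfsg.Agent.Lib.Fusion.System.Functor

set_option autoImplicit false
universe u
open Cfsg

namespace Cfsg.Agent.S5196

/-- Let p be an odd prime and W a positive characteristic p-functor: W assigns to every finite p-group Q (in a fixed universe) a subgroup W(Q), nontrivial when Q is, carried to W(R) by every isomorphism Q ≅ R; assume also Z(Q) ≤ W(Q) for every finite p-group Q. Suppose W satisfies the local condition: for every finite group G with Sylow p-subgroup P, O_p(G) ∩ Z(G) = O_p(G) ∩ Z(N_G(W(P))). Then W controls weak closure of elements in every saturated fusion system F over a finite p-group S: the centre of the normalizer fusion system of W(S) in F equals the centre of F. (For p = 2 no functor satisfies the local condition, so p is taken odd.) -/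
theorem result {p : ℕ} [Fact p.Prime] (hp : p ≠ 2) (W : ∀ (Q : Type u) [Group Q], Subgroup Q) (hW1 : ∀ (Q : Type u) [Group Q] [Finite Q], IsPGroup p Q → Nontrivial Q → W Q ≠ ⊥) (hW2 : ∀ (Q R : Type u) [Group Q] [Group R] [Finite Q], IsPGroup p Q → ∀ φ : Q ≃* R, (W Q).map φ.toMonoidHom = W R) (hWZ : ∀ (Q : Type u) [Group Q] [Finite Q], IsPGroup p Q → Subgroup.center Q ≤ W Q) (hC : ∀ (G : Type u) [Group G] [Finite G] (P : Sylow p G), Cfsg.pCore p G ⊓ Subgroup.center G = Cfsg.pCore p G ⊓ (Subgroup.center ↥(Subgroup.normalizer (((W ↥(P : Subgroup G)).map (P : Subgroup G).subtype : Subgroup G) : Set G))).map (Subgroup.normalizer (((W ↥(P : Subgroup G)).map (P : Subgroup G).subtype : Subgroup G) : Set G)).subtype) {Ω : Type u} [Group Ω] {S : Subgroup Ω} [Finite S] (hS : IsPGroup p S) (F : Cfsg.FusionSystem S) (hF : F.IsSaturated p) (N : Cfsg.FusionSystem (Cfsg.FusionSystem.normalizerIn S ((W ↥S).map S.subtype))) (hN : F.IsNormalizerSystem ((W ↥S).map S.subtype) N) : N.center = F.center := by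
  have hn : FusionSystem.normalizerIn S ((W ↥S).map S.subtype) = S :=
    CfsgLib.Fusion.normalizerIn_wSub_self W hW2 hS
  refine le_antisymm ?_
    (CfsgLib.Fusion.center_le_center_normalizerSystem (Subgroup.map_subtype_le _) hn hN)
  refine CfsgLib.Fusion.le_center_of_functor hS hF W hW2 hWZ hN le_rfl
    fun L _ _ A ι T hA _ hι hT hcore x hx hxA hxO hfix g => ?_
  have hmem : CfsgLib.Fusion.ext1 ι x ∈ Cfsg.pCore p L ⊓ Subgroup.center L := by
    rw [hC L T]
    refine Subgroup.mem_inf.2 ⟨hxO, ?_⟩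
    have hxT : CfsgLib.Fusion.ext1 ι x ∈ (T : Subgroup L) :=
      hT ▸ CfsgLib.Fusion.ext1_mem_range ι x
    set M := (W ↥(T : Subgroup L)).map (T : Subgroup L).subtype
    have hxN : CfsgLib.Fusion.ext1 ι x ∈ Subgroup.normalizer (M : Set L) := by
      haveI : Finite ↥(T : Subgroup L) := inferInstance
      refine CfsgLib.Fusion.conjBy_eq_iff.1 ?_
      have e := hW2 ↥(T : Subgroup L) ↥(T : Subgroup L) T.2 (MulAut.conj ⟨_, hxT⟩)
      refine CfsgLib.Fusion.conjBy_eq_of_le (CfsgLib.Fusion.conjBy_le_iff.2 ?_)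
      rintro _ ⟨a, ha, rfl⟩
      exact ⟨_, e.le ⟨a, ha, rfl⟩, rfl⟩
    refine ⟨⟨_, hxN⟩, Subgroup.mem_center_iff.2 fun n => Subtype.ext ?_, rfl⟩
    exact mul_inv_eq_iff_eq_mul.1 (hfix n n.2)
  have h1 := Subgroup.mem_center_iff.1 hmem.2 g
  rw [h1, mul_inv_cancel_right]

end Cfsg.Agent.S5196
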