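import Cfsg.Statements.S5200
import Cfsg.Agent.Lib.Fusion.System.CentralizerOdd
-- import your own Cfsg.Agent.* helpers here

set_option autoImplicit false
open Cfsg

namespace Cfsg.Agent.S5200

open CfsgLib.Fusion
open Cfsg.FusionSystem (centralizerIn normalizerIn)
open scoped commutatorElement Pointwise

variable {Ω : Type*} [Group Ω] {S T : Subgroup Ω} [Finite S] {p : ℕ} [Fact p.Prime]
  {F : Cfsg.FusionSystem S} {E : Cfsg.FusionSystem T}

/-- A subgroup of `C_S(T)` fixed by all maps of `E` is centralized by `E`. -/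
theorem isSubsystemOf_of_fix {X : Subgroup Ω} (hX : X ≤ centralizerIn S T) (hTS : T ≤ S)
    (hfix : ∀ P f, IsMap E P f → CMap F T X P f)
    (C : Cfsg.FusionSystem (centralizerIn S X)) (hC : F.IsCentralizerSystem X C) :
    E.IsSubsystemOf C := by
  intro P φ hφ
  rw [hC P, mem_centralizerHom_iff]
  obtain ⟨h1, h2, h3⟩ := hfix P _ (isMap_toFun hφ)
  have hle := CentFocal.le_centralizerIn_of_le hTS hX
  exact ⟨h1.trans hle, fun x hx => hle (h2 x hx), h3⟩

/-- The commutators of `C_S(T)`. -/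
def comms (S T : Subgroup Ω) : Set Ω :=
  {y | ∃ a ∈ centralizerIn S T, ∃ b ∈ centralizerIn S T, y = ⁅a, b⁆}

/-- Commutators of `C_S(T)` form a set of elements centralized by `E`. -/
theorem fixSet_comms (hTS : T ≤ S) : CentFocal.FixSet F E (comms S T) := by
  refine ⟨?_, ?_, ?_⟩
  · rintro _ ⟨a, ha, b, hb, rfl⟩
    exact mul_mem (mul_mem (mul_mem ha hb) (inv_mem ha)) (inv_mem hb)
  · rintro A hA hAT _ ⟨a, ha, b, hb, rfl⟩
    have key : ∀ x ∈ centralizerIn S T, A x ∈ centralizerIn S T := fun x hx => by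
      have h1 := map_mem_centralizerIn hA le_sup_left (Subgroup.mem_sup_right hx) hx.2
      rwa [hAT] at h1
    refine Subgroup.subset_closure ⟨A a, key a ha, A b, key b hb, ?_⟩
    have ma : a ∈ T ⊔ centralizerIn S T := Subgroup.mem_sup_right ha
    have mb : b ∈ T ⊔ centralizerIn S T := Subgroup.mem_sup_right hb
    rw [commutatorElement_def, commutatorElement_def,
      hA.map_mul (mul_mem (mul_mem ma mb) (inv_mem ma)) (inv_mem mb),
      hA.map_mul (mul_mem ma mb) (inv_mem ma), hA.map_mul ma mb, hA.map_inv ma, hA.map_inv mb]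
  · rintro Q γ hQT hγ - - hγC _ ⟨a, ha, b, hb, rfl⟩
    refine ⟨1, one_mem _, id, isMap_id (sup_le (hQT.trans hTS)
      (Subgroup.zpowers_le.2 (one_mem S))), fun _ _ => rfl, by simp, ?_⟩
    have hz : ∀ x ∈ centralizerIn S T, ∃ z ∈ Q ⊓ Subgroup.centralizer (Q : Set Ω),
        γ x = x * z ∧ ∀ y ∈ centralizerIn S T, Commute z y := fun x hx =>
      ⟨_, hγC x hx, (mul_inv_cancel_left _ _).symm, fun y hy =>
        Subgroup.mem_centralizer_iff.1 hy.2 _ (hQT (hγC x hx).1)⟩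
    obtain ⟨z, hzQ, hza, hzc⟩ := hz a ha
    obtain ⟨w, hwQ, hwb, hwc⟩ := hz b hb
    have ma : a ∈ Q ⊔ centralizerIn S T := Subgroup.mem_sup_right ha
    have mb : b ∈ Q ⊔ centralizerIn S T := Subgroup.mem_sup_right hb
    have hzw : Commute z w := Subgroup.mem_centralizer_iff.1 hwQ.2 z hzQ.1
    rw [id, inv_mul_cancel, inv_one, mul_one, commutatorElement_def,
      hγ.map_mul (mul_mem (mul_mem ma mb) (inv_mem ma)) (inv_mem mb),
      hγ.map_mul (mul_mem ma mb) (inv_mem ma), hγ.map_mul ma mb, hγ.map_inv ma, hγ.map_inv mb,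
      hza, hwb]
    calc a * z * (b * w) * (a * z)⁻¹ * (b * w)⁻¹
        = a * (z * b) * (w * z⁻¹) * a⁻¹ * w⁻¹ * b⁻¹ := by group
      _ = a * (b * z) * (z⁻¹ * w) * a⁻¹ * w⁻¹ * b⁻¹ := by rw [(hzc b hb).eq, hzw.inv_left.eq]
      _ = a * b * (w * a⁻¹) * w⁻¹ * b⁻¹ := by group
      _ = a * b * (a⁻¹ * w) * w⁻¹ * b⁻¹ := by rw [(hwc _ (inv_mem ha)).eq]
      _ = a * b * a⁻¹ * b⁻¹ := by group

/-- Let F be a saturated fusion system over a finite p-group S and E a normal subsystem of F over T whose centralizer in S lies in T: every subgroup Y of C_S(T) such that E is contained in the centralizer fusion system of Y in F satisfies Y ≤ T. Then T·C_S(T)/T is abelian (the commutator subgroup of T·C_S(T) lies in T), and if p is odd then C_S(T) ≤ T. -/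
theorem result {Ω : Type*} [Group Ω] {S : Subgroup Ω} [Finite S] (p : ℕ) [Fact p.Prime] (hS : IsPGroup p S) (F : Cfsg.FusionSystem S) (hF : F.IsSaturated p) {T : Subgroup Ω} (E : Cfsg.FusionSystem T) (hE : E.IsNormalIn F p) (hCE : ∀ Y : Subgroup Ω, Y ≤ Cfsg.FusionSystem.centralizerIn S T → (∀ C : Cfsg.FusionSystem (Cfsg.FusionSystem.centralizerIn S Y), F.IsCentralizerSystem Y C → E.IsSubsystemOf C) → Y ≤ T) : ⁅T ⊔ Cfsg.FusionSystem.centralizerIn S T, T ⊔ Cfsg.FusionSystem.centralizerIn S T⁆ ≤ T ∧ (p ≠ 2 → Cfsg.FusionSystem.centralizerIn S T ≤ T) := by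
  have hT := hE.1.2.2.2.1
  have hTS := hT.1
  constructor
  · have hG := fixSet_comms (F := F) (E := E) hTS
    have hle : Subgroup.closure (comms S T) ≤ T := hCE _ hG.le fun C hC =>
      isSubsystemOf_of_fix hG.le hTS (fun P f hf =>
        CentFocal.isMap_fixSystem_iff.1 (CentFocal.isMap_fixSystem hS hF hE hG hf)) C hC
    have hn : T ≤ Subgroup.normalizer ((centralizerIn S T : Subgroup Ω) : Set Ω) := by
      intro t ht
      refine Subgroup.mem_normalizer_iff.2 fun x => ⟨fun hx => ?_, fun hx => ?_⟩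
      · rwa [Subgroup.mem_centralizer_iff.1 hx.2 t ht, mul_inv_cancel_right]
      · have h1 := Subgroup.mem_centralizer_iff.1 hx.2 t⁻¹ (inv_mem ht)
        rw [show x = t⁻¹ * (t * x * t⁻¹) * t⁻¹⁻¹ by group, h1, mul_inv_cancel_right]
        exact hx
    refine Subgroup.commutator_le.2 fun u hu v hv => ?_
    obtain ⟨t, ht, a, ha, rfl⟩ : u ∈ (T : Set Ω) * (centralizerIn S T : Set Ω) := by
      rw [← Subgroup.coe_mul_of_left_le_normalizer_right _ _ hn]; exact hu
    obtain ⟨s, hs, b, hb, rfl⟩ : v ∈ (T : Set Ω) * (centralizerIn S T : Set Ω) := by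
      rw [← Subgroup.coe_mul_of_left_le_normalizer_right _ _ hn]; exact hv
    have hab : a * b * a⁻¹ * b⁻¹ ∈ T := hle (Subgroup.subset_closure ⟨a, ha, b, hb, rfl⟩)
    have e1 : a * s = s * a := (Subgroup.mem_centralizer_iff.1 ha.2 s hs).symm
    have e2 : t⁻¹ * (a * b * a⁻¹) = a * b * a⁻¹ * t⁻¹ :=
      Subgroup.mem_centralizer_iff.1 (mul_mem (mul_mem ha.2 hb.2) (inv_mem ha.2)) _ (inv_mem ht)
    rw [commutatorElement_def, show t * a * (s * b) * (t * a)⁻¹ * (s * b)⁻¹ =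
      t * (a * s) * b * a⁻¹ * t⁻¹ * b⁻¹ * s⁻¹ by group, e1,
      show t * (s * a) * b * a⁻¹ * t⁻¹ * b⁻¹ * s⁻¹ = t * s * (a * b * a⁻¹ * t⁻¹) * b⁻¹ * s⁻¹ by group,
      ← e2, show t * s * (t⁻¹ * (a * b * a⁻¹)) * b⁻¹ * s⁻¹ =
        t * s * t⁻¹ * (a * b * a⁻¹ * b⁻¹) * s⁻¹ by group]
    exact mul_mem (mul_mem (mul_mem (mul_mem ht hs) (inv_mem ht)) hab) (inv_mem hs)
  · intro hp c hc
    obtain ⟨z, hz, hcz, hfix⟩ := (CentLift.Ctx.mk hS hF hE).exists_translate hp hc
    have h1 : Subgroup.zpowers (c * z) ≤ T := hCE _ (Subgroup.zpowers_le.2 hcz) fun C hC =>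
      isSubsystemOf_of_fix (Subgroup.zpowers_le.2 hcz) hTS hfix C hC
    have h2 := mul_mem (h1 (Subgroup.mem_zpowers _)) (inv_mem hz.1)
    rwa [mul_inv_cancel_right] at h2

end Cfsg.Agent.S5200
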