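import Cfsg.Statements.S5201
import Cfsg.Agent.Lib.Fusion.System.EnvelopeStep
import Cfsg.Agent.Lib.Fusion.System.CentralizerFocalMain

set_option autoImplicit false
open Cfsg

namespace Cfsg.Agent.S5201

open CfsgLib.Fusion
open Cfsg.FusionSystem (centralizerIn)
open scoped Pointwise

variable {Ω : Type*} [Group Ω] {S T : Subgroup Ω} [Finite S] {p : ℕ} [Fact p.Prime]
  {F : Cfsg.FusionSystem S} {E : Cfsg.FusionSystem T}

/-- With small focal subgroup of the centralizer system, the envelope has hyperfocal subgroup in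
`T`, and `E` has `p`-power index in it. -/
theorem hasPPowerIndex (hS : IsPGroup p S) (hF : F.IsSaturated p) (hE : E.IsNormalIn F p)
    (hX : CentFocal.focal F T ≤ T) {W : Subgroup Ω} (hW : W = T ⊔ centralizerIn S T)
    {G : Cfsg.FusionSystem W}
    (h : Envelope.Stage F E p G) (hA : G.autGroup T = E.autGroup T) :
    E.HasPPowerIndexIn G p := by
  classical
  have hT := hE.1.2.2.2.1
  have hTS := hT.1
  set C := centralizerIn S T with hC
  have hWS : W ≤ S := h.le_S
  haveI := finite_of_le hWS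
  haveI := finite_of_le hTS
  have hTW : T ≤ W := le_sup_left.trans h.le
  have hWp := hS.to_le hWS
  have hGs := h.normal.1.1
  have hGF := h.normal.1.2.2.1
  have hWn : W ≤ Subgroup.normalizer (T : Set Ω) :=
    hWS.trans ((le_normalizerIn_of_stronglyClosed hT).trans inf_le_right)
  have hTG : G.StronglyClosed T := stronglyClosed_iff.2 ⟨hTW, fun R f hR hf x hx =>
    (stronglyClosed_iff.1 hT).2 R f hR (hf.ofSubsystem hGF) x hx⟩
  have hTC : (T : Set Ω) * (C : Set Ω) = (W : Set Ω) := by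
    rw [hW, Subgroup.coe_mul_of_left_le_normalizer_right]
    intro t ht
    rw [Subgroup.mem_normalizer_iff]
    intro c
    constructor
    · intro hc
      have := Subgroup.mem_centralizer_iff.1 hc.2 t ht
      rw [this, mul_inv_cancel_right]; exact hc
    · intro hc
      have h1 := Subgroup.mem_centralizer_iff.1 hc.2 t⁻¹ (inv_mem ht)
      rw [show c = t⁻¹ * (t * c * t⁻¹) * t⁻¹⁻¹ by group, h1, mul_inv_cancel_right]
      exact hc
  have hK : G.hyperfocalSubgroup p ≤ T := by
    refine hyperfocal_le ⟨hTW, hWn, fun P hP α _ x hx => ?_⟩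
    obtain ⟨ψ, hψ, hψe⟩ := exists_map_sup hWp hGs hTG ((mem_autGroup_iff hP).1 α.2)
    have hψT : IsMap G T ψ := hψ.mono (le_sup_right : T ≤ P ⊔ T)
    have hψimg : img T ψ = T := img_eq_of_map_le hTW hψT le_rfl fun t ht =>
      (stronglyClosed_iff.1 hTG).2 T ψ le_rfl hψT t ht
    have hbE : autOf hψT hψimg ∈ E.autGroup T := hA ▸ autOf_mem hψT hψimg
    obtain ⟨B, hB, hBT, hBC⟩ : ∃ B ∈ F.autGroup W, Envelope.Witness C B (autOf hψT hψimg) :=
      (fun b hb => hW ▸ Envelope.hasExt_of_normal hE hb :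
        ∀ b ∈ E.autGroup T, ∃ B ∈ F.autGroup W, Envelope.Witness C B b) _ hbE
    have hB' := (mem_autGroup_iff hWS).1 (inv_mem hB)
    have hPW : P ⊔ T ≤ W := sup_le hP hTW
    set g : Ω → Ω := autFun B⁻¹ ∘ ψ with hg
    have hgm : IsMap F (P ⊔ T) g := (hψ.ofSubsystem hGF).comp hB' fun z hz => hψ.mem_S hz
    have hgT : ∀ t ∈ T, g t = t := fun t ht => by
      show autFun B⁻¹ (ψ t) = t
      rw [← autFun_autOf hψT hψimg ht, ← hBT t ht, autFun_map_inv B (hTW ht)]
    have hxW : x ∈ W := hP hx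
    obtain ⟨t, ht, c, hc, htc⟩ := Set.mem_mul.1 (hTC.ge hxW)
    have hxP : x ∈ P ⊔ T := Subgroup.mem_sup_left hx
    have hcP : c ∈ P ⊔ T := by
      rw [show c = t⁻¹ * x by rw [← htc, inv_mul_cancel_left]]
      exact mul_mem (inv_mem (Subgroup.mem_sup_right ht)) hxP
    have hle : Subgroup.zpowers c ⊔ T ≤ P ⊔ T := sup_le (Subgroup.zpowers_le.2 hcP) le_sup_right
    have hcg : c⁻¹ * g c ∈ T := hX (Subgroup.subset_closure ⟨c, hc, g, hgm.mono hle, hgT, rfl⟩)
    have hgc : g c ∈ C := CentFocal.map_mem_cent (hgm.mono hle) hgT (Subgroup.mem_zpowers c) hc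
    have hψc : c⁻¹ * ψ c ∈ T := by
      have e : ψ c = autFun B (g c) := by
        show ψ c = autFun B (autFun B⁻¹ (ψ c))
        rw [autFun_inv_apply B (hψ.mem_S hcP)]
      rw [e, show c⁻¹ * autFun B (g c) = (c⁻¹ * g c) * ((g c)⁻¹ * autFun B (g c)) by group]
      exact mul_mem hcg (hBC _ hgc).1
    have hxψ : x⁻¹ * ψ x ∈ T := by
      rw [← htc, hψ.map_mul (Subgroup.mem_sup_right ht) hcP,
        show (t * c)⁻¹ * (ψ t * ψ c) = c⁻¹ * (t⁻¹ * ψ t) * c⁻¹⁻¹ * (c⁻¹ * ψ c) by group]
      refine mul_mem ?_ hψc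
      exact (Subgroup.mem_normalizer_iff.1 (hWn (inv_mem (h.le (Subgroup.mem_sup_right hc)))) _).1
        (mul_mem (inv_mem ht) (hψimg.le (hψT.mem_img.2 ⟨t, ht, rfl⟩)))
    have h1 := mul_mem hxψ (inv_mem (hψe x hx))
    rwa [show x⁻¹ * ψ x * ((autFun (α : MulAut P) x)⁻¹ * ψ x)⁻¹ =
      x⁻¹ * autFun (α : MulAut P) x by group] at h1
  set G₁ := pSystem G p T hTW hK with hG₁
  have hG₁s : G₁.IsSaturated p := isSaturated_pSystem hWp hGs
  have hG₁i : G₁.HasPPowerIndexIn G p := pSystem_hasPPowerIndex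
  have hsub : E.IsSubsystemOf G₁ :=
    isSubsystemOf_pPowerIndex hWp hE.1.1 h.sub hTW le_rfl hG₁i
  have hinv : E.IsInvariantIn G₁ := isInvariantIn_of_between hS hF hG₁s
    (fun P φ hφ => hGF P (hG₁i.1 P hφ)) hE.1.2.2 hsub
  have htop : G₁.autGroup T ≤ E.autGroup T :=
    (autGroup_le_ofSubsystem hG₁i.1 le_rfl hTW).trans hA.le
  refine ⟨h.sub, hK, fun P hP => (hG₁i.2.2 P hP).trans fun a ha => (mem_autGroup_iff hP).2 ?_⟩
  exact le_of_invariant (hS.to_le hTS) hG₁s hinv htop ((mem_autGroup_iff hP).1 ha)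

/-- A reduction to normal subsystems. Let F be a saturated fusion system over a finite p-group S and E a normal subsystem of F over T whose centralizer in S lies in T (every subgroup Y of C_S(T) with E contained in the centralizer fusion system of Y in F satisfies Y ≤ T), and suppose Aut_F(T)/Aut_E(T) is p-solvable. Then F and E have the same residual limit: if F∞ is the residual limit of F (reached by alternately passing to the p-residual and the p'-residual subsystem until nothing changes) and E∞ that of E, then F∞ and E∞ have the same maps. -/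
theorem result {Ω : Type*} [Group Ω] {S : Subgroup Ω} [Finite S] (p : ℕ) [Fact p.Prime] (hS : IsPGroup p S) (F : Cfsg.FusionSystem S) (hF : F.IsSaturated p) {T : Subgroup Ω} (E : Cfsg.FusionSystem T) (hE : E.IsNormalIn F p) (hCE : ∀ Y : Subgroup Ω, Y ≤ Cfsg.FusionSystem.centralizerIn S T → (∀ C : Cfsg.FusionSystem (Cfsg.FusionSystem.centralizerIn S Y), F.IsCentralizerSystem Y C → E.IsSubsystemOf C) → Y ≤ T) [hn : ((E.autGroup T).subgroupOf (F.autGroup T)).Normal] (hsolv : Cfsg.IsPSolvable p (↥(F.autGroup T) ⧸ (E.autGroup T).subgroupOf (F.autGroup T))) {U V : Subgroup Ω} (Finf : Cfsg.FusionSystem U) (hFinf : Finf.IsResidualLimitOf F p) (Einf : Cfsg.FusionSystem V) (hEinf : Einf.IsResidualLimitOf E p) : ∀ P : Subgroup Ω, Finf.Hom P = Einf.Hom P := by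
  obtain ⟨G, h, hA⟩ := Envelope.exists_stage hS hF hE hsolv _ F (Envelope.stage_self hS hF hE) le_rfl
  have hX : CentFocal.focal F T ≤ T := hCE _ CentFocal.focal_le fun C hC P φ hφ => by
    rw [hC P]
    exact CentFocal.hom_subset_centralizerHom hS hF hE P hφ
  haveI := finite_of_le h.le_S
  obtain ⟨W, L, hL⟩ := Limit.exists_limit (p := p) _ G inferInstance le_rfl
    (hS.to_le h.le_S) h.normal.1.1
  exact ((h.limit hFinf hL).trans (S5203.main (hS.to_le h.le_S) h.normal.1.1 hE.1.1 le_sup_left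
    (hasPPowerIndex hS hF hE hX rfl h hA) hL hEinf)).2

end Cfsg.Agent.S5201
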