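import Cfsg.Statements.S5212
import Cfsg.Agent.Lib.Fusion.System.MetacyclicTwoNormal
import Cfsg.Agent.Lib.Fusion.System.Inner
import Cfsg.Agent.Lib.Fusion.System.Criteria
-- import your own Cfsg.Agent.* helpers here

set_option autoImplicit false
open Cfsg

namespace Cfsg.Agent.S5212

/-- Let S be a finite metacyclic 2-group that is not homocyclic abelian (a direct product of cyclic groups of one common order), not dihedral, not semidihedral and not generalized quaternion. Then every saturated fusion system over S is the inner fusion system of S. -/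
theorem result {Ω : Type*} [Group Ω] {S : Subgroup Ω} [Finite S] (hS : IsPGroup 2 S) (F : Cfsg.FusionSystem S) (hF : F.IsSaturated 2) (hm : Cfsg.IsMetacyclic ↥S) (hh : ¬ ∃ n k : ℕ, Nonempty (↥S ≃* Multiplicative (Fin k → ZMod (2 ^ n)))) (hd : ¬ ∃ m : ℕ, Nonempty (↥S ≃* DihedralGroup m)) (hq : ¬ ∃ m : ℕ, Nonempty (↥S ≃* QuaternionGroup m)) (hsd : ¬ Cfsg.IsQuasiDihedral ↥S) : ∀ P : Subgroup Ω, F.Hom P = (Cfsg.innerFusionSystem S).Hom P := by
  haveI : Fact (Nat.Prime 2) := ⟨Nat.prime_two⟩
  have hA : IsPGroup 2 (MulAut S) := by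
    by_contra hA
    rcases CfsgLib.PGroup.MetaTwo.homocyclic_or_quaternion hS hm hA with h | ⟨n, -, ⟨φ⟩⟩
    · exact hq ⟨2, h⟩
    · exact hh ⟨n, 2, ⟨φ.trans
        { toFun := fun w => Multiplicative.ofAdd ![Multiplicative.toAdd w.1, Multiplicative.toAdd w.2]
          invFun := fun w => (Multiplicative.ofAdd (Multiplicative.toAdd w 0),
            Multiplicative.ofAdd (Multiplicative.toAdd w 1))
          left_inv := fun w => rfl
          right_inv := fun w => Multiplicative.toAdd.injective (funext fun i => by fin_cases i <;> rfl)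
          map_mul' := fun v w => Multiplicative.toAdd.injective (funext fun i => by
            fin_cases i <;> rfl) }⟩⟩
  have hn : F.IsNormal S :=
    CfsgLib.Fusion.MetaTwo.isNormal_metacyclic_two hS hF CfsgLib.Fusion.stronglyClosed_self hm hd hq hsd
  have hT : IsPGroup 2 (F.autGroup S) := hA.to_subgroup _
  refine CfsgLib.Fusion.isInner_iff.1 (CfsgLib.Fusion.isInner_of_aut_isPGroup hS hF hT fun R hR => ?_)
  rw [le_antisymm hR.1.1 (CfsgLib.Fusion.le_of_isNormal hS hn hR.1
    (CfsgLib.Fusion.isEssential_centric_radical hS hR).2)]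
  exact hT

end Cfsg.Agent.S5212
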