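import Cfsg.Statements.S5214
-- import your own Cfsg.Agent.* helpers here
import Cfsg.Agent.Lib.PGroup.TransInvol.Final
import Cfsg.Agent.Lib.Fusion.System.AgemoNormal
import Cfsg.Agent.Lib.Fusion.System.Criteria

set_option autoImplicit false
open Cfsg

namespace Cfsg.Agent.S5214

open CfsgLib.Fusion
open scoped commutatorElement

/-- Let S be a Suzuki 2-group (a finite nonabelian 2-group with more than one involution admitting a cyclic group of automorphisms permuting its involutions regularly). Then S is normal in every saturated fusion system over S (such a group is resistant). -/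
theorem result {Ω : Type*} [Group Ω] {S : Subgroup Ω} [Finite S] (hS : IsPGroup 2 S) (F : Cfsg.FusionSystem S) (hF : F.IsSaturated 2) (hsz : Cfsg.IsSuzukiTwoGroup ↥S) : F.IsNormal S := by
  haveI : Fact (Nat.Prime 2) := ⟨Nat.prime_two⟩
  obtain ⟨-, -, ⟨a, b, hab⟩, ⟨u, v, huv, hu, hu2, hv, hv2⟩, K, hKc, hK⟩ := hsz
  haveI : Group.IsSolvable K := Group.isSolvable_of_comm fun x y =>
    (IsCyclic.commGroup (α := K)).mul_comm x y
  obtain ⟨hGΦ, hΦZ, hZ⟩ := CfsgLib.TransInvol.special_of_transitive hS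
    (fun h => hab (h.is_comm.comm a b)) ⟨u, v, huv, hu, by rw [sq, hu2], hv, by rw [sq, hv2]⟩ K
    fun x y hx hx2 hy hy2 => by
      obtain ⟨k, hk, -⟩ := hK x y hx (by rw [← sq, hx2]) hy (by rw [← sq, hy2])
      exact ⟨k, k.2, hk⟩
  set Z : Subgroup Ω := (Subgroup.center S).map S.subtype with hZdef
  have hmem : ∀ x, x ∈ Z ↔ x ∈ S ∧ x ^ 2 = 1 := by
    intro x
    constructor
    · rintro ⟨z, hz, rfl⟩
      exact ⟨z.2, congrArg Subtype.val ((hZ z).1 hz)⟩
    · rintro ⟨hx, hx2⟩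
      exact ⟨⟨x, hx⟩, (hZ _).2 (Subtype.ext hx2), rfl⟩
  have hZS : Z ≤ S := fun x hx => ((hmem x).1 hx).1
  refine isNormal_of_series hS hF (n := 2) (Qs := ![⊥, Z, S]) rfl rfl ?_ (fun i => ?_) fun i => ?_
  · refine Fin.monotone_iff_le_succ.2 fun i => ?_
    fin_cases i
    · exact bot_le
    · exact hZS
  · fin_cases i
    · refine stronglyClosed_iff.2 ⟨hZS, fun T f hT hf x hx => ?_⟩
      refine (hmem _).2 ⟨hf.mem_S hx, ?_⟩
      rw [← IsMap.map_pow' hf hx, ((hmem x).1 (hT hx)).2, hf.map_one]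
    · exact stronglyClosed_self
  · fin_cases i
    · refine Subgroup.commutator_le.2 fun s hs z hz => Subgroup.mem_bot.2 ?_
      obtain ⟨⟨z, hzS⟩, hzc, rfl⟩ := hz
      exact commutatorElement_eq_one_iff_mul_comm.2
        (congrArg Subtype.val (Subgroup.mem_center_iff.1 hzc ⟨s, hs⟩))
    · refine Subgroup.commutator_le.2 fun s hs t ht => ?_
      refine ⟨⁅(⟨s, hs⟩ : S), ⟨t, ht⟩⁆, hΦZ.le (hGΦ.le ?_), rfl⟩
      exact Subgroup.commutator_mem_commutator (Subgroup.mem_top _) (Subgroup.mem_top _)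

end Cfsg.Agent.S5214
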