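import Cfsg.Statements.S5215
import Cfsg.Agent.Lib.RankTwoFusion.SimpleModels
-- import your own Cfsg.Agent.* helpers here

set_option autoImplicit false
open Cfsg

namespace Cfsg.Agent.S5215

/-- Let S be a finite 2-group of 2-rank 2 (an elementary abelian subgroup of order 4, none of order 8) and F a simple saturated fusion system over S. Then S is dihedral, semidihedral or wreathed, and F is the fusion system of the projective special linear group PSL₂(q) for some odd prime power q ≡ ±1 (mod 8) or of PSL₃(q) for some odd prime power q: it is realized by an injective homomorphism of S into that group whose image is a Sylow 2-subgroup. -/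
theorem result {Ω : Type*} [Group Ω] {S : Subgroup Ω} [Finite S] (hS : IsPGroup 2 S) (F : Cfsg.FusionSystem S) (hF : F.IsSaturated 2) (hr : Cfsg.PRankAtLeast 2 2 ↥S ∧ ¬ Cfsg.PRankAtLeast 2 3 ↥S) (hsimple : F.IsSimple 2) : ((∃ m : ℕ, Nonempty (↥S ≃* DihedralGroup m)) ∨ Cfsg.IsQuasiDihedral ↥S ∨ Cfsg.IsWreathed ↥S) ∧ ∃ (K : Type) (_ : Field K) (_ : Fintype K) (q : ℕ), Fintype.card K = q ∧ Odd q ∧ (((q % 8 = 1 ∨ q % 8 = 7) ∧ ∃ ι : ↥S →* Matrix.ProjectiveSpecialLinearGroup (Fin 2) K, F.IsRealizedBy ι ∧ ∃ T : Sylow 2 (Matrix.ProjectiveSpecialLinearGroup (Fin 2) K), (T : Subgroup (Matrix.ProjectiveSpecialLinearGroup (Fin 2) K)) = ι.range) ∨ (∃ ι : ↥S →* Matrix.ProjectiveSpecialLinearGroup (Fin 3) K, F.IsRealizedBy ι ∧ ∃ T : Sylow 2 (Matrix.ProjectiveSpecialLinearGroup (Fin 3) K), (T : Subgroup (Matrix.ProjectiveSpecialLinearGroup (Fin 3) K)) = ι.range)) := by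
  haveI : Fact (Nat.Prime 2) := ⟨Nat.prime_two⟩
  -- the group is not abelian
  have hna : ¬ ∀ a b : S, a * b = b * a := by
    intro hab
    have h2 := (CfsgLib.Fusion.simple_abelian hS hF
      (fun x hx y hy => congrArg Subtype.val (hab ⟨x, hx⟩ ⟨y, hy⟩)) hsimple).1
    obtain ⟨A, -, -, hA⟩ := hr.1
    have := A.card_le_card_group
    omega
  have hZ := CfsgLib.RankTwoFusion.center_eq_bot_of_simple hS hsimple hna
  have hreal := CfsgLib.RankTwoFusion.realizable_of_system hS hF hr.2 hsimple.2.1 hZ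
  obtain ⟨G, hG, hfin, ι, hι, T, hT, hGc, hFG⟩ :=
    CfsgLib.RankTwoFusion.exists_perfect_realization hS hsimple hna hreal
  haveI : Fintype (GaloisField 2 4) := Fintype.ofFinite _
  have hK : Fintype.card (GaloisField 2 4) = 16 := by
    rw [← Nat.card_eq_fintype_card, GaloisField.card 2 4 (by norm_num)]; norm_num
  obtain ⟨P⟩ := (inferInstance : Nonempty (Sylow 2 (Cfsg.PSU 3 (GaloisField 2 4) 4)))
  rcases CfsgLib.RankTwoFusion.shape_of_system hS hF hr.2 hsimple.2.1 hZ hK P with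
    ⟨m, hm, ⟨e⟩⟩ | h | h | ⟨n, -, ⟨e⟩⟩ | h
  · obtain ⟨j, hj⟩ := hS.exists_card_eq
    rw [Nat.card_congr e.toEquiv, DihedralGroup.nat_card] at hj
    obtain ⟨k, rfl⟩ : ∃ k, m = 2 ^ k :=
      ⟨j - 1, by
        rcases j with _ | j
        · omega
        · rw [pow_succ] at hj; rw [Nat.add_sub_cancel]; omega⟩
    have hk : 2 ≤ k := by
      by_contra hk
      refine hna fun a b => e.injective ?_
      have hk1 : k = 1 := by
        rcases k with _ | _ | k
        · norm_num at hm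
        · rfl
        · omega
      subst hk1
      rw [map_mul, map_mul]
      exact (by decide : ∀ x y : DihedralGroup (2 ^ 1), x * y = y * x) _ _
    refine ⟨Or.inl ⟨2 ^ k, ⟨e⟩⟩, ?_⟩
    obtain ⟨q, hq, hqo, hq8, hperf, U, ⟨g⟩⟩ := CfsgLib.RankTwoFusion.exists_psl_two_dihedral hk
    haveI : NeZero (2 ^ k) := ⟨by positivity⟩
    have C := CfsgLib.Fusion.SmallTwo.frame_of_equiv e.symm (CfsgLib.Invol.dihedral_frame (2 ^ k))
    have D := CfsgLib.Fusion.SmallTwo.DQ.of_frame (v := 0) (w := 0) hk C odd_one (by norm_num)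
      (by norm_num) (by ring)
    obtain ⟨i, hi, hiT⟩ := CfsgLib.RankTwoFusion.realizedBy_of_cyclic D hS hF hT hGc hFG hperf U
      (e.trans g.symm)
    exact ⟨ZMod q, inferInstance, inferInstance, q, ZMod.card q, hqo, Or.inl ⟨hq8, i, hi, hiT⟩⟩
  · refine ⟨Or.inr (Or.inl h), ?_⟩
    obtain ⟨k, A, B, hk, hcS, C⟩ := CfsgLib.Invol.exists_frame_of_quasiDihedral h
    obtain ⟨q, hq, hqo, hperf, U, hUq, hUc⟩ := CfsgLib.RankTwoFusion.exists_psl_three_semidihedral hk
    obtain ⟨k', a', b', -, hc', C'⟩ := CfsgLib.Invol.exists_frame_of_quasiDihedral hUq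
    obtain rfl : k' = k := by
      have := Nat.pow_right_injective le_rfl (hUc.symm.trans hc')
      omega
    obtain ⟨g, -⟩ := C.nonempty_mulEquiv C'
    have hk2 : (2 : ℤ) ^ (k' - 2) = 2 * 2 ^ (k' - 3) := by rw [← pow_succ']; congr 1; omega
    have hk1 : (2 : ℤ) ^ (k' - 1) = 2 * 2 ^ (k' - 2) := by rw [← pow_succ']; congr 1; omega
    have D := CfsgLib.Fusion.SmallTwo.DQ.of_frame (u := 1 - 2 ^ (k' - 2)) (v := 1) (w := 0)
      (show 2 ≤ k' by omega) C ⟨-(2 ^ (k' - 3)), by rw [hk2]; ring⟩ (by rw [hk1]; ring) (by ring)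
      (by ring)
    obtain ⟨i, hi, hiT⟩ := CfsgLib.RankTwoFusion.realizedBy_of_cyclic D hS hF hT hGc hFG hperf U g
    exact ⟨ZMod q, inferInstance, inferInstance, q, ZMod.card q, hqo, Or.inr ⟨i, hi, hiT⟩⟩
  · refine ⟨Or.inr (Or.inr h), ?_⟩
    obtain ⟨n, x, y, z, hn, hcard, Wf⟩ := CfsgLib.Invol.exists_wrFrame h
    have W : CfsgLib.Fusion.SmallTwo.Wr S n (x : Ω) (y : Ω) (z : Ω) := ⟨x.2, y.2, z.2, hn, Wf⟩
    obtain ⟨q, hq, hqo, hperf, U, hUw, hUc⟩ := CfsgLib.RankTwoFusion.exists_psl_three_wreathed hn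
    obtain ⟨n', x', y', z', -, hc', Wf'⟩ := CfsgLib.Invol.exists_wrFrame hUw
    obtain rfl : n' = n := by
      have := Nat.pow_right_injective le_rfl (hUc.symm.trans hc')
      omega
    obtain ⟨g, -⟩ := CfsgLib.Fusion.SmallTwo.exists_equiv_of_frames Wf Wf'
    obtain ⟨i, hi, hiT⟩ := CfsgLib.RankTwoFusion.realizedBy_of_wreathed W hS hF hT hGc hFG hperf U g
    exact ⟨ZMod q, inferInstance, inferInstance, q, ZMod.card q, hqo, Or.inr ⟨i, hi, hiT⟩⟩
  · exact absurd (fun a b => e.injective (by rw [map_mul, map_mul, mul_comm])) hna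
  · refine absurd ?_ (CfsgLib.RankTwoFusion.not_normal_of_simple hS hsimple hna)
    have e := h.some
    obtain ⟨-, -, hPs⟩ := Cfsg.Agent.S1141.result (F := GaloisField 2 4) (n := 2) le_rfl
      (by rw [hK]; norm_num) P
    obtain ⟨K', _, _, _, k', ⟨D⟩⟩ := CfsgLib.TransInvol.exists_suz hPs
    have hmem : ∀ x : S, x ∈ Subgroup.center S ↔
        e x ∈ Subgroup.center (P : Subgroup (Cfsg.PSU 3 (GaloisField 2 4) 4)) := fun x => by
      simp only [Subgroup.mem_center_iff]
      constructor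
      · intro h g
        obtain ⟨g', rfl⟩ := e.surjective g
        rw [← map_mul, ← map_mul, h g']
      · intro h g
        exact e.injective (by rw [map_mul, map_mul, h (e g)])
    refine CfsgLib.RankTwoFusion.normal_of_suzuki hS hF (fun x => ?_) fun x y => ?_
    · refine (hmem x).trans ((D.center_iff (e x)).trans ?_)
      rw [← map_pow, MulEquiv.map_eq_one_iff]
    · rw [hmem, map_commutatorElement]
      exact D.comm_mem _ _

end Cfsg.Agent.S5215
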