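import Cfsg.Statements.S5217
import Cfsg.Agent.Lib.Fusion.System.Bicyclic.Inner
import Cfsg.Agent.Lib.Fusion.System.Bicyclic.Construct

set_option autoImplicit false
open Cfsg

namespace Cfsg.Agent.S5217

/-- Let S be a finite bicyclic 2-group (S = ⟨x⟩⟨y⟩) that is not metacyclic. Then S supports a saturated fusion system other than its inner fusion system if and only if the commutator subgroup of S is cyclic. -/
theorem result {Ω : Type*} [Group Ω] {S : Subgroup Ω} [Finite S] (hS : IsPGroup 2 S) (hb : ∃ x y : ↥S, ∀ g : ↥S, ∃ i j : ℤ, g = x ^ i * y ^ j) (hm : ¬ Cfsg.IsMetacyclic ↥S) : (∃ F : Cfsg.FusionSystem S, F.IsSaturated 2 ∧ ¬ ∀ P : Subgroup Ω, F.Hom P = (Cfsg.innerFusionSystem S).Hom P) ↔ IsCyclic ↥(commutator ↥S) := by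
  constructor
  · rintro ⟨F, hF, hne⟩
    by_contra hnc
    exact hne (CfsgLib.Fusion.isInner_iff.1
      (CfsgLib.Fusion.Bicyclic.isInner hS ⟨hS, hm, hb⟩ hnc hF))
  · intro hc
    obtain ⟨u, v, e, s, w, C⟩ := CfsgLib.Fusion.Bicyclic.exists_conf hS hm hb hc
    obtain ⟨θ, D⟩ := C.map.datum hS
    obtain ⟨F, hF, hne⟩ := D.exists_noninner hS
    exact ⟨F, hF, fun h => hne (CfsgLib.Fusion.isInner_iff.2 h)⟩

end Cfsg.Agent.S5217
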