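import Cfsg.Statements.S5219
import Cfsg.Agent.Lib.Fusion.System.AgemoNormal
import Mathlib.GroupTheory.Exponent

set_option autoImplicit false
open Cfsg

namespace Cfsg.Agent.S5219

open scoped commutatorElement

/-- Let p be a prime, n a natural number, S a nontrivial finite p-group of nilpotence class at most n(p−1)+1, and F a saturated fusion system over S with no nontrivial normal subgroup (O_p(F) = 1). Then S has exponent dividing p^(n²(p−1)+n). -/
theorem result {Ω : Type*} [Group Ω] {S : Subgroup Ω} [Finite S] (p : ℕ) [Fact p.Prime] (hS : IsPGroup p S) (F : Cfsg.FusionSystem S) (hF : F.IsSaturated p) (n : ℕ) (hS1 : S ≠ ⊥) (hcl : Subgroup.lowerCentralSeries S (n * (p - 1) + 1) = ⊥) (hcore : F.core = ⊥) : Monoid.exponent ↥S ∣ p ^ (n ^ 2 * (p - 1) + n) := by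
  have hW := CfsgLib.Fusion.isNormal_agemoCenter hS hF hcl
  have hbot : Cfsg.powerClosure p n (S ⊓ Subgroup.centralizer (S : Set Ω)) = ⊥ :=
    eq_bot_iff.2 ((CfsgLib.Fusion.le_core hW).trans_eq hcore)
  set k := n * (p - 1) + 1 with hk
  set e := p ^ n with he
  have hZ : ∀ x ∈ Subgroup.center ↥S, x ^ e = 1 := by
    intro x hx
    have h : ((x : Ω)) ^ e ∈ Cfsg.powerClosure p n (S ⊓ Subgroup.centralizer (S : Set Ω)) := by
      refine Subgroup.subset_closure ⟨(x : Ω), ⟨x.2, Subgroup.mem_centralizer_iff.2 fun y hy => ?_⟩, rfl⟩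
      exact congrArg Subtype.val (Subgroup.mem_center_iff.1 hx ⟨y, hy⟩)
    rw [hbot, Subgroup.mem_bot] at h
    exact Subtype.ext h
  have hpow : ∀ i, ∀ x ∈ Subgroup.upperCentralSeries ↥S (i + 1),
      x ^ e ∈ Subgroup.upperCentralSeries ↥S i := by
    intro i
    induction i with
    | zero =>
      intro x hx
      rw [zero_add, Subgroup.upperCentralSeries_one] at hx
      rw [hZ x hx]
      exact one_mem _
    | succ i ih =>
      intro x hx
      rw [Subgroup.mem_upperCentralSeries_succ_iff] at hx ⊢
      intro y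
      let q := QuotientGroup.mk' (Subgroup.upperCentralSeries ↥S i)
      have hcen : ∀ z, Commute (q ⁅x, y⁆) z := by
        intro z
        obtain ⟨w, rfl⟩ := QuotientGroup.mk'_surjective (Subgroup.upperCentralSeries ↥S i) z
        have h1 : q ⁅⁅x, y⁆, w⁆ = 1 :=
          (QuotientGroup.eq_one_iff _).2 (Subgroup.mem_upperCentralSeries_succ_iff.1 (hx y) w)
        rw [map_commutatorElement] at h1
        exact commutatorElement_eq_one_iff_commute.1 h1
      have hm : ∀ m : ℕ, q x ^ m * q y * (q x ^ m)⁻¹ = q ⁅x, y⁆ ^ m * q y := by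
        intro m
        induction m with
        | zero => simp
        | succ m ihm =>
          have h2 : q x * q y * (q x)⁻¹ = q ⁅x, y⁆ * q y := by
            rw [map_commutatorElement, commutatorElement_def]
            group
          calc q x ^ (m + 1) * q y * (q x ^ (m + 1))⁻¹
              = q x * (q x ^ m * q y * (q x ^ m)⁻¹) * (q x)⁻¹ := by rw [pow_succ']; group
            _ = (q x * q ⁅x, y⁆ ^ m) * q y * (q x)⁻¹ := by rw [ihm]; group
            _ = q ⁅x, y⁆ ^ m * (q x * q y * (q x)⁻¹) := by
              rw [((hcen (q x)).pow_left m).symm.eq]; group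
            _ = _ := by rw [h2, ← mul_assoc, ← pow_succ]
      have h3 : q (⁅x, y⁆ ^ e) = 1 := (QuotientGroup.eq_one_iff _).2 (ih _ (hx y))
      refine (QuotientGroup.eq_one_iff (N := Subgroup.upperCentralSeries ↥S i) _).1 ?_
      show q ⁅x ^ e, y⁆ = 1
      rw [map_commutatorElement, commutatorElement_def, map_pow, hm, ← map_pow, h3, one_mul,
        mul_inv_cancel]
  have htop : Subgroup.upperCentralSeries ↥S k = ⊤ := by
    have hlow : (⊤ : Subgroup ↥S).lowerCentralSeries k = ⊥ := by
      refine (Subgroup.map_eq_bot_iff_of_injective _ S.subtype_injective).1 ?_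
      rw [CfsgLib.Fusion.map_lowerCentralSeries', ← MonoidHom.range_eq_map, Subgroup.range_subtype]
      exact hcl
    have hasc := Subgroup.is_ascending_rev_series_of_is_descending ↥S hlow
      Subgroup.lowerCentralSeries_isDescendingCentralSeries
    refine eq_top_iff.2 (le_trans ?_ (Subgroup.ascending_central_series_le_upper _ hasc k))
    simp
  have hdesc : ∀ j, ∀ x ∈ Subgroup.upperCentralSeries ↥S j, x ^ e ^ j = 1 := by
    intro j
    induction j with
    | zero => intro x hx; simpa using hx
    | succ j ihj =>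
      intro x hx
      rw [pow_succ', pow_mul]
      exact ihj _ (hpow j x hx)
  refine Monoid.exponent_dvd_of_forall_pow_eq_one fun x => ?_
  have h := hdesc k x (htop ▸ Subgroup.mem_top x)
  rw [he, ← pow_mul] at h
  rwa [show n ^ 2 * (p - 1) + n = n * k by rw [hk]; ring]

end Cfsg.Agent.S5219
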