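import Cfsg.Statements.S5220
import Cfsg.Agent.Lib.Fusion.System.ZJGeneration

set_option autoImplicit false
open Cfsg

namespace Cfsg.Agent.S5220

/-- Let F be a saturated fusion system over a nontrivial finite p-group S, let J(S) be the subgroup generated by the abelian subgroups of S of largest order, and let V be the subgroup generated by the p-th powers of the elements of Z(S). Then F is generated by the centralizer fusion system of V and the normalizer fusion system of J(S): every fusion system over S containing the maps of both contains every map of F. -/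
theorem result {Ω : Type*} [Group Ω] {S : Subgroup Ω} [Finite S] (p : ℕ) [Fact p.Prime] (hS : IsPGroup p S) (F : Cfsg.FusionSystem S) (hF : F.IsSaturated p) (hS1 : S ≠ ⊥) (C : Cfsg.FusionSystem (Cfsg.FusionSystem.centralizerIn S (Cfsg.powerClosure p 1 (S ⊓ Subgroup.centralizer (S : Set Ω))))) (hC : F.IsCentralizerSystem (Cfsg.powerClosure p 1 (S ⊓ Subgroup.centralizer (S : Set Ω))) C) (N : Cfsg.FusionSystem (Cfsg.FusionSystem.normalizerIn S (Cfsg.thompsonSubgroupAOf S))) (hN : F.IsNormalizerSystem (Cfsg.thompsonSubgroupAOf S) N) (E : Cfsg.FusionSystem S) (hCE : C.IsSubsystemOf E) (hNE : N.IsSubsystemOf E) : F.IsSubsystemOf E := by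
  have hQle : CfsgLib.Fusion.zPow p S ≤ S ⊓ Subgroup.centralizer (S : Set Ω) := CfsgLib.Fusion.zPow_le
  have hCS : S ≤ Cfsg.FusionSystem.centralizerIn S (CfsgLib.Fusion.zPow p S) := fun s hs =>
    ⟨hs, Subgroup.mem_centralizer_iff.2 fun z hz =>
      (Subgroup.mem_centralizer_iff.1 (hQle hz).2 s hs).symm⟩
  have hJS : Cfsg.thompsonSubgroupAOf S ≤ S := CfsgLib.Fusion.thompsonA_le_self S
  have hNS : S ≤ Cfsg.FusionSystem.normalizerIn S (Cfsg.thompsonSubgroupAOf S) :=
    (CfsgLib.Fusion.le_normalizerIn le_rfl).trans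
      (CfsgLib.Fusion.normalizerIn_le_normalizerIn_thompsonA hS le_rfl)
  intro P φ hφ
  refine CfsgLib.Fusion.mem_hom_iff.2 (CfsgLib.Fusion.genBelow (Nat.card S + 1) S (Nat.lt_succ_self _)
    hS F hF E ?_ ?_ P _ (CfsgLib.Fusion.isMap_toFun hφ))
  · intro R f g hg hgf hfix
    have hf : CfsgLib.Fusion.IsMap F R f := (hg.mono le_sup_left).congr fun x hx => (hgf x hx).symm
    have hm := (CfsgLib.Fusion.isMap_of_isCentralizerSystem hC).2
      ⟨hf.le.trans hCS, fun x hx => hCS (hf.mem_S hx), g, hg, hgf, hfix⟩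
    obtain ⟨ψ, hψ, hψe⟩ := hm
    exact ⟨ψ, hCE R hψ, hψe⟩
  · intro R f g hg hgf himg
    have hf : CfsgLib.Fusion.IsMap F R f := (hg.mono le_sup_left).congr fun x hx => (hgf x hx).symm
    have hm := (CfsgLib.Fusion.isMap_of_isNormalizerSystem hN).2
      ⟨hf.le.trans hNS, fun x hx => hNS (hf.mem_S hx), g, hg, hgf, himg⟩
    obtain ⟨ψ, hψ, hψe⟩ := hm
    exact ⟨ψ, hNE R hψ, hψe⟩

end Cfsg.Agent.S5220
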