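import Cfsg.Statements.S5238
import Cfsg.Agent.Lib.Fusion.System.Pearl

set_option autoImplicit false
open Cfsg

namespace Cfsg.Agent.S5238

/-- Let p be an odd prime and F a saturated fusion system over a finite p-group S having a pearl: an F-essential subgroup E that is elementary abelian of order p² or nonabelian of order p³. Then S has maximal nilpotency class (if S has order pⁿ with n ≥ 3, the term of index n − 2 of its lower central series, counting S itself as the term of index 0, is nontrivial), and every subgroup of S can be generated by at most p elements (the sectional rank of S is at most p). -/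
theorem result {Ω : Type*} [Group Ω] {S : Subgroup Ω} [Finite S] (p : ℕ) [Fact p.Prime] (hS : IsPGroup p S) (F : Cfsg.FusionSystem S) (hF : F.IsSaturated p) (hp : p ≠ 2) (E : Subgroup Ω) (hE : F.IsEssential p E) (hpearl : (Nat.card E = p ^ 2 ∧ ∀ x ∈ E, x ^ p = 1 ∧ IsMulCommutative ↥E) ∨ (Nat.card E = p ^ 3 ∧ ¬ IsMulCommutative ↥E)) : (∀ n : ℕ, Nat.card S = p ^ n → 3 ≤ n → Subgroup.lowerCentralSeries S (n - 2) ≠ ⊥) ∧ ∀ H : Subgroup Ω, H ≤ S → ∃ T : Finset Ω, T.card ≤ p ∧ Subgroup.closure (T : Set Ω) = H := by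
  classical
  have hES : E ≤ S := hE.1.1
  haveI := CfsgLib.Fusion.finite_of_le hES
  obtain ⟨x, hxE, hxp, hxc⟩ : ∃ x ∈ E, x ^ p = 1 ∧
      Nat.card (Cfsg.FusionSystem.centralizerIn S (Subgroup.zpowers x)) = p ^ 2 := by
    rcases hpearl with ⟨hc, he⟩ | ⟨hc, hn⟩
    · obtain ⟨x, hx, hxp, hC⟩ :=
        CfsgLib.Fusion.Pearl.exists_elem_abelian hS hF hE hc fun y hy => (he y hy).1
      exact ⟨x, hx, hxp, by rw [hC, hc]⟩
    · exact CfsgLib.Fusion.Pearl.exists_elem_nonabelian hp hS hF hE hc hn
  set x' : S := ⟨x, hES hxE⟩ with hx'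
  obtain ⟨m, hm⟩ := IsPGroup.iff_card.1 hS
  have h3 : 3 ≤ m := by
    have h1 : Nat.card E < Nat.card S := CfsgLib.Fusion.card_lt_of_lt le_rfl
      (lt_of_le_of_ne hES (CfsgLib.Fusion.ne_self_of_isEssential hS hF hE))
    have h2 : p ^ 2 ≤ Nat.card E := by
      rcases hpearl with ⟨hc, -⟩ | ⟨hc, -⟩
      · exact hc.ge
      · rw [hc]; exact Nat.pow_le_pow_right (Fact.out : p.Prime).pos (by norm_num)
    have h4 := (Nat.pow_lt_pow_iff_right (Fact.out : p.Prime).one_lt).1 (hm ▸ h2.trans_lt h1)
    omega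
  have hsmall : CfsgLib.MaxClassShift.Small x' p m := by
    refine ⟨hm, Subtype.ext (by simpa [hx'] using hxp), ?_, h3⟩
    rw [← hxc]
    refine Nat.card_congr ((Equiv.subtypeSubtypeEquivSubtypeInter (fun z => z ∈ S)
      (fun z => z ∈ Subgroup.centralizer ((Subgroup.zpowers x : Subgroup Ω) : Set Ω))).symm.trans
      (Equiv.subtypeEquivRight fun z => ?_)).symm
    rw [Subgroup.mem_centralizer_iff, Subgroup.mem_centralizer_iff]
    constructor
    · intro hz w hw
      rw [Set.mem_singleton_iff.1 hw]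
      exact Subtype.ext (hz x (Subgroup.mem_zpowers x))
    · intro hz w hw
      obtain ⟨k, rfl⟩ := Subgroup.mem_zpowers_iff.1 hw
      exact (Commute.zpow_left (show Commute x (z : Ω) from congrArg Subtype.val (hz x' rfl)) k).eq
  refine ⟨fun n hn _ hb => hsmall.lowerCentralSeries_ne_bot ?_, fun H hH => ?_⟩
  · have : m = n := Nat.pow_right_injective (Fact.out : p.Prime).two_le (hm.symm.trans hn)
    subst this
    rw [← Subgroup.top_subtype_lowerCentralSeries, Subgroup.map_eq_bot_iff,
      Subgroup.ker_subtype, le_bot_iff] at hb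
    exact hb
  · obtain ⟨T, hT, hTH⟩ := hsmall.exists_gen (H.subgroupOf S)
    refine ⟨T.image S.subtype, Finset.card_image_le.trans hT, ?_⟩
    rw [Finset.coe_image, ← MonoidHom.map_closure, hTH, Subgroup.subgroupOf_map_subtype,
      inf_eq_left.2 hH]

end Cfsg.Agent.S5238
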