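import Cfsg.Statements.S5239
import Cfsg.Agent.Lib.Fusion.System.Pearl
import Cfsg.Agent.Lib.PGroup.MaxClassThree
import Cfsg.Agent.Lib.Fusion.System.Metacyclic
import Cfsg.Agent.Lib.PGroup.GenExtraspecialSplit
import Cfsg.Agent.Lib.Fusion.System.Criteria

set_option autoImplicit false
open Cfsg

namespace Cfsg.Agent.S5239

/-- Let F be a saturated fusion system over a finite 3-group S having a pearl: an F-essential subgroup E that is elementary abelian of order 9 or nonabelian of order 27. Then either S is extraspecial of order 27 and exponent 3, or S has order at least 81 and every subgroup of S can be generated by at most two elements, or S is isomorphic to the wreath product C₃ ≀ C₃ (a Sylow 3-subgroup of the symmetric group of degree 9). -/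
theorem result {Ω : Type*} [Group Ω] {S : Subgroup Ω} [Finite S] (hS : IsPGroup 3 S) (F : Cfsg.FusionSystem S) (hF : F.IsSaturated 3) [Fact (Nat.Prime 3)] (E : Subgroup Ω) (hE : F.IsEssential 3 E) (hpearl : (Nat.card E = 9 ∧ ∀ x ∈ E, x ^ 3 = 1 ∧ IsMulCommutative ↥E) ∨ (Nat.card E = 27 ∧ ¬ IsMulCommutative ↥E)) : (Cfsg.IsExtraspecial 3 ↥S ∧ Nat.card S = 27 ∧ Monoid.exponent ↥S = 3) ∨ (81 ≤ Nat.card S ∧ ∀ H : Subgroup Ω, H ≤ S → ∃ T : Finset Ω, T.card ≤ 2 ∧ Subgroup.closure (T : Set Ω) = H) ∨ (∃ W : Sylow 3 (Equiv.Perm (Fin 9)), Nonempty (↥S ≃* ↥(W : Subgroup (Equiv.Perm (Fin 9))))) := by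
  classical
  have hp2 : (3 : ℕ) ≠ 2 := by norm_num
  have hES : E ≤ S := hE.1.1
  haveI := CfsgLib.Fusion.finite_of_le hES
  have hES' : E ≠ S := CfsgLib.Fusion.ne_self_of_isEssential hS hF hE
  obtain ⟨x, hxE, hxp, hxc⟩ : ∃ x ∈ E, x ^ 3 = 1 ∧
      Nat.card (Cfsg.FusionSystem.centralizerIn S (Subgroup.zpowers x)) = 3 ^ 2 := by
    rcases hpearl with ⟨hc, he⟩ | ⟨hc, hn⟩
    · obtain ⟨x, hx, hxp, hC⟩ :=
        CfsgLib.Fusion.Pearl.exists_elem_abelian hS hF hE (p := 3) (hc.trans (by norm_num))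
          fun y hy => (he y hy).1
      exact ⟨x, hx, hxp, by rw [hC, hc]; norm_num⟩
    · exact CfsgLib.Fusion.Pearl.exists_elem_nonabelian hp2 hS hF hE (hc.trans (by norm_num)) hn
  set x' : S := ⟨x, hES hxE⟩ with hx'
  obtain ⟨m, hm⟩ := IsPGroup.iff_card.1 hS
  have hEc : 3 ^ 2 ≤ Nat.card E := by
    rcases hpearl with ⟨hc, -⟩ | ⟨hc, -⟩ <;> rw [hc] <;> norm_num
  have h3 : 3 ≤ m := by
    have h1 : Nat.card E < Nat.card S := CfsgLib.Fusion.card_lt_of_lt le_rfl
      (lt_of_le_of_ne hES hES')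
    have h4 := (Nat.pow_lt_pow_iff_right (show 1 < 3 by norm_num)).1 (hm ▸ hEc.trans_lt h1)
    omega
  have hsmall : CfsgLib.MaxClassShift.Small x' 3 m := by
    refine ⟨hm, Subtype.ext (by simpa [hx'] using hxp), ?_, h3⟩
    rw [← hxc]
    refine Nat.card_congr ((Equiv.subtypeSubtypeEquivSubtypeInter (fun z => z ∈ S)
      (fun z => z ∈ Subgroup.centralizer ((Subgroup.zpowers x : Subgroup Ω) : Set Ω))).symm.trans
      (Equiv.subtypeEquivRight fun z => ?_)).symm
    rw [Subgroup.mem_centralizer_iff, Subgroup.mem_centralizer_iff]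
    constructor
    · intro hz w hw
      rw [Set.mem_singleton_iff.1 hw]
      exact Subtype.ext (hz x (Subgroup.mem_zpowers x))
    · intro hz w hw
      obtain ⟨k, rfl⟩ := Subgroup.mem_zpowers_iff.1 hw
      exact (Commute.zpow_left (show Commute x (z : Ω) from congrArg Subtype.val (hz x' rfl)) k).eq
  rcases (show m = 3 ∨ 4 ≤ m by omega) with rfl | h4
  · -- order 27
    left
    have hna : ∃ a b : S, a * b ≠ b * a := by
      by_contra hab
      push Not at hab
      refine hES' (le_antisymm hES fun s hs =>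
        CfsgLib.Fusion.centralizerIn_le_of_isCentric hE.1
          ⟨hs, Subgroup.mem_centralizer_iff.2 fun y hy => ?_⟩)
      exact congrArg Subtype.val (hab ⟨y, hES hy⟩ ⟨s, hs⟩)
    obtain ⟨a, b, hab⟩ := hna
    have hexp : ∀ g : S, g ^ 3 = 1 := by
      intro g
      by_contra hg
      obtain ⟨i, hi3, hi⟩ := (Nat.dvd_prime_pow (Fact.out : Nat.Prime 3)).1
        (hm ▸ orderOf_dvd_natCard g)
      have hi2 : 2 ≤ i := by
        by_contra hi2
        refine hg (orderOf_dvd_iff_pow_eq_one.1 ?_)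
        rw [hi]
        exact (Nat.pow_dvd_pow 3 (show i ≤ 1 by omega)).trans (by norm_num)
      have hine : i ≠ 3 := fun e => by
        haveI : IsCyclic S := isCyclic_of_orderOf_eq_card g (by rw [hi, e, hm])
        obtain ⟨c, hc⟩ := IsCyclic.exists_generator (α := S)
        obtain ⟨ia, rfl⟩ := Subgroup.mem_zpowers_iff.1 (hc a)
        obtain ⟨ib, rfl⟩ := Subgroup.mem_zpowers_iff.1 (hc b)
        exact hab ((Commute.refl c).zpow_zpow ia ib).eq
      have hidx : (Subgroup.zpowers g).index = 3 := by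
        have e := (Subgroup.zpowers g).card_mul_index
        rw [Nat.card_zpowers, hi, show i = 2 by omega, hm,
          show (3 : ℕ) ^ 3 = 3 ^ 2 * 3 by norm_num] at e
        exact Nat.eq_of_mul_eq_mul_left (by norm_num) e
      haveI : (Subgroup.zpowers g).Normal := Subgroup.normal_of_index_eq_minFac_card (by
        rw [hidx, hm, Nat.pow_minFac (by norm_num), Nat.prime_three.minFac_eq])
      have hq : IsCyclic (S ⧸ Subgroup.zpowers g) :=
        isCyclic_of_prime_card (p := 3) (by rw [← Subgroup.index_eq_card, hidx])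
      have hN := CfsgLib.Fusion.Metacyclic.isNormal_metacyclic hS hF
        (CfsgLib.Fusion.stronglyClosed_self (F := F)) hp2 (Subgroup.zpowers g) hq
      exact hES' (le_antisymm hES (CfsgLib.Fusion.le_of_isNormal hS hN hE.1
        (CfsgLib.Fusion.isRadical_of_isEssential hS hE)))
    refine ⟨CfsgLib.GenExtraspecial.isExtraspecial_of_cube hm hab hexp, by rw [hm]; norm_num, ?_⟩
    rcases (Nat.dvd_prime Nat.prime_three).1 (Monoid.exponent_dvd_of_forall_pow_eq_one hexp) with e | e
    · haveI := Monoid.exp_eq_one_iff.1 e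
      exact absurd (Subsingleton.elim (a * b) (b * a)) hab
    · exact e
  rcases hsmall.two_gen_or h4 with hgen | ⟨rfl, K, hK, hKc⟩
  · refine Or.inr (Or.inl ⟨?_, fun H hH => ?_⟩)
    · rw [hm]
      exact (show 81 = 3 ^ 4 by norm_num) ▸ Nat.pow_le_pow_right (by norm_num) h4
    · obtain ⟨T, hT, hTH⟩ := hgen (H.subgroupOf S)
      refine ⟨T.image S.subtype, Finset.card_image_le.trans hT, ?_⟩
      rw [Finset.coe_image, ← MonoidHom.map_closure, hTH, Subgroup.subgroupOf_map_subtype,
        inf_eq_left.2 hH]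
  · refine Or.inr (Or.inr ?_)
    have hidx : Nat.card (S ⧸ K) = 9 := by
      have e := K.card_mul_index
      rw [hK, hm, show (3 : ℕ) ^ 4 = 9 * 9 by norm_num, Subgroup.index_eq_card] at e
      exact Nat.eq_of_mul_eq_mul_left (by norm_num) e
    haveI : Finite (S ⧸ K) := inferInstance
    let φ : S →* Equiv.Perm (Fin 9) :=
      (Equiv.permCongrHom (Finite.equivFinOfCardEq hidx)).toMonoidHom.comp
        (MulAction.toPermHom S (S ⧸ K))
    have hinj : Function.Injective φ :=
      (Equiv.permCongrHom (Finite.equivFinOfCardEq hidx)).injective.comp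
        ((MonoidHom.ker_eq_bot_iff _).1 (by rw [← Subgroup.normalCore_eq_ker, hKc]))
    have hr : Nat.card φ.range = 81 := by
      rw [← Nat.card_congr (MonoidHom.ofInjective hinj).toEquiv, hm]; norm_num
    have hdvd : ¬ 3 ∣ φ.range.index := by
      have e := φ.range.card_mul_index
      rw [hr, Nat.card_perm, Nat.card_fin] at e
      have : φ.range.index = 4480 := by
        norm_num [Nat.factorial] at e
        omega
      rw [this]
      norm_num
    refine ⟨(IsPGroup.of_card (show Nat.card φ.range = 3 ^ 4 by rw [hr]; norm_num)).toSylow hdvd,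
      ⟨MonoidHom.ofInjective hinj⟩⟩

end Cfsg.Agent.S5239
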