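import Cfsg.Statements.S5245
import Cfsg.Agent.Lib.Fusion.System.AutSystem
import Cfsg.Agent.Lib.Fusion.System.Inner
import Cfsg.Agent.Lib.Fusion.System.Hyperfocal
import Cfsg.Agent.Lib.Fusion.System.TransferApps

set_option autoImplicit false
open Cfsg

namespace Cfsg.Agent.S5245

/-- Let F be an extremely sparse fusion system over a finite p-group S (saturated, not the inner system, and every saturated fusion system over any subgroup T of S contained in F is F itself or the inner system of T). Then S is normal in F, the focal and hyperfocal subgroups of F are both S, and Aut_F(S) is generated by the inner automorphisms of S together with a single automorphism of prime order q ≠ p (F is the fusion system of the semidirect product of S by a cyclic group of prime order). -/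
theorem result {Ω : Type*} [Group Ω] {S : Subgroup Ω} [Finite S] (p : ℕ) [Fact p.Prime] (hS : IsPGroup p S) (F : Cfsg.FusionSystem S) (hF : F.IsSaturated p) (hxs : ¬ (∀ P : Subgroup Ω, F.Hom P = (Cfsg.innerFusionSystem S).Hom P) ∧ ∀ (T : Subgroup Ω) (E : Cfsg.FusionSystem T), E.IsSaturated p → E.IsSubsystemOf F → (T = S ∧ ∀ P : Subgroup Ω, E.Hom P = F.Hom P) ∨ (∀ P : Subgroup Ω, E.Hom P = (Cfsg.innerFusionSystem T).Hom P)) : F.IsNormal S ∧ F.focalSubgroup = S ∧ F.hyperfocalSubgroup p = S ∧ ∃ (q : ℕ) (β : MulAut ↥S), q.Prime ∧ q ≠ p ∧ β ∈ F.autGroup S ∧ orderOf β = q ∧ (F.autGroup S : Subgroup (MulAut ↥S)) = Cfsg.Inn ↥S ⊔ Subgroup.zpowers β := by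
  classical
  obtain ⟨hni, hx⟩ := hxs
  haveI hfS := CfsgLib.Fusion.finite_mulAut (P := S)
  -- an automorphism of prime order different from `p`
  obtain ⟨R, hR, β, hβ, q, hq, hqp, hβq⟩ : ∃ (R : Subgroup Ω) (_ : R ≤ S) (β : MulAut R) (_ : β ∈ F.autGroup R)
      (q : ℕ), q.Prime ∧ q ≠ p ∧ orderOf β = q := by
    by_contra hcon
    push Not at hcon
    have hp : ∀ R, R ≤ S → IsPGroup p (F.autGroup R) := by
      intro R hR
      haveI := CfsgLib.Fusion.finite_of_le hR
      haveI := CfsgLib.Fusion.finite_mulAut (P := R)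
      refine IsPGroup.of_card (n := (Nat.card (F.autGroup R)).primeFactorsList.length) ?_
      refine Nat.eq_prime_pow_of_unique_prime_dvd (Nat.card_pos (α := F.autGroup R)).ne' fun {q} hq hqd => ?_
      haveI : Fact q.Prime := ⟨hq⟩
      obtain ⟨b, hb⟩ := exists_prime_orderOf_dvd_card' (G := F.autGroup R) q hqd
      by_contra hqp
      exact hcon R hR (b : MulAut R) b.2 q hq hqp (by rw [Subgroup.orderOf_coe, hb])
    exact hni (CfsgLib.Fusion.isInner_iff.1 (CfsgLib.Fusion.isInner_of_aut_isPGroup hS hF (hp S le_rfl)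
      fun R hR => hp R hR.1.1))
  haveI := CfsgLib.Fusion.finite_of_le hR
  have hcop : ∀ {T : Subgroup Ω} {γ : MulAut T}, γ ^ q = 1 → (Nat.card (Subgroup.zpowers γ)).Coprime p := by
    intro T γ hγ
    rw [Nat.card_zpowers]
    exact Nat.Coprime.coprime_dvd_left (orderOf_dvd_of_pow_eq_one hγ) ((Nat.coprime_primes hq Fact.out).2 hqp)
  -- each nontrivial automorphism of prime order gives a subsystem which is not inner
  have key : ∀ (T : Subgroup Ω), T ≤ S → ∀ γ ∈ F.autGroup T, γ ^ q = 1 → γ ≠ 1 →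
      T = S ∧ ∀ (P : Subgroup Ω) (f : Ω → Ω), CfsgLib.Fusion.IsMap F P f →
        ∃ u ∈ T, ∃ a ∈ Subgroup.zpowers γ, ∀ x ∈ P, f x = u * CfsgLib.Fusion.autFun a x * u⁻¹ := by
    intro T hT γ hγ hγq hγ1
    obtain ⟨E, hEsat, hEsub, hEA, hEmap⟩ := CfsgLib.Fusion.AutSystem.exists_autSystem hS hT
      (Subgroup.zpowers γ) (Subgroup.zpowers_le.2 hγ) (hcop hγq)
    rcases hx T E hEsat hEsub with ⟨hTS, hEq⟩ | hEi
    · refine ⟨hTS, fun P f hf => ?_⟩
      obtain ⟨φ, hφ, hφf⟩ := hf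
      exact ((hEmap P f).1 ⟨φ, (hEq P).ge hφ, hφf⟩).2
    · exfalso
      haveI := CfsgLib.Fusion.finite_of_le hT
      haveI := CfsgLib.Fusion.finite_mulAut (P := T)
      have h1 : γ ∈ Cfsg.autInducedBy T T := by
        obtain ⟨φ, hφ, hφf⟩ := (CfsgLib.Fusion.mem_autGroup_iff le_rfl).1 (hEA (Subgroup.mem_zpowers γ))
        obtain ⟨-, g, hg, he⟩ := CfsgLib.Fusion.isMap_inner_iff.1
          (⟨φ, (hEi T).le hφ, hφf⟩ : CfsgLib.Fusion.IsMap (Cfsg.innerFusionSystem T) T _)
        exact CfsgLib.Fusion.mem_autInducedBy_iff.2 ⟨g, hg, he⟩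
      obtain ⟨k, hk⟩ := CfsgLib.Fusion.isPGroup_autInducedBy (hS.to_le hT) ⟨γ, h1⟩
      have hk' : γ ^ p ^ k = 1 := congrArg Subtype.val hk
      refine hγ1 (orderOf_eq_one_iff.1 (Nat.eq_one_of_dvd_coprimes
        (Nat.Coprime.pow_left k ((Nat.coprime_primes hq Fact.out).2 hqp).symm)
        (orderOf_dvd_of_pow_eq_one hk') (orderOf_dvd_of_pow_eq_one hγq)))
  have hβq' : β ^ q = 1 := hβq ▸ pow_orderOf_eq_one β
  have hβ1 : β ≠ 1 := fun h => hq.ne_one (by rw [← hβq, h, orderOf_one])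
  obtain ⟨hRS, hmaps⟩ := key R hR β hβ hβq' hβ1
  subst R
  have hβm := (CfsgLib.Fusion.mem_autGroup_iff le_rfl).1 hβ
  have hnormal : F.IsNormal S := by
    refine CfsgLib.Fusion.isNormal_iff.2 ⟨le_rfl, fun P f hf => ?_⟩
    obtain ⟨u, hu, a, ha, he⟩ := hmaps P f hf
    have hg : CfsgLib.Fusion.IsMap F (P ⊔ S) fun x => u * CfsgLib.Fusion.autFun a x * u⁻¹ := by
      rw [sup_eq_right.2 hf.le]
      exact (((CfsgLib.Fusion.mem_autGroup_iff le_rfl).1 (Subgroup.zpowers_le.2 hβ ha)).comp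
        (CfsgLib.Fusion.isMap_conj le_rfl hu) fun x hx => CfsgLib.Fusion.autFun_mem a hx)
    exact ⟨_, hg, fun x hx => (he x hx).symm, CfsgLib.Fusion.img_eq_of_map_le le_rfl hg le_sup_right
      fun x hx => hg.mem_S (Subgroup.mem_sup_right hx)⟩
  have haut : (F.autGroup S : Subgroup (MulAut S)) = Cfsg.Inn S ⊔ Subgroup.zpowers β := by
    refine le_antisymm (fun α hα => ?_) (sup_le (CfsgLib.Fusion.inn_le_autGroup le_rfl) (Subgroup.zpowers_le.2 hβ))
    obtain ⟨u, hu, a, ha, he⟩ := hmaps S _ ((CfsgLib.Fusion.mem_autGroup_iff le_rfl).1 hα)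
    have e : α = CfsgLib.Fusion.conjAut u (Subgroup.le_normalizer hu) * a :=
      CfsgLib.Fusion.autFun_ext fun x hx => by
        rw [he x hx, CfsgLib.Fusion.autFun_mul _ _ hx,
          CfsgLib.Fusion.autFun_conjAut _ (CfsgLib.Fusion.autFun_mem a hx)]
    rw [e]
    exact Subgroup.mul_mem_sup (CfsgLib.Fusion.inn_eq_autInducedBy.ge
      (CfsgLib.Fusion.conjAut_mem hu (Subgroup.le_normalizer hu))) ha
  -- the hyperfocal subgroup
  set K := F.hyperfocalSubgroup p with hK
  have hKS : K ≤ S := CfsgLib.Fusion.hyperfocal_le_focal.trans CfsgLib.Fusion.focal_le_S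
  have hmove : ∀ x ∈ S, x⁻¹ * CfsgLib.Fusion.autFun β x ∈ K := fun x hx' => by
    refine Subgroup.subset_closure ⟨S, ⟨β, hβ⟩, ⟨x, hx'⟩, le_rfl, Subgroup.subset_closure ?_, ?_⟩
    · show (orderOf (⟨β, hβ⟩ : F.autGroup S)).Coprime p
      rw [Subgroup.orderOf_mk, hβq]
      exact (Nat.coprime_primes hq Fact.out).2 hqp
    · rw [CfsgLib.Fusion.autFun_apply β hx']
  have hKm : ∀ x ∈ K, CfsgLib.Fusion.autFun β x ∈ K := fun x hx' => by
    have h1 := mul_mem hx' (hmove x (hKS hx'))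
    rwa [mul_inv_cancel_left] at h1
  have hKi : CfsgLib.Fusion.img K (CfsgLib.Fusion.autFun β) = K :=
    CfsgLib.Fusion.img_eq_of_map_le hKS hβm hKS hKm
  set γ := CfsgLib.Fusion.autOf (hβm.mono hKS) hKi with hγdef
  have hpow : ∀ (n : ℕ), ∀ x ∈ K, CfsgLib.Fusion.autFun (γ ^ n) x = CfsgLib.Fusion.autFun (β ^ n) x := by
    intro n
    induction n with
    | zero => intro x hx'; rw [pow_zero, pow_zero, CfsgLib.Fusion.autFun_one hx', CfsgLib.Fusion.autFun_one (hKS hx')]
    | succ n ih =>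
      intro x hx'
      rw [pow_succ, pow_succ, CfsgLib.Fusion.autFun_mul _ _ hx', CfsgLib.Fusion.autFun_mul _ _ (hKS hx'),
        CfsgLib.Fusion.autFun_autOf _ hKi hx', ih _ (hKm x hx')]
  have hγq : γ ^ q = 1 := CfsgLib.Fusion.autFun_ext fun x hx' => by
    rw [hpow q x hx', hβq', CfsgLib.Fusion.autFun_one hx', CfsgLib.Fusion.autFun_one (hKS hx')]
  have hγ1 : γ ≠ 1 := by
    intro h
    have hfix : ∀ x ∈ K, CfsgLib.Fusion.autFun β x = x := fun x hx' => by
      have := hpow 1 x hx'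
      rw [pow_one, pow_one, h, CfsgLib.Fusion.autFun_one hx'] at this
      exact this.symm
    refine hβ1 (CfsgLib.Fusion.autFun_ext fun x hx' => ?_)
    set t := x⁻¹ * CfsgLib.Fusion.autFun β x with ht
    have htK := hmove x hx'
    have hn : ∀ n : ℕ, CfsgLib.Fusion.autFun (β ^ n) x = x * t ^ n := by
      intro n
      induction n with
      | zero => rw [pow_zero, CfsgLib.Fusion.autFun_one hx', pow_zero, mul_one]
      | succ n ih =>
        rw [pow_succ', CfsgLib.Fusion.autFun_mul _ _ hx', ih, hβm.map_mul hx' (pow_mem (hKS htK) n),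
          hfix _ (pow_mem htK n), pow_succ', ← mul_assoc x, ht, mul_inv_cancel_left]
    have h1 := hn q
    rw [hβq', CfsgLib.Fusion.autFun_one hx', left_eq_mul] at h1
    have h2 := CfsgLib.Fusion.pow_ne_one_of_not_dvd (p := p) hS (a := (⟨t, hKS htK⟩ : S))
      (fun hd => hqp ((Nat.prime_dvd_prime_iff_eq Fact.out hq).1 hd).symm) (Subtype.ext (by simpa using h1))
    rw [CfsgLib.Fusion.autFun_one hx']
    exact (inv_mul_eq_one.1 (congrArg Subtype.val h2)).symm
  obtain ⟨hKeq, -⟩ := key K hKS γ (CfsgLib.Fusion.autOf_mem (hβm.mono hKS) hKi) hγq hγ1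
  exact ⟨hnormal, le_antisymm CfsgLib.Fusion.focal_le_S (hKeq.ge.trans CfsgLib.Fusion.hyperfocal_le_focal), hKeq,
    q, β, hq, hqp, hβ, hβq, haut⟩

end Cfsg.Agent.S5245
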