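import Cfsg.Statements.S5253
import Cfsg.Agent.Lib.Fusion.System.Functor
import Cfsg.Agent.Lib.Fusion.QuadraticFixed

set_option autoImplicit false
universe u
open Cfsg

namespace Cfsg.Agent.S5253

/-- Let p be a prime and W a positive characteristic p-functor with Z(Q) ≤ W(Q): W assigns to every finite p-group Q (in a fixed universe) a subgroup W(Q), nontrivial when Q is, carried to W(R) by every isomorphism Q ≅ R, and containing the centre of Q. Suppose that for every finite group G with Sylow p-subgroup P in which W(P) is not normal there is g ∈ P outside O_p(G) with [Z(O_p(G)), g, g] = 1. Then for every saturated fusion system F over a finite p-group S and every normalizer fusion system N of W(S) in F, every p-th power of an element of Z(S) that lies in the centre of N lies in the centre of F. -/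
theorem result {p : ℕ} [Fact p.Prime] (W : ∀ (Q : Type u) [Group Q], Subgroup Q) (hW1 : ∀ (Q : Type u) [Group Q] [Finite Q], IsPGroup p Q → Nontrivial Q → W Q ≠ ⊥) (hW2 : ∀ (Q R : Type u) [Group Q] [Group R] [Finite Q], IsPGroup p Q → ∀ φ : Q ≃* R, (W Q).map φ.toMonoidHom = W R) (hWZ : ∀ (Q : Type u) [Group Q] [Finite Q], IsPGroup p Q → Subgroup.center Q ≤ W Q) (hq : ∀ (G : Type u) [Group G] [Finite G] (P : Sylow p G), ¬ (((W ↥(P : Subgroup G)).map (P : Subgroup G).subtype : Subgroup G)).Normal → ∃ g : G, g ∈ (P : Subgroup G) ∧ g ∉ Cfsg.pCore p G ∧ ⁅⁅Subgroup.center ↥(Cfsg.pCore p G) |>.map (Cfsg.pCore p G).subtype, Subgroup.zpowers g⁆, Subgroup.zpowers g⁆ = ⊥) {Ω : Type u} [Group Ω] {S : Subgroup Ω} [Finite S] (hS : IsPGroup p S) (F : Cfsg.FusionSystem S) (hF : F.IsSaturated p) (N : Cfsg.FusionSystem (Cfsg.FusionSystem.normalizerIn S ((W ↥S).map S.subtype))) (hN : F.IsNormalizerSystem ((W ↥S).map S.subtype) N) : Subgroup.closure ((fun z => z ^ p)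 '' ((S ⊓ Subgroup.centralizer (S : Set Ω) : Subgroup Ω) : Set Ω)) ⊓ N.center ≤ F.center := by
  have hn : FusionSystem.normalizerIn S ((W ↥S).map S.subtype) = S :=
    CfsgLib.Fusion.normalizerIn_wSub_self W hW2 hS
  refine CfsgLib.Fusion.le_center_of_functor hS hF W hW2 hWZ hN inf_le_right
    fun L _ _ A ι T hA hZA hι hT hcore x hx hxA hxO hfix g => ?_
  have hw : ∃ w ∈ S ⊓ Subgroup.centralizer (S : Set Ω), w ^ p = x := by
    refine Subgroup.closure_induction (p := fun y _ => ∃ w ∈ S ⊓ Subgroup.centralizer (S : Set Ω),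
      w ^ p = y) (fun y hy => ?_) ⟨1, one_mem _, one_pow _⟩ ?_ ?_ (Subgroup.mem_inf.1 hx).1
    · obtain ⟨w, hw, rfl⟩ := hy
      exact ⟨w, hw, rfl⟩
    · rintro _ _ _ _ ⟨a, ha, rfl⟩ ⟨b, hb, rfl⟩
      have hab : Commute a b := Subgroup.mem_centralizer_iff.1 hb.2 a ha.1
      exact ⟨a * b, mul_mem ha hb, hab.mul_pow p⟩
    · rintro _ _ ⟨a, ha, rfl⟩
      exact ⟨a⁻¹, inv_mem ha, inv_pow a p⟩
  obtain ⟨w, hw, rfl⟩ := hw
  have hwA : w ∈ A := hZA hw
  have he : CfsgLib.Fusion.ext1 ι (w ^ p) = ι ⟨w, hwA⟩ ^ p := by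
    rw [CfsgLib.Fusion.ext1_apply ι hxA, ← map_pow]
    rfl
  rw [he] at hfix ⊢
  refine CfsgLib.Fusion.central_pow_of_quadratic W hW2 hq L T hcore _ (hT ▸ ⟨_, rfl⟩) ?_ hfix g
  intro t ht
  rw [hT] at ht
  obtain ⟨a, rfl⟩ := ht
  rw [← map_mul, ← map_mul]
  congr 1
  exact Subtype.ext (Subgroup.mem_centralizer_iff.1 hw.2 a (hA a.2))

end Cfsg.Agent.S5253
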