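import Cfsg.Statements.S5254
import Cfsg.Agent.Lib.Fusion.System.AbelianIndexPEssential

set_option autoImplicit false
open Cfsg

namespace Cfsg.Agent.S5254

/-- Let p be an odd prime, S a finite nonabelian p-group with a unique abelian subgroup A of index p, and F a saturated fusion system over S. Then every F-essential subgroup P is A, or Z(S)⟨x⟩ for some x ∈ S outside A, or (when the second centre Z₂(S) lies in A) Z₂(S)⟨x⟩ for some x ∈ S outside A; and P has index p in its normalizer in S. -/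
theorem result {Ω : Type*} [Group Ω] {S : Subgroup Ω} [Finite S] (p : ℕ) [Fact p.Prime] (hS : IsPGroup p S) (F : Cfsg.FusionSystem S) (hF : F.IsSaturated p) (hp : p ≠ 2) (hna : ¬ IsMulCommutative ↥S) (A : Subgroup Ω) (hA : A ≤ S ∧ IsMulCommutative ↥A ∧ (A.subgroupOf S).index = p) (huniq : ∀ B : Subgroup Ω, B ≤ S → IsMulCommutative ↥B → (B.subgroupOf S).index = p → B = A) (P : Subgroup Ω) (hP : F.IsEssential p P) : (P = A ∨ (∃ x ∈ S, x ∉ A ∧ P = (S ⊓ Subgroup.centralizer (S : Set Ω)) ⊔ Subgroup.zpowers x) ∨ (((upperCentralSeries ↥S 2).map S.subtype) ≤ A ∧ ∃ x ∈ S, x ∉ A ∧ P = ((upperCentralSeries ↥S 2).map S.subtype) ⊔ Subgroup.zpowers x)) ∧ (P.subgroupOf (S ⊓ Subgroup.normalizer (P : Set Ω))).index = p := by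
  obtain ⟨hAS, hAc, hAi⟩ := hA
  have h : CfsgLib.Fusion.AbelianIndexP.Setup S A p := by
    refine ⟨hS, hAS, fun a ha b hb => ?_, hAi, fun hc => hna ?_⟩
    · exact congrArg Subtype.val (hAc.is_comm.comm ⟨a, ha⟩ ⟨b, hb⟩)
    · exact ⟨⟨fun a b => Subtype.ext (hc a a.2 b b.2)⟩⟩
  by_cases hPA : P = A
  · subst hPA
    refine ⟨Or.inl rfl, ?_⟩
    have hN : S ⊓ Subgroup.normalizer (P : Set Ω) = S := inf_eq_left.2 h.le_normalizer
    rw [hN]
    exact hAi
  obtain ⟨x, hxP, hxA⟩ : ∃ x ∈ P, x ∉ A := by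
    by_contra hc
    push Not at hc
    refine hPA (le_antisymm hc fun a ha =>
      CfsgLib.Fusion.centralizerIn_le_of_isCentric hP.1 ?_)
    exact ⟨h.le ha, Subgroup.mem_centralizer_iff.2 fun y hy => h.comm _ (hc y hy) _ ha⟩
  have he : CfsgLib.Fusion.AbelianIndexP.Ess F A p P x := ⟨hP, hxP, hxA⟩
  refine ⟨Or.inr ?_, he.relIndex_normalizer h hF⟩
  by_cases hab : P ⊓ A ≤ S ⊓ Subgroup.centralizer (S : Set Ω)
  · exact Or.inl ⟨x, he.memS h, hxA, he.eq_sup h hab⟩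
  · obtain ⟨hle, heq⟩ := he.inf_eq_z2 h hF hab
    refine Or.inr ⟨hle, x, he.memS h, hxA, ?_⟩
    exact (he.sup_eq h).symm.trans (congrArg (· ⊔ Subgroup.zpowers x) heq)

end Cfsg.Agent.S5254
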