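import Cfsg.Statements.S5257
import Cfsg.Agent.Lib.Fusion.System.AbelianIndexPEssential

set_option autoImplicit false
open Cfsg

namespace Cfsg.Agent.S5257

/-- Let p be an odd prime, S a finite nonabelian p-group with a unique abelian subgroup A of index p, and F a saturated fusion system over S having an F-essential subgroup other than A. Then the second centre Z₂(S) lies in A; Z(S) ∩ [S, S] has order p; Z(S)[S, S] has index p in A; Z(S) has index p in Z₂(S); and S/Z(S) has maximal nilpotency class (if S/Z(S) has order pᵐ with m ≥ 3 then the term of index m − 2 of the lower central series of S, counting S as index 0, is not contained in Z(S)). -/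
theorem result {Ω : Type*} [Group Ω] {S : Subgroup Ω} [Finite S] (p : ℕ) [Fact p.Prime] (hS : IsPGroup p S) (F : Cfsg.FusionSystem S) (hF : F.IsSaturated p) (hp : p ≠ 2) (hna : ¬ IsMulCommutative ↥S) (A : Subgroup Ω) (hA : A ≤ S ∧ IsMulCommutative ↥A ∧ (A.subgroupOf S).index = p) (huniq : ∀ B : Subgroup Ω, B ≤ S → IsMulCommutative ↥B → (B.subgroupOf S).index = p → B = A) (P : Subgroup Ω) (hP : F.IsEssential p P) (hPA : P ≠ A) : ((upperCentralSeries ↥S 2).map S.subtype) ≤ A ∧ Nat.card ↥((S ⊓ Subgroup.centralizer (S : Set Ω)) ⊓ ((commutator ↥S).map S.subtype)) = p ∧ (((S ⊓ Subgroup.centralizer (S : Set Ω)) ⊔ ((commutator ↥S).map S.subtype)).subgroupOf A).index = p ∧ (((S ⊓ Subgroup.centralizer (S : Set Ω))).subgroupOf ((upperCentralSeries ↥S 2).map S.subtype)).index = p ∧ ∀ m : ℕ, ((S ⊓ Subgroup.centralizer (S : Set Ω)).subgroupOf S).index = p ^ m → 3 ≤ m → ¬ Subgroup.lowerCentralSeries S (m - 2) ≤ (S ⊓ Subgroup.centralizer (S : Set Ω)) := by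
  obtain ⟨hAS, hAc, hAi⟩ := hA
  have h : CfsgLib.Fusion.AbelianIndexP.Setup S A p := by
    refine ⟨hS, hAS, fun a ha b hb => ?_, hAi, fun hc => hna ?_⟩
    · exact congrArg Subtype.val (hAc.is_comm.comm ⟨a, ha⟩ ⟨b, hb⟩)
    · exact ⟨⟨fun a b => Subtype.ext (hc a a.2 b b.2)⟩⟩
  obtain ⟨x, hxP, hxA⟩ : ∃ x ∈ P, x ∉ A := by
    by_contra hc
    push Not at hc
    refine hPA (le_antisymm hc fun a ha =>
      CfsgLib.Fusion.centralizerIn_le_of_isCentric hP.1 ?_)
    exact ⟨h.le ha, Subgroup.mem_centralizer_iff.2 fun y hy => h.comm _ (hc y hy) _ ha⟩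
  have he : CfsgLib.Fusion.AbelianIndexP.Ess F A p P x := ⟨hP, hxP, hxA⟩
  have hz2 : (Subgroup.upperCentralSeries ↥S 2).map S.subtype ≤ A := by
    by_cases hab : P ⊓ A ≤ Cfsg.FusionSystem.centralizerIn S S
    · rcases he.z2_le_or h hF hab with h1 | h1
      · exact h1
      · exact absurd (huniq P (he.le h) (he.mulComm h hab) h1) hPA
    · exact (he.inf_eq_z2 h hF hab).1
  have hcd := he.card_cd_eq h hF
  rw [CfsgLib.Fusion.AbelianIndexP.cd, CfsgLib.Fusion.CenterIndex.derived_eq_map] at hcd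
  have hsup := he.relIndex_sup_derived h hF
  rw [CfsgLib.Fusion.CenterIndex.derived_eq_map] at hsup
  exact ⟨hz2, hcd, hsup, he.relIndex_z2 h hF hz2,
    fun m hm hm3 => he.lowerCentralSeries_not_le h hF hm (by omega)⟩

end Cfsg.Agent.S5257
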