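import Cfsg.Statements.S5267
import Cfsg.Agent.Lib.MaxClassFusion.Main
import Cfsg.Agent.Lib.MaxClassFusion.Pearls

set_option autoImplicit false
open Cfsg
open scoped commutatorElement

namespace Cfsg.Agent.S5267

/-- Let p be a prime and S a finite p-group of maximal class of order p^n with n ≥ 4 (nilpotency class n − 1: the term γ_{n−1}(S) of its lower central series, reached from S after n − 2 commutator steps, is nontrivial), F a saturated fusion system over S and E an F-essential subgroup. Write Γ₁ for the two-step centralizer C_S([S,S]/γ₄(S)) (the elements of S whose commutators with [S,S] lie in the fourth term γ₄(S) of the lower central series) and Z₂(S) for the second centre. Then E is a pearl — elementary abelian of order p², or extraspecial of order p³ of exponent p (p odd) or quaternion of order 8 (p = 2) — or E = Γ₁, or E = C_S(Z₂(S)). Moreover, if Γ₁ ≠ C_S(Z₂(S)) then every pearl of F is elementary abelian of order p². -/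
theorem result {Ω : Type*} [Group Ω] {S : Subgroup Ω} [Finite S] (p : ℕ) [Fact p.Prime] (hS : IsPGroup p ↥S) (n : ℕ) (hn : Nat.card S = p ^ n) (h4 : 4 ≤ n) (hmax : Subgroup.lowerCentralSeries S (n - 2) ≠ ⊥) (F : Cfsg.FusionSystem S) (hF : F.IsSaturated p) (Γ₁ : Subgroup Ω) (hΓ₁ : ∀ x : Ω, x ∈ Γ₁ ↔ x ∈ S ∧ ∀ y ∈ Subgroup.lowerCentralSeries S 1, x * y * x⁻¹ * y⁻¹ ∈ Subgroup.lowerCentralSeries S 3) : (∀ E : Subgroup Ω, F.IsEssential p E → (Nat.card ↥E = p ^ 2 ∧ Cfsg.IsElementaryAbelian p E) ∨ (Nat.card ↥E = p ^ 3 ∧ Cfsg.IsExtraspecial p ↥E ∧ (p ≠ 2 → Monoid.exponent ↥E = p) ∧ (p = 2 → Nonempty (↥E ≃* QuaternionGroup 2))) ∨ E = Γ₁ ∨ E = (S ⊓ Subgroup.centralizer (((Subgroup.upperCentralSeries ↥S 2).map S.subtype) : Set Ω))) ∧ (Γ₁ ≠ (S ⊓ Subgroup.centralizer (((Subgroup.upperCentralSeries ↥S 2).map S.subtype) : Set Ω)) → ∀ E : Subgroup Ω, F.IsEssential p E → (Nat.card ↥E = p ^ 3 ∧ Cfsg.IsExtraspecial p ↥E ∧ (p ≠ 2 → Monoid.exponent ↥E = p) ∧ (p = 2 → Nonempty (↥E ≃*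 QuaternionGroup 2))) → False) := by
  haveI := hS.isNilpotent
  have hp := (Fact.out : p.Prime)
  have hcl : Group.nilpotencyClass ↥S = n - 1 := by
    refine le_antisymm (CfsgLib.PGroup.nilpotencyClass_le_pred hS hn (by omega)) ?_
    by_contra hlt
    apply hmax
    rw [← Subgroup.top_subtype_lowerCentralSeries,
      Subgroup.lowerCentralSeries_eq_bot_iff_nilpotencyClass_le.2 (by omega), Subgroup.map_bot]
  obtain ⟨x, hx⟩ := CfsgLib.MCFusion.exists_uniform' hS hn h4 hcl
  have hΓ : Γ₁ = (CfsgLib.MCFusion.lev ↥S 1).map S.subtype := by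
    rw [CfsgLib.MCFusion.lev_one]
    ext g
    rw [hΓ₁, ← Subgroup.top_subtype_lowerCentralSeries S 1, ← Subgroup.top_subtype_lowerCentralSeries S 3]
    constructor
    · rintro ⟨hgS, hg⟩
      refine ⟨⟨g, hgS⟩, fun y hy => ?_, rfl⟩
      obtain ⟨z, hz, he⟩ := hg y ⟨y, hy, rfl⟩
      rwa [show ⁅(⟨g, hgS⟩ : ↥S), y⁆ = z from Subtype.ext he.symm]
    · rintro ⟨g, hg, rfl⟩
      refine ⟨g.2, ?_⟩
      rintro _ ⟨y, hy, rfl⟩
      exact ⟨⁅g, y⁆, hg y hy, rfl⟩
  have hC : (S ⊓ Subgroup.centralizer (((Subgroup.upperCentralSeries ↥S 2).map S.subtype) : Set Ω)) =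
      (CfsgLib.PGroup.MaxClassRank.twoStepAt ↥S (n - 2)).map S.subtype := by
    rw [CfsgLib.MaxClassEss.upperCentralSeries_two_eq hS hn h4 hcl]
    exact (CfsgLib.MaxClassEss.twoStepAt_last hS h4 hcl).symm
  have hbig : ∀ E : Subgroup Ω, F.IsEssential p E → (∀ g ∈ E.subgroupOf S, ¬ CfsgLib.MaxClassUniform.Uniform g p n) →
      E.subgroupOf S = CfsgLib.MCFusion.lev ↥S 1 ∨
        E.subgroupOf S = CfsgLib.PGroup.MaxClassRank.twoStepAt ↥S (n - 2) := fun E hE hg =>
    CfsgLib.MCFusion.conc n F E hS hn h4 hcl hF hE (CfsgLib.MCFusion.inner_of_no_uniform hx h4 _ hg)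
  refine ⟨fun E hE => ?_, fun hne E hE hpearl => ?_⟩
  · have hES := hE.1.1
    haveI := CfsgLib.Fusion.finite_of_le hES
    by_cases hu : ∃ g ∈ E.subgroupOf S, CfsgLib.MaxClassUniform.Uniform g p n
    · obtain ⟨g, hg, hgu⟩ := hu
      rcases CfsgLib.MCFusion.pearl_of_uniform hS hn (by omega) hE hg hgu with h | ⟨hcard, a, b, hab⟩
      · exact Or.inl h
      · refine Or.inr (Or.inl ⟨hcard, ?_⟩)
        obtain ⟨hcore, hdvd⟩ := CfsgLib.Fusion.EssentialCube.autGroup_data hS hE
        obtain ⟨hZ, hcom, hpow⟩ := CfsgLib.Fusion.EssentialCube.center_data hcard hab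
        have hEp : IsPGroup p ↥E := IsPGroup.of_card hcard
        have hx' : Cfsg.IsExtraspecial p ↥E :=
          ⟨⟨hEp, le_antisymm (CfsgLib.FrattiniLe.frattini_le_of_pow_of_commutator hpow hcom.le)
            (hcom ▸ CfsgLib.Coprime.commutator_le_frattini hEp), hcom⟩, hZ⟩
        rcases CfsgLib.Fusion.EssentialCube.classify hcard hab _ hcore hdvd with ⟨hodd, -, hexp⟩ | ⟨h2, hQ⟩
        · refine ⟨hx', fun _ => ?_, fun h => ?_⟩
          · rcases (Nat.dvd_prime hp).1 (Monoid.exponent_dvd_of_forall_pow_eq_one hexp) with h | h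
            · haveI : Subsingleton ↥E := Monoid.exp_eq_one_iff.1 h
              exact absurd (Subsingleton.elim _ _) hab
            · exact h
          · rw [h] at hodd; exact absurd hodd (by decide)
        · exact ⟨hx', fun h => absurd h2 h, fun _ => hQ⟩
    · push Not at hu
      refine Or.inr (Or.inr ?_)
      rcases hbig E hE hu with h | h
      · exact Or.inl (by rw [hΓ, ← h, Subgroup.map_subgroupOf_eq_of_le hES])
      · exact Or.inr (by rw [hC, ← h, Subgroup.map_subgroupOf_eq_of_le hES])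
  · obtain ⟨hcard, hx', -⟩ := hpearl
    have hES := hE.1.1
    haveI := CfsgLib.Fusion.finite_of_le hES
    have hex : CfsgLib.PGroup.MaxClassRank.twoStepAt ↥S (n - 2) ≠ CfsgLib.PGroup.MaxClassRank.twoStepAt ↥S 2 :=
      fun h => hne (by rw [hΓ, hC, h, CfsgLib.MCFusion.lev_one])
    obtain ⟨-, h6⟩ := CfsgLib.MCFusion.five_le_of_exc hx h4 hex
    have hnab : ∃ a b : ↥E, a * b ≠ b * a := by
      by_contra hcon
      push Not at hcon
      have h1 : Subgroup.center ↥E = ⊤ := eq_top_iff.2 fun a _ => Subgroup.mem_center_iff.2 fun b => hcon b a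
      have h2 := hx'.2
      rw [h1, Subgroup.card_top, hcard] at h2
      exact absurd h2 (lt_self_pow₀ hp.one_lt (by norm_num)).ne'
    by_cases hu : ∃ g ∈ E.subgroupOf S, CfsgLib.MaxClassUniform.Uniform g p n
    · obtain ⟨g, hg, hgu⟩ := hu
      exact CfsgLib.MCFusion.false_cube hS hn hF h4 hx hex hE hcard hnab hg hgu
    · push Not at hu
      have hi : (E.subgroupOf S).index = p := by
        rcases hbig E hE hu with h | h
        · rw [h, CfsgLib.MCFusion.lev_one]
          exact CfsgLib.MaxClassEss.index_twoStepAt hx le_rfl (by omega)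
        · rw [h]
          exact CfsgLib.MaxClassEss.index_twoStepAt hx (by omega) (by omega)
      have h1 := (E.subgroupOf S).card_mul_index
      rw [hi, Nat.card_congr (Subgroup.subgroupOfEquivOfLe hES).toEquiv, hcard, hn, ← pow_succ] at h1
      have := Nat.pow_right_injective hp.two_le h1
      omega

end Cfsg.Agent.S5267
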