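import Cfsg.Statements.S5269
import Cfsg.Agent.Lib.MaxClassEss.IndexOne

set_option autoImplicit false
open Cfsg
open scoped commutatorElement

namespace Cfsg.Agent.S5269

/-- Let p ≥ 5 be a prime, S a finite p-group of maximal class of order p^n with n ≥ 4, F a saturated fusion system over S, and E an F-essential subgroup that is normal in S. Then E has index p in S; moreover E is the two-step centralizer Γ₁ = C_S([S,S]/γ₄(S)) or E = C_S(Z₂(S)), unless S has order p^4 and E is extraspecial of order p³ and exponent p. -/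
theorem result {Ω : Type*} [Group Ω] {S : Subgroup Ω} [Finite S] (p : ℕ) [Fact p.Prime] (hS : IsPGroup p ↥S) (n : ℕ) (hn : Nat.card S = p ^ n) (h4 : 4 ≤ n) (hmax : Subgroup.lowerCentralSeries S (n - 2) ≠ ⊥) (F : Cfsg.FusionSystem S) (hF : F.IsSaturated p) (hp : 5 ≤ p) (Γ₁ : Subgroup Ω) (hΓ₁ : ∀ x : Ω, x ∈ Γ₁ ↔ x ∈ S ∧ ∀ y ∈ Subgroup.lowerCentralSeries S 1, x * y * x⁻¹ * y⁻¹ ∈ Subgroup.lowerCentralSeries S 3) (E : Subgroup Ω) (hE : F.IsEssential p E) (hEn : (E.subgroupOf S).Normal) : (E.subgroupOf S).index = p ∧ (E = Γ₁ ∨ E = (S ⊓ Subgroup.centralizer (((Subgroup.upperCentralSeries ↥S 2).map S.subtype) : Set Ω)) ∨ (n = 4 ∧ Nat.card ↥E = p ^ 3 ∧ Cfsg.IsExtraspecial p ↥E ∧ Monoid.exponent ↥E = p)) := by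
  haveI := hS.isNilpotent
  have hcl : Group.nilpotencyClass ↥S = n - 1 := by
    refine le_antisymm (CfsgLib.PGroup.nilpotencyClass_le_pred hS hn (by omega)) ?_
    by_contra hlt
    apply hmax
    rw [← Subgroup.top_subtype_lowerCentralSeries,
      Subgroup.lowerCentralSeries_eq_bot_iff_nilpotencyClass_le.2 (by omega), Subgroup.map_bot]
  have hidx := CfsgLib.MaxClassEss.index_eq_prime hp hS hn h4 hcl hF hE hEn
  refine ⟨hidx, ?_⟩
  have hES := hE.1.1
  have hmap : ∀ T : Subgroup ↥S, E.subgroupOf S = T → E = T.map S.subtype := fun T hT => by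
    rw [← hT, Subgroup.map_subgroupOf_eq_of_le hES]
  rcases CfsgLib.MaxClassEss.maximal_cases hp hS hn h4 hcl hE hEn hidx with h | h | h
  · refine Or.inl ((hmap _ h).trans ?_)
    ext g
    rw [hΓ₁, ← Subgroup.top_subtype_lowerCentralSeries S 1, ← Subgroup.top_subtype_lowerCentralSeries S 3]
    constructor
    · rintro ⟨g, hg, rfl⟩
      refine ⟨g.2, ?_⟩
      rintro _ ⟨y, hy, rfl⟩
      exact ⟨⁅g, y⁆, hg y hy, rfl⟩
    · rintro ⟨hgS, hg⟩
      refine ⟨⟨g, hgS⟩, fun y hy => ?_, rfl⟩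
      obtain ⟨z, hz, he⟩ := hg y ⟨y, hy, rfl⟩
      rwa [show ⁅(⟨g, hgS⟩ : ↥S), y⁆ = z from Subtype.ext he.symm]
  · refine Or.inr (Or.inl ((hmap _ h).trans ?_))
    rw [CfsgLib.MaxClassEss.upperCentralSeries_two_eq hS hn h4 hcl]
    exact CfsgLib.MaxClassEss.twoStepAt_last hS h4 hcl
  · exact Or.inr (Or.inr h)

end Cfsg.Agent.S5269
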