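import Cfsg.Agent.Lib.Fusion.System.Alperin
import Cfsg.Agent.Lib.PGroup.MaximalClassCenter
import Cfsg.Statements.S5270
-- import your own Cfsg.Agent.* helpers here

set_option autoImplicit false
open Cfsg
open scoped commutatorElement

namespace Cfsg.Agent.S5270

/-- Let p ≥ 5 be a prime, S a finite p-group of maximal class of order p^n with n ≥ 4, and F a saturated fusion system over S. If some map of F defined on the second centre Z₂(S) with image Z₂(S) does not carry Z(S) into itself, then the centralizer C_S(Z₂(S)) is an F-essential subgroup. -/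
theorem result {Ω : Type*} [Group Ω] {S : Subgroup Ω} [Finite S] (p : ℕ) [Fact p.Prime] (hS : IsPGroup p ↥S) (n : ℕ) (hn : Nat.card S = p ^ n) (h4 : 4 ≤ n) (hmax : Subgroup.lowerCentralSeries S (n - 2) ≠ ⊥) (F : Cfsg.FusionSystem S) (hF : F.IsSaturated p) (hp : 5 ≤ p) (φ : ↥((Subgroup.upperCentralSeries ↥S 2).map S.subtype) →* Ω) (hφ : φ ∈ F.Hom ((Subgroup.upperCentralSeries ↥S 2).map S.subtype)) (hφZ : φ.range = ((Subgroup.upperCentralSeries ↥S 2).map S.subtype)) (hmove : ∃ (z : Ω) (hz : z ∈ ((Subgroup.upperCentralSeries ↥S 2).map S.subtype)), z ∈ ((Subgroup.center ↥S).map S.subtype) ∧ φ ⟨z, hz⟩ ∉ ((Subgroup.center ↥S).map S.subtype)) : F.IsEssential p (S ⊓ Subgroup.centralizer (((Subgroup.upperCentralSeries ↥S 2).map S.subtype) : Set Ω)) := by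
  classical
  obtain ⟨hp1, hp2⟩ := (⟨(Fact.out : p.Prime).one_lt, (Fact.out : p.Prime).two_le⟩ : 1 < p ∧ 2 ≤ p)
  revert φ
  generalize hZ2 : (Subgroup.upperCentralSeries ↥S 2).map S.subtype = Z2
  intro φ hφ hφZ hmove
  obtain ⟨z, hz, hzc, hzm⟩ := hmove
  haveI hnil := hS.isNilpotent
  have hcl : Group.nilpotencyClass ↥S = n - 1 := by
    refine le_antisymm (CfsgLib.PGroup.nilpotencyClass_le_pred hS hn (by omega)) ?_
    by_contra hlt
    apply hmax
    rw [← Subgroup.top_subtype_lowerCentralSeries,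
      Subgroup.lowerCentralSeries_eq_bot_iff_nilpotencyClass_le.2 (by omega), Subgroup.map_bot]
  have hcZ := CfsgLib.PGroup.card_center_of_maximal hS hn (by omega) hcl
  have hcZ2 := CfsgLib.PGroup.card_upperCentralSeries_two hS hn h4 hcl
  have hφm := CfsgLib.Fusion.isMap_toFun hφ
  -- an element of the second centre outside the centre
  obtain ⟨b, hb, hbe⟩ := Subgroup.mem_map.1 ((le_of_eq (hφZ.trans hZ2.symm)) ⟨⟨z, hz⟩, rfl⟩)
  have hbZ : b ∉ Subgroup.center ↥S := fun h => hzm ⟨b, h, hbe⟩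
  have hZle : Subgroup.center ↥S ≤ Subgroup.upperCentralSeries ↥S 2 := fun x hx =>
    Subgroup.mem_upperCentralSeries_succ_iff.2 fun y => by
      rw [commutatorElement_eq_one_iff_mul_comm.2 (Subgroup.mem_center_iff.1 hx y).symm]
      exact one_mem _
  have hcomm : ∀ y : ↥S, ⁅b, y⁆ ∈ Subgroup.center ↥S := fun y => by
    have := Subgroup.mem_upperCentralSeries_succ_iff.1 hb y
    rwa [Subgroup.upperCentralSeries_one] at this
  let δ : ↥S →* ↥(Subgroup.center ↥S) := MonoidHom.mk' (fun y => ⟨⁅b, y⁆, hcomm y⟩) fun x y => by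
    apply Subtype.ext
    show ⁅b, x * y⁆ = ⁅b, x⁆ * ⁅b, y⁆
    have h1 := Subgroup.mem_center_iff.1 (hcomm y) x
    calc ⁅b, x * y⁆ = ⁅b, x⁆ * (x * ⁅b, y⁆) * x⁻¹ := by simp only [commutatorElement_def]; group
      _ = ⁅b, x⁆ * ⁅b, y⁆ := by rw [h1]; group
  have hker : δ.ker = Subgroup.centralizer ({b} : Set ↥S) := by
    ext y
    rw [MonoidHom.mem_ker, Subgroup.mem_centralizer_singleton_iff]
    constructor
    · intro h
      exact (commutatorElement_eq_one_iff_mul_comm.1 (congrArg Subtype.val h)).symm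
    · intro h
      exact Subtype.ext (commutatorElement_eq_one_iff_mul_comm.2 h.symm)
  have hidx : δ.ker.index = p := by
    have h1 : δ.ker.index ∣ p := by
      rw [Subgroup.index_ker, ← hcZ]; exact Subgroup.card_subgroup_dvd_card _
    refine ((Nat.dvd_prime Fact.out).1 h1).resolve_left fun h => hbZ ?_
    rw [Subgroup.index_eq_one, hker] at h
    exact Subgroup.mem_center_iff.2 fun y =>
      Subgroup.mem_centralizer_singleton_iff.1 (h.ge (Subgroup.mem_top y))
  have hgen : Subgroup.center ↥S ⊔ Subgroup.zpowers b = Subgroup.upperCentralSeries ↥S 2 := by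
    have hle : Subgroup.center ↥S ⊔ Subgroup.zpowers b ≤ Subgroup.upperCentralSeries ↥S 2 :=
      sup_le hZle (Subgroup.zpowers_le.2 hb)
    refine Subgroup.eq_of_le_of_card_ge hle ?_
    obtain ⟨j, hj, hjc⟩ := (Nat.dvd_prime_pow Fact.out).1 (hcZ2 ▸ Subgroup.card_dvd_of_le hle)
    rw [hcZ2, hjc]
    refine Nat.pow_le_pow_right (by omega) ?_
    by_contra h2
    refine hbZ ?_
    have : Subgroup.center ↥S = Subgroup.center ↥S ⊔ Subgroup.zpowers b :=
      Subgroup.eq_of_le_of_card_ge le_sup_left (by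
        rw [hjc, hcZ]; exact (Nat.pow_le_pow_right (by omega) (show j ≤ 1 by omega)).trans (pow_one p).le)
    exact this.ge (Subgroup.mem_sup_right (Subgroup.mem_zpowers b))
  set E := S ⊓ Subgroup.centralizer (Z2 : Set Ω) with hE
  have hEk : E = δ.ker.map S.subtype := by
    ext x
    refine ⟨fun hx => ⟨⟨x, hx.1⟩, ?_, rfl⟩, ?_⟩
    · rw [SetLike.mem_coe, hker, Subgroup.mem_centralizer_singleton_iff]
      exact Subtype.ext (hx.2 b (hZ2 ▸ ⟨b, hb, rfl⟩)).symm
    · rintro ⟨y, hy, rfl⟩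
      refine ⟨y.2, Subgroup.mem_centralizer_iff.2 ?_⟩
      rw [← hZ2]
      rintro _ ⟨w, hw, rfl⟩
      rw [SetLike.mem_coe, hker] at hy
      have h2 : Subgroup.center ↥S ⊔ Subgroup.zpowers b ≤ Subgroup.centralizer ({y} : Set ↥S) :=
        sup_le (fun c hc => Subgroup.mem_centralizer_singleton_iff.2 (Subgroup.mem_center_iff.1 hc y).symm)
          (Subgroup.zpowers_le.2 (Subgroup.mem_centralizer_singleton_iff.2
            (Subgroup.mem_centralizer_singleton_iff.1 hy).symm))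
      exact congrArg Subtype.val
        (Subgroup.mem_centralizer_singleton_iff.1 (h2 (hgen.ge hw)))
  have hEc : Nat.card S = p * Nat.card E := by
    rw [hEk, Subgroup.card_map_of_injective S.subtype_injective, ← hidx, mul_comm,
      Subgroup.card_mul_index]
  have hES : E ≤ S := inf_le_left
  haveI := CfsgLib.Fusion.finite_of_le hES
  have hlt : E < S := lt_of_le_of_ne hES fun h => by
    have h2 : (0 : ℕ) < Nat.card S := Nat.card_pos
    rw [h] at hEc
    nlinarith
  have hnorm : S ≤ Subgroup.normalizer (E : Set Ω) := by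
    intro s hs
    rw [hEk, Subgroup.mem_normalizer_iff]
    have key : ∀ t : ↥S, ∀ x ∈ δ.ker.map S.subtype, (t : Ω) * x * (t : Ω)⁻¹ ∈ δ.ker.map S.subtype := by
      rintro t _ ⟨y, hy, rfl⟩
      exact ⟨t * y * t⁻¹, δ.normal_ker.conj_mem y hy t, rfl⟩
    refine fun x => ⟨key ⟨s, hs⟩ x, fun h => ?_⟩
    have := key ⟨s⁻¹, inv_mem hs⟩ _ h
    simpa [mul_assoc] using this
  have hfn : F.IsFullyNormalized E :=
    ⟨hES, fun Q _ => CfsgLib.Fusion.card_le_of_le' inf_le_left (inf_le_left.trans (le_inf le_rfl hnorm))⟩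
  -- extend the given automorphism
  have hZ2S : Z2 ≤ S := hZ2 ▸ Subgroup.map_subtype_le _
  have hZ2n : S ≤ Subgroup.normalizer (Z2 : Set Ω) := by
    intro s hs
    rw [Subgroup.mem_normalizer_iff]
    have key : ∀ t : ↥S, ∀ x ∈ Z2, (t : Ω) * x * (t : Ω)⁻¹ ∈ Z2 := by
      rw [← hZ2]
      rintro t _ ⟨y, hy, rfl⟩
      exact ⟨t * y * t⁻¹, (Subgroup.normal_of_characteristic _).conj_mem y hy t, rfl⟩
    refine fun x => ⟨key ⟨s, hs⟩ x, fun h => ?_⟩
    have := key ⟨s⁻¹, inv_mem hs⟩ _ h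
    simpa [mul_assoc] using this
  have hZfn : F.IsFullyNormalized Z2 :=
    ⟨hZ2S, fun Q _ => CfsgLib.Fusion.card_le_of_le' inf_le_left (inf_le_left.trans (le_inf le_rfl hZ2n))⟩
  obtain ⟨g, hg, hge⟩ := (CfsgLib.Fusion.isReceptive_iff.1
    (CfsgLib.Fusion.IsSaturated.automized_receptive hS hF hZfn).2).2 Z2 _ hφm
      ((CfsgLib.Fusion.img_toFun φ).trans hφZ)
  have hgE : CfsgLib.Fusion.IsMap F E g := hg.mono CfsgLib.Fusion.centralizerIn_le_extSub
  have himg : CfsgLib.Fusion.img E g = E := by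
    refine CfsgLib.Fusion.eq_of_le_of_card_le hES (fun y hy => ?_) hgE.card_img.ge
    obtain ⟨c, hc, rfl⟩ := hgE.mem_img.1 hy
    refine ⟨hgE.mem_S hc, ?_⟩
    have h := CfsgLib.Fusion.map_mem_centralizerIn hg (CfsgLib.Fusion.le_extSub hφm)
      (CfsgLib.Fusion.centralizerIn_le_extSub hc) hc.2
    rw [CfsgLib.Fusion.IsMap.img_congr hge, CfsgLib.Fusion.img_toFun, hφZ] at h
    exact h.2
  refine CfsgLib.Fusion.isEssential_of_extGroup_ne hS hF hlt hfn fun heq => ?_
  have hCS : ∀ x, x ∈ S ⊓ Subgroup.centralizer (S : Set Ω) ↔ x ∈ (Subgroup.center ↥S).map S.subtype := by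
    intro x
    constructor
    · exact fun hx => ⟨⟨x, hx.1⟩, Subgroup.mem_center_iff.2 fun y => Subtype.ext (hx.2 y y.2), rfl⟩
    · rintro ⟨y, hy, rfl⟩
      exact ⟨y.2, Subgroup.mem_centralizer_iff.2 fun w hw =>
        congrArg Subtype.val (Subgroup.mem_center_iff.1 hy ⟨w, hw⟩)⟩
  have hpres : ∀ α ∈ CfsgLib.Fusion.extGroup F E, ∀ x ∈ E,
      x ∈ S ⊓ Subgroup.centralizer (S : Set Ω) ↔
        CfsgLib.Fusion.autFun α x ∈ S ⊓ Subgroup.centralizer (S : Set Ω) := by
    intro α hα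
    induction hα using Subgroup.closure_induction with
    | mem α hα =>
      obtain ⟨Q, f, hQ, hf, hfe⟩ := hα
      haveI := CfsgLib.Fusion.finite_of_le hf.le
      have hQS : Q = S := by
        refine CfsgLib.Fusion.eq_of_le_of_card_le le_rfl hf.le ?_
        obtain ⟨c, hc⟩ := Subgroup.card_dvd_of_le hQ.le
        obtain ⟨d, hd⟩ := Subgroup.card_dvd_of_le hf.le
        have hcd : c * d = p := Nat.eq_of_mul_eq_mul_left (Nat.card_pos (α := E))
          (by rw [← mul_assoc, ← hc, ← hd, hEc, mul_comm])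
        rcases (Nat.dvd_prime (Fact.out : p.Prime)).1 ⟨d, hcd.symm⟩ with h | h
        · rw [h, mul_one] at hc
          exact absurd (CfsgLib.Fusion.eq_of_le_of_card_le hf.le hQ.le hc.le) hQ.ne
        · rw [h] at hcd
          rw [hd, (mul_eq_left₀ (Fact.out : p.Prime).ne_zero).1 hcd, mul_one]
      rw [hQS] at hf
      have hsurj : ∀ w ∈ S, ∃ v ∈ S, f v = w := fun w hw =>
        hf.mem_img.1 ((CfsgLib.Fusion.eq_of_le_of_card_le le_rfl hf.img_le hf.card_img.ge).ge hw)
      intro x hx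
      rw [← hfe x hx]
      constructor
      · refine fun h => ⟨hf.mem_S (hES hx), Subgroup.mem_centralizer_iff.2 fun w hw => ?_⟩
        obtain ⟨v, hv, rfl⟩ := hsurj w hw
        exact hf.map_commute hv (hES hx) (h.2 v hv)
      · refine fun h => ⟨hES hx, Subgroup.mem_centralizer_iff.2 fun w hw => ?_⟩
        apply hf.inj (S.mul_mem hw (hES hx)) (S.mul_mem (hES hx) hw)
        rw [hf.map_mul hw (hES hx), hf.map_mul (hES hx) hw]
        exact h.2 (f w) (hf.mem_S hw)
    | one =>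
      intro x hx
      rw [CfsgLib.Fusion.autFun_one hx]
    | mul α β _ _ iα iβ =>
      intro x hx
      rw [CfsgLib.Fusion.autFun_mul α β hx]
      exact (iβ x hx).trans (iα _ (CfsgLib.Fusion.autFun_mem β hx))
    | inv α _ iα =>
      intro x hx
      have h := iα _ (CfsgLib.Fusion.autFun_mem α⁻¹ hx)
      rw [← CfsgLib.Fusion.autFun_mul α α⁻¹ hx, mul_inv_cancel, CfsgLib.Fusion.autFun_one hx] at h
      exact h.symm
  have hzC : z ∈ S ⊓ Subgroup.centralizer (S : Set Ω) := (hCS z).2 hzc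
  have hzE : z ∈ E := ⟨hzC.1, Subgroup.centralizer_le (fun w hw => hZ2S hw) hzC.2⟩
  refine hzm ((hCS _).1 ?_)
  have h := (hpres _ (heq.ge (CfsgLib.Fusion.autOf_mem hgE himg)) z hzE).1 hzC
  rw [CfsgLib.Fusion.autFun_autOf hgE himg hzE, hge z hz, CfsgLib.Fusion.toFun_apply φ hz] at h
  exact h

end Cfsg.Agent.S5270
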