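import Cfsg.Statements.S5271
import Cfsg.Agent.Lib.Fusion.System.WeaklyEmbedded

set_option autoImplicit false
open Cfsg
open CfsgLib.Fusion

namespace Cfsg.Agent.S5271

/-- A nilpotency criterion for fusion systems. Let F be a saturated fusion system over a finite p-group S of order at least p². Call a subgroup Q of S weakly embedded in F when there is a subgroup P of S strongly closed in F such that both the product QP and the intersection Q ∩ P are strongly closed in F. Then F is the inner fusion system of S if and only if there is a subgroup D of S with 1 < D < S such that every subgroup of S of the same order as D is weakly embedded in F and, for every fully normalized subgroup H of S of that order, the normalizer fusion system of H in F is the inner fusion system of N_S(H). -/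
theorem result {Ω : Type*} [Group Ω] {S : Subgroup Ω} [Finite S] (p : ℕ) [Fact p.Prime] (hS : IsPGroup p ↥S) (F : Cfsg.FusionSystem S) (hF : F.IsSaturated p) (hcard : p ^ 2 ≤ Nat.card S) : (∀ P : Subgroup Ω, F.Hom P = (Cfsg.innerFusionSystem S).Hom P) ↔ ∃ D : Subgroup Ω, ⊥ < D ∧ D < S ∧ (∀ Q : Subgroup Ω, Q ≤ S → Nat.card ↥Q = Nat.card ↥D → ∃ P : Subgroup Ω, F.StronglyClosed P ∧ F.StronglyClosed (Q ⊔ P) ∧ F.StronglyClosed (Q ⊓ P)) ∧ (∀ H : Subgroup Ω, F.IsFullyNormalized H → Nat.card ↥H = Nat.card ↥D → ∀ N : Cfsg.FusionSystem (Cfsg.FusionSystem.normalizerIn S H), F.IsNormalizerSystem H N → ∀ P : Subgroup Ω, N.Hom P = (Cfsg.innerFusionSystem (Cfsg.FusionSystem.normalizerIn S H)).Hom P) := by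
  have hp := (Fact.out : p.Prime)
  obtain ⟨m, hm⟩ := (IsPGroup.iff_card (p := p)).1 hS
  have hm2 : 2 ≤ m := by
    rw [hm] at hcard
    exact (Nat.pow_le_pow_iff_right hp.one_lt).1 hcard
  constructor
  · intro h
    have hI : IsInner F := isInner_iff.2 h
    obtain ⟨D, -, hDS, hDc⟩ := WeakEmb.exists_between (Ω := Ω) (S := S) (p := p) hS
      (bot_le : (⊥ : Subgroup Ω) ≤ S) le_rfl (d := m - 1)
      (by rw [Subgroup.card_bot]; exact Nat.one_le_pow _ _ hp.pos)
      (by rw [hm]; exact Nat.pow_le_pow_right hp.pos (Nat.sub_le _ _))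
    have hlt : p ^ (m - 1) < p ^ m := Nat.pow_lt_pow_right hp.one_lt (by omega)
    refine ⟨D, ?_, ?_, ?_, fun H hH _ => (ninner_iff hH.1).1 (ninner_of_isInner hI)⟩
    · rw [bot_lt_iff_ne_bot]
      intro hD
      rw [hD, Subgroup.card_bot] at hDc
      exact absurd hDc (Nat.one_lt_pow (by omega) hp.one_lt).ne
    · refine lt_of_le_of_ne hDS fun hD => ?_
      rw [hD, hm] at hDc
      omega
    · intro Q hQ hQc
      have hQn : S ≤ Subgroup.normalizer (Q : Set Ω) := by
        haveI : Group.IsNilpotent ↥S := hS.isNilpotent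
        have hne : Q ≠ S := fun hQS => by rw [hQS, hDc, hm] at hQc; omega
        have hlt' := lt_inf_normalizer hQ hne
        set N := S ⊓ Subgroup.normalizer (Q : Set Ω) with hN
        have hNS : N ≤ S := inf_le_left
        haveI := finite_of_le hNS
        obtain ⟨k, hk⟩ := (IsPGroup.iff_card (p := p)).1 (hS.to_le hNS)
        have hgt : p ^ (m - 1) < Nat.card N := by
          rw [← hDc, ← hQc]
          exact lt_of_le_of_ne (Subgroup.card_le_of_le hlt'.le)
            fun he => hlt'.ne (Subgroup.eq_of_le_of_card_ge hlt'.le he.ge)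
        have hcardN : Nat.card S ≤ Nat.card N := by
          rw [hk] at hgt ⊢
          rw [hm]
          have := (Nat.pow_lt_pow_iff_right hp.one_lt).1 hgt
          exact Nat.pow_le_pow_right hp.pos (by omega)
        exact (eq_of_le_of_card_le le_rfl hNS hcardN).ge.trans inf_le_right
      have hSc : F.StronglyClosed S :=
        stronglyClosed_iff.2 ⟨le_rfl, fun R f _ hf x hx => hf.mem_S hx⟩
      refine ⟨S, hSc, (sup_eq_right.2 hQ).symm ▸ hSc, ?_⟩
      rw [inf_eq_left.2 hQ]
      refine stronglyClosed_iff.2 ⟨hQ, fun R f hR hf x hx => ?_⟩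
      obtain ⟨s, hs, he⟩ := hI R f hf
      rw [he x hx]
      exact (Subgroup.mem_normalizer_iff.1 (hQn hs) x).1 (hR hx)
  · rintro ⟨D, hD1, hD2, hweak, hinner⟩
    haveI := finite_of_le hD2.le
    obtain ⟨d, hd⟩ := (IsPGroup.iff_card (p := p)).1 (hS.to_le hD2.le)
    refine isInner_iff.1 (WeakEmb.isInner_of_hyp (d := d) ⟨?_, ?_, ?_⟩ hS hF)
    · rw [← hd]
      exact lt_of_le_of_ne (Subgroup.card_le_of_le hD2.le)
        fun he => hD2.ne (Subgroup.eq_of_le_of_card_ge hD2.le he.ge)
    · exact fun Q hQ hQc => hweak Q hQ (hQc.trans hd.symm)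
    · exact fun H hH hHc => (ninner_iff hH.1).2 (hinner H hH (hHc.trans hd.symm))

end Cfsg.Agent.S5271
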