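import Cfsg.Statements.S5272
import Cfsg.Agent.Lib.Fusion.System.Criteria

set_option autoImplicit false
open Cfsg

namespace Cfsg.Agent.S5272

/-- An axiomatic Glauberman–Thompson nilpotency criterion for fusion systems. Let p be an odd prime, F a saturated fusion system over a finite p-group S, and 𝒜 a nonempty family of abelian subgroups of S. For Q ≤ S write I(Q) for the intersection of the members of 𝒜 contained in Q. Assume (invariance) that for every Q ≤ S containing a member of 𝒜, every F-automorphism of Q maps I(Q) into itself, and (replacement) that for every subgroup B of S of nilpotency class at most 2, if some member of 𝒜 contains [B,B] but not B, then B normalizes some member of 𝒜 that contains [B,B] but not B. Then F is the inner fusion system of S if and only if the normalizer fusion system of I(S) in F is the inner fusion system of N_S(I(S)). -/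
theorem result {Ω : Type*} [Group Ω] {S : Subgroup Ω} [Finite S] (p : ℕ) [Fact p.Prime] (hS : IsPGroup p ↥S) (F : Cfsg.FusionSystem S) (hF : F.IsSaturated p) (hp : p ≠ 2) (𝒜 : Set (Subgroup Ω)) (h𝒜 : ∀ A ∈ 𝒜, A ≤ S ∧ IsMulCommutative ↥A) (hne : 𝒜.Nonempty) (hinv : ∀ Q : Subgroup Ω, Q ≤ S → (∃ A ∈ 𝒜, A ≤ Q) → ∀ α ∈ F.autGroup Q, ∀ x : ↥Q, (x : Ω) ∈ (⨅ A ∈ {A : Subgroup Ω | A ∈ 𝒜 ∧ A ≤ Q}, A) → (((α : MulAut ↥Q) x : ↥Q) : Ω) ∈ (⨅ A ∈ {A : Subgroup Ω | A ∈ 𝒜 ∧ A ≤ Q}, A)) (hrep : ∀ B : Subgroup Ω, B ≤ S → ⁅⁅B, B⁆, B⁆ = ⊥ → (∃ A ∈ 𝒜, ⁅B, B⁆ ≤ A ∧ ¬ B ≤ A) → ∃ A ∈ 𝒜, ⁅B, B⁆ ≤ A ∧ ¬ B ≤ A ∧ B ≤ Subgroup.normalizer (A : Set Ω)) : (∀ P : Subgroup Ω, F.Hom P = (Cfsg.innerFusionSystem S).Hom P) ↔ ∀ N : Cfsg.FusionSystem (Cfsg.FusionSystem.normalizerIn S (⨅ A ∈ 𝒜, A)), F.IsNormalizerSystem (⨅ A ∈ 𝒜, A) N → ∀ P : Subgroup Ω, N.Hom P = (Cfsg.innerFusionSystem (Cfsg.FusionSystem.normalizerIn S (⨅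 A ∈ 𝒜, A))).Hom P := by
  refine CfsgLib.Fusion.isInner_iff_normalizerSystem_Iof hp hS hF 𝒜 h𝒜 hne ?_
    (fun B hB _ hcl hU => hrep B hB hcl hU) ?_
  · intro Q f hf himg hex x hx
    have hxQ : x ∈ Q := by
      obtain ⟨A, hA, hAQ⟩ := hex
      exact hAQ (CfsgLib.Fusion.Iof_le hA hAQ hx)
    have h := hinv Q hf.le hex (CfsgLib.Fusion.autOf hf himg)
      (CfsgLib.Fusion.autOf_mem hf himg) ⟨x, hxQ⟩ hx
    rw [← CfsgLib.Fusion.autFun_autOf hf himg hxQ, CfsgLib.Fusion.autFun_apply _ hxQ]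
    exact h
  · exact le_antisymm (le_iInf₂ fun A hA => CfsgLib.Fusion.Iof_le hA (h𝒜 A hA).1)
      (CfsgLib.Fusion.le_Iof fun A hA _ => iInf₂_le A hA)

end Cfsg.Agent.S5272
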