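import Cfsg.Statements.S5273
import Cfsg.Agent.Lib.Fusion.System.SmallDetect

set_option autoImplicit false
open Cfsg

namespace Cfsg.Agent.S5273

/-- Small-exponent abelian subgroups control fusion. Let E and F be saturated fusion systems over the same finite p-group S with E contained in F. Suppose that E and F have the same maps between A and B for all subgroups A, B of S that are elementary abelian when p is odd, respectively abelian of exponent dividing 4 when p = 2. Then E = F (they have the same maps on every subgroup). -/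
theorem result {Ω : Type*} [Group Ω] {S : Subgroup Ω} [Finite S] (p : ℕ) [Fact p.Prime] (hS : IsPGroup p ↥S) (E F : Cfsg.FusionSystem S) (hE : E.IsSaturated p) (hF : F.IsSaturated p) (hEF : E.IsSubsystemOf F) (hodd : p ≠ 2 → ∀ A B : Subgroup Ω, A ≤ S → B ≤ S → Cfsg.IsElementaryAbelian p A → Cfsg.IsElementaryAbelian p B → E.homSet A B = F.homSet A B) (htwo : p = 2 → ∀ A B : Subgroup Ω, A ≤ S → B ≤ S → IsMulCommutative ↥A → IsMulCommutative ↥B → (∀ a ∈ A, a ^ 4 = 1) → (∀ b ∈ B, b ^ 4 = 1) → E.homSet A B = F.homSet A B) : ∀ P : Subgroup Ω, E.Hom P = F.Hom P := by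
  classical
  have hab : CfsgLib.Fusion.Absorbs F p S := ⟨le_rfl, Subgroup.le_normalizer, fun P hP α _ x hx => S.mul_mem (S.inv_mem (hP hx)) (hP (CfsgLib.Fusion.autFun_mem _ hx))⟩
  refine fun P => CfsgLib.Fusion.SmallDetect.Data.hom_eq (H := S) ⟨hS, hE, hF, hEF, hab,
    CfsgLib.Fusion.SmallDetect.agree_of_homSet (hab.stronglyClosed hS hF)
      fun A B hA hB hAs hBs => ?_⟩ P
  obtain ⟨hA1, hA2⟩ := hAs
  obtain ⟨hB1, hB2⟩ := hBs
  have hAc : IsMulCommutative A := ⟨⟨fun a b => Subtype.ext (hA1 a a.2 b b.2)⟩⟩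
  have hBc : IsMulCommutative B := ⟨⟨fun a b => Subtype.ext (hB1 a a.2 b b.2)⟩⟩
  rw [CfsgLib.PGroup.smallExp] at hA2 hB2
  split_ifs at hA2 hB2 with hp2
  · exact htwo hp2 A B hA hB hAc hBc hA2 hB2
  · exact hodd hp2 A B hA hB ⟨hAc, hA2⟩ ⟨hBc, hB2⟩

end Cfsg.Agent.S5273
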