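import Cfsg.Statements.S5274
import Cfsg.Agent.Lib.Fusion.System.Saturation

set_option autoImplicit false
open Cfsg

namespace Cfsg.Agent.S5274

open CfsgLib.Fusion Subgroup
open Cfsg.FusionSystem (centralizerIn)

variable {Ω : Type*} [Group Ω] {S : Subgroup Ω} {F : Cfsg.FusionSystem S}


theorem centralizerIn_eq_self {z : Ω} (hz : z ∈ (S ⊓ Subgroup.centralizer (S : Set Ω))) : centralizerIn S (zpowers z) = S := by
  refine inf_eq_left.2 fun s hs => mem_centralizer_iff.2 ?_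
  rintro _ ⟨k, rfl⟩
  exact ((show Commute s z from mem_centralizer_iff.1 hz.2 s hs).zpow_right k).eq.symm

/-- A map sending `x` to a central element extends to the centralizer of `x`. -/
theorem exists_ext [Finite S] (hS : IsPGroup 2 ↥S) (hF : F.IsSaturated 2) {P : Subgroup Ω}
    {f : Ω → Ω} (hf : IsMap F P f) {x : Ω} (hx : x ∈ P) (hz : f x ∈ (S ⊓ Subgroup.centralizer (S : Set Ω))) :
    ∃ g, IsMap F (centralizerIn S (zpowers x)) g ∧ g x = f x := by
  haveI : Fact (Nat.Prime 2) := ⟨Nat.prime_two⟩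
  have hxP : zpowers x ≤ P := (zpowers_le).2 hx
  have hf' := hf.mono hxP
  have hxS : x ∈ S := hf'.le (mem_zpowers x)
  have himg : img (zpowers x) f = zpowers (f x) := by
    refine le_antisymm ((closure_le _).2 ?_) (zpowers_le.2 (hf'.mem_img.2 ⟨x, mem_zpowers x, rfl⟩))
    rintro _ ⟨_, ⟨k, rfl⟩, rfl⟩
    obtain ⟨φ, -, hφ⟩ := hf'
    refine ⟨k, ?_⟩
    have h1 := hφ ⟨x ^ k, k, rfl⟩
    have h2 := hφ ⟨x, mem_zpowers x⟩
    show (f x) ^ k = f (x ^ k)
    rw [← h1, ← h2, ← map_zpow]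
    rfl
  have hfc : F.IsFullyCentralized (zpowers (f x)) := by
    refine ⟨zpowers_le.2 hz.1, fun Q _ => ?_⟩
    rw [centralizerIn_eq_self hz]
    exact card_le_of_le' le_rfl inf_le_left
  obtain ⟨g, hg, hgf⟩ := (isReceptive_iff.1 (IsSaturated.isReceptive hS hF hfc)).2 _ f hf' himg
  exact ⟨g, hg.mono centralizerIn_le_extSub, hgf x (mem_zpowers x)⟩

/-- A map on `S` fixes the centre up to an automorphism of odd order. -/
theorem sq_eq_one_of_map_inv [Finite S] (hS : IsPGroup 2 ↥S) (hF : F.IsSaturated 2) {g : Ω → Ω}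
    (hg : IsMap F S g) {z : Ω} (hz : z ∈ (S ⊓ Subgroup.centralizer (S : Set Ω))) (hgz : g z = z⁻¹) : z ^ 2 = 1 := by
  haveI : Fact (Nat.Prime 2) := ⟨Nat.prime_two⟩
  haveI := finite_mulAut (P := S)
  have himg : img S g = S := eq_of_le_of_card_le le_rfl hg.img_le (le_of_eq hg.card_img.symm)
  set β := autOf hg himg with hβ
  have hβz : β ⟨z, hz.1⟩ = ⟨z, hz.1⟩⁻¹ := Subtype.ext (by
    rw [← autFun_coe]
    exact (autFun_autOf hg himg hz.1).trans hgz)
  have hpow : ∀ n : ℕ, (β ^ n) ⟨z, hz.1⟩ = ⟨z, hz.1⟩ ∨ (β ^ n) ⟨z, hz.1⟩ = ⟨z, hz.1⟩⁻¹ := by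
    intro n
    induction n with
    | zero => exact Or.inl rfl
    | succ n ih =>
      rw [pow_succ', MulAut.mul_apply]
      rcases ih with h | h <;> rw [h]
      · exact Or.inr hβz
      · exact Or.inl (by rw [map_inv, hβz, inv_inv])
  have hodd : ∀ n : ℕ, Odd n → (β ^ n) ⟨z, hz.1⟩ = ⟨z, hz.1⟩⁻¹ := by
    rintro n ⟨m, rfl⟩
    have h2 : ∀ m : ℕ, (β ^ (2 * m)) ⟨z, hz.1⟩ = ⟨z, hz.1⟩ := by
      intro m
      induction m with
      | zero => rfl
      | succ m ih =>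
        rw [show 2 * (m + 1) = 1 + (1 + 2 * m) by ring, pow_add, pow_add, pow_one,
          MulAut.mul_apply, MulAut.mul_apply, ih, hβz, map_inv, hβz, inv_inv]
    rw [pow_succ', MulAut.mul_apply, h2, hβz]
  have hβA : β ∈ F.autGroup S := autOf_mem hg himg
  obtain ⟨a, m, hm, hord⟩ := Nat.exists_eq_two_pow_mul_odd (orderOf_pos β).ne'
  have hγ : IsPGroup 2 (zpowers (β ^ m)) := by
    refine IsPGroup.of_card (n := a) ?_
    rw [Nat.card_zpowers, orderOf_pow' β (Odd.pos hm).ne', hord,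
      Nat.gcd_mul_left_left, Nat.mul_div_cancel _ (Odd.pos hm)]
  obtain ⟨hPS, hidx⟩ := (isFullyAutomized_iff hS).1
    (IsSaturated.automized_receptive hS hF isFullyNormalized_self).1
  obtain ⟨δ, hδ, hδA⟩ := exists_conj_le_of_not_dvd_relIndex (isPGroup_autInducedBy hS)
    (autInducedBy_le_autGroup hPS) hidx hγ (zpowers_le.2 (pow_mem hβA m))
  obtain ⟨s, hs, hact⟩ := mem_autInducedBy_iff.1 (hδA (conj_mem_conjBy (mem_zpowers (β ^ m))))
  set w : ↥S := δ ⟨z, hz.1⟩ with hw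
  have hwc : ∀ y : ↥S, y * w = w * y := by
    intro y
    obtain ⟨y', rfl⟩ := δ.surjective y
    rw [hw, ← map_mul, ← map_mul]
    congr 1
    exact Subtype.ext (mem_centralizer_iff.1 hz.2 y' y'.2)
  have h1 : (δ * β ^ m * δ⁻¹) w = w := by
    refine Subtype.ext ?_
    rw [← autFun_coe, hact w w.2]
    have := congrArg Subtype.val (hwc ⟨s, hs⟩)
    simp only [Subgroup.coe_mul] at this
    rw [this, mul_inv_cancel_right]
  rw [MulAut.mul_apply, MulAut.mul_apply, hw, MulAut.inv_apply_self] at h1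
  have h2 := δ.injective h1
  rw [hodd m hm] at h2
  have h3 : z⁻¹ = z := congrArg Subtype.val h2
  rw [pow_two]
  nth_rewrite 1 [← h3]
  exact inv_mul_cancel z

section main
variable [Finite S] (hS : IsPGroup 2 ↥S) (hF : F.IsSaturated 2)
  (h : ∀ x ∈ S, ∃ z ∈ (S ⊓ Subgroup.centralizer (S : Set Ω)), F.IsConjElt x z)
include hS hF h

theorem exists_center_map {x : Ω} (hx : x ∈ S) :
    ∃ g, IsMap F (centralizerIn S (zpowers x)) g ∧ g x ∈ (S ⊓ Subgroup.centralizer (S : Set Ω)) := by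
  obtain ⟨z, hz, φ, hφ, hφx⟩ := h x hx
  have hf := isMap_toFun hφ
  have he : toFun φ x = z := (toFun_apply φ (mem_zpowers x)).trans hφx
  obtain ⟨g, hg, hgx⟩ := exists_ext hS hF hf (mem_zpowers x) (he ▸ hz)
  exact ⟨g, hg, hgx.trans he ▸ hz⟩

theorem mem_cz {x y : Ω} (hy : y ∈ S) (hc : Commute y x) : y ∈ centralizerIn S (zpowers x) := by
  refine ⟨hy, mem_centralizer_iff.2 ?_⟩
  rintro _ ⟨k, rfl⟩
  exact (hc.zpow_right k).eq.symm

/-- No element of order above two is inverted in `S`. -/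
theorem real_sq {x y : Ω} (hx : x ∈ S) (hy : y ∈ S) (hinv : y * x * y⁻¹ = x⁻¹) : x ^ 2 = 1 := by
  obtain ⟨f, hf, hfx⟩ := exists_center_map hS hF h hx
  have hxC : x ∈ centralizerIn S (zpowers x) := mem_cz hS hF h hx (Commute.refl x)
  have hxP := (zpowers_le).2 hxC
  obtain ⟨f', hf', h1, h2⟩ := (hf.mono hxP).exists_inv
  have hzI : f x ∈ img (zpowers x) f := (hf.mono hxP).mem_img.2 ⟨x, mem_zpowers x, rfl⟩
  have hc := isMap_conj (F := F) (zpowers_le.2 hx) hy
  have hcm : ∀ v ∈ zpowers x, y * v * y⁻¹ ∈ zpowers x := by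
    rintro _ ⟨k, rfl⟩
    refine ⟨-k, ?_⟩
    show x ^ (-k) = y * x ^ k * y⁻¹
    rw [← conj_zpow, hinv, zpow_neg, inv_zpow]
  have hcomp := (hf'.comp hc fun v hv => (h2 v hv).1).comp (hf.mono hxP)
    fun v hv => hcm _ (h2 v hv).1
  have he : (f ∘ ((fun v => y * v * y⁻¹) ∘ f')) (f x) = (f x)⁻¹ := by
    show f (y * f' (f x) * y⁻¹) = _
    rw [h1 x (mem_zpowers x), hinv, hf.map_inv hxC]
  obtain ⟨g, hg, hgx⟩ := exists_ext hS hF hcomp hzI
    (he ▸ (inv_mem hfx : (f x)⁻¹ ∈ (S ⊓ Subgroup.centralizer (S : Set Ω))))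
  rw [centralizerIn_eq_self hfx] at hg
  have h3 := sq_eq_one_of_map_inv hS hF hg hfx (hgx.trans he)
  refine hf.inj (pow_mem hxC 2) (one_mem _) ?_
  rw [hf.map_one, pow_two, hf.map_mul hxC hxC, ← pow_two]
  exact h3

theorem invol_commute {t u : Ω} (ht : t ∈ S) (hu : u ∈ S) (ht2 : t * t = 1) (hu2 : u * u = 1) :
    Commute t u := by
  have ht' : t⁻¹ = t := inv_eq_of_mul_eq_one_right ht2
  have hu' : u⁻¹ = u := inv_eq_of_mul_eq_one_right hu2
  have h1 := real_sq hS hF h (mul_mem ht hu) ht (by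
    rw [mul_inv_rev, ht', hu', ← mul_assoc t t u, ht2, one_mul])
  rw [pow_two] at h1
  have h2 := eq_inv_of_mul_eq_one_left h1
  rw [mul_inv_rev, ht', hu'] at h2
  exact h2

/-- An element with central square is a central element times an involution. -/
theorem split_of_sq_center {y : Ω} (hy : y ∈ S) (hyy : y * y ∈ (S ⊓ Subgroup.centralizer (S : Set Ω))) :
    ∃ w t : Ω, w ∈ (S ⊓ Subgroup.centralizer (S : Set Ω)) ∧ t ∈ S ∧ t * t = 1 ∧ y = w * t := by
  obtain ⟨f, hf, hfy⟩ := exists_center_map hS hF h hy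
  have hyC : y ∈ centralizerIn S (zpowers y) := mem_cz hS hF h hy (Commute.refl y)
  have hyyC : y * y ∈ centralizerIn S (zpowers y) := mul_mem hyC hyC
  obtain ⟨g, hg, hgy⟩ := exists_ext hS hF hf hyyC
    (hf.map_mul hyC hyC ▸ (mul_mem hfy hfy : f y * f y ∈ (S ⊓ Subgroup.centralizer (S : Set Ω))))
  rw [centralizerIn_eq_self hyy] at hg
  have himg : img S g = S := eq_of_le_of_card_le le_rfl hg.img_le (le_of_eq hg.card_img.symm)
  obtain ⟨w, hw, hgw⟩ := hg.mem_img.1 (himg.ge hfy.1)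
  have hwZ : w ∈ (S ⊓ Subgroup.centralizer (S : Set Ω)) := ⟨hw, mem_centralizer_iff.2 fun s hs => hg.inj (mul_mem hs hw) (mul_mem hw hs)
    (by
      rw [hg.map_mul hs hw, hg.map_mul hw hs, hgw]
      exact mem_centralizer_iff.1 hfy.2 _ (hg.mem_S hs))⟩
  have hww : w * w = y * y := by
    refine hg.inj (mul_mem hw hw) (mul_mem hy hy) ?_
    rw [hg.map_mul hw hw, hgw, hgy, hf.map_mul hyC hyC]
  have hcy : Commute y w⁻¹ :=
    (show Commute y w from mem_centralizer_iff.1 hwZ.2 y hy).inv_right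
  refine ⟨w, w⁻¹ * y, hwZ, mul_mem (inv_mem hw) hy, ?_, (mul_inv_cancel_left w y).symm⟩
  calc w⁻¹ * y * (w⁻¹ * y) = w⁻¹ * (y * w⁻¹) * y := by group
    _ = w⁻¹ * w⁻¹ * (y * y) := by rw [hcy.eq]; group
    _ = 1 := by rw [← hww]; group

/-- Every element centralizes every involution. -/
theorem commute_invol : ∀ (n : ℕ) (y : Ω), y ∈ S → y ^ (2 ^ n) = 1 →
    ∀ t ∈ S, t * t = 1 → Commute y t := by
  intro n
  induction n with
  | zero => intro y _ h1 t _ _; rw [pow_zero, pow_one] at h1; rw [h1]; exact Commute.one_left t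
  | succ n ih =>
    intro y hy h1 t ht ht2
    have h1' : (y * y) ^ (2 ^ n) = 1 := by
      rw [← pow_two, ← pow_mul, ← pow_succ']; exact h1
    have hst := ih (y * y) (mul_mem hy hy) h1' t ht ht2
    obtain ⟨f, hf, hfs⟩ := exists_center_map hS hF h (mul_mem hy hy)
    have hyC : y ∈ centralizerIn S (zpowers (y * y)) :=
      mem_cz hS hF h hy ((Commute.refl y).mul_right (Commute.refl y))
    have htC : t ∈ centralizerIn S (zpowers (y * y)) := mem_cz hS hF h ht hst.symm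
    rw [hf.map_mul hyC hyC] at hfs
    obtain ⟨w, u, hw, hu, hu2, hfy⟩ := split_of_sq_center hS hF h (hf.mem_S hyC) hfs
    have hft2 : f t * f t = 1 := by rw [← hf.map_mul htC htC, ht2, hf.map_one]
    have hc : Commute (f y) (f t) := by
      rw [hfy]
      exact Commute.mul_left (mem_centralizer_iff.1 hw.2 _ (hf.mem_S htC) : _ = _).symm
        (invol_commute hS hF h hu (hf.mem_S htC) hu2 hft2)
    refine hf.inj (mul_mem hyC htC) (mul_mem htC hyC) ?_
    rw [hf.map_mul hyC htC, hf.map_mul htC hyC, hc.eq]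

theorem mem_center_of_pow : ∀ (n : ℕ) (y : Ω), y ∈ S → y ^ (2 ^ n) = 1 → y ∈ (S ⊓ Subgroup.centralizer (S : Set Ω)) := by
  intro n
  induction n with
  | zero => intro y _ h1; rw [pow_zero, pow_one] at h1; rw [h1]; exact one_mem _
  | succ n ih =>
    intro y hy h1
    have h1' : (y * y) ^ (2 ^ n) = 1 := by
      rw [← pow_two, ← pow_mul, ← pow_succ']; exact h1
    obtain ⟨w, t, hw, ht, ht2, rfl⟩ := split_of_sq_center hS hF h hy (ih _ (mul_mem hy hy) h1')
    refine mul_mem hw ⟨ht, mem_centralizer_iff.2 fun s hs => ?_⟩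
    obtain ⟨k, hk⟩ := hS ⟨s, hs⟩
    exact (commute_invol hS hF h k s hs (congrArg Subtype.val hk) t ht ht2).eq

end main

/-- Let F be a saturated fusion system over a finite 2-group S. Suppose that every element of S is F-conjugate to an element of the centre Z(S) (some map of F defined on the cyclic subgroup it generates sends it into Z(S)). Then S is abelian. -/
theorem result {Ω : Type*} [Group Ω] {S : Subgroup Ω} [Finite S] (hS : IsPGroup 2 ↥S) (F : Cfsg.FusionSystem S) (hF : F.IsSaturated 2) (h : ∀ x ∈ S, ∃ z ∈ S ⊓ Subgroup.centralizer (S : Set Ω), F.IsConjElt x z) : IsMulCommutative ↥S := by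
  refine ⟨⟨fun a b => Subtype.ext ?_⟩⟩
  obtain ⟨k, hk⟩ := hS b
  exact Subgroup.mem_centralizer_iff.1
    (mem_center_of_pow hS hF h k b b.2 (congrArg Subtype.val hk)).2 a a.2

end Cfsg.Agent.S5274
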