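import Cfsg.Statements.S5276
import Cfsg.Agent.Lib.Fusion.System.TateHyperfocal

set_option autoImplicit false
open Cfsg

namespace Cfsg.Agent.S5276

/-- Let p be a prime and F a saturated fusion system over a finite p-group S. Then F is the inner fusion system of S if and only if the normalizer fusion system of S itself in F is the inner fusion system (equivalently, Aut_F(S) is induced by S) and the Frattini subgroup Φ(S) is strongly closed in F. -/
theorem result {Ω : Type*} [Group Ω] {S : Subgroup Ω} [Finite S] (p : ℕ) [Fact p.Prime] (hS : IsPGroup p ↥S) (F : Cfsg.FusionSystem S) (hF : F.IsSaturated p) : (∀ P : Subgroup Ω, F.Hom P = (Cfsg.innerFusionSystem S).Hom P) ↔ (∀ N : Cfsg.FusionSystem (Cfsg.FusionSystem.normalizerIn S S), F.IsNormalizerSystem S N → ∀ P : Subgroup Ω, N.Hom P = (Cfsg.innerFusionSystem (Cfsg.FusionSystem.normalizerIn S S)).Hom P) ∧ F.StronglyClosed ((frattini ↥S).map S.subtype) := by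
  constructor
  · intro h
    have hin := CfsgLib.Fusion.isInner_iff.2 h
    refine ⟨(CfsgLib.Fusion.ninner_iff le_rfl).1 (CfsgLib.Fusion.ninner_of_isInner hin),
      CfsgLib.Fusion.stronglyClosed_iff.2 ⟨Subgroup.map_subtype_le _, fun R f hR hf x hx => ?_⟩⟩
    obtain ⟨s, hs, he⟩ := hin R f hf
    rw [he x hx]
    obtain ⟨y, hy, rfl⟩ := hR hx
    exact ⟨⟨s, hs⟩ * y * ⟨s, hs⟩⁻¹,
      (inferInstance : (frattini ↥S).Normal).conj_mem y hy _, rfl⟩
  · rintro ⟨hN, hsc⟩
    refine CfsgLib.Fusion.isInner_iff.1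
      (CfsgLib.Fusion.isInner_of_frattini_stronglyClosed hS hF ?_ hsc)
    exact (CfsgLib.Fusion.isPGroup_autInducedBy hS).to_le
      (CfsgLib.Fusion.autGroup_le_autInducedBy_of_ninner le_rfl
        ((CfsgLib.Fusion.ninner_iff le_rfl).2 hN))

end Cfsg.Agent.S5276
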