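import Cfsg.Statements.S5278
import Cfsg.Agent.Lib.Fusion.System.WeakClosureJ
-- import your own Cfsg.Agent.* helpers here

set_option autoImplicit false
open Cfsg
open Cfsg.FusionSystem (normalizerIn centralizerIn)
open CfsgLib.Fusion

namespace Cfsg.Agent.S5278

/-- Let p be an odd prime, F a saturated fusion system over a finite p-group S, and T a subgroup of Z(S) such that the normalizer fusion system of J(S) in F is contained in the normalizer fusion system of T, J(S) being the subgroup generated by the abelian subgroups of S of largest order. Then either T is weakly closed in F, or Aut_F(T) has a nontrivial cyclic subgroup X of order prime to p that permutes transitively the non-identity elements of the commutator [T, X] (the subgroup of T generated by the elements ψ(t)·t⁻¹ with ψ in X and t in T). -/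
theorem result {Ω : Type*} [Group Ω] {S : Subgroup Ω} [Finite S] (p : ℕ) [Fact p.Prime] (hS : IsPGroup p ↥S) (F : Cfsg.FusionSystem S) (hF : F.IsSaturated p) (hp : p ≠ 2) (T : Subgroup Ω) (hT : T ≤ S ⊓ Subgroup.centralizer (S : Set Ω)) (hJT : ∀ NJ : Cfsg.FusionSystem (Cfsg.FusionSystem.normalizerIn S (Cfsg.thompsonSubgroupAOf S)), F.IsNormalizerSystem (Cfsg.thompsonSubgroupAOf S) NJ → ∀ NT : Cfsg.FusionSystem (Cfsg.FusionSystem.normalizerIn S T), F.IsNormalizerSystem T NT → NJ.IsSubsystemOf NT) : F.WeaklyClosed T ∨ ∃ X : Subgroup (MulAut ↥T), X ≤ F.autGroup T ∧ X ≠ ⊥ ∧ IsCyclic ↥X ∧ (Nat.card ↥X).Coprime p ∧ ∀ a b : ↥T, a ∈ Subgroup.closure {y : ↥T | ∃ ψ ∈ X, ∃ t : ↥T, y = ψ t * t⁻¹} → b ∈ Subgroup.closure {y : ↥T | ∃ ψ ∈ X, ∃ t : ↥T, y = ψ t * t⁻¹} → a ≠ 1 → b ≠ 1 → ∃ ψ ∈ X, ψ a = b := by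
  by_cases hw : F.WeaklyClosed T
  · exact Or.inl hw
  refine Or.inr (WeakJ.exists_torus_of_not_weaklyClosed hS hF hp hT (fun f hf himg => ?_) hw)
  set J := Cfsg.thompsonSubgroupAOf S with hJ
  have hTS : T ≤ S := hT.trans inf_le_left
  have hJS : J ≤ S := thompsonA_le_self S
  have hTJ : T ≤ J := hT.trans (center_le_thompsonA S)
  have hNJ : F.IsNormalizerSystem J (nSystem F (normalizerIn S J) J le_rfl hJS) := fun P => Set.ext fun φ => by
    rw [mem_normalizerHom_iff]; exact Iff.rfl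
  have hNT : F.IsNormalizerSystem T (nSystem F (normalizerIn S T) T le_rfl hTS) := fun P => Set.ext fun φ => by
    rw [mem_normalizerHom_iff]; exact Iff.rfl
  have hfJ : IsMap (nSystem F (normalizerIn S J) J le_rfl hJS) J f :=
    isMap_nSystem_iff.2 ⟨le_normalizerIn hJS,
      fun x hx => le_normalizerIn hJS (mem_of_img_eq hf le_rfl himg hx), f, by rwa [sup_idem],
      fun _ _ => rfl, himg⟩
  obtain ⟨φ, hφ, hφf⟩ := hfJ
  obtain ⟨-, -, k, -, hkf, hkT⟩ := isMap_nSystem_iff.1 (⟨φ, hJT _ hNJ _ hNT J hφ, hφf⟩ :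
    IsMap (nSystem F (normalizerIn S T) T le_rfl hTS) J f)
  rw [IsMap.img_congr fun x hx => (hkf x (hTJ hx)).symm, hkT]

end Cfsg.Agent.S5278
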