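import Cfsg.Statements.S5284
import Cfsg.Agent.Lib.Fusion.System.AbelianSupersoluble
import Cfsg.Agent.Lib.Fusion.System.AutSystem
import Cfsg.Agent.Lib.Fusion.System.AbelianSimple

set_option autoImplicit false
open Cfsg

namespace Cfsg.Agent.S5284

/-- Let S be a finite abelian p-group. Every saturated fusion system over S is supersoluble (S has a chain of F-strongly closed subgroups from 1 to S with cyclic steps) if and only if the invariants of S are pairwise distinct, that is, S is not isomorphic to a direct product (Z/p^n × Z/p^n) × H with n ≥ 1. -/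
theorem result {Ω : Type*} [Group Ω] {S : Subgroup Ω} [Finite S] (p : ℕ) [Fact p.Prime] (hS : IsPGroup p ↥S) (hab : IsMulCommutative ↥S) : (∀ F : Cfsg.FusionSystem S, F.IsSaturated p → (∃ (m : ℕ) (c : Fin (m + 1) → Subgroup Ω), c 0 = ⊥ ∧ c (Fin.last m) = S ∧ (∀ i : Fin (m + 1), F.StronglyClosed (c i)) ∧ ∀ i : Fin m, c i.castSucc ≤ c i.succ ∧ ∃ x ∈ S, c i.succ = c i.castSucc ⊔ Subgroup.zpowers x)) ↔ ¬ ∃ (n : ℕ) (H : Type) (_ : CommGroup H), 0 < n ∧ Nonempty (↥S ≃* (Multiplicative (ZMod (p ^ n)) × Multiplicative (ZMod (p ^ n))) × H) := by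
  classical
  open scoped IsMulCommutative in
  haveI := hab
  have hc : ∀ x ∈ S, ∀ y ∈ S, x * y = y * x := fun x hx y hy =>
    congrArg Subtype.val (mul_comm' (⟨x, hx⟩ : S) ⟨y, hy⟩)
  constructor
  · intro h
    rintro ⟨n, H, _, hn, ⟨e⟩⟩
    have hp := (Fact.out : p.Prime)
    open scoped IsMulCommutative in
    obtain ⟨γ, hγ, hγ2, hline⟩ := CfsgLib.Fusion.AbelianSupersoluble.exists_twist hn e
    have hγu : γ ∈ (CfsgLib.Fusion.AbelianSupersoluble.univSystem S).autGroup S := by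
      refine (CfsgLib.Fusion.mem_autGroup_iff le_rfl).2 ⟨S.subtype.comp γ.toMonoidHom,
        ⟨le_rfl, fun x => SetLike.coe_mem _, fun a b hab' => γ.injective (Subtype.ext hab')⟩, fun x => ?_⟩
      rw [CfsgLib.Fusion.autFun_coe]
      rfl
    obtain ⟨E, hEsat, -, hEA, -⟩ := CfsgLib.Fusion.AutSystem.exists_autSystem hS le_rfl (Subgroup.zpowers γ)
      (Subgroup.zpowers_le.2 hγu) (by rw [Nat.card_zpowers]; exact hγ)
    have hγm := (CfsgLib.Fusion.mem_autGroup_iff le_rfl).1 (hEA (Subgroup.mem_zpowers γ))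
    obtain ⟨m, c, hc0, hcm, hsc, hstep⟩ := h E hEsat
    let c' : Fin (m + 1) → Subgroup S := fun i => (c i).subgroupOf S
    open scoped IsMulCommutative in
    let V : Subgroup S :=
      { carrier := {v | v ^ p = 1 ∧ (e v).2 = 1}
        one_mem' := ⟨one_pow p, by rw [map_one, Prod.snd_one]⟩
        mul_mem' := fun {a b} ha hb => ⟨by rw [mul_pow, ha.1, hb.1, one_mul], by
          rw [map_mul, Prod.snd_mul, ha.2, hb.2, one_mul]⟩
        inv_mem' := fun {a} ha => ⟨by rw [inv_pow, ha.1, inv_one], by rw [map_inv, Prod.snd_inv, ha.2, inv_one]⟩ }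
    have hVne : V ≠ ⊥ := by
      intro hV
      obtain ⟨t, ht⟩ : ∃ t : Multiplicative (ZMod (p ^ n)), t = Multiplicative.ofAdd ((p ^ (n - 1) : ℕ) : ZMod (p ^ n)) :=
        ⟨_, rfl⟩
      have ht1 : t ≠ 1 := by
        rw [ht, Ne, ofAdd_eq_one, ZMod.natCast_eq_zero_iff]
        intro hd
        have h1 := (Nat.pow_dvd_pow_iff_le_right hp.one_lt).1 hd
        omega
      have htp : t ^ p = 1 := by
        rw [ht, ← ofAdd_nsmul, ofAdd_eq_one, nsmul_eq_mul, ← Nat.cast_mul, ZMod.natCast_eq_zero_iff, ← pow_succ',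
          show n - 1 + 1 = n by omega]
      have hmem : e.symm ((t, 1), 1) ∈ V := ⟨by rw [← map_pow, Prod.pow_mk, Prod.pow_mk, htp, one_pow, one_pow,
        Prod.mk_one_one, Prod.mk_one_one, map_one], by rw [MulEquiv.apply_symm_apply]⟩
      rw [hV, Subgroup.mem_bot, MulEquiv.map_eq_one_iff] at hmem
      exact ht1 (congrArg (fun q => Prod.fst (Prod.fst q)) hmem)
    -- the first step meeting `V`
    obtain ⟨i, hi1, hi2⟩ : ∃ i : Fin m, c' i.castSucc ⊓ V = ⊥ ∧ c' i.succ ⊓ V ≠ ⊥ := by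
      by_contra hcon
      push Not at hcon
      have hall : ∀ i, c' i ⊓ V = ⊥ := fun i => by
        induction i using Fin.induction with
        | zero => rw [eq_bot_iff]; rintro x ⟨hx, -⟩; exact Subtype.ext (Subgroup.mem_bot.1 (hc0 ▸ hx : (x : Ω) ∈ (⊥ : Subgroup Ω)))
        | succ i ih => exact hcon i ih
      refine hVne ?_
      rw [← hall (Fin.last m)]
      refine (inf_eq_right.2 ?_).symm
      intro v _
      show (v : Ω) ∈ c (Fin.last m)
      rw [hcm]
      exact v.2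
    set W := c' i.succ ⊓ V
    obtain ⟨hle, x, hxS, hx⟩ := hstep i
    open scoped IsMulCommutative in
    let π : S →* S ⧸ c' i.castSucc := QuotientGroup.mk' _
    haveI hcycW : IsCyclic W := by
      open scoped IsMulCommutative in
      let f : W →* Subgroup.zpowers (π ⟨x, hxS⟩) := (π.comp W.subtype).codRestrict _ fun w => by
        have hw : ((w : S) : Ω) ∈ c i.succ := w.2.1
        have hle' : (c i.castSucc ⊔ Subgroup.zpowers x) ≤ ((Subgroup.zpowers (π ⟨x, hxS⟩)).comap π).map S.subtype := by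
          refine sup_le (fun z hz => ⟨⟨z, (hsc _).1 hz⟩, ?_, rfl⟩) (Subgroup.zpowers_le.2 ⟨⟨x, hxS⟩, ?_, rfl⟩)
          · show π ⟨z, (hsc _).1 hz⟩ ∈ Subgroup.zpowers (π ⟨x, hxS⟩)
            rw [show π ⟨z, (hsc _).1 hz⟩ = 1 from (QuotientGroup.eq_one_iff _).2 hz]
            exact one_mem _
          · exact Subgroup.mem_zpowers _
        obtain ⟨s, hs, hse⟩ := hle' (hx ▸ hw)
        show π (w : S) ∈ Subgroup.zpowers (π ⟨x, hxS⟩)
        rw [show (w : S) = s from Subtype.ext hse.symm]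
        exact hs
      refine isCyclic_of_injective f ((injective_iff_map_eq_one f).2 fun w hw => ?_)
      have h1 : (w : S) ∈ c' i.castSucc ⊓ V := ⟨(QuotientGroup.eq_one_iff _).1 (congrArg Subtype.val hw), w.2.2⟩
      rw [hi1, Subgroup.mem_bot] at h1
      exact Subtype.ext h1
    obtain ⟨w, hw⟩ := IsCyclic.exists_generator (α := W)
    have hγW : γ w ∈ W := by
      refine ⟨?_, ⟨?_, ?_⟩⟩
      · have h1 := (CfsgLib.Fusion.stronglyClosed_iff.1 (hsc i.succ)).2 _ _ le_rfl (hγm.mono (hsc i.succ).1) _ w.2.1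
        replace h1 : CfsgLib.Fusion.autFun γ (((w : S)) : Ω) ∈ c i.succ := h1
        rw [CfsgLib.Fusion.autFun_coe] at h1
        exact h1
      · rw [← map_pow, w.2.2.1, map_one]
      · rw [hγ2, w.2.2.2]
    obtain ⟨z, hz⟩ := Subgroup.mem_zpowers_iff.1 (hw ⟨γ w, hγW⟩)
    have hw1 := hline (w : S) w.2.2.1 w.2.2.2 (Subgroup.mem_zpowers_iff.2 ⟨z, by
      have h1 := congrArg Subtype.val hz
      simpa using h1⟩)
    refine hi2 ((Subgroup.eq_bot_iff_forall _).2 fun v hv => ?_)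
    obtain ⟨k, hk⟩ := Subgroup.mem_zpowers_iff.1 (hw ⟨v, hv⟩)
    have h2 := congrArg Subtype.val hk
    rw [SubgroupClass.coe_zpow, hw1, one_zpow] at h2
    exact h2.symm
  · intro hrep F hF
    open scoped IsMulCommutative in
    obtain ⟨m, c, hc0, hcm, hinv, hstep⟩ := CfsgLib.Fusion.AbelianSupersoluble.exists_chain hS hrep
    refine ⟨m, fun i => (c i).map S.subtype, by show (c 0).map S.subtype = ⊥; rw [hc0, Subgroup.map_bot],
      by show (c (Fin.last m)).map S.subtype = S; rw [hcm, ← MonoidHom.range_eq_map, Subgroup.range_subtype], fun i => ?_, fun i => ?_⟩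
    · refine CfsgLib.Fusion.stronglyClosed_iff.2 ⟨Subgroup.map_subtype_le _, fun R f hR hf x hx => ?_⟩
      obtain ⟨g, hg, hgf, hgS⟩ :=
        (CfsgLib.Fusion.isNormal_iff.1 (CfsgLib.Fusion.abelian_isNormal_self hS hF hc)).2 R f hf
      have hgS' := hg.mono (le_sup_right : S ≤ R ⊔ S)
      obtain ⟨s, hs, hsx⟩ := hR hx
      refine ⟨CfsgLib.Fusion.autOf hgS' hgS s, ?_, ?_⟩
      · open scoped IsMulCommutative in
        exact hinv i (CfsgLib.Fusion.autOf hgS' hgS).toMonoidHom s hs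
      · show ((CfsgLib.Fusion.autOf hgS' hgS s : S) : Ω) = f x
        rw [← CfsgLib.Fusion.autFun_coe, CfsgLib.Fusion.autFun_autOf hgS' hgS s.2, ← hgf x hx, ← hsx]
        rfl
    · obtain ⟨hle, x, hx⟩ := hstep i
      exact ⟨Subgroup.map_mono hle, x, x.2, by
        show (c i.succ).map S.subtype = (c i.castSucc).map S.subtype ⊔ _
        rw [hx, Subgroup.map_sup, MonoidHom.map_zpowers]; rfl⟩

end Cfsg.Agent.S5284
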