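import Cfsg.Statements.S5287
import Cfsg.Agent.S5283
import Cfsg.Agent.S5284
import Cfsg.Agent.Lib.PGroup.MetacyclicOddLine
import Cfsg.Agent.Lib.Fusion.System.MetacyclicTwoNormal
import Cfsg.Agent.Lib.Fusion.System.Metacyclic
import Cfsg.Agent.Lib.Fusion.System.MaxClassWitness
-- import your own Cfsg.Agent.* helpers here

set_option autoImplicit false
open Cfsg

namespace Cfsg.Agent.S5287

/-- Let S be a finite metacyclic p-group (an extension of a cyclic group by a cyclic group). Every saturated fusion system over S is supersoluble (S has a chain of F-strongly closed subgroups from 1 to S with cyclic steps) if and only if S is not homocyclic of rank two (isomorphic to Z/p^n × Z/p^n with n ≥ 1) and, when p = 2, S is not dihedral of order at least 4, not quasi-dihedral (semidihedral) and not generalized quaternion of order at least 8. -/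
theorem result {Ω : Type*} [Group Ω] {S : Subgroup Ω} [Finite S] (p : ℕ) [Fact p.Prime] (hS : IsPGroup p ↥S) (hm : Cfsg.IsMetacyclic ↥S) : (∀ F : Cfsg.FusionSystem S, F.IsSaturated p → (∃ (m : ℕ) (c : Fin (m + 1) → Subgroup Ω), c 0 = ⊥ ∧ c (Fin.last m) = S ∧ (∀ i : Fin (m + 1), F.StronglyClosed (c i)) ∧ ∀ i : Fin m, c i.castSucc ≤ c i.succ ∧ ∃ x ∈ S, c i.succ = c i.castSucc ⊔ Subgroup.zpowers x)) ↔ ¬ ((∃ n : ℕ, 0 < n ∧ Nonempty (↥S ≃* Multiplicative (ZMod (p ^ n)) × Multiplicative (ZMod (p ^ n)))) ∨ (p = 2 ∧ ((∃ n : ℕ, 2 ≤ n ∧ Nonempty (↥S ≃* DihedralGroup n)) ∨ Cfsg.IsQuasiDihedral ↥S ∨ (∃ n : ℕ, 2 ≤ n ∧ Nonempty (↥S ≃* QuaternionGroup n))))) := by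
  classical
  have hp := (Fact.out : p.Prime)
  haveI hfinA : Finite (MulAut S) := CfsgLib.Fusion.finite_mulAut
  constructor
  · intro h hex
    obtain ⟨hnorm, hH⟩ := (Cfsg.Agent.S5283.result p hS).1 h
    rcases hex with ⟨n, hn, ⟨e⟩⟩ | ⟨rfl, hcases⟩
    · have hab : IsMulCommutative S := ⟨⟨fun a b => e.injective (by
        rw [map_mul, map_mul, mul_comm])⟩⟩
      exact (Cfsg.Agent.S5284.result p hS hab).1 h ⟨n, PUnit, inferInstance, hn,
        ⟨e.trans MulEquiv.prodUnique.symm⟩⟩
    · -- every saturated system over `S` is inner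
      have hA : IsPGroup 2 (MulAut S) := by
        by_contra hA
        obtain ⟨q, σ, hq, hq2, hσ⟩ := CfsgLib.PGroup.MetaTwo.exists_odd_aut hA
        have h1 := (hH (Subgroup.zpowers σ) (by
          rw [Nat.card_zpowers, hσ]
          exact (Nat.coprime_primes hq Nat.prime_two).2 hq2)).2 σ (Subgroup.mem_zpowers σ)
        rw [show (2 - 1) = 1 from rfl, pow_one] at h1
        rw [h1, orderOf_one] at hσ
        exact hq.ne_one hσ.symm
      have hinner : ∀ F : Cfsg.FusionSystem S, F.IsSaturated 2 → CfsgLib.Fusion.IsInner F := by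
        intro F hF
        refine CfsgLib.Fusion.isInner_of_aut_isPGroup hS hF (hA.to_subgroup _) fun R hR => ?_
        rw [le_antisymm hR.1.1 (CfsgLib.Fusion.le_of_isNormal hS (hnorm F hF) hR.1
          (CfsgLib.Fusion.isEssential_centric_radical hS hR).2)]
        exact hA.to_subgroup _
      obtain ⟨G, _, _, T, hG, ⟨e⟩⟩ : ∃ (G : Type) (_ : Group G) (_ : Finite G) (T : Sylow 2 G),
          ¬ Cfsg.HasNormalPComplement 2 G ∧ Nonempty (S ≃* (T : Subgroup G)) := by
        rcases hcases with ⟨n, hn, ⟨e⟩⟩ | hqd | ⟨n, hn, ⟨e⟩⟩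
        · exact CfsgLib.Fusion.MaxClassWitness.exists_group_dihedral hS hn e
        · exact CfsgLib.Fusion.MaxClassWitness.exists_group_quasidihedral hqd
        · exact CfsgLib.Fusion.MaxClassWitness.exists_group_quaternion hS hn e
      obtain ⟨F, hF, hne⟩ := CfsgLib.Fusion.MaxClassWitness.exists_not_inner hS T e hG
      exact hne (hinner F hF)
  · intro hnot
    by_cases hab : IsMulCommutative S
    · refine (Cfsg.Agent.S5284.result p hS hab).2 ?_
      rintro ⟨n, H, instH, hn, ⟨e⟩⟩
      refine hnot (Or.inl ⟨n, hn, ?_⟩)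
      haveI : Finite H := Finite.of_injective (fun h : H => e.symm (1, h)) fun a b hab' => by
        simpa using e.symm.injective hab'
      rcases subsingleton_or_nontrivial H with hH | hH
      · haveI : Unique H := uniqueOfSubsingleton 1
        exact ⟨e.trans MulEquiv.prodUnique⟩
      exfalso
      -- three independent elements of order `p`
      obtain ⟨x, hx⟩ := exists_ne (1 : H)
      have hHp : IsPGroup p H := fun y => by
        obtain ⟨k, hk⟩ := hS (e.symm (1, y))
        refine ⟨k, ?_⟩
        rw [← map_pow, MulEquiv.map_eq_one_iff] at hk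
        exact congrArg Prod.snd hk
      obtain ⟨k, hk⟩ := hHp.exists_card_eq
      obtain ⟨y, hy⟩ := exists_prime_orderOf_dvd_card' (G := H) p (by
        rw [hk]
        refine dvd_pow_self p fun h0 => ?_
        rw [h0, pow_zero] at hk
        exact hx (((Nat.card_eq_one_iff_unique.1 hk).1).elim x 1))
      haveI : NeZero (p ^ n) := ⟨pow_ne_zero _ hp.ne_zero⟩
      obtain ⟨t, ht⟩ := exists_prime_orderOf_dvd_card' (G := Multiplicative (ZMod (p ^ n))) p (by
        rw [show Nat.card (Multiplicative (ZMod (p ^ n))) = p ^ n by simp]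
        exact dvd_pow_self p hn.ne')
      set K := ((Subgroup.zpowers t).prod (Subgroup.zpowers t)).prod (Subgroup.zpowers y) with hK
      have hcard : Nat.card K = p ^ 3 := by
        rw [hK, Nat.card_congr (Subgroup.prodEquiv _ _).toEquiv, Nat.card_prod,
          Nat.card_congr (Subgroup.prodEquiv _ _).toEquiv, Nat.card_prod, Nat.card_zpowers,
          Nat.card_zpowers, ht, hy]
        ring
      have hz : ∀ {M : Type} [Group M] (m : M), orderOf m = p → ∀ w ∈ Subgroup.zpowers m, w ^ p = 1 := by
        intro M _ m hm w hw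
        exact orderOf_dvd_iff_pow_eq_one.1 (hm ▸ orderOf_dvd_of_mem_zpowers hw)
      have hle := CfsgLib.RankTwoThree.card_le_of_metacyclic (p := p) hm (K.map e.symm.toMonoidHom) (by
        rintro _ ⟨⟨⟨a, b⟩, c⟩, ⟨⟨ha, hb⟩, hc⟩, rfl⟩
        rw [← map_pow, Prod.pow_mk, Prod.pow_mk, hz t ht a ha, hz t ht b hb, hz y hy c hc]
        exact map_one e.symm.toMonoidHom)
      rw [Subgroup.card_map_of_injective e.symm.injective, hcard] at hle
      exact absurd ((Nat.pow_le_pow_iff_right hp.one_lt).1 hle) (by norm_num)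
    refine (Cfsg.Agent.S5283.result p hS).2 ?_
    by_cases hp2 : p = 2
    · subst hp2
      have hd : ¬ ∃ m : ℕ, Nonempty (S ≃* DihedralGroup m) := by
        rintro ⟨m, ⟨e⟩⟩
        rcases (show m = 0 ∨ m = 1 ∨ 2 ≤ m by omega) with rfl | rfl | h2
        · haveI : Finite (DihedralGroup 0) := Finite.of_equiv _ e.toEquiv
          have := Finite.of_injective (fun i : ZMod 0 => DihedralGroup.r i) fun a b h => by simpa using h
          exact (Int.infinite.not_finite : ¬ Finite ℤ) this
        · exact hab ⟨⟨fun a b => e.injective (by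
            rw [map_mul, map_mul]
            generalize e a = x
            generalize e b = y
            revert x y
            decide)⟩⟩
        · exact hnot (Or.inr ⟨rfl, Or.inl ⟨m, h2, ⟨e⟩⟩⟩)
      have hq : ¬ ∃ m : ℕ, Nonempty (S ≃* QuaternionGroup m) := by
        rintro ⟨m, ⟨e⟩⟩
        rcases (show m = 0 ∨ m = 1 ∨ 2 ≤ m by omega) with rfl | rfl | h2
        · haveI : Finite (QuaternionGroup 0) := Finite.of_equiv _ e.toEquiv
          have := Finite.of_injective (fun i : ZMod (2 * 0) => QuaternionGroup.a i) fun a b h => by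
            simpa using h
          exact (Int.infinite.not_finite : ¬ Finite ℤ) this
        · exact hab ⟨⟨fun a b => e.injective (by
            rw [map_mul, map_mul]
            generalize e a = x
            generalize e b = y
            revert x y
            decide)⟩⟩
        · exact hnot (Or.inr ⟨rfl, Or.inr (Or.inr ⟨m, h2, ⟨e⟩⟩)⟩)
      have hsd : ¬ Cfsg.IsQuasiDihedral S := fun h => hnot (Or.inr ⟨rfl, Or.inr (Or.inl h)⟩)
      have hA : IsPGroup 2 (MulAut S) := by
        by_contra hA
        rcases CfsgLib.PGroup.MetaTwo.homocyclic_or_quaternion hS hm hA with h | ⟨n, hn, h⟩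
        · exact hq ⟨2, h⟩
        · exact hnot (Or.inl ⟨n, hn, h⟩)
      refine ⟨fun F hF => CfsgLib.Fusion.MetaTwo.isNormal_metacyclic_two hS hF
        CfsgLib.Fusion.stronglyClosed_self hm hd hq hsd, fun H hH => ?_⟩
      obtain ⟨k, hk⟩ := (hA.to_subgroup H).exists_card_eq
      rw [hk] at hH
      have hk0 : k = 0 := by
        by_contra h0
        exact Nat.prime_two.ne_one ((Nat.Coprime.coprime_dvd_left (dvd_pow_self 2 h0) hH).eq_one_of_dvd
          dvd_rfl)
      rw [hk0, pow_zero] at hk
      have hbot : H = ⊥ := Subgroup.eq_bot_of_card_eq H hk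
      subst hbot
      exact ⟨inferInstance, fun h hh => by rw [Subgroup.mem_bot.1 hh, one_pow]⟩
    · obtain ⟨N, hN, hNc, hNq⟩ := id hm
      haveI := hN
      haveI := hNc
      exact ⟨fun F hF => CfsgLib.Fusion.Metacyclic.isNormal_metacyclic hS hF
        CfsgLib.Fusion.stronglyClosed_self hp2 N hNq,
        fun H hH => CfsgLib.PGroup.MetaOdd.coprime_aut hS hp2 hm hab H hH⟩

end Cfsg.Agent.S5287
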