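import Cfsg.Statements.S5291
import Cfsg.Agent.Lib.Fusion.System.PPrimeCharacter

set_option autoImplicit false
open Cfsg

namespace Cfsg.Agent.S5291

/-- Let F be a saturated fusion system over a finite p-group S and E a weakly normal subsystem of F over a subgroup T. Suppose a subgroup R of T is normal in E (E = N_E(R)), and let R* be the subgroup of T generated by the images of R under all maps of F with source R. Then R* is normal in F (F = N_F(R*)). -/
theorem result {Ω : Type*} [Group Ω] {S : Subgroup Ω} [Finite S] (p : ℕ) [Fact p.Prime] (hS : IsPGroup p S)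
    (F : Cfsg.FusionSystem S) (hF : F.IsSaturated p)
    {T : Subgroup Ω} (E : Cfsg.FusionSystem T) (hE : E.IsWeaklyNormalIn F p)
    (R : Subgroup Ω) (hR : E.IsNormal R) :
    F.IsNormal (Subgroup.closure {x : Ω | ∃ φ ∈ F.Hom R, ∃ r : R, x = φ r}) := by
  classical
  obtain ⟨hEsat, -, hEinv⟩ := hE
  have hTS : T ≤ S := hEinv.2.1.1
  haveI : Finite T := CfsgLib.Fusion.finite_of_le hTS
  have hTp : IsPGroup p T := hS.to_le hTS
  have hset : CfsgLib.Fusion.PPrimeChar.Setup F E p (1 : F.autGroup T →* Unit) :=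
    ⟨hS, hF, hTS, hEsat, hEinv, by simp, fun _ _ => by simp⟩
  set G : Set Ω := {x : Ω | ∃ φ ∈ F.Hom R, ∃ r : R, x = φ r}
  set Q := Subgroup.closure G
  have hR' := CfsgLib.Fusion.stronglyClosed_of_isNormal hR
  have hRT : R ≤ T := hR.1
  have hmT : ∀ a : F.autGroup T, CfsgLib.Fusion.IsMap F T (CfsgLib.Fusion.autFun (a : MulAut T)) :=
    fun a => (CfsgLib.Fusion.mem_autGroup_iff hTS).1 a.2
  have hGmem : ∀ (a : F.autGroup T), ∀ r ∈ R, CfsgLib.Fusion.autFun (a : MulAut T) r ∈ G := by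
    intro a r hr
    obtain ⟨φ, hφ, hφe⟩ := (hmT a).mono hRT
    exact ⟨φ, hφ, ⟨r, hr⟩, (hφe ⟨r, hr⟩).symm⟩
  have hGdec : ∀ x ∈ G, ∃ (a : F.autGroup T) (r : Ω), r ∈ R ∧
      x = CfsgLib.Fusion.autFun (a : MulAut T) r := by
    rintro x ⟨φ, hφ, r, rfl⟩
    obtain ⟨a, e, he, hfe⟩ := hset.exists_decomp (CfsgLib.Fusion.isMap_toFun hφ) hRT
    exact ⟨a, e r, (CfsgLib.Fusion.stronglyClosed_iff.1 hR').2 R e le_rfl he r r.2,
      by rw [← hfe r r.2, CfsgLib.Fusion.toFun_coe]⟩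
  have hGT : G ⊆ T := fun x hx => by
    obtain ⟨a, r, hr, rfl⟩ := hGdec x hx
    exact CfsgLib.Fusion.autFun_mem _ (hRT hr)
  have hQT : Q ≤ T := (Subgroup.closure_le T).2 hGT
  -- the conjugates of `R` are normal in `E`
  have hnorm : ∀ a : F.autGroup T,
      E.IsNormal (CfsgLib.Fusion.img R (CfsgLib.Fusion.autFun (a : MulAut T))) := by
    intro a
    set a' := CfsgLib.Fusion.autFun (a : MulAut T)
    have hm := (hmT a).mono hRT
    have hle : CfsgLib.Fusion.img R a' ≤ T :=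
      hm.img_le_of_forall fun x hx => CfsgLib.Fusion.autFun_mem _ (hRT hx)
    refine (CfsgLib.Fusion.isNormal_iff_autExtends hTp hEsat hle).2 fun P f hP hf => ?_
    have hmi := hmT a⁻¹
    have hPR : CfsgLib.Fusion.img P (CfsgLib.Fusion.autFun ((a⁻¹ : F.autGroup T) : MulAut T)) ≤ R := by
      refine (hmi.mono (hP.trans hle)).img_le_of_forall fun y hy => ?_
      obtain ⟨x, hx, rfl⟩ := hm.mem_img.1 (hP hy)
      rw [Subgroup.coe_inv, CfsgLib.Fusion.PPrime.autFun_symm (hRT hx)]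
      exact hx
    obtain ⟨β, hβ, hβe⟩ := CfsgLib.Fusion.autExtends_of_isNormal hR _ _ hPR
      (hset.conj_E (a⁻¹ : F.autGroup T).2 hf)
    have hb := hset.conj_E a.2 ((CfsgLib.Fusion.mem_autGroup_iff hRT).1 hβ)
    have hbi : CfsgLib.Fusion.img (CfsgLib.Fusion.img R a')
        (a' ∘ CfsgLib.Fusion.autFun β ∘ CfsgLib.Fusion.autFun (a : MulAut T)⁻¹) =
          CfsgLib.Fusion.img R a' :=
      CfsgLib.Fusion.img_eq_of_map_le hle hb le_rfl fun y hy => by
        obtain ⟨x, hx, rfl⟩ := hm.mem_img.1 hy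
        show a' (CfsgLib.Fusion.autFun β (CfsgLib.Fusion.autFun (a : MulAut T)⁻¹ (a' x))) ∈ _
        rw [CfsgLib.Fusion.PPrime.autFun_symm (hRT hx)]
        exact hm.mem_img.2 ⟨_, CfsgLib.Fusion.autFun_mem β hx, rfl⟩
    refine ⟨CfsgLib.Fusion.autOf hb hbi, CfsgLib.Fusion.autOf_mem hb hbi, fun y hy => ?_⟩
    rw [CfsgLib.Fusion.autFun_autOf hb hbi (hP hy)]
    obtain ⟨x, hx, rfl⟩ := hm.mem_img.1 (hP hy)
    show a' (CfsgLib.Fusion.autFun β (CfsgLib.Fusion.autFun (a : MulAut T)⁻¹ (a' x))) = f (a' x)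
    have hxi : CfsgLib.Fusion.autFun ((a⁻¹ : F.autGroup T) : MulAut T) (a' x) = x := by
      rw [Subgroup.coe_inv]; exact CfsgLib.Fusion.PPrime.autFun_symm (hRT hx)
    have hxP : x ∈ CfsgLib.Fusion.img P (CfsgLib.Fusion.autFun ((a⁻¹ : F.autGroup T) : MulAut T)) :=
      (hmi.mono (hP.trans hle)).mem_img.2 ⟨_, hy, hxi⟩
    rw [CfsgLib.Fusion.PPrime.autFun_symm (hRT hx), hβe x hxP]
    show a' (CfsgLib.Fusion.autFun ((a⁻¹ : F.autGroup T) : MulAut T)
      (f (CfsgLib.Fusion.autFun ((a⁻¹ : F.autGroup T) : MulAut T)⁻¹ x))) = _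
    rw [Subgroup.coe_inv, inv_inv]
    exact CfsgLib.Fusion.PPrime.autFun_symm' (hf.mem_S hy)
  -- so is their join
  have hQE : E.IsNormal Q := by
    have hs := CfsgLib.Fusion.sSup_mem_of_sup
      (s := {A : Subgroup Ω | E.IsNormal A ∧ A ≤ Q}) (S := T) (fun A hA => hA.1.1)
      ⟨CfsgLib.Fusion.isNormal_bot, bot_le⟩
      fun A hA B hB => ⟨CfsgLib.Fusion.isNormal_sup hA.1 hB.1, sup_le hA.2 hB.2⟩
    suffices h : Q = sSup {A : Subgroup Ω | E.IsNormal A ∧ A ≤ Q} from h ▸ hs.1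
    refine le_antisymm ((Subgroup.closure_le _).2 fun x hx => ?_) hs.2
    obtain ⟨a, r, hr, rfl⟩ := hGdec x hx
    refine (le_sSup (⟨hnorm a, ?_⟩ : _ ∧ _) : _ ≤ sSup {A : Subgroup Ω | E.IsNormal A ∧ A ≤ Q})
      (((hmT a).mono hRT).mem_img.2 ⟨r, hr, rfl⟩)
    exact ((hmT a).mono hRT).img_le_of_forall fun y hy => Subgroup.subset_closure (hGmem a y hy)
  -- `Aut_F(T)` preserves it
  have hinv : ∀ a : F.autGroup T, ∀ x ∈ Q, CfsgLib.Fusion.autFun (a : MulAut T) x ∈ Q := by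
    intro a x hx
    induction hx using Subgroup.closure_induction with
    | mem y hy =>
      obtain ⟨b, r, hr, rfl⟩ := hGdec y hy
      rw [← CfsgLib.Fusion.autFun_mul _ _ (hRT hr)]
      exact Subgroup.subset_closure (hGmem (a * b) r hr)
    | one => rw [(hmT a).map_one]; exact Q.one_mem
    | mul y z hy hz ih1 ih2 => rw [(hmT a).map_mul (hQT hy) (hQT hz)]; exact Q.mul_mem ih1 ih2
    | inv y hy ih => rw [(hmT a).map_inv (hQT hy)]; exact Q.inv_mem ih
  have hQS : Q ≤ S := hQT.trans hTS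
  refine (CfsgLib.Fusion.isNormal_iff_autExtends hS hF hQS).2 fun P f hP hf => ?_
  obtain ⟨a, e, he, hfe⟩ := hset.exists_decomp hf (hP.trans hQT)
  obtain ⟨β, hβ, hβe⟩ := CfsgLib.Fusion.autExtends_of_isNormal hQE P e hP he
  have hb := ((hset.isMap_sub ((CfsgLib.Fusion.mem_autGroup_iff hQT).1 hβ)).comp
    ((hmT a).mono hQT) fun x hx => CfsgLib.Fusion.autFun_mem β hx)
  have hbi := CfsgLib.Fusion.img_eq_of_map_le hQS hb le_rfl
    fun x hx => hinv a _ (CfsgLib.Fusion.autFun_mem β hx)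
  refine ⟨CfsgLib.Fusion.autOf hb hbi, CfsgLib.Fusion.autOf_mem hb hbi, fun x hx => ?_⟩
  rw [CfsgLib.Fusion.autFun_autOf hb hbi (hP hx), hfe x hx]
  show CfsgLib.Fusion.autFun (a : MulAut T) (CfsgLib.Fusion.autFun β x) = _
  rw [hβe x hx]

end Cfsg.Agent.S5291
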