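import Cfsg.Statements.S5294
import Cfsg.Agent.Lib.Fusion.System.AbelianSimple

set_option autoImplicit false
universe u
open Cfsg

namespace Cfsg.Agent.S5294

/-- Let F be a saturated fusion system over a finite p-group S whose centre Z(S) lies in the largest subgroup O_p(F) normal in F. Then the centre Z(F) of F is a direct factor of Z(S): there is a subgroup K of Z(S) with Z(F) ∩ K = 1 and Z(F)K = Z(S). -/
theorem result {Ω : Type u} [Group Ω] {S : Subgroup Ω} [Finite S] (p : ℕ) [Fact p.Prime] (hS : IsPGroup p S)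
    (F : Cfsg.FusionSystem S) (hF : F.IsSaturated p) (hZ : (S ⊓ Subgroup.centralizer (S : Set Ω)) ≤ F.core) :
    ∃ K : Subgroup Ω, K ≤ (S ⊓ Subgroup.centralizer (S : Set Ω)) ∧ F.center ⊓ K = ⊥ ∧ F.center ⊔ K = (S ⊓ Subgroup.centralizer (S : Set Ω)) := by
  classical
  haveI hcore := CfsgLib.Fusion.isNormal_core (F := F)
  set Q := F.core with hQd
  have hQS : Q ≤ S := hcore.1
  set Z := S ⊓ Subgroup.centralizer (S : Set Ω)
  set A := Q ⊓ Subgroup.centralizer (Q : Set Ω) with hA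
  have hAQ : A ≤ Q := inf_le_left
  have hAS : A ≤ S := hAQ.trans hQS
  have hZA : Z ≤ A := le_inf hZ fun z hz => Subgroup.centralizer_le hQS hz.2
  have hAn : F.IsNormal A := by
    refine CfsgLib.Fusion.isNormal_of_characteristic hcore hAQ ?_
    have h : A.subgroupOf Q = Subgroup.center Q := by
      ext ⟨x, hx⟩
      rw [Subgroup.mem_subgroupOf, Subgroup.mem_center_iff]
      refine ⟨fun h y => Subtype.ext (Subgroup.mem_centralizer_iff.1 h.2 y y.2), fun h =>
        ⟨hx, Subgroup.mem_centralizer_iff.2 fun y hy => congrArg Subtype.val (h ⟨y, hy⟩)⟩⟩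
    rw [h]
    infer_instance
  haveI : Finite A := CfsgLib.Fusion.finite_of_le hAS
  haveI : Finite (MulAut A) := CfsgLib.Fusion.finite_mulAut
  letI : CommGroup A := { (inferInstance : Group A) with
    mul_comm := fun a b => Subtype.ext (Subgroup.mem_centralizer_iff.1 b.2.2 a (hAQ a.2)) }
  have hAsc := CfsgLib.Fusion.stronglyClosed_of_isNormal hAn
  have hAfn : F.IsFullyNormalized A := ⟨hAS, fun R _ =>
    CfsgLib.Fusion.card_le_of_le' inf_le_left
      (inf_le_left.trans (CfsgLib.Fusion.le_normalizerIn_of_stronglyClosed hAsc))⟩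
  have hSA : S ≤ Subgroup.normalizer (A : Set Ω) :=
    (CfsgLib.Fusion.le_normalizerIn_of_stronglyClosed hAsc).trans inf_le_right
  set G := F.autGroup A with hG
  set P : Subgroup G := (Cfsg.autInducedBy S A).subgroupOf G with hPd
  have hi : ¬ p ∣ P.index := ((CfsgLib.Fusion.isFullyAutomized_iff hS).1
    (CfsgLib.Fusion.IsSaturated.automized_receptive hS hF hAfn).1).2
  haveI : Fintype (G ⧸ P) := Fintype.ofFinite _
  let Tr : A →* A := MonoidHom.mk' (fun a => ∏ q : G ⧸ P, ((q.out : G) : MulAut A) a)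
    fun a b => by
      rw [← Finset.prod_mul_distrib]
      exact Finset.prod_congr rfl fun q _ => map_mul _ _ _
  have hTr : ∀ a : A, Tr a = ∏ q : G ⧸ P, ((q.out : G) : MulAut A) a := fun a => rfl
  -- the trace of a central element is fixed
  have hfixP : ∀ z : A, (z : Ω) ∈ Z → ∀ u ∈ P, ((u : G) : MulAut A) z = z := by
    intro z hz u hu
    obtain ⟨g, hg, hgx⟩ := CfsgLib.Fusion.mem_autInducedBy_iff.1 (Subgroup.mem_subgroupOf.1 hu)
    refine Subtype.ext ?_
    rw [← CfsgLib.Fusion.autFun_coe, hgx z z.2, Subgroup.mem_centralizer_iff.1 hz.2 g hg,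
      mul_inv_cancel_right]
  have hTfix : ∀ z : A, (z : Ω) ∈ Z → ∀ g : G, (g : MulAut A) (Tr z) = Tr z := by
    intro z hz g
    rw [hTr, map_prod]
    refine Fintype.prod_equiv (MulAction.toPerm g) _ _ fun q => ?_
    induction q using QuotientGroup.induction_on with
    | _ t =>
      obtain ⟨u, hu, e⟩ : ∃ u ∈ P, Quotient.out (t : G ⧸ P) = t * u :=
        ⟨t⁻¹ * Quotient.out (t : G ⧸ P),
          QuotientGroup.eq.1 (QuotientGroup.out_eq' _).symm, by group⟩
      obtain ⟨v, hv, e'⟩ : ∃ v ∈ P, Quotient.out ((g * t : G) : G ⧸ P) = g * t * v :=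
        ⟨(g * t)⁻¹ * Quotient.out ((g * t : G) : G ⧸ P),
          QuotientGroup.eq.1 (QuotientGroup.out_eq' _).symm, by group⟩
      show (g : MulAut A) (((Quotient.out (t : G ⧸ P) : G) : MulAut A) z) =
        ((Quotient.out ((g * t : G) : G ⧸ P) : G) : MulAut A) z
      rw [e, e', Subgroup.coe_mul, Subgroup.coe_mul, Subgroup.coe_mul, MulAut.mul_apply,
        MulAut.mul_apply, MulAut.mul_apply, hfixP z hz u hu, hfixP z hz v hv]
  have hcent : ∀ a : A, (∀ g : G, (g : MulAut A) a = a) → (a : Ω) ∈ F.center := by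
    intro a ha
    refine (le_sSup (a := Subgroup.zpowers (a : Ω)) ?_) (Subgroup.mem_zpowers _)
    refine CfsgLib.Fusion.isCentral_iff.2 ⟨Subgroup.zpowers_le.2 (hAS a.2), fun R f hf => ?_⟩
    obtain ⟨g, hg, hgf, hgA⟩ := (CfsgLib.Fusion.isNormal_iff.1 hAn).2 R f hf
    have hgA' := hg.mono (le_sup_right : A ≤ R ⊔ A)
    refine ⟨g, hg.mono (sup_le_sup_left (Subgroup.zpowers_le.2 a.2) R), hgf, fun y hy => ?_⟩
    obtain ⟨k, rfl⟩ := Subgroup.mem_zpowers_iff.1 hy
    have hk : (a : Ω) ^ k ∈ A := zpow_mem a.2 k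
    rw [← CfsgLib.Fusion.autFun_autOf hgA' hgA hk, ← Subgroup.coe_zpow, CfsgLib.Fusion.autFun_coe,
      map_zpow]
    exact congrArg (fun b : A => ((b ^ k : A) : Ω))
      (ha ⟨_, CfsgLib.Fusion.autOf_mem hgA' hgA⟩)
  have hCZ : F.center ≤ Z :=
    le_inf CfsgLib.Fusion.center_le_S CfsgLib.Fusion.center_le_centralizer
  set n := Fintype.card (G ⧸ P)
  have hTC : ∀ a : A, (a : Ω) ∈ F.center → Tr a = a ^ n := by
    intro a ha
    rw [hTr, Finset.prod_eq_pow_card (b := a) fun q _ => Subtype.ext ?_]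
    · rfl
    · rw [← CfsgLib.Fusion.autFun_coe]
      exact CfsgLib.Fusion.center_fixed
        ((CfsgLib.Fusion.mem_autGroup_iff hAS).1 (q.out : G).2) a.2 ha
  have hcop : ∀ a : A, Nat.Coprime n (orderOf a) := by
    intro a
    obtain ⟨k, hk⟩ := (hS.to_le hAS) a
    refine Nat.Coprime.coprime_dvd_right (orderOf_dvd_of_pow_eq_one hk) (Nat.Coprime.pow_right k ?_)
    rw [show n = P.index from (Nat.card_eq_fintype_card).symm.trans rfl]
    exact ((Fact.out : p.Prime).coprime_iff_not_dvd.2 hi).symm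
  refine ⟨Z ⊓ (Tr.ker.map A.subtype), inf_le_left, eq_bot_iff.2 ?_, ?_⟩
  · rintro x ⟨hxC, hxZ, a, ha, rfl⟩
    have h1 : a ^ n = 1 := (hTC a hxC).symm.trans (MonoidHom.mem_ker.1 ha)
    obtain ⟨m, hm⟩ := exists_pow_eq_self_of_coprime (hcop a)
    rw [h1, one_pow] at hm
    rw [Subgroup.mem_bot, ← hm]
    rfl
  · refine le_antisymm (sup_le hCZ inf_le_left) fun z hz => ?_
    set za : A := ⟨z, hZA hz⟩
    set y := Tr za
    have hy : (y : Ω) ∈ F.center := hcent y (hTfix za hz)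
    obtain ⟨m, hm⟩ := exists_pow_eq_self_of_coprime (hcop y)
    have hd : ((y ^ m : A) : Ω) ∈ F.center := by rw [Subgroup.coe_pow]; exact pow_mem hy m
    have hTd : Tr (y ^ m) = y := by
      rw [map_pow, hTC y hy]; exact hm
    rw [show z = ((y ^ m : A) : Ω) * (((y ^ m : A) : Ω)⁻¹ * z) by rw [mul_inv_cancel_left]]
    refine Subgroup.mul_mem_sup hd ⟨Z.mul_mem (Z.inv_mem (hCZ hd)) hz, (y ^ m)⁻¹ * za, ?_, rfl⟩
    show Tr ((y ^ m)⁻¹ * za) = 1
    rw [map_mul, map_inv, hTd]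
    exact inv_mul_cancel y

end Cfsg.Agent.S5294
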