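import Cfsg.Statements.S5295
import Cfsg.Agent.S5193
import Cfsg.Agent.Lib.Fusion.System.AbelianSimple
import Cfsg.Agent.Lib.Fusion.System.Functor

set_option autoImplicit false
universe u
open Cfsg CfsgLib.Fusion

namespace Cfsg.Agent.S5295

/-- Let F be a saturated fusion system over a finite p-group S with p odd. Then the centre Z(F) of F is a direct factor of Z(S): there is a subgroup K of Z(S) with Z(F) ∩ K = 1 and Z(F)K = Z(S). (At the prime 2 this can fail.) -/
theorem result {Ω : Type u} [Group Ω] {S : Subgroup Ω} [Finite S] (p : ℕ) [Fact p.Prime] (hp : p ≠ 2) (hS : IsPGroup p S)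
    (F : Cfsg.FusionSystem S) (hF : F.IsSaturated p) :
    ∃ K : Subgroup Ω, K ≤ (S ⊓ Subgroup.centralizer (S : Set Ω)) ∧ F.center ⊓ K = ⊥ ∧ F.center ⊔ K = (S ⊓ Subgroup.centralizer (S : Set Ω)) := by
  set J := Cfsg.thompsonSubgroupAOf S with hJ
  have hJS : J ≤ S := thompsonA_le_self S
  set Zs := S ⊓ Subgroup.centralizer (S : Set Ω) with hZs
  have hZJ : Zs ≤ J := center_le_thompsonA S
  have hn : Cfsg.FusionSystem.normalizerIn S J = S := le_antisymm inf_le_left
    ((le_normalizerIn (le_refl S)).trans (normalizerIn_le_normalizerIn_thompsonA hS le_rfl))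
  obtain ⟨N, hN⟩ := exists_normalizerSystem (F := F) hJS
  have hNF : N.center = F.center := (Cfsg.Agent.S5193.result p hS F hF N hN).2 (Or.inl hp)
  have hfn : F.IsFullyNormalized J :=
    ⟨hJS, fun R _ => by rw [hn]; exact card_le_of_le' le_rfl inf_le_left⟩
  obtain ⟨-, hidx⟩ := (isFullyAutomized_iff hS).1 (IsSaturated.automized_receptive hS hF hfn).1
  haveI := finite_of_le hJS
  haveI := finite_mulAut (P := J)
  set A := F.autGroup J with hA
  set P0 : Subgroup A := (Cfsg.autInducedBy S J).subgroupOf A with hP0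
  haveI : Fintype (A ⧸ P0) := Fintype.ofFinite _
  set n := Fintype.card (A ⧸ P0) with hnd
  have hpn : ¬ p ∣ n := by
    rw [hnd, ← Nat.card_eq_fintype_card]
    exact hidx
  -- the abelian group `Z(J)`
  set ZJ := J ⊓ Subgroup.centralizer (J : Set Ω) with hZJd
  letI : CommGroup ZJ :=
    { (inferInstance : Group ZJ) with
      mul_comm := fun a b => Subtype.ext (Subgroup.mem_centralizer_iff.1 b.2.2 a a.2.1) }
  have hmap : ∀ (a : A) (x : Ω), x ∈ ZJ → autFun (a : MulAut J) x ∈ ZJ := fun a x hx => by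
    have ha := (mem_autGroup_iff hJS).1 a.2
    refine ⟨autFun_mem _ hx.1, Subgroup.mem_centralizer_iff.2 fun y hy => ?_⟩
    have e : autFun (a : MulAut J) (autFun (a : MulAut J)⁻¹ y) = y := by
      rw [← autFun_mul _ _ hy, mul_inv_cancel, autFun_one hy]
    rw [← e]
    exact (ha.map_commute (autFun_mem _ hy) hx.1
      (Subgroup.mem_centralizer_iff.1 hx.2 _ (autFun_mem _ hy))).eq
  let φ : A → (ZJ →* ZJ) := fun a => MonoidHom.mk' (fun z => ⟨_, hmap a z z.2⟩) fun x y =>
    Subtype.ext (((mem_autGroup_iff hJS).1 a.2).map_mul x.2.1 y.2.1)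
  have hφmul : ∀ a b z, φ (a * b) z = φ a (φ b z) := fun a b z =>
    Subtype.ext (autFun_mul (a : MulAut J) b z.2.1)
  let incl : Zs →* ZJ := Subgroup.inclusion (le_inf hZJ (inf_le_right.trans
    (Subgroup.centralizer_le hJS)))
  have hfixP : ∀ (b : A), b ∈ P0 → ∀ z : Zs, φ b (incl z) = incl z := fun b hb z => by
    obtain ⟨g, hg, hge⟩ := mem_autInducedBy_iff.1 (Subgroup.mem_subgroupOf.1 hb)
    refine Subtype.ext ?_
    show autFun (b : MulAut J) (z : Ω) = z
    rw [hge _ (hZJ z.2), Subgroup.mem_centralizer_iff.1 z.2.2 g hg, mul_inv_cancel_right]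
  have hcoset : ∀ (a b : A) (z : Zs), a⁻¹ * b ∈ P0 → φ b (incl z) = φ a (incl z) := fun a b z h => by
    conv_lhs => rw [← mul_inv_cancel_left a b, hφmul, hfixP _ h]
  set r : Zs →* ZJ := ∏ q : A ⧸ P0, (φ q.out).comp incl with hr
  have hrapp : ∀ z, r z = ∏ q : A ⧸ P0, φ q.out (incl z) := fun z => by
    rw [hr, MonoidHom.finsetProd_apply]
    rfl
  have hrfix : ∀ (a : A) z, φ a (r z) = r z := fun a z => by
    rw [hrapp, map_prod]
    refine Fintype.prod_equiv (MulAction.toPerm a) _ _ fun q => ?_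
    rw [← hφmul]
    refine hcoset _ _ z ?_
    rw [← QuotientGroup.eq, QuotientGroup.out_eq']
    show a • q = QuotientGroup.mk (a * q.out)
    conv_lhs => rw [← QuotientGroup.out_eq' q]
    rfl
  -- the fixed points are the centre
  have hfix2cen : ∀ z : ZJ, (∀ a, φ a z = z) → (z : Ω) ∈ F.center := by
    intro z hz
    rw [← hNF]
    refine (le_sSup (a := Subgroup.zpowers (z : Ω)) ?_) (Subgroup.mem_zpowers _)
    have hzJ : Subgroup.zpowers (z : Ω) ≤ J := Subgroup.zpowers_le.2 z.2.1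
    refine isCentral_iff.2 ⟨hzJ.trans (le_normalizerIn hJS), fun P f hf => ?_⟩
    obtain ⟨hP, -, g, hg, hgf, hgJ⟩ := (isMap_of_isNormalizerSystem hN).1 hf
    have hgJ' := hg.mono (le_sup_right : J ≤ P ⊔ J)
    have hle : P ⊔ Subgroup.zpowers (z : Ω) ≤ P ⊔ J := sup_le_sup_left hzJ P
    refine ⟨g, (isMap_of_isNormalizerSystem hN).2 ⟨sup_le hP (hzJ.trans (le_normalizerIn hJS)),
      fun y hy => hn.ge (hg.mem_S (hle hy)), g, hg.mono (sup_le hle le_sup_right), fun _ _ => rfl,
      hgJ⟩, hgf, fun y hy => ?_⟩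
    obtain ⟨k, rfl⟩ := Subgroup.mem_zpowers_iff.1 hy
    have hk : ((z ^ k : ZJ) : Ω) = (z : Ω) ^ k := Subgroup.coe_zpow _ _ _
    rw [← hk]
    have h := congrArg Subtype.val (show φ ⟨_, autOf_mem hgJ' hgJ⟩ (z ^ k) = z ^ k by
      rw [map_zpow, hz])
    exact (autFun_autOf hgJ' hgJ (z ^ k).2.1).symm.trans h
  have hcen2fix : ∀ z : Zs, (z : Ω) ∈ F.center → ∀ a, φ a (incl z) = incl z := fun z hz a =>
    Subtype.ext (center_fixed ((mem_autGroup_iff hJS).1 a.2) (hZJ z.2) hz)
  have hcenZ : F.center ≤ Zs := le_inf center_le_S center_le_centralizer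
  have hrcen : ∀ z : Zs, (z : Ω) ∈ F.center → r z = incl z ^ n := fun z hz => by
    rw [hrapp, Finset.prod_congr rfl (fun q _ => hcen2fix z hz q.out), Finset.prod_const,
      Finset.card_univ]
  refine ⟨r.ker.map Zs.subtype, Subgroup.map_subtype_le _, ?_, ?_⟩
  · rw [eq_bot_iff]
    rintro _ ⟨hxc, z, hz, rfl⟩
    have h0 : r z = 1 := hz
    rw [hrcen z hxc, ← map_pow] at h0
    have h1 := pow_ne_one_of_not_dvd (hS.to_le inf_le_left) hpn
      ((map_eq_one_iff incl (Subgroup.inclusion_injective _)).1 h0)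
    rw [h1]
    exact one_mem _
  · refine le_antisymm (sup_le hcenZ (Subgroup.map_subtype_le _)) fun x hx => ?_
    have hrc : ((r ⟨x, hx⟩ : ZJ) : Ω) ∈ F.center := hfix2cen _ fun a => hrfix a _
    haveI := finite_of_le (S := S) (P := F.center) center_le_S
    have hsurj : Function.Surjective (fun c : F.center => c ^ n) := by
      refine Finite.injective_iff_surjective.1 fun c d (h : c ^ n = d ^ n) => ?_
      have hc : Commute c d := Subtype.ext
        ((Subgroup.mem_centralizer_iff.1 (hcenZ d.2).2 (c : Ω) (center_le_S c.2)))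
      have h2 : (c * d⁻¹) ^ n = 1 := by rw [hc.inv_right.mul_pow, inv_pow, h, mul_inv_cancel]
      exact mul_inv_eq_one.1 (pow_ne_one_of_not_dvd (hS.to_le center_le_S) hpn h2)
    obtain ⟨c, hc⟩ := hsurj ⟨_, hrc⟩
    set cz : Zs := ⟨c, hcenZ c.2⟩ with hcz
    have hk : r (⟨x, hx⟩ * cz⁻¹) = 1 := by
      rw [map_mul, map_inv, hrcen cz c.2, mul_inv_eq_one]
      exact Subtype.ext ((congrArg Subtype.val hc).symm.trans (by rfl))
    have := mul_mem (Subgroup.mem_sup_right (S := F.center) (Subgroup.mem_map_of_mem Zs.subtype hk))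
      (Subgroup.mem_sup_left (T := r.ker.map Zs.subtype) c.2)
    simpa [cz] using this

end Cfsg.Agent.S5295
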