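import Cfsg.Statements.S5297
import Cfsg.Agent.Lib.Fusion.System.SmallControl
import Cfsg.Agent.Lib.Fusion.System.TransferApps

set_option autoImplicit false
universe u
open Cfsg

namespace Cfsg.Agent.S5297

/-- Let F be a saturated fusion system over a finite p-group S. If every map of F between cyclic subgroups of the hyperfocal subgroup of F of order p or 4 is a map of the normalizer system of S (it extends to a map of F defined on all of S), then S is normal in F. -/
theorem result {Ω : Type u} [Group Ω] {S : Subgroup Ω} [Finite S] (p : ℕ) [Fact p.Prime] (hS : IsPGroup p S)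
    (F : Cfsg.FusionSystem S) (hF : F.IsSaturated p)
    (h : ∀ A B : Subgroup Ω, A ≤ (F.hyperfocalSubgroup p) → B ≤ (F.hyperfocalSubgroup p) → IsCyclic ↥A → (Nat.card ↥A = p ∨ Nat.card ↥A = 4) → IsCyclic ↥B → (Nat.card ↥B = p ∨ Nat.card ↥B = 4) →
      F.homSet A B ⊆ F.normalizerHom S A) :
    F.IsNormal S := by
  classical
  refine CfsgLib.Fusion.top_isNormal_of_small_hyperfocal hS hF fun x hx hxe f hf => ?_
  by_cases hx1 : x = 1
  · subst hx1
    exact ⟨1, by rw [hf.map_one, CfsgLib.Fusion.autFun_one (one_mem S)]⟩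
  obtain ⟨φ, hφ, hφe⟩ := id hf
  have hHsc := (CfsgLib.Fusion.absorbs_hyperfocal (F := F) (p := p)).stronglyClosed hS hF
  have hle : Subgroup.zpowers x ≤ F.hyperfocalSubgroup p := Subgroup.zpowers_le.2 hx
  have hcard : Nat.card (Subgroup.zpowers x) = p ∨ Nat.card (Subgroup.zpowers x) = 4 := by
    rw [Nat.card_zpowers]
    rw [CfsgLib.PGroup.smallExp] at hxe
    split_ifs at hxe with hp2
    · subst hp2
      by_cases hx2 : x ^ 2 = 1
      · exact Or.inl (orderOf_eq_prime hx2 hx1)
      · exact Or.inr (orderOf_eq_prime_pow (p := 2) (n := 1) (by simpa using hx2)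
          (by simpa using hxe))
    · exact Or.inl (orderOf_eq_prime hxe hx1)
  have himg := CfsgLib.Fusion.img_zpowers hf
  have hcardB := hcard
  rw [← hf.card_img, himg] at hcardB
  have hB : Subgroup.zpowers (f x) ≤ F.hyperfocalSubgroup p := himg ▸
    hf.img_le_of_forall fun y hy =>
      (CfsgLib.Fusion.stronglyClosed_iff.1 hHsc).2 _ f hle hf y hy
  obtain ⟨-, -, -, ψ, hψ, hψφ, hψS⟩ := h (Subgroup.zpowers x) (Subgroup.zpowers (f x)) hle hB
    inferInstance hcard inferInstance hcardB ⟨hφ, fun y => by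
      rw [hφe y, ← himg]; exact hf.mem_img.2 ⟨y, y.2, rfl⟩⟩
  obtain ⟨g, hg, hgφ, hgS⟩ := CfsgLib.Fusion.extends_normal_iff.1 ⟨ψ, hψ, hψφ, hψS⟩
  have hgS' := hg.mono (le_sup_right : S ≤ Subgroup.zpowers x ⊔ S)
  refine ⟨CfsgLib.Fusion.autOf hgS' hgS, ?_⟩
  rw [CfsgLib.Fusion.autFun_autOf hgS' hgS (CfsgLib.Fusion.hyperfocal_le_S hx),
    hgφ ⟨x, Subgroup.mem_zpowers x⟩, hφe]

end Cfsg.Agent.S5297
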