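import Cfsg.Statements.S5298
import Cfsg.Agent.Lib.Fusion.System.SmallControl
import Cfsg.Agent.Lib.Fusion.System.TransferApps

set_option autoImplicit false
universe u
open Cfsg

namespace Cfsg.Agent.S5298

/-- Let F be a saturated fusion system over a finite p-group S. If every map of F between cyclic subgroups of the hyperfocal subgroup of F of order p or 4 is conjugation by an element of S, then F is the inner fusion system of S. -/
theorem result {Ω : Type u} [Group Ω] {S : Subgroup Ω} [Finite S] (p : ℕ) [Fact p.Prime] (hS : IsPGroup p S)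
    (F : Cfsg.FusionSystem S) (hF : F.IsSaturated p)
    (h : ∀ A B : Subgroup Ω, A ≤ (F.hyperfocalSubgroup p) → B ≤ (F.hyperfocalSubgroup p) → IsCyclic ↥A → (Nat.card ↥A = p ∨ Nat.card ↥A = 4) → IsCyclic ↥B → (Nat.card ↥B = p ∨ Nat.card ↥B = 4) →
      F.homSet A B ⊆ (Cfsg.innerFusionSystem S).Hom A) :
    ∀ P : Subgroup Ω, F.Hom P = (Cfsg.innerFusionSystem S).Hom P := by
  classical
  have hsmall : ∀ x ∈ F.hyperfocalSubgroup p, x ^ CfsgLib.PGroup.smallExp p = 1 → ∀ f,
      CfsgLib.Fusion.IsMap F (Subgroup.zpowers x) f → ∃ s ∈ S, f x = s * x * s⁻¹ := by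
    intro x hx hxe f hf
    by_cases hx1 : x = 1
    · subst hx1
      exact ⟨1, one_mem S, by rw [hf.map_one]; group⟩
    obtain ⟨φ, hφ, hφe⟩ := id hf
    have hHsc := (CfsgLib.Fusion.absorbs_hyperfocal (F := F) (p := p)).stronglyClosed hS hF
    have hle : Subgroup.zpowers x ≤ F.hyperfocalSubgroup p := Subgroup.zpowers_le.2 hx
    have hcard : Nat.card (Subgroup.zpowers x) = p ∨ Nat.card (Subgroup.zpowers x) = 4 := by
      rw [Nat.card_zpowers]
      rw [CfsgLib.PGroup.smallExp] at hxe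
      split_ifs at hxe with hp2
      · subst hp2
        by_cases hx2 : x ^ 2 = 1
        · exact Or.inl (orderOf_eq_prime hx2 hx1)
        · exact Or.inr (orderOf_eq_prime_pow (p := 2) (n := 1) (by simpa using hx2)
            (by simpa using hxe))
      · exact Or.inl (orderOf_eq_prime hxe hx1)
    have himg := CfsgLib.Fusion.img_zpowers hf
    have hcardB := hcard
    rw [← hf.card_img, himg] at hcardB
    have hB : Subgroup.zpowers (f x) ≤ F.hyperfocalSubgroup p := himg ▸
      hf.img_le_of_forall fun y hy =>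
        (CfsgLib.Fusion.stronglyClosed_iff.1 hHsc).2 _ f hle hf y hy
    obtain ⟨-, s, hs, hse⟩ := h (Subgroup.zpowers x) (Subgroup.zpowers (f x)) hle hB
      inferInstance hcard inferInstance hcardB ⟨hφ, fun y => by
        rw [hφe y, ← himg]; exact hf.mem_img.2 ⟨y, y.2, rfl⟩⟩
    exact ⟨s, hs, (hφe ⟨x, Subgroup.mem_zpowers x⟩).symm.trans (hse ⟨x, Subgroup.mem_zpowers x⟩)⟩
  have hN : F.IsNormal S := CfsgLib.Fusion.top_isNormal_of_small_hyperfocal hS hF
    fun x hx hxe f hf => by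
      obtain ⟨s, hs, hfs⟩ := hsmall x hx hxe f hf
      refine ⟨CfsgLib.Fusion.conjAut s (Subgroup.le_normalizer hs), ?_⟩
      rw [CfsgLib.Fusion.autFun_conjAut _ (CfsgLib.Fusion.hyperfocal_le_S hx), hfs]
  have hp := CfsgLib.Fusion.autGroup_isPGroup_of_small_hyperfocal hS hF hsmall
  haveI : Finite (MulAut S) := CfsgLib.Fusion.finite_mulAut
  obtain ⟨-, hi⟩ := (CfsgLib.Fusion.isFullyAutomized_iff hS).1
    (CfsgLib.Fusion.IsSaturated.automized_receptive hS hF CfsgLib.Fusion.isFullyNormalized_self).1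
  have hle : F.autGroup S ≤ Cfsg.autInducedBy S S := by
    obtain ⟨k, hk⟩ := hp.index ((Cfsg.autInducedBy S S).subgroupOf (F.autGroup S))
    refine Subgroup.relIndex_eq_one.1 (hk.trans ?_)
    rcases Nat.eq_zero_or_pos k with rfl | hk0
    · rfl
    · exact absurd ((dvd_pow_self p hk0.ne').trans (dvd_of_eq hk.symm)) hi
  intro P
  refine Set.Subset.antisymm (fun φ hφ => ?_) fun φ ⟨hP, g, hg, hge⟩ => ?_
  · obtain ⟨f, hf, hfφ, hfS⟩ :=
      (CfsgLib.Fusion.isNormal_iff.1 hN).2 P _ (CfsgLib.Fusion.isMap_toFun hφ)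
    have hP := (F.le_of_mem hφ).1
    have hfS' := hf.mono (le_sup_right : S ≤ P ⊔ S)
    obtain ⟨g, hg, hge⟩ := CfsgLib.Fusion.mem_autInducedBy_iff.1
      (hle (CfsgLib.Fusion.autOf_mem hfS' hfS))
    refine ⟨hP, g, hg, fun x => ?_⟩
    rw [← CfsgLib.Fusion.toFun_coe φ x, ← hfφ x x.2, ← hge x (hP x.2),
      CfsgLib.Fusion.autFun_autOf hfS' hfS (hP x.2)]
  · exact CfsgLib.Fusion.mem_hom_iff.2 ((CfsgLib.Fusion.isMap_conj hP hg).congr fun x hx => by
      rw [CfsgLib.Fusion.toFun_apply φ hx]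
      exact hge ⟨x, hx⟩)

end Cfsg.Agent.S5298
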