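import Cfsg.Statements.S5299
import Cfsg.Agent.Lib.Fusion.Sylow

set_option autoImplicit false
universe u
open Cfsg

namespace Cfsg.Agent.S5299

/-- Let F be a saturated fusion system over a finite p-group S, H a finite group and Q a p-subgroup of H. If Q is not involved in S (no section of S is isomorphic to Q), then F is H-free: H is involved in no model of the normalizer system of a fully normalized centric subgroup. -/
theorem result {Ω : Type u} [Group Ω] {S : Subgroup Ω} [Finite S] (p : ℕ) [Fact p.Prime] (hS : IsPGroup p S)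
    (F : Cfsg.FusionSystem S) (hF : F.IsSaturated p) (H : Type*) [Group H] [Finite H] (Q : Subgroup H) (hQ : IsPGroup p Q)
    (hfree : ¬ Cfsg.Involves (↥Q) (↥S)) : F.IsSectionFree p H := by
  intro R hRn hRc N hN L _ ι hmodel hinv
  obtain ⟨hfin, hr, ⟨T0, hT0⟩, -⟩ := hmodel
  obtain ⟨K, R0, hn, ⟨e⟩⟩ := hinv
  apply hfree
  let f : K →* H := e.toMonoidHom.comp (QuotientGroup.mk' (R0.subgroupOf K))
  have hf : Function.Surjective f := e.surjective.comp (QuotientGroup.mk'_surjective _)
  let KQ : Subgroup K := Q.comap f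
  let fQ : KQ →* Q := f.subgroupComap Q
  have hfQ : Function.Surjective fQ := fun q => by
    obtain ⟨k, hk⟩ := hf q
    exact ⟨⟨k, show f k ∈ Q by rw [hk]; exact q.2⟩, Subtype.ext hk⟩
  obtain ⟨T⟩ := (inferInstance : Nonempty (Sylow p KQ))
  have hTQ : (T : Subgroup KQ).map fQ = ⊤ := by
    have h := (T.mapSurjective hfQ).not_dvd_index
    rw [Sylow.coe_mapSurjective] at h
    obtain ⟨n, hn'⟩ := hQ.exists_card_eq
    obtain ⟨k, -, hk⟩ := (Nat.dvd_prime_pow Fact.out).1 (hn' ▸ Subgroup.index_dvd_card ((T : Subgroup KQ).map fQ))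
    rcases Nat.eq_zero_or_pos k with rfl | hk0
    · exact Subgroup.index_eq_one.1 (by rw [hk, pow_zero])
    · exact absurd (hk.symm ▸ dvd_pow_self p hk0.ne') h
  let TL : Subgroup L := (T : Subgroup KQ).map (K.subtype.comp KQ.subtype)
  obtain ⟨T1, hT1⟩ := (T.2.map (K.subtype.comp KQ.subtype)).exists_le_sylow
  obtain ⟨c, hc⟩ := MulAction.exists_smul_eq L T1 T0
  have hcR : ∀ t : (T : Subgroup KQ), MulAut.conj c ((((t : KQ) : K) : L)) ∈ ι.range := fun t => by
    rw [← hT0, ← hc]
    exact ⟨_, hT1 ⟨t, t.2, rfl⟩, rfl⟩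
  let j : (T : Subgroup KQ) →* ι.range :=
    ((MulAut.conj c).toMonoidHom.comp ((K.subtype.comp KQ.subtype).comp (T : Subgroup KQ).subtype)).codRestrict ι.range hcR
  let j' : (T : Subgroup KQ) →* S :=
    (Subgroup.inclusion (inf_le_left : Cfsg.FusionSystem.normalizerIn S R ≤ S)).comp
      ((MonoidHom.ofInjective hr.1).symm.toMonoidHom.comp j)
  have hj : Function.Injective j' := by
    intro a b h
    have h1 : j a = j b := (MonoidHom.ofInjective hr.1).symm.injective
      (Subgroup.inclusion_injective (inf_le_left : Cfsg.FusionSystem.normalizerIn S R ≤ S) h)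
    exact Subtype.ext (Subtype.ext (Subtype.ext ((MulAut.conj c).injective (congrArg Subtype.val h1))))
  let g : j'.range →* Q := (fQ.comp (T : Subgroup KQ).subtype).comp (MonoidHom.ofInjective hj).symm.toMonoidHom
  have hg : Function.Surjective g := fun q => by
    obtain ⟨t, ht, rfl⟩ := Subgroup.mem_map.1 (hTQ ▸ Subgroup.mem_top q : q ∈ (T : Subgroup KQ).map fQ)
    refine ⟨MonoidHom.ofInjective hj ⟨t, ht⟩, ?_⟩
    show fQ ((MonoidHom.ofInjective hj).symm (MonoidHom.ofInjective hj ⟨t, ht⟩) : (T : Subgroup KQ)) = fQ t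
    rw [MulEquiv.symm_apply_apply]
  have e2 : (g.ker.map j'.range.subtype).subgroupOf j'.range = g.ker :=
    Subgroup.comap_map_eq_self_of_injective j'.range.subtype_injective _
  haveI hnorm : ((g.ker.map j'.range.subtype).subgroupOf j'.range).Normal := e2.symm ▸ g.normal_ker
  refine ⟨j'.range, g.ker.map j'.range.subtype, hnorm, ⟨?_⟩⟩
  exact (QuotientGroup.quotientMulEquivOfEq e2).trans (QuotientGroup.quotientKerEquivOfSurjective g hg)

end Cfsg.Agent.S5299
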