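import Cfsg.Statements.S5300
import Cfsg.Agent.Lib.PGroup.SmallExpAut
import Cfsg.Agent.Lib.Fusion.System.TransferApps
import Cfsg.Agent.Lib.Fusion.System.SeriesNormal

set_option autoImplicit false
universe u
open Cfsg

namespace Cfsg.Agent.S5300

/-- Let F be a saturated fusion system over a finite p-group S. If every cyclic subgroup of the focal subgroup of F of order p (of order 2 or 4 when p = 2) is normal in S, then S is normal in F. -/
theorem result {Ω : Type u} [Group Ω] {S : Subgroup Ω} [Finite S] (p : ℕ) [Fact p.Prime] (hS : IsPGroup p S)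
    (F : Cfsg.FusionSystem S) (hF : F.IsSaturated p)
    (hnorm : ∀ x ∈ F.focalSubgroup, (x ^ p = 1 ∨ (p = 2 ∧ x ^ 4 = 1)) → ∀ s ∈ S, s * x * s⁻¹ ∈ Subgroup.zpowers x) :
    F.IsNormal S := by
  classical
  have hfoc : F.StronglyClosed F.focalSubgroup := CfsgLib.Fusion.stronglyClosed_iff.2
    ⟨CfsgLib.Fusion.focal_le_S, fun R f hR hf x hx => by
      have h := mul_mem (hR hx) (CfsgLib.Fusion.map_mem_focal hf hx)
      rwa [mul_inv_cancel_left] at h⟩
  refine CfsgLib.Fusion.isNormal_of_stronglyClosed_le hS hF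
    (CfsgLib.Fusion.stronglyClosed_iff.2 ⟨le_rfl, fun R f _ hf x hx => hf.mem_S hx⟩) fun P hP => ?_
  obtain ⟨hc, hr⟩ := CfsgLib.Fusion.isEssential_centric_radical hS hP
  have hPS := hc.1
  haveI : Finite P := CfsgLib.Fusion.finite_of_le hPS
  haveI : Finite (MulAut P) := CfsgLib.Fusion.finite_mulAut
  set D := P ⊓ F.focalSubgroup with hD
  set e := CfsgLib.PGroup.smallExp p with he
  have hDinv : ∀ a ∈ F.autGroup P, ∀ x ∈ D, CfsgLib.Fusion.autFun a x ∈ D := fun a ha x hx =>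
    CfsgLib.Fusion.autInvariant_of_stronglyClosed hfoc hPS ha hx
  have hzpow : ∀ (a : MulAut P) (x : Ω) (hx : x ∈ P) (k : ℤ),
      CfsgLib.Fusion.autFun a (x ^ k) = CfsgLib.Fusion.autFun a x ^ k := fun a x hx k => by
    rw [CfsgLib.Fusion.autFun_apply a (P.zpow_mem hx k), CfsgLib.Fusion.autFun_apply a hx,
      ← Subgroup.coe_zpow, ← map_zpow]
    rfl
  let Good : MulAut P → Prop := fun g => ∀ x ∈ D, x ^ e = 1 →
    (∃ k : ℤ, CfsgLib.Fusion.autFun g x = x ^ k) ∧ (x ^ p = 1 → CfsgLib.Fusion.autFun g x = x)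
  have hone : Good 1 := fun x hx _ =>
    ⟨⟨1, by rw [CfsgLib.Fusion.autFun_one hx.1, zpow_one]⟩,
      fun _ => CfsgLib.Fusion.autFun_one hx.1⟩
  have hmul : ∀ g g', Good g → Good g' → Good (g * g') := by
    intro g g' hg hg' x hx hxe
    obtain ⟨⟨k, hk⟩, hk'⟩ := hg' x hx hxe
    obtain ⟨⟨j, hj⟩, hj'⟩ := hg x hx hxe
    rw [CfsgLib.Fusion.autFun_mul _ _ hx.1]
    refine ⟨⟨j * k, ?_⟩, fun hxp => by rw [hk' hxp, hj' hxp]⟩
    rw [hk, hzpow g x hx.1, hj, zpow_mul]
  let K : Subgroup (F.autGroup P) :=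
    { carrier := {g | Good (g : MulAut P)}
      one_mem' := hone
      mul_mem' := fun {a b} ha hb => hmul _ _ ha hb
      inv_mem' := fun {a} ha => by
        have hpow : ∀ n : ℕ, Good ((a : MulAut P) ^ n) := fun n => by
          induction n with
          | zero => rw [pow_zero]; exact hone
          | succ n ih => rw [pow_succ]; exact hmul _ _ ih ha
        have h1 : ((a⁻¹ : F.autGroup P) : MulAut P) =
            (a : MulAut P) ^ (orderOf (a : MulAut P) - 1) := by
          rw [Subgroup.coe_inv]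
          refine inv_eq_of_mul_eq_one_right ?_
          rw [← pow_succ', Nat.sub_add_cancel (orderOf_pos _), pow_orderOf_eq_one]
        show Good _
        rw [h1]
        exact hpow _ }
  have hKn : K.Normal := ⟨fun g hg a x hx hxe => by
    set y := CfsgLib.Fusion.autFun (a : MulAut P)⁻¹ x with hy
    have hyD : y ∈ D := hDinv _ (inv_mem a.2) x hx
    have hye : ∀ n : ℕ, x ^ n = 1 → y ^ n = 1 := fun n hn => by
      have h1 := hzpow (a : MulAut P)⁻¹ x hx.1 n
      rw [zpow_natCast, zpow_natCast, hn, CfsgLib.Fusion.autFun_map_one] at h1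
      exact h1.symm
    obtain ⟨⟨k, hk⟩, hk'⟩ := hg y hyD (hye e hxe)
    have hback : CfsgLib.Fusion.autFun (a : MulAut P) y = x := by
      rw [hy, ← CfsgLib.Fusion.autFun_mul _ _ hx.1, mul_inv_cancel, CfsgLib.Fusion.autFun_one hx.1]
    have hval : CfsgLib.Fusion.autFun ((a * g * a⁻¹ : F.autGroup P) : MulAut P) x =
        CfsgLib.Fusion.autFun (a : MulAut P) (CfsgLib.Fusion.autFun (g : MulAut P) y) := by
      rw [Subgroup.coe_mul, Subgroup.coe_mul, Subgroup.coe_inv,
        CfsgLib.Fusion.autFun_mul _ _ hx.1,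
        CfsgLib.Fusion.autFun_mul _ _ (CfsgLib.Fusion.autFun_mem _ hx.1)]
    refine ⟨⟨k, ?_⟩, fun hxp => ?_⟩
    · rw [hval, hk, hzpow _ y hyD.1, hback]
    · rw [hval, hk' (hye p hxp), hback]⟩
  obtain ⟨m, hm⟩ := IsPGroup.iff_card.1 hS
  have hKp : IsPGroup p K := by
    intro g
    obtain ⟨i, q, hq, hord⟩ := Nat.exists_eq_pow_mul_and_not_dvd (orderOf_pos g).ne' p
      (Fact.out : p.Prime).ne_one
    refine ⟨i, ?_⟩
    set t : K := g ^ p ^ i with ht
    have htq : t ^ q = 1 := by rw [ht, ← pow_mul, ← hord, pow_orderOf_eq_one]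
    set h' : MulAut P := ((t : F.autGroup P) : MulAut P)
    have hq' : h' ^ q = 1 := by
      have := congrArg (fun z : K => ((z : F.autGroup P) : MulAut P)) htq
      simpa using this
    have hh'o : ¬ p ∣ orderOf h' := fun hd => hq (hd.trans (orderOf_dvd_of_pow_eq_one hq'))
    have hh'F : h' ∈ F.autGroup P := (t : F.autGroup P).2
    -- it fixes the small elements of `D`
    have hfix : ∀ x ∈ D, x ^ e = 1 → CfsgLib.Fusion.autFun h' x = x := by
      intro x hx hxe
      by_cases hxp : x ^ p = 1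
      · exact (t.2 x hx hxe).2 hxp
      obtain ⟨k, hk⟩ := (t.2 x hx hxe).1
      have hp2 : p = 2 := by
        by_contra hp2
        rw [he, CfsgLib.PGroup.smallExp, if_neg hp2] at hxe
        exact hxp hxe
      have he4 : e = 4 := by rw [he, CfsgLib.PGroup.smallExp, if_pos hp2]
      rw [he4] at hxe
      rw [hp2] at hxp
      have ho : orderOf x = 4 := orderOf_eq_prime_pow (p := 2) (n := 1) (by simpa using hxp)
        (by simpa using hxe)
      have hkodd : ¬ (2 : ℤ) ∣ k := by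
        rintro ⟨l, rfl⟩
        have h1 : CfsgLib.Fusion.autFun h' (x ^ (2 : ℤ)) = 1 := by
          rw [hzpow _ x hx.1, hk, ← zpow_mul, show (2 * l : ℤ) * 2 = 4 * l by ring, zpow_mul,
            show x ^ (4 : ℤ) = 1 by rw [show (4 : ℤ) = ((4 : ℕ) : ℤ) by rfl, zpow_natCast, hxe],
            one_zpow]
        have h2 := congrArg (CfsgLib.Fusion.autFun h'⁻¹) h1
        rw [← CfsgLib.Fusion.autFun_mul _ _ (P.zpow_mem hx.1 2), inv_mul_cancel,
          CfsgLib.Fusion.autFun_one (P.zpow_mem hx.1 2), CfsgLib.Fusion.autFun_map_one] at h2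
        exact hxp (by rw [← zpow_natCast]; exact h2)
      have h2fix : CfsgLib.Fusion.autFun (h' ^ 2) x = x := by
        rw [pow_two, CfsgLib.Fusion.autFun_mul _ _ hx.1, hk, hzpow _ x hx.1, hk, ← zpow_mul]
        conv_rhs => rw [← zpow_one x]
        rw [zpow_eq_zpow_iff_modEq, ho]
        obtain ⟨l, rfl⟩ : ∃ l, k = 2 * l + 1 := ⟨k / 2, by omega⟩
        exact Int.modEq_iff_dvd.2 ⟨-(l * l + l), by push_cast; ring⟩
      have hpow2 : ∀ l : ℕ, CfsgLib.Fusion.autFun ((h' ^ 2) ^ l) x = x := fun l => by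
        induction l with
        | zero => rw [pow_zero, CfsgLib.Fusion.autFun_one hx.1]
        | succ l ih => rw [pow_succ, CfsgLib.Fusion.autFun_mul _ _ hx.1, h2fix, ih]
      obtain ⟨l, hl⟩ : Odd q := Nat.odd_iff.2 (Nat.two_dvd_ne_zero.1 (hp2 ▸ hq))
      have h3 := hq'
      rw [hl, pow_succ', pow_mul] at h3
      calc CfsgLib.Fusion.autFun h' x
          = CfsgLib.Fusion.autFun h' (CfsgLib.Fusion.autFun ((h' ^ 2) ^ l) x) := by rw [hpow2 l]
        _ = x := by rw [← CfsgLib.Fusion.autFun_mul _ _ hx.1, h3, CfsgLib.Fusion.autFun_one hx.1]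
    -- hence all of `D`
    haveI : Finite D := CfsgLib.Fusion.finite_of_le (inf_le_left.trans hPS)
    have hDD : ∀ x ∈ D, CfsgLib.Fusion.autFun h' x ∈ D := hDinv h' hh'F
    have hDfix : ∀ x ∈ D, CfsgLib.Fusion.autFun h' x = x := by
      have hDm := ((CfsgLib.Fusion.mem_autGroup_iff hPS).1 hh'F).mono (inf_le_left : D ≤ P)
      have hDi : CfsgLib.Fusion.img D (CfsgLib.Fusion.autFun h') = D :=
        CfsgLib.Fusion.img_eq_of_map_le (inf_le_left.trans hPS) hDm le_rfl hDD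
      set γ := CfsgLib.Fusion.autOf hDm hDi
      have hγ : ∀ x ∈ D, CfsgLib.Fusion.autFun γ x = CfsgLib.Fusion.autFun h' x :=
        fun x hx => CfsgLib.Fusion.autFun_autOf hDm hDi hx
      haveI : Finite (MulAut D) := CfsgLib.Fusion.finite_mulAut
      have hγo : ¬ p ∣ orderOf γ := fun hd => hq (hd.trans (orderOf_dvd_of_pow_eq_one
        (CfsgLib.Fusion.autFun_ext fun x hx => by
          rw [← CfsgLib.Fusion.autFun_pow_eq le_rfl (fun y hy => rfl) q x hx]
          have h1 := (CfsgLib.Fusion.autFun_pow_eq (inf_le_left : D ≤ P) (α := γ) (γ := h')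
            (fun y hy => (hγ y hy).symm) q x hx).symm
          rw [h1, hq', CfsgLib.Fusion.autFun_one hx.1, CfsgLib.Fusion.autFun_one hx])))
      have hγ1 := CfsgLib.PGroup.mulAut_eq_one_of_fix_smallExp
        (hS.to_le (inf_le_left.trans hPS)) γ hγo fun x hx => Subtype.ext (by
          rw [← CfsgLib.Fusion.autFun_coe, hγ x x.2, hfix x x.2 (congrArg Subtype.val hx)])
      intro x hx
      rw [← hγ x hx, hγ1, CfsgLib.Fusion.autFun_one hx]
    have hstep : h' ^ p ^ m = 1 := CfsgLib.Fusion.autFun_ext fun x hx => by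
      rw [CfsgLib.Fusion.autFun_one hx]
      exact CfsgLib.Fusion.pow_fix_step hPS hm le_rfl (inf_le_left : D ≤ P) hDfix
        (fun y hy => ⟨P.mul_mem (P.inv_mem hy) (CfsgLib.Fusion.autFun_mem h' hy),
          CfsgLib.Fusion.map_mem_focal ((CfsgLib.Fusion.mem_autGroup_iff hPS).1 hh'F) hy⟩) x hx
    have h1 : orderOf h' = 1 := Nat.eq_one_of_dvd_coprimes
      (Nat.Coprime.pow_left m ((Fact.out : p.Prime).coprime_iff_not_dvd.2 hh'o))
      (orderOf_dvd_of_pow_eq_one hstep) dvd_rfl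
    exact Subtype.ext (Subtype.ext (orderOf_eq_one_iff.1 h1))
  refine CfsgLib.Fusion.le_of_conjAut_mem_pCore hS le_rfl
    (CfsgLib.Fusion.le_normalizerIn le_rfl) hc hr
    fun s hsP hsS hm' => CfsgLib.Coprime.le_pCore (hN := hKn) hKp ?_
  intro x hx hxe
  show (∃ k : ℤ, CfsgLib.Fusion.autFun (CfsgLib.Fusion.conjAut s hsP) x = x ^ k) ∧ _
  have hsmall : x ^ p = 1 ∨ (p = 2 ∧ x ^ 4 = 1) := by
    rw [he, CfsgLib.PGroup.smallExp] at hxe
    split_ifs at hxe with hp2
    · exact Or.inr ⟨hp2, hxe⟩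
    · exact Or.inl hxe
  obtain ⟨k, hk⟩ := Subgroup.mem_zpowers_iff.1 (hnorm x hx.2 hsmall s hsS)
  rw [CfsgLib.Fusion.autFun_conjAut hsP hx.1]
  refine ⟨⟨k, hk.symm⟩, fun hxp => ?_⟩
  obtain ⟨j, hj⟩ := hS ⟨s, hsS⟩
  have hj' : s ^ p ^ j = 1 := congrArg Subtype.val hj
  have hiter : ∀ n : ℕ, s ^ n * x * (s ^ n)⁻¹ = x ^ k ^ n := by
    intro n
    induction n with
    | zero => simp
    | succ n ih =>
      rw [pow_succ', show s * s ^ n * x * (s * s ^ n)⁻¹ = s * (s ^ n * x * (s ^ n)⁻¹) * s⁻¹ by group,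
        ih, ← conj_zpow, ← hk, ← zpow_mul, ← pow_succ']
  have h1 := hiter (p ^ j)
  rw [hj', one_mul, inv_one, mul_one] at h1
  by_cases hx1 : x = 1
  · subst hx1; group
  have ho : orderOf x = p := orderOf_eq_prime hxp hx1
  rw [← hk]
  conv_rhs => rw [← zpow_one x]
  conv_lhs at h1 => rw [← zpow_one x]
  rw [zpow_eq_zpow_iff_modEq, ho, ← ZMod.intCast_eq_intCast_iff] at h1 ⊢
  push_cast at h1 ⊢
  rw [ZMod.pow_card_pow] at h1
  exact h1.symm

end Cfsg.Agent.S5300
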