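import Cfsg.Statements.S5301
import Cfsg.Agent.Lib.Fusion.System.ChainInner

set_option autoImplicit false
universe u
open Cfsg

namespace Cfsg.Agent.S5301

/-- Let F be a saturated fusion system over a finite p-group S. If for every subgroup P of S that is fully normalized, centric and radical in F the automorphism group that F induces on P has a normal Sylow p-subgroup, then S is normal in F. -/
theorem result {Ω : Type u} [Group Ω] {S : Subgroup Ω} [Finite S] (p : ℕ) [Fact p.Prime] (hS : IsPGroup p S)
    (F : Cfsg.FusionSystem S) (hF : F.IsSaturated p)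
    (hcl : ∀ P : Subgroup Ω, F.IsFullyNormalized P → F.IsCentric P → F.IsRadical p P →
      ∃ R : Sylow p ↥(F.autGroup P), (R : Subgroup ↥(F.autGroup P)).Normal) :
    F.IsNormal S := by
  refine CfsgLib.Fusion.isNormal_of_invariant hS hF le_rfl fun P hP => ?_
  rcases hP with rfl | hP
  · exact ⟨le_rfl, fun α _ => CfsgLib.Fusion.img_autFun α⟩
  · exfalso
    obtain ⟨hc, hn, hI, E, hE⟩ := hP
    obtain ⟨R, hR⟩ := hcl P hn hc (CfsgLib.Fusion.isRadical_of_isEssential hS ⟨hc, hn, hI, E, hE⟩)
    haveI := CfsgLib.Fusion.finite_of_le hn.1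
    haveI := CfsgLib.Fusion.finite_mulAut (P := P)
    exact CfsgLib.Fusion.not_embedded_of_normal_sylow R hE

end Cfsg.Agent.S5301
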