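import Cfsg.Statements.S5306
import Cfsg.Agent.Lib.Fusion.Thompson
import Cfsg.Agent.Lib.Fusion.Sylow

set_option autoImplicit false
open Cfsg

namespace Cfsg.Agent.S5306

/-- Let P be a Sylow p-subgroup of the finite group X and J = J(P) its Thompson subgroup (generated by the elementary abelian subgroups of P of largest order). If x and y lie in the centre of J and y = g x g⁻¹ for some g in X, then y = n x n⁻¹ for some n in the normalizer N_X(J). -/
theorem result {X : Type*} [Group X] [Finite X] (p : ℕ) [Fact p.Prime] (P : Sylow p X) (J : Subgroup X) (hJ : J = Cfsg.thompsonSubgroupOf p (P : Subgroup X))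
    (x y : X) (hx : x ∈ J ∧ ∀ j ∈ J, Commute j x) (hy : y ∈ J ∧ ∀ j ∈ J, Commute j y) (g : X) (hg : g * x * g⁻¹ = y) :
    ∃ n ∈ Subgroup.normalizer (J : Set X), n * x * n⁻¹ = y := by
  have key : ∀ c : X, CfsgLib.Fusion.conjBy c J ≤ (P : Subgroup X) → CfsgLib.Fusion.conjBy c J = J := by
    intro c hc
    refine CfsgLib.Fusion.conjBy_eq_of_le ?_
    subst hJ
    rw [CfsgLib.Fusion.conjBy, Subgroup.map_le_iff_le_comap]
    conv_lhs => rw [CfsgLib.Fusion.thompsonSubgroupOf_eq]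
    refine sSup_le fun A hA => ?_
    rw [← Subgroup.map_le_iff_le_comap]
    refine CfsgLib.Fusion.le_thompsonSubgroupOf ⟨le_trans (CfsgLib.Fusion.conjBy_mono (CfsgLib.Fusion.le_thompsonSubgroupOf hA)) hc,
      CfsgLib.Fusion.isElementaryAbelian_map _ hA.2.1, fun B hB hBe => ?_⟩
    exact (hA.2.2 B hB hBe).trans (CfsgLib.Fusion.card_conjBy c A).ge
  have hJP : J ≤ (P : Subgroup X) := hJ.le.trans (CfsgLib.Fusion.thompsonSubgroupOf_le _)
  set C := Subgroup.centralizer ({x} : Set X) with hC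
  have hmemC : ∀ z : X, z ∈ C ↔ z * x = x * z := fun z => Subgroup.mem_centralizer_singleton_iff
  have h1 : J ≤ C := fun j hj => (hmemC j).2 (hx.2 j hj).eq
  have h2 : CfsgLib.Fusion.conjBy g⁻¹ J ≤ C := CfsgLib.Fusion.conjBy_le_iff.2 fun j hj => (hmemC _).2 (by
    have e : x = g⁻¹ * y * g := by rw [← hg]; group
    have e2 : j * y = y * j := (hy.2 j hj).eq
    rw [e, show g⁻¹ * j * g⁻¹⁻¹ * (g⁻¹ * y * g) = g⁻¹ * (j * y) * g by group, e2]
    group)
  have hJp : IsPGroup p J := P.2.to_le hJP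
  obtain ⟨T, hJT, hTC, hTp, hTi⟩ := CfsgLib.Fusion.exists_le_not_dvd_relIndex hJp h1
  obtain ⟨h, hh, hle⟩ := CfsgLib.Fusion.exists_conj_le_of_not_dvd_relIndex hTp hTC hTi
    (CfsgLib.Fusion.isPGroup_conjBy _ hJp) h2
  obtain ⟨P1, hP1⟩ := hTp.exists_le_sylow
  obtain ⟨b, hb⟩ := MulAction.exists_smul_eq X P1 P
  have hbP : CfsgLib.Fusion.conjBy b (P1 : Subgroup X) = P := by rw [← hb]; rfl
  have e1 := key b ((CfsgLib.Fusion.conjBy_mono (hJT.trans hP1)).trans hbP.le)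
  have e2 := key (b * (h * g⁻¹)) (by
    rw [← CfsgLib.Fusion.conjBy_conjBy, ← CfsgLib.Fusion.conjBy_conjBy (g := h)]
    exact (CfsgLib.Fusion.conjBy_mono (hle.trans hP1)).trans hbP.le)
  have hn : h * g⁻¹ ∈ Subgroup.normalizer (J : Set X) := by
    have hbN := CfsgLib.Fusion.conjBy_eq_iff.1 e1
    have h2N := CfsgLib.Fusion.conjBy_eq_iff.1 e2
    simpa using mul_mem (inv_mem hbN) h2N
  refine ⟨(h * g⁻¹)⁻¹, inv_mem hn, ?_⟩
  have e3 : h * x = x * h := (hmemC h).1 hh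
  have e4 : x = h * x * h⁻¹ := by rw [e3, mul_inv_cancel_right]
  calc (h * g⁻¹)⁻¹ * x * (h * g⁻¹)⁻¹⁻¹ = (h * g⁻¹)⁻¹ * (h * x * h⁻¹) * (h * g⁻¹)⁻¹⁻¹ := by rw [← e4]
    _ = g * x * g⁻¹ := by group
    _ = y := hg

end Cfsg.Agent.S5306
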