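import Cfsg.Statements.S5311
import Cfsg.Agent.Lib.Fusion.System.TransportComponent
-- import your own Cfsg.Agent.* helpers here

set_option autoImplicit false
open Cfsg

namespace Cfsg.Agent.S5311

open CfsgLib.Fusion CfsgLib.Fusion.Transport

/-- The layer of a saturated fusion system F over a finite p-group S is characteristic in F: for every automorphism α of S that is an automorphism of F (α and its inverse are morphisms from F to F) and every layer E of F over T, α carries T onto T and, for every map φ of E with source P, the map induced by α on α(P) (that is, α ∘ φ ∘ α⁻¹) is a map of E. -/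
theorem result {Ω : Type*} [Group Ω] {S : Subgroup Ω} [Finite S] (p : ℕ) [Fact p.Prime] (hS : IsPGroup p S) (F : Cfsg.FusionSystem S) (hF : F.IsSaturated p)
    (α : ↥S ≃* ↥S) (hα : F.IsMorphism F (S.subtype.comp α.toMonoidHom))
    (hα' : F.IsMorphism F (S.subtype.comp α.symm.toMonoidHom))
    {T : Subgroup Ω} (E : Cfsg.FusionSystem T) (hE : E.IsLayerOf F p) :
    Cfsg.FusionSystem.imageAlong (S.subtype.comp α.toMonoidHom) T = T ∧
      ∀ (P : Subgroup Ω) (φ : ↥P →* Ω), φ ∈ E.Hom P →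
        ∀ φ' : ↥(Cfsg.FusionSystem.imageAlong (S.subtype.comp α.toMonoidHom) P) →* Ω,
          Cfsg.FusionSystem.InducedAlong (S.subtype.comp α.toMonoidHom) φ φ' →
            φ' ∈ E.Hom (Cfsg.FusionSystem.imageAlong (S.subtype.comp α.toMonoidHom) P) := by
  set θ := S.subtype.comp α.toMonoidHom with hθ
  set θ' := S.subtype.comp α.symm.toMonoidHom with hθ'
  set e := toFun θ
  set e' := toFun θ'
  have he : ∀ x : S, e x = ((α x : S) : Ω) := fun x => toFun_coe θ x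
  have he' : ∀ x : S, e' x = ((α.symm x : S) : Ω) := fun x => toFun_coe θ' x
  have g : GIso S S e e' := by
    refine ⟨fun x hx => ?_, fun y hy => ?_, fun x hx => ?_, fun y hy => ?_, fun x hx y hy => ?_⟩
    · rw [he ⟨x, hx⟩]; exact SetLike.coe_mem _
    · rw [he' ⟨y, hy⟩]; exact SetLike.coe_mem _
    · rw [he ⟨x, hx⟩, he']; simp
    · rw [he' ⟨y, hy⟩, he]; simp
    · rw [he ⟨x, hx⟩, he ⟨y, hy⟩, he ⟨x * y, mul_mem hx hy⟩]
      exact congrArg Subtype.val (map_mul α ⟨x, hx⟩ ⟨y, hy⟩)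
  have him : ∀ {f f' : Ω → Ω} (k : GIso S S f f') (τ : ↥S →* Ω), (∀ x : S, τ x = f x) →
      ∀ P ≤ S, Cfsg.FusionSystem.imageAlong τ P = im f P := by
    intro f f' k τ hτ P hP
    rw [show τ = k.toHom from MonoidHom.ext hτ, k.imageAlong_toHom hP]
  have key : ∀ {f f' : Ω → Ω} (k : GIso S S f f') (τ : ↥S →* Ω), (∀ x : S, τ x = f x) →
      F.IsMorphism F τ → ∀ P r, IsMap F P r → IsMap F (im f P) (f ∘ r ∘ f') := by
    intro f f' k τ hτ hm P r hr
    obtain ⟨φ, hφ, hφr⟩ := hr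
    obtain ⟨φ', hφ', hP, hφS, hmem, hall⟩ := hm.2 P φ hφ
    refine him k τ hτ P hP ▸ (isMap_toFun hφ').congr fun y hy => ?_
    rw [him k τ hτ P hP] at hy
    obtain ⟨x, hx, rfl⟩ := (k.mem_im hP).1 hy
    have h1 : τ ⟨x, hP hx⟩ = f x := hτ ⟨x, hP hx⟩
    have hm' : f x ∈ Cfsg.FusionSystem.imageAlong τ P := h1 ▸ hmem ⟨x, hx⟩
    rw [Function.comp_apply, Function.comp_apply, k.left x (hP hx), ← hφr ⟨x, hx⟩,
      toFun_apply φ' hm']
    refine Eq.trans ?_ (((congrArg φ' (Subtype.ext h1.symm)).trans (hall ⟨x, hx⟩))).symm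
    exact (hτ ⟨φ ⟨x, hx⟩, hφS _⟩).symm
  have hI : SysIso F F e e' := ⟨g, key g θ (fun x => (toFun_coe θ x).symm) hα,
    key g.symm θ' (fun x => (toFun_coe θ' x).symm) hα'⟩
  obtain ⟨E₁, h₁, hs₁⟩ := layer_le_image hS hI hE
  obtain ⟨E₂, h₂, hs₂⟩ := layer_le_image hS hI.symm hE
  have hTS : T ≤ S := hE.1.1.2.2.2.1.1
  have hT : im e T = T := le_antisymm
    ((g.im_mono (subsystem_le hs₂)).trans (g.symm.im_im hTS).le) (subsystem_le hs₁)
  refine ⟨(him g θ (fun x => (toFun_coe θ x).symm) T hTS).trans hT, fun P φ hφ φ' hind => ?_⟩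
  obtain ⟨hP, hφS, hmem, hall⟩ := hind
  have h := h₂.bwd P _ (isMap_le_of_subsystem hs₂ (isMap_toFun hφ))
  rw [← him g θ (fun x => (toFun_coe θ x).symm) P hP] at h
  refine mem_hom_of_isMap h fun y => ?_
  obtain ⟨y, s, hs, rfl⟩ := y
  have hsP : (s : Ω) ∈ P := hs
  refine (hall ⟨s, hsP⟩).trans ?_
  show θ ⟨φ ⟨s, hsP⟩, hφS _⟩ = e (toFun φ (e' (θ s)))
  rw [← toFun_coe θ s, g.left _ s.2, toFun_apply φ hsP]
  exact (toFun_coe θ ⟨φ ⟨s, hsP⟩, hφS _⟩).symm

end Cfsg.Agent.S5311
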