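import Cfsg.Statements.S5317
import Cfsg.Agent.Lib.Fusion.System.Invariant
import Cfsg.Agent.Lib.Lie.PSL2Two

set_option autoImplicit false
open Cfsg CfsgLib.Fusion CfsgLib.PSL2Two

namespace Cfsg.Agent.S5317

/-- Let F be a finite field of odd order q with q² ≡ 1 mod 16 (so that a Sylow 2-subgroup of PSL(2,q), dihedral of order the 2-part of (q²−1)/2, has order at least 8). Then the 2-fusion system of PSL(2,F) on a Sylow 2-subgroup is simple: saturated, over a nontrivial 2-group, with no normal subsystem other than the trivial one and itself. -/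
theorem result {F : Type*} [Field F] [Fintype F] (hodd : Fintype.card F % 2 = 1) (h16 : 16 ∣ Fintype.card F ^ 2 - 1)
    (S : Sylow 2 (Matrix.ProjectiveSpecialLinearGroup (Fin 2) F)) :
    (Cfsg.groupFusionSystem (S : Subgroup (Matrix.ProjectiveSpecialLinearGroup (Fin 2) F))).IsSimple 2 := by
  have hT := fun (T : Subgroup (Matrix.ProjectiveSpecialLinearGroup (Fin 2) F)) =>
    @stronglyClosed_iff _ _ (S : Subgroup (Matrix.ProjectiveSpecialLinearGroup (Fin 2) F))
      (groupFusionSystem (S : Subgroup (Matrix.ProjectiveSpecialLinearGroup (Fin 2) F))) T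
  haveI : Fact (Nat.Prime 2) := ⟨Nat.prime_two⟩
  obtain ⟨K, -, hKi, hinv, hex, -⟩ := sylow_structure hodd h16 S
  have hS := S.isPGroup'
  refine ⟨(isSaturated_group S), ?_, ?_⟩
  · intro h
    obtain ⟨x, hx⟩ := hex
    exact hx (by
      rw [show x = 1 from Subtype.ext ((Subgroup.mem_bot).1 (h.le x.2))]; exact one_mem K)
  intro T E hE
  obtain ⟨⟨-, hFsat, hinvE⟩, -⟩ := hE
  by_cases hTb : T = ⊥
  · exact Or.inl hTb
  right
  obtain ⟨hTS, hcl⟩ := (hT T).1 hinvE.2.1
  haveI := Subgroup.nontrivial_iff_ne_bot T |>.2 hTb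
  obtain ⟨t, ht⟩ := exists_prime_orderOf_dvd_card' (G := T) 2 (by
    obtain ⟨k, hk, e⟩ := (hS.to_le hTS).nontrivial_iff_card.1 inferInstance
    rw [e]; exact dvd_pow_self 2 hk.ne')
  have ht1 : (t : Matrix.ProjectiveSpecialLinearGroup (Fin 2) F) ≠ 1 := fun h => by
    rw [orderOf_eq_one_iff.2 (show t = 1 from Subtype.ext h)] at ht; omega
  have ht2 : (t : Matrix.ProjectiveSpecialLinearGroup (Fin 2) F) * t = 1 := by
    have := pow_orderOf_eq_one t
    rw [ht, pow_two] at this
    exact congrArg Subtype.val this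
  obtain ⟨a, hac⟩ := exists_conj_of_involution hodd ht2 ht1
  have hu : ∀ x : (S : Subgroup (Matrix.ProjectiveSpecialLinearGroup (Fin 2) F)), x * x = 1 →
      (x : Matrix.ProjectiveSpecialLinearGroup (Fin 2) F) ∈ T := by
    intro x hx
    by_cases hx1 : (x : Matrix.ProjectiveSpecialLinearGroup (Fin 2) F) = 1
    · rw [hx1]; exact one_mem T
    obtain ⟨b, hbc⟩ := exists_conj_of_involution hodd (congrArg Subtype.val hx) hx1
    have hg : b⁻¹ * a * t * (b⁻¹ * a)⁻¹ = (x : Matrix.ProjectiveSpecialLinearGroup (Fin 2) F) := by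
      rw [show b⁻¹ * a * t * (b⁻¹ * a)⁻¹ = b⁻¹ * (a * t * a⁻¹) * b by group, hac, ← hbc]; group
    have hzS : Subgroup.zpowers (t : Matrix.ProjectiveSpecialLinearGroup (Fin 2) F) ≤ S :=
      Subgroup.zpowers_le.2 (hTS t.2)
    have hm := isMap_group_conj hzS (g := b⁻¹ * a) (by
      refine conjBy_le_iff.2 fun u hu => ?_
      obtain ⟨i, rfl⟩ := Subgroup.mem_zpowers_iff.1 hu
      rw [← conj_zpow, hg]; exact zpow_mem x.2 i)
    have := hcl _ _ (Subgroup.zpowers_le.2 t.2) hm _ (Subgroup.mem_zpowers _)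
    rwa [hg] at this
  have hTeq : T = S := by
    refine le_antisymm hTS fun s hs => ?_
    by_cases hsK : (⟨s, hs⟩ : (S : Subgroup (Matrix.ProjectiveSpecialLinearGroup (Fin 2) F))) ∈ K
    · obtain ⟨x, hx⟩ := hex
      have hxs : x * ⟨s, hs⟩ ∉ K := fun h => hx ((Subgroup.mul_mem_cancel_right K hsK).1 h)
      have h1 := mul_mem (hu x (hinv x hx)) (hu _ (hinv _ hxs))
      rwa [Subgroup.coe_mul, ← mul_assoc, ← Subgroup.coe_mul _ x x, hinv x hx, Subgroup.coe_one,
        one_mul] at h1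
    · exact hu _ (hinv _ hsK)
  refine ⟨hTeq, fun P => ?_⟩
  subst hTeq
  have htop : (groupFusionSystem (S : Subgroup (Matrix.ProjectiveSpecialLinearGroup (Fin 2) F))).autGroup S
      ≤ E.autGroup S := by
    intro α hα
    haveI := finite_mulAut (P := (S : Subgroup (Matrix.ProjectiveSpecialLinearGroup (Fin 2) F)))
    obtain ⟨j, m, hm, hjm⟩ := Nat.exists_eq_pow_mul_and_not_dvd (orderOf_pos α).ne' 2 (by norm_num)
    have hα2 : α ^ 2 ^ j = 1 := aut_sylow_eq_one hodd h16 S (α ^ 2 ^ j) (m := m)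
      (Nat.odd_iff.2 (by omega)) (by rw [← pow_mul, ← hjm, pow_orderOf_eq_one])
    exact pElement_mem_of_invariant hS (isSaturated_group S) hinvE isFullyNormalized_self hα hα2
  refine Set.Subset.antisymm (hinvE.1 P) fun φ hφ => ?_
  obtain ⟨φ', hφ', he⟩ := le_of_invariant hS (isSaturated_group S) hinvE htop (isMap_toFun hφ)
  rwa [show φ = φ' from MonoidHom.ext fun x => by rw [he, toFun_apply φ x.2]]

end Cfsg.Agent.S5317
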