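import Cfsg.Statements.S5331
import Cfsg.Agent.Lib.Fusion.System.AbelianSimple
import Cfsg.Agent.Lib.Fusion.System.Inner
import Cfsg.Agent.Lib.Fusion.System.Aut

set_option autoImplicit false
open Cfsg

namespace Cfsg.Agent.S5331

section Aux

variable {n : ℕ} (a : Fin n → ℕ)

theorem dvd_of_two_mul {m : ℕ} {z : ZMod (2 ^ m)} (hz : 2 • z = 0) {b : ℕ} (hb : b < m) :
    ∃ y : ZMod (2 ^ m), 2 ^ b • y = z := by
  haveI : NeZero (2 ^ m) := ⟨by positivity⟩
  obtain ⟨k, rfl⟩ : ∃ k, m = k + 1 := ⟨m - 1, by omega⟩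
  rw [← ZMod.natCast_zmod_val z, nsmul_eq_mul, ← Nat.cast_mul, ZMod.natCast_eq_zero_iff] at hz
  have hz' : 2 ^ k ∣ z.val := Nat.dvd_of_mul_dvd_mul_left two_pos ((pow_succ' 2 k).symm.dvd.trans hz)
  obtain ⟨c, hc⟩ := (pow_dvd_pow 2 (Nat.lt_succ_iff.1 hb)).trans hz'
  exact ⟨(c : ZMod (2 ^ (k + 1))), by rw [nsmul_eq_mul, ← Nat.cast_mul, ← hc, ZMod.natCast_zmod_val]⟩

theorem eq_of_two_mul {m : ℕ} {z z' : ZMod (2 ^ m)} (hz : 2 • z = 0) (hz' : 2 • z' = 0)
    (h : z ≠ 0) (h' : z' ≠ 0) : z = z' := by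
  haveI : NeZero (2 ^ m) := ⟨by positivity⟩
  obtain ⟨k, rfl⟩ : ∃ k, m = k + 1 := by
    rcases m with _ | k
    · exact absurd (@Subsingleton.elim (ZMod (2 ^ 0)) (by simpa using (inferInstance : Subsingleton (ZMod 1))) z 0) h
    · exact ⟨k, rfl⟩
  have key : ∀ w : ZMod (2 ^ (k + 1)), 2 • w = 0 → w ≠ 0 → w.val = 2 ^ k := by
    intro w hw hw0
    rw [← ZMod.natCast_zmod_val w, nsmul_eq_mul, ← Nat.cast_mul, ZMod.natCast_eq_zero_iff] at hw
    obtain ⟨c, hc⟩ := Nat.dvd_of_mul_dvd_mul_left two_pos ((pow_succ' 2 k).symm.dvd.trans hw)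
    have hlt := ZMod.val_lt w
    have hne : w.val ≠ 0 := fun e => hw0 ((ZMod.val_eq_zero w).1 e)
    rw [hc, pow_succ] at hlt
    have h2 : c < 2 := Nat.lt_of_mul_lt_mul_left hlt
    interval_cases c
    · simp [hc] at hne
    · simpa using hc
  exact ZMod.val_injective _ ((key z hz h).trans (key z' hz' h').symm)

variable (ha : StrictMono a) (f : ((i : Fin n) → ZMod (2 ^ a i)) → ((i : Fin n) → ZMod (2 ^ a i)))
  (hadd : ∀ v w, f (v + w) = f v + f w) {k : ℕ} (hk : Odd k) (hit : f^[k] = id)

include ha hadd hk hit in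
theorem eq_id_of_odd_order : f = id := by
  let F : ((i : Fin n) → ZMod (2 ^ a i)) →+ ((i : Fin n) → ZMod (2 ^ a i)) :=
    AddMonoidHom.mk' f hadd
  have hf0 : f 0 = 0 := F.map_zero
  have hfn : ∀ (m : ℕ) v, f (m • v) = m • f v := fun m v => F.map_nsmul m v
  have hfs : ∀ v w, f (v - w) = f v - f w := F.map_sub
  have hinj : Function.Injective f := by
    obtain ⟨j, rfl⟩ := hk
    have hl : Function.LeftInverse f^[2 * j] f := fun x => by
      show f^[2 * j] (f x) = x
      rw [← Function.iterate_succ_apply]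
      exact congrFun hit x
    exact hl.injective
  -- a fixed difference of order two forces a fixed point
  have hfix : ∀ x v, f x = x + v → f v = v → 2 • v = 0 → v = 0 := by
    intro x v hx hv hv2
    have h : ∀ m : ℕ, f^[m] x = x + m • v := by
      intro m
      induction m with
      | zero => simp
      | succ m ih =>
        rw [Function.iterate_succ_apply', ih, hadd, hfn, hx, hv, add_assoc, succ_nsmul']
    have h0 : k • v = 0 := by
      have := h k
      rw [hit] at this
      exact left_eq_add.1 this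
    obtain ⟨j, rfl⟩ := hk
    rwa [add_nsmul, mul_comm 2 j, mul_nsmul', hv2, smul_zero, zero_add, one_nsmul] at h0
  -- elements of order two are fixed
  have hsoc : ∀ j : ℕ, ∀ x, 2 • x = 0 → (∀ i : Fin n, (i : ℕ) + j < n → x i = 0) → f x = x := by
    intro j
    induction j with
    | zero =>
      intro x _ h0
      rw [show x = 0 from funext fun i => h0 i (by simpa using i.2), hf0]
    | succ j ih =>
      intro x hx h0
      by_cases hlt : ∀ i : Fin n, (i : ℕ) + j < n → x i = 0
      · exact ih x hx hlt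
      push Not at hlt
      obtain ⟨i₀, hi₀, hxi₀⟩ := hlt
      have hi₁ : (i₀ : ℕ) + (j + 1) = n := by
        by_contra hne
        exact hxi₀ (h0 i₀ (by omega))
      have hpos : 1 ≤ a i₀ := by
        by_contra hne
        obtain hz : a i₀ = 0 := by omega
        haveI : Subsingleton (ZMod (2 ^ a i₀)) := by rw [hz, pow_zero]; infer_instance
        exact hxi₀ (Subsingleton.elim _ _)
      have hy : ∀ i, ∃ y : ZMod (2 ^ a i), 2 ^ (a i₀ - 1) • y = x i := by
        intro i
        by_cases hi : (i : ℕ) + (j + 1) < n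
        · exact ⟨0, by rw [smul_zero, h0 i hi]⟩
        · have hle : a i₀ ≤ a i := ha.monotone (Fin.le_def.2 (by omega))
          exact dvd_of_two_mul (congrFun hx i) (by omega)
      choose y hy using hy
      have hxy : x = 2 ^ (a i₀ - 1) • y := funext fun i => (hy i).symm
      have hlow : ∀ i : Fin n, (i : ℕ) + (j + 1) < n → f x i = 0 := by
        intro i hi
        rw [hxy, hfn, Pi.smul_apply, nsmul_eq_mul]
        have hlt' : a i < a i₀ := ha (Fin.lt_def.2 (by omega))
        have hd : (((2 ^ (a i₀ - 1) : ℕ)) : ZMod (2 ^ a i)) = 0 :=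
          (ZMod.natCast_eq_zero_iff _ _).2 (Nat.pow_dvd_pow 2 (by omega))
        rw [hd, zero_mul]
      have hfx2 : 2 • f x = 0 := by rw [← hfn, hx, hf0]
      by_cases hfi : f x i₀ = 0
      · have hfix' := ih (f x) hfx2 fun i hi => by
          by_cases hi' : (i : ℕ) + (j + 1) < n
          · exact hlow i hi'
          · rw [show i = i₀ from Fin.ext (by omega), hfi]
        exact hinj hfix'
      · have hv : f (f x - x) = f x - x := ih _ (by rw [smul_sub, hfx2, hx, sub_zero]) fun i hi => by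
          rw [Pi.sub_apply]
          by_cases hi' : (i : ℕ) + (j + 1) < n
          · rw [hlow i hi', h0 i hi', sub_zero]
          · rw [show i = i₀ from Fin.ext (by omega),
              eq_of_two_mul (congrFun hfx2 i₀) (congrFun hx i₀) hfi hxi₀, sub_self]
        exact sub_eq_zero.1 (hfix x _ (by abel) hv (by rw [smul_sub, hfx2, hx, sub_zero]))
  have hall : ∀ m : ℕ, ∀ x, 2 ^ m • x = 0 → f x = x := by
    intro m
    induction m with
    | zero => intro x hx; rw [pow_zero, one_nsmul] at hx; rw [hx, hf0]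
    | succ m ih =>
      intro x hx
      have h2 : f (2 • x) = 2 • x := ih _ (by rw [← mul_nsmul', ← pow_succ]; exact hx)
      have hv2 : 2 • (f x - x) = 0 := by rw [smul_sub, ← hfn, h2, sub_self]
      have hv : f (f x - x) = f x - x := hsoc n _ hv2 fun i hi => absurd hi (by omega)
      exact sub_eq_zero.1 (hfix x _ (by abel) hv hv2)
  funext x
  refine hall (∑ i, a i) x (funext fun i => ?_)
  rw [Pi.smul_apply, Pi.zero_apply, nsmul_eq_mul]
  have hd : (((2 ^ ∑ i, a i : ℕ)) : ZMod (2 ^ a i)) = 0 := (ZMod.natCast_eq_zero_iff _ _).2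
    (Nat.pow_dvd_pow 2 (Finset.single_le_sum (fun j _ => Nat.zero_le _) (Finset.mem_univ i)))
  rw [hd, zero_mul]

end Aux

/-- Let S be a finite abelian 2-group that is a direct product of cyclic groups of pairwise distinct orders 2^{a_1} < 2^{a_2} < ⋯ < 2^{a_n} (all a_i ≥ 1). Then every saturated fusion system over S is the inner one: its maps are exactly the conjugations by elements of S. -/
theorem result {Ω : Type*} [Group Ω] {S : Subgroup Ω} [Finite S] (n : ℕ) (a : Fin n → ℕ) (ha : StrictMono a) (ha1 : ∀ i, 1 ≤ a i) (e : ↥S ≃* Multiplicative ((i : Fin n) → ZMod (2 ^ a i))) (F : Cfsg.FusionSystem S) (hF : F.IsSaturated 2) (P : Subgroup Ω) : F.Hom P = (Cfsg.innerFusionSystem S).Hom P := by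
  classical
  have hab : ∀ x ∈ S, ∀ y ∈ S, x * y = y * x := fun x hx y hy => by
    have h := e.injective (by rw [map_mul, map_mul, mul_comm] :
      e (⟨x, hx⟩ * ⟨y, hy⟩) = e (⟨y, hy⟩ * ⟨x, hx⟩))
    exact congrArg Subtype.val h
  have hS : IsPGroup 2 S := by
    intro x
    refine ⟨∑ i, a i, e.injective ?_⟩
    rw [map_pow, map_one]
    apply Multiplicative.toAdd.injective
    rw [toAdd_pow, toAdd_one]
    funext i
    have hd : 2 ^ a i ∣ 2 ^ ∑ i, a i :=
      Nat.pow_dvd_pow 2 (Finset.single_le_sum (fun j _ => Nat.zero_le _) (Finset.mem_univ i))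
    rw [Pi.smul_apply, Pi.zero_apply, nsmul_eq_mul,
      (ZMod.natCast_eq_zero_iff _ _).2 hd |> fun h => show ((2 ^ ∑ i, a i : ℕ) : ZMod (2 ^ a i)) = 0 from h,
      zero_mul]
  haveI : Fact (Nat.Prime 2) := ⟨Nat.prime_two⟩
  have hodd : Odd (Nat.card (F.autGroup S)) := by
    have h := CfsgLib.Fusion.coprime_card_autGroup hS hF hab
    rwa [Nat.coprime_two_right] at h
  have htriv : ∀ α ∈ F.autGroup S, α = 1 := by
    intro α hα
    let f : ((i : Fin n) → ZMod (2 ^ a i)) → ((i : Fin n) → ZMod (2 ^ a i)) := fun w =>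
      Multiplicative.toAdd (e (α (e.symm (Multiplicative.ofAdd w))))
    have hadd : ∀ v w, f (v + w) = f v + f w := fun v w => by
      simp only [f, ofAdd_add, map_mul, toAdd_mul]
    have hit : f^[Nat.card (F.autGroup S)] = id := by
      have hk : ∀ k : ℕ, ∀ w, f^[k] w =
          Multiplicative.toAdd (e ((α ^ k) (e.symm (Multiplicative.ofAdd w)))) := by
        intro k
        induction k with
        | zero => intro w; simp
        | succ k ih =>
          intro w
          rw [Function.iterate_succ_apply', ih, pow_succ', MulAut.mul_apply]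
          simp [f]
      funext w
      rw [hk, show α ^ Nat.card (F.autGroup S) = 1 from
        congrArg Subtype.val (pow_card_eq_one' (x := (⟨α, hα⟩ : F.autGroup S)))]
      simp
    have hid := eq_id_of_odd_order a ha f hadd hodd hit
    refine MulEquiv.ext fun x => e.injective (Multiplicative.toAdd.injective ?_)
    have := congrFun hid (Multiplicative.toAdd (e x))
    simpa [f] using this
  have hN := CfsgLib.Fusion.abelian_isNormal_self hS hF hab
  refine CfsgLib.Fusion.isInner_iff.1 (fun P f hf => ⟨1, one_mem _, fun x hx => ?_⟩) P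
  obtain ⟨g, hg, hgf, hgS⟩ := (CfsgLib.Fusion.isNormal_iff.1 hN).2 P f hf
  rw [sup_eq_right.2 hf.le] at hg
  have hmem : CfsgLib.Fusion.autOf hg hgS ∈ F.autGroup S :=
    (CfsgLib.Fusion.mem_autGroup_iff le_rfl).2
      (hg.congr fun y hy => (CfsgLib.Fusion.autFun_autOf hg hgS hy))
  rw [one_mul, inv_one, mul_one, ← hgf x hx, ← CfsgLib.Fusion.autFun_autOf hg hgS (hf.le hx),
    htriv _ hmem, CfsgLib.Fusion.autFun_one (hf.le hx)]

end Cfsg.Agent.S5331
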