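import Cfsg.Statements.S5334
import Cfsg.Agent.Lib.Fusion.System.CentricMaps

set_option autoImplicit false
open Cfsg

namespace Cfsg.Agent.S5334

/-- Let F′ ≤ F be saturated fusion systems over the same finite p-group S, let Q and R be F-centric subgroups, φ a map of F with source Q and values in R, and ψ a map of F with source R. If two of φ, ψ and the composite ψ ∘ φ are maps of F′ then so is the third. -/
theorem result {Ω : Type*} [Group Ω] {S : Subgroup Ω} [Finite S] (p : ℕ) [Fact p.Prime] (hS : IsPGroup p S) (F : Cfsg.FusionSystem S) (hF : F.IsSaturated p) (F' : Cfsg.FusionSystem S) (hF' : F'.IsSaturated p) (hle : F' ≤ F) (Q R : Subgroup Ω) (hQ : F.IsCentric Q) (hR : F.IsCentric R) (φ : ↥Q →* Ω) (hφ : φ ∈ F.Hom Q) (hφR : ∀ x : Q, φ x ∈ R) (ψ : ↥R →* Ω) (hψ : ψ ∈ F.Hom R) : (φ ∈ F'.Hom Q → ψ ∈ F'.Hom R → ψ.comp (φ.codRestrict R hφR) ∈ F'.Hom Q) ∧ (ψ ∈ F'.Hom R → ψ.comp (φ.codRestrict R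 hφR) ∈ F'.Hom Q → φ ∈ F'.Hom Q) ∧ (φ ∈ F'.Hom Q → ψ.comp (φ.codRestrict R hφR) ∈ F'.Hom Q → ψ ∈ F'.Hom R) := by
  exact CfsgLib.Fusion.two_out_of_three hS hF hF' hle hQ φ hφ hφR ψ hψ

end Cfsg.Agent.S5334
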