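import Cfsg.Statements.S5336
import Cfsg.Agent.Lib.Fusion.System.GroupNormalSub

set_option autoImplicit false
open Cfsg

namespace Cfsg.Agent.S5336

/-- Let G be a finite group with Sylow p-subgroup S whose fusion system F_S(G) is simple. If G has no nontrivial normal subgroup of order prime to p and no proper subgroup H containing S induces the same fusion system on S as G does, then G is a simple group. -/
theorem result {G : Type*} [Group G] [Finite G] (p : ℕ) [Fact p.Prime] (S : Sylow p G) (hsimple : (Cfsg.groupFusionSystem (S : Subgroup G)).IsSimple p) (hcore : Cfsg.pPrimeCore p G = ⊥) (hmin : ∀ (H : Subgroup G) (hSH : (S : Subgroup G) ≤ H), H ≠ ⊤ → ∃ P : Subgroup G, (Cfsg.fusionSystemOfSubgroup H (S : Subgroup G) hSH).Hom P ≠ (Cfsg.groupFusionSystem (S : Subgroup G)).Hom P) : IsSimpleGroup G := by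
  obtain ⟨-, hne, hsimp⟩ := hsimple
  obtain ⟨a, -, ha⟩ := Subgroup.ne_bot_iff_exists_ne_one.1 hne |>.elim fun a ha =>
    (⟨(a : G), a.2, fun e => ha (Subtype.ext e)⟩ : ∃ a : G, a ∈ (S : Subgroup G) ∧ a ≠ 1)
  haveI : Nontrivial G := ⟨⟨a, 1, ha⟩⟩
  refine ⟨fun N hN => ?_⟩
  by_contra hcon
  rw [not_or] at hcon
  obtain ⟨h1, h2⟩ := hcon
  haveI := hN
  rcases hsimp _ _ (CfsgLib.Fusion.isNormalIn_of_normal S N) with h | ⟨h, hh⟩
  · refine h1 (le_bot_iff.1 (hcore ▸ ?_))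
    refine le_sSup ⟨hN, ?_⟩
    refine ((Fact.out : p.Prime).coprime_iff_not_dvd.2 fun hd => ?_).symm
    obtain ⟨x, hx⟩ := exists_prime_orderOf_dvd_card' p hd
    have hpx : IsPGroup p (Subgroup.zpowers (x : G)) := IsPGroup.of_card (n := 1)
      (by rw [Nat.card_zpowers, Subgroup.orderOf_coe, hx, pow_one])
    obtain ⟨T, hT⟩ := hpx.exists_le_sylow
    obtain ⟨g, hg⟩ := MulAction.exists_smul_eq G T S
    have hxS : g * (x : G) * g⁻¹ ∈ (S : Subgroup G) := by
      rw [← hg, Sylow.coe_subgroup_smul]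
      exact Subgroup.mem_map.2 ⟨x, hT (Subgroup.mem_zpowers _), rfl⟩
    have hbot : g * (x : G) * g⁻¹ ∈ (⊥ : Subgroup G) := h ▸ ⟨hxS, hN.conj_mem _ x.2 g⟩
    rw [Subgroup.mem_bot, mul_inv_eq_one, mul_eq_left] at hbot
    rw [show x = 1 from Subtype.ext hbot, orderOf_one] at hx
    exact (Fact.out : p.Prime).one_lt.ne hx
  · obtain ⟨P, hP⟩ := hmin N (h ▸ inf_le_right) h2
    refine hP (Eq.trans ?_ (hh P))
    ext φ
    constructor
    · rintro ⟨hPS, hφ, g, hg, he⟩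
      exact ⟨h.symm ▸ hPS, fun x => h.symm ▸ hφ x, g, hg, he⟩
    · rintro ⟨hPS, hφ, g, hg, he⟩
      exact ⟨h ▸ hPS, fun x => h ▸ hφ x, g, hg, he⟩

end Cfsg.Agent.S5336
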