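import Cfsg.Statements.S5337
import Cfsg.Agent.Lib.Fusion.System.AbelianSimple

set_option autoImplicit false
open Cfsg

namespace Cfsg.Agent.S5337

/-- Let F be a saturated fusion system over a finite abelian p-group S. Then F is simple if and only if S has order p and F is the inner system of S (whose only maps are the inclusions, S being abelian). -/
theorem result {Ω : Type*} [Group Ω] {S : Subgroup Ω} [Finite S] (p : ℕ) [Fact p.Prime] (hS : IsPGroup p S) (F : Cfsg.FusionSystem S) (hF : F.IsSaturated p) (hab : ∀ x ∈ S, ∀ y ∈ S, x * y = y * x) : F.IsSimple p ↔ (Nat.card S = p ∧ ∀ P : Subgroup Ω, F.Hom P = (Cfsg.innerFusionSystem S).Hom P) := by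
  exact ⟨CfsgLib.Fusion.simple_abelian hS hF hab,
    fun h => CfsgLib.Fusion.isSimple_of_card_prime hF h.1 h.2⟩

end Cfsg.Agent.S5337
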