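import Cfsg.Statements.S5338
import Cfsg.Agent.Lib.Fusion.System.StrongInvariance

set_option autoImplicit false
open Cfsg

namespace Cfsg.Agent.S5338

/-- Let F be a saturated fusion system over a finite p-group S and F′ ≤ F a saturated subsystem over all of S that is invariant under F in the conjugation sense: for every map φ of F with source Q and every map ψ of F′ between subgroups R ≤ Q (with values in Q), the transported map φψφ⁻¹ defined on φ(R) is again a map of F′. If moreover Aut_{F′}(S) = Aut_F(S), then F′ = F. -/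
theorem result {Ω : Type*} [Group Ω] {S : Subgroup Ω} [Finite S] (p : ℕ) [Fact p.Prime] (hS : IsPGroup p S) (F : Cfsg.FusionSystem S) (hF : F.IsSaturated p) (F' : Cfsg.FusionSystem S) (hF' : F'.IsSaturated p) (hle : F' ≤ F) (hinv : ∀ (Q : Subgroup Ω) (φ : ↥Q →* Ω), φ ∈ F.Hom Q → ∀ (R : Subgroup Ω) (hRQ : R ≤ Q) (ψ : ↥R →* Ω), ψ ∈ F'.Hom R → ∀ (hψQ : ∀ x : R, ψ x ∈ Q), ∃ χ ∈ F'.Hom ((R.subgroupOf Q).map φ), ∀ (x : R) (hx : φ ⟨(x : Ω), hRQ x.2⟩ ∈ (R.subgroupOf Q).map φ), χ ⟨φ ⟨(x : Ω), hRQ x.2⟩, hx⟩ = φ ⟨ψ x, hψQ x⟩) (htop : F'.autGroup S = F.autGroup S) (P : Subgroup Ω) : F'.Hom P = F.Hom P := by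
  exact CfsgLib.Fusion.eq_of_strongInv hS hF hle (CfsgLib.Fusion.strongInv_iff.2
    fun R Q hRQ _ ψ hψ hψQ φ hφ => hinv Q φ hφ R hRQ ψ hψ hψQ) htop P

end Cfsg.Agent.S5338
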