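import Cfsg.Statements.S5340
import Cfsg.Agent.Lib.Fusion.System.AbelianSimple

set_option autoImplicit false
open Cfsg

namespace Cfsg.Agent.S5340

/-- Let F be a saturated fusion system over a nontrivial finite p-group S such that S is generated by its elements of order p, any two subgroups of S of order p are F-conjugate, and Aut_F(S) consists of inner automorphisms only. Then F is simple. -/
theorem result {Ω : Type*} [Group Ω] {S : Subgroup Ω} [Finite S] (p : ℕ) [Fact p.Prime] (hS : IsPGroup p S) (F : Cfsg.FusionSystem S) (hF : F.IsSaturated p) (hS1 : S ≠ ⊥) (hgen : Subgroup.closure {x : Ω | x ∈ S ∧ orderOf x = p} = S) (htr : ∀ A B : Subgroup Ω, A ≤ S → B ≤ S → Nat.card A = p → Nat.card B = p → F.IsConj A B) (htop : F.autGroup S = Cfsg.Inn ↥S) : F.IsSimple p := by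
  exact CfsgLib.Fusion.isSimple_of_transitive hS hF hS1 hgen htr htop

end Cfsg.Agent.S5340
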