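import Cfsg.Statements.S5345
import Cfsg.Agent.Lib.Spor.Tri.Elementary
-- import your own Cfsg.Agent.* helpers here

set_option autoImplicit false
open Cfsg

namespace Cfsg.Agent.S5345

/-- Let D be a conjugation-invariant generating set of 3-transpositions of a finite group G and T a Sylow 2-subgroup of G. Then the members of D lying in T generate an abelian subgroup, and their number is the width of D (the largest number of pairwise commuting members of D). -/
theorem result {G : Type*} [Group G] [Finite G] {D : Set G} (hD : Cfsg.IsThreeTranspositionGroup D) (T : Sylow 2 G) : IsMulCommutative (Subgroup.closure {d : G | d ∈ D ∧ d ∈ T}) ∧ {d : G | d ∈ D ∧ d ∈ T}.ncard = Cfsg.commutingWidth D := by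
  obtain ⟨hset, hconj, -⟩ := hD
  haveI : Fact (Nat.Prime 2) := ⟨Nat.prime_two⟩
  have hcomm : ∀ a ∈ {d : G | d ∈ D ∧ d ∈ T}, ∀ b ∈ {d : G | d ∈ D ∧ d ∈ T}, Commute a b := by
    rintro a ⟨ha, haT⟩ b ⟨hb, hbT⟩
    rcases hset.2 a ha b hb with e | e
    · rw [pow_two] at e
      show a * b = b * a
      rw [eq_inv_of_mul_eq_one_left e, mul_inv_rev, CfsgLib.Spor.Tri.set_inv hset ha,
        CfsgLib.Spor.Tri.set_inv hset hb]
    · obtain ⟨k, hk⟩ := T.isPGroup' ⟨a * b, mul_mem haT hbT⟩
      have h1 : orderOf (a * b) ∣ 2 ^ k := orderOf_dvd_of_pow_eq_one (by simpa using congrArg Subtype.val hk)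
      have h2 : orderOf (a * b) ∣ 3 := orderOf_dvd_of_pow_eq_one e
      have h3 := orderOf_eq_one_iff.1
        (Nat.eq_one_of_dvd_coprimes (Nat.Coprime.pow_left k (by norm_num : Nat.Coprime 2 3)) h1 h2)
      show a * b = b * a
      rw [eq_inv_of_mul_eq_one_left h3, CfsgLib.Spor.Tri.set_inv hset hb]
  refine ⟨Subgroup.isMulCommutative_closure fun a ha b hb => hcomm a ha b hb, ?_⟩
  rw [Cfsg.commutingWidth]
  refine le_antisymm (le_csSup ⟨Nat.card G, ?_⟩
    ⟨_, fun x hx => hx.1, Set.toFinite _, hcomm, rfl⟩) (csSup_le' ?_)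
  · rintro n ⟨E, -, -, -, rfl⟩
    rw [← Set.ncard_univ]; exact Set.ncard_le_ncard (Set.subset_univ E)
  rintro n ⟨E, hE, -, hc, rfl⟩
  have hp : IsPGroup 2 (Subgroup.closure E) := by
    haveI := Subgroup.isMulCommutative_closure (k := E) fun a ha b hb => hc a ha b hb
    intro x
    refine ⟨1, Subtype.ext ?_⟩
    have : ∀ y ∈ Subgroup.closure E, y ^ 2 = 1 := by
      intro y hy
      induction hy using Subgroup.closure_induction with
      | mem a ha => rw [pow_two, CfsgLib.Spor.Tri.set_mul_self hset (hE ha)]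
      | one => simp
      | mul u v hu hv e1 e2 => rw [Commute.mul_pow (setLike_mul_comm hu hv), e1, e2, one_mul]
      | inv u _ e1 => rw [inv_pow, e1, inv_one]
    simpa using this x x.2
  obtain ⟨T', hT'⟩ := hp.exists_le_sylow
  obtain ⟨k, hk⟩ := MulAction.exists_smul_eq G T' T
  calc E.ncard = ((fun x => k * x * k⁻¹) '' E).ncard :=
        (Set.ncard_image_of_injective _ fun x y e => by simpa using e).symm
    _ ≤ _ := by
      refine Set.ncard_le_ncard ?_
      rintro _ ⟨x, hx, rfl⟩
      refine ⟨hconj k x (hE hx), ?_⟩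
      rw [← hk]
      exact Subgroup.smul_mem_pointwise_smul x (MulAut.conj k) _ (hT' (Subgroup.subset_closure hx))

end Cfsg.Agent.S5345
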