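import Cfsg.Statements.S5347
import Cfsg.Agent.Lib.Spor.Tri.Elementary
-- import your own Cfsg.Agent.* helpers here

set_option autoImplicit false
open Cfsg

namespace Cfsg.Agent.S5347

/-- Let D be a conjugation-invariant generating set of 3-transpositions of a finite group G, p a prime bigger than 3, and P a p-subgroup of G. If a member d of D normalizes P then d centralizes P. -/
theorem result {G : Type*} [Group G] [Finite G] {D : Set G} (hD : Cfsg.IsThreeTranspositionGroup D) {p : ℕ} (hp : p.Prime) (hp3 : 3 < p) (P : Subgroup G) (hP : IsPGroup p P) {d : G} (hd : d ∈ D) (hnorm : d ∈ Subgroup.normalizer (P : Set G)) : ∀ x ∈ P, Commute d x := by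
  intro x hx
  obtain ⟨hset, hconj, -⟩ := hD
  have hz : d * (x * d * x⁻¹) ∈ P := by
    have h1 : d * x * d ∈ P := by
      have := (Subgroup.mem_normalizer_iff.1 hnorm x).1 hx
      rwa [CfsgLib.Spor.Tri.set_inv hset hd] at this
    have := mul_mem h1 (inv_mem hx)
    rwa [show d * x * d * x⁻¹ = d * (x * d * x⁻¹) by group] at this
  obtain ⟨k, hk⟩ := hP ⟨_, hz⟩
  have h1 : orderOf (d * (x * d * x⁻¹)) ∣ p ^ k := orderOf_dvd_of_pow_eq_one (by simpa using congrArg Subtype.val hk)
  have h2 : orderOf (d * (x * d * x⁻¹)) ∣ 6 := by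
    rcases hset.2 d hd _ (hconj x d hd) with e | e
    · exact (orderOf_dvd_of_pow_eq_one e).trans (by norm_num)
    · exact (orderOf_dvd_of_pow_eq_one e).trans (by norm_num)
  have hco : Nat.Coprime (p ^ k) 6 := by
    apply Nat.Coprime.pow_left
    rw [show (6 : ℕ) = 2 * 3 by norm_num]
    exact Nat.Coprime.mul_right ((Nat.coprime_primes hp Nat.prime_two).2 (by omega))
      ((Nat.coprime_primes hp Nat.prime_three).2 (by omega))
  have h3 := orderOf_eq_one_iff.1 (Nat.eq_one_of_dvd_coprimes hco h1 h2)
  have h4 := eq_inv_of_mul_eq_one_right h3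
  rw [CfsgLib.Spor.Tri.set_inv hset hd] at h4
  show d * x = x * d
  conv_lhs => rw [← h4]
  group

end Cfsg.Agent.S5347
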