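import Cfsg.Statements.S5349
import Cfsg.Agent.Lib.Spor.Tri.Cores
-- import your own Cfsg.Agent.* helpers here

set_option autoImplicit false
open Cfsg

namespace Cfsg.Agent.S5349

/-- Let D be a conjugacy class of 3-transpositions generating the finite group G, with at least two members, and d a member of D. Then the set of members of D commuting with exactly the same members of D as d coincides with the set of members of D lying in the coset of d modulo the largest normal 2-subgroup of G, and also with the orbit of d under conjugation by that normal 2-subgroup. -/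
theorem result {G : Type*} [Group G] [Finite G] {D : Set G} (hD : Cfsg.IsThreeTranspositionClass D) (hD2 : ∃ a ∈ D, ∃ b ∈ D, a ≠ b) {d : G} (hd : d ∈ D) : {v : G | v ∈ D ∧ ∀ e ∈ D, Commute v e ↔ Commute d e} = {v : G | v ∈ D ∧ d⁻¹ * v ∈ Cfsg.pCore 2 G} ∧ {v : G | v ∈ D ∧ ∀ e ∈ D, Commute v e ↔ Commute d e} = {v : G | ∃ g ∈ Cfsg.pCore 2 G, v = g * d * g⁻¹} := by
  have h := CfsgLib.Spor.Tri.hyp_of_class hD
  haveI := CfsgLib.Coprime.pCore_normal' (G := G) 2
  constructor
  · ext v
    exact ⟨fun hv => ⟨hv.1, (h.nbhd_iff_two_core hd hv.1).1 hv.2⟩, fun hv => ⟨hv.1, (h.nbhd_iff_two_core hd hv.1).2 hv.2⟩⟩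
  · ext v
    constructor
    · intro hv
      have h1 := (h.nbhd_iff_two_core hd hv.1).1 hv.2
      rw [h.inv_eq hd] at h1
      exact h.exists_two_core_conj hD2 hd hv.1 h1
    · rintro ⟨g, hg, rfl⟩
      exact ⟨h.conj g d hd, (h.nbhd_iff_two_core hd (h.conj g d hd)).2 (h.mul_conj_mem hd hg)⟩

end Cfsg.Agent.S5349
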