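import Cfsg.Statements.S5354
import Cfsg.Agent.Lib.Spor.Tri.Quasi

set_option autoImplicit false
open Cfsg CfsgLib.Spor.Tri

namespace Cfsg.Agent.S5354

/-- Let D be a conjugation-invariant generating set of 3-transpositions of the finite group G on which G acts primitively by conjugation, and suppose two different members of D commute (width at least 2). Then G has a quasisimple normal subgroup L of index at most 2 with the generalized Fitting subgroup of G equal to L times the centre, the commuting graph of D is connected, and for d in D the subgroup generated by the members of D commuting with d is a maximal D-subgroup: it is proper, and every subgroup generated by members of D that contains it is either it or G. -/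
theorem result {G : Type*} [Group G] [Finite G] {D : Set G} (hD : Cfsg.IsThreeTranspositionGroup D) (hprim : Cfsg.IsPrimitiveUnderConj D) (hw : ∃ a ∈ D, ∃ b ∈ D, a ≠ b ∧ Commute a b) : (∃ L : Subgroup G, L.Normal ∧ Cfsg.IsQuasisimple L ∧ L.index ≤ 2 ∧ Cfsg.generalizedFittingSubgroup G = L ⊔ Subgroup.center G) ∧ (Cfsg.commutingGraph D).Connected ∧ ∀ d ∈ D, Subgroup.closure {y : G | y ∈ D ∧ Commute d y} ≠ ⊤ ∧ ∀ H : Subgroup G, Cfsg.IsDSubgroup D H → Subgroup.closure {y : G | y ∈ D ∧ Commute d y} ≤ H → H = Subgroup.closure {y : G | y ∈ D ∧ Commute d y} ∨ H = ⊤ := by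

  have hclass : Cfsg.IsThreeTranspositionClass D := by
    obtain ⟨a, ha, -⟩ := hw
    refine ⟨hD.1, ⟨a, ha, Set.ext fun x => ?_⟩, hD.2.2⟩
    rw [conjugatesOf, Set.mem_setOf_eq, isConj_iff]
    exact ⟨fun hx => hprim.1 a ha x hx, fun ⟨g, hg⟩ => hg ▸ hD.2.1 g a ha⟩
  have h := hyp_of_class hclass
  obtain ⟨h2, h3, hconn⟩ := h.of_primitive hprim hw
  have hD2 := hprim.2.1
  refine ⟨⟨Cfsg.layer G, CfsgLib.Coprime.layer_normal, (h.layer_isComponent hD2 h2 h3).2,
    h.layer_index_le hD2 h2 h3 hconn, h.generalizedFitting_eq h2 h3⟩, (connected_iff_reach ?_).2 hconn,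
    fun d hd => ⟨fun e => ?_, fun H hH hle => h.perp_maximal hD2 h2 h3 hconn hd hH hle⟩⟩
  · obtain ⟨a, ha, -⟩ := hD2; exact ⟨a, ha⟩
  refine h.not_central hD2 hd (Subgroup.mem_center_iff.2 fun g => ?_)
  have hle : Subgroup.closure {y : G | y ∈ D ∧ Commute d y} ≤ Subgroup.centralizer ({d} : Set G) := by
    rw [Subgroup.closure_le]
    exact fun y hy => Subgroup.mem_centralizer_singleton_iff.2 hy.2.symm.eq
  exact Subgroup.mem_centralizer_singleton_iff.1 (hle (e ▸ Subgroup.mem_top g))

end Cfsg.Agent.S5354
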