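import Cfsg.Statements.S5358
-- import your own Cfsg.Agent.* helpers here

set_option autoImplicit false
open scoped MatrixGroups
open Cfsg

namespace Cfsg.Agent.S5358

/-- Let Q be a non-degenerate quadratic form on the n-dimensional coordinate space over the field with three elements and u, v vectors of the same non-zero norm Q(u) = Q(v) spanning different lines (v ≠ u and v ≠ −u). Then the reflection matrices of u and v commute if and only if u and v are orthogonal for the polar form of Q. -/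
theorem result (n : ℕ) (Q : QuadraticForm (ZMod 3) (Fin n → ZMod 3)) (hQ : (QuadraticMap.polarBilin Q).Nondegenerate) (u v : Fin n → ZMod 3) (hu : Q u ≠ 0) (huv : Q u = Q v) (h1 : v ≠ u) (h2 : v ≠ -u) : Commute (Cfsg.reflectionMatrix (⇑Q) u) (Cfsg.reflectionMatrix (⇑Q) v) ↔ QuadraticMap.polar (⇑Q) u v = 0 := by
  set B := fun x : Fin n → ZMod 3 => Cfsg.polarVec (⇑Q) x with hB
  have hdot : ∀ x y : Fin n → ZMod 3, dotProduct (Cfsg.polarVec (⇑Q) x) y = QuadraticMap.polar (⇑Q) x y := by
    intro x y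
    have hy : y = ∑ j, y j • (Pi.single j 1 : Fin n → ZMod 3) := by
      ext i; simp [Pi.single_apply, Finset.sum_apply]
    rw [show QuadraticMap.polar (⇑Q) x y = QuadraticMap.polarBilin Q x y from rfl]
    conv_rhs => rw [hy]
    simp only [dotProduct, Cfsg.polarVec, map_sum, map_smul, smul_eq_mul, QuadraticMap.polarBilin_apply_apply]
    exact Finset.sum_congr rfl fun j _ => mul_comm _ _
  have hmul : ∀ x y : Fin n → ZMod 3, Matrix.vecMulVec x (Cfsg.polarVec (⇑Q) x) * Matrix.vecMulVec y (Cfsg.polarVec (⇑Q) y) =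
      QuadraticMap.polar (⇑Q) x y • Matrix.vecMulVec x (Cfsg.polarVec (⇑Q) y) := by
    intro x y
    rw [Matrix.vecMulVec_mul_vecMulVec, hdot]
    ext i j
    simp [Matrix.vecMulVec_apply]
    ring
  have hsymm : QuadraticMap.polar (⇑Q) v u = QuadraticMap.polar (⇑Q) u v := QuadraticMap.polar_comm _ _ _
  have key : Cfsg.reflectionMatrix (⇑Q) u * Cfsg.reflectionMatrix (⇑Q) v - Cfsg.reflectionMatrix (⇑Q) v * Cfsg.reflectionMatrix (⇑Q) u =
      ((Q u)⁻¹ * (Q u)⁻¹ * QuadraticMap.polar (⇑Q) u v) •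
        (Matrix.vecMulVec u (Cfsg.polarVec (⇑Q) v) - Matrix.vecMulVec v (Cfsg.polarVec (⇑Q) u)) := by
    simp only [Cfsg.reflectionMatrix, ← huv, mul_sub, sub_mul, one_mul, mul_one, Matrix.smul_mul, Matrix.mul_smul,
      hmul, hsymm, smul_smul, smul_sub]
    module
  constructor
  · intro hc
    by_contra hne
    rw [hc.eq, sub_self] at key
    rcases smul_eq_zero.1 key.symm with h0 | h0
    · simp [hu, hne] at h0
    have h' := congrArg (fun M : Matrix (Fin n) (Fin n) (ZMod 3) => M.mulVec u) (sub_eq_zero.1 h0)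
    simp only [Matrix.vecMulVec_mulVec, hdot, hsymm, op_smul_eq_smul, QuadraticMap.polar_self] at h'
    have hq2 : (2 : ℕ) • Q u ≠ 0 := by
      have : ∀ a : ZMod 3, a ≠ 0 → (2 : ℕ) • a ≠ 0 := by decide
      exact this _ hu
    have hvk : v = (((2 : ℕ) • Q u)⁻¹ * QuadraticMap.polar (⇑Q) u v) • u := by
      rw [← smul_smul, h', smul_smul, inv_mul_cancel₀ hq2, one_smul]
    set k := ((2 : ℕ) • Q u)⁻¹ * QuadraticMap.polar (⇑Q) u v
    have hk : k * k = 1 := by
      have e := huv
      rw [hvk, QuadraticMap.map_smul, smul_eq_mul] at e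
      exact mul_right_cancel₀ hu (by rw [one_mul, ← e])
    have : ∀ k : ZMod 3, k * k = 1 → k = 1 ∨ k = -1 := by decide
    rcases this k hk with e | e
    · exact h1 (by rw [hvk, e, one_smul])
    · exact h2 (by rw [hvk, e, neg_one_smul])
  · intro h0
    exact sub_eq_zero.1 (key.trans (by rw [h0, mul_zero, zero_smul]))

end Cfsg.Agent.S5358
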