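import Cfsg.Statements.S5359
import Cfsg.Agent.Lib.Spor.ReflectionIndex
import Cfsg.Agent.Lib.Orth.Facts

set_option autoImplicit false
open scoped MatrixGroups
open Cfsg

namespace Cfsg.Agent.S5359

/-- Let Q be a non-degenerate quadratic form on the n-dimensional coordinate space over the field with three elements, n odd and at least 5, and c a non-zero scalar. Then the subgroup of the isometry group of Q generated by the reflections in vectors of norm c has index 2 in the isometry group. -/
theorem result (n : ℕ) (hn : 5 ≤ n) (hodd : Odd n) (Q : QuadraticForm (ZMod 3) (Fin n → ZMod 3)) (hQ : (QuadraticMap.polarBilin Q).Nondegenerate) (c : ZMod 3) (hc : c ≠ 0) : (Cfsg.reflectionSubgroup (⇑Q) c).index = 2 := by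
  classical
  have hQ' := CfsgLib.Orth.nd_of_qf Q hQ
  have h2 : (2 : ZMod 3) ≠ 0 := by decide
  have key := CfsgLib.Spor.ReflectionIndex.classGroup_index_five hQ' h2 (by simpa using hn) hc
  convert key using 2
  have hsq : ∀ t : ZMod 3, t ≠ 0 → t * t = 1 := by decide
  apply le_antisymm
  · rw [Cfsg.reflectionSubgroup, Subgroup.closure_le]
    rintro g ⟨v, hv, hg⟩
    exact Subgroup.subset_closure ⟨g.2, v, hv ▸ hc, by rw [hv], CfsgLib.Orth.isRefl_reflectionMatrix hg⟩
  · rintro ⟨g, hg⟩ hgc
    change g ∈ CfsgLib.Orth.classGroup (⇑Q) (CfsgLib.Orth.sqc c) at hgc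
    induction hgc using Subgroup.closure_induction with
    | mem r hr =>
      obtain ⟨hri, v, hv, hvc, hrv⟩ := hr
      have hval : Q v = c := by
        have hs : IsSquare (Q v * c) := by
          rw [← CfsgLib.Orth.sqc_eq_one_iff (mul_ne_zero hv hc), CfsgLib.Orth.sqc_mul hv hc, hvc,
            CfsgLib.Orth.sqc_mul_self hc]
        obtain ⟨k, hk⟩ := hs
        have hk0 : k ≠ 0 := fun e => mul_ne_zero hv hc (by rw [hk, e, mul_zero])
        rw [hsq k hk0] at hk
        have : ∀ a b : ZMod 3, a * b = 1 → a = b := by decide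
        exact this _ _ hk
      obtain ⟨s, hs, hsv⟩ := CfsgLib.Orth.exists_reflIso hQ hv
      refine Subgroup.subset_closure ⟨v, hval, ?_⟩
      show (r : Matrix (Fin n) (Fin n) (ZMod 3)) = _
      rw [hrv.unique hsv, hs]
    | one => exact one_mem _
    | mul a b ha hb iha ihb =>
      exact mul_mem (iha (CfsgLib.Orth.classGroup_le _ ha)) (ihb (CfsgLib.Orth.classGroup_le _ hb))
    | inv a ha iha => exact inv_mem (iha (CfsgLib.Orth.classGroup_le _ ha))

end Cfsg.Agent.S5359
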