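import Cfsg.Statements.S5363
-- import your own Cfsg.Agent.* helpers here

set_option autoImplicit false
open Cfsg

namespace Cfsg.Agent.S5363

/-- Let D be a conjugation-invariant set of involutions of a finite group G. Then every product of two members of D has odd order or order 2 if and only if, for every a in D and every b in D different from a and commuting with a, the members of D commuting with a b are exactly those commuting with both a and b. -/
theorem result {G : Type*} [Group G] [Finite G] {D : Set G} (hinv : ∀ d ∈ D, orderOf d = 2) (hconj : ∀ g : G, ∀ d ∈ D, g * d * g⁻¹ ∈ D) : (∀ a ∈ D, ∀ b ∈ D, Odd (orderOf (a * b)) ∨ orderOf (a * b) = 2) ↔ ∀ a ∈ D, ∀ b ∈ D, b ≠ a → Commute a b → {y : G | y ∈ D ∧ Commute (a * b) y} = {y : G | y ∈ D ∧ Commute a y} ∩ {y : G | y ∈ D ∧ Commute b y} := by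
  have hsq : ∀ a ∈ D, a * a = 1 := fun a ha => by
    have := pow_orderOf_eq_one a; rwa [hinv a ha, pow_two] at this
  have hiv : ∀ a ∈ D, a⁻¹ = a := fun a ha => inv_eq_of_mul_eq_one_right (hsq a ha)
  constructor
  · intro hodd a ha b hb hba hab
    ext y
    refine ⟨fun ⟨hy, hc⟩ => ?_, fun hy => ⟨hy.1.1, hy.1.2.mul_left hy.2.2⟩⟩
    have hcomm : Commute a y := by
      by_contra hn
      have h2 : (a * b) ^ 2 = 1 := by rw [hab.mul_pow, pow_two, pow_two, hsq a ha, hsq b hb, one_mul]
      have h2' : orderOf (a * b) = 2 := orderOf_eq_prime h2 fun e => hba (by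
        rw [eq_inv_of_mul_eq_one_right e, hiv a ha])
      have hodd' : Odd (orderOf (y * a)) := by
        refine (hodd y hy a ha).resolve_right fun e => hn ?_
        have e' := pow_orderOf_eq_one (y * a)
        rw [e, pow_two] at e'
        show a * y = y * a
        rw [eq_inv_of_mul_eq_one_left e', mul_inv_rev, hiv a ha, hiv y hy]
      have hco : Commute (y * a) (a * b) := hc.symm.mul_left ((Commute.refl a).mul_right hab)
      have hyb : y * a * (a * b) = y * b := by rw [← mul_assoc, mul_assoc y a a, hsq a ha, mul_one]
      have hord : orderOf (y * b) = orderOf (y * a) * 2 := by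
        rw [← hyb, hco.orderOf_mul_eq_mul_orderOf_of_coprime, h2']
        rw [h2']
        exact hodd'.coprime_two_right
      rcases hodd y hy b hb with e | e
      · rw [hord] at e
        exact absurd e (Nat.not_odd_iff_even.2 ((even_two).mul_left _))
      · rw [hord] at e
        have e1 : orderOf (y * a) = 1 := by omega
        rw [orderOf_eq_one_iff] at e1
        exact hn (by rw [eq_inv_of_mul_eq_one_left e1, hiv a ha])
    refine ⟨⟨hy, hcomm⟩, hy, ?_⟩
    have := hcomm.mul_left hc
    rwa [← mul_assoc, hsq a ha, one_mul] at this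
  · intro hset a ha b hb
    rcases Nat.even_or_odd (orderOf (a * b)) with ⟨m, hm⟩ | ho
    swap
    · exact Or.inl ho
    right
    have hpos : 0 < orderOf (a * b) := orderOf_pos _
    have hpow : ∀ j : ℕ, (a * b) ^ j * a ∈ D ∧ (a * b) ^ (j + 1) * a ∈ D := by
      intro j
      induction j with
      | zero =>
        refine ⟨by simpa using ha, ?_⟩
        have := hconj a b hb
        rw [hiv a ha] at this
        simpa using this
      | succ j ih =>
        refine ⟨ih.2, ?_⟩
        have := hconj (a * b) _ ih.1
        rwa [mul_inv_rev, hiv a ha, hiv b hb,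
          show a * b * ((a * b) ^ j * a) * (b * a) = (a * b) * (a * b) ^ j * (a * b) * a by group,
          ← pow_succ', ← pow_succ] at this
    have hc := (hpow m).1
    set z := (a * b) ^ m with hz
    have hz2 : z * z = 1 := by rw [hz, ← pow_add, ← hm, pow_orderOf_eq_one]
    have hzne : z ≠ 1 := fun e => by
      have := Nat.le_of_dvd (by omega) (orderOf_dvd_of_pow_eq_one e); omega
    have hcomm : Commute a (z * a) := by
      have h1 := hsq _ hc
      show a * (z * a) = z * a * a
      have e : a * z * a = z := by
        calc a * z * a = (z * z) * (a * z * a) := by rw [hz2, one_mul]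
          _ = z * (z * a * (z * a)) := by group
          _ = z := by rw [h1, mul_one]
      rw [← mul_assoc, e, mul_assoc, hsq a ha, mul_one]
    have hne : z * a ≠ a := fun e => hzne (mul_eq_right.1 e)
    have hz' : a * (z * a) = z := by rw [hcomm.eq, mul_assoc, hsq a ha, mul_one]
    have hbz : Commute z b := by
      have h1 : Commute z (a * b) := (Commute.refl (a * b)).pow_left m
      have h2 : Commute z a := by
        rw [← hz']; exact ((Commute.refl a).mul_right hcomm).symm
      have := h2.mul_right h1
      rwa [← mul_assoc, hsq a ha, one_mul] at this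
    have hmem : b ∈ {y : G | y ∈ D ∧ Commute (a * (z * a)) y} := ⟨hb, by rwa [hz']⟩
    rw [hset a ha _ hc hne hcomm] at hmem
    have hab : Commute a b := hmem.1.2
    have h2 : orderOf (a * b) ∣ 2 := orderOf_dvd_of_pow_eq_one (by
      rw [hab.mul_pow, pow_two, pow_two, hsq a ha, hsq b hb, one_mul])
    have := Nat.le_of_dvd two_pos h2
    omega

end Cfsg.Agent.S5363
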