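import Cfsg.Statements.S5364
-- import your own Cfsg.Agent.* helpers here

set_option autoImplicit false
open Cfsg

namespace Cfsg.Agent.S5364

/-- Let D be a conjugation-invariant set of involutions of a finite group G and t an involution in the centre of G such that d t does not lie in D for any d in D. If the images of the members of D in G modulo the subgroup generated by t satisfy the 3-transposition order conditions (each has order 2 and any two have product of order at most 3), then so do the members of D. -/
theorem result {G : Type*} [Group G] [Finite G] {D : Set G} (hinv : ∀ d ∈ D, orderOf d = 2) (hconj : ∀ g : G, ∀ d ∈ D, g * d * g⁻¹ ∈ D) (t : G) (ht : orderOf t = 2) (htZ : t ∈ Subgroup.center G) (hDt : ∀ d ∈ D, d * t ∉ D) [(Subgroup.zpowers t).Normal] (himg : Cfsg.IsThreeTranspositionSet ((QuotientGroup.mk : G → G ⧸ Subgroup.zpowers t) '' D)) : Cfsg.IsThreeTranspositionSet D := by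
  have hsq : ∀ a ∈ D, a * a = 1 := fun a ha => by
    have := pow_orderOf_eq_one a; rwa [hinv a ha, pow_two] at this
  have hiv : ∀ a ∈ D, a⁻¹ = a := fun a ha => inv_eq_of_mul_eq_one_right (hsq a ha)
  have ht2 : t * t = 1 := by have := pow_orderOf_eq_one t; rwa [ht, pow_two] at this
  have hmem : ∀ x : G, x ∈ Subgroup.zpowers t → x = 1 ∨ x = t := by
    intro x hx
    obtain ⟨i, rfl⟩ := Subgroup.mem_zpowers_iff.1 hx
    rcases Int.even_or_odd i with ⟨j, rfl⟩ | ⟨j, rfl⟩
    · left; rw [← two_mul, zpow_mul, zpow_two, ht2, one_zpow]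
    · right; rw [zpow_add, zpow_mul, zpow_two, ht2, one_zpow, one_mul, zpow_one]
  refine ⟨hinv, fun d hd e he => ?_⟩
  have hded : d * e * d ∈ D := by have := hconj d e he; rwa [hiv d hd] at this
  have hede : e * d * e ∈ D := by have := hconj e d hd; rwa [hiv e he] at this
  have htc : ∀ x : G, t * x = x * t := fun x => ((Subgroup.mem_center_iff.1 htZ) x).symm
  rcases himg.2 _ ⟨d, hd, rfl⟩ _ ⟨e, he, rfl⟩ with h | h
  · rw [← QuotientGroup.mk_mul, ← QuotientGroup.mk_pow, QuotientGroup.eq_one_iff] at h
    rcases hmem _ h with h1 | h1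
    · exact Or.inl h1
    exfalso
    refine hDt e he ?_
    have : d * e * d = e * t := by
      rw [pow_two] at h1
      calc d * e * d = d * e * d * (e * e) := by rw [hsq e he, mul_one]
        _ = (d * e * (d * e)) * e := by group
        _ = e * t := by rw [h1, htc]
    rwa [this] at hded
  · rw [← QuotientGroup.mk_mul, ← QuotientGroup.mk_pow, QuotientGroup.eq_one_iff] at h
    rcases hmem _ h with h1 | h1
    · exact Or.inr h1
    exfalso
    refine hDt _ hede ?_
    have : d * e * d = e * d * e * t := by
      have e1 : d * e * d * (e * d * e) = t := by rw [← h1]; simp [pow_succ, mul_assoc]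
      rw [eq_mul_inv_of_mul_eq e1, hiv _ hede, htc]
    rwa [this] at hded

end Cfsg.Agent.S5364
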