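import Cfsg.Statements.S5375
import Cfsg.Agent.Lib.Spor.Tri.LevelParity
-- import your own Cfsg.Agent.* helpers here

set_option autoImplicit false
open Cfsg

namespace Cfsg.Agent.S5375

open CfsgLib.Spor.Tri CfsgLib.Spor.Tri.Level CfsgLib.Spor.Tri.Golay
open scoped commutatorElement

/-- Let G be a finite group with trivial centre generated by a conjugation-invariant set D of 3-transpositions on which it acts primitively, of type M(24). Then the layer of G (its largest semisimple normal subgroup) has index 2, D has exactly 306936 members, G has order 2^22 · 3^16 · 5^2 · 7^3 · 11 · 13 · 17 · 23 · 29, the width of D is 24, and for every d in D the subgroup generated by the members of D other than d commuting with d is the centralizer of d. -/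
theorem result {G : Type*} [Group G] [Finite G] {D : Set G} (hD : Cfsg.IsThreeTranspositionGroup D) (hprim : Cfsg.IsPrimitiveUnderConj D) (ht : Cfsg.IsOfTypeM24 G D) : (Cfsg.layer G).index = 2 ∧ D.ncard = 306936 ∧ Nat.card G = 2 ^ 22 * 3 ^ 16 * 5 ^ 2 * 7 ^ 3 * 11 * 13 * 17 * 23 * 29 ∧ Cfsg.commutingWidth D = 24 ∧ ∀ d ∈ D, Subgroup.closure {y : G | y ∈ D ∧ y ≠ d ∧ Commute d y} = Subgroup.centralizer ({d} : Set G) := by
  classical
  have h := hyp_of_prim hD hprim
  obtain ⟨L, -⟩ := lev24 h hprim ht
  obtain ⟨hcard, W⟩ := card24 h hprim ht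
  obtain ⟨d, hd, x, hx, hne⟩ := L.prim.2.1
  obtain ⟨y, hy⟩ : (perp D d).Nonempty := (Set.ncard_pos (Set.toFinite _)).1 (by rw [L.deg d hd]; norm_num)
  obtain ⟨h2, h3, hr⟩ := h.of_primitive hprim ⟨d, hd, y, hy.1, hy.2.1.symm, hy.2.2⟩
  have hle := h.layer_index_le ⟨d, hd, x, hx, hne⟩ h2 h3 hr
  refine ⟨?_, L.card, hcard, commutingWidth_eq W, fun a ha => loc_eq_centralizer (L.cent a ha)⟩
  have hpos : 0 < (Cfsg.layer G).index := Nat.pos_of_ne_zero Subgroup.index_ne_zero_of_finite
  suffices (Cfsg.layer G).index ≠ 1 by omega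
  intro h1
  obtain ⟨M, hM, hMi, hdM⟩ := exists_index_two (data24 h hprim ht) hd
  have hle2 : commutator G ≤ M := by
    haveI := hM
    haveI : Fact (Nat.Prime 2) := ⟨Nat.prime_two⟩
    haveI : IsCyclic (G ⧸ M) := isCyclic_of_prime_card (show Nat.card (G ⧸ M) = 2 from hMi)
    rw [_root_.commutator_def, Subgroup.commutator_le]
    intro u _ v _
    rw [← QuotientGroup.eq_one_iff]
    show QuotientGroup.mk' M ⁅u, v⁆ = 1
    rw [map_commutatorElement, commutatorElement_eq_one_iff_mul_comm]
    exact IsMulCommutative.is_comm.comm _ _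
  rw [h.commutator_eq_layer hle, Subgroup.index_eq_one.1 h1] at hle2
  exact hdM (hle2 (Subgroup.mem_top d))

end Cfsg.Agent.S5375
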