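import Cfsg.Statements.S5380
import Cfsg.Agent.Lib.Spor.SuzType.YCent.Main

set_option autoImplicit false
open Cfsg

namespace Cfsg.Agent.S5380

/-- Let G be a finite group of Suzuki sporadic type (involution z with generalized Fitting subgroup Q of its centralizer C extraspecial of order 2^7, C/Q the commutator subgroup of the isometry group of the elliptic quadratic form in dimension 6 over the field with two elements, z not weakly closed in Q), and let Y be a subgroup of C of order 3 whose commutator subgroup with Q is non-abelian of order 8 (a quaternion group). Then the centralizer of Y in G is quasisimple, its quotient by Y is isomorphic to the projective special unitary group of dimension 4 over the field with nine elements, and the centralizer of Y has index 2 in the normalizer of Y. -/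
theorem result {G : Type*} [Group G] [Finite G] (z : G) (hz : orderOf z = 2) (Q : Subgroup (Subgroup.centralizer ({z} : Set G))) [Q.Normal] (hF : Cfsg.generalizedFittingSubgroup (Subgroup.centralizer ({z} : Set G)) = Q) (hQ : Cfsg.IsExtraspecial 2 Q) (hcard : Nat.card Q = 2 ^ 7) (e : (Subgroup.centralizer ({z} : Set G)) ⧸ Q ≃* Cfsg.Omega (ZMod 2) (Cfsg.quadFormMinus 2 (ZMod 2) 1 1)) (hnwc : ∃ g : G, (∃ hq : g * z * g⁻¹ ∈ Subgroup.centralizer ({z} : Set G), (⟨g * z * g⁻¹, hq⟩ : Subgroup.centralizer ({z} : Set G)) ∈ Q) ∧ g * z * g⁻¹ ≠ z) (Y : Subgroup (Subgroup.centralizer ({z} : Set G))) (hY : Nat.card Y = 3) (hQY : Nat.card ↥⁅Q, Y⁆ = 8) (hQYna : ¬ IsMulCommutative ↥⁅Q, Y⁆) [((Y.map (Subgroup.subtype (Subgroup.centralizer ({z} : Set G)))).subgroupOf (Subgroup.centralizer ((Y.map (Subgroup.subtype (Subgroup.centralizer ({z} : Set G)))) : Set G))).Normal] (K : Type) [Field K] [Fintype K] (hK : Fintype.card K = 9) : Cfsg.IsQuasisimple ↥(Subgroup.centralizer ((Y.map (Subgroup.subtype (Subgroup.centralizer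 ({z} : Set G)))) : Set G)) ∧ Nonempty (↥(Subgroup.centralizer ((Y.map (Subgroup.subtype (Subgroup.centralizer ({z} : Set G)))) : Set G)) ⧸ (Y.map (Subgroup.subtype (Subgroup.centralizer ({z} : Set G)))).subgroupOf (Subgroup.centralizer ((Y.map (Subgroup.subtype (Subgroup.centralizer ({z} : Set G)))) : Set G)) ≃* Cfsg.PSU 4 K 3) ∧ (Subgroup.centralizer ((Y.map (Subgroup.subtype (Subgroup.centralizer ({z} : Set G)))) : Set G)).relIndex (Subgroup.normalizer ((Y.map (Subgroup.subtype (Subgroup.centralizer ({z} : Set G)))) : Set G)) = 2 := by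
  classical
  haveI : Fact (Nat.Prime 3) := ⟨Nat.prime_three⟩
  obtain ⟨v, ρ, S⟩ := CfsgLib.Spor.SuzType.exists_setup z hz Q hF hQ hcard e
  have hinj : Function.Injective (Subgroup.centralizer ({z} : Set G)).subtype := (Subgroup.centralizer ({z} : Set G)).subtype_injective
  have hYc : Nat.card (Y.map (Subgroup.centralizer ({z} : Set G)).subtype) = 3 := by rw [Subgroup.card_map_of_injective hinj]; exact hY
  obtain ⟨y, hYeq, hy3, hyC⟩ : ∃ y : G, (Y.map (Subgroup.centralizer ({z} : Set G)).subtype) = Subgroup.zpowers y ∧ y ^ 3 = 1 ∧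
      y ∈ Subgroup.centralizer ({z} : Set G) := by
    obtain ⟨y, hy⟩ := (isCyclic_iff_exists_zpowers_eq_top.1 (isCyclic_of_prime_card hYc) : ∃ y : (Y.map (Subgroup.centralizer ({z} : Set G)).subtype), Subgroup.zpowers y = ⊤)
    have hYeq : (Y.map (Subgroup.centralizer ({z} : Set G)).subtype) = Subgroup.zpowers (y : G) := by
      have := congrArg (Subgroup.map (Y.map (Subgroup.centralizer ({z} : Set G)).subtype).subtype) hy
      rw [MonoidHom.map_zpowers, ← MonoidHom.range_eq_map, Subgroup.range_subtype] at this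
      exact this.symm
    have hy3 : (y : G) ^ 3 = 1 := by
      rw [← SubgroupClass.coe_pow, ← hYc, pow_card_eq_one', Subgroup.coe_one]
    have hyC : (y : G) ∈ Subgroup.centralizer ({z} : Set G) := Subgroup.map_subtype_le Y y.2
    exact ⟨y, hYeq, hy3, hyC⟩
  have hcomm : ⁅Q.map (Subgroup.centralizer ({z} : Set G)).subtype, Subgroup.zpowers y⁆ = (⁅Q, Y⁆).map (Subgroup.centralizer ({z} : Set G)).subtype := by
    rw [← hYeq, Subgroup.map_commutator]
  have h8 : Nat.card (⁅Q.map (Subgroup.centralizer ({z} : Set G)).subtype, Subgroup.zpowers y⁆ : Subgroup G) = 8 := by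
    rw [hcomm, Subgroup.card_map_of_injective hinj, hQY]
  have hna : ∃ a ∈ ⁅Q.map (Subgroup.centralizer ({z} : Set G)).subtype, Subgroup.zpowers y⁆,
      ∃ b ∈ ⁅Q.map (Subgroup.centralizer ({z} : Set G)).subtype, Subgroup.zpowers y⁆, a * b ≠ b * a := by
    by_contra h
    push Not at h
    refine hQYna ⟨⟨fun a b => Subtype.ext (hinj ?_)⟩⟩
    rw [Subgroup.coe_mul, Subgroup.coe_mul, map_mul, map_mul]
    exact h _ (hcomm ▸ Subgroup.mem_map_of_mem _ a.2) _ (hcomm ▸ Subgroup.mem_map_of_mem _ b.2)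
  obtain ⟨v', ρ', S', himg⟩ := CfsgLib.Spor.SuzType.YCent.exists_normal S hyC hy3 h8 hna
  have D : CfsgLib.Spor.SuzType.YCent.Data z (Q.map (Subgroup.centralizer ({z} : Set G)).subtype) v' ρ' y := ⟨S', hyC, hy3, himg⟩
  obtain ⟨t, T⟩ := D.exists_gens
  have hnwc' : ∃ g : G, g * z * g⁻¹ ∈ Q.map (Subgroup.centralizer ({z} : Set G)).subtype ∧ g * z * g⁻¹ ≠ z := by
    obtain ⟨g, ⟨hq, hgQ⟩, hne⟩ := hnwc
    exact ⟨g, ⟨_, hgQ, rfl⟩, hne⟩
  have U : CfsgLib.Spor.SuzType.YCent.Quo z (Q.map (Subgroup.centralizer ({z} : Set G)).subtype) v' ρ' y t (Subgroup.centralizer ((Y.map (Subgroup.centralizer ({z} : Set G)).subtype) : Set G))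
      (QuotientGroup.mk' ((Y.map (Subgroup.centralizer ({z} : Set G)).subtype).subgroupOf (Subgroup.centralizer ((Y.map (Subgroup.centralizer ({z} : Set G)).subtype) : Set G)))) := by
    refine ⟨T, fun n => ?_, QuotientGroup.mk'_surjective _, fun n => ?_⟩
    · rw [hYeq, Subgroup.mem_centralizer_iff]
      refine ⟨fun h => (h _ (Subgroup.mem_zpowers _)).symm, fun h k hk => ?_⟩
      obtain ⟨i, rfl⟩ := Subgroup.mem_zpowers_iff.1 hk
      exact ((show Commute n y from h).zpow_right i).eq.symm
    · rw [← hYeq, QuotientGroup.mk'_apply, QuotientGroup.eq_one_iff, Subgroup.mem_subgroupOf]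
  refine ⟨U.quasisimple hnwc' hK, U.nonempty_psu hnwc' hK, ?_⟩
  rw [hYeq]
  exact D.relIndex_two

end Cfsg.Agent.S5380
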