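import Cfsg.Statements.S5382
import Cfsg.Agent.Lib.Invol.JTwo.Bridge
import Cfsg.Agent.Lib.Invol.JTwo.Normalizer

set_option autoImplicit false
open Cfsg

namespace Cfsg.Agent.S5382

/-- Let G be a finite group of Hall–Janko type: it has more than one class of involutions and an involution z whose centralizer C has generalized Fitting subgroup Q extraspecial of order 32 with C/Q isomorphic to the commutator subgroup of the isometry group of the elliptic quadratic form in dimension 4 over the field with two elements (the alternating group of degree 5), with z not weakly closed in Q. Then for every involution t not conjugate to z, the centralizer of t is isomorphic to the direct product of an elementary abelian group of order 4 and the alternating group of degree 5, and the normalizer of the largest normal 2-subgroup of that centralizer is isomorphic to the direct product of the alternating groups of degrees 4 and 5. -/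
theorem result {G : Type*} [Group G] [Finite G] (z : G) (hz : orderOf z = 2) (Q : Subgroup (Subgroup.centralizer ({z} : Set G))) [Q.Normal] (hF : Cfsg.generalizedFittingSubgroup (Subgroup.centralizer ({z} : Set G)) = Q) (hQ : Cfsg.IsExtraspecial 2 Q) (hcard : Nat.card Q = 2 ^ 5) (e : (Subgroup.centralizer ({z} : Set G)) ⧸ Q ≃* Cfsg.Omega (ZMod 2) (Cfsg.quadFormMinus 1 (ZMod 2) 1 1)) (hnwc : ∃ g : G, (∃ hq : g * z * g⁻¹ ∈ Subgroup.centralizer ({z} : Set G), (⟨g * z * g⁻¹, hq⟩ : Subgroup.centralizer ({z} : Set G)) ∈ Q) ∧ g * z * g⁻¹ ≠ z) (hcl : ∃ x y : G, orderOf x = 2 ∧ orderOf y = 2 ∧ ¬ IsConj x y) (t : G) (ht : orderOf t = 2) (htz : ¬ IsConj t z) : Nonempty (↥(Subgroup.centralizer ({t} : Set G)) ≃* (Multiplicative (ZMod 2) × Multiplicative (ZMod 2)) × alternatingGroup (Fin 5)) ∧ Nonempty (↥(Subgroup.normalizer (((Cfsg.pCore 2 ↥(Subgroup.centralizer ({t} : Set G))).map (Subgroup.subtype (Subgroup.centralizer ({t} : Set G))) : Subgroup G) : Set G)) ≃* alternatingGroup (Fin 4) × alternatingGroup (Fin 5)) := by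
  obtain ⟨Q', h⟩ : ∃ Q', CfsgLib.Invol.JTwo.Hyp z Q' := ⟨_, CfsgLib.Invol.JTwo.hyp_of z hz Q hF hQ hcard e hnwc hcl⟩
  obtain ⟨x, hx⟩ := h.exists_out
  have hxt : IsConj x t := ((h.classes hx).2 t ht).resolve_left fun c => htz c.symm
  obtain ⟨g, rfl⟩ := isConj_iff.1 hxt
  have h' := h.conj g
  have hout : CfsgLib.Invol.JTwo.Out (g * z * g⁻¹) (CfsgLib.Invol.JTwo.cj g Q') (g * x * g⁻¹) :=
    ⟨CfsgLib.Invol.JTwo.mem_centralizer_conj.2 (by simpa [mul_assoc] using hx.1),
      fun hm => hx.2.1 (by simpa [mul_assoc] using CfsgLib.Invol.JTwo.mem_cj.1 hm), by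
      calc g * x * g⁻¹ * (g * x * g⁻¹) = g * (x * x) * g⁻¹ := by group
        _ = 1 := by rw [hx.2.2]; group⟩
  obtain ⟨a, p⟩ := h'.exists_pt hout
  obtain ⟨ρ, V, B, s⟩ := p.exists_split
  refine ⟨p.centralizer_iso s, ?_⟩
  rw [p.pCore_eq s]
  exact p.normalizer_iso s

end Cfsg.Agent.S5382
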