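import Cfsg.Statements.S5385
import Cfsg.Agent.Lib.Spor.CoOneType.Main
-- import your own Cfsg.Agent.* helpers here

set_option autoImplicit false
open Cfsg

namespace Cfsg.Agent.S5385

/-- Let G be a finite group of Conway type (involution z with generalized Fitting subgroup Q of its centralizer C extraspecial of order 2^9, C/Q the commutator subgroup of the isometry group of the hyperbolic quadratic form in dimension 8 over the field with two elements, z not weakly closed in Q), and let B be a subgroup of C of order 5 such that the centralizer of B in Q is extraspecial of order 32 containing no elementary abelian subgroup of order 8 (the quaternion-times-dihedral type). Then the layer L of the centralizer of B in G is isomorphic to the Hall–Janko group and the centralizer of L is isomorphic to the alternating group of degree 5. -/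
theorem result {G : Type*} [Group G] [Finite G] (z : G) (hz : orderOf z = 2) (Q : Subgroup (Subgroup.centralizer ({z} : Set G))) [Q.Normal] (hF : Cfsg.generalizedFittingSubgroup (Subgroup.centralizer ({z} : Set G)) = Q) (hQ : Cfsg.IsExtraspecial 2 Q) (hcard : Nat.card Q = 2 ^ 9) (e : (Subgroup.centralizer ({z} : Set G)) ⧸ Q ≃* Cfsg.Omega (ZMod 2) (Cfsg.quadFormPlus 4 (ZMod 2))) (hnwc : ∃ g : G, (∃ hq : g * z * g⁻¹ ∈ Subgroup.centralizer ({z} : Set G), (⟨g * z * g⁻¹, hq⟩ : Subgroup.centralizer ({z} : Set G)) ∈ Q) ∧ g * z * g⁻¹ ≠ z) (B : Subgroup (Subgroup.centralizer ({z} : Set G))) (hB : Nat.card B = 5) (hCQ : Cfsg.IsExtraspecial 2 ↥(Q ⊓ Subgroup.centralizer (B : Set (Subgroup.centralizer ({z} : Set G))))) (hCQcard : Nat.card ↥(Q ⊓ Subgroup.centralizer (B : Set (Subgroup.centralizer ({z} : Set G)))) = 32) (hminus : ∀ A : Subgroup (Subgroup.centralizer ({z} : Set G)), A ≤ Q ⊓ Subgroup.centralizer (B : Set (Subgroup.centralizer ({z} : Set G))) → Cfsg.IsElementaryAbelian 2 A → Nat.card A ≤ 4) :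 Cfsg.Spor.IsoJ2 ↥(Cfsg.layer ↥(Subgroup.centralizer ((B.map (Subgroup.subtype (Subgroup.centralizer ({z} : Set G)))) : Set G))) ∧ Nonempty (↥(Subgroup.centralizer (((Cfsg.layer ↥(Subgroup.centralizer ((B.map (Subgroup.subtype (Subgroup.centralizer ({z} : Set G)))) : Set G))).map (Subgroup.subtype _)) : Set G)) ≃* alternatingGroup (Fin 5)) := by
  haveI : Fact (Nat.Prime 5) := ⟨Nat.prime_five⟩
  obtain ⟨v, ρ, S⟩ := CfsgLib.Spor.CoOneType.exists_setup z hz Q hF hQ hcard e
  obtain ⟨g, ⟨hq, hgQ⟩, hgne⟩ := hnwc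
  haveI : IsCyclic B := isCyclic_of_prime_card hB
  obtain ⟨⟨bc, hbB⟩, hgen⟩ := IsCyclic.exists_generator (α := B)
  have hord : orderOf ((bc : Subgroup.centralizer ({z} : Set G)) : G) = 5 := by
    rw [Subgroup.orderOf_coe, show orderOf bc = orderOf (⟨bc, hbB⟩ : B) from (orderOf_injective B.subtype B.subtype_injective ⟨bc, hbB⟩),
      orderOf_eq_card_of_forall_mem_zpowers hgen, hB]
  have hB' : B = Subgroup.zpowers bc := by
    refine le_antisymm (fun x hx => ?_) (Subgroup.zpowers_le.2 hbB)
    obtain ⟨k, hk⟩ := Subgroup.mem_zpowers_iff.1 (hgen ⟨x, hx⟩)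
    exact Subgroup.mem_zpowers_iff.2 ⟨k, congrArg Subtype.val hk⟩
  have hcent : Subgroup.centralizer (B : Set (Subgroup.centralizer ({z} : Set G))) =
      Subgroup.centralizer ({bc} : Set (Subgroup.centralizer ({z} : Set G))) := by
    rw [hB', Subgroup.zpowers_eq_closure, Subgroup.centralizer_closure]
  have hM : Subgroup.centralizer ((B.map (Subgroup.subtype (Subgroup.centralizer ({z} : Set G)))) : Set G) =
      Subgroup.centralizer ({(bc : G)} : Set G) := by
    rw [hB', MonoidHom.map_zpowers, Subgroup.zpowers_eq_closure, Subgroup.centralizer_closure]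
    rfl
  have hmap : (Q ⊓ Subgroup.centralizer (B : Set (Subgroup.centralizer ({z} : Set G)))).map
      (Subgroup.centralizer ({z} : Set G)).subtype =
      CfsgLib.Spor.CoOneType.fixQ (Q.map (Subgroup.centralizer ({z} : Set G)).subtype) (bc : G) := by
    rw [hcent]
    ext x
    constructor
    · rintro ⟨a, ha, rfl⟩
      exact ⟨⟨a, ha.1, rfl⟩, Subgroup.mem_centralizer_singleton_iff.2
        (congrArg Subtype.val (Subgroup.mem_centralizer_singleton_iff.1 ha.2))⟩
    · rintro ⟨⟨a, ha, rfl⟩, hx⟩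
      exact ⟨a, ⟨ha, Subgroup.mem_centralizer_singleton_iff.2
        (Subtype.ext (Subgroup.mem_centralizer_singleton_iff.1 hx))⟩, rfl⟩
  let eR := (Q ⊓ Subgroup.centralizer (B : Set (Subgroup.centralizer ({z} : Set G)))).equivMapOfInjective
    (Subgroup.centralizer ({z} : Set G)).subtype (Subgroup.subtype_injective _)
  let eR' := eR.trans (MulEquiv.subgroupCongr hmap)
  refine CfsgLib.Spor.CoOneType.five_centralizer S bc.2 hord
    (CfsgLib.Spor.Affine.isExtraspecial_congr eR' hCQ)
    (by rw [← Nat.card_congr eR'.toEquiv, hCQcard]) ?_ ⟨_, hgQ, rfl⟩ hgne _ hM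
  rintro ⟨A, ⟨⟨⟨hcom⟩⟩, hsq⟩, hA⟩
  let f := (Q ⊓ Subgroup.centralizer (B : Set (Subgroup.centralizer ({z} : Set G)))).subtype.comp
    eR'.symm.toMonoidHom
  have hf : Function.Injective f := (Subgroup.subtype_injective _).comp eR'.symm.injective
  have h := hminus (A.map f) (by rintro _ ⟨a, -, rfl⟩; exact (eR'.symm a).2) ⟨⟨⟨fun a c => by
    obtain ⟨a, x, hx, rfl⟩ := a
    obtain ⟨c, y, hy, rfl⟩ := c
    refine Subtype.ext ?_
    show f x * f y = f y * f x
    rw [← map_mul, ← map_mul]
    exact congrArg f (congrArg Subtype.val (hcom ⟨x, hx⟩ ⟨y, hy⟩))⟩⟩, by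
    rintro _ ⟨x, hx, rfl⟩
    rw [← map_pow, hsq x hx, map_one]⟩
  rw [Subgroup.card_map_of_injective hf, hA] at h
  norm_num at h

end Cfsg.Agent.S5385
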