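import Cfsg.Statements.S5396
import Cfsg.Agent.Lib.PGroup.InvolutionCount
import Cfsg.Agent.Lib.PGroup.SymplecticPairs
import Mathlib

set_option autoImplicit false
open Cfsg

namespace Cfsg.Agent.S5396

open Subgroup
open scoped commutatorElement

variable (n : ℕ) (e : Fin n → ZMod 2)

/-- A central extension of `(ZMod 2 × ZMod 2) ^ n` by `ZMod 2`. -/
@[ext]
structure Ext where
  /-- The image in the quotient. -/
  v : Fin n → ZMod 2 × ZMod 2
  /-- The central coordinate. -/
  z : ZMod 2

variable {n e}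

/-- The bilinear cocycle. -/
def beta (e : Fin n → ZMod 2) (v w : Fin n → ZMod 2 × ZMod 2) : ZMod 2 :=
  ∑ i, ((v i).1 * (w i).2 + e i * ((v i).1 * (w i).1 + (v i).2 * (w i).2))

theorem beta_add_left (u v w : Fin n → ZMod 2 × ZMod 2) : beta e (u + v) w = beta e u w + beta e v w := by
  simp only [beta, Pi.add_apply, Prod.fst_add, Prod.snd_add, ← Finset.sum_add_distrib]
  exact Finset.sum_congr rfl fun i _ => by ring

theorem beta_add_right (u v w : Fin n → ZMod 2 × ZMod 2) : beta e u (v + w) = beta e u v + beta e u w := by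
  simp only [beta, Pi.add_apply, Prod.fst_add, Prod.snd_add, ← Finset.sum_add_distrib]
  exact Finset.sum_congr rfl fun i _ => by ring

theorem beta_neg_left (v w : Fin n → ZMod 2 × ZMod 2) : beta e (-v) w = -beta e v w := by
  simp only [beta, Pi.neg_apply, Prod.fst_neg, Prod.snd_neg, ← Finset.sum_neg_distrib]
  exact Finset.sum_congr rfl fun i _ => by ring

theorem beta_zero_left (w : Fin n → ZMod 2 × ZMod 2) : beta e 0 w = 0 := by simp [beta]

theorem beta_zero_right (w : Fin n → ZMod 2 × ZMod 2) : beta e w 0 = 0 := by simp [beta]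

/-- The group of the cocycle. -/
def Grp (_e : Fin n → ZMod 2) : Type := Ext n

/-- The element with given coordinates. -/
def gmk (e : Fin n → ZMod 2) (v : Fin n → ZMod 2 × ZMod 2) (c : ZMod 2) : Grp e := (⟨v, c⟩ : Ext n)

theorem gext {a b : Grp e} (h1 : a.v = b.v) (h2 : a.z = b.z) : a = b := Ext.ext h1 h2

theorem two_cases (c : ZMod 2) : c = 0 ∨ c = 1 := by revert c; decide

instance : Group (Grp e) where
  mul a b := (⟨a.v + b.v, a.z + b.z + beta e a.v b.v⟩ : Ext n)
  one := (⟨0, 0⟩ : Ext n)
  inv a := (⟨-a.v, -a.z + beta e a.v a.v⟩ : Ext n)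
  mul_assoc a b c := by
    refine Ext.ext (add_assoc a.v b.v c.v) ?_
    show a.z + b.z + beta e a.v b.v + c.z + beta e (a.v + b.v) c.v =
      a.z + (b.z + c.z + beta e b.v c.v) + beta e a.v (b.v + c.v)
    rw [beta_add_left, beta_add_right]; ring
  one_mul a := by
    refine Ext.ext (zero_add a.v) ?_
    show 0 + a.z + beta e 0 a.v = a.z
    rw [beta_zero_left]; ring
  mul_one a := by
    refine Ext.ext (add_zero a.v) ?_
    show a.z + 0 + beta e a.v 0 = a.z
    rw [beta_zero_right]; ring
  inv_mul_cancel a := by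
    refine Ext.ext (neg_add_cancel a.v) ?_
    show -a.z + beta e a.v a.v + a.z + beta e (-a.v) a.v = 0
    rw [beta_neg_left]; ring

/-- Coordinates. -/
def toProd : Grp e ≃ (Fin n → ZMod 2 × ZMod 2) × ZMod 2 where
  toFun a := (a.v, a.z)
  invFun p := (⟨p.1, p.2⟩ : Ext n)
  left_inv _ := rfl
  right_inv _ := rfl

instance : Finite (Grp e) := Finite.of_equiv _ toProd.symm

noncomputable instance : Fintype (Grp e) := Fintype.ofFinite _

theorem mul_v (a b : Grp e) : (a * b).v = a.v + b.v := rfl

theorem mul_z (a b : Grp e) : (a * b).z = a.z + b.z + beta e a.v b.v := rfl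

theorem zmod_self (c : ZMod 2) : c + c = 0 := by revert c; decide

theorem sq_eq (a : Grp e) : a ^ 2 = gmk e 0 (beta e a.v a.v) := by
  rw [pow_two]
  refine gext (funext fun i => ?_) ?_
  · exact Prod.ext (zmod_self _) (zmod_self _)
  · show a.z + a.z + beta e a.v a.v = _
    rw [zmod_self, zero_add]
    rfl

theorem card_grp : Nat.card (Grp e) = 2 ^ (2 * n + 1) := by
  rw [Nat.card_congr (toProd (e := e)), Nat.card_prod, Nat.card_fun, Nat.card_prod]
  simp [pow_succ, pow_mul]

theorem commute_iff (a b : Grp e) : a * b = b * a ↔ beta e a.v b.v = beta e b.v a.v := by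
  constructor
  · intro h
    have := congrArg Ext.z h
    rw [mul_z, mul_z, add_comm b.z a.z] at this
    exact add_left_cancel this
  · intro h
    refine Ext.ext (add_comm _ _) ?_
    rw [mul_z, mul_z, h, add_comm b.z a.z]

/-- The sign of an element of `ZMod 2`. -/
def sg (c : ZMod 2) : ℤ := if c = 0 then 1 else -1

theorem sg_add (a b : ZMod 2) : sg (a + b) = sg a * sg b := by revert a b; decide

theorem sg_sum {ι : Type*} (s : Finset ι) (f : ι → ZMod 2) : sg (∑ i ∈ s, f i) = ∏ i ∈ s, sg (f i) := by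
  classical
  induction s using Finset.induction with
  | empty => simp [sg]
  | insert a s ha ih => rw [Finset.sum_insert ha, Finset.prod_insert ha, sg_add, ih]

theorem pair_zero : ∀ (p : ZMod 2 × ZMod 2) (c : ZMod 2),
    c * p.1 = p.2 + c * p.1 → p.1 + c * p.2 = c * p.2 → p = (0, 0) := by decide

theorem signSum_grp : CfsgLib.PGroup.signSum (Grp e) = 2 * ∏ i, (if e i = 0 then (2 : ℤ) else -2) := by
  classical
  rw [CfsgLib.PGroup.signSum_eq, ← (toProd (e := e)).symm.sum_comp, Fintype.sum_prod_type]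
  have key : ∀ (v : Fin n → ZMod 2 × ZMod 2) (c : ZMod 2),
      CfsgLib.PGroup.invSign ((toProd (e := e)).symm (v, c)) = sg (beta e v v) := by
    intro v c
    have hs : ((toProd (e := e)).symm (v, c)) ^ 2 = gmk e 0 (beta e v v) := sq_eq _
    by_cases hb : beta e v v = 0
    · rw [CfsgLib.PGroup.invSign_of_sq (hs.trans (by rw [hb]; rfl)), sg, if_pos hb]
    · rw [CfsgLib.PGroup.invSign_of_ne (fun h => hb (congrArg Ext.z (hs.symm.trans h) : _)), sg, if_neg hb]
  simp only [key, Finset.sum_const, Finset.card_univ, ZMod.card, nsmul_eq_mul]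
  rw [← Finset.mul_sum]
  push_cast
  congr 1
  simp only [beta, sg_sum]
  rw [← Fintype.prod_sum (fun i (p : ZMod 2 × ZMod 2) => sg (p.1 * p.2 + e i * (p.1 * p.1 + p.2 * p.2)))]
  refine Finset.prod_congr rfl fun i _ => ?_
  generalize e i = c
  revert c
  decide

/-- For every n ≥ 1 there exist finite extraspecial 2-groups of order 2^(2n+1) whose 2-rank (the largest rank of an elementary abelian subgroup) is n, and ones whose 2-rank is n + 1 (so for each such order there are two non-isomorphic extraspecial 2-groups, told apart by their 2-rank). -/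
theorem result (n : ℕ) (hn : 1 ≤ n) : ∀ r ∈ ({n, n + 1} : Set ℕ), ∃ (E : Type) (_ : Group E) (_ : Finite E), Cfsg.IsExtraspecial 2 E ∧ Nat.card E = 2 ^ (2 * n + 1) ∧ sSup {k : ℕ | ∃ A : Subgroup E, Cfsg.IsElementaryAbelian 2 A ∧ Nat.card A = 2 ^ k} = r := by
  classical
  haveI := Fact.mk Nat.prime_two
  intro r hr
  let i₀ : Fin n := ⟨0, hn⟩
  let e : Fin n → ZMod 2 := if r = n + 1 then 0 else fun i => if i = i₀ then 1 else 0
  let G := Grp e
  let E := ↥(⊤ : Subgroup G)
  set z : G := gmk e 0 1 with hz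
  have hz1 : z ≠ 1 := fun h => one_ne_zero (α := ZMod 2) (congrArg Ext.z h)
  have hz2 : z ^ 2 = 1 := by rw [sq_eq]; exact Ext.ext rfl (beta_zero_left (e := e) _)
  have hmemz : ∀ g : G, g.v = 0 → g ∈ zpowers z := by
    intro g hg
    have : g.z = 0 ∨ g.z = 1 := two_cases g.z
    rcases this with h | h
    · rw [show g = 1 from Ext.ext hg h]; exact one_mem _
    · rw [show g = z from Ext.ext hg h]; exact mem_zpowers z
  have hpg : IsPGroup 2 (⊤ : Subgroup G) := (IsPGroup.of_card (card_grp (e := e))).to_subgroup ⊤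
  have hcen : ∀ g : G, (∀ h : G, g * h = h * g) → g.v = 0 := by
    intro g hg
    funext i
    have a := (commute_iff g (gmk e (Pi.single i (1, 0)) 0)).1 (hg _)
    have b := (commute_iff g (gmk e (Pi.single i (0, 1)) 0)).1 (hg _)
    simp only [beta, gmk] at a b
    rw [Fintype.sum_eq_single i (fun j hj => by simp [Pi.single_eq_of_ne hj]),
      Fintype.sum_eq_single i (fun j hj => by simp [Pi.single_eq_of_ne hj])] at a b
    simp only [Pi.single_eq_same, mul_zero, zero_mul, mul_one, one_mul, add_zero, zero_add] at a b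
    show g.v i = (0, 0)
    exact pair_zero _ _ a b
  have hE : Cfsg.IsExtraspecial 2 E := by
    refine CfsgLib.SympPairs.isExtraspecial_of_data (z := z) ⊤ hpg
      ⟨hz2, hz1, mem_top _, fun g => (commute_iff g z).2 ?_, fun x _ y _ => hmemz _ ?_⟩
      (fun g _ => hmemz _ (by rw [sq_eq]; rfl)) (fun g _ hg => hmemz _ (hcen g fun h =>
        (mem_centralizer_iff.1 hg h (mem_top h)).symm)) ?_
    · rw [show z.v = 0 from rfl, beta_zero_left, beta_zero_right]
    · rw [commutatorElement_def, mul_v, mul_v, mul_v]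
      show x.v + y.v + -x.v + -y.v = 0
      abel
    · by_contra h
      push Not at h
      have := hcen (gmk e (Pi.single i₀ (1, 0)) 0)
        (fun g => commutatorElement_eq_one_iff_mul_comm.1 (h _ (mem_top _) g (mem_top g)))
      have := congrFun this i₀
      simp [gmk] at this
  have hcard : Nat.card E = 2 ^ (2 * n + 1) := by
    rw [show Nat.card E = Nat.card G from Nat.card_congr Subgroup.topEquiv.toEquiv]
    exact card_grp
  obtain ⟨hs, -⟩ := CfsgLib.PGroup.smallCenter_of_extraspecial hE
  have hsign : CfsgLib.PGroup.signSum E = CfsgLib.PGroup.signSum G := by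
    rw [CfsgLib.PGroup.signSum, CfsgLib.PGroup.signSum,
      show Nat.card E = Nat.card G from Nat.card_congr Subgroup.topEquiv.toEquiv,
      show Nat.card {x : E // x ^ 2 = 1} = Nat.card {x : G // x ^ 2 = 1} from Nat.card_congr
        { toFun := fun x => ⟨x.1.1, by rw [← SubgroupClass.coe_pow, x.2]; rfl⟩
          invFun := fun x => ⟨⟨x.1, mem_top _⟩, Subtype.ext x.2⟩
          left_inv := fun x => rfl
          right_inv := fun x => rfl }]
  have hrank : Cfsg.PRankLE 2 r E ∧ ¬ Cfsg.PRankLE 2 (r - 1) E := by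
    rw [hs.rank_le_iff hcard, hs.rank_le_iff hcard, hsign, signSum_grp]
    have hp : (0 : ℤ) < 2 ^ (n + 1) := by positivity
    by_cases h : r = n + 1
    · have he : e = 0 := if_pos h
      have e1 : (2 : ℤ) * ∏ i, (if e i = 0 then (2 : ℤ) else -2) = 2 ^ (n + 1) := by
        rw [he, pow_succ']; simp
      rw [e1]
      omega
    · have hrn : r = n := by
        rcases hr with h' | h'
        · exact h'
        · exact absurd h' h
      have he : e = fun i => if i = i₀ then 1 else 0 := if_neg h
      have e1 : (2 : ℤ) * ∏ i, (if e i = 0 then (2 : ℤ) else -2) = -(2 ^ (n + 1)) := by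
        rw [he, ← Finset.mul_prod_erase Finset.univ _ (Finset.mem_univ i₀)]
        rw [Finset.prod_congr rfl (g := fun _ => (2 : ℤ)) (fun j hj => by
          rw [if_pos (if_neg (Finset.ne_of_mem_erase hj))])]
        simp only [if_pos, one_ne_zero, if_false, Finset.prod_const,
          Finset.card_erase_of_mem (Finset.mem_univ i₀), Finset.card_univ, Fintype.card_fin]
        obtain ⟨m, rfl⟩ : ∃ m, n = m + 1 := ⟨n - 1, by omega⟩
        rw [Nat.add_sub_cancel]
        ring
      rw [e1]
      omega
  refine ⟨E, inferInstance, inferInstance, hE, hcard, IsGreatest.csSup_eq ⟨?_, ?_⟩⟩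
  · obtain ⟨h1, h2⟩ := hrank
    simp only [Cfsg.PRankLE, not_forall, not_le] at h2
    obtain ⟨A, hAc, hAe, hA⟩ := h2
    obtain ⟨k, hk⟩ := IsPGroup.iff_card.1 ((IsPGroup.of_card hcard).to_subgroup A)
    refine ⟨A, ⟨hAc, hAe⟩, ?_⟩
    have hle := h1 A hAc hAe
    rw [hk] at hA hle ⊢
    have a1 := (Nat.pow_le_pow_iff_right one_lt_two).1 hle
    have a2 := (Nat.pow_lt_pow_iff_right one_lt_two).1 hA
    congr 1
    omega
  · rintro k ⟨A, ⟨hAc, hAe⟩, hk⟩
    have := hrank.1 A hAc hAe
    rw [hk] at this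
    exact (Nat.pow_le_pow_iff_right one_lt_two).1 this

end Cfsg.Agent.S5396
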