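import Cfsg.Statements.S5408
import Cfsg.Agent.Lib.Spor.Leech.MonsterPlus

set_option autoImplicit false
open Cfsg

namespace Cfsg.Agent.S5408

/-- Let G be a finite group of Monster type at the involution z with Q the extraspecial normal subgroup of order 2^25 of C = C_G(z) (so C/Q is identified with the first Conway group with Q modulo its centre the Leech lattice modulo 2, and z is not weakly closed in Q). Then Q is of plus type: it contains an elementary abelian subgroup of order 2^13. -/
theorem result {G : Type*} [Group G] [Finite G] (z : G) (Q : Subgroup (Subgroup.centralizer ({z} : Set G))) [Q.Normal] (hM : Cfsg.IsOfMonsterType z Q) : ∃ E : Subgroup Q, Cfsg.IsElementaryAbelian 2 E ∧ Nat.card E = 2 ^ 13 := by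
  obtain ⟨⟨-, -, hQ, -, -⟩, e, ψ, hadd, -, hker, hcomp⟩ := hM
  haveI : Fact (Nat.Prime 2) := ⟨Nat.prime_two⟩
  obtain ⟨⟨hp, hfr, hcm⟩, hc⟩ := hQ
  have hsq : ∀ a : Q, a * a ∈ Subgroup.center Q := fun a => by
    rw [← pow_two, ← hfr]; exact CfsgLib.Coprime.pow_mem_frattini hp a
  have hK : ∀ a b : Q, CfsgLib.Spor.Leech.Plus.K a b ∈ Subgroup.center Q := fun a b => by
    rw [← hcm, CfsgLib.Spor.Leech.Plus.K, _root_.commutator_def]
    have h := Subgroup.commutator_mem_commutator (Subgroup.mem_top a⁻¹) (Subgroup.mem_top b)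
    rwa [commutatorElement_def, inv_inv] at h
  refine CfsgLib.Spor.Leech.Plus.Setting.exists_elementary
    { ψ := ψ, add := hadd, ker := hker, card := hc, sq := hsq, comm := hK, inv := fun g => ?_ }
  obtain ⟨x, hx⟩ := e.surjective (QuotientGroup.mk g)
  obtain ⟨h, rfl⟩ := QuotientGroup.mk_surjective x
  exact ⟨MulAut.conjNormal h, fun v q hq => hcomp h g hx.symm v q hq⟩

end Cfsg.Agent.S5408
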