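import Cfsg.Statements.S5410
import Cfsg.Agent.Lib.Spor.MonsterType.Cross

set_option autoImplicit false
open Cfsg

namespace Cfsg.Agent.S5410

/-- Let G be a finite group of Monster type at the involution z with Q the extraspecial normal subgroup of order 2^25 of C = C_G(z) (so C/Q is identified with the first Conway group with Q modulo its centre the Leech lattice modulo 2, and z is not weakly closed in Q). Let g in G with s = g z g⁻¹ a member of Q other than z, let X be the image in C/Q of the centralizer of s in C, and let E be the image in C/Q of the intersection of g Q g⁻¹ with C. Then E is a normal subgroup of X, elementary abelian of order 2^11, and it has a complement in X isomorphic to the Mathieu group of degree 24 (the automorphism group of the length-24 binary Golay code). -/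
theorem result {G : Type*} [Group G] [Finite G] (z : G) (Q : Subgroup (Subgroup.centralizer ({z} : Set G))) [Q.Normal] (hM : Cfsg.IsOfMonsterType z Q) (s : G) (hsQ : ∃ hsc : s ∈ Subgroup.centralizer ({z} : Set G), (⟨s, hsc⟩ : Subgroup.centralizer ({z} : Set G)) ∈ Q) (hs : IsConj z s) (hs1 : s ≠ z) (g : G) (hg : g * z * g⁻¹ = s) (X E : Subgroup ((Subgroup.centralizer ({z} : Set G)) ⧸ Q)) (hX : X = ((Subgroup.centralizer ({z} : Set G) ⊓ Subgroup.centralizer ({s} : Set G)).subgroupOf (Subgroup.centralizer ({z} : Set G))).map (QuotientGroup.mk' Q)) (hE : E = (((Q.map (Subgroup.centralizer ({z} : Set G)).subtype).map (MulAut.conj g).toMonoidHom ⊓ Subgroup.centralizer ({z} : Set G)).subgroupOf (Subgroup.centralizer ({z} : Set G))).map (QuotientGroup.mk' Q)) : E ≤ X ∧ (∀ x ∈ X, ∀ y ∈ E, x * y * x⁻¹ ∈ E) ∧ Cfsg.IsElementaryAbelian 2 E ∧ Nat.card E = 2 ^ 11 ∧ ∃ K : Subgroup ((Subgroup.centralizer ({z} : Set G)) ⧸ Q), K ≤ X ∧ E ⊓ K = ⊥ ∧ E ⊔ K = X ∧ Nonempty (K ≃* Cfsg.M24) := by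
  classical
  obtain ⟨hS, e, ψ, hψ⟩ := hM
  obtain ⟨R, D, -⟩ := CfsgLib.Spor.MonsterType.exists_data hS e ψ hψ
  obtain ⟨hsc, hsm⟩ := hsQ
  subst hg
  obtain ⟨h, -, -, hX0, hE0, -⟩ := D.image_conjugate (Subgroup.mem_map_of_mem _ hsm) hs1
  set f := CfsgLib.Spor.MonsterType.crossMap h with hf
  have hXe : X.map e.toMonoidHom = f.range := by rw [hX, Subgroup.map_map]; exact hX0
  have hEe : E.map e.toMonoidHom = CfsgLib.Spor.MonsterType.signs.map f := by rw [hE, Subgroup.map_map]; exact hE0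
  let r := e.symm.toMonoidHom.comp f
  have hXr : X = r.range := by
    rw [MonoidHom.range_comp, ← hXe, Subgroup.map_map]
    convert X.map_id.symm using 2
    ext x; simp
  have hEr : E = CfsgLib.Spor.MonsterType.signs.map r := by
    rw [← Subgroup.map_map, ← hEe, Subgroup.map_map]
    convert E.map_id.symm using 2
    ext x; simp
  have hr : ∀ {a b}, r a = r b → f a = f b := fun hab => e.symm.injective hab
  haveI := CfsgLib.Spor.MonsterType.signs_normal
  refine ⟨hEr ▸ hXr ▸ Subgroup.map_le_range _ _, ?_, ⟨⟨⟨?_⟩⟩, ?_⟩, ?_, CfsgLib.Spor.MonsterType.prm.range.map r,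
    hXr ▸ Subgroup.map_le_range _ _, ?_, ?_, ?_⟩
  · subst hXr hEr
    rintro _ ⟨a, rfl⟩ _ ⟨b, hb, rfl⟩
    exact ⟨a * b * a⁻¹, Subgroup.Normal.conj_mem inferInstance b hb a, by simp⟩
  · subst hEr
    rintro ⟨_, a, ha, rfl⟩ ⟨_, b, hb, rfl⟩
    exact Subtype.ext (by
      show r a * r b = r b * r a
      rw [← map_mul, ← map_mul, CfsgLib.Spor.MonsterType.signs_comm ha hb])
  · subst hEr
    rintro _ ⟨a, ha, rfl⟩
    rw [← map_pow, CfsgLib.Spor.MonsterType.signs_sq ha, map_one]
  · have h1 := CfsgLib.Spor.MonsterType.card_signs_image h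
    rw [← hEe, ← Nat.card_congr (E.equivMapOfInjective e.toMonoidHom e.injective).toEquiv] at h1
    rw [h1]; rfl
  · subst hEr
    refine (Subgroup.eq_bot_iff_forall _).2 ?_
    rintro _ ⟨⟨n, hn, rfl⟩, _, ⟨σ, rfl⟩, hσ⟩
    rw [← hσ, CfsgLib.Spor.MonsterType.prm_meet hn (hr hσ.symm), map_one, map_one]
  · subst hXr hEr
    refine le_antisymm (sup_le (Subgroup.map_le_range _ _) (Subgroup.map_le_range _ _)) ?_
    rintro _ ⟨a, rfl⟩
    obtain ⟨n, hn, σ, rfl⟩ := CfsgLib.Spor.MonsterType.split a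
    rw [map_mul]
    exact mul_mem (Subgroup.mem_sup_left (Subgroup.mem_map_of_mem _ hn))
      (Subgroup.mem_sup_right (Subgroup.mem_map_of_mem _ ⟨σ, rfl⟩))
  · rw [← MonoidHom.range_comp]
    refine ⟨(MonoidHom.ofInjective (f := r.comp CfsgLib.Spor.MonsterType.prm) ?_).symm⟩
    exact (injective_iff_map_eq_one _).2 fun σ hσ => CfsgLib.Spor.MonsterType.prm_meet (n := 1) (one_mem _)
      (h := h) (hr (by rw [map_one]; exact hσ.symm))

end Cfsg.Agent.S5410
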