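import Cfsg.Statements.S5411
import Cfsg.Agent.Lib.Spor.MonsterType.Fusion

set_option autoImplicit false
open Cfsg

namespace Cfsg.Agent.S5411

/-- Let G be a finite group of Monster type at the involution z with Q the extraspecial normal subgroup of order 2^25 of C = C_G(z) (so C/Q is identified with the first Conway group with Q modulo its centre the Leech lattice modulo 2, and z is not weakly closed in Q). Then C acts transitively by conjugation on the involutions of Q that are not conjugate to z in G. -/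
theorem result {G : Type*} [Group G] [Finite G] (z : G) (Q : Subgroup (Subgroup.centralizer ({z} : Set G))) [Q.Normal] (hM : Cfsg.IsOfMonsterType z Q) (s t : G) (hsQ : ∃ hsc : s ∈ Subgroup.centralizer ({z} : Set G), (⟨s, hsc⟩ : Subgroup.centralizer ({z} : Set G)) ∈ Q) (htQ : ∃ htc : t ∈ Subgroup.centralizer ({z} : Set G), (⟨t, htc⟩ : Subgroup.centralizer ({z} : Set G)) ∈ Q) (hs2 : orderOf s = 2) (ht2 : orderOf t = 2) (hs : ¬ IsConj z s) (ht : ¬ IsConj z t) : ∃ h ∈ Subgroup.centralizer ({z} : Set G), h * s * h⁻¹ = t := by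
  obtain ⟨R, π, D, hw⟩ := CfsgLib.Spor.MonsterType.exists_data' hM
  obtain ⟨hsc, hsm⟩ := hsQ
  obtain ⟨htc, htm⟩ := htQ
  have key : ∀ u : G, u ∈ Q.map (Subgroup.centralizer ({z} : Set G)).subtype → orderOf u = 2 → ¬ IsConj z u →
      ∃ v, R v u ∧ Cfsg.sqNorm (v : Cfsg.GolayPt → ℤ) = 32 := by
    intro u hu h2 hnc
    obtain ⟨v, hv, hn⟩ := D.norm_cases hu (fun e => by rw [e, orderOf_one] at h2; omega)
      (fun e => hnc (by rw [e])) (by rw [← pow_two, ← h2, pow_orderOf_eq_one])
    exact ⟨v, hv, hn.resolve_right fun h64 => hnc (D.conj_of_long hw hv h64).1⟩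
  obtain ⟨v, hv, hv32⟩ := key s (Subgroup.mem_map_of_mem _ hsm) hs2 hs
  obtain ⟨w, hw', hw32⟩ := key t (Subgroup.mem_map_of_mem _ htm) ht2 ht
  exact D.orbit hv hw' (Or.inl hv32) (hw32.trans hv32.symm)

end Cfsg.Agent.S5411
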