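import Cfsg.Statements.S5422
import Cfsg.Agent.Lib.Spor.LargeExtraFour

set_option autoImplicit false
open Cfsg
open scoped commutatorElement

namespace Cfsg.Agent.S5422

/-- Let Q be an extraspecial 2-subgroup of the finite group G whose centralizer in G is its centre Z and which is normal in the centralizer of Z; suppose Q has width at least 2 (order 2^(2w+1) with w ≥ 2) and g is an element of G not normalizing Z with g Z g⁻¹ inside Q. Then Z lies inside g Q g⁻¹; writing V for the subgroup generated by Z and g Z g⁻¹ (a four-group), the normalizer of V induces on V its full automorphism group, that is, the centralizer of V has index 6 in the normalizer of V; and Q is a large extraspecial 2-subgroup of G. -/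
theorem result {G : Type*} [Group G] [Finite G] (Q : Subgroup G) (hL1 : Cfsg.IsExtraspecial 2 ↥Q) (hL2 : Subgroup.centralizer (Q : Set G) = ((Subgroup.center ↥Q).map Q.subtype)) (hL3 : Subgroup.centralizer (((Subgroup.center ↥Q).map Q.subtype) : Set G) ≤ Subgroup.normalizer (Q : Set G)) (w : ℕ) (hw : 2 ≤ w) (hcard : Nat.card ↥Q = 2 ^ (2 * w + 1)) (g : G) (hg : g ∉ Subgroup.normalizer (((Subgroup.center ↥Q).map Q.subtype) : Set G)) (hZg : (((Subgroup.center ↥Q).map Q.subtype)).map (MulAut.conj g).toMonoidHom ≤ Q) : ((Subgroup.center ↥Q).map Q.subtype) ≤ (Q).map (MulAut.conj g).toMonoidHom ∧ (Subgroup.centralizer ((((Subgroup.center ↥Q).map Q.subtype) ⊔ (((Subgroup.center ↥Q).map Q.subtype)).map (MulAut.conj g).toMonoidHom : Subgroup G) : Set G)).relIndex (Subgroup.normalizer ((((Subgroup.center ↥Q).map Q.subtype) ⊔ (((Subgroup.center ↥Q).map Q.subtype)).map (MulAut.conj g).toMonoidHom : Subgroup G) : Set G)) = 6 ∧ Cfsg.IsLargeExtraspecial Q := by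
    obtain ⟨z, hz2, hz⟩ := CfsgLib.Spor.LargeQ.exists_central_involution hL1
    have hzmem : z ∈ (Subgroup.center ↥Q).map Q.subtype := (hz z).2 (Or.inr rfl)
    have hzz : z * z = 1 := by rw [← pow_two, ← hz2, pow_orderOf_eq_one]
    have hz1 : z ≠ 1 := fun e => by rw [e, orderOf_one] at hz2; omega
    have hzQ : z ∈ Q := Subgroup.map_subtype_le _ hzmem
    obtain ⟨z', hz'⟩ : ∃ z', g * z * g⁻¹ = z' := ⟨_, rfl⟩
    have hz'Q : z' ∈ Q := hZg ⟨z, hzmem, hz'⟩
    have hne : z' ≠ z := by
      intro e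
      refine hg (Subgroup.mem_normalizer_iff.2 fun x => ?_)
      rw [e] at hz'
      rw [hz, hz]
      constructor
      · rintro (rfl | rfl)
        · left; group
        · right; exact hz'
      · rintro (h | h)
        · left
          calc x = g⁻¹ * (g * x * g⁻¹) * g := by group
            _ = 1 := by rw [h]; group
        · right
          calc x = g⁻¹ * (g * x * g⁻¹) * g := by group
            _ = z := by
              rw [h]
              calc g⁻¹ * z * g = g⁻¹ * (g * z * g⁻¹) * g := by rw [hz']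
                _ = z := by group
    have hN : ∀ c, c * z = z * c → ∀ q ∈ Q, c * q * c⁻¹ ∈ Q := by
      intro c hc q hq
      refine (Subgroup.mem_normalizer_iff.1 (hL3 (Subgroup.mem_centralizer_iff.2 fun x hx => ?_)) q).1 hq
      rcases (hz x).1 hx with rfl | rfl
      · simp
      · exact hc.symm
    have h32 : 32 ≤ Nat.card Q := by
      rw [hcard]
      exact le_trans (by norm_num : 32 ≤ 2 ^ 5) (Nat.pow_le_pow_right (by norm_num) (by omega))
    obtain ⟨Q', hQ'⟩ : ∃ Q', Q.map (MulAut.conj g).toMonoidHom = Q' := ⟨_, rfl⟩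
    have hzQ' : z ∈ Q' := hQ' ▸ CfsgLib.Spor.LargeQ.centre_mem_conj Q z hL1 hz hz2 hL2 hN h32 g (hz' ▸ hne) (hz' ▸ hz'Q)
    have hz'Q' : z' ∈ Q' := hQ' ▸ ⟨z, hzQ, hz'⟩
    have hcomm : ∀ a ∈ Q, ∀ b ∈ Q, a * b * a⁻¹ * b⁻¹ = 1 ∨ a * b * a⁻¹ * b⁻¹ = z := fun a ha b hb =>
      (hz _).1 ⟨⁅(⟨a, ha⟩ : Q), ⟨b, hb⟩⁆,
        (CfsgLib.PGroup.smallCenter_of_extraspecial (p := 2) hL1).1.comm_mem _ _, rfl⟩
    have hz'z' : z' * z' = 1 := by
      rw [← hz', show g * z * g⁻¹ * (g * z * g⁻¹) = g * (z * z) * g⁻¹ by group, hzz]; group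
    have hz'1 : z' ≠ 1 := fun e => hz1 (by
      calc z = g⁻¹ * (g * z * g⁻¹) * g := by group
        _ = 1 := by rw [hz', e]; group)
    have move : ∀ u ∈ Q, u ≠ 1 → u ≠ z → ∃ y ∈ Q, y * u * y⁻¹ = z * u := by
      intro u hu h1 h2
      by_contra hcon
      push Not at hcon
      have : u ∈ Subgroup.centralizer (Q : Set G) := Subgroup.mem_centralizer_iff.2 fun q hq => by
        rcases hcomm q hq u hu with h | h
        · exact mul_inv_eq_iff_eq_mul.1 (mul_inv_eq_one.1 h)
        · exact absurd (mul_inv_eq_iff_eq_mul.1 h) (hcon q hq)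
      rw [hL2, hz] at this
      exact this.elim h1 h2
    have hzc : ∀ q ∈ Q, q * z = z * q := fun q hq => by
      obtain ⟨w, hw, e⟩ := hzmem
      rw [← e]; exact congrArg Subtype.val (Subgroup.mem_center_iff.1 hw ⟨q, hq⟩)
    have hzz' : z * z' = z' * z := (hzc z' hz'Q).symm
    obtain ⟨y, hyQ, hy⟩ := move z' hz'Q hz'1 hne
    obtain ⟨u, hu, hu'⟩ := Subgroup.mem_map.1 (hQ'.symm ▸ hzQ' : z ∈ Q.map (MulAut.conj g).toMonoidHom)
    replace hu' : g * u * g⁻¹ = z := hu'
    obtain ⟨y', hy'Q, hy'⟩ := move u hu (fun e => hz1 (by rw [← hu', e]; group))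
      (fun e => hne (by rw [← hz', ← e, hu', e]))
    have hy2 : (g * y' * g⁻¹) * z * (g * y' * g⁻¹)⁻¹ = z * z' ∧ (g * y' * g⁻¹) * z' * (g * y' * g⁻¹)⁻¹ = z' := by
      constructor
      · calc (g * y' * g⁻¹) * z * (g * y' * g⁻¹)⁻¹ = g * (y' * u * y'⁻¹) * g⁻¹ := by rw [← hu']; group
          _ = (g * z * g⁻¹) * (g * u * g⁻¹) := by rw [hy']; group
          _ = _ := by rw [hz', hu', hzz']
      · calc (g * y' * g⁻¹) * z' * (g * y' * g⁻¹)⁻¹ = g * (y' * z * y'⁻¹) * g⁻¹ := by rw [← hz']; group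
          _ = _ := by rw [hzc y' hy'Q, mul_inv_cancel_right, hz']
    have hy1 : y * z * y⁻¹ = z := by rw [hzc y hyQ, mul_inv_cancel_right]
    refine ⟨?_, ?_, ?_⟩
    · intro x hx
      rcases (hz x).1 hx with rfl | rfl
      · exact one_mem _
      · exact hQ'.symm ▸ hzQ'
    · let V₀ : Subgroup G :=
        { carrier := {x | x = 1 ∨ x = z ∨ x = z' ∨ x = z * z'}
          one_mem' := Or.inl rfl
          mul_mem' := by
            have e1 : z * (z * z') = z' := by rw [← mul_assoc, hzz, one_mul]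
            have e2 : z * z' * z = z' := by rw [hzz', mul_assoc, hzz, mul_one]
            have e3 : z' * (z * z') = z := by rw [hzz', ← mul_assoc, hz'z', one_mul]
            have e4 : z * z' * z' = z := by rw [mul_assoc, hz'z', mul_one]
            have e5 : z * z' * (z * z') = 1 := by rw [← mul_assoc, e2, hz'z']
            rintro _ _ (rfl | rfl | rfl | rfl) (rfl | rfl | rfl | rfl) <;>
              simp only [Set.mem_setOf_eq, one_mul, mul_one, hzz, hz'z', e1, e2, e3, e4, e5, ← hzz'] <;> simp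
          inv_mem' := by
            rintro _ (rfl | rfl | rfl | rfl)
            · exact Or.inl inv_one
            · exact Or.inr (Or.inl (inv_eq_of_mul_eq_one_right hzz))
            · exact Or.inr (Or.inr (Or.inl (inv_eq_of_mul_eq_one_right hz'z')))
            · refine Or.inr (Or.inr (Or.inr (inv_eq_of_mul_eq_one_right ?_)))
              rw [mul_assoc, ← mul_assoc z', ← hzz', mul_assoc z, hz'z', mul_one, hzz] }
      have hV : ((Subgroup.center ↥Q).map Q.subtype) ⊔
          ((Subgroup.center ↥Q).map Q.subtype).map (MulAut.conj g).toMonoidHom = V₀ := by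
        refine le_antisymm (sup_le ?_ ?_) ?_
        · intro x hx
          rcases (hz x).1 hx with rfl | rfl
          exacts [Or.inl rfl, Or.inr (Or.inl rfl)]
        · rintro _ ⟨x, hx, rfl⟩
          rcases (hz x).1 hx with rfl | rfl
          · exact Or.inl (map_one _)
          · exact Or.inr (Or.inr (Or.inl hz'))
        · rintro x (rfl | rfl | rfl | rfl)
          · exact one_mem _
          · exact Subgroup.mem_sup_left hzmem
          · exact Subgroup.mem_sup_right ⟨z, hzmem, hz'⟩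
          · exact mul_mem (Subgroup.mem_sup_left hzmem) (Subgroup.mem_sup_right ⟨z, hzmem, hz'⟩)
      rw [hV]
      exact CfsgLib.Spor.LargeQ.relIndex_four (a := z) (b := z') (s := y) (t := g * y' * g⁻¹) V₀
        (fun x => Iff.rfl) hz1 hz'1 hne.symm hzz hz'z' ⟨hy1, hy⟩ hy2
    · haveI : Fact (Nat.Prime 2) := ⟨Nat.prime_two⟩
      refine CfsgLib.Spor.LargeQ.large_of_involution Q hL1 hL2 hL3 z' hz'Q
        (fun h => ((hz z').1 h).elim hz'1 hne) (orderOf_eq_prime (by rw [pow_two, hz'z']) hz'1) ?_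
      have hQc : Q' ≤ Subgroup.centralizer ({z'} : Set G) := by
        rw [← hQ']
        rintro _ ⟨q, hq, rfl⟩
        refine Subgroup.mem_centralizer_singleton_iff.2 ?_
        show g * q * g⁻¹ * z' = z' * (g * q * g⁻¹)
        calc g * q * g⁻¹ * z' = g * (q * z) * g⁻¹ := by rw [← hz']; group
          _ = g * (z * q) * g⁻¹ := by rw [hzc q hq]
          _ = _ := by rw [← hz']; group
      have hn : (Q'.subgroupOf (Subgroup.centralizer ({z'} : Set G))).Normal := ⟨fun q hq c => by
        have hc := Subgroup.mem_centralizer_singleton_iff.1 c.2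
        obtain ⟨q₀, hq₀, e⟩ : (q : G) ∈ Q.map (MulAut.conj g).toMonoidHom := hQ'.symm ▸ hq
        have h : (g⁻¹ * (c : G) * g) * z = z * (g⁻¹ * (c : G) * g) := by
          generalize (c : G) = c₀ at hc ⊢
          calc g⁻¹ * c₀ * g * z = g⁻¹ * (c₀ * z') * g := by rw [← hz']; group
            _ = g⁻¹ * (z' * c₀) * g := by rw [hc]
            _ = _ := by rw [← hz']; group
        refine Subgroup.mem_subgroupOf.2 (hQ' ▸ ⟨_, hN _ h q₀ hq₀, ?_⟩)
        show g * (g⁻¹ * (c : G) * g * q₀ * (g⁻¹ * (c : G) * g)⁻¹) * g⁻¹ = (c : G) * (q : G) * (c : G)⁻¹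
        rw [← e, show (MulAut.conj g).toMonoidHom q₀ = g * q₀ * g⁻¹ from rfl]; group⟩
      have hp : IsPGroup 2 (Q'.subgroupOf (Subgroup.centralizer ({z'} : Set G))) :=
        (hQ' ▸ (hL1.1.1.map _) : IsPGroup 2 Q').of_equiv (Subgroup.subgroupOfEquivOfLe hQc).symm
      intro x hx
      have hxQ' : x ∈ Q' := by
        rcases (hz x).1 hx with rfl | rfl
        exacts [one_mem _, hzQ']
      exact ⟨⟨x, hQc hxQ'⟩, (le_sSup ⟨hn, hp⟩ : _ ≤ Cfsg.pCore 2 _) (Subgroup.mem_subgroupOf.2 hxQ'), rfl⟩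

end Cfsg.Agent.S5422
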