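import Cfsg.Statements.S5427
import Cfsg.Agent.Lib.Spor.LargeExtraSimple
-- import your own Cfsg.Agent.* helpers here

set_option autoImplicit false
open Cfsg

namespace Cfsg.Agent.S5427

/-- Let z be an involution of the finite group G whose centralizer C has generalized Fitting subgroup Q, an extraspecial 2-group of width at least 2 (order 2^(2w+1), w ≥ 2). Let K be a subgroup of G such that the subgroup U generated by the K-conjugates of z is abelian and C is generated by the C-conjugates of U. Suppose that either some K-conjugate of z other than z lies in Q, or some element u of U ∩ Q outside the subgroup generated by z has z in the largest normal 2-subgroup of its centralizer. Then G is simple and Q is a large extraspecial 2-subgroup of G. -/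
theorem result {G : Type*} [Group G] [Finite G] (z : G) (hz : orderOf z = 2) (Q : Subgroup G) (hQC : Q ≤ Subgroup.centralizer ({z} : Set G)) (hF : (Cfsg.generalizedFittingSubgroup ↥(Subgroup.centralizer ({z} : Set G))).map (Subgroup.centralizer ({z} : Set G)).subtype = Q) (hQ : Cfsg.IsExtraspecial 2 ↥Q) (w : ℕ) (hw : 2 ≤ w) (hcard : Nat.card ↥Q = 2 ^ (2 * w + 1)) (K U : Subgroup G) (hU : U = Subgroup.closure {x : G | ∃ k ∈ K, x = k * z * k⁻¹}) (hUab : IsMulCommutative ↥U) (hgen : Subgroup.closure {x : G | ∃ c ∈ Subgroup.centralizer ({z} : Set G), ∃ u ∈ U, x = c * u * c⁻¹} = Subgroup.centralizer ({z} : Set G)) (h3 : (∃ k ∈ K, k * z * k⁻¹ ∈ Q ∧ k * z * k⁻¹ ≠ z) ∨ ∃ u ∈ U ⊓ Q, u ∉ Subgroup.zpowers z ∧ (∃ hz' : z ∈ Subgroup.centralizer ({u} : Set G), (⟨z, hz'⟩ : ↥(Subgroup.centralizer ({u} : Set G))) ∈ Cfsg.pCore 2 ↥(Subgroup.centralizer ({u} : Set G)))) : IsSimpleGroup G ∧ Cfsg.IsLargeExtraspecial Q := by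
  have hcore := CfsgLib.Spor.LargeQ.core_of_fitting z hz Q hF hQ
  have hbig : 32 ≤ Nat.card Q := by
    rw [hcard]
    exact le_trans (by norm_num) (Nat.pow_le_pow_right (by norm_num) (show 5 ≤ 2 * w + 1 by omega))
  haveI := hUab
  have hzz : z * z = 1 := by rw [← pow_two, ← hz, pow_orderOf_eq_one]
  have hU2 : ∀ x ∈ U, x * x = 1 := by
    have key : ∀ x ∈ Subgroup.closure {x : G | ∃ k ∈ K, x = k * z * k⁻¹}, x * x = 1 := by
      intro x hx
      refine Subgroup.closure_induction (p := fun y _ => y * y = 1) ?_ (one_mul 1) ?_ ?_ hx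
      · rintro _ ⟨k, -, rfl⟩
        rw [show k * z * k⁻¹ * (k * z * k⁻¹) = k * (z * z) * k⁻¹ by group, hzz]; group
      · intro a b ha hb iha ihb
        have hab : a * b = b * a := congrArg Subtype.val
          (hUab.is_comm.comm (⟨a, hU ▸ ha⟩ : ↥U) ⟨b, hU ▸ hb⟩)
        calc a * b * (a * b) = a * b * (b * a) := by rw [← hab]
          _ = a * (b * b) * a := by group
          _ = 1 := by rw [ihb, mul_one, iha]
      · intro a _ iha
        rw [← _root_.mul_inv_rev, iha, inv_one]
    rw [hU]; exact key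
  have hlarge : Cfsg.IsLargeExtraspecial Q := by
    rcases h3 with ⟨k, -, hkQ, hkne⟩ | ⟨u, hu, huz, hw'⟩
    · exact hcore.large_of_conj hbig k hkne hkQ
    · refine hcore.large_of_witness hu.2 ?_ (fun e => huz (e ▸ Subgroup.mem_zpowers z)) hw'
      haveI : Fact (Nat.Prime 2) := ⟨Nat.prime_two⟩
      exact orderOf_eq_prime (by rw [pow_two]; exact hU2 u hu.1) fun e => huz (e ▸ one_mem _)
  refine ⟨hcore.isSimple hlarge fun N hN hzN => ?_, hlarge⟩
  rw [← hgen, Subgroup.closure_le]
  rintro _ ⟨c, -, u, hu, rfl⟩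
  refine hN.conj_mem u ?_ c
  have hUN : U ≤ N := by
    rw [hU, Subgroup.closure_le]
    rintro _ ⟨k, -, rfl⟩
    exact hN.conj_mem z hzN k
  exact hUN hu

end Cfsg.Agent.S5427
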