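import Cfsg.Statements.S5430
import Cfsg.Agent.Lib.Spor.LargeExtraDuoNormal

set_option autoImplicit false
open Cfsg

namespace Cfsg.Agent.S5430

/-- Let Q be a large extraspecial 2-subgroup of the finite group G (extraspecial; centralizer equal to its centre; normal in the centralizer of its centre; normalizing no non-trivial subgroup of odd order) with centre generated by z, an involution, of width w ≥ 2 (order 2^(2w+1)); let g be an element outside the centralizer H of z with g z g⁻¹ in Q; write V for the subgroup generated by z and g z g⁻¹, X for the subgroup generated by Q and g Q g⁻¹, R for the subgroup generated by the centralizer of z in g Q g⁻¹ and the centralizer of g z g⁻¹ in Q, and E for the intersection of Q and g Q g⁻¹. Then R is the centralizer of V in X and is the largest normal 2-subgroup of X, and X/R is isomorphic to the symmetric group of degree 3; moreover the normalizer of V is the product of X and the centralizer of V in H, X is normal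 in it, and modulo R it is the direct product of X/R and of the centralizer of V in H modulo R. -/
theorem result {G : Type*} [Group G] [Finite G] (Q : Subgroup G) (hQ : Cfsg.IsLargeExtraspecial Q) (z : G) (hz : ((Subgroup.center ↥Q).map Q.subtype) = Subgroup.zpowers z) (hz2 : orderOf z = 2) (w : ℕ) (hw : 2 ≤ w) (hcard : Nat.card ↥Q = 2 ^ (2 * w + 1)) (g : G) (hgH : g ∉ Subgroup.centralizer ({z} : Set G)) (hgQ : g * z * g⁻¹ ∈ Q) (V X R E : Subgroup G) (hV : V = Subgroup.closure ({z, g * z * g⁻¹} : Set G)) (hX : X = Q ⊔ (Q).map (MulAut.conj g).toMonoidHom) (hR : R = ((Q).map (MulAut.conj g).toMonoidHom ⊓ Subgroup.centralizer ({z} : Set G)) ⊔ (Q ⊓ Subgroup.centralizer ({g * z * g⁻¹} : Set G))) (hE : E = Q ⊓ (Q).map (MulAut.conj g).toMonoidHom) : R = X ⊓ Subgroup.centralizer (V : Set G) ∧ R = (Cfsg.pCore 2 ↥X).map X.subtype ∧ (∃ h : (R.subgroupOf X).Normal, Nonempty (↥X ⧸ R.subgroupOf X ≃* Equiv.Perm (Fin 3))) ∧ Subgroup.normalizer (V : Set G) = X ⊔ (Subgroup.centralizer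 ({z} : Set G) ⊓ Subgroup.centralizer (V : Set G)) ∧ (∀ y ∈ Subgroup.normalizer (V : Set G), ∀ x ∈ X, y * x * y⁻¹ ∈ X) ∧ R ≤ Subgroup.centralizer ({z} : Set G) ⊓ Subgroup.centralizer (V : Set G) ∧ (∀ x ∈ X, ∀ c ∈ Subgroup.centralizer ({z} : Set G) ⊓ Subgroup.centralizer (V : Set G), x * c * x⁻¹ * c⁻¹ ∈ R) ∧ X ⊓ (Subgroup.centralizer ({z} : Set G) ⊓ Subgroup.centralizer (V : Set G)) = R := by
    have hbig : 32 ≤ Nat.card Q := by
      rw [hcard]
      exact le_trans (by norm_num : 32 ≤ 2 ^ 5) (Nat.pow_le_pow_right (by norm_num) (by omega))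
    have h := CfsgLib.Spor.LargeQ.Duo.of_large hQ hz hz2 hbig hgH hgQ
    obtain ⟨Q', hQ'⟩ : ∃ Q', Q.map (MulAut.conj g).toMonoidHom = Q' := ⟨_, rfl⟩
    rw [hQ'] at h hX hR hE
    obtain ⟨z', hz'⟩ : ∃ z', g * z * g⁻¹ = z' := ⟨_, rfl⟩
    rw [hz'] at h hV hR
    replace hR : R = CfsgLib.Spor.LargeQ.Duo.core Q Q' z z' := hR
    subst hV hX hR hE
    clear hgQ hgH hQ' hz'
    haveI : Fact (Nat.Prime 2) := ⟨Nat.prime_two⟩
    obtain ⟨φ, hsurj, hker, hRX, -⟩ := h.structure_join
    set R := CfsgLib.Spor.LargeQ.Duo.core Q Q' z z' with hRdef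
    have hXn := h.join_le_normalizer
    have hRle : R ≤ Q ⊔ Q' := fun x hx => (h.core_le hx).1
    haveI hn : (R.subgroupOf (Q ⊔ Q')).Normal := hker ▸ φ.normal_ker
    obtain ⟨hXinv, hNV⟩ := h.normalizer_V
    have hCle : Subgroup.centralizer ((Subgroup.closure ({z, z'} : Set G) : Subgroup G) : Set G) ≤
        Subgroup.centralizer ({z} : Set G) := Subgroup.centralizer_le (by
      rintro x rfl
      exact Subgroup.subset_closure (by simp))
    rw [inf_eq_right.2 hCle]
    have hRXV : R = (Q ⊔ Q') ⊓ Subgroup.centralizer ((Subgroup.closure ({z, z'} : Set G) : Subgroup G) : Set G) := by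
      rw [h.centralizer_V]; exact hRX
    refine ⟨hRXV, le_antisymm ?_ ?_, ⟨hn, ⟨(QuotientGroup.quotientMulEquivOfEq hker.symm).trans
      (QuotientGroup.quotientKerEquivOfSurjective φ hsurj)⟩⟩, hNV, hXinv, ?_, ?_, hRXV.symm⟩
    · intro x hx
      have hle : R.subgroupOf (Q ⊔ Q') ≤ Cfsg.pCore 2 ↥(Q ⊔ Q') :=
        le_sSup ⟨hn, h.core_isPGroup.of_equiv (Subgroup.subgroupOfEquivOfLe hRle).symm⟩
      exact ⟨⟨x, hRle hx⟩, hle (Subgroup.mem_subgroupOf.2 hx), rfl⟩
    · rintro _ ⟨x, hx, rfl⟩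
      have hP := (CfsgLib.PGroup.isPGroup_pCore 2 ↥(Q ⊔ Q')).map φ
      haveI hPn : ((Cfsg.pCore 2 ↥(Q ⊔ Q')).map φ).Normal := by
        refine Subgroup.Normal.map ⟨fun a ha b => ?_⟩ φ hsurj
        have : (Cfsg.pCore 2 ↥(Q ⊔ Q')).map (MulAut.conj b).toMonoidHom ≤ Cfsg.pCore 2 ↥(Q ⊔ Q') := by
          rw [Subgroup.map_le_iff_le_comap]
          exact sSup_le fun N hN y hy => Subgroup.mem_comap.2 (le_sSup hN (hN.1.conj_mem y hy b))
        exact this ⟨a, ha, rfl⟩
      have hbot : ∀ σ ∈ (Cfsg.pCore 2 ↥(Q ⊔ Q')).map φ, σ = 1 := by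
        intro σ hσ
        by_contra hne
        obtain ⟨τ, h3, h1⟩ := (by decide +kernel : ∀ σ : Equiv.Perm (Fin 3), σ ≠ 1 →
          ∃ τ : Equiv.Perm (Fin 3), (σ * (τ * σ⁻¹ * τ⁻¹)) ^ 3 = 1 ∧ σ * (τ * σ⁻¹ * τ⁻¹) ≠ 1) σ hne
        have hc := mul_mem hσ (hPn.conj_mem _ (inv_mem hσ) τ)
        obtain ⟨k, hk⟩ := hP ⟨_, hc⟩
        refine h1 (orderOf_eq_one_iff.1 ?_)
        have d1 := orderOf_dvd_of_pow_eq_one h3
        have d2 := orderOf_dvd_of_pow_eq_one (congrArg Subtype.val hk)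
        exact Nat.dvd_one.1 (((by norm_num : Nat.Coprime 3 2).pow_right k) ▸ Nat.dvd_gcd d1 d2)
      have : x ∈ φ.ker := MonoidHom.mem_ker.2 (hbot _ ⟨x, hx, rfl⟩)
      rw [hker] at this
      exact Subgroup.mem_subgroupOf.1 this
    · rw [hRXV]; exact inf_le_right
    · intro x hx c hc
      rw [hRXV]
      have hcN : c ∈ Subgroup.normalizer ((Subgroup.closure ({z, z'} : Set G) : Subgroup G) : Set G) :=
        Subgroup.centralizer_le_normalizer _ hc
      have hxN : x ∈ Subgroup.normalizer ((Subgroup.closure ({z, z'} : Set G) : Subgroup G) : Set G) := by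
        rw [hNV]; exact Subgroup.mem_sup_left hx
      refine Subgroup.mem_inf.2 ⟨?_, ?_⟩
      · rw [mul_assoc x, mul_assoc x]
        exact mul_mem hx (hXinv c hcN _ (inv_mem hx))
      · refine mul_mem ?_ (inv_mem hc)
        refine Subgroup.mem_centralizer_iff.2 fun v hv => ?_
        have hv' : x⁻¹ * v * x ∈ (Subgroup.closure ({z, z'} : Set G) : Subgroup G) := by
          have := (Subgroup.mem_normalizer_iff.1 (inv_mem hxN) v).1 hv
          rwa [inv_inv] at this
        have := Subgroup.mem_centralizer_iff.1 hc _ hv'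
        calc v * (x * c * x⁻¹) = x * ((x⁻¹ * v * x) * c) * x⁻¹ := by group
          _ = x * (c * (x⁻¹ * v * x)) * x⁻¹ := by rw [this]
          _ = _ := by group

end Cfsg.Agent.S5430
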