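import Cfsg.Statements.S5431
import Cfsg.Agent.Lib.Spor.LargeExtraDuoNormal

set_option autoImplicit false
open Cfsg
open scoped commutatorElement

namespace Cfsg.Agent.S5431

/-- Let Q be a large extraspecial 2-subgroup of the finite group G (extraspecial; centralizer equal to its centre; normal in the centralizer of its centre; normalizing no non-trivial subgroup of odd order) with centre generated by z, an involution, of width w ≥ 2 (order 2^(2w+1)); let g be an element outside the centralizer H of z with g z g⁻¹ in Q; write V for the subgroup generated by z and g z g⁻¹, X for the subgroup generated by Q and g Q g⁻¹, R for the subgroup generated by the centralizer of z in g Q g⁻¹ and the centralizer of g z g⁻¹ in Q, and E for the intersection of Q and g Q g⁻¹. Then V is the centre of R, E lies in the second centre of R, R is nilpotent of class at most 3, E and R/E are elementary abelian, R/E is the direct product of the images of the centralizer of g z g⁻¹ in Q and of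 the centralizer of z in g Q g⁻¹ (R is their product and they meet in E), and the commutator subgroup of X and E lies in V. -/
theorem result {G : Type*} [Group G] [Finite G] (Q : Subgroup G) (hQ : Cfsg.IsLargeExtraspecial Q) (z : G) (hz : ((Subgroup.center ↥Q).map Q.subtype) = Subgroup.zpowers z) (hz2 : orderOf z = 2) (w : ℕ) (hw : 2 ≤ w) (hcard : Nat.card ↥Q = 2 ^ (2 * w + 1)) (g : G) (hgH : g ∉ Subgroup.centralizer ({z} : Set G)) (hgQ : g * z * g⁻¹ ∈ Q) (V X R E : Subgroup G) (hV : V = Subgroup.closure ({z, g * z * g⁻¹} : Set G)) (hX : X = Q ⊔ (Q).map (MulAut.conj g).toMonoidHom) (hR : R = ((Q).map (MulAut.conj g).toMonoidHom ⊓ Subgroup.centralizer ({z} : Set G)) ⊔ (Q ⊓ Subgroup.centralizer ({g * z * g⁻¹} : Set G))) (hE : E = Q ⊓ (Q).map (MulAut.conj g).toMonoidHom) : (Subgroup.center ↥R).map R.subtype = V ∧ E ≤ (Subgroup.upperCentralSeries ↥R 2).map R.subtype ∧ Subgroup.upperCentralSeries ↥R 3 = ⊤ ∧ Cfsg.IsElementaryAbelian 2 E ∧ (∀ x ∈ R, ∀ y ∈ R, x * y * x⁻¹ * y⁻¹ ∈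 E ∧ x ^ 2 ∈ E) ∧ ((Q).map (MulAut.conj g).toMonoidHom ⊓ Subgroup.centralizer ({z} : Set G)) ⊓ (Q ⊓ Subgroup.centralizer ({g * z * g⁻¹} : Set G)) = E ∧ ⁅X, E⁆ ≤ V := by
    have hbig : 32 ≤ Nat.card Q := by
      rw [hcard]
      exact le_trans (by norm_num : 32 ≤ 2 ^ 5) (Nat.pow_le_pow_right (by norm_num) (by omega))
    have h := CfsgLib.Spor.LargeQ.Duo.of_large hQ hz hz2 hbig hgH hgQ
    obtain ⟨Q', hQ'⟩ : ∃ Q', Q.map (MulAut.conj g).toMonoidHom = Q' := ⟨_, rfl⟩
    rw [hQ'] at h hX hR hE ⊢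
    obtain ⟨z', hz'⟩ : ∃ z', g * z * g⁻¹ = z' := ⟨_, rfl⟩
    rw [hz'] at h hV hR ⊢
    replace hR : R = CfsgLib.Spor.LargeQ.Duo.core Q Q' z z' := hR
    subst hV hX hR hE
    clear hgQ hgH hQ' hz'
    set R := CfsgLib.Spor.LargeQ.Duo.core Q Q' z z' with hRdef
    have hzR : z ∈ R := h.mem_left h.left.mem h.comm_zz
    have hz'R : z' ∈ R := h.mem_left h.mem' rfl
    have hcR : ∀ r ∈ R, ∀ v : G, (v = 1 ∨ v = z ∨ v = z' ∨ v = z * z') → r * v = v * r := by
      intro r hr v hv
      have hc := h.core_comm hr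
      rcases hv with rfl | rfl | rfl | rfl
      exacts [by simp, hc.1, hc.2, by rw [← mul_assoc, hc.1, mul_assoc, hc.2, mul_assoc]]
    have hmemR : ∀ v : G, (v = 1 ∨ v = z ∨ v = z' ∨ v = z * z') → v ∈ R := by
      rintro v (rfl | rfl | rfl | rfl)
      exacts [one_mem _, hzR, hz'R, mul_mem hzR hz'R]
    have hcent : ∀ r : ↥R, ((r : G) = 1 ∨ (r : G) = z ∨ (r : G) = z' ∨ (r : G) = z * z') → r ∈ Subgroup.center ↥R :=
      fun r hr => Subgroup.mem_center_iff.2 fun s => Subtype.ext (hcR s s.2 r hr)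
    have hER : Q ⊓ Q' ≤ R := fun e he => h.mem_left he.1 (h.right.cz e he.2)
    have hE2 : ∀ e : ↥R, (e : G) ∈ Q ⊓ Q' → e ∈ Subgroup.upperCentralSeries ↥R 2 := by
      intro e he
      refine Subgroup.mem_upperCentralSeries_succ_iff.2 fun s => ?_
      rw [Subgroup.upperCentralSeries_one]
      refine hcent _ ?_
      have := h.comm_inter s.2 he
      have e1 : ((⁅e, s⁆ : ↥R) : G) = ((s : G) * e * (s : G)⁻¹ * (e : G)⁻¹)⁻¹ := by
        show (e : G) * s * (e : G)⁻¹ * (s : G)⁻¹ = _
        group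
      rw [e1]
      rcases this with k | k | k | k <;> rw [k]
      · left; exact inv_one
      · right; left; exact inv_eq_of_mul_eq_one_right h.left.sq
      · right; right; left; exact inv_eq_of_mul_eq_one_right h.right.sq
      · right; right; right
        exact inv_eq_of_mul_eq_one_right (by rw [mul_assoc, ← mul_assoc z', ← h.comm_zz, mul_assoc z, h.right.sq, mul_one, h.left.sq])
    refine ⟨le_antisymm ?_ ?_, ?_, ?_, ?_, fun x hx y hy => ?_, le_antisymm ?_ ?_, ?_⟩
    · rintro _ ⟨c, hc, rfl⟩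
      exact h.mem_V.2 (h.center_core c.2 fun r hr => congrArg Subtype.val (Subgroup.mem_center_iff.1 hc ⟨r, hr⟩))
    · intro v hv
      have hv' := h.mem_V.1 hv
      exact ⟨⟨v, hmemR v hv'⟩, hcent _ hv', rfl⟩
    · intro e he
      exact ⟨⟨e, hER he⟩, hE2 _ he, rfl⟩
    · refine eq_top_iff.2 fun r _ => Subgroup.mem_upperCentralSeries_succ_iff.2 fun s => hE2 _ ?_
      exact (h.core_mod r.2 s.2).1
    · refine ⟨⟨⟨fun a b => Subtype.ext (h.inter_abelian a.2.1 a.2.2 b.2.1 b.2.2)⟩⟩, fun a ha => ?_⟩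
      rw [pow_two]; exact h.inter_sq ha.1 ha.2
    · refine ⟨(h.core_mod hx hy).1, ?_⟩
      rw [pow_two]; exact (h.core_mod hx hy).2
    · exact fun x hx => ⟨hx.2.1, hx.1.1⟩
    · exact fun e he => ⟨⟨he.2, Subgroup.mem_centralizer_singleton_iff.2 (h.left.cz e he.1)⟩,
        ⟨he.1, Subgroup.mem_centralizer_singleton_iff.2 (h.right.cz e he.2)⟩⟩
    · obtain ⟨φ, -, -, -, hp⟩ := h.structure_join
      have hp' := hp _ rfl
      rw [Subgroup.commutator_le]
      intro x hx e he
      rw [Subgroup.sup_eq_closure] at hx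
      have key : ∀ u, u ∈ Subgroup.closure ((Q : Set G) ∪ Q') →
          u ∈ Subgroup.normalizer ((Subgroup.closure ({z, z'} : Set G) : Subgroup G) : Set G) ∧
          u * e * u⁻¹ * e⁻¹ ∈ (Subgroup.closure ({z, z'} : Set G) : Subgroup G) := by
        have hN : ∀ u, u ∈ Subgroup.closure ((Q : Set G) ∪ Q') →
            u ∈ Subgroup.normalizer ((Subgroup.closure ({z, z'} : Set G) : Subgroup G) : Set G) := fun u hu => by
          rw [h.normalizer_V.2]
          exact Subgroup.mem_sup_left (by rwa [Subgroup.sup_eq_closure])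
        intro u hu
        refine ⟨hN u hu, ?_⟩
        refine Subgroup.closure_induction (fun a ha => ?_) (by simp) (fun a b ha _ iha ihb => ?_) (fun a ha iha => ?_) hu
        · rcases ha with ha | ha
          · rcases h.left.comm a ha e he.1 with k | k <;> rw [k]
            exacts [one_mem _, h.mem_V.2 (by tauto)]
          · rcases h.right.comm a ha e he.2 with k | k <;> rw [k]
            exacts [one_mem _, h.mem_V.2 (by tauto)]
        · rw [show a * b * e * (a * b)⁻¹ * e⁻¹ = (a * (b * e * b⁻¹ * e⁻¹) * a⁻¹) * (a * e * a⁻¹ * e⁻¹) by group]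
          exact mul_mem ((Subgroup.mem_normalizer_iff.1 (hN a ha) _).1 ihb) iha
        · rw [show a⁻¹ * e * a⁻¹⁻¹ * e⁻¹ = (a⁻¹ * (a * e * a⁻¹ * e⁻¹) * a⁻¹⁻¹)⁻¹ by group]
          exact inv_mem ((Subgroup.mem_normalizer_iff.1 (inv_mem (hN a ha)) _).1 iha)
      exact (key x hx).2

end Cfsg.Agent.S5431
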