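import Cfsg.Statements.S5436
import Cfsg.Agent.Lib.Spor.LargeExtraSimple
import Cfsg.Agent.Lib.Spor.AffineExtraspecial
-- import your own Cfsg.Agent.* helpers here

set_option autoImplicit false
open Cfsg

namespace Cfsg.Agent.S5436

/-- Let z be an involution of the finite group G with centralizer H whose generalized Fitting subgroup Q is extraspecial of width at least 2 (order 2^(2w+1), w ≥ 2); suppose some conjugate of z other than z lies in Q, H/Q is a non-abelian simple group, H acts irreducibly by conjugation on Q modulo the subgroup generated by z (the only H-invariant subgroups of Q containing z are that subgroup and Q), and Q is not the subgroup generated by the conjugates of z lying in H. Then G is simple. -/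
theorem result {G : Type*} [Group G] [Finite G] (z : G) (hz : orderOf z = 2) (Q : Subgroup (Subgroup.centralizer ({z} : Set G))) [Q.Normal] (hF : Cfsg.generalizedFittingSubgroup ↥(Subgroup.centralizer ({z} : Set G)) = Q) (hQ : Cfsg.IsExtraspecial 2 ↥Q) (w : ℕ) (hw : 2 ≤ w) (hcard : Nat.card ↥Q = 2 ^ (2 * w + 1)) (hnwc : ∃ g : G, (∃ hq : g * z * g⁻¹ ∈ Subgroup.centralizer ({z} : Set G), (⟨g * z * g⁻¹, hq⟩ : Subgroup.centralizer ({z} : Set G)) ∈ Q) ∧ g * z * g⁻¹ ≠ z) (hsimp : IsSimpleGroup (↥(Subgroup.centralizer ({z} : Set G)) ⧸ Q)) (hna : ¬ IsMulCommutative (↥(Subgroup.centralizer ({z} : Set G)) ⧸ Q)) (hirr : ∀ W : Subgroup (Subgroup.centralizer ({z} : Set G)), W.Normal → W ≤ Q → (W = Q ∨ ∀ x ∈ W, (x : G) ∈ Subgroup.zpowers z)) (hwcl : Subgroup.closure {x : Subgroup.centralizer ({z} : Set G) | IsConj z (x : G)} ≠ Q) : IsSimpleGroup G := by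
  have hE : Cfsg.IsExtraspecial 2 ↥(Q.map (Subgroup.centralizer ({z} : Set G)).subtype) :=
    CfsgLib.Spor.Affine.isExtraspecial_congr (Q.equivMapOfInjective _ (Subgroup.centralizer ({z} : Set G)).subtype_injective) hQ
  have hcore := CfsgLib.Spor.LargeQ.core_of_fitting z hz (Q.map (Subgroup.centralizer ({z} : Set G)).subtype) (by rw [hF]) hE
  have hbig : 32 ≤ Nat.card ↥(Q.map (Subgroup.centralizer ({z} : Set G)).subtype) := by
    rw [Subgroup.card_map_of_injective (Subgroup.centralizer ({z} : Set G)).subtype_injective, hcard]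
    exact le_trans (by norm_num) (Nat.pow_le_pow_right (by norm_num) (show 5 ≤ 2 * w + 1 by omega))
  obtain ⟨g, ⟨hq, hgQ⟩, hgne⟩ := hnwc
  have hlarge := hcore.large_of_conj hbig g hgne ⟨_, hgQ, rfl⟩
  refine hcore.isSimple hlarge fun N hN hzN => ?_
  set S := {x : ↥(Subgroup.centralizer ({z} : Set G)) | IsConj z (x : G)} with hS
  set W := Subgroup.closure S with hW
  have hWN : ∀ x ∈ W, (x : G) ∈ N := by
    have h : W ≤ N.comap (Subgroup.centralizer ({z} : Set G)).subtype := by
      rw [hW, Subgroup.closure_le]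
      intro x hx
      obtain ⟨a, ha⟩ := isConj_iff.1 (show IsConj z (x : G) from hx)
      show (x : G) ∈ N
      rw [← ha]; exact hN.conj_mem z hzN a
    exact fun x hx => h hx
  have hWconj : ∀ c, ∀ x ∈ W, c * x * c⁻¹ ∈ W := by
    intro c x hx
    have h : W ≤ W.comap (MulAut.conj c).toMonoidHom := by
      conv_lhs => rw [hW]
      rw [Subgroup.closure_le]
      intro y hy
      refine Subgroup.subset_closure ?_
      show IsConj z ((c * y * c⁻¹ : ↥(Subgroup.centralizer ({z} : Set G))) : G)
      exact (show IsConj z (y : G) from hy).trans (isConj_iff.2 ⟨(c : G), rfl⟩)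
    exact h hx
  haveI hWn : W.Normal := ⟨fun x hx c => hWconj c x hx⟩
  have hQW : Q ≤ W := by
    rcases hirr (W ⊓ Q) (Subgroup.normal_inf_normal _ _) inf_le_right with h | h
    · exact h ▸ inf_le_left
    · exfalso
      have h1 := h ⟨g * z * g⁻¹, hq⟩ ⟨Subgroup.subset_closure (isConj_iff.2 ⟨g, rfl⟩), hgQ⟩
      have h2 : g * z * g⁻¹ ∈ Subgroup.zpowers z := h1
      classical
      rw [mem_zpowers_iff_mem_range_orderOf, hz, show Finset.range 2 = {0, 1} from rfl] at h2
      simp only [Finset.image_insert, Finset.image_singleton, pow_zero, pow_one, Finset.mem_insert,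
        Finset.mem_singleton] at h2
      rcases h2 with h2 | h2
      · have hz0 : z = 1 := by
          calc z = g⁻¹ * (g * z * g⁻¹) * g := by group
            _ = 1 := by rw [h2]; group
        rw [hz0, orderOf_one] at hz; omega
      · exact hgne h2
  have hWtop : W = ⊤ := by
    haveI := hsimp
    rcases IsSimpleGroup.eq_bot_or_eq_top_of_normal (W.map (QuotientGroup.mk' Q))
      (Subgroup.Normal.map hWn _ (QuotientGroup.mk'_surjective Q)) with h | h
    · exfalso
      refine hwcl (le_antisymm ?_ hQW)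
      intro x hx
      have : QuotientGroup.mk' Q x ∈ W.map (QuotientGroup.mk' Q) := ⟨x, hx, rfl⟩
      rw [h, Subgroup.mem_bot] at this
      exact (QuotientGroup.eq_one_iff x).1 this
    · rw [eq_top_iff]
      intro x _
      obtain ⟨y, hy, hyx⟩ : QuotientGroup.mk' Q x ∈ W.map (QuotientGroup.mk' Q) := h ▸ Subgroup.mem_top _
      have h1 : y⁻¹ * x ∈ Q := QuotientGroup.eq.1 hyx
      simpa using W.mul_mem hy (hQW h1)
  intro x hx
  exact hWN ⟨x, hx⟩ (hWtop ▸ Subgroup.mem_top _)

end Cfsg.Agent.S5436
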