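import Cfsg.Statements.S5442
import Cfsg.Agent.Lib.Spor.LargeFischer.StabX
-- import your own Cfsg.Agent.* helpers here

set_option autoImplicit false
open Cfsg

namespace Cfsg.Agent.S5442

/-- Let G be a finite group of large Fischer type at the involution z: the generalized Fitting subgroup Q of H = C_G(z) is extraspecial of order 2^13, H has normal subgroups Q ≤ H₁ ≤ H₂ with H₁/Q of order 3, H₂/H₁ the projective special unitary group of dimension 4 over the field with nine elements and H₂ of index 2 in H, and some conjugate of z other than z lies in Q. Let s = g z g⁻¹ be a conjugate of z lying in Q and different from z. Then the intersection of Q and g Q g⁻¹ (as subgroups of G) is elementary abelian of order 2^7; and in H/Q, writing X for the image of the centralizer of s in H and E for the image of the intersection of g Q g⁻¹ with H, E is a normal subgroup of X, elementary abelian of order 32, with X/E isomorphic to the alternating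 group of degree 6. -/
theorem result {G : Type*} [Group G] [Finite G] (z : G) (Q : Subgroup (Subgroup.centralizer ({z} : Set G))) [Q.Normal] (hF : Cfsg.IsOfLargeFischerTypeAt z Q) (s : G) (hsQ : ∃ hsc : s ∈ Subgroup.centralizer ({z} : Set G), (⟨s, hsc⟩ : Subgroup.centralizer ({z} : Set G)) ∈ Q) (hs : IsConj z s) (hs1 : s ≠ z) (g : G) (hg : g * z * g⁻¹ = s) (X E : Subgroup ((Subgroup.centralizer ({z} : Set G)) ⧸ Q)) (hX : X = ((Subgroup.centralizer ({z} : Set G) ⊓ Subgroup.centralizer ({s} : Set G)).subgroupOf (Subgroup.centralizer ({z} : Set G))).map (QuotientGroup.mk' Q)) (hE : E = ((((Q.map (Subgroup.centralizer ({z} : Set G)).subtype)).map (MulAut.conj g).toMonoidHom ⊓ Subgroup.centralizer ({z} : Set G)).subgroupOf (Subgroup.centralizer ({z} : Set G))).map (QuotientGroup.mk' Q)) : Cfsg.IsElementaryAbelian 2 ((Q.map (Subgroup.centralizer ({z} : Set G)).subtype) ⊓ ((Q.map (Subgroup.centralizer ({z} : Set G)).subtype)).map (MulAut.conj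 g).toMonoidHom) ∧ Nat.card ↥((Q.map (Subgroup.centralizer ({z} : Set G)).subtype) ⊓ ((Q.map (Subgroup.centralizer ({z} : Set G)).subtype)).map (MulAut.conj g).toMonoidHom) = 2 ^ 7 ∧ E ≤ X ∧ (∀ x ∈ X, ∀ y ∈ E, x * y * x⁻¹ ∈ E) ∧ Cfsg.IsElementaryAbelian 2 E ∧ Nat.card E = 32 ∧ ∃ _ : (E.subgroupOf X).Normal, Nonempty (↥X ⧸ E.subgroupOf X ≃* alternatingGroup (Fin 6)) := by
  classical
  obtain ⟨vec, φ, o, D, hker, -⟩ := CfsgLib.Spor.LargeFischer.exists_data hF
  obtain ⟨hsc, hsq⟩ := hsQ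
  subst hg
  have hgQ : g * z * g⁻¹ ∈ (Q.map (Subgroup.centralizer ({z} : Set G)).subtype) := ⟨⟨g * z * g⁻¹, hsc⟩, hsq, rfl⟩
  obtain ⟨hc32, hcomm, hsqI, hD7⟩ := D.conj_image hgQ hs1
  obtain ⟨c, hc⟩ := D.conj_to_base hgQ hs1
  obtain ⟨h1, h2, h3⟩ := D.shift hgQ hs1 c
  obtain ⟨-, hE32, hPA, hkerV, -⟩ := D.conj_stab h1 h2 (h3.trans hc)
  rw [D.imE_shift] at hE32
  let φb : ↥(Subgroup.centralizer ({z} : Set G)) ⧸ Q →* Equiv.Perm CfsgLib.Spor.Fi22.U6.V6 := QuotientGroup.lift Q φ fun x hx => (hker x).2 hx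
  have hφb : Function.Injective φb := (injective_iff_map_eq_one φb).2 fun x hx => by
    obtain ⟨x, rfl⟩ := QuotientGroup.mk_surjective x
    exact (QuotientGroup.eq_one_iff _).2 ((hker x).1 hx)
  have hXmem : ∀ q, q ∈ X ↔ φb q (vec (g * z * g⁻¹)) = vec (g * z * g⁻¹) := by
    intro q
    subst hX
    constructor
    · rintro ⟨d, hd, rfl⟩
      show φ d _ = _
      have hds : (d : G) * (g * z * g⁻¹) * (d : G)⁻¹ = g * z * g⁻¹ :=
        mul_inv_eq_iff_eq_mul.2 (Subgroup.mem_centralizer_singleton_iff.1 hd.2)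
      rw [← D.conj d _ hgQ, hds]
    · intro hq
      obtain ⟨d, rfl⟩ := QuotientGroup.mk_surjective q
      obtain ⟨d', hd', hds⟩ := D.transport hgQ hgQ (fun e => D.z_ne (by simpa using e)) hs1 d hq
      refine ⟨d', ⟨d'.2, Subgroup.mem_centralizer_singleton_iff.2 (mul_inv_eq_iff_eq_mul.1 hds)⟩, hφb ?_⟩
      exact hd'
  have hEimg : E.map φb = CfsgLib.Spor.LargeFischer.imE (Q.map (Subgroup.centralizer ({z} : Set G)).subtype) φ g := by
    subst hE
    rw [Subgroup.map_map, CfsgLib.Spor.LargeFischer.imE, Subgroup.inf_subgroupOf_right]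
    rfl
  have hEX : E ≤ X := fun q hq => (hXmem q).2 (D.imE_fix hgQ (hEimg ▸ ⟨q, hq, rfl⟩))
  let k := φ c
  have hk : ∀ q : X, k * φb q * k⁻¹ ∈ φ.range ⊓ CfsgLib.Spor.LargeFischer.GV := fun q => by
    refine D.mem_XV ?_ ?_
    · obtain ⟨d, hd⟩ := QuotientGroup.mk_surjective (q : ↥(Subgroup.centralizer ({z} : Set G)) ⧸ Q)
      exact ⟨c * d * c⁻¹, by rw [map_mul, map_mul, map_inv, ← hd]; rfl⟩
    · rw [Equiv.Perm.mul_apply, Equiv.Perm.mul_apply, ← hc,
        show k⁻¹ (k (vec (g * z * g⁻¹))) = vec (g * z * g⁻¹) from k.symm_apply_apply _, (hXmem _).1 q.2]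
  let ψ : ↥X →* ↥CfsgLib.Spor.LargeFischer.GV :=
    ((MulAut.conj k).toMonoidHom.comp (φb.comp X.subtype)).codRestrict _ fun q => (hk q).2
  let f : ↥X →* Equiv.Perm (Fin 15) := CfsgLib.Spor.LargeFischer.actH.comp ψ
  have hfker : f.ker = E.subgroupOf X := by
    ext q
    rw [MonoidHom.mem_ker, Subgroup.mem_subgroupOf]
    constructor
    · intro h
      have h' := hkerV (ψ q) (hk q).1 h
      rw [← hE32] at h'
      obtain ⟨a, ha, e⟩ := h'
      have e' : a = φb q := (MulAut.conj k).injective e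
      rw [← hEimg] at ha
      obtain ⟨y, hy, hya⟩ := ha
      rwa [hφb (hya.trans e')] at hy
    · intro h
      refine CfsgLib.Spor.LargeFischer.act_E32 ?_
      rw [← hE32, ← hEimg]
      exact ⟨φb q, ⟨q, h, rfl⟩, rfl⟩
  have hfrange : f.range = CfsgLib.Spor.LargeFischer.PA6 := by
    refine le_antisymm ?_ ?_
    · rintro _ ⟨q, rfl⟩
      rw [← hPA]
      exact ⟨ψ q, hk q, rfl⟩
    · rw [← hPA]
      rintro _ ⟨v, hv, rfl⟩
      obtain ⟨⟨d, hd⟩, hvV⟩ : (v : Equiv.Perm CfsgLib.Spor.Fi22.U6.V6) ∈ φ.range ⊓ CfsgLib.Spor.LargeFischer.GV := hv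
      have hmem : (QuotientGroup.mk (c⁻¹ * d * c) : ↥(Subgroup.centralizer ({z} : Set G)) ⧸ Q) ∈ X := (hXmem _).2 (by
        show φ (c⁻¹ * d * c) _ = _
        rw [map_mul, map_mul, map_inv, Equiv.Perm.mul_apply, Equiv.Perm.mul_apply, hc, hd, hvV.2]
        show k⁻¹ _ = _
        rw [← hc]
        exact k.symm_apply_apply _)
      refine ⟨⟨_, hmem⟩, congrArg CfsgLib.Spor.LargeFischer.actH (Subtype.ext ?_)⟩
      show k * φ (c⁻¹ * d * c) * k⁻¹ = (v : Equiv.Perm CfsgLib.Spor.Fi22.U6.V6)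
      rw [map_mul, map_mul, map_inv, hd, show k = φ c from rfl]
      group
  haveI hn : (E.subgroupOf X).Normal := hfker ▸ MonoidHom.normal_ker f
  refine ⟨⟨⟨⟨fun a b => Subtype.ext ?_⟩⟩, fun a ha => ?_⟩, hD7, hEX, fun x hx y hy => ?_, ⟨⟨⟨fun a b => ?_⟩⟩, fun a ha => ?_⟩, ?_, hn, ⟨?_⟩⟩
  · exact (D.duo hgQ hs1).inter_abelian a.2.1 a.2.2 b.2.1 b.2.2
  · rw [pow_two]; exact (D.duo hgQ hs1).inter_sq ha.1 ha.2
  · exact hn.conj_mem ⟨y, hEX hy⟩ hy ⟨x, hx⟩
  · refine Subtype.ext (hφb ?_)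
    rw [Subgroup.coe_mul, Subgroup.coe_mul, map_mul, map_mul]
    exact hcomm _ (hEimg ▸ ⟨a, a.2, rfl⟩) _ (hEimg ▸ ⟨b, b.2, rfl⟩)
  · refine hφb ?_
    rw [pow_two, map_mul, map_one]
    exact hsqI _ (hEimg ▸ ⟨a, ha, rfl⟩)
  · rw [Nat.card_congr (E.equivMapOfInjective φb hφb).toEquiv, hEimg, hc32]
  · exact ((QuotientGroup.quotientMulEquivOfEq hfker.symm).trans ((QuotientGroup.quotientKerEquivRange f).trans
      ((MulEquiv.subgroupCongr hfrange).trans
        ((alternatingGroup (Fin 6)).equivMapOfInjective _ CfsgLib.Spor.LargeFischer.pairHom_injective).symm)))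

end Cfsg.Agent.S5442
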