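import Cfsg.Statements.S5443
import Cfsg.Agent.Lib.Spor.LargeFischer.StabLines
-- import your own Cfsg.Agent.* helpers here

set_option autoImplicit false
open Cfsg

namespace Cfsg.Agent.S5443

/-- Let G be a finite group of large Fischer type at the involution z: the generalized Fitting subgroup Q of H = C_G(z) is extraspecial of order 2^13, H has normal subgroups Q ≤ H₁ ≤ H₂ with H₁/Q of order 3, H₂/H₁ the projective special unitary group of dimension 4 over the field with nine elements and H₂ of index 2 in H, and some conjugate of z other than z lies in Q. Let t be an involution of Q not conjugate to z in G, and S the set of elements of H conjugating t to t or to t z (the stabilizer of the image of t in Q modulo its centre). Then the image of S in H/Q is isomorphic to the full isometry group of the elliptic quadratic form in dimension 6 over the field with two elements. -/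
theorem result {G : Type*} [Group G] [Finite G] (z : G) (Q : Subgroup (Subgroup.centralizer ({z} : Set G))) [Q.Normal] (hF : Cfsg.IsOfLargeFischerTypeAt z Q) (t : Subgroup.centralizer ({z} : Set G)) (htQ : t ∈ Q) (ht2 : orderOf t = 2) (ht : ¬ IsConj z (t : G)) (S : Subgroup (Subgroup.centralizer ({z} : Set G))) (hS : ∀ h : Subgroup.centralizer ({z} : Set G), h ∈ S ↔ (h * t * h⁻¹ = t ∨ ((h * t * h⁻¹ : Subgroup.centralizer ({z} : Set G)) : G) = t * z)) : Nonempty (↥(S.map (QuotientGroup.mk' Q)) ≃* Cfsg.isometryGroup (ZMod 2) (Cfsg.quadFormMinus 2 (ZMod 2) 1 1)) := by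
  obtain ⟨vec, φ, o, D, hker, g, hgQ, hne⟩ := CfsgLib.Spor.LargeFischer.exists_data hF
  have ho := D.outer_eq hgQ hne
  have htQ' : (t : G) ∈ Q.map (Subgroup.centralizer ({z} : Set G)).subtype := ⟨t, htQ, rfl⟩
  have ht1 : (t : G) ≠ 1 := fun e => by rw [show t = 1 from Subtype.ext e, orderOf_one] at ht2; omega
  have htz : (t : G) ≠ z := fun e => ht (by rw [e])
  have htt : (t : G) * t = 1 := by
    have := congrArg Subtype.val (pow_orderOf_eq_one t)
    rwa [ht2, pow_two] at this
  have hA : CfsgLib.Spor.LargeFischer.InA (vec (t : G)) := by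
    refine (D.two_cases htQ' ht1 htz htt).resolve_right fun hB => ht ?_
    obtain ⟨h, hh⟩ := D.orbit_B hgQ htQ' (D.conj_inB hgQ hne) hB
    exact isConj_iff.2 ⟨(h : G) * g, by rw [← hh]; group⟩
  obtain ⟨k, hk, hku⟩ := CfsgLib.Spor.LargeFischer.trans_A hA
  obtain ⟨c, hc⟩ := D.K1_le _ (CfsgLib.Spor.LargeFischer.lin_mem_KP.2 hk)
  obtain ⟨iso⟩ := D.stab_iso ho
  let φb : ↥(Subgroup.centralizer ({z} : Set G)) ⧸ Q →* Equiv.Perm CfsgLib.Spor.Fi22.U6.V6 :=
    QuotientGroup.lift Q φ fun x hx => (hker x).2 hx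
  have hφb : Function.Injective φb := (injective_iff_map_eq_one φb).2 fun x hx => by
    obtain ⟨x, rfl⟩ := QuotientGroup.mk_surjective x
    exact (QuotientGroup.eq_one_iff _).2 ((hker x).1 hx)
  have hSmem : ∀ h, φ h (vec (t : G)) = vec (t : G) ↔ h ∈ S := by
    intro h
    have hz := D.half.cz (t : G) htQ'
    have hcz := Subgroup.mem_centralizer_singleton_iff.1 h.2
    have hmem := D.core.norm (h : G) hcz _ htQ'
    rw [hS, ← D.conj h _ htQ']
    constructor
    · intro e
      rcases D.same_class htQ' hmem e.symm with e' | e'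
      · exact Or.inl (Subtype.ext e')
      · exact Or.inr e'
    · rintro (e | e)
      · rw [show (h : G) * t * (h : G)⁻¹ = t from congrArg Subtype.val e]
      · rw [show (h : G) * t * (h : G)⁻¹ = t * z from e, D.add _ htQ' _ D.core.mem, D.vec_z, add_zero]
  have himg : ((φb.comp (S.map (QuotientGroup.mk' Q)).subtype).range).map (MulAut.conj (φ c)⁻¹).toMonoidHom =
      φ.range ⊓ CfsgLib.Spor.LargeFischer.GU := by
    ext f
    constructor
    · rintro ⟨_, ⟨⟨_, h, hh, rfl⟩, rfl⟩, rfl⟩
      refine Subgroup.mem_inf.2 ⟨⟨c⁻¹ * h * c, by rw [map_mul, map_mul, map_inv]; rfl⟩, ?_, ?_⟩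
      · have := D.good (c⁻¹ * h * c)
        rwa [map_mul, map_mul, map_inv] at this
      · show (φ c)⁻¹ (φ h ((φ c) CfsgLib.Spor.LargeFischer.uA)) = _
        rw [hc, hku, (hSmem h).2 hh, ← hku]
        exact (CfsgLib.Spor.LargeFischer.lin k).symm_apply_apply _
    · rintro ⟨⟨d, rfl⟩, hd⟩
      have hS' : c * d * c⁻¹ ∈ S := (hSmem _).1 (by
        rw [map_mul, map_mul, map_inv, hc, ← hku, Equiv.Perm.mul_apply, Equiv.Perm.mul_apply,
          show (CfsgLib.Spor.LargeFischer.lin k)⁻¹ (CfsgLib.Spor.LargeFischer.lin k CfsgLib.Spor.LargeFischer.uA) =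
            CfsgLib.Spor.LargeFischer.uA from (CfsgLib.Spor.LargeFischer.lin k).symm_apply_apply _, hd.2])
      refine ⟨φ (c * d * c⁻¹), ⟨⟨_, _, hS', rfl⟩, rfl⟩, ?_⟩
      show (φ c)⁻¹ * φ (c * d * c⁻¹) * ((φ c)⁻¹)⁻¹ = _
      rw [map_mul, map_mul, map_inv]
      group
  have hinj : Function.Injective (φb.comp (S.map (QuotientGroup.mk' Q)).subtype) :=
    hφb.comp Subtype.val_injective
  exact ⟨(MonoidHom.ofInjective hinj).trans ((Subgroup.equivMapOfInjective _ _ (MulAut.conj (φ c)⁻¹).injective).trans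
    ((MulEquiv.subgroupCongr himg).trans iso))⟩

end Cfsg.Agent.S5443
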