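import Cfsg.Statements.S5444
import Cfsg.Agent.Lib.Spor.LargeFischer.SylMax
-- import your own Cfsg.Agent.* helpers here

set_option autoImplicit false
open Cfsg

namespace Cfsg.Agent.S5444

/-- Let G be a finite group of large Fischer type at the involution z: the generalized Fitting subgroup Q of H = C_G(z) is extraspecial of order 2^13, H has normal subgroups Q ≤ H₁ ≤ H₂ with H₁/Q of order 3, H₂/H₁ the projective special unitary group of dimension 4 over the field with nine elements and H₂ of index 2 in H, and some conjugate of z other than z lies in Q. Let T be a Sylow 2-subgroup of H. Then T has exactly one elementary abelian subgroup A of largest order; A has order 2^11, it meets Q in a subgroup of order 2^7, and its image in H/Q has order 16. -/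
theorem result {G : Type*} [Group G] [Finite G] (z : G) (Q : Subgroup (Subgroup.centralizer ({z} : Set G))) [Q.Normal] (hF : Cfsg.IsOfLargeFischerTypeAt z Q) (T : Sylow 2 ↥(Subgroup.centralizer ({z} : Set G))) : ∃ A : Subgroup ↥(T : Subgroup (Subgroup.centralizer ({z} : Set G))), Cfsg.maxElementaryAbelianSubgroups 2 ↥(T : Subgroup (Subgroup.centralizer ({z} : Set G))) = {A} ∧ Nat.card A = 2 ^ 11 ∧ Nat.card ↥(A.map (T : Subgroup (Subgroup.centralizer ({z} : Set G))).subtype ⊓ Q) = 2 ^ 7 ∧ Nat.card ↥((A.map (T : Subgroup (Subgroup.centralizer ({z} : Set G))).subtype).map (QuotientGroup.mk' Q)) = 16 := by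
  obtain ⟨vec, φ, o, D, hker, g, hgQ, hne⟩ := CfsgLib.Spor.LargeFischer.exists_data hF
  obtain ⟨A, hAT, hAs, hAc, hcard, hcardQ, huniq⟩ := D.sylow_large hgQ hne T
  have hQeq : (Q.map (Subgroup.centralizer ({z} : Set G)).subtype).subgroupOf
      (Subgroup.centralizer ({z} : Set G)) = Q := Subgroup.comap_map_eq_self_of_injective Subtype.val_injective Q
  rw [hQeq] at hcardQ
  set Tc := (T : Subgroup (Subgroup.centralizer ({z} : Set G))) with hTc
  have hback : (A.subgroupOf Tc).map Tc.subtype = A := Subgroup.map_subgroupOf_eq_of_le hAT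
  have hel : Cfsg.IsElementaryAbelian 2 (A.subgroupOf Tc) :=
    ⟨⟨⟨fun a b => Subtype.ext (Subtype.ext (hAc _ a.2 _ b.2))⟩⟩,
      fun a ha => Subtype.ext (by rw [Subgroup.coe_pow, pow_two]; exact hAs _ ha)⟩
  have hcard' : Nat.card (A.subgroupOf Tc) = 2 ^ 11 := by
    rw [Nat.card_congr (Subgroup.subgroupOfEquivOfLe hAT).toEquiv, hcard]
  have huniq' : ∀ B : Subgroup Tc, Cfsg.IsElementaryAbelian 2 B → 2 ^ 11 ≤ Nat.card B → B = A.subgroupOf Tc := by
    intro B hB hcB
    have h := huniq (B.map Tc.subtype) (Subgroup.map_subtype_le B) ?_ ?_ ?_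
    · rw [← h]; exact (Subgroup.comap_map_eq_self_of_injective Subtype.val_injective B).symm
    · rintro _ ⟨a, ha, rfl⟩
      have := congrArg Tc.subtype (hB.2 a ha)
      rwa [map_pow, map_one, pow_two] at this
    · rintro _ ⟨a, ha, rfl⟩ _ ⟨b, hb, rfl⟩
      exact congrArg Tc.subtype (congrArg Subtype.val (hB.1.1.1 ⟨a, ha⟩ ⟨b, hb⟩))
    · rwa [← Nat.card_congr (B.equivMapOfInjective _ Tc.subtype_injective).toEquiv]
  refine ⟨A.subgroupOf Tc, Set.eq_singleton_iff_unique_mem.2 ⟨⟨hel, fun B hB => ?_⟩, fun B hB => ?_⟩, hcard', ?_, ?_⟩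
  · rcases le_or_gt (2 ^ 11) (Nat.card B) with h | h
    · rw [huniq' B hB h]
    · omega
  · exact huniq' B hB.1 (hcard' ▸ hB.2 _ hel)
  · rw [hback]; exact hcardQ
  · rw [hback]
    have h := Subgroup.card_eq_card_quotient_mul_card_subgroup ((QuotientGroup.mk' Q).comp A.subtype).ker
    rw [Nat.card_congr (QuotientGroup.quotientKerEquivRange _).toEquiv, MonoidHom.range_comp,
      Subgroup.range_subtype, hcard] at h
    have e : Nat.card ((QuotientGroup.mk' Q).comp A.subtype).ker = Nat.card ↥(A ⊓ Q) := Nat.card_congr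
      { toFun := fun x => ⟨(x : A), x.1.2, (QuotientGroup.eq_one_iff _).1 x.2⟩
        invFun := fun x => ⟨⟨x.1, x.2.1⟩, (QuotientGroup.eq_one_iff _).2 x.2.2⟩
        left_inv := fun x => rfl
        right_inv := fun x => rfl }
    rw [e, hcardQ] at h
    omega

end Cfsg.Agent.S5444
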