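import Cfsg.Statements.S5446
import Cfsg.Agent.Lib.Spor.LargeFischer.ThompsonMain
-- import your own Cfsg.Agent.* helpers here

set_option autoImplicit false
open Cfsg

namespace Cfsg.Agent.S5446

/-- Let G be a finite group of large Fischer type at the involution z: the generalized Fitting subgroup Q of H = C_G(z) is extraspecial of order 2^13, H has normal subgroups Q ≤ H₁ ≤ H₂ with H₁/Q of order 3, H₂/H₁ the projective special unitary group of dimension 4 over the field with nine elements and H₂ of index 2 in H, and some conjugate of z other than z lies in Q. Let T be a Sylow 2-subgroup of G, A its Thompson subgroup (generated by the elementary abelian subgroups of T of largest order) and M = N_G(A) its normalizer. Then A is elementary abelian of order 2^11 and M/A is isomorphic to the Mathieu group of degree 24 (the automorphism group of the length-24 binary Golay code). -/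
theorem result {G : Type*} [Group G] [Finite G] (z : G) (Q : Subgroup (Subgroup.centralizer ({z} : Set G))) [Q.Normal] (hF : Cfsg.IsOfLargeFischerTypeAt z Q) (T : Sylow 2 G) (A M : Subgroup G) (hA : A = Cfsg.thompsonSubgroupOf 2 (T : Subgroup G)) (hM : M = Subgroup.normalizer (A : Set G)) : Cfsg.IsElementaryAbelian 2 A ∧ Nat.card A = 2 ^ 11 ∧ ∃ _ : (A.subgroupOf M).Normal, Nonempty (↥M ⧸ A.subgroupOf M ≃* ↥Cfsg.M24) := by
  obtain ⟨c, el, A₀, hz, N₀, hT⟩ := CfsgLib.Spor.LargeFischer.exists_normData_of_type hF T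
  subst hM
  subst hA
  rw [hT]
  obtain ⟨ψ, hs, hk, -⟩ := N₀.exists_iso
  set A' := A₀.map (MulAut.conj c).toMonoidHom with hA'
  let e : ↥(Subgroup.normalizer (A' : Set G)) ≃* ↥(Subgroup.normalizer (A₀ : Set G)) :=
    { toFun := fun m => ⟨c⁻¹ * (m : G) * c, CfsgLib.Spor.LargeFischer.normalizer_conj_map.1 m.2⟩
      invFun := fun m => ⟨c * (m : G) * c⁻¹, CfsgLib.Spor.LargeFischer.normalizer_conj_map.2 (by
        rw [show c⁻¹ * (c * (m : G) * c⁻¹) * c = (m : G) by group]; exact m.2)⟩
      left_inv := fun m => Subtype.ext (show c * (c⁻¹ * (m : G) * c) * c⁻¹ = m by group)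
      right_inv := fun m => Subtype.ext (show c⁻¹ * (c * (m : G) * c⁻¹) * c = m by group)
      map_mul' := fun m n => Subtype.ext (show c⁻¹ * ((m : G) * n) * c =
        (c⁻¹ * (m : G) * c) * (c⁻¹ * (n : G) * c) by group) }
  let χ := ψ.comp e.toMonoidHom
  have hχ : χ.ker = A'.subgroupOf (Subgroup.normalizer (A' : Set G)) := by
    ext m
    rw [← MonoidHom.comap_ker, Subgroup.mem_comap, hk, Subgroup.mem_subgroupOf, Subgroup.mem_subgroupOf]
    exact CfsgLib.Spor.LargeFischer.mem_conj_map.symm
  refine ⟨⟨⟨⟨fun a b => Subtype.ext ?_⟩⟩, fun a ha => ?_⟩, ?_, hχ ▸ χ.normal_ker, ?_⟩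
  · obtain ⟨x, hx, ex⟩ := a.2
    obtain ⟨y, hy, ey⟩ := b.2
    show (a : G) * b = b * a
    rw [← ex, ← ey, ← map_mul, ← map_mul, N₀.chart.uniq.2.1 x hx y hy]
  · obtain ⟨x, hx, rfl⟩ := ha
    rw [pow_two, ← map_mul, N₀.chart.uniq.1 x hx, map_one]
  · rw [hA', ← Nat.card_congr (A₀.equivMapOfInjective _ (MulAut.conj c).injective).toEquiv, N₀.chart.uniq.2.2.1]
  · haveI : (A'.subgroupOf (Subgroup.normalizer (A' : Set G))).Normal := hχ ▸ χ.normal_ker
    exact ⟨(QuotientGroup.quotientMulEquivOfEq hχ.symm).trans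
      (QuotientGroup.quotientKerEquivOfSurjective χ (hs.comp e.surjective))⟩

end Cfsg.Agent.S5446
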