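import Cfsg.Statements.S5447
import Cfsg.Agent.Lib.Spor.LargeFischer.ThompsonMain
-- import your own Cfsg.Agent.* helpers here

set_option autoImplicit false
open Cfsg

namespace Cfsg.Agent.S5447

/-- Let G be a finite group of large Fischer type at the involution z: the generalized Fitting subgroup Q of H = C_G(z) is extraspecial of order 2^13, H has normal subgroups Q ≤ H₁ ≤ H₂ with H₁/Q of order 3, H₂/H₁ the projective special unitary group of dimension 4 over the field with nine elements and H₂ of index 2 in H, and some conjugate of z other than z lies in Q. Let T be a Sylow 2-subgroup of G, A its Thompson subgroup and M = N_G(A) its normalizer. Then M controls fusion in A (elements of A conjugate in G are conjugate in M), and M has exactly two orbits on the non-identity elements of A: those conjugate to z in G and those not. -/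
theorem result {G : Type*} [Group G] [Finite G] (z : G) (Q : Subgroup (Subgroup.centralizer ({z} : Set G))) [Q.Normal] (hF : Cfsg.IsOfLargeFischerTypeAt z Q) (T : Sylow 2 G) (A M : Subgroup G) (hA : A = Cfsg.thompsonSubgroupOf 2 (T : Subgroup G)) (hM : M = Subgroup.normalizer (A : Set G)) : (∀ a ∈ A, ∀ g : G, g * a * g⁻¹ ∈ A → ∃ m ∈ M, m * a * m⁻¹ = g * a * g⁻¹) ∧ (∃ a ∈ A, a ≠ 1 ∧ IsConj z a) ∧ (∃ a ∈ A, a ≠ 1 ∧ ¬ IsConj z a) ∧ ∀ a ∈ A, ∀ b ∈ A, a ≠ 1 → b ≠ 1 → (IsConj z a ↔ IsConj z b) → ∃ m ∈ M, m * a * m⁻¹ = b := by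
  obtain ⟨c, el, A₀, hz, N₀, hT⟩ := CfsgLib.Spor.LargeFischer.exists_normData_of_type hF T
  subst hM
  subst hA
  rw [hT]
  obtain ⟨C, -, -, htr⟩ := N₀
  set A' := A₀.map (MulAut.conj c).toMonoidHom
  have hin : ∀ {a}, a ∈ A₀ → c * a * c⁻¹ ∈ A' := fun ha => ⟨_, ha, rfl⟩
  have hout : ∀ {a}, a ∈ A' → c⁻¹ * a * c ∈ A₀ := fun h => CfsgLib.Spor.LargeFischer.mem_conj_map.1 h
  have hback : ∀ x : G, c * (c⁻¹ * x * c) * c⁻¹ = x := fun x => by group
  have hnc : ∀ x, IsConj z (c * x * c⁻¹) ↔ IsConj z x := fun x =>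
    CfsgLib.Spor.LargeFischer.Data.conj_iff_conj c x
  have hone : ∀ x, c * x * c⁻¹ = 1 → x = 1 := fun x h => by
    calc x = c⁻¹ * (c * x * c⁻¹) * c := by group
      _ = 1 := by rw [h]; group
  have hlift : ∀ {a b : G}, a ∈ A' → b ∈ A' →
      (∃ m ∈ Subgroup.normalizer (A₀ : Set G), m * (c⁻¹ * a * c) * m⁻¹ = c⁻¹ * b * c) →
      ∃ m ∈ Subgroup.normalizer (A' : Set G), m * a * m⁻¹ = b := by
    rintro a b - - ⟨m, hm, e⟩
    refine ⟨c * m * c⁻¹, CfsgLib.Spor.LargeFischer.normalizer_conj_map.2 ?_, ?_⟩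
    · rwa [show c⁻¹ * (c * m * c⁻¹) * c = m by group]
    · rw [← hback b, ← e]; group
  refine ⟨fun a ha g hg => ?_, ?_, ?_, fun a ha b hb ha1 hb1 hab => ?_⟩
  · refine hlift ha hg ?_
    have h := hout hg
    rw [show c⁻¹ * (g * a * g⁻¹) * c = (c⁻¹ * g * c) * (c⁻¹ * a * c) * (c⁻¹ * g * c)⁻¹ by group] at h ⊢
    exact C.uniq.fusion (hout ha) h
  · refine ⟨c * z * c⁻¹, hin hz, fun h => ?_, (hnc z).2 (IsConj.refl z)⟩
    have hz1 : z ≠ 1 := fun e => by
      obtain ⟨⟨hord, -⟩, -⟩ := hF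
      rw [e, orderOf_one] at hord
      exact absurd hord (by decide)
    exact hz1 (hone z h)
  · obtain ⟨h1, h2⟩ := C.pair none (some 0) (by decide)
    exact ⟨_, hin (mul_mem (C.mem _) (C.mem _)), fun h => h1 (hone _ h), fun h => h2 ((hnc _).1 h)⟩
  · refine hlift ha hb ?_
    have ha' := hout ha
    have hb' := hout hb
    have hna : IsConj z (c⁻¹ * a * c) ↔ IsConj z a := by rw [← hnc (c⁻¹ * a * c), hback]
    have hnb : IsConj z (c⁻¹ * b * c) ↔ IsConj z b := by rw [← hnc (c⁻¹ * b * c), hback]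
    by_cases h : IsConj z a
    · obtain ⟨x, hx⟩ := isConj_iff.1 ((hna.2 h).symm.trans (hnb.2 (hab.1 h)))
      obtain ⟨m, hm, e⟩ := C.uniq.fusion ha' (g := x) (hx ▸ hb')
      exact ⟨m, hm, e.trans hx⟩
    · exact htr _ ha' _ hb' (fun e => ha1 (by rw [← hback a, e]; group)) (fun e => hb1 (by rw [← hback b, e]; group))
        (fun h' => h (hna.1 h')) fun h' => h (hab.2 (hnb.1 h'))

end Cfsg.Agent.S5447
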