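import Cfsg.Statements.S5451
import Cfsg.Agent.Lib.Spor.LargeFischer.LineCover
-- import your own Cfsg.Agent.* helpers here

set_option autoImplicit false
open Cfsg

namespace Cfsg.Agent.S5451

/-- Let G be a finite group of large Fischer type at the involution z: the generalized Fitting subgroup Q of H = C_G(z) is extraspecial of order 2^13, H has normal subgroups Q ≤ H₁ ≤ H₂ with H₁/Q of order 3, H₂/H₁ the projective special unitary group of dimension 4 over the field with nine elements and H₂ of index 2 in H, and some conjugate of z other than z lies in Q. Let X be a subgroup of H of order 3 whose product with Q is normal in H (X maps onto the normal subgroup of order 3 of H/Q). Then the centralizer of X in H is quasisimple with cyclic centre of order 6 and central quotient isomorphic to the projective special unitary group of dimension 4 over the field with nine elements. -/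
theorem result {G : Type*} [Group G] [Finite G] (z : G) (Q : Subgroup (Subgroup.centralizer ({z} : Set G))) [Q.Normal] (hF : Cfsg.IsOfLargeFischerTypeAt z Q) (X : Subgroup (Subgroup.centralizer ({z} : Set G))) (hX : Nat.card X = 3) (hXQ : (X ⊔ Q).Normal) : Cfsg.IsQuasisimple ↥(Subgroup.centralizer ((X : Subgroup (Subgroup.centralizer ({z} : Set G))) : Set (Subgroup.centralizer ({z} : Set G)))) ∧ IsCyclic ↥(Subgroup.center ↥(Subgroup.centralizer ((X : Subgroup (Subgroup.centralizer ({z} : Set G))) : Set (Subgroup.centralizer ({z} : Set G))))) ∧ Nat.card ↥(Subgroup.center ↥(Subgroup.centralizer ((X : Subgroup (Subgroup.centralizer ({z} : Set G))) : Set (Subgroup.centralizer ({z} : Set G))))) = 6 ∧ ∃ (K : Type) (_ : Field K) (_ : Fintype K), Fintype.card K = 9 ∧ Nonempty (↥(Subgroup.centralizer ((X : Subgroup (Subgroup.centralizer ({z} : Set G))) : Set (Subgroup.centralizer ({z} : Set G)))) ⧸ Subgroup.center ↥(Subgroup.centralizer ((X : Subgroup (Subgroup.centralizer ({z} : Set G))) :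 Set (Subgroup.centralizer ({z} : Set G)))) ≃* Cfsg.PSU 4 K 3) := by
  obtain ⟨vec, φ, o, D, hker, g, hgQ, hne⟩ := CfsgLib.Spor.LargeFischer.exists_data hF
  haveI : Fact (Nat.Prime 3) := ⟨Nat.prime_three⟩
  obtain ⟨x, hx, hx1⟩ := X.bot_or_exists_ne_one.resolve_left (fun h => by simp [h] at hX)
  have hx3 : x * x * x = 1 := by
    have h := pow_card_eq_one' (G := X) (x := ⟨x, hx⟩)
    rw [hX, pow_three'] at h
    exact congrArg Subtype.val h
  have hX' : X = Subgroup.zpowers x := by
    refine (Subgroup.eq_of_le_of_card_ge ((Subgroup.zpowers_le).2 hx) ?_).symm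
    rw [hX, Nat.card_zpowers, orderOf_eq_prime (by rw [pow_three']; exact hx3) hx1]
  -- outside the two-group
  have hxQ : φ x ≠ 1 := fun h => hx1 (by
    have hq := (D.kerφ x).1 h
    have h4 : (x : G) * x * ((x : G) * x) = 1 := by
      rcases D.half.sqQ _ hq with e | e <;> rw [e]
      · exact one_mul 1
      · exact D.zz
    have h3 : (x : G) * x * x = 1 := congrArg Subtype.val hx3
    refine Subtype.ext ?_
    calc (x : G) = ((x : G) * x * x) * x := by rw [h3, one_mul]
      _ = (x : G) * x * ((x : G) * x) := by group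
      _ = 1 := h4)
  have hxK : φ x ∈ CfsgLib.Spor.LargeFischer.KP := by
    have h2 : φ x * φ x ∈ CfsgLib.Spor.LargeFischer.KP := by
      by_cases h : φ x ∈ CfsgLib.Spor.LargeFischer.KP
      · exact mul_mem h h
      · exact D.outer_two ⟨x, rfl⟩ ⟨x, rfl⟩ h h
    have e : φ x = (φ x * φ x) * (φ x * φ x) := by
      rw [← mul_assoc, ← map_mul, ← map_mul, hx3, map_one, one_mul]
    rw [e]; exact mul_mem h2 h2
  obtain ⟨k, hk, hkx⟩ := hxK
  -- the image of the generator is central
  have hnorm : ∀ c, φ c * φ x * (φ c)⁻¹ ∈ Subgroup.zpowers (φ x) := fun c => by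
    have hm := hXQ.conj_mem x (Subgroup.mem_sup_left hx) c
    obtain ⟨a, ha, q, hq, e⟩ := Subgroup.mem_sup_of_normal_right.1 hm
    rw [← map_inv, ← map_mul, ← map_mul, ← e, map_mul, (hker q).2 hq, mul_one]
    obtain ⟨i, hi⟩ := (hX' ▸ ha : a ∈ Subgroup.zpowers x)
    exact ⟨i, by show φ x ^ i = φ a; rw [← map_zpow]; exact congrArg φ hi⟩
  have hkc : (⟨k, hk⟩ : CfsgLib.Spor.U43Six.K1) ∈ Subgroup.center CfsgLib.Spor.U43Six.K1 := by
    obtain ⟨e⟩ := CfsgLib.Spor.U43Six.quot_K1 CfsgLib.Spor.LargeFischer.card_F9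
    haveI := CfsgLib.Spor.U43Six.psu43_simple CfsgLib.Spor.LargeFischer.card_F9
    let f := e.toMonoidHom.comp (QuotientGroup.mk' (Subgroup.center CfsgLib.Spor.U43Six.K1))
    have hf : Function.Surjective f := e.surjective.comp (QuotientGroup.mk'_surjective _)
    set y : CfsgLib.Spor.U43Six.K1 := ⟨k, hk⟩ with hy
    have hy3 : y ^ 3 = 1 := by
      refine Subtype.ext (CfsgLib.Spor.LargeFischer.lin_injective ?_)
      rw [Subgroup.coe_pow, map_pow, Subgroup.coe_one, map_one, show (y : CfsgLib.Spor.Fi22.U6.G6) = k from rfl,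
        hkx, ← map_pow, pow_three', hx3, map_one]
    have hn : (Subgroup.zpowers (f y)).Normal := ⟨fun a ha b => by
      obtain ⟨b, rfl⟩ := hf b
      obtain ⟨i, rfl⟩ := ha
      obtain ⟨c, hc⟩ := D.K1_le _ (CfsgLib.Spor.LargeFischer.lin_mem_KP.2 b.2)
      obtain ⟨j, hj⟩ := hnorm c
      have hb : b * y * b⁻¹ = y ^ j := Subtype.ext (CfsgLib.Spor.LargeFischer.lin_injective (by
        rw [Subgroup.coe_mul, Subgroup.coe_mul, Subgroup.coe_inv, map_mul, map_mul, map_inv, Subgroup.coe_zpow,
          map_zpow, show (y : CfsgLib.Spor.Fi22.U6.G6) = k from rfl, hkx, ← hc]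
        exact hj.symm))
      refine ⟨j * i, ?_⟩
      show f y ^ (j * i) = f b * f y ^ i * (f b)⁻¹
      rw [zpow_mul, ← conj_zpow, ← map_inv, ← map_mul, ← map_mul, hb, map_zpow]⟩
    rcases hn.eq_bot_or_eq_top with h | h
    · exact (QuotientGroup.eq_one_iff _).1 (e.map_eq_one_iff.1 (Subgroup.zpowers_eq_bot.1 h))
    · exfalso
      have h1 := congrArg (fun S : Subgroup _ => Nat.card S) h
      simp only [Nat.card_zpowers, Subgroup.card_top,
        CfsgLib.Spor.U43Six.card_psu43 CfsgLib.Spor.LargeFischer.card_F9] at h1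
      have h2 : orderOf (f y) ∣ 3 := orderOf_dvd_of_pow_eq_one (by rw [← map_pow, hy3, map_one])
      have := Nat.le_of_dvd (by norm_num) h2
      omega
  rw [CfsgLib.Spor.U43Six.center_le_scalars CfsgLib.Spor.LargeFischer.card_F9, Subgroup.mem_subgroupOf] at hkc
  obtain ⟨a, ha⟩ := hkc
  have hxa : ∀ v, φ x v = a • v := fun v => by
    rw [← hkx, CfsgLib.Spor.LargeFischer.lin_apply, show CfsgLib.Spor.Fi22.U6.mat6 k = _ from ha,
      CfsgLib.Spor.U43Six.scalarM, Matrix.smul_mulVec, Matrix.one_mulVec]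
  obtain ⟨x', hx3', hxw, hXx'⟩ : ∃ x' : ↥(Subgroup.centralizer ({z} : Set G)), x' * x' * x' = 1 ∧
      (∀ v, φ x' v = CfsgLib.Spor.Fi22.U6.Four.w • v) ∧ X = Subgroup.zpowers x' := by
    have h0 : a ≠ 0 := fun e => CfsgLib.Spor.LargeFischer.base_facts.2.2.1 ((φ x).injective (by
      rw [hxa, hxa, e, zero_smul, zero_smul] :
      φ x CfsgLib.Spor.LargeFischer.vB = φ x 0))
    have hc : ∀ c : CfsgLib.Spor.Fi22.U6.Four, c ≠ 0 → c ≠ 1 → c ≠ CfsgLib.Spor.Fi22.U6.Four.w →
        c * c = CfsgLib.Spor.Fi22.U6.Four.w := by decide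
    by_cases hw : a = CfsgLib.Spor.Fi22.U6.Four.w
    · exact ⟨x, hx3, fun v => by rw [hxa, hw], hX'⟩
    · have h1 : a ≠ 1 := fun e => hxQ (Equiv.ext fun v => by rw [hxa, e, one_smul, Equiv.Perm.one_apply])
      refine ⟨x * x, ?_, fun v => ?_, ?_⟩
      · calc x * x * (x * x) * (x * x) = (x * x * x) * (x * x * x) := by group
          _ = 1 := by rw [hx3, one_mul]
      · rw [map_mul, Equiv.Perm.mul_apply, hxa, hxa, smul_smul, hc a h0 h1 hw]
      · rw [hX']
        refine le_antisymm (Subgroup.zpowers_le.2 ⟨-1, ?_⟩) (Subgroup.zpowers_le.2 (mul_mem (Subgroup.mem_zpowers x) (Subgroup.mem_zpowers x)))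
        show (x * x) ^ (-1 : ℤ) = x
        rw [zpow_neg_one]
        exact inv_eq_of_mul_eq_one_right hx3
  obtain ⟨h1, h2, h3, ⟨e⟩⟩ := D.cover_local hgQ hne hx3' hxw
    (Subgroup.centralizer (X : Set ↥(Subgroup.centralizer ({z} : Set G)))) fun c => by
      rw [hXx', Subgroup.zpowers_eq_closure, Subgroup.centralizer_closure, Subgroup.mem_centralizer_singleton_iff]
  exact ⟨h1, h2, h3, CfsgLib.Spor.LargeFischer.F9, inferInstance, inferInstance,
    CfsgLib.Spor.LargeFischer.card_F9, ⟨e⟩⟩

end Cfsg.Agent.S5451
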