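import Cfsg.Statements.S5455
import Cfsg.Agent.Lib.Spor.Tri.CoverM22

set_option autoImplicit false
open Cfsg

namespace Cfsg.Agent.S5455

/-- Let G be a finite group with an involution d whose centralizer C is quasisimple, such that C modulo the subgroup generated by d is of type M(22) with respect to some conjugacy class of 3-transpositions generating it and also has an involution whose own centralizer is quasisimple with quotient by it isomorphic to the projective special unitary group of dimension 6 over the field with four elements and which is not weakly closed in that centralizer; and suppose some conjugate of d other than d commutes with d. Let S be a Sylow 2-subgroup of C and A the Thompson subgroup of S, regarded as a subgroup of G. Then A is elementary abelian of order 2^11, exactly 23 conjugates of d lie in A, and the normalizer of A permutes them transitively. -/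
theorem result {G : Type*} [Group G] [Finite G] (d : G) (hd : orderOf d = 2) (hq : Cfsg.IsQuasisimple ↥(Subgroup.centralizer ({d} : Set G))) [hzn : ((Subgroup.zpowers d).subgroupOf (Subgroup.centralizer ({d} : Set G))).Normal] (htype : ∃ E : Set (↥(Subgroup.centralizer ({d} : Set G)) ⧸ (Subgroup.zpowers d).subgroupOf (Subgroup.centralizer ({d} : Set G))), Cfsg.IsThreeTranspositionClass E ∧ Cfsg.IsOfTypeM22 _ E) (hinvol : ∃ d' : ↥(Subgroup.centralizer ({d} : Set G)) ⧸ (Subgroup.zpowers d).subgroupOf (Subgroup.centralizer ({d} : Set G)), orderOf d' = 2 ∧ Cfsg.IsQuasisimple ↥(Subgroup.centralizer ({d'} : Set _)) ∧ (∃ (K : Type) (_ : Field K) (_ : Fintype K), Fintype.card K = 4 ∧ ∃ _ : ((Subgroup.zpowers d').subgroupOf (Subgroup.centralizer ({d'} : Set _))).Normal, Nonempty (↥(Subgroup.centralizer ({d'} : Set _)) ⧸ (Subgroup.zpowers d').subgroupOf (Subgroup.centralizer ({d'} : Set _)) ≃* Cfsg.PSU 6 K 2)) ∧ ∃ g, g * d' * g⁻¹ ∈ Subgroup.centralizer ({d'} : Set _) ∧ g * d' * g⁻¹ ≠ d') (hnwc : ∃ g : G, g * d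 * g⁻¹ ∈ Subgroup.centralizer ({d} : Set G) ∧ g * d * g⁻¹ ≠ d) (S : Sylow 2 ↥(Subgroup.centralizer ({d} : Set G))) (A : Subgroup G) (hA : A = (Cfsg.thompsonSubgroupOf 2 (S : Subgroup ↥(Subgroup.centralizer ({d} : Set G)))).map (Subgroup.centralizer ({d} : Set G)).subtype) : Cfsg.IsElementaryAbelian 2 A ∧ Nat.card A = 2 ^ 11 ∧ Set.ncard {x : G | x ∈ A ∧ IsConj d x} = 23 ∧ ∀ x ∈ A, ∀ y ∈ A, IsConj d x → IsConj d y → ∃ n ∈ Subgroup.normalizer (A : Set G), n * x * n⁻¹ = y := by
  obtain ⟨E, hE, h22⟩ := htype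
  have key : ∀ k : ↥(Subgroup.centralizer ({d} : Set G)),
      QuotientGroup.mk' ((Subgroup.zpowers d).subgroupOf (Subgroup.centralizer ({d} : Set G))) k = 1 →
        k = 1 ∨ (k : G) = d := by
    intro k hk
    have hdd : d * d = 1 := by rw [← pow_two, ← hd]; exact pow_orderOf_eq_one d
    obtain ⟨n, hn⟩ := Subgroup.mem_zpowers_iff.1 (Subgroup.mem_subgroupOf.1 ((QuotientGroup.eq_one_iff k).1 hk))
    rcases Int.even_or_odd' n with ⟨m, rfl | rfl⟩
    · left; exact Subtype.ext (by rw [← hn, zpow_mul, zpow_two, hdd, one_zpow]; rfl)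
    · right; rw [← hn, zpow_add, zpow_mul, zpow_two, hdd, one_zpow, one_mul, zpow_one]
  haveI : Finite (↥(Subgroup.centralizer ({d} : Set G)) ⧸
      (Subgroup.zpowers d).subgroupOf (Subgroup.centralizer ({d} : Set G))) := Quotient.finite _
  have hperf := hq.1.commutator_eq_top
  have hperfX : commutator (↥(Subgroup.centralizer ({d} : Set G)) ⧸
      (Subgroup.zpowers d).subgroupOf (Subgroup.centralizer ({d} : Set G))) = ⊤ := by
    have := congrArg (Subgroup.map
      (QuotientGroup.mk' ((Subgroup.zpowers d).subgroupOf (Subgroup.centralizer ({d} : Set G))))) hperf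
    rwa [commutator_def, Subgroup.map_commutator, Subgroup.map_top_of_surjective _ (QuotientGroup.mk'_surjective _),
      ← commutator_def] at this
  have h := CfsgLib.Spor.Tri.hyp_of_class hE
  have hprim := CfsgLib.Spor.Tri.DoubleCover.prim22 h hperfX h22
  obtain ⟨hlift, hns⟩ := CfsgLib.Spor.Tri.DoubleCover.conclude hd fun hz hzc hker x hx =>
    CfsgLib.Spor.Tri.DoubleCover.lift_m22 hE hperfX h22 _ (QuotientGroup.mk'_surjective _) hz hzc hker hx
  have hdd : d * d = 1 := by rw [← pow_two, ← hd]; exact pow_orderOf_eq_one d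
  have hset : CfsgLib.Spor.Tri.CoverBase.Setting d
      (QuotientGroup.mk' ((Subgroup.zpowers d).subgroupOf (Subgroup.centralizer ({d} : Set G)))) := by
    refine ⟨fun e => by rw [e, orderOf_one] at hd; norm_num at hd, hdd, QuotientGroup.mk'_surjective _, key,
      fun k hk => (QuotientGroup.eq_one_iff k).2 (Subgroup.mem_subgroupOf.2 (by rw [hk]; exact Subgroup.mem_zpowers d)),
      hperf, fun x hx => ?_, fun ⟨g, hg⟩ => hns ⟨g, (pow_two g).trans hg⟩⟩
    rcases eq_or_ne x 1 with rfl | hx1
    · exact ⟨1, one_mul _, map_one _⟩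
    · obtain ⟨y, hy, hyx⟩ := hlift x (orderOf_eq_prime (by rw [pow_two, hx]) hx1)
      exact ⟨y, by rw [← pow_two, ← hy]; exact pow_orderOf_eq_one y, hyx⟩
  obtain ⟨T⟩ := (inferInstance : Nonempty (Sylow 2 (↥(Subgroup.centralizer ({d} : Set G)) ⧸
      (Subgroup.zpowers d).subgroupOf (Subgroup.centralizer ({d} : Set G)))))
  obtain ⟨B, hB, hBT⟩ := CfsgLib.Spor.Tri.Base22.exists_base h hprim h22 T
  have K : CfsgLib.Spor.Tri.CoverM22.Ctx d _ E T B := ⟨hset, h, hprim, h22, hB, hBT⟩
  exact CfsgLib.Spor.Tri.CoverCore.main K.set K.core (K.fused_card hperf hnwc) S A hA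

end Cfsg.Agent.S5455
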