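import Cfsg.Statements.S5463
import Cfsg.Agent.Lib.Spor.Tri.RelationsTypes
import Cfsg.Agent.Lib.Spor.Tri.RelationsSix
import Cfsg.Agent.S5354

set_option autoImplicit false
open Cfsg

namespace Cfsg.Agent.S5463

open CfsgLib.Spor.Tri CfsgLib.Spor.Tri.Relations

/-- Let G be a finite group with trivial centre generated by a conjugation-invariant set D of 3-transpositions on which it acts primitively, such that for some d in D the subgroup generated by the members of D other than d commuting with d has central largest normal 2- and 3-subgroups, and suppose G with D is of type M(22). A product j of two distinct commuting members of D determines the pair: any two 2-element sets of commuting members of D with product j coincide. A product j of three distinct pairwise commuting members of D arises from exactly two such 3-element sets. -/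
theorem result {G : Type*} [Group G] [Finite G] {D : Set G} (hD : Cfsg.IsThreeTranspositionGroup D) (hprim : Cfsg.IsPrimitiveUnderConj D) (d₀ : G) (hd₀ : d₀ ∈ D) (h3 : Cfsg.pCore 3 ↥(Subgroup.closure {y : G | y ∈ D ∧ y ≠ d₀ ∧ Commute d₀ y}) ≤ Subgroup.center ↥(Subgroup.closure {y : G | y ∈ D ∧ y ≠ d₀ ∧ Commute d₀ y})) (h2 : Cfsg.pCore 2 ↥(Subgroup.closure {y : G | y ∈ D ∧ y ≠ d₀ ∧ Commute d₀ y}) ≤ Subgroup.center ↥(Subgroup.closure {y : G | y ∈ D ∧ y ≠ d₀ ∧ Commute d₀ y})) (h22 : Cfsg.IsOfTypeM22 G D) : (∀ (j : G) (l l' : List G), (l.Nodup ∧ l.length = 2 ∧ (∀ a ∈ l, a ∈ D) ∧ (∀ a ∈ l, ∀ b ∈ l, Commute a b) ∧ l.prod = j) → (l'.Nodup ∧ l'.length = 2 ∧ (∀ a ∈ l', a ∈ D) ∧ (∀ a ∈ l', ∀ b ∈ l', Commute a b) ∧ l'.prod = j) → (∀ x : G, x ∈ l ↔ x ∈ l')) ∧ ∀ (j : G) (l₀ : List G), (l₀.Nodup ∧ l₀.length = 3 ∧ (∀ a ∈ l₀, a ∈ D) ∧ (∀ a ∈ l₀, ∀ b ∈ l₀, Commute a b) ∧ l₀.prod = j) → ∃ l₁ l₂ : List G, (l₁.Nodup ∧ l₁.length = 3 ∧ (∀ a ∈ l₁, a ∈ D) ∧ (∀ a ∈ l₁, ∀ b ∈ l₁, Commute a b) ∧ l₁.prod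 = j) ∧ (l₂.Nodup ∧ l₂.length = 3 ∧ (∀ a ∈ l₂, a ∈ D) ∧ (∀ a ∈ l₂, ∀ b ∈ l₂, Commute a b) ∧ l₂.prod = j) ∧ ¬ (∀ x : G, x ∈ l₁ ↔ x ∈ l₂) ∧ ∀ l : List G, (l.Nodup ∧ l.length = 3 ∧ (∀ a ∈ l, a ∈ D) ∧ (∀ a ∈ l, ∀ b ∈ l, Commute a b) ∧ l.prod = j) → ((∀ x : G, x ∈ l ↔ x ∈ l₁) ∨ (∀ x : G, x ∈ l ↔ x ∈ l₂)) := by
  classical
  have hP := Pre.of_group hD
  have hS := hD.1
  have hnz : ∀ a ∈ D, a ∈ nz D := fun a ha => ⟨ha, fun e => by
    have := hS.1 a ha
    rw [e, orderOf_one] at this
    norm_num at this⟩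
  have hgood := (good_m22 hP h22).1
  obtain ⟨hZ, d, hd, c, hc, hdc, ⟨F, hFf, hFt, hF, ⟨e⟩⟩, -⟩ := h22
  have hlines : HasLines (img D d) := @hasLines_of_equiv F hFf hFt hF _ _ _ e (img D d) (pre_img hP d)
  have hsix0 := six_base hP (hnz d hd) (hnc_of_good hP hgood (hnz d hd)) hlines
  have hsix : ∀ a ∈ nz D, SixAt D a := fun a ha => by
    obtain ⟨g, rfl⟩ := hprim.1 d hd a ha.1
    exact six_conj hP g hsix0
  -- neighbourhoods of two different commuting members generate
  have hmax : ∀ a ∈ nz D, ∀ b ∈ nz D, a ≠ b → Commute a b →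
      Subgroup.closure ({z | z ∈ nz D ∧ Commute a z} ∪ {z | z ∈ nz D ∧ Commute b z}) = ⊤ := by
    intro a ha b hb hab hcab
    obtain ⟨-, -, hm⟩ := Cfsg.Agent.S5354.result hD hprim ⟨a, ha.1, b, hb.1, hab, hcab⟩
    obtain ⟨-, hM⟩ := hm a ha.1
    set S : Set G := {z | z ∈ nz D ∧ Commute a z} ∪ {z | z ∈ nz D ∧ Commute b z}
    have hSD : ∀ z ∈ S, z ∈ D := fun z hz => hz.elim (fun r => r.1.1) fun r => r.1.1
    have hDS : Cfsg.IsDSubgroup D (Subgroup.closure S) :=
      le_antisymm ((Subgroup.closure_le _).2 fun z hz => hz.2)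
        (Subgroup.closure_mono fun z hz => ⟨hSD z hz, Subgroup.subset_closure hz⟩)
    rcases hM _ hDS (Subgroup.closure_mono fun z hz => Or.inl ⟨hnz z hz.1, hz.2⟩) with r | r
    · exfalso
      have hsub : {z | z ∈ nz D ∧ Commute b z} ⊆ {z | z ∈ nz D ∧ Commute a z} := fun z hz => ⟨hz.1, by
        have hzm : z ∈ Subgroup.closure {y : G | y ∈ D ∧ Commute a y} := r ▸ Subgroup.subset_closure (Or.inr hz)
        have hle : Subgroup.closure {y : G | y ∈ D ∧ Commute a y} ≤ Subgroup.centralizer {a} :=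
          (Subgroup.closure_le _).2 fun y hy => Subgroup.mem_centralizer_singleton_iff.2 hy.2.symm.eq
        exact (Subgroup.mem_centralizer_singleton_iff.1 (hle hzm)).symm⟩
      refine hnc_of_good hP hgood hb ⟨a, mem_loc ha.1 hab hcab.symm⟩ ha hab (central_loc fun w hwD hw1 _ hwc => ?_)
      exact ((hsub ⟨⟨hwD, hw1⟩, hwc⟩).2).symm
    · exact r
  have hNR := hgood.norel
  constructor
  · rintro j l l' ⟨hnd, hlen, hmem, hcomm, hprod⟩ ⟨hnd', hlen', hmem', hcomm', hprod'⟩
    have hcross : ∀ a ∈ l, ∀ b ∈ l', Commute b a := by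
      intro a ha b hb
      have hj : Commute b j := hprod' ▸ Commute.list_prod_right _ _ fun c hc => hcomm' b hb c hc
      rw [← hprod] at hj
      obtain ⟨a₁, a₂, rfl⟩ := List.length_eq_two.1 hlen
      simp at hnd ha hj
      have := (commute_mul_iff hS (hmem a₁ (by simp)) (hmem a₂ (by simp)) (hmem' b hb) hnd
        (hcomm a₁ (by simp) a₂ (by simp))).1 hj
      rcases ha with rfl | rfl
      · exact this.1
      · exact this.2
    refine eq_of_prod_eq hP hNR l l' hnd hnd'
      (fun a ha => hnz a ((List.mem_append.1 ha).elim (hmem a) (hmem' a))) ?_ (hprod.trans hprod'.symm) ?_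
    · intro a ha b hb
      rcases List.mem_append.1 ha with ha | ha <;> rcases List.mem_append.1 hb with hb | hb
      · exact hcomm a ha b hb
      · exact (hcross a ha b hb).symm
      · exact hcross b hb a ha
      · exact hcomm' a ha b hb
    · have a1 := List.length_filter_le (fun a => decide (a ∉ l')) l
      have a2 := List.length_filter_le (fun a => decide (a ∉ l)) l'
      omega
  · rintro j l₀ ⟨hnd, hlen, hmem, hcomm, hprod⟩
    obtain ⟨a, b, c', rfl⟩ := List.length_eq_three.1 hlen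
    have hnd0 := hnd
    simp at hnd0
    obtain ⟨⟨nab, nac⟩, nbc⟩ := hnd0
    have ma := hnz a (hmem a (by simp))
    have mb := hnz b (hmem b (by simp))
    have mc := hnz c' (hmem c' (by simp))
    have cab := hcomm a (by simp) b (by simp)
    have cac := hcomm a (by simp) c' (by simp)
    have cbc := hcomm b (by simp) c' (by simp)
    obtain ⟨six, hsnd, hslen, hsiff, hsprod⟩ :=
      exists_six hZ hsix hmax ma mb mc nab nac nbc cab cac cbc
    have h0sub : ∀ x ∈ [a, b, c'], x ∈ six := by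
      intro x hx
      simp at hx
      rcases hx with rfl | rfl | rfl
      · exact (hsiff _).2 ⟨ma, fun f _ r _ _ => r⟩
      · exact (hsiff _).2 ⟨mb, fun f _ _ r _ => r⟩
      · exact (hsiff _).2 ⟨mc, fun f _ _ _ r => r⟩
    set l₂ := six.filter (fun x => decide (x ∉ [a, b, c'])) with hl₂
    have hperm : ([a, b, c'] ++ l₂).Perm six := by
      refine (List.perm_ext_iff_of_nodup ?_ hsnd).2 fun x => ?_
      · exact List.nodup_append.2 ⟨hnd, hsnd.filter _, fun x hx y hy e => by
          subst e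
          exact (of_decide_eq_true (List.mem_filter.1 hy).2) hx⟩
      · rw [List.mem_append, hl₂, List.mem_filter]
        refine ⟨fun r => r.elim (h0sub x) fun r => r.1, fun r => ?_⟩
        by_cases hx : x ∈ [a, b, c']
        · exact Or.inl hx
        · exact Or.inr ⟨r, decide_eq_true hx⟩
    have hl₂len : l₂.length = 3 := by
      have := hperm.length_eq
      rw [List.length_append, hlen, hslen] at this
      omega
    have hscomm : ∀ x ∈ six, ∀ y ∈ six, Commute x y := fun x hx y hy =>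
      cl_commute ma mb mc cab cac cbc ((hsiff x).1 hx) ((hsiff y).1 hy)
    have hl₂sub : ∀ x ∈ l₂, x ∈ six := fun x hx => (List.mem_filter.1 hx).1
    have hl₂comm : ∀ x ∈ l₂, ∀ y ∈ l₂, Commute x y := fun x hx y hy => hscomm x (hl₂sub x hx) y (hl₂sub y hy)
    have hl₂mem : ∀ x ∈ l₂, x ∈ D := fun x hx => ((hsiff x).1 (hl₂sub x hx)).1.1
    have hl₂prod : l₂.prod = j := by
      have h1 : ([a, b, c'] ++ l₂).prod = six.prod := hperm.prod_eq' (List.pairwise_of_forall_mem_list
        fun x hx y hy => hscomm x (hperm.subset hx) y (hperm.subset hy))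
      rw [List.prod_append, hprod, hsprod] at h1
      have h2 := prod_mul_self l₂ (fun x hx => hP.invol x (hl₂mem x hx)) hl₂comm
      calc l₂.prod = (j * l₂.prod) * l₂.prod := by rw [h1, one_mul]
        _ = j := by rw [mul_assoc, h2, mul_one]
    have hl₂nd : l₂.Nodup := hsnd.filter _
    refine ⟨[a, b, c'], l₂, ⟨hnd, hlen, hmem, hcomm, hprod⟩, ⟨hl₂nd, hl₂len, hl₂mem, hl₂comm, hl₂prod⟩, ?_, ?_⟩
    · intro hiff
      exact (of_decide_eq_true (List.mem_filter.1 ((hiff a).1 (by simp))).2) (by simp)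
    · rintro l ⟨hndl, hlenl, hmeml, hcomml, hprodl⟩
      have hcross : ∀ x ∈ l, Commute x a ∧ Commute x b ∧ Commute x c' := fun x hx => by
        have hj : Commute x j := hprodl ▸ Commute.list_prod_right _ _ fun y hy => hcomml x hx y hy
        rw [← hprod, show [a, b, c'].prod = a * b * c' by simp [mul_assoc]] at hj
        exact (commute_mul_mul_iff hS ma.1 mb.1 mc.1 (hmeml x hx) nab nac nbc cab cac cbc).1 hj
      have hcl : ∀ x ∈ l, x ∈ six := fun x hx => (hsiff x).2 ⟨hnz x (hmeml x hx), fun f hf fa fb fc => by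
        have hj : Commute f j := by
          rw [← hprod, show [a, b, c'].prod = a * b * c' by simp [mul_assoc]]
          exact (fa.mul_right fb).mul_right fc
        obtain ⟨x₁, x₂, x₃, rfl⟩ := List.length_eq_three.1 hlenl
        rw [← hprodl, show [x₁, x₂, x₃].prod = x₁ * x₂ * x₃ by simp [mul_assoc]] at hj
        have hn := hndl
        simp at hn
        have := (commute_mul_mul_iff hS (hmeml x₁ (by simp)) (hmeml x₂ (by simp)) (hmeml x₃ (by simp)) hf.1
          hn.1.1 hn.1.2 hn.2 (hcomml x₁ (by simp) x₂ (by simp)) (hcomml x₁ (by simp) x₃ (by simp))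
          (hcomml x₂ (by simp) x₃ (by simp))).1 hj
        simp at hx
        rcases hx with rfl | rfl | rfl
        · exact this.1
        · exact this.2.1
        · exact this.2.2⟩
      by_cases hshare : ∃ x ∈ l, x ∈ [a, b, c']
      · left
        obtain ⟨x, hxl, hx0⟩ := hshare
        refine eq_of_prod_eq hP hNR l [a, b, c'] hndl hnd
          (fun y hy => hnz y ((List.mem_append.1 hy).elim (hmeml y) (hmem y))) ?_ (hprodl.trans hprod.symm) ?_
        · intro u hu v hv
          refine hscomm u ?_ v ?_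
          · exact (List.mem_append.1 hu).elim (hcl u) (h0sub u)
          · exact (List.mem_append.1 hv).elim (hcl v) (h0sub v)
        · have b1 : (l.filter (fun y => decide (y ∉ [a, b, c']))).length < l.length :=
            List.length_filter_lt_length_iff_exists.2 ⟨x, hxl, fun r => (of_decide_eq_true r) hx0⟩
          have b2 : ([a, b, c'].filter (fun y => decide (y ∉ l))).length < [a, b, c'].length :=
            List.length_filter_lt_length_iff_exists.2 ⟨x, hx0, fun r => (of_decide_eq_true r) hxl⟩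
          omega
      · right
        push Not at hshare
        have hsub : l ⊆ l₂ := fun x hx => List.mem_filter.2 ⟨hcl x hx, decide_eq_true (hshare x hx)⟩
        have hp : l.Perm l₂ := (hndl.subperm hsub).perm_of_length_le (by omega)
        exact fun x => hp.mem_iff

end Cfsg.Agent.S5463
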