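import Cfsg.Statements.S5464
import Cfsg.Agent.Lib.Spor.Tri.RelationsTypes

set_option autoImplicit false
open Cfsg

namespace Cfsg.Agent.S5464

open CfsgLib.Spor.Tri CfsgLib.Spor.Tri.Relations

theorem prod_sq {G : Type*} [Group G] (l : List G) (hi : ∀ a ∈ l, a * a = 1)
    (hc : ∀ a ∈ l, ∀ b ∈ l, Commute a b) : l.prod * l.prod = 1 := by
  induction l with
  | nil => simp
  | cons a l ih =>
    have ih' := ih (fun b hb => hi b (List.mem_cons_of_mem a hb))
      fun b hb c hc' => hc b (List.mem_cons_of_mem a hb) c (List.mem_cons_of_mem a hc')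
    have hca : Commute a l.prod :=
      Commute.list_prod_right _ _ fun b hb => hc a List.mem_cons_self b (List.mem_cons_of_mem a hb)
    calc (a :: l).prod * (a :: l).prod = a * (l.prod * a) * l.prod := by rw [List.prod_cons]; group
      _ = a * (a * l.prod) * l.prod := by rw [hca.eq]
      _ = (a * a) * (l.prod * l.prod) := by group
      _ = 1 := by rw [ih', hi a List.mem_cons_self, one_mul]

theorem no_short_relation {G : Type*} [Group G] [Finite G] {D : Set G} (hD : Cfsg.IsThreeTranspositionGroup D)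
    (hprim : Cfsg.IsPrimitiveUnderConj D) (h : Cfsg.IsOfTypeM23 G D ∨ Cfsg.IsOfTypeM24 G D) : NoRel 6 D := by
  rcases h with h | h
  · exact (good_m23 (Pre.of_group hD) h).1.norel
  · intro l h1 h2 h3
    exact (good_m24 (Pre.of_group hD) h fun a ha b hb => hprim.1 a ha.1 b hb.1).norel l h1 h2 (h3.trans (by norm_num))

/-- Let G be a finite group with trivial centre generated by a conjugation-invariant set D of 3-transpositions on which it acts primitively, such that for some d in D the subgroup generated by the members of D other than d commuting with d has central largest normal 2- and 3-subgroups, and suppose G with D is of type M(23) or of type M(24). Then for m ≤ 3, a product of m distinct pairwise commuting members of D determines the set of factors: any two m-element sets of pairwise commuting members of D with the same product coincide. -/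
theorem result {G : Type*} [Group G] [Finite G] {D : Set G} (hD : Cfsg.IsThreeTranspositionGroup D) (hprim : Cfsg.IsPrimitiveUnderConj D) (d₀ : G) (hd₀ : d₀ ∈ D) (h3 : Cfsg.pCore 3 ↥(Subgroup.closure {y : G | y ∈ D ∧ y ≠ d₀ ∧ Commute d₀ y}) ≤ Subgroup.center ↥(Subgroup.closure {y : G | y ∈ D ∧ y ≠ d₀ ∧ Commute d₀ y})) (h2 : Cfsg.pCore 2 ↥(Subgroup.closure {y : G | y ∈ D ∧ y ≠ d₀ ∧ Commute d₀ y}) ≤ Subgroup.center ↥(Subgroup.closure {y : G | y ∈ D ∧ y ≠ d₀ ∧ Commute d₀ y})) (h : Cfsg.IsOfTypeM23 G D ∨ Cfsg.IsOfTypeM24 G D) (m : ℕ) (hm : m ≤ 3) (j : G) (l l' : List G) (hl : (l.Nodup ∧ l.length = m ∧ (∀ a ∈ l, a ∈ D) ∧ (∀ a ∈ l, ∀ b ∈ l, Commute a b) ∧ l.prod = j)) (hl' : (l'.Nodup ∧ l'.length = m ∧ (∀ a ∈ l', a ∈ D) ∧ (∀ a ∈ l', ∀ b ∈ l', Commute a b) ∧ l'.prod = j)) : (∀ x : G, x ∈ l ↔ x ∈ l') := by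
  classical
  have hP := Pre.of_group hD
  have hNR := no_short_relation hD hprim h
  obtain ⟨hnd, hlen, hmem, hcomm, hprod⟩ := hl
  obtain ⟨hnd', hlen', hmem', hcomm', hprod'⟩ := hl'
  have hS := hD.1
  have hne1 : ∀ a ∈ D, a ≠ 1 := fun a ha e => by
    have := hS.1 a ha
    rw [e, orderOf_one] at this
    norm_num at this
  -- every member of the second list commutes with every member of the first
  have hcross : ∀ a ∈ l, ∀ b ∈ l', Commute b a := by
    intro a ha b hb
    have hj : Commute b j := hprod' ▸ Commute.list_prod_right _ _ fun c hc => hcomm' b hb c hc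
    rw [← hprod] at hj
    match l, hnd, hlen, hmem, hcomm, ha, hj with
    | [a₁], _, _, _, _, ha, hj => simp at ha hj; rw [ha]; exact hj
    | [a₁, a₂], hnd, _, hmem, hcomm, ha, hj =>
      simp at hnd ha hj
      have := (commute_mul_iff hS (hmem a₁ (by simp)) (hmem a₂ (by simp)) (hmem' b hb) hnd
        (hcomm a₁ (by simp) a₂ (by simp))).1 hj
      rcases ha with rfl | rfl
      · exact this.1
      · exact this.2
    | [a₁, a₂, a₃], hnd, _, hmem, hcomm, ha, hj =>
      simp at hnd ha hj
      rw [← mul_assoc] at hj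
      have := (commute_mul_mul_iff hS (hmem a₁ (by simp)) (hmem a₂ (by simp)) (hmem a₃ (by simp)) (hmem' b hb)
        hnd.1.1 hnd.1.2 hnd.2 (hcomm a₁ (by simp) a₂ (by simp)) (hcomm a₁ (by simp) a₃ (by simp))
        (hcomm a₂ (by simp) a₃ (by simp))).1 hj
      rcases ha with rfl | rfl | rfl
      · exact this.1
      · exact this.2.1
      · exact this.2.2
    | a₁ :: a₂ :: a₃ :: a₄ :: rest, _, hlen, _, _, _, _ => simp only [List.length_cons] at hlen; omega
  have hall : ∀ a ∈ l ++ l', ∀ b ∈ l ++ l', Commute a b := by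
    intro a ha b hb
    rcases List.mem_append.1 ha with ha | ha <;> rcases List.mem_append.1 hb with hb | hb
    · exact hcomm a ha b hb
    · exact (hcross a ha b hb).symm
    · exact hcross b hb a ha
    · exact hcomm' a ha b hb
  set l1 := l.filter (fun a => decide (a ∉ l')) with hl1
  set l2 := l'.filter (fun a => decide (a ∉ l)) with hl2
  set k1 := l.filter (fun a => decide (a ∈ l')) with hk1
  set k2 := l'.filter (fun a => decide (a ∈ l)) with hk2
  have p1 : (l1 ++ k1).Perm l := by
    refine (List.perm_ext_iff_of_nodup ?_ hnd).2 fun x => by simp [hl1, hk1]; tauto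
    exact List.nodup_append.2 ⟨hnd.filter _, hnd.filter _, fun x hx y hy => by
      simp [hl1, hk1] at hx hy; rintro rfl; exact hx.2 hy.2⟩
  have p2 : (l2 ++ k2).Perm l' := by
    refine (List.perm_ext_iff_of_nodup ?_ hnd').2 fun x => by simp [hl2, hk2]; tauto
    exact List.nodup_append.2 ⟨hnd'.filter _, hnd'.filter _, fun x hx y hy => by
      simp [hl2, hk2] at hx hy; rintro rfl; exact hx.2 hy.2⟩
  have p3 : k1.Perm k2 := (List.perm_ext_iff_of_nodup (hnd.filter _) (hnd'.filter _)).2 fun x => by
    simp [hk1, hk2]; tauto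
  have hpw : ∀ {s : List G}, (∀ x ∈ s, x ∈ l ++ l') → s.Pairwise Commute := fun hs =>
    List.pairwise_of_forall_mem_list fun x hx y hy => hall x (hs x hx) y (hs y hy)
  have hs1 : ∀ x ∈ l1, x ∈ l ++ l' := fun x hx => List.mem_append_left _ (List.mem_filter.1 hx).1
  have hs2 : ∀ x ∈ l2, x ∈ l ++ l' := fun x hx => List.mem_append_right _ (List.mem_filter.1 hx).1
  have e1 : l1.prod * k1.prod = j := by
    rw [← List.prod_append, p1.prod_eq' (hpw fun x hx => List.mem_append_left _ (p1.subset hx)), hprod]
  have e2 : l2.prod * k2.prod = j := by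
    rw [← List.prod_append, p2.prod_eq' (hpw fun x hx => List.mem_append_right _ (p2.subset hx)), hprod']
  have e3 : k1.prod = k2.prod :=
    p3.prod_eq' (hpw fun x hx => List.mem_append_left _ (List.mem_filter.1 hx).1)
  have e4 : l1.prod = l2.prod := by
    rw [← e2, e3] at e1
    exact mul_right_cancel e1
  have hDl : ∀ x ∈ l ++ l', x ∈ D := fun x hx => (List.mem_append.1 hx).elim (hmem x) (hmem' x)
  have hsub : ∀ x ∈ l1 ++ l2, x ∈ l ++ l' := fun x hx => (List.mem_append.1 hx).elim (hs1 x) (hs2 x)
  have hempty : l1 ++ l2 = [] := by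
    by_contra hne
    refine hNR (l1 ++ l2) hne ?_ ?_ (fun x hx => ⟨hDl x (hsub x hx), hne1 x (hDl x (hsub x hx))⟩)
      (fun x hx y hy => hall x (hsub x hx) y (hsub y hy)) ?_
    · exact List.nodup_append.2 ⟨hnd.filter _, hnd'.filter _, fun x hx y hy => by
        simp [hl1, hl2] at hx hy; rintro rfl; exact hx.2 hy.1⟩
    · have a1 : l1.length ≤ l.length := List.length_filter_le _ _
      have a2 : l2.length ≤ l'.length := List.length_filter_le _ _
      rw [List.length_append]
      omega
    · rw [List.prod_append, e4]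
      exact prod_sq l2 (fun x hx => hP.invol x (hDl x (hs2 x hx))) fun x hx y hy => hall x (hs2 x hx) y (hs2 y hy)
  obtain ⟨n1, n2⟩ := List.append_eq_nil_iff.1 hempty
  intro x
  constructor
  · intro hx
    by_contra hxn
    have : x ∈ l1 := List.mem_filter.2 ⟨hx, by simpa using hxn⟩
    simp [n1] at this
  · intro hx
    by_contra hxn
    have : x ∈ l2 := List.mem_filter.2 ⟨hx, by simpa using hxn⟩
    simp [n2] at this

end Cfsg.Agent.S5464
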