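import Cfsg.Statements.S5466
import Cfsg.Agent.Lib.Spor.Tri.TripleM24Out

set_option autoImplicit false
open Cfsg

namespace Cfsg.Agent.S5466

open CfsgLib.Spor.Tri CfsgLib.Spor.Tri.Level

theorem gfit_eq {X : Type*} [Group X] [Finite X] (J : Subgroup X) [J.Normal] (hJ : Cfsg.IsQuasisimple ↥J)
    (hC : Subgroup.centralizer (J : Set X) ≤ J) : Cfsg.generalizedFittingSubgroup X = J := by
  have hc : Cfsg.IsComponent J := ⟨Subgroup.Normal.isSubnormal inferInstance, hJ⟩
  have hlay : J ≤ Cfsg.layer X := CfsgLib.Coprime.component_le_layer hc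
  refine le_antisymm (sup_le (sSup_le fun L hL => ?_) ?_) (hlay.trans le_sup_left)
  · by_cases e : J = L
    · exact e.ge
    · refine le_trans ?_ hC
      rw [← Subgroup.commutator_eq_bot_iff_le_centralizer]
      exact CfsgLib.Coprime.components_commute hL hc (Ne.symm e)
  · exact le_trans (CfsgLib.Coprime.fitting_le_centralizer_layer.trans (Subgroup.centralizer_le hlay)) hC

theorem quot_aut {X P : Type*} [Group X] [Finite X] [Group P] [Finite P] (J E : Subgroup X) [hJn : J.Normal]
    [hEn : E.Normal] (hE : E ≤ J) (hJ : Cfsg.IsQuasisimple ↥J) (hEc : E.subgroupOf J = Subgroup.center ↥J)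
    (hC : Subgroup.centralizer (J : Set X) ≤ E) [(E.subgroupOf J).Normal] (e : ↥J ⧸ E.subgroupOf J ≃* P)
    (hcard : Nat.card (MulAut P) ≤ Nat.card (X ⧸ E)) : Nonempty (X ⧸ E ≃* MulAut P) := by
  have hσ : ∀ x : X, (E.subgroupOf J).map (MulAut.conjNormal x : MulAut ↥J).toMonoidHom = E.subgroupOf J := fun x => by
    rw [hEc]
    exact Subgroup.characteristic_iff_map_eq.1 inferInstance _
  let ρ : X →* MulAut P := (MulAut.congr e).toMonoidHom.comp
    (MonoidHom.mk' (fun x => QuotientGroup.congr _ _ (MulAut.conjNormal x : MulAut ↥J) (hσ x)) fun x y => by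
      refine MulEquiv.ext fun q => ?_
      obtain ⟨k, rfl⟩ := QuotientGroup.mk'_surjective _ q
      show (QuotientGroup.mk (MulAut.conjNormal (x * y) k) : ↥J ⧸ E.subgroupOf J) =
        QuotientGroup.mk (MulAut.conjNormal x (MulAut.conjNormal y k))
      rw [map_mul]
      rfl)
  have hker : ρ.ker = E := by
    ext z
    constructor
    · intro hz
      have hz' : ∀ k : ↥J, (MulAut.conjNormal z k : ↥J) * k⁻¹ ∈ Subgroup.center ↥J := by
        intro k
        have r := DFunLike.congr_fun (hz : ρ z = 1) (e (QuotientGroup.mk k))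
        simp [ρ] at r
        replace r : (QuotientGroup.mk (MulAut.conjNormal z k) : ↥J ⧸ E.subgroupOf J) = QuotientGroup.mk k := r
        rw [← hEc, ← QuotientGroup.eq_one_iff, QuotientGroup.mk_mul, QuotientGroup.mk_inv, r, mul_inv_cancel]
      let δ : ↥J →* ↥(Subgroup.center ↥J) := MonoidHom.mk' (fun k => ⟨_, hz' k⟩) fun k k' => Subtype.ext (by
        show MulAut.conjNormal z (k * k') * (k * k')⁻¹ = MulAut.conjNormal z k * k⁻¹ * (MulAut.conjNormal z k' * k'⁻¹)
        rw [map_mul, mul_inv_rev, mul_assoc (MulAut.conjNormal z k) k⁻¹, Subgroup.mem_center_iff.1 (hz' k') k⁻¹]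
        group)
      have hδ : ∀ k, δ k = 1 := by
        intro k
        have hk : k ∈ commutator ↥J := by
          rw [hJ.1.commutator_eq_top]; exact Subgroup.mem_top k
        have : commutator ↥J ≤ δ.ker := by
          rw [_root_.commutator_def, Subgroup.commutator_le]
          intro u _ v _
          rw [MonoidHom.mem_ker, map_commutatorElement, commutatorElement_eq_one_iff_mul_comm]
          exact Subtype.ext (Subgroup.mem_center_iff.1 (δ v).2 _)
        exact this hk
      refine hC (Subgroup.mem_centralizer_iff.2 fun k hk => ?_)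
      have r := congrArg (fun q : ↥(Subgroup.center ↥J) => ((q : ↥J) : X)) (hδ ⟨k, hk⟩)
      simp [δ, MulAut.conjNormal_apply] at r
      exact (mul_inv_eq_iff_eq_mul.1 (mul_inv_eq_one.1 r)).symm
    · intro hz
      show ρ z = 1
      refine MulEquiv.ext fun q => ?_
      obtain ⟨k, hk⟩ := QuotientGroup.mk'_surjective _ (e.symm q)
      have hq : q = e (QuotientGroup.mk k) := by
        rw [show (QuotientGroup.mk k : ↥J ⧸ E.subgroupOf J) = e.symm q from hk, e.apply_symm_apply]
      rw [hq]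
      simp [ρ]
      show (QuotientGroup.mk (MulAut.conjNormal z k) : ↥J ⧸ E.subgroupOf J) = QuotientGroup.mk k
      rw [QuotientGroup.eq]
      have hm : (⟨z, hE hz⟩ : ↥J) ∈ Subgroup.center ↥J := hEc ▸ hz
      have : MulAut.conjNormal z k = k := Subtype.ext (by
        rw [MulAut.conjNormal_apply, show z * (k : X) = (k : X) * z from
          (congrArg Subtype.val (Subgroup.mem_center_iff.1 hm k)).symm, mul_inv_cancel_right])
      rw [this, inv_mul_cancel]
      exact one_mem _
  let f : X ⧸ E →* MulAut P := QuotientGroup.lift E ρ hker.ge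
  have hinj : Function.Injective f := by
    rw [injective_iff_map_eq_one]
    intro q hq
    obtain ⟨z, rfl⟩ := QuotientGroup.mk'_surjective _ q
    exact (QuotientGroup.eq_one_iff z).2 (hker.le hq)
  haveI : Finite (MulAut P) :=
    Finite.of_injective (fun φ : MulAut P => (φ : P → P)) fun x y r => MulEquiv.ext (congrFun r)
  exact ⟨MulEquiv.ofBijective f ((Nat.bijective_iff_injective_and_card f).2
    ⟨hinj, le_antisymm (Nat.card_le_card_of_injective _ hinj) hcard⟩)⟩

/-- Let G be a finite group with trivial centre generated by a conjugation-invariant set D of 3-transpositions on which it acts primitively, such that for some d in D the subgroup generated by the members of D other than d commuting with d has central largest normal 2- and 3-subgroups, and suppose G with D is of type M(24), and let L be the commutator subgroup of G. Let d₁, d₂, d₃ be distinct pairwise commuting members of D, j their product, E the subgroup generated by d₁ d₂ and d₁ d₃ (a four-group lying in L), CL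 the centralizer of j in L and K its generalized Fitting subgroup. Then K is quasisimple with centre E, K is the centralizer of E in L, K modulo E is isomorphic to the projective special unitary group of dimension 6 over the field with four elements, CL/K is isomorphic to the symmetric group of degree 3, and CL modulo E is isomorphic to the full automorphism group of that unitary group. -/
theorem result {G : Type*} [Group G] [Finite G] {D : Set G} (hD : Cfsg.IsThreeTranspositionGroup D) (hprim : Cfsg.IsPrimitiveUnderConj D) (d₀ : G) (hd₀ : d₀ ∈ D) (h3 : Cfsg.pCore 3 ↥(Subgroup.closure {y : G | y ∈ D ∧ y ≠ d₀ ∧ Commute d₀ y}) ≤ Subgroup.center ↥(Subgroup.closure {y : G | y ∈ D ∧ y ≠ d₀ ∧ Commute d₀ y})) (h2 : Cfsg.pCore 2 ↥(Subgroup.closure {y : G | y ∈ D ∧ y ≠ d₀ ∧ Commute d₀ y}) ≤ Subgroup.center ↥(Subgroup.closure {y : G | y ∈ D ∧ y ≠ d₀ ∧ Commute d₀ y})) (h24 : Cfsg.IsOfTypeM24 G D) (L : Subgroup G) (hL : L = commutator G) (d₁ d₂ d₃ : G) (h₁ : d₁ ∈ D) (h₂ : d₂ ∈ D) (h₃ : d₃ ∈ D)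 (h12 : d₁ ≠ d₂) (h13 : d₁ ≠ d₃) (h23 : d₂ ≠ d₃) (c12 : Commute d₁ d₂) (c13 : Commute d₁ d₃) (c23 : Commute d₂ d₃) (E CL K : Subgroup G) (hE : E = Subgroup.closure ({d₁ * d₂, d₁ * d₃} : Set G)) (hCL : CL = L ⊓ Subgroup.centralizer ({d₁ * d₂ * d₃} : Set G)) (hK : K = (Cfsg.generalizedFittingSubgroup ↥CL).map CL.subtype) : Cfsg.IsQuasisimple ↥K ∧ (Subgroup.center ↥K).map K.subtype = E ∧ K = L ⊓ Subgroup.centralizer (E : Set G) ∧ (∃ (_ : (E.subgroupOf K).Normal) (F : Type) (_ : Field F) (_ : Fintype F), Fintype.card F = 4 ∧ Nonempty (↥K ⧸ E.subgroupOf K ≃* Cfsg.PSU 6 F 2)) ∧ ∃ _ : (K.subgroupOf CL).Normal, Nonempty (↥CL ⧸ K.subgroupOf CL ≃* Equiv.Perm (Fin 3)) ∧ E ≤ CL ∧ ∃ (_ : (E.subgroupOf CL).Normal) (F : Type) (_ : Field F) (_ : Fintype F), Fintype.card F = 4 ∧ Nonempty (↥CL ⧸ E.subgroupOf CL ≃* MulAut (Cfsg.PSU 6 F 2)) := by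
  classical
  have h := hyp_of_prim hD hprim
  obtain ⟨d, W⟩ := local24 h hprim h24
  have ht : CfsgLib.Spor.Tri.Relations.Tuple D [d₁, d₂, d₃] :=
    ⟨by simp [h12, h13, h23], by simp [CfsgLib.Spor.Tri.Relations.nz, h₁, h₂, h₃, h.ne_one h₁, h.ne_one h₂, h.ne_one h₃],
      by simp [c12, c13, c23, c12.symm, c13.symm, c23.symm]⟩
  obtain ⟨hq, hcen, F, hFf, hFt, hF, ⟨eF⟩⟩ := tcent_data h hprim h24 ht
  obtain ⟨θ, hθs, hθk⟩ := tprod_perm h hprim h24 ht
  set K₀ := tcent d₁ d₂ d₃ with hK₀
  have hCLe : CL = tprod d₁ d₂ d₃ := by rw [hCL, hL]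
  subst hCLe
  have hle : K₀ ≤ tprod d₁ d₂ d₃ := fun g hg => by
    obtain ⟨gL, g1, g2, g3⟩ := mem_tcent.1 hg
    exact mem_tprod.2 ⟨gL, mul_inv_eq_iff_eq_mul.2 ((g1.mul_right g2).mul_right g3).eq⟩
  have hEK : E ≤ K₀ := by rw [hE, ← hcen]; exact Subgroup.map_subtype_le _
  set J := K₀.subgroupOf (tprod d₁ d₂ d₃) with hJ
  haveI hJn : J.Normal := hθk ▸ inferInstance
  have hJq : Cfsg.IsQuasisimple ↥J := CfsgLib.Coprime.isQuasisimple_congr (Subgroup.subgroupOfEquivOfLe hle).symm hq
  have hKeq : K₀ = L ⊓ Subgroup.centralizer (E : Set G) := by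
    rw [hE, hL]; exact tcent_eq h W.good.norel ht
  have hJC : Subgroup.centralizer (J : Set ↥(tprod d₁ d₂ d₃)) ≤ J := by
    intro z hz
    rw [hJ, Subgroup.mem_subgroupOf, hKeq]
    refine ⟨hL ▸ z.2.1, Subgroup.mem_centralizer_iff.2 fun e he => ?_⟩
    exact congrArg Subtype.val (Subgroup.mem_centralizer_iff.1 hz ⟨e, hle (hEK he)⟩ (hEK he))
  have hKK : K = K₀ := by
    rw [hK, gfit_eq J hJq hJC, hJ, Subgroup.map_subgroupOf_eq_of_le hle]
  subst hKK
  have hcenK : E.subgroupOf K₀ = Subgroup.center ↥K₀ := by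
    rw [hE, ← hcen]
    exact Subgroup.comap_map_eq_self_of_injective (Subgroup.subtype_injective _) _
  letI := hFf
  letI := hFt
  refine ⟨hq, by rw [hcen, hE], hKeq, ⟨hcenK ▸ inferInstance, F, hFf, hFt, hF, ?_⟩, hJn,
    ⟨(QuotientGroup.quotientMulEquivOfEq hθk.symm).trans (QuotientGroup.quotientKerEquivOfSurjective θ hθs)⟩,
    hEK.trans hle, ?_⟩
  · haveI : (E.subgroupOf K₀).Normal := hcenK ▸ inferInstance
    exact ⟨(QuotientGroup.quotientMulEquivOfEq hcenK).trans eF⟩
  · set E' := E.subgroupOf (tprod d₁ d₂ d₃) with hE'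
    have hE'J : E' ≤ J := fun z hz => hEK hz
    set σ := Subgroup.subgroupOfEquivOfLe hle with hσ
    have hE'c : E'.subgroupOf J = Subgroup.center ↥J := by
      ext z
      have hzc : z ∈ Subgroup.center ↥J ↔ σ z ∈ Subgroup.center ↥K₀ := by
        rw [Subgroup.mem_center_iff, Subgroup.mem_center_iff]
        refine ⟨fun r y => ?_, fun r y => σ.injective (by rw [map_mul, map_mul]; exact r (σ y))⟩
        obtain ⟨y, rfl⟩ := σ.surjective y
        rw [← map_mul, r, map_mul]
      rw [hzc, ← hcenK]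
      rfl
    haveI hE'n : E'.Normal := by
      haveI : (Subgroup.center ↥J).Characteristic := inferInstance
      have e : E' = (Subgroup.center ↥J).map J.subtype := by
        rw [← hE'c, Subgroup.map_subgroupOf_eq_of_le hE'J]
      rw [e]
      infer_instance
    haveI : (E'.subgroupOf J).Normal := inferInstance
    haveI : (E.subgroupOf K₀).Normal := hcenK ▸ inferInstance
    have eJ : ↥J ⧸ E'.subgroupOf J ≃* Cfsg.PSU 6 F 2 :=
      ((QuotientGroup.congr (E'.subgroupOf J) (E.subgroupOf K₀) σ (by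
        ext q
        obtain ⟨k, rfl⟩ := σ.surjective q
        exact (Subgroup.mem_map_iff_mem (f := (σ : ↥J →* ↥K₀)) σ.injective).trans Iff.rfl)).trans
        (QuotientGroup.quotientMulEquivOfEq hcenK)).trans eF
    haveI : Finite (Cfsg.PSU 6 F 2) := Finite.of_equiv _ eJ.toEquiv
    have hcard : Nat.card (↥(tprod d₁ d₂ d₃) ⧸ E') = 55180984320 := by
      have h1 := Subgroup.relIndex_mul_index hE'J
      rw [Subgroup.relIndex, Subgroup.index_eq_card (E'.subgroupOf J), Nat.card_congr eJ.toEquiv, card_psu_six hF,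
        Subgroup.index_eq_card J, Nat.card_congr ((QuotientGroup.quotientMulEquivOfEq hθk.symm).trans
          (QuotientGroup.quotientKerEquivOfSurjective θ hθs)).toEquiv, Nat.card_eq_fintype_card (α := Equiv.Perm (Fin 3)),
        Fintype.card_perm, Fintype.card_fin] at h1
      rw [← Subgroup.index_eq_card, ← h1]
      decide
    have hCJ : Subgroup.centralizer (J : Set ↥(tprod d₁ d₂ d₃)) ≤ E' := by
      intro z hz
      have hzJ := hJC hz
      have : (⟨z, hzJ⟩ : ↥J) ∈ Subgroup.center ↥J := Subgroup.mem_center_iff.2 fun y =>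
        Subtype.ext (Subgroup.mem_centralizer_iff.1 hz y y.2)
      rw [← hE'c] at this
      exact this
    exact ⟨hE'n, F, hFf, hFt, hF, quot_aut J E' hE'J hJq hE'c hCJ eJ ((aut_psu6_le hF).trans hcard.ge)⟩

end Cfsg.Agent.S5466
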