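import Cfsg.Statements.S5465
import Cfsg.Agent.S5466
import Cfsg.Agent.Lib.Spor.Tri.PairM24Cent

set_option autoImplicit false
open Cfsg

namespace Cfsg.Agent.S5465

open CfsgLib.Spor.Tri CfsgLib.Spor.Tri.Level CfsgLib.Spor.Tri.Relations

/-- Let G be a finite group with trivial centre generated by a conjugation-invariant set D of 3-transpositions on which it acts primitively, such that for some d in D the subgroup generated by the members of D other than d commuting with d has central largest normal 2- and 3-subgroups, and suppose G with D is of type M(24), and let L be the commutator subgroup of G. Let d₁, d₂ be distinct commuting members of D and j = d₁ d₂. Then K, the joint centralizer of d₁ and d₂ in L, is quasisimple, is the generalized Fitting subgroup of the centralizer of j in L, has index 2 in it and contains j, and the centralizer of j in L modulo the subgroup generated by j is isomorphic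 to the full automorphism group of the Fischer group Fi₂₂ (as presented). -/
theorem result {G : Type*} [Group G] [Finite G] {D : Set G} (hD : Cfsg.IsThreeTranspositionGroup D) (hprim : Cfsg.IsPrimitiveUnderConj D) (d₀ : G) (hd₀ : d₀ ∈ D) (h3 : Cfsg.pCore 3 ↥(Subgroup.closure {y : G | y ∈ D ∧ y ≠ d₀ ∧ Commute d₀ y}) ≤ Subgroup.center ↥(Subgroup.closure {y : G | y ∈ D ∧ y ≠ d₀ ∧ Commute d₀ y})) (h2 : Cfsg.pCore 2 ↥(Subgroup.closure {y : G | y ∈ D ∧ y ≠ d₀ ∧ Commute d₀ y}) ≤ Subgroup.center ↥(Subgroup.closure {y : G | y ∈ D ∧ y ≠ d₀ ∧ Commute d₀ y})) (h24 : Cfsg.IsOfTypeM24 G D) (L : Subgroup G) (hL : L = commutator G) (d₁ d₂ : G) (h₁ : d₁ ∈ D) (h₂ : d₂ ∈ D) (hne : d₁ ≠ d₂) (hc : Commute d₁ d₂) (K CL : Subgroup G) (hK : K = L ⊓ Subgroup.centralizer ({d₁, d₂} : Set G)) (hCL : CL = L ⊓ Subgroup.centralizer ({d₁ * d₂} : Set G)) [hn : ((Subgroup.zpowers (d₁ * d₂)).subgroupOf CL).Normal] : Cfsg.IsQuasisimple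 ↥K ∧ K = (Cfsg.generalizedFittingSubgroup ↥CL).map CL.subtype ∧ K ≤ CL ∧ (K.subgroupOf CL).index = 2 ∧ d₁ * d₂ ∈ K ∧ Nonempty (↥CL ⧸ (Subgroup.zpowers (d₁ * d₂)).subgroupOf CL ≃* MulAut Cfsg.Spor.Fi22) := by
  classical
  have h := hyp_of_prim hD hprim
  obtain ⟨hi, hn'⟩ := comm24_facts h hprim h24
  obtain ⟨d, W⟩ := local24 h hprim h24
  have hb : d₂ ∈ perp D d₁ := ⟨h₂, hne.symm, hc⟩
  obtain ⟨hq, hcen, ⟨eF⟩⟩ := dpair_data h hprim h24 h₁ hb
  have hKe : K = dpair d₁ d₂ := by rw [hK, hL]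
  subst hKe
  have hmemCL : ∀ g, g ∈ CL ↔ g ∈ commutator G ∧ g * (d₁ * d₂) * g⁻¹ = d₁ * d₂ := by
    intro g; rw [hCL, hL, Subgroup.mem_inf, Subgroup.mem_centralizer_singleton_iff, mul_inv_eq_iff_eq_mul]
  have hle : dpair d₁ d₂ ≤ CL := fun g hg => by
    obtain ⟨gL, g1, g2⟩ := mem_dpair.1 hg
    exact (hmemCL g).2 ⟨gL, mul_inv_eq_iff_eq_mul.2 (g1.mul_right g2).eq⟩
  have mj : d₁ * d₂ ∈ dpair d₁ d₂ := by
    have := Subgroup.mem_zpowers (d₁ * d₂)
    rw [← hcen] at this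
    exact Subgroup.map_subtype_le _ this
  have hswap : ∀ g ∈ CL, (g * d₁ * g⁻¹ = d₁ ∧ g * d₂ * g⁻¹ = d₂) ∨ (g * d₁ * g⁻¹ = d₂ ∧ g * d₂ * g⁻¹ = d₁) := by
    intro g hg
    have t := tuple_pair h h₁ hb
    have r := set_of_prod_eq h W.good.norel (tuple_map (pre_of_hyp h) g t) t (by simp) (by simp) (by
      rw [show ([d₁, d₂].map fun x => g * x * g⁻¹).prod = g * (d₁ * d₂) * g⁻¹ by simp [mul_assoc],
        ((hmemCL g).1 hg).2]
      simp)
    have p1 := (r (g * d₁ * g⁻¹)).1 (by simp)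
    have p2 := (r (g * d₂ * g⁻¹)).1 (by simp)
    simp at p1 p2
    have hne' : g * d₁ * g⁻¹ ≠ g * d₂ * g⁻¹ := fun e => hne ((MulAut.conj g).injective e)
    rcases p1 with e | e <;> rcases p2 with e' | e'
    · exact absurd (e.trans e'.symm) hne'
    · exact Or.inl ⟨e, e'⟩
    · exact Or.inr ⟨e, e'⟩
    · exact absurd (e.trans e'.symm) hne'
  have hin : ∀ g ∈ CL, (g ∈ dpair d₁ d₂ ↔ g * d₁ * g⁻¹ = d₁) := by
    intro g hg
    refine ⟨fun r => mul_inv_eq_iff_eq_mul.2 (mem_dpair.1 r).2.1.eq, fun r => ?_⟩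
    rcases hswap g hg with ⟨e, e'⟩ | ⟨e, -⟩
    · exact mem_dpair.2 ⟨((hmemCL g).1 hg).1, mul_inv_eq_iff_eq_mul.1 e, mul_inv_eq_iff_eq_mul.1 e'⟩
    · exact absurd (r.symm.trans e) hne
  obtain ⟨u, hu, hu1, hu2⟩ : ∃ u, u ∈ CL ∧ u * d₁ * u⁻¹ = d₂ ∧ u * d₂ * u⁻¹ = d₁ := by
    have t' : Tuple D [d₂, d₁] := tuple_pair h h₂ ⟨h₁, hne, hc.symm⟩
    obtain ⟨g, hg⟩ := (tuples24 h W).2.1 [d₁, d₂] [d₂, d₁] rfl rfl (tuple_pair h h₁ hb) t'
    simp at hg
    obtain ⟨g1, g2⟩ := hg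
    have hgj : g * (d₁ * d₂) * g⁻¹ = d₁ * d₂ := by
      rw [show g * (d₁ * d₂) * g⁻¹ = (g * d₁ * g⁻¹) * (g * d₂ * g⁻¹) by group, g1, g2, hc.eq]
    by_cases hgL : g ∈ commutator G
    · exact ⟨g, (hmemCL g).2 ⟨hgL, hgj⟩, g1, g2⟩
    · have c1 : d₁ * d₁ * d₁⁻¹ = d₁ := by group
      have c2 : d₁ * d₂ * d₁⁻¹ = d₂ := mul_inv_eq_iff_eq_mul.2 hc.eq
      have e : ∀ y, g * d₁ * y * (g * d₁)⁻¹ = g * (d₁ * y * d₁⁻¹) * g⁻¹ := fun y => by group
      refine ⟨g * d₁, (hmemCL _).2 ⟨(Subgroup.mul_mem_iff_of_index_two hi).2 (iff_of_false hgL (hn' d₁ h₁)), ?_⟩,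
        by rw [e, c1, g1], by rw [e, c2, g2]⟩
      rw [e, show d₁ * (d₁ * d₂) * d₁⁻¹ = (d₁ * d₁ * d₁⁻¹) * (d₁ * d₂ * d₁⁻¹) by group, c1, c2, hgj]
  set J := (dpair d₁ d₂).subgroupOf CL with hJ
  have hidx : J.index = 2 := by
    rw [Subgroup.index_eq_two_iff]
    refine ⟨⟨u, hu⟩, fun x => ?_⟩
    rw [hJ, Subgroup.mem_subgroupOf, Subgroup.mem_subgroupOf, hin _ x.2, hin _ (x * ⟨u, hu⟩).2]
    have e : ((x * ⟨u, hu⟩ : ↥CL) : G) * d₁ * ((x * ⟨u, hu⟩ : ↥CL) : G)⁻¹ = (x : G) * d₂ * (x : G)⁻¹ := by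
      rw [← hu1]; push_cast; group
    rw [e]
    rcases hswap _ x.2 with ⟨e1, e2⟩ | ⟨e1, e2⟩
    · exact Or.inr ⟨e1, by rw [e2]; exact hne.symm⟩
    · exact Or.inl ⟨e2, by rw [e1]; exact hne.symm⟩
  haveI hJn : J.Normal := Subgroup.normal_of_index_eq_two hidx
  have hJq : Cfsg.IsQuasisimple ↥J := CfsgLib.Coprime.isQuasisimple_congr (Subgroup.subgroupOfEquivOfLe hle).symm hq
  obtain ⟨c, hc1, hc2⟩ : ∃ c, c ∈ perp D d₁ ∧ c ∈ perp D d₂ := by
    obtain ⟨l, hl, hlt⟩ := exists_four h W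
    match l, hl, hlt with
    | [x, y, z, w], _, hlt =>
      have hnd := hlt.1
      simp at hnd
      have hxy : y ∈ perp D x := ⟨(hlt.2.1 y (by simp)).1, Ne.symm hnd.1.1, hlt.2.2 x (by simp) y (by simp)⟩
      obtain ⟨g, hg⟩ := (tuples24 h W).2.1 [x, y] [d₁, d₂] rfl rfl (tuple_pair h (hlt.2.1 x (by simp)).1 hxy)
        (tuple_pair h h₁ hb)
      simp at hg
      obtain ⟨g1, g2⟩ := hg
      have hz := (hlt.2.1 z (by simp)).1
      refine ⟨g * z * g⁻¹, ?_, ?_⟩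
      · rw [← g1]
        exact ⟨h.conj _ _ hz, fun e => hnd.1.2.1 ((MulAut.conj g).injective e).symm,
          (Commute.conj_iff g).2 (hlt.2.2 x (by simp) z (by simp))⟩
      · rw [← g2]
        exact ⟨h.conj _ _ hz, fun e => hnd.2.1.1 ((MulAut.conj g).injective e).symm,
          (Commute.conj_iff g).2 (hlt.2.2 y (by simp) z (by simp))⟩
  have mac : d₁ * c ∈ dpair d₁ d₂ := mem_dpair.2 ⟨pair_mem_comm h hprim h24 h₁ hc1.1,
    (Commute.refl d₁).mul_left hc1.2.2.symm, hc.mul_left hc2.2.2.symm⟩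
  have hJC : Subgroup.centralizer (J : Set ↥CL) ≤ J := by
    intro z hz
    rw [hJ, Subgroup.mem_subgroupOf]
    rcases hswap _ z.2 with ⟨e1, -⟩ | ⟨e1, -⟩
    · exact (hin _ z.2).2 e1
    · exfalso
      have r : d₁ * c * (z : G) = (z : G) * (d₁ * c) :=
        congrArg Subtype.val (Subgroup.mem_centralizer_iff.1 hz ⟨d₁ * c, hle mac⟩ mac)
      have t : Tuple D [d₁, c] := tuple_pair h h₁ hc1
      have s := set_of_prod_eq h W.good.norel (tuple_map (pre_of_hyp h) (z : G) t) t (by simp) (by simp) (by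
        rw [show ([d₁, c].map fun x => (z : G) * x * (z : G)⁻¹).prod = (z : G) * (d₁ * c) * (z : G)⁻¹ by
          simp [mul_assoc], ← r, mul_inv_cancel_right]
        simp)
      have p := (s d₂).1 (by simp [e1])
      simp at p
      rcases p with q | q
      · exact hne q.symm
      · exact hc2.2.1 q.symm
  have hgf : dpair d₁ d₂ = (Cfsg.generalizedFittingSubgroup ↥CL).map CL.subtype := by
    rw [Cfsg.Agent.S5466.gfit_eq J hJq hJC, hJ, Subgroup.map_subgroupOf_eq_of_le hle]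
  refine ⟨hq, hgf, hle, hidx, mj, ?_⟩
  set E' := (Subgroup.zpowers (d₁ * d₂)).subgroupOf CL with hE'
  have hcenK : (Subgroup.zpowers (d₁ * d₂)).subgroupOf (dpair d₁ d₂) = Subgroup.center ↥(dpair d₁ d₂) := by
    rw [← hcen]
    exact Subgroup.comap_map_eq_self_of_injective (Subgroup.subtype_injective _) _
  have hEK : Subgroup.zpowers (d₁ * d₂) ≤ dpair d₁ d₂ := Subgroup.zpowers_le.2 mj
  have hE'J : E' ≤ J := fun z hz => hEK hz
  set σ := Subgroup.subgroupOfEquivOfLe hle with hσ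
  have hE'c : E'.subgroupOf J = Subgroup.center ↥J := by
    rw [← center_map_equiv σ.symm, ← hcenK]
    ext z
    exact (show z ∈ E'.subgroupOf J ↔ σ z ∈ (Subgroup.zpowers (d₁ * d₂)).subgroupOf (dpair d₁ d₂) from Iff.rfl).trans
      ⟨fun r => ⟨σ z, r, σ.symm_apply_apply z⟩, by rintro ⟨k, hk, rfl⟩; simpa using hk⟩
  haveI : (E'.subgroupOf J).Normal := inferInstance
  have eJ : ↥J ⧸ E'.subgroupOf J ≃* Cfsg.Spor.Fi22 :=
    ((QuotientGroup.quotientMulEquivOfEq hE'c).trans (QuotientGroup.congr _ _ σ (center_map_equiv σ))).trans eF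
  obtain ⟨-, hcard22⟩ := CfsgLib.Spor.Fi22.isFi22
  haveI : Finite Cfsg.Spor.Fi22 := Nat.finite_of_card_ne_zero (by rw [hcard22]; norm_num)
  have hcard : 2 * Nat.card Cfsg.Spor.Fi22 = Nat.card (↥CL ⧸ E') := by
    have h1 := Subgroup.relIndex_mul_index hE'J
    rw [Subgroup.relIndex, Subgroup.index_eq_card (E'.subgroupOf J), Nat.card_congr eJ.toEquiv, hidx,
      Subgroup.index_eq_card E'] at h1
    rw [← h1, mul_comm]
  have hCJ : Subgroup.centralizer (J : Set ↥CL) ≤ E' := by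
    intro z hz
    have hzJ := hJC hz
    have : (⟨z, hzJ⟩ : ↥J) ∈ Subgroup.center ↥J := Subgroup.mem_center_iff.2 fun y =>
      Subtype.ext (Subgroup.mem_centralizer_iff.1 hz y y.2)
    rw [← hE'c] at this
    exact this
  exact Cfsg.Agent.S5466.quot_aut J E' hE'J hJq hE'c hCJ eJ (card_aut_fi22_le.trans hcard.le)

end Cfsg.Agent.S5465
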