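import Cfsg.Statements.S5471
import Cfsg.Agent.Lib.Spor.Tri.RelationsTuples

set_option autoImplicit false
open Cfsg

namespace Cfsg.Agent.S5471

open CfsgLib.Spor.Tri CfsgLib.Spor.Tri.Relations

/-- Let G be a finite group with trivial centre generated by a conjugation-invariant set D of 3-transpositions on which it acts primitively, such that for some d in D the subgroup generated by the members of D other than d commuting with d has central largest normal 2- and 3-subgroups, and suppose G with D is of type M(23). Let d₁, d₂, d₃ be distinct pairwise commuting members of D and j their product. Then the joint centralizer of d₁, d₂, d₃ is normal in the centralizer of j with quotient isomorphic to the symmetric group of degree 3. -/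
theorem result {G : Type*} [Group G] [Finite G] {D : Set G} (hD : Cfsg.IsThreeTranspositionGroup D) (hprim : Cfsg.IsPrimitiveUnderConj D) (d₀ : G) (hd₀ : d₀ ∈ D) (h3 : Cfsg.pCore 3 ↥(Subgroup.closure {y : G | y ∈ D ∧ y ≠ d₀ ∧ Commute d₀ y}) ≤ Subgroup.center ↥(Subgroup.closure {y : G | y ∈ D ∧ y ≠ d₀ ∧ Commute d₀ y})) (h2 : Cfsg.pCore 2 ↥(Subgroup.closure {y : G | y ∈ D ∧ y ≠ d₀ ∧ Commute d₀ y}) ≤ Subgroup.center ↥(Subgroup.closure {y : G | y ∈ D ∧ y ≠ d₀ ∧ Commute d₀ y})) (h23 : Cfsg.IsOfTypeM23 G D) (d₁ d₂ d₃ : G) (h₁ : d₁ ∈ D) (h₂ : d₂ ∈ D) (h₃ : d₃ ∈ D) (h12 : d₁ ≠ d₂) (h13 : d₁ ≠ d₃) (h23 : d₂ ≠ d₃) (c12 : Commute d₁ d₂) (c13 : Commute d₁ d₃) (c23 : Commute d₂ d₃) (K C : Subgroup G) (hK : K = Subgroup.centralizer ({d₁, d₂, d₃} : Set G)) (hC : C = Subgroup.centralizer ({d₁ * d₂ * d₃} : Set G)) : K ≤ C ∧ ∃ _ : (K.subgroupOf C).Normal, Nonempty (↥C ⧸ K.subgroupOf C ≃* Equiv.Perm (Fin 3)) := by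
  classical
  subst hK hC
  have hP := Pre.of_group hD
  have hgood := (good_m23 hP ‹Cfsg.IsOfTypeM23 G D›).1
  have htup := (tuples_m23 hP ‹Cfsg.IsOfTypeM23 G D›).2.2
  have hS := hD.1
  have hnz : ∀ a ∈ D, a ∈ nz D := fun a ha => ⟨ha, fun e => by
    have := hS.1 a ha
    rw [e, orderOf_one] at this
    norm_num at this⟩
  have hprod : [d₁, d₂, d₃].prod = d₁ * d₂ * d₃ := by simp [mul_assoc]
  have hnd : [d₁, d₂, d₃].Nodup := by simp [h12, h13, h23]
  have hmem : ∀ a ∈ [d₁, d₂, d₃], a ∈ D := by simp [h₁, h₂, h₃]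
  have hcomm : ∀ a ∈ [d₁, d₂, d₃], ∀ b ∈ [d₁, d₂, d₃], Commute a b := by
    simp [c12, c13, c23, c12.symm, c13.symm, c23.symm]
  refine ⟨fun g hg => Subgroup.mem_centralizer_singleton_iff.2 ?_, ?_⟩
  · have a1 : Commute g d₁ := (Subgroup.mem_centralizer_iff.1 hg d₁ (by simp)).symm
    have a2 : Commute g d₂ := (Subgroup.mem_centralizer_iff.1 hg d₂ (by simp)).symm
    have a3 : Commute g d₃ := (Subgroup.mem_centralizer_iff.1 hg d₃ (by simp)).symm
    exact ((a1.mul_right a2).mul_right a3).eq
  set C := Subgroup.centralizer ({d₁ * d₂ * d₃} : Set G)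
  set f : Fin 3 → G := ![d₁, d₂, d₃] with hf
  have hfmem : ∀ i, f i ∈ [d₁, d₂, d₃] := fun i => by fin_cases i <;> simp [hf]
  have hfsurj : ∀ x ∈ [d₁, d₂, d₃], ∃ i, f i = x := fun x hx => by
    simp at hx
    rcases hx with rfl | rfl | rfl
    · exact ⟨0, rfl⟩
    · exact ⟨1, rfl⟩
    · exact ⟨2, rfl⟩
  have hfinj : Function.Injective f := by
    intro i j e
    fin_cases i <;> fin_cases j <;> simp [hf, h12, h13, h23, h12.symm, h13.symm, h23.symm] at e ⊢
  -- the centraliser of the product permutes the three factors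
  have hperm : ∀ g : ↥C, ∀ i, ∃ j, f j = (g : G) * f i * (g : G)⁻¹ := by
    intro g i
    set l' := [d₁, d₂, d₃].map (fun x => (g : G) * x * (g : G)⁻¹) with hl'
    have hprod' : l'.prod = d₁ * d₂ * d₃ := by
      rw [hl', show (fun x => (g : G) * x * (g : G)⁻¹) = ⇑(MulAut.conj (g : G)).toMonoidHom from rfl,
        ← map_list_prod, hprod]
      show (g : G) * (d₁ * d₂ * d₃) * (g : G)⁻¹ = _
      rw [(Subgroup.mem_centralizer_singleton_iff.1 g.2), mul_inv_cancel_right]
    have ht' := tuple_map hP (g : G) (l := [d₁, d₂, d₃]) ⟨hnd, fun a ha => hnz a (hmem a ha), hcomm⟩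
    have hcross : ∀ a ∈ l', Commute a d₁ ∧ Commute a d₂ ∧ Commute a d₃ := fun a ha => by
      have hj : Commute a (d₁ * d₂ * d₃) :=
        hprod' ▸ Commute.list_prod_right _ _ fun y hy => ht'.2.2 a ha y hy
      exact (commute_mul_mul_iff hS h₁ h₂ h₃ (ht'.2.1 a ha).1 h12 h13 h23 c12 c13 c23).1 hj
    have heq := eq_of_prod_eq hP hgood.norel [d₁, d₂, d₃] l' hnd ht'.1
      (fun a ha => (List.mem_append.1 ha).elim (fun r => hnz a (hmem a r)) (ht'.2.1 a)) (fun a ha b hb => ?_)
      (hprod.trans hprod'.symm) (by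
        have a1 := List.length_filter_le (fun a => decide (a ∉ l')) [d₁, d₂, d₃]
        have a2 := List.length_filter_le (fun a => decide (a ∉ [d₁, d₂, d₃])) l'
        have : l'.length = 3 := by simp [hl']
        simp only [List.length_cons, List.length_nil] at a1
        omega)
    · exact hfsurj _ ((heq _).2 (List.mem_map_of_mem (hfmem i)))
    · have key : ∀ u ∈ l', ∀ v ∈ [d₁, d₂, d₃], Commute u v := fun u hu v hv => by
        obtain ⟨r1, r2, r3⟩ := hcross u hu
        simp at hv
        rcases hv with rfl | rfl | rfl <;> assumption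
      rcases List.mem_append.1 ha with ha | ha <;> rcases List.mem_append.1 hb with hb | hb
      · exact hcomm a ha b hb
      · exact (key b hb a ha).symm
      · exact key a ha b hb
      · exact ht'.2.2 a ha b hb
  choose π hπ using hperm
  have hπinj : ∀ g : ↥C, Function.Injective (π g) := fun g i j e => by
    apply hfinj
    have := congrArg f e
    rw [hπ, hπ] at this
    simpa using this
  let φ : ↥C →* Equiv.Perm (Fin 3) :=
    { toFun := fun g => Equiv.ofBijective (π g) (Finite.injective_iff_bijective.1 (hπinj g))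
      map_one' := Equiv.ext fun i => hfinj (by
        show f (π 1 i) = f i
        rw [hπ]; simp)
      map_mul' := fun g g' => Equiv.ext fun i => hfinj (by
        show f (π (g * g') i) = f (π g (π g' i))
        rw [hπ, hπ, hπ]
        push_cast
        group) }
  have hker : (Subgroup.centralizer ({d₁, d₂, d₃} : Set G)).subgroupOf C = φ.ker := by
    ext g
    rw [Subgroup.mem_subgroupOf, MonoidHom.mem_ker, Subgroup.mem_centralizer_iff]
    constructor
    · intro hg
      refine Equiv.ext fun i => hfinj ?_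
      show f (π g i) = f i
      rw [hπ]
      have : f i * (g : G) = (g : G) * f i := hg _ (by fin_cases i <;> simp [hf])
      rw [← this, mul_inv_cancel_right]
    · intro hg x hx
      obtain ⟨i, rfl⟩ : ∃ i, f i = x := hfsurj x (by simpa using hx)
      have e := congrArg (fun s : Equiv.Perm (Fin 3) => f (s i)) hg
      have e' : f (π g i) = f i := e
      rw [hπ] at e'
      calc f i * (g : G) = ((g : G) * f i * (g : G)⁻¹) * g := by rw [e']
        _ = (g : G) * f i := by group
  have hsurj : Function.Surjective φ := by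
    intro σ
    obtain ⟨g, hg⟩ := htup [d₁, d₂, d₃] [f (σ 0), f (σ 1), f (σ 2)] rfl rfl
      ⟨hnd, fun a ha => hnz a (hmem a ha), hcomm⟩
      ⟨by simp [hfinj.eq_iff], fun a ha => by
          simp at ha
          rcases ha with rfl | rfl | rfl <;> exact hnz _ (hmem _ (hfmem _)),
        fun a ha b hb => by
          simp at ha hb
          rcases ha with rfl | rfl | rfl <;> rcases hb with rfl | rfl | rfl <;>
            exact hcomm _ (hfmem _) _ (hfmem _)⟩
    simp only [List.map_cons, List.map_nil, List.cons.injEq, and_true] at hg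
    obtain ⟨e1, e2, e3⟩ := hg
    have hval : ∀ i, g * f i * g⁻¹ = f (σ i) := fun i => by fin_cases i <;> assumption
    have hgC : g ∈ C := by
      rw [Subgroup.mem_centralizer_singleton_iff]
      have hp : [d₁, d₂, d₃].Perm [f (σ 0), f (σ 1), f (σ 2)] := by
        refine (List.perm_ext_iff_of_nodup hnd (by simp [hfinj.eq_iff])).2 fun x => ?_
        constructor
        · intro hx
          obtain ⟨i, rfl⟩ := hfsurj x hx
          obtain ⟨k, rfl⟩ := σ.surjective i
          fin_cases k <;> simp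
        · intro hx
          simp at hx
          rcases hx with rfl | rfl | rfl <;> exact hfmem _
      have e := hp.prod_eq' (List.pairwise_of_forall_mem_list hcomm)
      simp only [List.prod_cons, List.prod_nil, mul_one] at e
      have e' : g * (d₁ * d₂ * d₃) * g⁻¹ = d₁ * d₂ * d₃ := by
        calc g * (d₁ * d₂ * d₃) * g⁻¹ = (g * d₁ * g⁻¹) * ((g * d₂ * g⁻¹) * (g * d₃ * g⁻¹)) := by group
          _ = f (σ 0) * (f (σ 1) * f (σ 2)) := by rw [e1, e2, e3]
          _ = d₁ * d₂ * d₃ := by rw [← e, mul_assoc]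
      exact mul_inv_eq_iff_eq_mul.1 e'
    refine ⟨⟨g, hgC⟩, Equiv.ext fun i => hfinj ?_⟩
    show f (π ⟨g, hgC⟩ i) = f (σ i)
    rw [hπ, ← hval i]
  haveI hN : ((Subgroup.centralizer ({d₁, d₂, d₃} : Set G)).subgroupOf C).Normal := by rw [hker]; infer_instance
  exact ⟨hN,
    ⟨(QuotientGroup.quotientMulEquivOfEq hker).trans (QuotientGroup.quotientKerEquivOfSurjective φ hsurj)⟩⟩

end Cfsg.Agent.S5471
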