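import Cfsg.Statements.S5474
import Cfsg.Agent.Lib.Spor.Tri.LevelFour
-- import your own Cfsg.Agent.* helpers here

set_option autoImplicit false
open Cfsg

namespace Cfsg.Agent.S5474

open CfsgLib.Spor.Tri CfsgLib.Spor.Tri.Relations CfsgLib.Spor.Tri.Level

/-- Two quadruples whose products multiply to order six. -/
theorem exists_pair_quads {G : Type*} [Group G] [Finite G] {D : Set G} (h : Hyp D) {d : G} (W : Loc24 D d) :
    ∃ a p c r f : G, Tuple D [a, p, d, f] ∧ Tuple D [c, r, d, f] ∧ ¬ Commute a c ∧ p ≠ r ∧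
      Commute a r ∧ Commute c p ∧ Commute p r := by
  obtain ⟨E, W'⟩ := local23 W.ihyp W.iprim W.type
  obtain ⟨f, hf, rfl⟩ := exists_bar W'.mem
  obtain ⟨L, -⟩ := lev22 W'.ihyp W'.iprim W'.type
  obtain ⟨-, hw⟩ := card22 W'.ihyp W'.iprim W'.type
  obtain ⟨P, hP, -⟩ := L.prim.2.1
  obtain ⟨R, hR⟩ : (perp (img (img D d) (bar hf)) P).Nonempty :=
    (Set.ncard_pos (Set.toFinite _)).1 (by rw [L.deg P hP]; norm_num)
  obtain ⟨A, C, hA, hC, hAC⟩ := UniqueClass.exists_quad L hw (by norm_num) hP hR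
  obtain ⟨A1, hA1, rfl⟩ := exists_bar hA.1.1
  obtain ⟨C1, hC1, rfl⟩ := exists_bar hC.1.1
  obtain ⟨P1, hP1, rfl⟩ := exists_bar hP
  obtain ⟨R1, hR1, rfl⟩ := exists_bar hR.1
  obtain ⟨a, ha, rfl⟩ := exists_bar hA1.1
  obtain ⟨c, hc, rfl⟩ := exists_bar hC1.1
  obtain ⟨p, hp, rfl⟩ := exists_bar hP1.1
  obtain ⟨r, hr, rfl⟩ := exists_bar hR1.1
  have fa := (bar_perp h W.nc ha hf).1 hA1
  have fc := (bar_perp h W.nc hc hf).1 hC1
  have fp := (bar_perp h W.nc hp hf).1 hP1
  have fr := (bar_perp h W.nc hr hf).1 hR1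
  have pa := (bar_perp h W.nc ha hp).1 ((bar_perp W.ihyp W'.nc hA1 hP1).1 hA.1)
  have pc := (bar_perp h W.nc hc hp).1 ((bar_perp W.ihyp W'.nc hC1 hP1).1 hC.1)
  have ra := (bar_perp h W.nc ha hr).1 ((bar_perp W.ihyp W'.nc hA1 hR1).1 hA.2)
  have rc := (bar_perp h W.nc hc hr).1 ((bar_perp W.ihyp W'.nc hC1 hR1).1 hC.2)
  have pr := (bar_perp h W.nc hr hp).1 ((bar_perp W.ihyp W'.nc hR1 hP1).1 hR)
  have tup : ∀ {x y : G}, x ∈ perp D d → y ∈ perp D d → x ∈ perp D f → y ∈ perp D f → x ∈ perp D y →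
      Tuple D [x, y, d, f] := by
    intro x y xd yd xf yf xy
    exact ⟨by simp [xy.2.1, xd.2.1, xf.2.1, yd.2.1, yf.2.1, hf.2.1.symm],
      by simp [nz, xd.1, yd.1, W.mem, hf.1, h.ne_one xd.1, h.ne_one yd.1, h.ne_one W.mem, h.ne_one hf.1],
      by simp [xy.2.2, xy.2.2.symm, xd.2.2, xd.2.2.symm, xf.2.2, xf.2.2.symm, yd.2.2, yd.2.2.symm, yf.2.2,
        yf.2.2.symm, hf.2.2, hf.2.2.symm]⟩
  exact ⟨a, p, c, r, f, tup ha hp fa fp pa, tup hc hr fc fr rc,
    fun e => hAC ((bar_commute W.ihyp hA1 hC1).2 ((bar_commute h ha hc).2 e)), pr.2.1.symm, ra.2.2.symm,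
    pc.2.2.symm, pr.2.2⟩

/-- Let G be a finite group with trivial centre generated by a conjugation-invariant set D of 3-transpositions on which it acts primitively, such that for some d in D the subgroup generated by the members of D other than d commuting with d has central largest normal 2- and 3-subgroups, and suppose G with D is of type M(24). Then D is the only conjugacy class of 3-transpositions generating G. -/
theorem result {G : Type*} [Group G] [Finite G] {D : Set G} (hD : Cfsg.IsThreeTranspositionGroup D) (hprim : Cfsg.IsPrimitiveUnderConj D) (d₀ : G) (hd₀ : d₀ ∈ D) (h3 : Cfsg.pCore 3 ↥(Subgroup.closure {y : G | y ∈ D ∧ y ≠ d₀ ∧ Commute d₀ y}) ≤ Subgroup.center ↥(Subgroup.closure {y : G | y ∈ D ∧ y ≠ d₀ ∧ Commute d₀ y})) (h2 : Cfsg.pCore 2 ↥(Subgroup.closure {y : G | y ∈ D ∧ y ≠ d₀ ∧ Commute d₀ y}) ≤ Subgroup.center ↥(Subgroup.closure {y : G | y ∈ D ∧ y ≠ d₀ ∧ Commute d₀ y})) (h24 : Cfsg.IsOfTypeM24 G D) (D' : Set G) (hD' : Cfsg.IsThreeTranspositionClass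 D') : D' = D := by
  classical
  have h := hyp_of_prim hD hprim
  have hP := pre_of_hyp h
  obtain ⟨e, W⟩ := local24 h hprim h24
  obtain ⟨L, -⟩ := lev24 h hprim h24
  obtain ⟨-, hw⟩ := card24 h hprim h24
  obtain ⟨Le, -⟩ := lev23 W.ihyp W.iprim W.type
  obtain ⟨-, hwe⟩ := card23 W.ihyp W.iprim W.type
  obtain ⟨hord, ⟨d', hd', hcls⟩, -⟩ := id hD'
  obtain ⟨q, ht, h1, h4, hprod⟩ := decomp24 h hprim h24 d'
    (by rw [← pow_two, ← hord.1 d' hd']; exact pow_orderOf_eq_one d')
    (fun r => by have := hord.1 d' hd'; rw [r, orderOf_one] at this; norm_num at this)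
  obtain ⟨hnd, hmem, hcomm⟩ := id ht
  match q, hnd, hmem, hcomm, hprod, h1, h4, ht with
  | [a], _, hmem, _, hprod, _, _, _ =>
    simp only [List.prod_cons, List.prod_nil, mul_one] at hprod
    subst hprod
    have ha := (hmem a (List.mem_cons_self ..)).1
    rw [hcls]
    ext x
    exact ⟨fun (r : IsConj a x) => by obtain ⟨g, rfl⟩ := isConj_iff.1 r; exact h.conj g a ha,
      fun r => isConj_iff.2 (h.transitive a ha x r)⟩
  | [a, b], hnd, hmem, hcomm, hprod, _, _, _ =>
    simp only [List.prod_cons, List.prod_nil, mul_one] at hprod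
    simp at hnd
    exact (UniqueClass.not_two L hw (by norm_num) hD' (hmem a (by simp)).1
      ⟨(hmem b (by simp)).1, Ne.symm hnd, hcomm a (by simp) b (by simp)⟩ (hprod ▸ hd')).elim
  | [a, b, c], hnd, hmem, hcomm, hprod, _, _, _ =>
    simp only [List.prod_cons, List.prod_nil, mul_one] at hprod
    simp at hnd
    obtain ⟨g, hg⟩ := h.transitive c (hmem c (by simp)).1 e W.mem
    subst hg
    refine (UniqueClass.not_three h W.nc W.mem Le hwe (by norm_num) hD' (p := g * a * g⁻¹) (q := g * b * g⁻¹)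
      ⟨h.conj g a (hmem a (by simp)).1, fun r => hnd.1.2 (by simpa using r),
        (Commute.conj_iff g).2 (hcomm c (by simp) a (by simp))⟩
      ⟨h.conj g b (hmem b (by simp)).1, fun r => hnd.2 (by simpa using r),
        (Commute.conj_iff g).2 (hcomm c (by simp) b (by simp))⟩
      ⟨h.conj g b (hmem b (by simp)).1, fun r => hnd.1.1 (by simpa using r.symm),
        (Commute.conj_iff g).2 (hcomm a (by simp) b (by simp))⟩ ?_).elim
    rw [hcls] at hd' ⊢
    refine IsConj.trans (hd' : IsConj d' d') (isConj_iff.2 ⟨g, ?_⟩)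
    rw [← hprod]
    group
  | [a₀, b₀, c₀, e₀], _, _, _, hprod, _, _, ht =>
    exfalso
    obtain ⟨-, -, -, t4⟩ := tuples24 h W
    obtain ⟨a, p, c, r, f, T1, T2, hac, hpr, car, ccp, cpr⟩ := exists_pair_quads h W
    have key : ∀ {l : List G}, l.length = 4 → Tuple D l → l.prod ∈ D' := by
      intro l hl hT
      obtain ⟨g, hg⟩ := t4 [a₀, b₀, c₀, e₀] l rfl hl ht hT
      rw [hcls]
      refine isConj_iff.2 ⟨g, ?_⟩
      rw [← hprod, ← hg]
      exact map_list_prod (MulAut.conj g).toMonoidHom _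
    have m1 := key (l := [a, p, e, f]) rfl T1
    have m2 := key (l := [c, r, e, f]) rfl T2
    have cc : ∀ {l : List G}, Tuple D l → ∀ x ∈ l, ∀ y ∈ l, Commute x y := fun hT => hT.2.2
    have ee := h.mul_self W.mem
    have ff := h.mul_self (T1.2.1 f (by simp)).1
    have hef : Commute e f := cc T1 e (by simp) f (by simp)
    have hz : [a, p, e, f].prod * [c, r, e, f].prod = a * p * (c * r) := by
      have hcom : Commute (e * f) (c * r) :=
        ((cc T2 e (by simp) c (by simp)).mul_right (cc T2 e (by simp) r (by simp))).mul_left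
          ((cc T2 f (by simp) c (by simp)).mul_right (cc T2 f (by simp) r (by simp)))
      simp only [List.prod_cons, List.prod_nil, mul_one]
      calc a * (p * (e * f)) * (c * (r * (e * f))) = a * p * ((e * f) * (c * r)) * (e * f) := by group
        _ = a * p * (c * r) * (e * (f * e) * f) := by rw [hcom.eq]; group
        _ = a * p * (c * r) := by rw [← hef.eq, ← mul_assoc e e f, ee, one_mul, ff, mul_one]
    have haD := (T1.2.1 a (by simp)).1
    have hcD := (T2.2.1 c (by simp)).1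
    have h3 : (a * c) ^ 3 = 1 := (h.set.2 a haD c hcD).resolve_left fun w =>
      hac ((Relations.Pre.commute_iff_sq hP haD hcD).2 w)
    rcases UniqueClass.quad_order (h.mul_self haD) (h.mul_self (T1.2.1 p (by simp)).1) (h.mul_self hcD)
        (h.mul_self (T2.2.1 r (by simp)).1) hpr hac (cc T1 a (by simp) p (by simp)) ccp car
        (cc T2 c (by simp) r (by simp)) cpr hz with ⟨r2, r3⟩ | w
    · rcases hord.2 _ m1 _ m2 with w | w
      · exact r2 w
      · exact r3 w
    · exact w h3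
  | _ :: _ :: _ :: _ :: _ :: _, _, _, _, _, _, h4, _ => simp at h4; omega
  | [], _, _, _, _, h1, _, _ => simp at h1

end Cfsg.Agent.S5474
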