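import Cfsg.Statements.S5517
import Cfsg.Agent.Lib.Spor.Tri.M22Iso
import Cfsg.Agent.Lib.Spor.Fi22.O7.Iso
-- import your own Cfsg.Agent.* helpers here

set_option autoImplicit false
open Cfsg

namespace Cfsg.Agent.S5517

/-- Let G be a finite group with trivial centre generated by a conjugation-invariant set D of 3-transpositions on which it acts primitively, such that for some d in D the subgroup generated by the members of D other than d commuting with d has central largest normal 2- and 3-subgroups, and suppose G with D is of type M(22). Then G has a subgroup L generated by the members of D it contains and isomorphic to Ω(7, 3) (the commutator subgroup of the isometry group of a non-degenerate 7-dimensional quadratic form over the field with three elements, modulo its centre), and every Sylow 3-subgroup of L is a Sylow 3-subgroup of G. -/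
theorem result {G : Type*} [Group G] [Finite G] {D : Set G} (hD : Cfsg.IsThreeTranspositionGroup D) (hprim : Cfsg.IsPrimitiveUnderConj D) (d₀ : G) (hd₀ : d₀ ∈ D) (h3 : Cfsg.pCore 3 ↥(Subgroup.closure {y : G | y ∈ D ∧ y ≠ d₀ ∧ Commute d₀ y}) ≤ Subgroup.center ↥(Subgroup.closure {y : G | y ∈ D ∧ y ≠ d₀ ∧ Commute d₀ y})) (h2 : Cfsg.pCore 2 ↥(Subgroup.closure {y : G | y ∈ D ∧ y ≠ d₀ ∧ Commute d₀ y}) ≤ Subgroup.center ↥(Subgroup.closure {y : G | y ∈ D ∧ y ≠ d₀ ∧ Commute d₀ y})) (h22 : Cfsg.IsOfTypeM22 G D) : ∃ L : Subgroup G, Cfsg.IsDSubgroup D L ∧ Nonempty (↥L ≃* Cfsg.POmega (ZMod 3) (Cfsg.quadFormOdd 3 (ZMod 3))) ∧ ∀ P : Sylow 3 ↥L, ∃ P' : Sylow 3 G, (P : Subgroup ↥L).map L.subtype = (P' : Subgroup G) := by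
  open CfsgLib.Spor.Tri in
  classical
  obtain ⟨e, he⟩ := Y332.exists_equiv_fi22 (Level.hyp_of_prim hD hprim) hprim h22
  obtain ⟨ψ⟩ := CfsgLib.Spor.Fi22.O7.iso_bcdefghi
  set K := (Subgroup.closure ({Cfsg.Spor.Fi22.b, Cfsg.Spor.Fi22.c, Cfsg.Spor.Fi22.d, Cfsg.Spor.Fi22.e,
    Cfsg.Spor.Fi22.f, Cfsg.Spor.Fi22.g, Cfsg.Spor.Fi22.h, Cfsg.Spor.Fi22.i} :
      Set (FreeGroup Cfsg.Spor.Fi22.Gen))).map (PresentedGroup.mk (Cfsg.Spor.coxRelators Cfsg.Spor.Fi22.edges ∪
      {r | r ∈ Cfsg.Spor.Fi22.extra})) with hK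
  set L := K.map e.toMonoidHom with hL
  let ι : ↥K ≃* ↥L := K.equivMapOfInjective _ e.injective
  have hcL : Nat.card ↥L = 4585351680 :=
    (Nat.card_congr (ι.symm.trans ψ).toEquiv).trans CfsgLib.Spor.Fi22.O7.card_pomega
  have hcG : Nat.card G = 64561751654400 :=
    (Nat.card_congr e.toEquiv).symm.trans CfsgLib.Spor.Fi22.isFi22.2
  refine ⟨L, le_antisymm ((Subgroup.closure_le _).2 fun x hx => hx.2) ?_, ⟨ι.symm.trans ψ⟩, fun P => ?_⟩
  · rw [hL, hK, MonoidHom.map_closure, MonoidHom.map_closure, Subgroup.closure_le]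
    rintro y ⟨x, ⟨w, hw, rfl⟩, rfl⟩
    refine Subgroup.subset_closure ⟨?_, ?_⟩
    · simp only [Set.mem_insert_iff, Set.mem_singleton_iff] at hw
      rcases hw with rfl | rfl | rfl | rfl | rfl | rfl | rfl | rfl <;> exact he _
    · exact Subgroup.subset_closure ⟨_, ⟨w, hw, rfl⟩, rfl⟩
  · haveI : Fact (Nat.Prime 3) := ⟨by norm_num⟩
    have f1 : (4585351680 : ℕ).factorization 3 = 9 := by
      rw [show (4585351680 : ℕ) = 3 ^ 9 * 232960 by norm_num]
      rw [Nat.factorization_mul (by norm_num) (by norm_num), Finsupp.add_apply,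
        Nat.Prime.factorization_pow (by norm_num), Finsupp.single_eq_same,
        Nat.factorization_eq_zero_of_not_dvd (by norm_num)]
    have f2 : (64561751654400 : ℕ).factorization 3 = 9 := by
      rw [show (64561751654400 : ℕ) = 3 ^ 9 * 3280076800 by norm_num]
      rw [Nat.factorization_mul (by norm_num) (by norm_num), Finsupp.add_apply,
        Nat.Prime.factorization_pow (by norm_num), Finsupp.single_eq_same,
        Nat.factorization_eq_zero_of_not_dvd (by norm_num)]
    have hc : Nat.card ↥((P : Subgroup ↥L).map L.subtype) = 3 ^ (Nat.card G).factorization 3 := by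
      rw [hcG, f2, Subgroup.card_map_of_injective L.subtype_injective, P.card_eq_multiplicity, hcL, f1]
    exact ⟨Sylow.ofCard _ hc, rfl⟩

end Cfsg.Agent.S5517
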