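import Cfsg.Statements.S5519
import Cfsg.Agent.Lib.Spor.Tri.PairStructure
import Cfsg.Agent.Lib.Spor.Tri.MinusSixAut
import Cfsg.Agent.Lib.Spor.CoTwoInv.Transfer
-- import your own Cfsg.Agent.* helpers here

set_option autoImplicit false
open Cfsg

namespace Cfsg.Agent.S5519

/-- Let G be a finite group with trivial centre generated by a conjugation-invariant set D of 3-transpositions on which it acts primitively, such that for some d in D the subgroup generated by the members of D other than d commuting with d has central largest normal 2- and 3-subgroups, and suppose G with D is of type M(22). Let d₁, d₂ be distinct commuting members of D and C the centralizer of their product. Then the generalized Fitting subgroup of C is the direct product of a group of order 2 and an extraspecial 2-group of order 2^9, and C modulo it is isomorphic to the full isometry group of the elliptic quadratic form in dimension 6 over the field with two elements. -/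
theorem result {G : Type*} [Group G] [Finite G] {D : Set G} (hD : Cfsg.IsThreeTranspositionGroup D) (hprim : Cfsg.IsPrimitiveUnderConj D) (d₀ : G) (hd₀ : d₀ ∈ D) (h3 : Cfsg.pCore 3 ↥(Subgroup.closure {y : G | y ∈ D ∧ y ≠ d₀ ∧ Commute d₀ y}) ≤ Subgroup.center ↥(Subgroup.closure {y : G | y ∈ D ∧ y ≠ d₀ ∧ Commute d₀ y})) (h2 : Cfsg.pCore 2 ↥(Subgroup.closure {y : G | y ∈ D ∧ y ≠ d₀ ∧ Commute d₀ y}) ≤ Subgroup.center ↥(Subgroup.closure {y : G | y ∈ D ∧ y ≠ d₀ ∧ Commute d₀ y})) (h22 : Cfsg.IsOfTypeM22 G D) (d₁ d₂ : G) (h₁ : d₁ ∈ D) (h₂ : d₂ ∈ D) (hne : d₁ ≠ d₂) (hc : Commute d₁ d₂) (C : Subgroup G) (hC : C = Subgroup.centralizer ({d₁ * d₂} : Set G)) [hn : (Cfsg.generalizedFittingSubgroup ↥C).Normal] : (∃ (E : Type) (_ : Group E) (_ : Finite E), Cfsg.IsExtraspecial 2 E ∧ Nat.card E = 2 ^ 9 ∧ Nonempty (↥(Cfsg.generalizedFittingSubgroup ↥C) ≃* Multiplicative (ZMod 2) × E)) ∧ Nonempty (↥C ⧸ Cfsg.generalizedFittingSubgroup ↥C ≃* Cfsg.isometryGroup (ZMod 2)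 (Cfsg.quadFormMinus 2 (ZMod 2) 1 1)) := by
  have h := CfsgLib.Spor.Tri.Level.hyp_of_prim hD hprim
  subst hC
  obtain ⟨-, -, E, -, -, -, -, -, hFit, ⟨M, hext, hMc, ⟨e⟩⟩, hn', F, _, _, hF, ⟨φ⟩⟩ :=
    CfsgLib.Spor.Tri.Level.pair_structure h hprim h22 h₁ (b := d₂) ⟨h₂, hne.symm, hc⟩
  obtain ⟨ψ⟩ := CfsgLib.Spor.Tri.Level.minus_six_aut (F := F) hF
  obtain ⟨M', _, _, ⟨g⟩⟩ : ∃ (M' : Type) (_ : Group M') (_ : Finite M'), Nonempty (↥M ≃* M') := by
    refine ⟨Shrink.{0} ↥M, inferInstance, inferInstance, ⟨Shrink.mulEquiv.symm⟩⟩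
  refine ⟨⟨M', inferInstance, inferInstance, CfsgLib.Spor.CoTwoInv.isExtraspecial_of_equiv g hext,
    (Nat.card_congr g.toEquiv).symm.trans hMc, ⟨(MulEquiv.subgroupCongr hFit).trans
      (e.trans (MulEquiv.prodCongr (MulEquiv.refl _) g))⟩⟩,
    ⟨(QuotientGroup.quotientMulEquivOfEq hFit).trans (φ.trans ψ.symm)⟩⟩

end Cfsg.Agent.S5519
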