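import Cfsg.Statements.S5522
import Cfsg.Agent.Lib.Spor.M11Elusive

set_option autoImplicit false
open Cfsg

namespace Cfsg.Agent.S5522

/-- The Mathieu group M₁₁, realised as the stabiliser of one point of the dodecad of squares inside the stabiliser M₁₂ of that dodecad in M₂₄, acts on the twelve coordinate positions outside the dodecad of squares (its 3-transitive action of degree 12); in this action every element of prime order fixes a point, i.e. the action is elusive. -/
theorem result (g : Equiv.Perm Cfsg.GolayPt) (hg : g ∈ Cfsg.Spor.M11) (hord : (orderOf g).Prime) :
    ∃ x : Cfsg.GolayPt, x ∉ Cfsg.Spor.squareDodecad ∧ g x = x := by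
  exact CfsgLib.Spor.m11_elusive hg hord

end Cfsg.Agent.S5522
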