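import Cfsg.Statements.S5558
import Cfsg.Agent.Lib.Coprime.Component
import Cfsg.Agent.Lib.ThreeTransp.ModuleClass

set_option autoImplicit false
open Cfsg

namespace Cfsg.Agent.S5558

open CfsgLib.ThreeTranspModule

variable {G : Type*} [Group G]

/-- The commutative group structure on `O₂(G)`. -/
abbrev vComm (V : Subgroup G) (hV : Cfsg.IsElementaryAbelian 2 V) : AddCommGroup (Additive V) :=
  letI : CommGroup V := { (inferInstance : Group V) with mul_comm := hV.1.is_comm.comm }
  Additive.addCommGroup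

theorem mem_co {a b : G} : b ∈ conjugatesOf a ↔ IsConj a b := Iff.rfl

/-- Uniqueness of the class, with the module as data. -/
theorem unique {Q M : Type*} [Group Q] [Finite Q] [AddCommGroup M] [DistribMulAction Q M]
    [FaithfulSMul Q M] (mk : G →* Q) (hmk : Function.Surjective mk)
    (ι : M → G) (hι : Function.Injective ι) (hadd : ∀ a b, ι (a + b) = ι a * ι b)
    (hker : ∀ g : G, mk g = 1 ↔ ∃ m, ι m = g)
    (hact : ∀ (g : G) (m : M), ι (mk g • m) = g * ι m * g⁻¹)
    (hO : ∀ N : Subgroup Q, N.Normal → IsPGroup 2 N → N = ⊥)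
    (h2 : ∀ m : M, m + m = 0) (hcomm : ∀ a b, Commute (ι a) (ι b))
    {D : Set G} (hD : Cfsg.IsThreeTranspositionClass D) (hZ : Subgroup.center G = ⊥)
    {E : Set G} (hE : Cfsg.IsThreeTranspositionClass E) : E = D := by
  classical
  have hι0 : ι 0 = 1 := by
    have := hadd 0 0
    rw [add_zero] at this
    exact left_eq_mul.1 this
  have hι2 : ∀ m, ι m * ι m = 1 := fun m => by rw [← hadd, h2, hι0]
  have hmkι : ∀ m, mk (ι m) = 1 := fun m => (hker _).2 ⟨m, rfl⟩
  have hinv : ∀ {C : Set G}, Cfsg.IsThreeTranspositionClass C → ∀ d ∈ C, d * d = 1 := by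
    intro C hC d hd
    have := pow_orderOf_eq_one d
    rwa [hC.1.1 d hd, sq] at this
  have hinv' : ∀ {C : Set G}, Cfsg.IsThreeTranspositionClass C → ∀ d ∈ C, d⁻¹ = d := fun hC d hd =>
    inv_eq_of_mul_eq_one_right (hinv hC d hd)
  have hcl : ∀ {C : Set G}, Cfsg.IsThreeTranspositionClass C → ∀ g : G, ∀ d ∈ C,
      g * d * g⁻¹ ∈ C := by
    intro C hC g d hd
    obtain ⟨d0, -, hC0⟩ := hC.2.1
    rw [hC0] at hd ⊢
    exact mem_co.2 ((mem_co.1 hd).trans (isConj_iff.2 ⟨g, rfl⟩))
  -- translates by commutators stay in the class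
  have htrans : ∀ {C : Set G}, Cfsg.IsThreeTranspositionClass C → ∀ d ∈ C, ∀ v : M,
      d * ι (br (mk d) v) ∈ C := by
    intro C hC d hd v
    have : d * ι (br (mk d) v) = ι v * d * (ι v)⁻¹ := by
      rw [br, add_comm, hadd, hact, hinv' hC d hd, inv_eq_of_mul_eq_one_right (hι2 v),
        show d * (d * ι v * d * ι v) = (d * d) * (ι v * d * ι v) by group, hinv hC d hd, one_mul]
    rw [this]; exact hcl hC _ d hd
  -- `mk` images
  have hsqcube : ∀ {a : Q}, a ^ 2 = 1 → a ^ 3 = 1 → a = 1 := fun {a} h h' => by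
    rwa [pow_succ, h, one_mul] at h'
  have hqcomm : ∀ {a b : Q}, a * a = 1 → b * b = 1 → ((a * b) ^ 2 = 1 ↔ Commute a b) := by
    intro a b ha hb
    constructor
    · intro h
      show a * b = b * a
      calc a * b = (a * b)⁻¹ := (inv_eq_of_mul_eq_one_right (by rw [← sq, h])).symm
        _ = b * a := by rw [mul_inv_rev, inv_eq_of_mul_eq_one_right ha,
            inv_eq_of_mul_eq_one_right hb]
    · intro h
      rw [h.mul_pow, sq, sq, ha, hb, one_mul]
  have hmkinv : ∀ {C : Set G}, Cfsg.IsThreeTranspositionClass C → ∀ d ∈ C, mk d * mk d = 1 :=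
    fun hC d hd => by rw [← map_mul, hinv hC d hd, map_one]
  -- distinct commuting images come from commuting elements
  have hlift : ∀ {C : Set G}, Cfsg.IsThreeTranspositionClass C → ∀ d ∈ C, ∀ e ∈ C,
      Commute (mk d) (mk e) → mk d ≠ mk e → (d * e) ^ 2 = 1 := by
    intro C hC d hd e he hc hne
    refine (hC.1.2 d hd e he).resolve_right fun h3 => hne ?_
    have := hsqcube ((hqcomm (hmkinv hC d hd) (hmkinv hC e he)).2 hc)
      (by rw [← map_mul, ← map_pow, h3, map_one])
    rw [eq_inv_of_mul_eq_one_left this, inv_eq_of_mul_eq_one_right (hmkinv hC e he)]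
  have hlift3 : ∀ {C : Set G}, Cfsg.IsThreeTranspositionClass C → ∀ d ∈ C, ∀ e ∈ C,
      ¬ Commute (mk d) (mk e) → (d * e) ^ 3 = 1 ∧ (d * e) ^ 2 ≠ 1 := by
    intro C hC d hd e he hn
    have h2' : (d * e) ^ 2 ≠ 1 := fun h =>
      hn ((hqcomm (hmkinv hC d hd) (hmkinv hC e he)).1 (by rw [← map_mul, ← map_pow, h, map_one]))
    exact ⟨(hC.1.2 d hd e he).resolve_left h2', h2'⟩
  -- the image of a class is a compatible class
  have hcls : ∀ {C : Set G}, Cfsg.IsThreeTranspositionClass C → Cls Q M (mk '' C) := by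
    intro C hC
    refine ⟨?_, ?_, ?_, ?_, ?_, h2, ?_⟩
    · rintro _ ⟨d, hd, rfl⟩; exact hmkinv hC d hd
    · rintro g _ ⟨d, hd, rfl⟩
      obtain ⟨g, rfl⟩ := hmk g
      exact ⟨g * d * g⁻¹, hcl hC g d hd, by simp only [map_mul, map_inv]⟩
    · rintro _ ⟨d, hd, rfl⟩ _ ⟨e, he, rfl⟩
      rcases hC.1.2 d hd e he with h | h
      · exact Or.inl ((hqcomm (hmkinv hC d hd) (hmkinv hC e he)).1
          (by rw [← map_mul, ← map_pow, h, map_one]))
      · exact Or.inr (by rw [← map_mul, ← map_pow, h, map_one])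
    · rintro _ ⟨d, hd, rfl⟩ _ ⟨e, he, rfl⟩ hc v
      have hdf : mk d • br (mk d) v = br (mk d) v := by
        rw [br, smul_add, smul_smul, hmkinv hC d hd, one_smul, add_comm]
      by_cases hne : mk d = mk e
      · rw [← hne]; exact hdf
      set w := br (mk d) v with hw
      have hd' := htrans hC d hd v
      have s1 : (d * ι w * e) ^ 2 = 1 := hlift hC _ hd' e he
        (by rw [map_mul, hmkι, mul_one]; exact hc) (by rw [map_mul, hmkι, mul_one]; exact hne)
      have s2 := hlift hC d hd e he hc hne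
      have hde : e * d * e = d := by
        have : d * e * d * e = 1 := by rw [← s2, sq]; group
        rw [← inv_eq_of_mul_eq_one_right (show d * (e * d * e) = 1 by rw [← this]; group),
          hinv' hC d hd]
      have hdw : d * ι w * d = ι w := by
        have := hact d w; rw [hdf, hinv' hC d hd] at this; exact this.symm
      apply hι
      rw [hact, hinv' hC e he]
      have h5 : d * ι w * (e * d * e) * (e * ι w * e) = 1 := by
        rw [show d * ι w * (e * d * e) * (e * ι w * e) = d * ι w * e * d * (e * e) * ι w * e by group,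
          hinv hC e he, mul_one, ← s1, sq]
        group
      rw [hde, hdw] at h5
      rw [← inv_eq_of_mul_eq_one_right h5, inv_eq_of_mul_eq_one_right (hι2 w)]
    · rintro _ ⟨d, hd, rfl⟩ _ ⟨e, he, rfl⟩ hn v hfix
      set w := br (mk d) v with hw
      have hd' := htrans hC d hd v
      obtain ⟨c3, c2⟩ := hlift3 hC d hd e he hn
      obtain ⟨c3', -⟩ := hlift3 hC _ hd' e he (by rw [map_mul, hmkι, mul_one]; exact hn)
      have hdf : mk d • w = w := by
        rw [hw, br, smul_add, smul_smul, hmkinv hC d hd, one_smul, add_comm]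
      have hev : mk e • v = mk d • v := by
        conv_rhs => rw [← hfix, smul_smul, ← mul_assoc, hmkinv hC d hd, one_mul]
      have hew : mk e • w = w := by
        have h' : mk e • mk d • v = v := by
          rw [← hev, smul_smul, hmkinv hC e he, one_smul]
        rw [hw, br, smul_add, h', hev, add_comm]
      have hxw : (d * e) * ι w * (d * e)⁻¹ = ι w := by
        rw [← hact, map_mul, mul_smul, hew, hdf]
      have hc' : Commute (d * e) (ι w) := mul_inv_eq_iff_eq_mul.1 hxw
      have hdwe : d * ι w * e = (d * e) * ι w := by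
        have := hact e w
        rw [hew, hinv' hC e he] at this
        rw [this, show d * (e * ι w * e) * e = d * e * ι w * (e * e) by group, hinv hC e he,
          mul_one, ← this]
      rw [hdwe, hc'.mul_pow, c3, one_mul, pow_succ, sq, hι2, one_mul, ← hι0] at c3'
      have h0 : v + mk d • v = 0 := hι c3'
      calc mk d • v = v + (v + mk d • v) := by rw [← add_assoc, h2, zero_add]
        _ = v := by rw [h0, add_zero]
    · rw [← MonoidHom.map_closure, hC.2.2, Subgroup.map_top_of_surjective _ hmk]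
  -- no member lies in the kernel
  have hone : ∀ {C : Set G}, Cfsg.IsThreeTranspositionClass C → (1 : Q) ∉ mk '' C := by
    rintro C hC ⟨d, hd, hd1⟩
    obtain ⟨d0, hd0, hC0⟩ := hC.2.1
    have hdd : IsConj d0 d := mem_co.1 (hC0 ▸ hd)
    have hall : ∀ c ∈ C, ∃ m, ι m = c := by
      intro c hc
      obtain ⟨g, rfl⟩ := isConj_iff.1 (hdd.symm.trans (mem_co.1 (hC0 ▸ hc)))
      exact (hker _).1 (by simp [hd1])
    have : d ∈ Subgroup.center G := by
      rw [Subgroup.mem_center_iff]
      intro g
      have hle : Subgroup.closure C ≤ Subgroup.centralizer {d} := (Subgroup.closure_le _).2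
        fun x hx => by
          rw [SetLike.mem_coe, Subgroup.mem_centralizer_singleton_iff]
          obtain ⟨m, rfl⟩ := hall x hx
          obtain ⟨m', rfl⟩ := hall d hd
          exact hcomm m m'
      rw [hC.2.2] at hle
      exact Subgroup.mem_centralizer_singleton_iff.1 (hle (Subgroup.mem_top g))
    rw [hZ, Subgroup.mem_bot] at this
    have h' := hC.1.1 d hd
    rw [this, orderOf_one] at h'
    exact absurd h' (by norm_num)
  have hDc := hcls hD
  have hEc := hcls hE
  have hsub : ∀ e ∈ E, mk e ∈ mk '' D := fun e he =>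
    mem_of_cls hDc hO hEc (hone hE) ⟨e, he, rfl⟩
  -- the translations
  let val : Q → M → Prop := fun q m => ∃ d ∈ D, mk d = q ∧ d * ι m ∈ E
  obtain ⟨d0, hd0, hD0⟩ := hD.2.1
  obtain ⟨e0, he0, hE0⟩ := hE.2.1
  have hex : ∀ q ∈ mk '' D, ∃ m, val q m := by
    rintro _ ⟨d, hd, rfl⟩
    obtain ⟨d1, hd1, h1⟩ := hsub e0 he0
    obtain ⟨g, hg⟩ := isConj_iff.1
      ((mem_co.1 (hD0 ▸ hd1)).symm.trans (mem_co.1 (hD0 ▸ hd)))
    obtain ⟨m, hm⟩ := (hker (d⁻¹ * (g * e0 * g⁻¹))).1 (by
      simp only [map_mul, map_inv, ← h1]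
      rw [← map_inv, ← map_inv, ← map_mul, ← map_mul, ← map_mul, hg, inv_mul_cancel, map_one])
    exact ⟨m, d, hd, rfl, by rw [hm, mul_inv_cancel_left]; exact hcl hE g e0 he0⟩
  have hfix : ∀ d ∈ D, ∀ v : M, d * ι v ∈ E → mk d • v = v := by
    intro d hd v hv
    apply hι
    rw [hact, hinv' hD d hd]
    have := hinv hE _ hv
    rw [show d * ι v * (d * ι v) = (d * ι v * d) * ι v by group] at this
    rw [eq_inv_of_mul_eq_one_left this, inv_eq_of_mul_eq_one_right (hι2 v)]
  have hA : ∀ q ∈ mk '' D, ∀ r ∈ mk '' D, Commute q r → ∀ v, val q v → r • v = v := by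
    rintro q hq r hr hc v ⟨d, hd, rfl, hv⟩
    by_cases hne : mk d = r
    · rw [← hne]; exact hfix d hd v hv
    obtain ⟨u, g, hg, rfl, hu⟩ := hex r hr
    have hdq : mk (d * ι v) = mk d := by rw [map_mul, hmkι, mul_one]
    have hgq : mk (g * ι u) = mk g := by rw [map_mul, hmkι, mul_one]
    have s1 : Commute (d * ι v) (g * ι u) := by
      have h := hlift hE _ hv _ hu (by rw [hdq, hgq]; exact hc) (by rw [hdq, hgq]; exact hne)
      show d * ι v * (g * ι u) = g * ι u * (d * ι v)
      calc _ = (d * ι v * (g * ι u))⁻¹ :=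
            (inv_eq_of_mul_eq_one_right (by rw [← sq, h])).symm
        _ = _ := by rw [mul_inv_rev, hinv' hE _ hv, hinv' hE _ hu]
    have s2 : g * d = d * g := by
      have h := hlift hD _ hd _ hg hc hne
      calc g * d = (d * g)⁻¹ := by rw [mul_inv_rev, hinv' hD _ hd, hinv' hD _ hg]
        _ = _ := inv_eq_of_mul_eq_one_right (by rw [← sq, h])
    have e1 : d * g * ι (mk g • v + u) = d * g * ι (mk d • u + v) := by
      rw [hadd, hadd, hact, hact, hinv' hD _ hd, hinv' hD _ hg]
      calc d * g * (g * ι v * g * ι u) = d * (g * g) * ι v * (g * ι u) := by group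
        _ = d * ι v * (g * ι u) := by rw [hinv hD _ hg, mul_one]
        _ = g * ι u * (d * ι v) := s1.eq
        _ = g * (d * d) * ι u * (d * ι v) := by rw [hinv hD _ hd, mul_one]
        _ = (g * d) * (d * ι u * d * ι v) := by group
        _ = _ := by rw [s2]
    have e2 := hι (mul_left_cancel e1)
    have hbr : br (mk g) v = br (mk d) u := by
      calc v + mk g • v = v + (mk g • v + u) + u := by
            rw [add_assoc, add_assoc, h2, add_zero]
        _ = v + (mk d • u + v) + u := by rw [e2]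
        _ = (v + v) + (u + mk d • u) := by abel
        _ = u + mk d • u := by rw [h2, zero_add]
    by_cases h0 : br (mk g) v = 0
    · exact (eq_of_add_eq_zero hDc h0).symm
    · exact absurd (eq_of_shared hDc hO hq hr ⟨u, hbr.symm⟩ ⟨v, rfl⟩ h0) hne
  have hB : ∀ q ∈ mk '' D, ∀ r ∈ mk '' D, ¬ Commute q r → ∀ v u, val q v → val r u →
      (r • v + u) + (q * r) • (r • v + u) + (r * q) • (r • v + u) = 0 := by
    rintro q - r - hn v u ⟨d, hd, rfl, hv⟩ ⟨g, hg, rfl, hu⟩
    obtain ⟨cD, -⟩ := hlift3 hD _ hd _ hg hn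
    obtain ⟨cE, -⟩ := hlift3 hE _ hv _ hu
      (by rw [map_mul, map_mul, hmkι, hmkι, mul_one, mul_one]; exact hn)
    set x := d * g with hx
    set s := mk g • v + u with hs
    have hxs : d * ι v * (g * ι u) = x * ι s := by
      rw [hs, hadd, hact, hinv' hD _ hg, hx,
        show d * g * (g * ι v * g * ι u) = d * (g * g) * ι v * (g * ι u) by group, hinv hD _ hg,
        mul_one]
    rw [hxs] at cE
    have hxinv : mk g * mk d = mk x⁻¹ := by
      rw [← map_mul, hx, mul_inv_rev, hinv' hD _ hd, hinv' hD _ hg]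
    have hx2 : x⁻¹ = x * x := inv_eq_of_mul_eq_one_right (by rw [← cD]; simp only [pow_succ, pow_zero, one_mul, mul_assoc])
    rw [hxinv, ← map_mul, ← hx]
    apply hι
    rw [hι0, hadd, hadd, hact, hact, inv_inv, hx2]
    calc ι s * (x * ι s * (x * x)) * (x * x * ι s * x)
        = ι s * (x * ι s) * ((x * x) * x) * (x * ι s) * x := by group
      _ = ι s * (x * ι s) * (x * ι s) * x := by rw [← hx2, inv_mul_cancel, mul_one]
      _ = ι s * ((x * ι s) ^ 3) * (ι s)⁻¹ := by simp only [pow_succ, pow_zero]; group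
      _ = 1 := by rw [cE, mul_one, mul_inv_cancel]
  -- conclusion
  have hED : ∀ e ∈ E, e ∈ D := by
    intro e he
    obtain ⟨d, hd, hde⟩ := hsub e he
    obtain ⟨m, hm⟩ := (hker (d⁻¹ * e)).1 (by rw [map_mul, map_inv, hde, inv_mul_cancel])
    have hedm : e = d * ι m := by rw [hm, mul_inv_cancel_left]
    obtain ⟨n, hn, hnm⟩ := exists_invariant hDc hO (hone hD) val hex hA hB ⟨d, hd, rfl⟩
      (v := m) ⟨d, hd, rfl, hedm ▸ he⟩
    have hn0 : n = 0 := by
      apply hι
      rw [hι0, ← Subgroup.mem_bot, ← hZ, Subgroup.mem_center_iff]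
      intro g
      have hle : Subgroup.closure D ≤ Subgroup.centralizer {ι n} := (Subgroup.closure_le _).2
        fun x hx => by
          rw [SetLike.mem_coe, Subgroup.mem_centralizer_singleton_iff]
          have := hact x n
          rw [hn _ ⟨x, hx, rfl⟩] at this
          calc x * ι n = (x * ι n * x⁻¹) * x := by group
            _ = _ := by rw [← this]
      rw [hD.2.2] at hle
      exact Subgroup.mem_centralizer_singleton_iff.1 (hle (Subgroup.mem_top g))
    rw [hn0, zero_add] at hnm
    obtain ⟨t, rfl⟩ := hnm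
    exact hedm ▸ htrans hD d hd t
  have hee := hED e0 he0
  ext x
  rw [hE0, hD0]
  constructor
  · intro hx; exact mem_co.2
      ((mem_co.1 (hD0 ▸ hee)).trans (mem_co.1 hx))
  · intro hx; exact mem_co.2
      ((mem_co.1 (hD0 ▸ hee)).symm.trans (mem_co.1 hx))

/-- Let G be a finite group generated by a conjugacy class D of 3-transpositions, with trivial centre and with generalized Fitting subgroup F*(G) = O₂(G) (so the Fitting subgroup is O₂(G) too). If moreover O₂(G) is elementary abelian, then D is the only conjugacy class of 3-transpositions generating G. -/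
theorem result {G : Type*} [Group G] [Finite G] {D : Set G} (hD : Cfsg.IsThreeTranspositionClass D)
    (hZ : Subgroup.center G = ⊥) (hF : Cfsg.generalizedFittingSubgroup G = Cfsg.pCore 2 G)
    (hV : Cfsg.IsElementaryAbelian 2 (Cfsg.pCore 2 G)) :
    ∀ E : Set G, Cfsg.IsThreeTranspositionClass E → E = D := by
  intro E hE
  classical
  set V : Subgroup G := Cfsg.pCore 2 G with hVdef
  haveI : V.Normal := hF ▸ CfsgLib.Coprime.generalizedFitting_normal
  have hcent : Subgroup.centralizer (V : Set G) ≤ V :=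
    hF ▸ CfsgLib.Coprime.centralizer_generalizedFitting_le
  letI := vComm V hV
  have hker : V ≤ (MulAut.conjNormal : G →* MulAut V).ker := by
    intro v hv
    rw [MonoidHom.mem_ker]
    ext x
    rw [MulAut.conjNormal_apply, MulAut.one_apply]
    have := congrArg Subtype.val (hV.1.is_comm.comm ⟨v, hv⟩ x)
    simp only [Subgroup.coe_mul] at this
    rw [this, mul_inv_cancel_right]
  let φ : G ⧸ V →* MulAut V := QuotientGroup.lift V MulAut.conjNormal hker
  letI : DistribMulAction (G ⧸ V) (Additive V) :=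
    { smul := fun q m => Additive.ofMul (φ q m.toMul)
      one_smul := fun m => by
        show Additive.ofMul (φ 1 m.toMul) = m
        simp
      mul_smul := fun q r m => by
        show Additive.ofMul (φ (q * r) m.toMul) = Additive.ofMul (φ q (φ r m.toMul))
        simp
      smul_zero := fun q => by
        show Additive.ofMul (φ q 1) = 0
        simp
      smul_add := fun q a b => by
        show Additive.ofMul (φ q (a.toMul * b.toMul)) = _
        rw [map_mul]
        rfl }
  haveI : FaithfulSMul (G ⧸ V) (Additive V) := ⟨fun {q r} h => by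
    obtain ⟨a, rfl⟩ := QuotientGroup.mk'_surjective V q
    obtain ⟨b, rfl⟩ := QuotientGroup.mk'_surjective V r
    rw [QuotientGroup.mk'_apply, QuotientGroup.mk'_apply, QuotientGroup.eq]
    refine hcent (Subgroup.mem_centralizer_iff.2 fun v hv => ?_)
    have hh : a * v * a⁻¹ = b * v * b⁻¹ := congrArg Subtype.val (h (Additive.ofMul ⟨v, hv⟩))
    calc v * (a⁻¹ * b) = a⁻¹ * (a * v * a⁻¹) * b := by group
      _ = a⁻¹ * b * v := by rw [hh]; group⟩
  refine unique (QuotientGroup.mk' V) (QuotientGroup.mk'_surjective V)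
    (fun m : Additive V => (m.toMul : G)) (fun a b h => Subtype.ext h) (fun a b => rfl) ?_
    (fun g m => rfl) ?_ ?_ ?_ hD hZ hE
  · intro g
    rw [QuotientGroup.mk'_apply, QuotientGroup.eq_one_iff]
    exact ⟨fun h => ⟨Additive.ofMul ⟨g, h⟩, rfl⟩, fun ⟨m, hm⟩ => hm ▸ m.toMul.2⟩
  · intro N hN hP
    haveI := hN
    have hpre : IsPGroup 2 (N.comap (QuotientGroup.mk' V)) := by
      refine hP.comap_of_ker_isPGroup (QuotientGroup.mk' V) ?_
      rw [QuotientGroup.ker_mk']
      exact fun x => ⟨1, Subtype.ext (by simpa using hV.2 x x.2)⟩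
    have hle : N.comap (QuotientGroup.mk' V) ≤ V := le_sSup ⟨inferInstance, hpre⟩
    rw [eq_bot_iff]
    intro q hq
    obtain ⟨a, rfl⟩ := QuotientGroup.mk'_surjective V q
    rw [Subgroup.mem_bot, QuotientGroup.mk'_apply, QuotientGroup.eq_one_iff]
    exact hle hq
  · intro m
    apply Additive.toMul.injective
    apply Subtype.ext
    show (m.toMul : G) * (m.toMul : G) = 1
    rw [← sq]; exact hV.2 _ m.toMul.2
  · intro a b
    exact congrArg Subtype.val (hV.1.is_comm.comm a.toMul b.toMul)

end Cfsg.Agent.S5558
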