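import Cfsg.Statements.S5562
-- import your own Cfsg.Agent.* helpers here

set_option autoImplicit false
open Cfsg

namespace Cfsg.Agent.S5562

/-- Let G be a finite group, d an involution of G whose conjugates pairwise have products of odd order, and x any involution of G. Then the conjugacy class of d is the disjoint union, over the conjugates a of d commuting with x, of the sets of conjugates of d commuting with ax: every conjugate of d commutes with ax for exactly one conjugate a of d that commutes with x. -/
theorem result {G : Type*} [Group G] [Finite G] (d : G) (hd : orderOf d = 2)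
    (hodd : ∀ a ∈ conjugatesOf d, ∀ b ∈ conjugatesOf d, Odd (orderOf (a * b)))
    (x : G) (hx : orderOf x = 2) :
    ∀ e ∈ conjugatesOf d,
      ∃! a : G, a ∈ conjugatesOf d ∧ Commute a x ∧ Commute e (a * x) := by
  classical
  intro e he
  have hord : ∀ a ∈ conjugatesOf d, a * a = 1 := by
    intro a ha
    obtain ⟨u, rfl⟩ := isConj_iff.1 (ha : IsConj d a)
    rw [show u * d * u⁻¹ * (u * d * u⁻¹) = u * d ^ 2 * u⁻¹ by rw [pow_two]; group, ← hd, pow_orderOf_eq_one]
    group
  have hC : ∀ g : G, ∀ a ∈ conjugatesOf d, g * a * g⁻¹ ∈ conjugatesOf d :=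
    fun g a ha => IsConj.trans (ha : IsConj d a) (isConj_iff.2 ⟨g, rfl⟩)
  have hinv : ∀ a ∈ conjugatesOf d, a⁻¹ = a := fun a ha => inv_eq_of_mul_eq_one_right (hord a ha)
  let ψ : conjugatesOf d → conjugatesOf d := fun a => ⟨a * e * a, by
    have := hC a e he; rwa [hinv a a.2] at this⟩
  have hsurj : Function.Surjective ψ := by
    rintro ⟨f, hf⟩
    obtain ⟨m, hm⟩ := hodd e he f hf
    have hflip : ∀ k : ℕ, e * (e * f) ^ k * e = ((e * f) ^ k)⁻¹ := by
      intro k
      induction k with
      | zero => simp [hord e he]
      | succ k ih =>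
        calc e * (e * f) ^ (k + 1) * e = (e * (e * f) ^ k * e) * (e * (e * f) * e) := by
              rw [pow_succ]
              calc e * ((e * f) ^ k * (e * f)) * e = e * (e * f) ^ k * (e * e) * ((e * f) * e) := by
                    rw [hord e he]; group
                _ = _ := by group
          _ = ((e * f) ^ (k + 1))⁻¹ := by
              rw [ih, pow_succ', mul_inv_rev (e * f) ((e * f) ^ k)]
              congr 1
              rw [← mul_assoc e e f, hord e he, one_mul, mul_inv_rev, hinv e he, hinv f hf]
    set p := (e * f) ^ (m + 1)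
    have hp : p * p = e * f := by
      show (e * f) ^ (m + 1) * (e * f) ^ (m + 1) = e * f
      rw [← pow_add, show m + 1 + (m + 1) = orderOf (e * f) + 1 by omega, pow_succ, pow_orderOf_eq_one, one_mul]
    obtain ⟨j, hj⟩ : ∃ j, p = (e * f) ^ j * (e * f) ^ j := by
      rcases Nat.even_or_odd (m + 1) with ⟨j, hj⟩ | ⟨j, hj⟩
      · exact ⟨j, by show (e * f) ^ (m + 1) = _; rw [← pow_add, ← hj]⟩
      · refine ⟨m + j + 1, ?_⟩
        show (e * f) ^ (m + 1) = _
        rw [← pow_add, show m + j + 1 + (m + j + 1) = orderOf (e * f) + (m + 1) by omega,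
          show (e * f) ^ (orderOf (e * f) + (m + 1)) = (e * f) ^ orderOf (e * f) * (e * f) ^ (m + 1) from pow_add _ _ _,
          pow_orderOf_eq_one, one_mul]
    have ha : e * p ∈ conjugatesOf d := by
      have := hC ((e * f) ^ j)⁻¹ e he
      rwa [inv_inv, ← hflip j, show e * (e * f) ^ j * e * e * (e * f) ^ j = e * (e * f) ^ j * (e * e) * (e * f) ^ j by group,
        hord e he, mul_one, mul_assoc e, ← hj] at this
    refine ⟨⟨e * p, ha⟩, Subtype.ext ?_⟩
    show e * p * e * (e * p) = f
    calc e * p * e * (e * p) = e * p * (e * e) * p := by group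
      _ = e * (p * p) := by rw [hord e he]; group
      _ = f := by rw [hp, ← mul_assoc, hord e he, one_mul]
  have hinj : Function.Injective ψ := Finite.injective_iff_surjective.2 hsurj
  have hxx : x * x = 1 := by have := pow_orderOf_eq_one x; rwa [hx, pow_two] at this
  have hxi : x⁻¹ = x := inv_eq_of_mul_eq_one_right hxx
  have hfC : x * e * x ∈ conjugatesOf d := by have := hC x e he; rwa [hxi] at this
  obtain ⟨⟨a, ha⟩, hae⟩ := hsurj ⟨x * e * x, hfC⟩
  have hae' : a * e * a = x * e * x := congrArg Subtype.val hae
  have hcomm : Commute a x := by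
    have hb : x * a * x ∈ conjugatesOf d := by have := hC x a ha; rwa [hxi] at this
    have e1 : (x * a * x) * e * (x * a * x) = x * e * x := by
      calc (x * a * x) * e * (x * a * x) = x * a * (x * e * x) * a * x := by group
        _ = x * (a * a) * e * (a * a) * x := by rw [← hae']; group
        _ = x * e * x := by rw [hord a ha]; group
    have e2 : (⟨x * a * x, hb⟩ : conjugatesOf d) = ⟨a, ha⟩ :=
      hinj (Subtype.ext (e1.trans hae'.symm))
    have e3 : x * a * x = a := congrArg Subtype.val e2
    show a * x = x * a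
    nth_rewrite 1 [← e3]
    rw [mul_assoc, hxx, mul_one]
  refine ⟨a, ⟨ha, hcomm, ?_⟩, ?_⟩
  · show e * (a * x) = a * x * e
    calc e * (a * x) = a * (a * e * a) * x := by rw [← mul_assoc a (a * e) a, ← mul_assoc a a e, hord a ha]; group
      _ = a * x * e * (x * x) := by rw [hae']; group
      _ = a * x * e := by rw [hxx, mul_one]
  · rintro b ⟨hb, hbx, hbc⟩
    have e1 : b * e * b = x * e * x := by
      calc b * e * b = b * (e * (b * x)) * x := by
            rw [show b * (e * (b * x)) * x = b * e * b * (x * x) by group, hxx, mul_one]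
        _ = (b * b) * x * e * x := by rw [hbc.eq]; group
        _ = x * e * x := by rw [hord b hb, one_mul]
    exact congrArg Subtype.val (hinj (Subtype.ext (e1.trans hae'.symm)) : (⟨b, hb⟩ : conjugatesOf d) = ⟨a, ha⟩)

end Cfsg.Agent.S5562
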