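import Cfsg.Statements.S5572
import Cfsg.Agent.Lib.Spor.JFourType.FiveSetup
import Cfsg.Agent.Lib.Spor.JFourType.FiveStructure
import Cfsg.Agent.Lib.Spor.JFourType.FiveNonsplit
import Cfsg.Agent.Lib.Spor.JFourType.Facts22.FiveSeven
import Cfsg.Agent.Lib.Spor.JFourType.Orbit
import Cfsg.Agent.Lib.Spor.JFourType.Ctx22
-- import your own Cfsg.Agent.* helpers here

set_option autoImplicit false
set_option linter.style.haveILetI false
open Cfsg Subgroup

namespace Cfsg.Agent.S5572

private theorem centralizer_map {G : Type*} [Group G] (f : G ≃* G) (S : Subgroup G) :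
    Subgroup.centralizer (S.map f.toMonoidHom : Set G) = (Subgroup.centralizer (S : Set G)).map f.toMonoidHom := by
  ext g
  obtain ⟨g, rfl⟩ := f.surjective g
  rw [show f g = f.toMonoidHom g from rfl, mem_map_iff_mem f.injective, mem_centralizer_iff, mem_centralizer_iff]
  constructor
  · intro h s hs
    apply f.injective
    rw [map_mul, map_mul]
    exact h _ (mem_map_of_mem _ hs)
  · rintro h _ ⟨s, hs, rfl⟩
    show f s * f g = f g * f s
    rw [← map_mul, ← map_mul, h s hs]

private theorem product_map {G : Type*} [Group G] (f : G ≃* G) {S T C : Subgroup G}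
    (h : Cfsg.IsInternalDirectProduct S T C) :
    Cfsg.IsInternalDirectProduct (S.map f.toMonoidHom) (T.map f.toMonoidHom) (C.map f.toMonoidHom) := by
  obtain ⟨h1, h2, h3, h4, h5⟩ := h
  refine ⟨map_mono h1, map_mono h2, ?_, ?_, ?_⟩
  · rintro _ ⟨a, ha, rfl⟩ _ ⟨b, hb, rfl⟩
    rw [← map_mul, ← map_mul, h3 a ha b hb]
  · rw [← map_inf _ _ _ f.injective, h4, Subgroup.map_bot]
  · rw [← Subgroup.map_sup, h5]

/-- Let G be a finite non-abelian simple group of Janko-four type (an involution z whose centralizer H has an extraspecial largest normal 2-subgroup E of order 2^13 containing its centralizer in H, a normal subgroup N ≥ E of H with N/E of order 3 and H/N the automorphism group of M₂₂, and a subgroup P ≤ N of order 3 with C_E(P) = ⟨z⟩, N_H(P) ≠ C_H(P) and P ≤ C_H(P)′). Let Q ≤ H have order 5. Then Q is a Sylow 5-subgroup of G; its centralizer is Q × J with J a non-split extension of an elementary abelian group of order 8 by L₃(2); its normalizer contains a subgroup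 of order 20 containing Q in which Q is self-centralizing (a Frobenius group of order 20); and the normalizer of Q has order 2^8·3·5·7. -/
theorem result {G : Type*} [Group G] [Finite G] [IsSimpleGroup G] (hG : ¬ IsMulCommutative G) (z : G) (hJ : Cfsg.IsOfJankoFourTypeAt z) (Q : Subgroup G) (hQ : Nat.card ↥Q = 5) (hQz : Q ≤ Subgroup.centralizer ({z} : Set G)) :
    ¬ (25 ∣ Nat.card G) ∧
    (∃ J : Subgroup G, Cfsg.IsInternalDirectProduct Q J (Subgroup.centralizer (Q : Set G)) ∧
      ∃ (E : Subgroup ↥J) (_ : E.Normal), Cfsg.IsElementaryAbelian 2 E ∧ Nat.card ↥E = 8 ∧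
        Nonempty (↥J ⧸ E ≃* Matrix.SpecialLinearGroup (Fin 3) (ZMod 2)) ∧ ∀ K : Subgroup ↥J, ¬ E.IsComplement' K) ∧
    (∃ R : Subgroup G, Q ≤ R ∧ R ≤ Subgroup.normalizer (Q : Set G) ∧ Nat.card ↥R = 20 ∧ R ⊓ Subgroup.centralizer (Q : Set G) = Q) ∧
    Nat.card ↥(Subgroup.normalizer (Q : Set G)) = 2 ^ 8 * 3 * 5 * 7 := by
  classical
  obtain ⟨P, h⟩ := hJ
  let c := CfsgLib.Spor.JFourType.ctx22 h
  have hS := c.split hG
  obtain ⟨x, n, s, h₀, f, hh₀, hxI, hw, hI⟩ := c.exists_fiveFull CfsgLib.Spor.JFourType.fiveSeven22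
  -- the given subgroup is conjugate to that of the chosen element
  haveI : Fact (Nat.Prime 5) := ⟨by norm_num⟩
  obtain ⟨y, hy, hy1⟩ := (Subgroup.bot_or_exists_ne_one Q).resolve_left
    (fun h => by rw [h, Subgroup.card_bot] at hQ; omega)
  have hyo : orderOf y = 5 := orderOf_eq_prime (by
    have h5 := pow_card_eq_one' (G := ↥Q) (x := ⟨y, hy⟩)
    rw [hQ] at h5
    exact congrArg Subtype.val h5) hy1
  have hyQ : zpowers y = Q := eq_of_le_of_card_ge (zpowers_le.2 hy) (by rw [Nat.card_zpowers, hyo, hQ])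
  obtain ⟨g, hg, i, hgy, hi⟩ := c.conj_prime (p := 5) (by norm_num) (by norm_num) (by norm_num) f.xH (hQz hy)
    f.base.ord_x hyo
  set φ := MulAut.conj g⁻¹ with hφ
  have hQe : Q = (zpowers x).map φ.toMonoidHom := by
    have hxx : zpowers (x ^ i) = zpowers x := eq_of_le_of_card_ge (zpowers_le.2 (npow_mem_zpowers x _))
      (by rw [Nat.card_zpowers, Nat.card_zpowers, Nat.Coprime.orderOf_pow (by
        rw [f.base.ord_x]; exact (Nat.Prime.coprime_iff_not_dvd (by norm_num)).2 hi)])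
    rw [← hxx, MonoidHom.map_zpowers, ← hyQ, ← hgy]
    congr 1
    show y = g⁻¹ * (g * y * g⁻¹) * g⁻¹⁻¹
    group
  obtain ⟨K, hBK, hprod, hKC, -, -, hmem, V, hV, hVe, hVq⟩ := f.exists_core hS
  obtain ⟨hN, -⟩ := f.card_normalizer hS
  obtain ⟨F, hF1, hF2, hF3, hF4⟩ := f.exists_frobenius hS
  have hcard : ∀ S : Subgroup G, Nat.card ↥(S.map φ.toMonoidHom) = Nat.card ↥S := fun S =>
    (Nat.card_congr (S.equivMapOfInjective _ φ.injective).toEquiv).symm
  subst hQe
  rw [centralizer_map, ← map_equiv_normalizer_eq]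
  refine ⟨f.not_dvd hS, ⟨K.map φ.toMonoidHom, product_map φ hprod, ?_⟩,
    ⟨F.map φ.toMonoidHom, map_mono hF1, map_mono hF2, by rw [hcard, hF3], by
      rw [← map_inf _ _ _ φ.injective, hF4]⟩, by rw [hcard, hN]; norm_num⟩
  set e := K.equivMapOfInjective φ.toMonoidHom φ.injective
  haveI hVn : (V.map e.toMonoidHom).Normal := hV.map _ e.surjective
  have hVea : Cfsg.IsElementaryAbelian 2 V := by
    obtain ⟨h1, h2⟩ := f.base.elementary hS
    haveI := h1
    rw [hVe]
    refine ⟨⟨⟨fun a b => Subtype.ext (Subtype.ext ?_)⟩⟩, fun a ha => Subtype.ext (h2 _ ha)⟩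
    show (a.1.1 : G) * b.1.1 = b.1.1 * a.1.1
    exact congrArg Subtype.val (mul_comm' (⟨a.1.1, a.2⟩ : ↥(c.lift c.KR)) ⟨b.1.1, b.2⟩)
  have hV8 : Nat.card ↥V = 8 := by
    rw [hVe, Nat.card_congr (subgroupOfEquivOfLe hBK).toEquiv]
    exact CfsgLib.Spor.JFourType.Ctx.FiveFull.card_lift_KR
  refine ⟨V.map e.toMonoidHom, hVn, ?_, ?_, ⟨(QuotientGroup.congr V (V.map e.toMonoidHom) e rfl).symm.trans hVq.some⟩, fun L hL => ?_⟩
  · refine ⟨?_, ?_⟩
    · haveI := hVea.1
      exact ⟨⟨fun a b => by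
        obtain ⟨_, a', ha, rfl⟩ := a
        obtain ⟨_, b', hb, rfl⟩ := b
        refine Subtype.ext ?_
        show e a' * e b' = e b' * e a'
        rw [← map_mul, ← map_mul, show a' * b' = b' * a' from
          congrArg Subtype.val (mul_comm' (⟨a', ha⟩ : ↥V) ⟨b', hb⟩)]⟩⟩
    · rintro _ ⟨a, ha, rfl⟩
      rw [← map_pow, hVea.2 a ha, map_one]
  · rw [← Nat.card_congr (V.equivMapOfInjective _ e.injective).toEquiv, hV8]
  · refine f.nonsplit hS hh₀ hxI hw hI hBK hprod hKC hmem (L.map e.symm.toMonoidHom) ?_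
    rw [← hVe]
    refine isComplement'_of_card_mul_and_disjoint ?_ (disjoint_iff_inf_le.2 ?_)
    · rw [← Nat.card_congr (L.equivMapOfInjective _ e.symm.injective).toEquiv,
        Nat.card_congr (V.equivMapOfInjective e.toMonoidHom e.injective).toEquiv, hL.card_mul_card,
        Nat.card_congr e.toEquiv]
    · rintro a ⟨ha, l, hl, rfl⟩
      have h1 : e (e.symm l) ∈ V.map e.toMonoidHom := mem_map_of_mem _ ha
      rw [e.apply_symm_apply] at h1
      rw [mem_bot.1 (hL.disjoint.le_bot (mem_inf.2 ⟨h1, hl⟩))]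
      exact mem_bot.2 (map_one _)

end Cfsg.Agent.S5572
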