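import Cfsg.Statements.S5573
import Cfsg.Agent.Lib.Spor.JFourType.SevenLocal
import Cfsg.Agent.Lib.Spor.JFourType.Facts22.FiveSeven
import Cfsg.Agent.Lib.Spor.JFourType.Facts22Extra
import Cfsg.Agent.Lib.Spor.JFourType.Orbit
import Cfsg.Agent.Lib.Spor.JFourType.Ctx22
-- import your own Cfsg.Agent.* helpers here

set_option autoImplicit false
open Cfsg Subgroup

namespace Cfsg.Agent.S5573

/-- Let G be a finite non-abelian simple group of Janko-four type (an involution z whose centralizer H has an extraspecial largest normal 2-subgroup E of order 2^13 containing its centralizer in H, a normal subgroup N ≥ E of H with N/E of order 3 and H/N the automorphism group of M₂₂, and a subgroup P ≤ N of order 3 with C_E(P) = ⟨z⟩, N_H(P) ≠ C_H(P) and P ≤ C_H(P)′). Let S ≤ H have order 7. Then S is a Sylow 7-subgroup of G, its centralizer is S × I with I isomorphic to the symmetric group of degree 5, and its normalizer has order three times that of its centralizer, namely 2^3·3^2·5·7. -/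
theorem result {G : Type*} [Group G] [Finite G] [IsSimpleGroup G] (hG : ¬ IsMulCommutative G) (z : G) (hJ : Cfsg.IsOfJankoFourTypeAt z) (S : Subgroup G) (hS : Nat.card ↥S = 7) (hSz : S ≤ Subgroup.centralizer ({z} : Set G)) :
    ¬ (49 ∣ Nat.card G) ∧
    (∃ I : Subgroup G, Cfsg.IsInternalDirectProduct S I (Subgroup.centralizer (S : Set G)) ∧ Nonempty (↥I ≃* Equiv.Perm (Fin 5))) ∧
    Nat.card ↥(Subgroup.normalizer (S : Set G)) = 3 * Nat.card ↥(Subgroup.centralizer (S : Set G)) ∧
    Nat.card ↥(Subgroup.normalizer (S : Set G)) = 2 ^ 3 * 3 ^ 2 * 5 * 7 := by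
  obtain ⟨P, h⟩ := hJ
  let c := CfsgLib.Spor.JFourType.ctx22 h
  obtain ⟨h49, hall⟩ := c.seven_local (c.split hG) CfsgLib.Spor.JFourType.fiveSeven22
    CfsgLib.Spor.JFourType.extra22
  obtain ⟨y, hy, hy1⟩ := (Subgroup.bot_or_exists_ne_one S).resolve_left
    (fun h => by rw [h, Subgroup.card_bot] at hS; omega)
  have hd : orderOf y ∣ 7 := by
    rw [← hS, ← Subgroup.orderOf_mk y hy]; exact orderOf_dvd_natCard _
  have hyo : orderOf y = 7 := ((Nat.dvd_prime (by norm_num)).1 hd).resolve_left
    fun h => hy1 (orderOf_eq_one_iff.1 h)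
  have hyS : zpowers y = S := eq_of_le_of_card_ge (zpowers_le.2 hy) (by rw [Nat.card_zpowers, hyo, hS])
  obtain ⟨⟨T, hT, hTi⟩, hC, hN⟩ := hall y hyo
  have hcs : centralizer (zpowers y : Set G) = centralizer ({y} : Set G) := by
    rw [zpowers_eq_closure, centralizer_closure]
  subst hyS
  exact ⟨h49, ⟨T, hT, hTi⟩, by rw [hN, hcs, hC], by rw [hN]; norm_num⟩

end Cfsg.Agent.S5573
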