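import Cfsg.Statements.S5575
import Cfsg.Agent.Lib.Spor.JFourType.EleSigma
import Cfsg.Agent.Lib.Spor.JFourType.Order.Final
import Cfsg.Agent.Lib.Spor.CoTwoInv.Transfer

set_option autoImplicit false
open Cfsg

namespace Cfsg.Agent.S5575

/-- Let G be a finite non-abelian simple group of Janko-four type (an involution z whose centralizer H has an extraspecial largest normal 2-subgroup E of order 2^13 containing its centralizer in H, a normal subgroup N ≥ E of H with N/E of order 3 and H/N the automorphism group of M₂₂, and a subgroup P ≤ N of order 3 with C_E(P) = ⟨z⟩, N_H(P) ≠ C_H(P) and P ≤ C_H(P)′). Then a Sylow 11-subgroup of G is extraspecial of order 11^3 and exponent 11, and its normalizer has order 2^4·3·5·11^3 and contains a subgroup isomorphic to GL₂(3). -/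
theorem result {G : Type*} [Group G] [Finite G] [IsSimpleGroup G] (hG : ¬ IsMulCommutative G) (hJ : Cfsg.IsOfJankoFourType G) (U : Sylow 11 G) :
    Cfsg.IsExtraspecial 11 ↥(U : Subgroup G) ∧ Nat.card ↥(U : Subgroup G) = 11 ^ 3 ∧ Monoid.exponent ↥(U : Subgroup G) = 11 ∧
    Nat.card ↥(Subgroup.normalizer ((U : Subgroup G) : Set G)) = 2 ^ 4 * 3 * 5 * 11 ^ 3 ∧
    ∃ K : Subgroup G, K ≤ Subgroup.normalizer ((U : Subgroup G) : Set G) ∧ Nonempty (↥K ≃* GL (Fin 2) (ZMod 3)) := by
  have hcard := (CfsgLib.Spor.JFourType.order_and_classes hG hJ).1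
  obtain ⟨z, P, h⟩ := hJ
  let c := CfsgLib.Spor.JFourType.ctx22 h
  haveI : Fact (Nat.Prime 11) := ⟨by norm_num⟩
  obtain ⟨x, U0, s⟩ := c.exists_eleSyl (c.split hG) CfsgLib.Spor.JFourType.extra22
    CfsgLib.Spor.JFourType.fiveSeven22 hcard
  obtain ⟨g, hg⟩ := MulAction.exists_smul_eq G s.toSylow U
  set f := (MulAut.conj g).toMonoidHom with hf
  have hfi : Function.Injective f := (MulAut.conj g).injective
  have hU : (U : Subgroup G) = U0.map f := by
    rw [← hg, Sylow.coe_subgroup_smul]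
    rfl
  rw [hU]
  let e := U0.equivMapOfInjective f hfi
  have hN : Subgroup.normalizer ((U0.map f : Subgroup G) : Set G) = (Subgroup.normalizer (U0 : Set G)).map f :=
    (Subgroup.map_equiv_normalizer_eq U0 (MulAut.conj g)).symm
  refine ⟨CfsgLib.Spor.CoTwoInv.isExtraspecial_of_equiv e s.isExtraspecial, ?_, ?_, ?_, ?_⟩
  · rw [← Nat.card_congr e.toEquiv]
    exact s.card
  · rw [← Monoid.exponent_eq_of_mulEquiv e]
    exact s.exponent_eq
  · rw [hN, ← Nat.card_congr (Subgroup.equivMapOfInjective _ f hfi).toEquiv, s.card_normalizer.1]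
    norm_num
  · obtain ⟨K, hK, ⟨k⟩⟩ := s.exists_GL
    exact ⟨K.map f, by rw [hN]; exact Subgroup.map_mono hK, ⟨(K.equivMapOfInjective f hfi).symm.trans k⟩⟩

end Cfsg.Agent.S5575
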