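import Cfsg.Statements.S5577
import Cfsg.Agent.Lib.Spor.JFourType.Order.Final
import Cfsg.Agent.Lib.Spor.JFourType.Order.LargePrimes
import Cfsg.Agent.Lib.Spor.JFourType.Facts22Ten

set_option autoImplicit false
open Cfsg

namespace Cfsg.Agent.S5577

/-- Let G be a finite non-abelian simple group of Janko-four type (an involution z whose centralizer H has an extraspecial largest normal 2-subgroup E of order 2^13 containing its centralizer in H, a normal subgroup N ≥ E of H with N/E of order 3 and H/N the automorphism group of M₂₂, and a subgroup P ≤ N of order 3 with C_E(P) = ⟨z⟩, N_H(P) ≠ C_H(P) and P ≤ C_H(P)′). Then for p = 23, 29, 31, 37 and 43 every Sylow p-subgroup of G is self-centralizing, with normalizer of order 23·22, 29·28, 31·10, 37·12 and 43·14 respectively. -/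
theorem result {G : Type*} [Group G] [Finite G] [IsSimpleGroup G] (hG : ¬ IsMulCommutative G) (hJ : Cfsg.IsOfJankoFourType G) :
    (∀ U : Sylow 23 G, Subgroup.centralizer ((U : Subgroup G) : Set G) = (U : Subgroup G) ∧ Nat.card ↥(Subgroup.normalizer ((U : Subgroup G) : Set G)) = 23 * 22) ∧
    (∀ U : Sylow 29 G, Subgroup.centralizer ((U : Subgroup G) : Set G) = (U : Subgroup G) ∧ Nat.card ↥(Subgroup.normalizer ((U : Subgroup G) : Set G)) = 29 * 28) ∧
    (∀ U : Sylow 31 G, Subgroup.centralizer ((U : Subgroup G) : Set G) = (U : Subgroup G) ∧ Nat.card ↥(Subgroup.normalizer ((U : Subgroup G) : Set G)) = 31 * 10) ∧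
    (∀ U : Sylow 37 G, Subgroup.centralizer ((U : Subgroup G) : Set G) = (U : Subgroup G) ∧ Nat.card ↥(Subgroup.normalizer ((U : Subgroup G) : Set G)) = 37 * 12) ∧
    (∀ U : Sylow 43 G, Subgroup.centralizer ((U : Subgroup G) : Set G) = (U : Subgroup G) ∧ Nat.card ↥(Subgroup.normalizer ((U : Subgroup G) : Set G)) = 43 * 14) := by
  obtain ⟨z, P, h⟩ := hJ
  let c : CfsgLib.Spor.JFourType.Ctx CfsgLib.Spor.JFourType.J22 CfsgLib.Spor.JFourType.I22
      CfsgLib.Spor.JFourType.R22 z P := CfsgLib.Spor.JFourType.ctx22 h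
  have hs := c.split hG
  have L := c.large_primes hs CfsgLib.Spor.JFourType.fiveSeven22 CfsgLib.Spor.JFourType.extra22
    CfsgLib.Spor.JFourType.spreadFacts22 (c.zclass_eq hs)
  exact ⟨L 23 22 (by simp), L 29 28 (by simp), L 31 10 (by simp), L 37 12 (by simp), L 43 14 (by simp)⟩

end Cfsg.Agent.S5577
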