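import Cfsg.Statements.S5632
-- import your own Cfsg.Agent.* helpers here

import Mathlib
import Cfsg.Agent.Lib.Perm.Trans.SL

set_option autoImplicit false
open Cfsg

namespace Cfsg.Agent.S5632
open CfsgLib.Perm.Trans CfsgLib.Perm.Asch

/-- For a finite field F and subspaces 0 < W < U of F^n with dim W + dim U = n, the elements of SL_n(F) stabilising both W and U form a subgroup that is not maximal in SL_n(F): some subgroup lies strictly between it and SL_n(F). -/
theorem result {F : Type*} [Field F] [Fintype F] (n : ℕ) (W U : Submodule F (Fin n → F)) (hW0 : W ≠ ⊥) (hWU : W < U) (hdim : Module.finrank F W + Module.finrank F U = n) : ∃ K : Subgroup (Matrix.GeneralLinearGroup (Fin n) F), Cfsg.Geo.subspaceStabilizer W ⊓ Cfsg.Geo.subspaceStabilizer U ⊓ Cfsg.Geo.specialLinear (Fin n) F < K ∧ K < Cfsg.Geo.specialLinear (Fin n) F := by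
  classical
  have hW1 : W ≠ ⊤ := fun h => not_top_lt (h ▸ hWU)
  have hUtop : U ≠ ⊤ := fun h => by
    rw [h, finrank_top, Module.finrank_fin_fun] at hdim
    exact hW0 (Submodule.finrank_eq_zero.1 (by omega))
  refine ⟨Cfsg.Geo.subspaceStabilizer W ⊓ Cfsg.Geo.specialLinear (Fin n) F,
    lt_of_le_of_ne (le_inf (inf_le_left.trans inf_le_left) inf_le_right) fun he => ?_,
    lt_SL_of_not_le (not_le_subspaceStabilizer hW0 hW1)⟩
  obtain ⟨x, hxU, hxW⟩ := SetLike.exists_of_lt hWU
  obtain ⟨w, hw⟩ : ∃ w, w ∉ U := by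
    by_contra hcon
    push Not at hcon
    exact hUtop (Submodule.eq_top_iff'.2 hcon)
  have hx : x ∉ W ⊔ Submodule.span F {w} := by
    intro h
    obtain ⟨a, ha, z, hz, hsum⟩ := Submodule.mem_sup.1 h
    obtain ⟨c, rfl⟩ := Submodule.mem_span_singleton.1 hz
    rcases eq_or_ne c 0 with rfl | hc
    · exact hxW (by rw [← hsum, zero_smul, add_zero]; exact ha)
    · refine hw ((U.smul_mem_iff hc).1 ?_)
      rw [eq_sub_of_add_eq' hsum]
      exact U.sub_mem hxU (hWU.le ha)
  obtain ⟨φ, hφx, hφ⟩ := exists_dual _ hx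
  have hφw : φ ⬝ᵥ w = 0 := hφ w (Submodule.mem_sup_right (Submodule.mem_span_singleton_self w))
  have hmem : tv w φ hφw ∈ Cfsg.Geo.subspaceStabilizer W ⊓ Cfsg.Geo.specialLinear (Fin n) F :=
    ⟨tv_mem_stab hφw (Or.inr fun a ha => hφ a (Submodule.mem_sup_left ha)), tv_mem_SL _ _ _⟩
  rw [← he] at hmem
  have h1 := ((mem_subspaceStabilizer_iff.1 hmem.1.2) x).1 hxU
  rw [tv_mulVec, hφx, one_smul] at h1
  exact hw ((U.add_mem_iff_right hxU).1 h1)

end Cfsg.Agent.S5632
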