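import Cfsg.Statements.S5633
-- import your own Cfsg.Agent.* helpers here

import Mathlib
import Cfsg.Agent.Lib.Perm.Trans.SL

set_option autoImplicit false
open Cfsg

namespace Cfsg.Agent.S5633
open CfsgLib.Perm.Trans CfsgLib.Perm.Asch

/-- For a finite field F and complementary non-zero subspaces W ⊕ U = F^n with dim W < dim U, the elements of SL_n(F) stabilising both W and U form a subgroup that is not maximal in SL_n(F): some subgroup lies strictly between it and SL_n(F). -/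
theorem result {F : Type*} [Field F] [Fintype F] (n : ℕ) (W U : Submodule F (Fin n → F)) (hW0 : W ≠ ⊥) (hWU : W ⊓ U = ⊥) (hWU' : W ⊔ U = ⊤) (hdim : Module.finrank F W < Module.finrank F U) : ∃ K : Subgroup (Matrix.GeneralLinearGroup (Fin n) F), Cfsg.Geo.subspaceStabilizer W ⊓ Cfsg.Geo.subspaceStabilizer U ⊓ Cfsg.Geo.specialLinear (Fin n) F < K ∧ K < Cfsg.Geo.specialLinear (Fin n) F := by
  classical
  have hU0 : U ≠ ⊥ := fun h => by rw [h, finrank_bot] at hdim; omega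
  have hW1 : W ≠ ⊤ := fun h => hU0 (by rw [h, top_inf_eq] at hWU; exact hWU)
  refine ⟨Cfsg.Geo.subspaceStabilizer W ⊓ Cfsg.Geo.specialLinear (Fin n) F,
    lt_of_le_of_ne (le_inf (inf_le_left.trans inf_le_left) inf_le_right) fun he => ?_,
    lt_SL_of_not_le (not_le_subspaceStabilizer hW0 hW1)⟩
  obtain ⟨w, hw, hw0⟩ := Submodule.exists_mem_ne_zero_of_ne_bot hW0
  obtain ⟨x, hxU, hx0⟩ := Submodule.exists_mem_ne_zero_of_ne_bot hU0
  have hxW : x ∉ W := fun h => hx0 ((Submodule.mem_bot F).1 (hWU ▸ Submodule.mem_inf.2 ⟨h, hxU⟩))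
  obtain ⟨φ, hφx, hφ⟩ := exists_dual _ hxW
  have hmem : tv w φ (hφ w hw) ∈ Cfsg.Geo.subspaceStabilizer W ⊓ Cfsg.Geo.specialLinear (Fin n) F :=
    ⟨tv_mem_stab _ (Or.inl hw), tv_mem_SL _ _ _⟩
  rw [← he] at hmem
  have h1 := ((mem_subspaceStabilizer_iff.1 hmem.1.2) x).1 hxU
  rw [tv_mulVec, hφx, one_smul] at h1
  exact hw0 ((Submodule.mem_bot F).1 (hWU ▸ Submodule.mem_inf.2 ⟨hw, (U.add_mem_iff_right hxU).1 h1⟩))

end Cfsg.Agent.S5633
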