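import Cfsg.Statements.S5634
import Cfsg.Agent.Lib.Perm.LinDecomp.Blocks
import Cfsg.Agent.Lib.Perm.Trans.SL
import Mathlib

set_option autoImplicit false
open Cfsg

namespace Cfsg.Agent.S5634
open Matrix Cfsg.Geo CfsgLib.Perm.Asch CfsgLib.Perm.Trans CfsgLib.Perm.LinDecomp



/-- For a finite field F with q elements and n ≥ 13, let D be a decomposition of F^n into t ≥ 2 independent subspaces of equal dimension m ≥ 1 spanning F^n. Unless m = 1 and q ≤ 4, or m = 2 and q = 2, the elements of SL_n(F) permuting the members of D form a maximal subgroup of SL_n(F). -/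
theorem result {F : Type*} [Field F] [Fintype F] (n : ℕ) (hn : 13 ≤ n) {t : ℕ} (m : ℕ) (D : Fin t → Submodule F (Fin n → F)) (hD : Cfsg.Geo.IsMDecomposition m D) (h1 : ¬ (m = 1 ∧ Fintype.card F ≤ 4)) (h2 : ¬ (m = 2 ∧ Fintype.card F = 2)) : Cfsg.Geo.IsMaximalIn (Cfsg.Geo.specialLinear (Fin n) F) (Cfsg.Geo.decompositionStabilizer D ⊓ Cfsg.Geo.specialLinear (Fin n) F) := by
  classical
  obtain ⟨B, hBmem, hrep⟩ : ∃ B : Module.Basis (Σ _ : Fin t, Fin m) F (Fin n → F), (∀ k, B k ∈ D k.1) ∧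
      ∀ i l, i ≠ l → ∀ x ∈ D i, ∀ j, B.repr x ⟨l, j⟩ = 0 := by
    have hI : DirectSum.IsInternal D :=
      (DirectSum.isInternal_submodule_iff_iSupIndep_and_iSup_eq_top D).2 ⟨hD.indep, hD.iSup_eq_top⟩
    let v := fun i => Module.finBasisOfFinrankEq F (D i) (hD.finrank_eq i)
    exact ⟨hI.collectedBasis v, hI.collectedBasis_mem v, fun i l hil x hx j => hI.collectedBasis_repr_of_mem_ne v hil hx⟩
  set blk : (Σ _ : Fin t, Fin m) → Fin t := fun k => k.1 with hblk
  have hcard : t * m = n := by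
    have := Module.finrank_eq_card_basis B
    simp at this
    omega
  have hcardι : Fintype.card (Σ _ : Fin t, Fin m) = n := by simp [hcard]
  have hmem : ∀ x i, B.equivFun x ∈ bsub blk i ↔ x ∈ D i := by
    intro x i
    refine ⟨fun hx => ?_, fun hx k hk => ?_⟩
    · rw [← B.sum_equivFun x]
      refine Submodule.sum_mem _ fun k _ => ?_
      by_cases hk : blk k = i
      · exact Submodule.smul_mem _ _ (hk ▸ hBmem k)
      · rw [hx k hk, zero_smul]; exact Submodule.zero_mem _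
    · obtain ⟨l, j⟩ := k
      exact hrep i l (fun e => hk e.symm) x hx j
  let A : Matrix (Fin n) (Fin n) F ≃ₐ[F] Matrix (Σ _ : Fin t, Fin m) (Σ _ : Fin t, Fin m) F :=
    Matrix.toLinAlgEquiv'.trans (LinearMap.toMatrixAlgEquiv B)
  let Φ : GL (Fin n) F ≃* GL (Σ _ : Fin t, Fin m) F := Units.mapEquiv A.toMulEquiv
  have hΦ : ∀ (g : GL (Fin n) F) (x : Fin n → F),
      ((Φ g : GL (Σ _ : Fin t, Fin m) F) : Matrix (Σ _ : Fin t, Fin m) (Σ _ : Fin t, Fin m) F) *ᵥ B.equivFun x = B.equivFun ((g : Matrix (Fin n) (Fin n) F) *ᵥ x) := by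
    intro g x
    show LinearMap.toMatrix B B (Matrix.toLin' (g : Matrix (Fin n) (Fin n) F)) *ᵥ B.repr x = _
    rw [LinearMap.toMatrix_mulVec_repr]
    rfl
  have hdet : ∀ g : GL (Fin n) F, ((Φ g : GL (Σ _ : Fin t, Fin m) F) : Matrix (Σ _ : Fin t, Fin m) (Σ _ : Fin t, Fin m) F).det = (g : Matrix (Fin n) (Fin n) F).det := by
    intro g
    show (LinearMap.toMatrix B B (Matrix.toLin' (g : Matrix (Fin n) (Fin n) F))).det = _
    rw [LinearMap.det_toMatrix, LinearMap.det_toLin']
  have hSL : ∀ g : GL (Fin n) F, Φ g ∈ specialLinear _ F ↔ g ∈ specialLinear _ F := by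
    intro g
    simp only [specialLinear, MonoidHom.mem_ker, Units.ext_iff, Matrix.GeneralLinearGroup.val_det_apply, hdet]
  have hstab : ∀ g : GL (Fin n) F, BStab blk (Φ g) → g ∈ decompositionStabilizer D := by
    rintro g ⟨s, hs⟩
    refine ⟨s, fun i => Submodule.eq_of_le_of_finrank_le ?_ ?_⟩
    · rintro _ ⟨x, hx, rfl⟩
      refine (hmem _ _).1 ?_
      rw [Matrix.toLin'_apply, ← hΦ]
      exact hs i _ ((hmem x i).2 hx)
    · rw [hD.finrank_eq, ← hD.finrank_eq i]
      exact le_of_eq (LinearEquiv.finrank_eq (Submodule.equivMapOfInjective _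
        (fun a b hab => by
          have := congrArg (fun v => ((g⁻¹ : GL (Fin n) F) : Matrix (Fin n) (Fin n) F) *ᵥ v) hab
          simpa only [Matrix.toLin'_apply, gl_inv_mulVec] using this) _))
  refine ⟨lt_SL_of_not_le (not_le_decompositionStabilizer hD), fun M hHM hMS => ?_⟩
  by_cases hle : M ≤ decompositionStabilizer D
  · exact Or.inl (le_antisymm (le_inf hle hMS) hHM)
  obtain ⟨g, hgM, hg⟩ := SetLike.not_le_iff_exists.1 hle
  refine Or.inr (eq_SL_of_fullSub hMS ?_)
  set M' := M.map Φ.toMonoidHom with hM'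
  have hS : ∀ h ∈ specialLinear (Σ _ : Fin t, Fin m) F, BStab blk h → h ∈ M' := fun h hh hb =>
    ⟨Φ.symm h, hHM ⟨hstab _ (by rw [Φ.apply_symm_apply]; exact hb), (hSL _).1 (by rw [Φ.apply_symm_apply]; exact hh)⟩,
      Φ.apply_symm_apply h⟩
  have hg' : Φ g ∈ M' := ⟨g, hgM, rfl⟩
  have hns : ¬ BStab blk (Φ g) := fun h => hg (hstab g h)
  have hfull : fullSub M' = ⊤ := by
    rcases Nat.lt_or_ge m 2 with hm | hm
    · have hm1 : m = 1 := by have := hD.pos; omega
      subst hm1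
      have hbstab : ∀ σ d, BStab blk (mon σ d : GL (Σ _ : Fin t, Fin 1) F) := fun σ d =>
        bstab_mon (s := (Equiv.sigmaUnique (Fin t) fun _ => Fin 1).permCongr σ) d fun k => by
          show (σ k).1 = ((Equiv.sigmaUnique (Fin t) fun _ => Fin 1).permCongr σ) k.1
          rw [Equiv.permCongr_apply]
          show (σ k).1 = (σ ⟨k.1, default⟩).1
          rw [show (⟨k.1, default⟩ : Σ _ : Fin t, Fin 1) = k from Sigma.ext rfl (heq_of_eq (Subsingleton.elim _ _))]
      refine fullSub_of_monomial (fun σ d h => hS _ h (hbstab σ d)) (by omega) (by omega) hg'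
        ((hSL g).2 (hMS hgM)) ?_
      rintro ⟨σ, d, e⟩
      exact hns (e ▸ hbstab σ d)
    · refine fullSub_of_blocks blk (m := m) (fun b => ?_) hm (fun hm2 => ?_) hS hg' hns
      · rw [show (Finset.univ.filter fun k => blk k = b) = (Finset.univ : Finset (Fin m)).map ⟨Sigma.mk b,
          sigma_mk_injective⟩ by
            ext ⟨l, j⟩
            simp only [hblk, Finset.mem_filter, Finset.mem_univ, true_and, Finset.mem_map, Function.Embedding.coeFn_mk]
            exact ⟨fun e => ⟨j, by subst e; rfl⟩, fun ⟨a, e⟩ => (congrArg Sigma.fst e).symm⟩,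
          Finset.card_map, Finset.card_fin]
      · subst hm2
        have := Fintype.one_lt_card (α := F)
        refine Or.inl ⟨by omega, by rw [Fintype.card_fin]; omega⟩
  refine Submodule.eq_top_iff'.2 fun u φ hφ => ?_
  let φ' : (Σ _ : Fin t, Fin m) → F := fun k => φ ⬝ᵥ B k
  have hφ' : ∀ x, φ' ⬝ᵥ B.equivFun x = φ ⬝ᵥ x := by
    intro x
    conv_rhs => rw [← B.sum_equivFun x, dotProduct_sum]
    simp only [dotProduct_smul, smul_eq_mul]
    exact Finset.sum_congr rfl fun k _ => mul_comm _ _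
  have h0 : φ' ⬝ᵥ B.equivFun u = 0 := by rw [hφ', hφ]
  obtain ⟨y, hy, hye⟩ := all_of_fullSub hfull _ _ h0
  refine ⟨hφ, ?_⟩
  suffices y = tv u φ hφ by rw [← this]; exact hy
  refine Φ.injective (Eq.trans hye (gl_ext_vec fun z => ?_))
  obtain ⟨x, rfl⟩ := B.equivFun.surjective z
  rw [hΦ, tv_mulVec, tv_mulVec, map_add, map_smul, hφ']

end Cfsg.Agent.S5634
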