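import Cfsg.Statements.S5635
-- import your own Cfsg.Agent.* helpers here

import Mathlib
import Cfsg.Agent.Lib.Perm.Trans.SL

set_option autoImplicit false
open Cfsg

namespace Cfsg.Agent.S5635
open Matrix CfsgLib.Perm.Asch CfsgLib.Perm.Trans

variable {F : Type*} [Field F] {κ : Type} [Fintype κ] [DecidableEq κ]

/-- the involution `1 + u φ` -/
def inv2 (u φ : κ → F) (h : φ ⬝ᵥ u + 2 = 0) : Matrix.GeneralLinearGroup κ F where
  val := 1 + vecMulVec u φ
  inv := 1 + vecMulVec u φ
  val_inv := by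
    rw [add_mul, mul_add, mul_add, one_mul, one_mul, mul_one, vecMulVec_mul_vecMulVec, ← add_assoc, add_assoc (1 : Matrix κ κ F)]
    ext i j
    simp only [Matrix.add_apply, Pi.smul_apply, smul_eq_mul, vecMulVec_apply]
    linear_combination (u i * φ j) * h
  inv_val := by
    rw [add_mul, mul_add, mul_add, one_mul, one_mul, mul_one, vecMulVec_mul_vecMulVec, ← add_assoc, add_assoc (1 : Matrix κ κ F)]
    ext i j
    simp only [Matrix.add_apply, Pi.smul_apply, smul_eq_mul, vecMulVec_apply]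
    linear_combination (u i * φ j) * h

theorem inv2_mulVec (u φ : κ → F) (h : φ ⬝ᵥ u + 2 = 0) (x : κ → F) :
    (inv2 u φ h : Matrix κ κ F) *ᵥ x = x + (φ ⬝ᵥ x) • u := by
  show (1 + vecMulVec u φ) *ᵥ x = _
  rw [add_mulVec, one_mulVec, vecMulVec_mulVec, op_smul_eq_smul]

theorem inv2_det (u φ : κ → F) (h : φ ⬝ᵥ u + 2 = 0) : (inv2 u φ h : Matrix κ κ F).det = -1 := by
  show (1 + vecMulVec u φ).det = -1
  rw [vecMulVec_eq Unit, det_one_add_replicateCol_mul_replicateRow]
  linear_combination h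


/-- For a finite field F with q elements and n ≥ 13, let D be a decomposition of F^n into t ≥ 2 independent subspaces of equal dimension m spanning F^n, where m = 1 and q ≤ 4, or m = 2 and q = 2. Then the elements of SL_n(F) permuting the members of D form a subgroup that is not maximal: some subgroup lies strictly between it and SL_n(F). -/
theorem result {F : Type*} [Field F] [Fintype F] (n : ℕ) (hn : 13 ≤ n) {t : ℕ} (m : ℕ) (D : Fin t → Submodule F (Fin n → F)) (hD : Cfsg.Geo.IsMDecomposition m D) (h : (m = 1 ∧ Fintype.card F ≤ 4) ∨ (m = 2 ∧ Fintype.card F = 2)) : ∃ K : Subgroup (Matrix.GeneralLinearGroup (Fin n) F), Cfsg.Geo.decompositionStabilizer D ⊓ Cfsg.Geo.specialLinear (Fin n) F < K ∧ K < Cfsg.Geo.specialLinear (Fin n) F := by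
  classical
  obtain ⟨B, hBmem, hrep⟩ : ∃ B : Module.Basis (Σ _ : Fin t, Fin m) F (Fin n → F), (∀ k, B k ∈ D k.1) ∧
      ∀ i l, i ≠ l → ∀ x ∈ D i, ∀ j, B.repr x ⟨l, j⟩ = 0 := by
    have hI : DirectSum.IsInternal D :=
      (DirectSum.isInternal_submodule_iff_iSupIndep_and_iSup_eq_top D).2 ⟨hD.indep, hD.iSup_eq_top⟩
    let v := fun i => Module.finBasisOfFinrankEq F (D i) (hD.finrank_eq i)
    exact ⟨hI.collectedBasis v, hI.collectedBasis_mem v, fun i l hil x hx j => hI.collectedBasis_repr_of_mem_ne v hil hx⟩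
  have hcard : t * m = n := by
    have := Module.finrank_eq_card_basis B
    simp at this
    omega
  have hmem : ∀ (x : Fin n → F) i, (∀ l, l ≠ i → ∀ j, B.repr x ⟨l, j⟩ = 0) → x ∈ D i := by
    intro x i hx
    rw [← B.sum_repr x]
    refine Submodule.sum_mem _ fun k _ => ?_
    obtain ⟨l, j⟩ := k
    rcases eq_or_ne l i with rfl | hl
    · exact Submodule.smul_mem _ _ (hBmem ⟨l, j⟩)
    · rw [hx l hl j, zero_smul]; exact Submodule.zero_mem _
  obtain ⟨nz, hnz⟩ : ∃ nz : (Fin n → F) → Fin t → Prop, nz = fun x i => ∃ j, B.repr x ⟨i, j⟩ ≠ 0 := ⟨_, rfl⟩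
  obtain ⟨N, hN⟩ : ∃ N : (Fin n → F) → F, N = fun x => ∑ i, if nz x i then 1 else 0 := ⟨_, rfl⟩
  -- the stabiliser preserves the weight
  have hstep : ∀ (g : Matrix.GeneralLinearGroup (Fin n) F) (σ : Equiv.Perm (Fin t)),
      (∀ i, ∀ y ∈ D i, (g : Matrix (Fin n) (Fin n) F) *ᵥ y ∈ D (σ i)) →
      ∀ x i, nz ((g : Matrix (Fin n) (Fin n) F) *ᵥ x) (σ i) → nz x i := by
    intro g σ hg x i
    rw [hnz]
    rintro ⟨j, hj⟩
    by_contra hcon
    push Not at hcon
    refine hj ?_
    conv_lhs => rw [← B.sum_repr x, Matrix.mulVec_sum, map_sum]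
    rw [Finsupp.finsetSum_apply]
    refine Finset.sum_eq_zero fun k _ => ?_
    obtain ⟨l, j'⟩ := k
    rcases eq_or_ne l i with rfl | hl
    · rw [hcon j', zero_smul, Matrix.mulVec_zero, map_zero, Finsupp.coe_zero, Pi.zero_apply]
    · rw [Matrix.mulVec_smul, map_smul, Finsupp.smul_apply,
        hrep (σ l) (σ i) (fun h => hl (σ.injective h)) _ (hg l _ (hBmem ⟨l, j'⟩)) j, smul_zero]
  have hpres : ∀ g ∈ Cfsg.Geo.decompositionStabilizer D, g ∈ Cfsg.isometryGroup F N := by
    rintro g ⟨σ, hσ⟩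
    intro x y
    show N ((g : Matrix (Fin n) (Fin n) F) *ᵥ x) = N x
    rw [hN]
    dsimp only
    rw [← Equiv.sum_comp σ]
    refine Finset.sum_congr rfl fun i _ => if_congr ⟨hstep g σ (fun i y hy => hσ i ▸ ⟨y, hy, Matrix.toLin'_apply _ y⟩) x i,
      fun h => ?_⟩ rfl rfl
    have h' := hstep g⁻¹ σ.symm (fun l y hy => ?_) ((g : Matrix (Fin n) (Fin n) F) *ᵥ x) (σ i)
      (by rw [Equiv.symm_apply_apply, gl_inv_mulVec]; exact h)
    · exact h'
    · have := hσ (σ.symm l)
      rw [Equiv.apply_symm_apply] at this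
      rw [← this] at hy
      obtain ⟨z, hz, rfl⟩ := hy
      rw [Matrix.toLin'_apply, gl_inv_mulVec]
      exact hz
  have hzero : ∀ g ∈ Cfsg.Geo.decompositionStabilizer D, ∀ k a b, a ≠ b →
      nz ((g : Matrix (Fin n) (Fin n) F) *ᵥ B k) a → nz ((g : Matrix (Fin n) (Fin n) F) *ᵥ B k) b → False := by
    rintro g ⟨σ, hσ⟩ k a b hab ha hb
    rw [hnz] at ha hb
    obtain ⟨ja, hja⟩ := ha
    obtain ⟨jb, hjb⟩ := hb
    have hk : (g : Matrix (Fin n) (Fin n) F) *ᵥ B k ∈ D (σ k.1) := hσ k.1 ▸ ⟨_, hBmem k, Matrix.toLin'_apply _ _⟩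
    rcases eq_or_ne (σ k.1) a with h | h
    · exact hjb (hrep a b hab _ (h ▸ hk) jb)
    · exact hja (hrep _ a h _ hk ja)
  have hdot : ∀ (L : (Fin n → F) →ₗ[F] F) x, fvec L ⬝ᵥ x = L x := fvec_dot
  have h2t : 2 ≤ t := hD.two_le
  have hcoord : ∀ k l, B.repr (B k) l = if l = k then 1 else 0 := fun k l => by
    rw [B.repr_self, Finsupp.single_apply]; exact if_congr eq_comm rfl rfl
  obtain ⟨g, hgS, hgN, hgD⟩ : ∃ g : Matrix.GeneralLinearGroup (Fin n) F, g ∈ Cfsg.Geo.specialLinear (Fin n) F ∧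
      g ∈ Cfsg.isometryGroup F N ∧ g ∉ Cfsg.Geo.decompositionStabilizer D := by
    rcases h with ⟨rfl, hq⟩ | ⟨rfl, hq⟩
    · -- one-dimensional members
      have ht : 13 ≤ t := by omega
      have hval : ∀ x i, (if nz x i then (1 : F) else 0) = (B.repr x ⟨i, 0⟩) ^ (Fintype.card F - 1) := by
        intro x i
        rw [hnz]
        split_ifs with hh
        · obtain ⟨j, hj⟩ := hh
          rw [Subsingleton.elim j 0] at hj
          rw [FiniteField.pow_card_sub_one_eq_one _ hj]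
        · push Not at hh
          rw [hh 0, zero_pow (by have := Fintype.one_lt_card (α := F); omega)]
      have halg : ∀ a : Fin 4 → F, ∑ k, (a k + ∑ l, a l) ^ (Fintype.card F - 1) = ∑ k, a k ^ (Fintype.card F - 1) ∧
          (4 : F) + 2 = 0 := by
        intro a
        have hlt := Fintype.one_lt_card (α := F)
        have hc := FiniteField.cast_card_eq_zero F
        rcases (show Fintype.card F = 2 ∨ Fintype.card F = 3 ∨ Fintype.card F = 4 by omega) with h' | h' | h' <;>
          rw [h'] at hc ⊢ <;> simp only [Fin.sum_univ_four, Nat.reduceSub, pow_one]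
        · have h2 : (2 : F) = 0 := by exact_mod_cast hc
          exact ⟨by linear_combination (2 * (a 0 + a 1 + a 2 + a 3)) * h2, by linear_combination 3 * h2⟩
        · have h3 : (3 : F) = 0 := by exact_mod_cast hc
          exact ⟨by linear_combination (2 * (a 0 + a 1 + a 2 + a 3) ^ 2) * h3, by linear_combination 2 * h3⟩
        · have h2 : (2 : F) = 0 := by
            have h4 : (4 : F) = 0 := by exact_mod_cast hc
            have : (2 : F) * 2 = 0 := by rw [← h4]; norm_num
            simpa using this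
          exact ⟨by linear_combination (5 * (a 0 + a 1 + a 2 + a 3) ^ 3 - 3 * (a 0 + a 1 + a 2 + a 3) *
            (a 0 * a 1 + a 0 * a 2 + a 0 * a 3 + a 1 * a 2 + a 1 * a 3 + a 2 * a 3)) * h2, by linear_combination 3 * h2⟩
      have hmk : ∀ e : Fin 4 → Fin t, Function.Injective e → ∃ (r : Matrix.GeneralLinearGroup (Fin n) F),
          (r : Matrix (Fin n) (Fin n) F).det = -1 ∧ r ∈ Cfsg.isometryGroup F N ∧
          ∀ x, (r : Matrix (Fin n) (Fin n) F) *ᵥ x = x + (∑ k, B.repr x ⟨e k, 0⟩) • ∑ k, B ⟨e k, 0⟩ := by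
        intro e he
        let L : (Fin n → F) →ₗ[F] F := ∑ k, B.coord ⟨e k, 0⟩
        have hL : ∀ x, fvec L ⬝ᵥ x = ∑ k, B.repr x ⟨e k, 0⟩ := fun x => by
          rw [hdot L]; simp [L]
        have hu : ∀ i, B.repr (∑ k, B ⟨e k, 0⟩) ⟨i, 0⟩ = if ∃ k, e k = i then (1 : F) else 0 := by
          intro i
          rw [map_sum, Finsupp.finsetSum_apply]
          split_ifs with hh
          · obtain ⟨k, rfl⟩ := hh
            rw [Finset.sum_eq_single k (fun l _ hl => by
              rw [hcoord, if_neg]; exact fun hh => hl (he (Sigma.mk.inj hh).1).symm) (fun hh => absurd (Finset.mem_univ k) hh),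
              hcoord, if_pos rfl]
          · exact Finset.sum_eq_zero fun l _ => by
              rw [hcoord, if_neg]; exact fun h' => hh ⟨l, (Sigma.mk.inj h').1.symm⟩
        have h42 : fvec L ⬝ᵥ (∑ k, B ⟨e k, 0⟩) + 2 = 0 := by
          rw [hL, Finset.sum_congr rfl fun k _ => by rw [hu (e k), if_pos ⟨k, rfl⟩]]
          simpa using (halg 0).2
        refine ⟨inv2 _ _ h42, inv2_det _ _ h42, fun x y => ?_, fun x => by rw [inv2_mulVec, hL]⟩
        show N ((inv2 _ _ h42 : Matrix (Fin n) (Fin n) F) *ᵥ x) = N x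
        rw [inv2_mulVec, hL, hN]
        dsimp only
        simp only [hval, map_add, map_smul, Finsupp.add_apply, Finsupp.smul_apply, hu, smul_eq_mul]
        rw [← sub_eq_zero, ← Finset.sum_sub_distrib, ← Finset.sum_subset (Finset.subset_univ (Finset.univ.map ⟨e, he⟩))
          (fun i _ hi => by
            rw [if_neg (fun ⟨k, hk⟩ => hi (Finset.mem_map.2 ⟨k, Finset.mem_univ k, hk⟩)), mul_zero, add_zero, sub_self]),
          Finset.sum_map, Finset.sum_sub_distrib, sub_eq_zero]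
        simp only [Function.Embedding.coeFn_mk]
        rw [Finset.sum_congr rfl fun k _ => by rw [if_pos ⟨k, rfl⟩, mul_one]]
        exact (halg fun k => B.repr x ⟨e k, 0⟩).1
      let e₁ : Fin 4 → Fin t := fun k => ⟨k.1, by omega⟩
      let e₂ : Fin 4 → Fin t := fun k => ⟨k.1 + 4, by omega⟩
      have he₁ : Function.Injective e₁ := fun a b hab => by
        have := congrArg Fin.val hab
        exact Fin.ext this
      obtain ⟨r₁, hd₁, hN₁, hx₁⟩ := hmk e₁ he₁
      obtain ⟨r₂, hd₂, hN₂, hx₂⟩ := hmk e₂ fun a b hab => by simpa [e₂, Fin.ext_iff] using hab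
      refine ⟨r₁ * r₂, Units.ext ?_, mul_mem hN₁ hN₂, fun hst => ?_⟩
      · show ((r₁ * r₂ : Matrix.GeneralLinearGroup (Fin n) F) : Matrix (Fin n) (Fin n) F).det = 1
        rw [Units.val_mul, Matrix.det_mul, hd₁, hd₂, neg_one_mul, neg_neg]
      · have h1 : ∀ i, i ∈ ({1, 2} : Finset (Fin 4)) →
            nz (((r₁ * r₂ : Matrix.GeneralLinearGroup (Fin n) F) : Matrix (Fin n) (Fin n) F) *ᵥ B ⟨e₁ 0, 0⟩) (e₁ i) := by
          intro i hi
          rw [hnz]
          refine ⟨0, ?_⟩
          rw [gl_mul_mulVec, hx₂, Finset.sum_eq_zero fun k _ => by rw [hcoord, if_neg]; simp [e₁, e₂],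
            zero_smul, add_zero, hx₁]
          have h2 : ∀ k : Fin 4, B.repr (B ⟨e₁ 0, 0⟩) ⟨e₁ k, 0⟩ = if k = 0 then (1 : F) else 0 := fun k => by
            rw [hcoord]; exact if_congr ⟨fun hh => he₁ (Sigma.mk.inj hh).1, fun hh => by rw [hh]⟩ rfl rfl
          rw [Finset.sum_congr rfl fun k _ => h2 k, Finset.sum_ite_eq', if_pos (Finset.mem_univ _), one_smul, map_add,
            Finsupp.add_apply, h2 i, map_sum, Finsupp.finsetSum_apply]
          rw [if_neg (by rintro rfl; simp at hi), zero_add, Finset.sum_eq_single i (fun l _ hl => by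
            rw [hcoord, if_neg]; exact fun hh => hl (he₁ (Sigma.mk.inj hh).1).symm) (by simp), hcoord,
            if_pos rfl]
          exact one_ne_zero
        exact hzero _ hst _ _ _ (by simp [e₁]) (h1 1 (by simp)) (h1 2 (by simp))
    · -- planes over the field with two elements
      have ht : 3 ≤ t := by omega
      have h2 : (2 : F) = 0 := by
        have := FiniteField.cast_card_eq_zero F
        rw [hq] at this
        exact_mod_cast this
      have h01 : ∀ a : F, a = 0 ∨ a = 1 := fun a => by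
        rcases eq_or_ne a 0 with h | h
        · exact Or.inl h
        · exact Or.inr (by simpa [hq] using FiniteField.pow_card_sub_one_eq_one a h)
      have hval : ∀ x i, (if nz x i then (1 : F) else 0) =
          B.repr x ⟨i, 0⟩ + B.repr x ⟨i, 1⟩ + B.repr x ⟨i, 0⟩ * B.repr x ⟨i, 1⟩ := by
        intro x i
        rw [hnz]
        rcases h01 (B.repr x ⟨i, 0⟩) with h0 | h0 <;> rcases h01 (B.repr x ⟨i, 1⟩) with h1 | h1 <;>
          simp [Fin.exists_fin_two, h0, h1]
        linear_combination h2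
      let e : Fin 3 → Fin t := fun k => ⟨k.1, by omega⟩
      have he : Function.Injective e := fun a b hab => by simpa [e, Fin.ext_iff] using hab
      let L : (Fin n → F) →ₗ[F] F := ∑ k, B.coord ⟨e k, 1⟩
      have hL : ∀ x, fvec L ⬝ᵥ x = ∑ k, B.repr x ⟨e k, 1⟩ := fun x => by
        rw [hdot L]; simp [L]
      have hu : ∀ i j, B.repr (∑ k, B ⟨e k, 0⟩) ⟨i, j⟩ = if (∃ k, e k = i) ∧ j = 0 then (1 : F) else 0 := by
        intro i j
        rw [map_sum, Finsupp.finsetSum_apply]
        split_ifs with hh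
        · obtain ⟨⟨k, rfl⟩, rfl⟩ := hh
          rw [Finset.sum_eq_single k (fun l _ hl => by
            rw [hcoord, if_neg]; exact fun hh => hl (he (Sigma.mk.inj hh).1).symm) (fun hh => absurd (Finset.mem_univ k) hh),
            hcoord, if_pos rfl]
        · refine Finset.sum_eq_zero fun l _ => ?_
          rw [hcoord, if_neg]
          intro h'
          obtain ⟨h'1, h'2⟩ := Sigma.mk.inj h'
          exact hh ⟨⟨l, h'1.symm⟩, eq_of_heq h'2⟩
      have h0 : fvec L ⬝ᵥ (∑ k, B ⟨e k, 0⟩) = 0 := by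
        rw [hL]
        exact Finset.sum_eq_zero fun k _ => by rw [hu, if_neg (fun hh => one_ne_zero hh.2)]
      refine ⟨tv _ _ h0, tv_mem_SL _ _ _, fun x y => ?_, fun hst => ?_⟩
      · show N ((tv _ _ h0 : Matrix (Fin n) (Fin n) F) *ᵥ x) = N x
        rw [tv_mulVec, hL, hN]
        dsimp only
        simp only [hval, map_add, map_smul, Finsupp.add_apply, Finsupp.smul_apply, hu, smul_eq_mul,
          one_ne_zero, and_false, and_true, if_false, mul_zero, add_zero]
        rw [← sub_eq_zero, ← Finset.sum_sub_distrib, ← Finset.sum_subset (Finset.subset_univ (Finset.univ.map ⟨e, he⟩))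
          (fun i _ hi => by
            rw [if_neg (fun ⟨k, hk⟩ => hi (Finset.mem_map.2 ⟨k, Finset.mem_univ k, hk⟩)), mul_zero, add_zero, sub_self]),
          Finset.sum_map]
        simp only [Function.Embedding.coeFn_mk]
        rw [Finset.sum_congr rfl fun k _ => by rw [if_pos ⟨k, rfl⟩, mul_one]]
        have hsq : ∀ a : F, a * a = a := fun a => by rcases h01 a with rfl | rfl <;> simp
        simp only [Fin.sum_univ_three]
        have := hsq (B.repr x ⟨e 0, 1⟩ + B.repr x ⟨e 1, 1⟩ + B.repr x ⟨e 2, 1⟩)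
        linear_combination this + (2 * (B.repr x ⟨e 0, 1⟩ + B.repr x ⟨e 1, 1⟩ + B.repr x ⟨e 2, 1⟩)) * h2
      · refine hzero _ hst ⟨e 0, 1⟩ (e 1) (e 2) (by simp [e]) ?_ ?_ <;>
        · rw [hnz, tv_mulVec, hL, Finset.sum_eq_single (0 : Fin 3) (fun l _ hl => by
              rw [hcoord, if_neg]; exact fun hh => hl (he (Sigma.mk.inj hh).1)) (by simp), hcoord, if_pos rfl, one_smul]
          refine ⟨0, ?_⟩
          rw [map_add, Finsupp.add_apply, hcoord, hu, if_neg (by simp [e]), if_pos ⟨⟨_, rfl⟩, rfl⟩, zero_add]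
          exact one_ne_zero
  refine ⟨Cfsg.isometryGroup F N ⊓ Cfsg.Geo.specialLinear (Fin n) F,
    lt_of_le_of_ne (le_inf (inf_le_left.trans hpres) inf_le_right)
      (fun heq => hgD (heq ▸ Subgroup.mem_inf.2 ⟨hgN, hgS⟩ : g ∈ Cfsg.Geo.decompositionStabilizer D ⊓ _).1),
    lt_SL_of_not_le fun hle => ?_⟩
  let k₀ : Σ _ : Fin t, Fin m := ⟨⟨0, by omega⟩, ⟨0, hD.pos⟩⟩
  let k₁ : Σ _ : Fin t, Fin m := ⟨⟨1, by omega⟩, ⟨0, hD.pos⟩⟩
  have hφ : fvec (B.coord k₀) ⬝ᵥ B k₁ = 0 := by
    rw [hdot, Module.Basis.coord_apply, hcoord, if_neg]; simp [k₀, k₁]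
  have h1 : ∀ i, nz (B k₀) i ↔ i = k₀.1 := by
    intro i
    rw [hnz]
    refine ⟨fun ⟨j, hj⟩ => by_contra fun hne => hj (hrep _ i (Ne.symm hne) _ (hBmem k₀) j), fun hi => ⟨k₀.2, ?_⟩⟩
    subst hi
    rw [hcoord, if_pos rfl]; exact one_ne_zero
  have h2 : ∀ i, nz (B k₀ + B k₁) i ↔ i = k₀.1 ∨ i = k₁.1 := by
    intro i
    rw [hnz]
    simp only [map_add, Finsupp.add_apply]
    constructor
    · rintro ⟨j, hj⟩
      by_contra hne
      push Not at hne
      exact hj (by rw [hrep _ i (Ne.symm hne.1) _ (hBmem k₀) j, hrep _ i (Ne.symm hne.2) _ (hBmem k₁) j, add_zero])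
    · rintro (rfl | rfl)
      · refine ⟨k₀.2, ?_⟩
        rw [hrep k₁.1 k₀.1 (by simp [k₀, k₁]) _ (hBmem k₁), hcoord, if_pos rfl, add_zero]; exact one_ne_zero
      · refine ⟨k₁.2, ?_⟩
        rw [hrep k₀.1 k₁.1 (by simp [k₀, k₁]) _ (hBmem k₀), hcoord, if_pos rfl, zero_add]; exact one_ne_zero
  have := hle (tv_mem_SL (B k₁) (fvec (B.coord k₀)) hφ) (B k₀) 0
  change N ((tv _ _ hφ : Matrix (Fin n) (Fin n) F) *ᵥ B k₀) = N (B k₀) at this
  rw [tv_mulVec, hdot, Module.Basis.coord_apply, hcoord, if_pos rfl, one_smul, hN] at this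
  dsimp only at this
  rw [Finset.sum_congr rfl (fun i _ => if_congr (h2 i) rfl rfl), Finset.sum_congr rfl (fun i _ => if_congr (h1 i) rfl rfl),
    Finset.sum_ite_eq', if_pos (Finset.mem_univ _), Finset.sum_boole,
    show (Finset.univ.filter fun i => i = k₀.1 ∨ i = k₁.1) = {k₀.1, k₁.1} by ext; simp,
    Finset.card_pair (by simp [k₀, k₁])] at this
  exact one_ne_zero (show (1 : F) = 0 by push_cast at this; linear_combination this)

end Cfsg.Agent.S5635
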