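import Cfsg.Statements.S5638
-- import your own Cfsg.Agent.* helpers here

import Mathlib

set_option autoImplicit false
open Cfsg

namespace Cfsg.Agent.S5638
open Matrix
open scoped Kronecker

/-- Over the field with 2 elements, for n = 2 n₂ ≥ 13, the stabiliser in SL_n of a tensor decomposition with factors of dimensions 2 and n₂ (the conjugate by any P of the Kronecker-product subgroup transported along any bijection Fin n ≃ Fin 2 × Fin n₂, intersected with SL_n) is not a maximal subgroup: some subgroup lies strictly between it and SL_n. -/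
theorem result {F : Type*} [Field F] [Fintype F] (n : ℕ) (hn : 13 ≤ n) (hq : Fintype.card F = 2) (n₂ : ℕ) (e : Fin n ≃ Fin 2 × Fin n₂) (P : Matrix.GeneralLinearGroup (Fin n) F) : ∃ K : Subgroup (Matrix.GeneralLinearGroup (Fin n) F), Cfsg.Geo.tensorProductSubgroup 2 n₂ e P ⊓ Cfsg.Geo.specialLinear (Fin n) F < K ∧ K < Cfsg.Geo.specialLinear (Fin n) F := by
  classical
  have hn₂ : 2 ≤ n₂ := by
    have := Fintype.card_congr e
    simp at this
    omega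
  have h2 : (2 : F) = 0 := by
    have := FiniteField.cast_card_eq_zero F
    rw [hq] at this
    exact_mod_cast this
  have hSL : ∀ g : Matrix.GeneralLinearGroup (Fin n) F, g ∈ Cfsg.Geo.specialLinear (Fin n) F := by
    intro g
    refine MonoidHom.mem_ker.2 (Units.ext ?_)
    have h0 : (Matrix.GeneralLinearGroup.det g : F) ≠ 0 := Units.ne_zero _
    have := FiniteField.pow_card_sub_one_eq_one _ h0
    rwa [hq, Nat.add_one_sub_one, pow_one] at this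
  obtain ⟨Φ, hΦ⟩ : ∃ Φ : Matrix.GeneralLinearGroup (Fin 2 × Fin n₂) F ≃* Matrix.GeneralLinearGroup (Fin n) F,
      Cfsg.Geo.tensorProductSubgroup 2 n₂ e P = (Cfsg.Geo.kroneckerSubgroup 2 n₂ F).map Φ.toMonoidHom :=
    ⟨(Cfsg.Geo.glReindex e.symm).trans (MulAut.conj P), by rw [Cfsg.Geo.tensorProductSubgroup, Subgroup.map_map]; rfl⟩
  -- the element of order three
  let ω : Matrix.GeneralLinearGroup (Fin 2) F :=
    ⟨!![0, 1; 1, 1], !![1, 1; 1, 0], by ext i j; fin_cases i <;> fin_cases j <;> simp [one_add_one_eq_two, h2],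
      by ext i j; fin_cases i <;> fin_cases j <;> simp [one_add_one_eq_two, h2]⟩
  have hω3 : orderOf ω = 3 := by
    haveI : Fact (Nat.Prime 3) := ⟨by norm_num⟩
    refine orderOf_eq_prime (Units.ext ?_) fun hh => ?_
    · show ((ω ^ 3 : Matrix.GeneralLinearGroup (Fin 2) F) : Matrix (Fin 2) (Fin 2) F) = 1
      rw [pow_succ, pow_two, Units.val_mul, Units.val_mul]
      show (!![0, 1; 1, 1] : Matrix (Fin 2) (Fin 2) F) * !![0, 1; 1, 1] * !![0, 1; 1, 1] = 1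
      have hall : ∀ a : F, a + a = 0 := fun a => by rw [← two_mul, h2, zero_mul]
      ext i j
      fin_cases i <;> fin_cases j <;> simp only [Matrix.mul_apply, Fin.sum_univ_two, Matrix.one_apply] <;>
        simp only [Matrix.of_apply, Matrix.cons_val', Matrix.cons_val_zero, Matrix.cons_val_one, Matrix.cons_val_fin_one,
          Fin.zero_eta, Fin.mk_one, Fin.isValue, mul_zero, zero_mul, mul_one, one_mul, add_zero, zero_add, if_true,
          zero_ne_one, one_ne_zero, if_false, hall]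
    · have h' : (ω : Matrix (Fin 2) (Fin 2) F) = 1 := by rw [hh, Units.val_one]
      have := congrArg (fun M : Matrix (Fin 2) (Fin 2) F => M 0 0) h'
      simp [ω] at this
  have hnorm : (Subgroup.zpowers ω).Normal := by
    refine Subgroup.normal_of_index_eq_two ?_
    have h6 : Nat.card (Matrix.GeneralLinearGroup (Fin 2) F) = 6 := by
      rw [Matrix.card_GL_field, Fin.prod_univ_two, hq]; norm_num
    have := (Subgroup.zpowers ω).card_mul_index
    rw [Nat.card_zpowers, hω3, h6] at this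
    omega
  let κ₀ : Matrix (Fin 2) (Fin 2) F →* Matrix (Fin 2 × Fin n₂) (Fin 2 × Fin n₂) F :=
    { toFun := fun a => a ⊗ₖ (1 : Matrix (Fin n₂) (Fin n₂) F)
      map_one' := Matrix.one_kronecker_one
      map_mul' := fun a b => by rw [← Matrix.mul_kronecker_mul, one_mul] }
  let κ : Matrix.GeneralLinearGroup (Fin 2) F →* Matrix.GeneralLinearGroup (Fin 2 × Fin n₂) F := Units.map κ₀
  have hκ : ∀ a, (κ a : Matrix (Fin 2 × Fin n₂) (Fin 2 × Fin n₂) F) = (a : Matrix (Fin 2) (Fin 2) F) ⊗ₖ 1 := fun a => rfl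
  obtain ⟨N₀, hN₀⟩ : ∃ N₀, N₀ = Subgroup.normalizer ((Subgroup.zpowers (κ ω) : Subgroup _) : Set (Matrix.GeneralLinearGroup (Fin 2 × Fin n₂) F)) :=
    ⟨_, rfl⟩
  have hmem : ∀ g : Matrix.GeneralLinearGroup (Fin 2 × Fin n₂) F, g ∈ N₀ ↔
      g * κ ω * g⁻¹ ∈ Subgroup.zpowers (κ ω) := by
    intro g
    rw [hN₀]
    refine ⟨fun hg => (Subgroup.mem_normalizer_iff.1 hg _).1 (Subgroup.mem_zpowers _), fun hg => ?_⟩
    haveI : Finite (Matrix.GeneralLinearGroup (Fin 2 × Fin n₂) F) := inferInstance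
    have hle : (Subgroup.zpowers (κ ω)).map (MulAut.conj g).toMonoidHom ≤ Subgroup.zpowers (κ ω) := by
      rw [MonoidHom.map_zpowers, Subgroup.zpowers_le]
      exact hg
    have heq : (Subgroup.zpowers (κ ω)).map (MulAut.conj g).toMonoidHom = Subgroup.zpowers (κ ω) :=
      Subgroup.eq_of_le_of_card_ge hle (by
        rw [← Nat.card_congr (Subgroup.equivMapOfInjective _ _ (MulAut.conj g).injective).toEquiv])
    rw [Subgroup.mem_normalizer_iff]
    intro y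
    constructor
    · exact fun hy => heq ▸ ⟨y, hy, rfl⟩
    · intro hy
      obtain ⟨z, hz, hzy⟩ := (heq.symm ▸ hy : g * y * g⁻¹ ∈ (Subgroup.zpowers (κ ω)).map (MulAut.conj g).toMonoidHom)
      exact (MulAut.conj g).injective hzy ▸ hz
  have hH : Cfsg.Geo.kroneckerSubgroup 2 n₂ F ≤ N₀ := by
    rintro g ⟨a, b, hg⟩
    obtain ⟨i, hi⟩ := hnorm.conj_mem ω (Subgroup.mem_zpowers ω) a
    rw [hmem]
    refine ⟨i, ?_⟩
    have hi' : ω ^ i = a * ω * a⁻¹ := hi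
    show κ ω ^ i = g * κ ω * g⁻¹
    rw [← map_zpow, hi', eq_mul_inv_iff_mul_eq]
    refine Units.ext ?_
    rw [Units.val_mul, Units.val_mul, hκ, hκ, hg, ← Matrix.mul_kronecker_mul, ← Matrix.mul_kronecker_mul, ← Units.val_mul,
      inv_mul_cancel_right, one_mul, mul_one, Units.val_mul]
  let j0 : Fin n₂ := ⟨0, by omega⟩
  let j1 : Fin n₂ := ⟨1, by omega⟩
  have hj : j0 ≠ j1 := by simp [j0, j1]
  obtain ⟨E, hE⟩ : ∃ E : Matrix (Fin n₂) (Fin n₂) F, E = Matrix.single j0 j1 1 := ⟨_, rfl⟩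
  have hEE : E * E = 0 := by rw [hE, Matrix.single_mul_single_of_ne]; exact hj.symm
  -- an element of the centraliser outside the Kronecker subgroup
  let g₀ : Matrix.GeneralLinearGroup (Fin 2 × Fin n₂) F :=
    ⟨1 + (ω : Matrix (Fin 2) (Fin 2) F) ⊗ₖ E, 1 - (ω : Matrix (Fin 2) (Fin 2) F) ⊗ₖ E,
      by rw [add_mul, mul_sub, mul_sub, one_mul, one_mul, mul_one, ← Matrix.mul_kronecker_mul, hEE]; simp,
      by rw [sub_mul, mul_add, mul_add, one_mul, one_mul, mul_one, ← Matrix.mul_kronecker_mul, hEE]; simp⟩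
  have hg₀N : g₀ ∈ N₀ := by
    rw [hmem]
    have hc : g₀ * κ ω = κ ω * g₀ := Units.ext (by
      rw [Units.val_mul, Units.val_mul, hκ, show (g₀ : Matrix _ _ F) = 1 + (ω : Matrix (Fin 2) (Fin 2) F) ⊗ₖ E from rfl,
        add_mul, mul_add, one_mul, mul_one, ← Matrix.mul_kronecker_mul, ← Matrix.mul_kronecker_mul, one_mul, mul_one])
    rw [hc, mul_inv_cancel_right]
    exact Subgroup.mem_zpowers _
  have hg₀H : g₀ ∉ Cfsg.Geo.kroneckerSubgroup 2 n₂ F := by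
    rintro ⟨a, b, hab⟩
    have h00 := congrFun (congrFun hab (0, j0)) (0, j0)
    have h01 := congrFun (congrFun hab (0, j0)) (1, j0)
    have h11 := congrFun (congrFun hab (0, j0)) (1, j1)
    simp [g₀, ω, hE, hj, hj.symm, Matrix.kroneckerMap_apply, Matrix.single] at h00 h01 h11
    rcases h01 with h | h
    · rw [h, zero_mul] at h11; exact one_ne_zero h11
    · rw [h, mul_zero] at h00; exact one_ne_zero h00
  -- an element not normalising
  let σ₂ : Matrix (Fin 2) (Fin 2) F := !![0, 1; 1, 0]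
  obtain ⟨E₀, hE₀⟩ : ∃ E₀ : Matrix (Fin n₂) (Fin n₂) F, E₀ = Matrix.single j0 j0 1 := ⟨_, rfl⟩
  have hE₀₀ : E₀ * E₀ = E₀ := by rw [hE₀, Matrix.single_mul_single_same, one_mul]
  have hσσ : σ₂ * σ₂ = 1 := by ext i j; fin_cases i <;> fin_cases j <;> simp [σ₂]
  have hsum : ∀ A B : Matrix (Fin 2) (Fin 2) F, (A ⊗ₖ E₀ + B ⊗ₖ (1 - E₀)) * (σ₂ ⊗ₖ E₀ + (1 : Matrix (Fin 2) (Fin 2) F) ⊗ₖ (1 - E₀)) =
      (A * σ₂) ⊗ₖ E₀ + B ⊗ₖ (1 - E₀) := by
    intro A B
    rw [add_mul, mul_add, mul_add, ← Matrix.mul_kronecker_mul, ← Matrix.mul_kronecker_mul, ← Matrix.mul_kronecker_mul,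
      ← Matrix.mul_kronecker_mul, mul_sub, mul_sub, sub_mul, sub_mul, mul_one, one_mul, hE₀₀]
    simp [hE₀₀]
  have hone : (1 : Matrix (Fin 2 × Fin n₂) (Fin 2 × Fin n₂) F) =
      (1 : Matrix (Fin 2) (Fin 2) F) ⊗ₖ E₀ + (1 : Matrix (Fin 2) (Fin 2) F) ⊗ₖ (1 - E₀) := by
    rw [← Matrix.kronecker_add, add_sub_cancel, Matrix.one_kronecker_one]
  let s₀ : Matrix.GeneralLinearGroup (Fin 2 × Fin n₂) F :=
    ⟨σ₂ ⊗ₖ E₀ + (1 : Matrix (Fin 2) (Fin 2) F) ⊗ₖ (1 - E₀), σ₂ ⊗ₖ E₀ + (1 : Matrix (Fin 2) (Fin 2) F) ⊗ₖ (1 - E₀),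
      by rw [hsum, hσσ, ← hone], by rw [hsum, hσσ, ← hone]⟩
  have hs₀ : s₀ ∉ N₀ := by
    rw [hmem]
    intro hh
    obtain ⟨i, hi⟩ := hh
    have hsame : ∀ a : Matrix.GeneralLinearGroup (Fin 2) F, (κ a : Matrix (Fin 2 × Fin n₂) (Fin 2 × Fin n₂) F) ((0 : Fin 2), j0) ((0 : Fin 2), j0) = (κ a : Matrix (Fin 2 × Fin n₂) (Fin 2 × Fin n₂) F) ((0 : Fin 2), j1) ((0 : Fin 2), j1) :=
      fun a => by simp [hκ, Matrix.kroneckerMap_apply]
    have h3 := hsame (ω ^ i)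
    rw [map_zpow, show κ ω ^ i = s₀ * κ ω * s₀⁻¹ from hi, Units.val_mul, Units.val_mul, hκ] at h3
    have hconj : (σ₂ ⊗ₖ E₀ + (1 : Matrix (Fin 2) (Fin 2) F) ⊗ₖ (1 - E₀)) *
        ((ω : Matrix (Fin 2) (Fin 2) F) ⊗ₖ (1 : Matrix (Fin n₂) (Fin n₂) F)) *
        (σ₂ ⊗ₖ E₀ + (1 : Matrix (Fin 2) (Fin 2) F) ⊗ₖ (1 - E₀)) =
        ((σ₂ * (ω : Matrix (Fin 2) (Fin 2) F)) * σ₂) ⊗ₖ E₀ + (ω : Matrix (Fin 2) (Fin 2) F) ⊗ₖ (1 - E₀) := by
      rw [add_mul (σ₂ ⊗ₖ E₀), ← Matrix.mul_kronecker_mul, ← Matrix.mul_kronecker_mul, one_mul, mul_one, mul_one, hsum]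
    rw [show (s₀ : Matrix (Fin 2 × Fin n₂) (Fin 2 × Fin n₂) F) = σ₂ ⊗ₖ E₀ + (1 : Matrix (Fin 2) (Fin 2) F) ⊗ₖ (1 - E₀) from rfl,
      show ((s₀⁻¹ : Matrix.GeneralLinearGroup (Fin 2 × Fin n₂) F) : Matrix (Fin 2 × Fin n₂) (Fin 2 × Fin n₂) F) =
        σ₂ ⊗ₖ E₀ + (1 : Matrix (Fin 2) (Fin 2) F) ⊗ₖ (1 - E₀) from rfl, hconj] at h3
    simp [σ₂, ω, hE₀, hj, hj.symm, Matrix.kroneckerMap_apply, Matrix.single, Matrix.mul_apply, Fin.sum_univ_two] at h3
  refine ⟨N₀.map Φ.toMonoidHom ⊓ Cfsg.Geo.specialLinear (Fin n) F,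
    lt_of_le_of_ne (le_inf (inf_le_left.trans (hΦ.le.trans (Subgroup.map_mono hH))) inf_le_right) fun heq => hg₀H ?_,
    lt_of_le_of_ne inf_le_right fun heq => hs₀ ?_⟩
  · have hm : Φ g₀ ∈ N₀.map Φ.toMonoidHom ⊓ Cfsg.Geo.specialLinear (Fin n) F := ⟨⟨g₀, hg₀N, rfl⟩, hSL _⟩
    rw [← heq, hΦ] at hm
    obtain ⟨y, hy, hye⟩ := hm.1
    exact Φ.injective hye ▸ hy
  · have hm : Φ s₀ ∈ Cfsg.Geo.specialLinear (Fin n) F := hSL _
    rw [← heq] at hm
    obtain ⟨y, hy, hye⟩ := hm.1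
    exact Φ.injective hye ▸ hy

end Cfsg.Agent.S5638
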