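import Cfsg.Statements.S5644
import Cfsg.Agent.Lib.Perm.Trans.OrthSim

set_option autoImplicit false
open Cfsg
open scoped Matrix

namespace Cfsg.Agent.S5644

/-- For a finite field F of odd order and n ≥ 13, let Q be a non-degenerate quadratic form on F^n (its polar form is non-degenerate). Then the elements of SL_n(F) that are similarities of Q (Q(gv) = c Q(v) for a non-zero scalar c depending on g) form a maximal subgroup of SL_n(F). -/
theorem result {F : Type*} [Field F] [Fintype F] (n : ℕ) (hn : 13 ≤ n) (hodd : Odd (Fintype.card F)) (Q : (Fin n → F) → F) (hQ : Cfsg.Geo.IsNondegenerateQuadraticForm Q) : Cfsg.Geo.IsMaximalIn (Cfsg.Geo.specialLinear (Fin n) F) (Cfsg.Geo.quadSimilarityGroup Q ⊓ Cfsg.Geo.specialLinear (Fin n) F) := by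
  have h2 : (2 : F) ≠ 0 := Ring.two_ne_zero fun h => by
    have := FiniteField.even_card_iff_char_two.1 h
    rw [Nat.odd_iff] at hodd
    omega
  have hself : ∀ v, QuadraticMap.polar Q v v = 2 * Q v := fun v => by
    rw [QuadraticMap.polar, ← two_smul F v, hQ.smul]
    ring
  have hf : Cfsg.Geo.IsSymmetricForm (QuadraticMap.polar Q) :=
    ⟨hQ.polar_bilinear, QuadraticMap.polar_comm Q, hQ.nondegenerate⟩
  have heq : Cfsg.Geo.quadSimilarityGroup Q = Cfsg.Geo.similarityGroup (QuadraticMap.polar Q) := by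
    refine le_antisymm CfsgLib.Perm.Asch.quadSimilarity_le_polar ?_
    rintro g ⟨c, hc⟩
    refine ⟨c, fun v => mul_left_cancel₀ h2 ?_⟩
    rw [← hself, hc, hself, mul_left_comm]
  rw [heq]
  refine ⟨CfsgLib.Perm.Trans.lt_SL_of_not_le (CfsgLib.Perm.Asch.not_le_similarityGroup (by omega)
    hf.bilinear.add_left hf.bilinear.smul_left hf.nondegenerate), fun M hHM hMSL => ?_⟩
  by_cases hMS : M ≤ Cfsg.Geo.similarityGroup (QuadraticMap.polar Q)
  · exact Or.inl (le_antisymm (le_inf hMS hMSL) hHM)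
  · exact Or.inr (CfsgLib.Perm.Trans.eq_SL_of_fullSub hMSL
      (CfsgLib.Perm.Trans.Orth.fullSub_top_of_not_le hf h2 hHM (by rw [Fintype.card_fin]; omega) hMS))

end Cfsg.Agent.S5644
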