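import Cfsg.Statements.S5647
import Cfsg.Agent.Lib.Perm.Trans.SympDecomp

set_option autoImplicit false
open Cfsg

namespace Cfsg.Agent.S5647

/-- For a finite field F with q elements and m ≥ 7, let D be a decomposition of F^(2m) into t ≥ 2 pairwise orthogonal subspaces of equal dimension k on each of which the standard alternating form is non-degenerate, spanning F^(2m). Unless k = 2 and q = 2, the elements of Sp_2m(F) permuting the members of D form a maximal subgroup of Sp_2m(F). -/
theorem result {F : Type*} [Field F] [Fintype F] (m : ℕ) (hm : 7 ≤ m) {t : ℕ} (k : ℕ) (D : Fin t → Submodule F (Fin m ⊕ Fin m → F)) (hD : Cfsg.Geo.IsNondegenerateMDecomposition (Cfsg.sympForm m F) k D) (hex : ¬ (k = 2 ∧ Fintype.card F = 2)) : Cfsg.Geo.IsMaximalIn (Cfsg.spGL m F) (Cfsg.Geo.decompositionStabilizer D ⊓ Cfsg.spGL m F) := by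
  classical
  refine CfsgLib.Perm.Trans.Symp.decomposition_maximal CfsgLib.Perm.Trans.Symp.isSymplecticForm_sympForm hD ?_
  by_cases hq : ∃ r : F, r ≠ 0 ∧ r ≠ -1
  · exact Or.inr hq
  refine Or.inl ?_
  push Not at hq
  have hcard : Fintype.card F = 2 := by
    have h1 : Fintype.card F ≤ 2 := by
      rw [← Finset.card_univ]
      refine (Finset.card_le_card (t := {0, -1}) fun r _ => ?_).trans Finset.card_le_two
      rcases eq_or_ne r 0 with rfl | hr
      · simp
      · simp [hq r hr]
    have h2 := Fintype.one_lt_card (α := F)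
    omega
  have hk2 : k ≠ 2 := fun h => hex ⟨h, hcard⟩
  have hpos := hD.decomp.pos
  have hk1 : k ≠ 1 := by
    intro h1
    have ht := hD.decomp.two_le
    let i : Fin t := ⟨0, by omega⟩
    have hfr := hD.decomp.finrank_eq i
    rw [h1] at hfr
    obtain ⟨v, hv0, hv⟩ := finrank_eq_one_iff'.1 hfr
    obtain ⟨x, hx, hvx⟩ := (hD.nondegenerate i v v.2 (fun h => hv0 (Subtype.ext h))).2
    obtain ⟨c, hc⟩ := hv ⟨x, hx⟩
    have hxv : x = c • (v : Fin m ⊕ Fin m → F) := (congrArg Subtype.val hc).symm
    exact hvx (by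
      rw [hxv, CfsgLib.Perm.Trans.Symp.isSymplecticForm_sympForm.bilinear.smul_right,
        CfsgLib.Perm.Trans.Symp.isSymplecticForm_sympForm.alternating, mul_zero])
  omega

end Cfsg.Agent.S5647
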