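import Cfsg.Statements.S5648
-- import your own Cfsg.Agent.* helpers here

import Mathlib
import Cfsg.Agent.Lib.Perm.Trans.SympDecomp

set_option autoImplicit false
open Cfsg

namespace Cfsg.Agent.S5648
open Matrix CfsgLib.Perm.Asch CfsgLib.Perm.Trans CfsgLib.Perm.Trans.Symp

/-- Over the field with 2 elements and for m ≥ 7, let D be a decomposition of F^(2m) into t pairwise orthogonal non-degenerate 2-dimensional subspaces for the standard alternating form (t = m ≥ 2). Then the elements of Sp_2m(2) permuting the members of D form a subgroup that is not maximal: some subgroup lies strictly between it and Sp_2m(2). -/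
theorem result {F : Type*} [Field F] [Fintype F] (m : ℕ) (hm : 7 ≤ m) (hq : Fintype.card F = 2) {t : ℕ} (D : Fin t → Submodule F (Fin m ⊕ Fin m → F)) (hD : Cfsg.Geo.IsNondegenerateMDecomposition (Cfsg.sympForm m F) 2 D) : ∃ K : Subgroup (Matrix.GeneralLinearGroup (Fin m ⊕ Fin m) F), Cfsg.Geo.decompositionStabilizer D ⊓ Cfsg.spGL m F < K ∧ K < Cfsg.spGL m F := by
  classical
  have hf := isSymplecticForm_sympForm (m := m) (F := F)
  have ht : 3 ≤ t := by
    have hI : DirectSum.IsInternal D :=
      (DirectSum.isInternal_submodule_iff_iSupIndep_and_iSup_eq_top D).2 ⟨hD.decomp.indep, hD.decomp.iSup_eq_top⟩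
    have := Module.finrank_eq_card_basis
      (hI.collectedBasis fun i => Module.finBasisOfFinrankEq F (D i) (hD.decomp.finrank_eq i))
    simp at this
    omega
  have h2 : (2 : F) = 0 := by
    have := FiniteField.cast_card_eq_zero F
    rw [hq] at this
    exact_mod_cast this
  have h01 : ∀ v : F, v = 0 ∨ v = 1 := fun v => by
    rcases eq_or_ne v 0 with h | h
    · exact Or.inl h
    · exact Or.inr (by simpa [hq] using FiniteField.pow_card_sub_one_eq_one v h)
  obtain ⟨Q, hQ⟩ : ∃ Q : (Fin m ⊕ Fin m → F) → F, Q = fun x => ∑ i, if comp hf hD i x = 0 then 0 else 1 := ⟨_, rfl⟩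
  have hH : Cfsg.Geo.decompositionStabilizer D ⊓ Cfsg.spGL m F ≤ Cfsg.isometryGroup F Q ⊓ Cfsg.spGL m F := by
    refine le_inf (fun g hg x y => ?_) inf_le_right
    obtain ⟨σ, hσ⟩ := hg.1
    show Q ((g : Matrix (Fin m ⊕ Fin m) (Fin m ⊕ Fin m) F) *ᵥ x) = Q x
    have hc : ∀ i, comp hf hD (σ i) ((g : Matrix (Fin m ⊕ Fin m) (Fin m ⊕ Fin m) F) *ᵥ x) =
        (g : Matrix (Fin m ⊕ Fin m) (Fin m ⊕ Fin m) F) *ᵥ comp hf hD i x := fun i => by
      refine comp_eq hf hD (hσ i ▸ ⟨_, comp_mem hf hD i x, Matrix.toLin'_apply _ _⟩) fun w hw => ?_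
      rw [← hσ i] at hw
      obtain ⟨v, hv, rfl⟩ := hw
      rw [Matrix.toLin'_apply, ← mulVec_sub]
      exact (hg.2 _ _).trans (comp_perp hf hD i x v hv)
    simp only [hQ]
    rw [← Equiv.sum_comp σ]
    exact Finset.sum_congr rfl fun i _ => if_congr (by rw [hc]; exact gl_mulVec_eq_zero) rfl rfl
  have hne : ∀ i, ∃ a b, a ∈ D i ∧ b ∈ D i ∧ Cfsg.sympForm m F b a = 1 := fun i => by
    obtain ⟨a, ha, ha0⟩ := Submodule.exists_mem_ne_zero_of_ne_bot (p := D i) fun h => by
      have := hD.decomp.finrank_eq i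
      rw [h, finrank_bot] at this
      omega
    obtain ⟨b, hb, hba⟩ := (hD.nondegenerate i a ha ha0).1
    exact ⟨a, b, ha, hb, (h01 _).resolve_left hba⟩
  choose a b ha hb hba using hne
  have hab : ∀ i, Cfsg.sympForm m F (a i) (a i) = 0 := fun i => hf.alternating _
  have ha0 : ∀ i, a i ≠ 0 := fun i h => by
    have := hba i
    rw [h, zero_right hf] at this
    exact zero_ne_one this
  have hcomp : ∀ i j, comp hf hD j (a i) = if j = i then a i else 0 := fun i j => by
    split_ifs with h
    · subst h; exact comp_self hf hD (ha j)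
    · exact comp_other hf hD (Ne.symm h) (ha i)
  let i0 : Fin t := ⟨0, by omega⟩
  let i1 : Fin t := ⟨1, by omega⟩
  let i2 : Fin t := ⟨2, by omega⟩
  have h01' : i0 ≠ i1 := by simp [i0, i1]
  have h02 : i0 ≠ i2 := by simp [i0, i2]
  have h12 : i1 ≠ i2 := by simp [i1, i2]
  -- one component
  have hone : ∀ i, ∀ y ∈ D i, ((if y + a i = 0 then (0 : F) else 1) = (if y = 0 then (0 : F) else 1) + 1 +
      Cfsg.sympForm m F y (a i)) := by
    intro i y hy
    by_cases hy0 : y = 0
    · rw [hy0, zero_add, if_neg (ha0 i), if_pos rfl, zero_left hf]; ring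
    rw [if_neg hy0]
    by_cases hya : y ∈ Submodule.span F {a i}
    · obtain ⟨c, rfl⟩ := Submodule.mem_span_singleton.1 hya
      rcases h01 c with rfl | rfl
      · exact absurd (zero_smul F (a i)) hy0
      · rw [one_smul, if_pos (by rw [← two_smul F (a i), h2, zero_smul]), hab]
        linear_combination -h2
    · have h1 : y + a i ≠ 0 := fun h => hya (by
        rw [eq_neg_of_add_eq_zero_left h]; exact neg_mem (Submodule.mem_span_singleton_self _))
      have h3 : Cfsg.sympForm m F y (a i) ≠ 0 := by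
        intro h
        have hle : Submodule.span F ({a i, y} : Set (Fin m ⊕ Fin m → F)) ≤ D i :=
          Submodule.span_le.2 (by simp [Set.insert_subset_iff, ha i, hy])
        have hlt : Submodule.span F {a i} < Submodule.span F ({a i, y} : Set (Fin m ⊕ Fin m → F)) :=
          SetLike.lt_iff_le_and_exists.2 ⟨Submodule.span_mono (by simp), y, Submodule.subset_span (by simp), hya⟩
        have h4 := Submodule.finrank_lt_finrank_of_lt hlt
        rw [finrank_span_singleton (ha0 i)] at h4
        have heq := Submodule.eq_of_le_of_finrank_le hle (by rw [hD.decomp.finrank_eq i]; omega)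
        obtain ⟨z, hz, hza⟩ := (hD.nondegenerate i (a i) (ha i) (ha0 i)).1
        obtain ⟨p, q, rfl⟩ := Submodule.mem_span_pair.1 (heq ▸ hz)
        exact hza (by rw [hf.bilinear.add_left, hf.bilinear.smul_left, hf.bilinear.smul_left, hab, h, mul_zero,
          mul_zero, add_zero])
      rw [if_neg h1, (h01 _).resolve_left h3]
      linear_combination -h2
  refine ⟨_, lt_of_le_of_ne hH fun heq => ?_, lt_of_le_of_ne inf_le_right fun heq => ?_⟩
  · obtain ⟨u, hu⟩ : ∃ u, u = a i0 + a i1 + a i2 := ⟨_, rfl⟩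
    have huc : ∀ i, comp hf hD i u = if i = i0 ∨ i = i1 ∨ i = i2 then a i else 0 := fun i => by
      rw [hu, comp_add, comp_add, hcomp, hcomp, hcomp]
      rcases eq_or_ne i i0 with rfl | e0
      · simp [h01', h02]
      rcases eq_or_ne i i1 with rfl | e1
      · simp [h01'.symm, h12]
      rcases eq_or_ne i i2 with rfl | e2
      · simp [h02.symm, h12.symm]
      · simp [e0, e1, e2]
    have hmem : stv hf u 1 ∈ Cfsg.isometryGroup F Q ⊓ Cfsg.spGL m F := by
      refine ⟨fun x y => ?_, stv_iso hf u 1⟩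
      show Q ((stv hf u 1 : Matrix (Fin m ⊕ Fin m) (Fin m ⊕ Fin m) F) *ᵥ x) = Q x
      rw [stv_mulVec, one_mul]
      rcases h01 (Cfsg.sympForm m F x u) with h | h
      · rw [h, zero_smul, add_zero]
      rw [h, one_smul]
      simp only [hQ]
      have hsum : ∀ i, (if comp hf hD i (x + u) = 0 then (0 : F) else 1) = (if comp hf hD i x = 0 then (0 : F) else 1) +
          (if i = i0 ∨ i = i1 ∨ i = i2 then 1 + Cfsg.sympForm m F (comp hf hD i x) (a i) else 0) := by
        intro i
        rw [comp_add, huc]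
        by_cases hi : i = i0 ∨ i = i1 ∨ i = i2
        · simp only [if_pos hi]
          rw [hone i _ (comp_mem hf hD i x), add_assoc]
        · simp only [if_neg hi, add_zero]
      rw [Finset.sum_congr rfl fun i _ => hsum i, Finset.sum_add_distrib, add_eq_left, ← Finset.sum_filter,
        show (Finset.univ.filter fun i => i = i0 ∨ i = i1 ∨ i = i2) = {i0, i1, i2} by ext; simp,
        Finset.sum_insert (by simp [h01', h02]), Finset.sum_insert (by simp [h12]), Finset.sum_singleton,
        ← form_single hf hD (ha i0), ← form_single hf hD (ha i1), ← form_single hf hD (ha i2)]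
      rw [hu, hf.bilinear.add_right, hf.bilinear.add_right] at h
      linear_combination h + 2 * h2
    rw [← heq] at hmem
    obtain ⟨σ, hσ⟩ := hmem.1
    have h3 : ∀ i, i ≠ σ i0 → comp hf hD i ((stv hf u 1 : Matrix (Fin m ⊕ Fin m) (Fin m ⊕ Fin m) F) *ᵥ b i0) = 0 :=
      fun i hi => comp_other hf hD hi.symm (hσ i0 ▸ ⟨_, hb i0, Matrix.toLin'_apply _ _⟩)
    have hfu : Cfsg.sympForm m F (b i0) u = 1 := by
      rw [hu, hf.bilinear.add_right, hf.bilinear.add_right, hba, hD.orthogonal i0 i1 h01' _ (hb i0) _ (ha i1),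
        hD.orthogonal i0 i2 h02 _ (hb i0) _ (ha i2), add_zero, add_zero]
    have h4 : ∀ i, i ≠ i0 → comp hf hD i ((stv hf u 1 : Matrix (Fin m ⊕ Fin m) (Fin m ⊕ Fin m) F) *ᵥ b i0) =
        if i = i0 ∨ i = i1 ∨ i = i2 then a i else 0 := fun i hi => by
      rw [stv_mulVec, one_mul, hfu, one_smul, comp_add, comp_other hf hD hi.symm (hb i0), huc, zero_add]
    have h5 := h4 i1 h01'.symm
    have h6 := h4 i2 h02.symm
    rcases eq_or_ne (σ i0) i1 with e | e
    · rw [h3 i2 (e ▸ h12.symm), if_pos (Or.inr (Or.inr rfl))] at h6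
      exact ha0 i2 h6.symm
    · rw [h3 i1 e.symm, if_pos (Or.inr (Or.inl rfl))] at h5
      exact ha0 i1 h5.symm
  · obtain ⟨u, hu⟩ : ∃ u, u = a i0 + a i1 := ⟨_, rfl⟩
    have hmem : stv hf u 1 ∈ Cfsg.spGL m F := stv_iso hf u 1
    rw [← heq] at hmem
    have h1 := hmem.1 (b i0) (b i0)
    change Q ((stv hf u 1 : Matrix (Fin m ⊕ Fin m) (Fin m ⊕ Fin m) F) *ᵥ b i0) = Q (b i0) at h1
    rw [stv_mulVec, one_mul, hu, hf.bilinear.add_right, hba, hD.orthogonal i0 i1 h01' _ (hb i0) _ (ha i1), add_zero,
      one_smul] at h1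
    simp only [hQ] at h1
    have hb0 : b i0 ≠ 0 := fun h => by
      have := hba i0
      rw [h, zero_left hf] at this
      exact zero_ne_one this
    have hba0 : b i0 + a i0 ≠ 0 := fun h => by
      have := hba i0
      rw [eq_neg_of_add_eq_zero_left h, neg_left hf, hab, neg_zero] at this
      exact zero_ne_one this
    have hl : ∀ i, (if comp hf hD i (b i0 + (a i0 + a i1)) = 0 then (0 : F) else 1) =
        (if i = i0 then 1 else 0) + (if i = i1 then 1 else 0) := fun i => by
      rw [comp_add, comp_add, hcomp, hcomp]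
      rcases eq_or_ne i i0 with rfl | e0
      · rw [comp_self hf hD (hb i0)]; simp [h01', hba0]
      · rw [comp_other hf hD e0.symm (hb i0)]
        rcases eq_or_ne i i1 with rfl | e1
        · simp [e0, ha0]
        · simp [e0, e1]
    have hr : ∀ i, (if comp hf hD i (b i0) = 0 then (0 : F) else 1) = if i = i0 then 1 else 0 := fun i => by
      rcases eq_or_ne i i0 with rfl | e0
      · rw [comp_self hf hD (hb i0)]; simp [hb0]
      · rw [comp_other hf hD e0.symm (hb i0)]; simp [e0]
    rw [Finset.sum_congr rfl fun i _ => hl i, Finset.sum_congr rfl fun i _ => hr i, Finset.sum_add_distrib,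
      Finset.sum_ite_eq', Finset.sum_ite_eq', if_pos (Finset.mem_univ _), if_pos (Finset.mem_univ _)] at h1
    exact one_ne_zero (show (1 : F) = 0 by linear_combination h1)

end Cfsg.Agent.S5648
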