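import Cfsg.Statements.S5649
import Cfsg.Agent.Lib.Perm.Trans.SympPair

set_option autoImplicit false
open Cfsg
open scoped Matrix

namespace Cfsg.Agent.S5649

/-- For a finite field F of odd order and m ≥ 7, let D be a decomposition of F^(2m) into two complementary subspaces of dimension m on each of which the standard alternating form vanishes identically. Then the elements of Sp_2m(F) preserving or interchanging the two subspaces form a maximal subgroup of Sp_2m(F). -/
theorem result {F : Type*} [Field F] [Fintype F] (m : ℕ) (hm : 7 ≤ m) (hodd : Odd (Fintype.card F)) (D : Fin 2 → Submodule F (Fin m ⊕ Fin m → F)) (hD : Cfsg.Geo.IsMDecomposition m D) (hts : ∀ i, Cfsg.Geo.IsTotallySingularFor (Cfsg.sympForm m F) (D i)) : Cfsg.Geo.IsMaximalIn (Cfsg.spGL m F) (Cfsg.Geo.decompositionStabilizer D ⊓ Cfsg.spGL m F) := by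
  classical
  have h2 : (2 : F) ≠ 0 := Ring.two_ne_zero fun h => by
    have := FiniteField.even_card_iff_char_two.1 h
    rw [Nat.odd_iff] at hodd
    omega
  have hsup : D 0 ⊔ D 1 = ⊤ := top_le_iff.1 (hD.iSup_eq_top ▸ iSup_le fun i => by
    fin_cases i
    exacts [le_sup_left, le_sup_right])
  have hinf : D 0 ⊓ D 1 = ⊥ := (hD.indep.pairwiseDisjoint (show (0 : Fin 2) ≠ 1 by decide)).eq_bot
  have P : CfsgLib.Perm.Trans.Symp.Polar (Cfsg.sympForm m F) (D 0) (D 1) :=
    ⟨hts 0, hts 1, hsup, hinf, by rw [hD.finrank_eq]; omega, by rw [hD.finrank_eq]; omega,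
      by rw [hD.finrank_eq, hD.finrank_eq]⟩
  have hmap : ∀ (g : Matrix.GeneralLinearGroup (Fin m ⊕ Fin m) F) i j,
      (∀ x ∈ D i, (g : Matrix (Fin m ⊕ Fin m) (Fin m ⊕ Fin m) F) *ᵥ x ∈ D j) →
        (D i).map (Matrix.toLin' (g : Matrix (Fin m ⊕ Fin m) (Fin m ⊕ Fin m) F)) = D j := by
    intro g i j h
    refine Submodule.eq_of_le_of_finrank_le (fun x hx => ?_) ?_
    · obtain ⟨y, hy, rfl⟩ := Submodule.mem_map.1 hx
      rw [Matrix.toLin'_apply]
      exact h y hy
    · refine ((hD.finrank_eq j).trans (hD.finrank_eq i).symm).le.trans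
        (Submodule.equivMapOfInjective _ (fun a b hab => ?_) (D i)).finrank_eq.le
      have h1 := congrArg (fun v => ((g⁻¹ : Matrix.GeneralLinearGroup (Fin m ⊕ Fin m) F) :
        Matrix (Fin m ⊕ Fin m) (Fin m ⊕ Fin m) F) *ᵥ v) hab
      simpa [Matrix.toLin'_apply] using h1
  refine CfsgLib.Perm.Trans.Symp.polar_maximal CfsgLib.Perm.Trans.Symp.isSymplecticForm_sympForm P h2 fun g => ?_
  constructor
  · rintro ⟨σ, hσ⟩
    have hm' : ∀ i, ∀ x ∈ D i, (g : Matrix (Fin m ⊕ Fin m) (Fin m ⊕ Fin m) F) *ᵥ x ∈ D (σ i) := fun i x hx => by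
      rw [← hσ i, ← Matrix.toLin'_apply]
      exact Submodule.mem_map_of_mem hx
    rcases (show σ 0 = 0 ∨ σ 0 = 1 by omega) with h0 | h0
    · have h1 : σ 1 = 1 := by
        rcases (show σ 1 = 0 ∨ σ 1 = 1 by omega) with h | h
        · exact absurd (σ.injective (h.trans h0.symm)) (by decide)
        · exact h
      exact Or.inl ⟨fun x hx => h0 ▸ hm' 0 x hx, fun x hx => h1 ▸ hm' 1 x hx⟩
    · have h1 : σ 1 = 0 := by
        rcases (show σ 1 = 0 ∨ σ 1 = 1 by omega) with h | h
        · exact h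
        · exact absurd (σ.injective (h.trans h0.symm)) (by decide)
      exact Or.inr ⟨fun x hx => h0 ▸ hm' 0 x hx, fun x hx => h1 ▸ hm' 1 x hx⟩
  · rintro (⟨hX, hY⟩ | ⟨hX, hY⟩)
    · refine ⟨1, fun i => ?_⟩
      fin_cases i
      exacts [hmap g 0 0 hX, hmap g 1 1 hY]
    · refine ⟨Equiv.swap 0 1, fun i => ?_⟩
      fin_cases i
      · exact hmap g 0 1 hX
      · exact hmap g 1 0 hY

end Cfsg.Agent.S5649
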