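import Cfsg.Statements.S5650
import Cfsg.Agent.Lib.Perm.Trans.SympSubfMax

set_option autoImplicit false
open Cfsg

namespace Cfsg.Agent.S5650

/-- For a finite field F, a subfield F₀ with |F| = |F₀| ^ r for a prime r, and m ≥ 7, let P be an invertible matrix and ζ a non-zero scalar such that ζ times the standard alternating form takes values in F₀ on the F₀-span of the columns of P. Then the elements of Sp_2m(F) lying in the subfield group of P (the conjugate by P of the product of GL_2m(F₀) with the scalars) form a maximal subgroup of Sp_2m(F). -/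
theorem result {F : Type*} [Field F] [Fintype F] (m : ℕ) (hm : 7 ≤ m) (F₀ : Subfield F) (r : ℕ) (hr : r.Prime) (hcard : Fintype.card F = Nat.card F₀ ^ r) (P : Matrix.GeneralLinearGroup (Fin m ⊕ Fin m) F) (ζ : F) (hζ : ζ ≠ 0) (hP : Cfsg.Geo.IsFormRationalStructure (Cfsg.sympForm m F) F₀ ζ P) : Cfsg.Geo.IsMaximalIn (Cfsg.spGL m F) (Cfsg.Geo.subfieldSubgroup F₀ P ⊓ Cfsg.spGL m F) := by
  have hs := CfsgLib.Perm.Trans.Symp.isSymplecticForm_sympForm (m := m) (F := F)
  let f : (Fin m ⊕ Fin m → F) → (Fin m ⊕ Fin m → F) → F := fun u v => ζ * Cfsg.sympForm m F u v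
  have hf : Cfsg.Geo.IsSymplecticForm f :=
    { bilinear :=
        ⟨fun x y v => by show ζ * _ = ζ * _ + ζ * _; rw [hs.bilinear.add_left, mul_add],
         fun c x v => by show ζ * _ = c * (ζ * _); rw [hs.bilinear.smul_left, mul_left_comm],
         fun v x y => by show ζ * _ = ζ * _ + ζ * _; rw [hs.bilinear.add_right, mul_add],
         fun c v x => by show ζ * _ = c * (ζ * _); rw [hs.bilinear.smul_right, mul_left_comm]⟩
      skew := fun v w => by show ζ * _ = -(ζ * _); rw [hs.skew, mul_neg]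
      alternating := fun v => by show ζ * _ = 0; rw [hs.alternating, mul_zero]
      nondegenerate := fun v hv => by
        obtain ⟨⟨a, ha⟩, ⟨b, hb⟩⟩ := hs.nondegenerate v hv
        exact ⟨⟨a, mul_ne_zero hζ ha⟩, ⟨b, mul_ne_zero hζ hb⟩⟩ }
  have hrat : ∀ a b, f (CfsgLib.Perm.Trans.Subf.em F₀ P a) (CfsgLib.Perm.Trans.Subf.em F₀ P b) ∈ F₀ := fun a b =>
    hP _ _ (fun i => (a i).2) (fun i => (b i).2)
  have heq : Cfsg.spGL m F = CfsgLib.Perm.Trans.Symp.isoSub f := SetLike.ext fun g =>
    ⟨fun h => CfsgLib.Perm.Trans.Symp.mem_isoSub.2 fun x y => congrArg (ζ * ·)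
        ((CfsgLib.Perm.Trans.Symp.mem_isoSub (f := Cfsg.sympForm m F)).1 h x y),
     fun h => (CfsgLib.Perm.Trans.Symp.mem_isoSub (f := Cfsg.sympForm m F)).2 fun x y =>
        mul_left_cancel₀ hζ (CfsgLib.Perm.Trans.Symp.mem_isoSub.1 h x y)⟩
  rw [heq]
  exact CfsgLib.Perm.Trans.Symp.subfield_maximal hf hrat (by simp only [Fintype.card_sum, Fintype.card_fin]; omega) hr hcard

end Cfsg.Agent.S5650
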