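import Cfsg.Statements.S5656
-- import your own Cfsg.Agent.* helpers here

import Mathlib
import Cfsg.Agent.Lib.Perm.Trans.UnitSU

set_option autoImplicit false
open Cfsg

namespace Cfsg.Agent.S5656
open Matrix CfsgLib.Perm.Asch CfsgLib.Perm.Trans

/-- Let F be the field with 4 elements (q = 2) and n ≥ 13. Let D be a decomposition of F^n into t pairwise orthogonal 2-dimensional subspaces, each non-degenerate for the standard unitary form Σ u_i v_i². Then the elements of SU_n(2) permuting the members of D form a subgroup that is not maximal: some subgroup lies strictly between it and SU_n(2). -/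
theorem result {F : Type*} [Field F] [Fintype F] (n : ℕ) (hF : Fintype.card F = 4) (hn : 13 ≤ n) {t : ℕ} (D : Fin t → Submodule F (Fin n → F)) (hD : Cfsg.Geo.IsNondegenerateMDecomposition (Cfsg.hermForm n F 2) 2 D) : ∃ K : Subgroup (Matrix.GeneralLinearGroup (Fin n) F), Cfsg.Geo.decompositionStabilizer D ⊓ (Cfsg.GU n F 2 ⊓ Cfsg.Geo.specialLinear (Fin n) F) < K ∧ K < (Cfsg.GU n F 2 ⊓ Cfsg.Geo.specialLinear (Fin n) F) := by
  classical
  obtain ⟨C⟩ := CfsgLib.Perm.Trans.Unit.ctx_of_card (q := 2) (show Fintype.card F = 2 ^ 2 by rw [hF]; norm_num)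
  have hu := CfsgLib.Perm.Trans.Unit.isUnitary_hermForm (n := n) C
  have h2 : (2 : F) = 0 := by
    have h4 : ((4 : ℕ) : F) = 0 := hF ▸ FiniteField.cast_card_eq_zero F
    have : (2 : F) * 2 = 0 := by rw [← h4]; norm_num
    simpa using this
  have hval : ∀ x, Cfsg.hermForm n F 2 x x = 0 ∨ Cfsg.hermForm n F 2 x x = 1 := by
    intro x
    unfold Cfsg.hermForm
    refine Finset.sum_induction _ (fun a => a = 0 ∨ a = 1) ?_ (Or.inl rfl) fun i _ => ?_
    · rintro a b (rfl | rfl) (rfl | rfl)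
      · exact Or.inl (add_zero 0)
      · exact Or.inr (zero_add 1)
      · exact Or.inr (add_zero 1)
      · exact Or.inl (by rw [one_add_one_eq_two, h2])
    · rcases eq_or_ne (x i) 0 with h | h
      · exact Or.inl (by rw [h, zero_mul])
      · refine Or.inr ?_
        have := FiniteField.pow_card_sub_one_eq_one (x i) h
        rw [hF] at this
        rw [← pow_succ']
        exact this
  have hneg : ∀ x : Fin n → F, x + x = 0 := fun x => by rw [← two_smul F x, h2, zero_smul]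
  -- orthonormal bases of the members
  have hbasis : ∀ i, ∃ e f : Fin n → F, e ∈ D i ∧ f ∈ D i ∧ Cfsg.hermForm n F 2 e e = 1 ∧
      Cfsg.hermForm n F 2 f f = 1 ∧ Cfsg.hermForm n F 2 f e = 0 ∧ ∀ x ∈ D i, ∃ a b : F, a • e + b • f = x := by
    intro i
    obtain ⟨e, he, hee⟩ : ∃ e ∈ D i, Cfsg.hermForm n F 2 e e = 1 := by
      by_contra hcon
      push Not at hcon
      have hall : ∀ y ∈ D i, Cfsg.hermForm n F 2 y y = 0 := fun y hy => (hval y).resolve_right (hcon y hy)
      obtain ⟨w, hw, hw0⟩ := Submodule.exists_mem_ne_zero_of_ne_bot (p := D i) fun h => by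
        have := hD.decomp.finrank_eq i
        rw [h, finrank_bot] at this
        omega
      obtain ⟨y, hy, hyw⟩ := (hD.nondegenerate i w hw hw0).1
      obtain ⟨a, ha⟩ : ∃ a : F, C.bar a ≠ a := by
        by_contra h
        push Not at h
        exact hu.ne_refl (RingEquiv.ext h)
      obtain ⟨y', hy', hy'w⟩ : ∃ y' ∈ D i, Cfsg.hermForm n F 2 y' w = a :=
        ⟨(a / Cfsg.hermForm n F 2 y w) • y, (D i).smul_mem _ hy, by rw [hu.smul_left, div_mul_cancel₀ _ hyw]⟩
      have h3 := hall _ ((D i).add_mem hy' hw)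
      rw [hu.add_left, herm_add_right hu, herm_add_right hu, hall _ hy', hall _ hw, hy'w,
        hu.herm w y', hy'w, zero_add, add_zero] at h3
      refine ha ?_
      have h4 : a + a = 0 := by rw [← two_mul, h2, zero_mul]
      linear_combination h3 - h4
    have he0 : e ≠ 0 := fun h => by rw [h, herm_zero_left hu] at hee; exact zero_ne_one hee
    obtain ⟨w, hw, hwe⟩ : ∃ w ∈ D i, w ∉ Submodule.span F {e} := SetLike.not_le_iff_exists.1 fun hle => by
      have := Submodule.finrank_mono hle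
      rw [finrank_span_singleton he0, hD.decomp.finrank_eq i] at this
      omega
    obtain ⟨f, hfdef⟩ : ∃ f, f = w - Cfsg.hermForm n F 2 w e • e := ⟨_, rfl⟩
    have hf : f ∈ D i := hfdef ▸ (D i).sub_mem hw ((D i).smul_mem _ he)
    have hfe : Cfsg.hermForm n F 2 f e = 0 := by
      rw [hfdef, herm_sub_left hu, hu.smul_left, hee, mul_one, sub_self]
    have hf0 : f ∉ Submodule.span F {e} := fun h => hwe (by
      rw [hfdef] at h
      have := (Submodule.span F {e}).add_mem h (Submodule.smul_mem _ (Cfsg.hermForm n F 2 w e) (Submodule.mem_span_singleton_self e))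
      rwa [sub_add_cancel] at this)
    have hspan : ∀ x ∈ D i, ∃ a b : F, a • e + b • f = x := by
      intro x hx
      have hle : Submodule.span F ({e, f} : Set (Fin n → F)) ≤ D i :=
        Submodule.span_le.2 (by simp [Set.insert_subset_iff, he, hf])
      have hlt : Submodule.span F {e} < Submodule.span F ({e, f} : Set (Fin n → F)) := by
        refine SetLike.lt_iff_le_and_exists.2 ⟨Submodule.span_mono (by simp), f, Submodule.subset_span (by simp), hf0⟩
      have h3 := Submodule.finrank_lt_finrank_of_lt hlt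
      rw [finrank_span_singleton he0] at h3
      have heq := Submodule.eq_of_le_of_finrank_le hle (by rw [hD.decomp.finrank_eq i]; omega)
      exact Submodule.mem_span_pair.1 (heq ▸ hx)
    refine ⟨e, f, he, hf, hee, (hval f).resolve_left fun hff => ?_, hfe, hspan⟩
    obtain ⟨z, hz, hzf⟩ := (hD.nondegenerate i f hf (fun h => hf0 (h ▸ Submodule.zero_mem _))).1
    obtain ⟨a, b, rfl⟩ := hspan z hz
    refine hzf ?_
    rw [hu.add_left, hu.smul_left, hu.smul_left, hff, hu.herm e f, hfe, map_zero, mul_zero, mul_zero, add_zero]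
  choose e f he hf hee hff hfe hspan using hbasis
  have hef : ∀ i, Cfsg.hermForm n F 2 (e i) (f i) = 0 := fun i => by rw [hu.herm, hfe, map_zero]
  let i0 : Fin t := ⟨0, by have := hD.decomp.two_le; omega⟩
  let i1 : Fin t := ⟨1, by have := hD.decomp.two_le; omega⟩
  have h01 : i0 ≠ i1 := by simp [i0, i1]
  have hdisj : ∀ i j, i ≠ j → ∀ x, x ∈ D i → x ∈ D j → x = 0 := fun i j hij x hx hy =>
    (Submodule.mem_bot F).1 ((disjoint_iff.1 (hD.decomp.indep.pairwiseDisjoint hij)) ▸ Submodule.mem_inf.2 ⟨hx, hy⟩)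
  -- transvections
  have hdot : ∀ v x : Fin n → F, (fun j => (v j) ^ 2) ⬝ᵥ x = Cfsg.hermForm n F 2 x v := fun v x => by
    rw [dotProduct_comm]; rfl
  have htvU : ∀ (v : Fin n → F) (hv : (fun j => (v j) ^ 2) ⬝ᵥ v = 0),
      tv v (fun j => (v j) ^ 2) hv ∈ Cfsg.GU n F 2 ⊓ Cfsg.Geo.specialLinear (Fin n) F := by
    intro v hv
    refine ⟨fun x y => ?_, tv_mem_SL _ _ _⟩
    show Cfsg.hermForm n F 2 ((tv v _ hv : Matrix (Fin n) (Fin n) F) *ᵥ x)
      ((tv v _ hv : Matrix (Fin n) (Fin n) F) *ᵥ y) = Cfsg.hermForm n F 2 x y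
    rw [tv_mulVec, tv_mulVec, hdot, hdot]
    rw [hdot] at hv
    rw [hu.add_left, herm_add_right hu, herm_add_right hu, hu.smul_left, hu.smul_left, herm_smul_right hu,
      herm_smul_right hu, hv, ← hu.herm]
    linear_combination Cfsg.hermForm n F 2 x v * Cfsg.hermForm n F 2 v y * h2
  obtain ⟨S, hS⟩ : ∃ S : Set (Fin n → F), S = {x | ∃ i, x ∈ D i ∧ Cfsg.hermForm n F 2 x x ≠ 0} := ⟨_, rfl⟩
  have hfwd : ∀ g ∈ Cfsg.Geo.decompositionStabilizer D ⊓ (Cfsg.GU n F 2 ⊓ Cfsg.Geo.specialLinear (Fin n) F),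
      ∀ x ∈ S, (g : Matrix (Fin n) (Fin n) F) *ᵥ x ∈ S := by
    rintro g ⟨⟨σ, hσ⟩, hgU, -⟩ x hx
    rw [hS] at hx ⊢
    obtain ⟨i, hxi, hxx⟩ := hx
    refine ⟨σ i, hσ i ▸ ⟨x, hxi, Matrix.toLin'_apply _ x⟩, ?_⟩
    rw [show Cfsg.hermForm n F 2 ((g : Matrix (Fin n) (Fin n) F) *ᵥ x) ((g : Matrix (Fin n) (Fin n) F) *ᵥ x) =
      Cfsg.hermForm n F 2 x x from hgU x x]
    exact hxx
  have hv0 : (fun j => ((f i0 + f i1) j) ^ 2) ⬝ᵥ (f i0 + f i1) = 0 := by
    rw [hdot, hu.add_left, herm_add_right hu, herm_add_right hu, hff, hff, hD.orthogonal i0 i1 h01 _ (hf i0) _ (hf i1),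
      hD.orthogonal i1 i0 h01.symm _ (hf i1) _ (hf i0), add_zero, zero_add, one_add_one_eq_two, h2]
  have hlin : ∀ x, Cfsg.hermForm n F 2 x (f i0 + f i1) = Cfsg.hermForm n F 2 x (f i0) + Cfsg.hermForm n F 2 x (f i1) :=
    fun x => herm_add_right hu _ _ _
  obtain ⟨τ, hτ⟩ : ∃ τ, τ = tv (f i0 + f i1) (fun j => ((f i0 + f i1) j) ^ 2) hv0 := ⟨_, rfl⟩
  have hτx : ∀ x, (τ : Matrix (Fin n) (Fin n) F) *ᵥ x = x + Cfsg.hermForm n F 2 x (f i0 + f i1) • (f i0 + f i1) :=
    fun x => by rw [hτ, tv_mulVec, hdot]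
  have hττ : ∀ x, (τ : Matrix (Fin n) (Fin n) F) *ᵥ ((τ : Matrix (Fin n) (Fin n) F) *ᵥ x) = x := fun x => by
    rw [hτx, hτx, hu.add_left, hu.smul_left, ← hdot _ (f i0 + f i1), hv0, mul_zero, add_zero, add_assoc, hneg, add_zero]
  have hτS : τ ∈ Cfsg.stabilizing (Cfsg.glToMat (Fin n) F) S := by
    have hf' : ∀ x ∈ S, (τ : Matrix (Fin n) (Fin n) F) *ᵥ x ∈ S := by
      intro x hx
      rw [hS] at hx
      obtain ⟨i, hxi, hxx⟩ := hx
      rcases eq_or_ne (Cfsg.hermForm n F 2 x (f i0 + f i1)) 0 with h0 | h0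
      · rw [hτx, h0, zero_smul, add_zero, hS]
        exact ⟨i, hxi, hxx⟩
      have hi : i = i0 ∨ i = i1 := by
        by_contra hcon
        push Not at hcon
        exact h0 (by rw [hlin, hD.orthogonal i i0 hcon.1 x hxi _ (hf i0), hD.orthogonal i i1 hcon.2 x hxi _ (hf i1), add_zero])
      obtain ⟨a, b, rfl⟩ := hspan i x hxi
      have hself : ∀ (c : F) (z : Fin n → F), Cfsg.hermForm n F 2 z z = 1 → c ≠ 0 →
          Cfsg.hermForm n F 2 (c • z) (c • z) = 1 := fun c z hz hc =>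
        (hval _).resolve_left fun hh => by
          rw [hu.smul_left, herm_smul_right hu, hz, mul_one] at hh
          exact hc ((mul_eq_zero.1 hh).resolve_right fun hh' => hc (C.bar.injective (by rw [hh', map_zero])))
      have hb : b ≠ 0 := fun hb => h0 (by
        rw [hb, zero_smul, add_zero, hu.smul_left, hlin]
        rcases hi with rfl | rfl
        · rw [hef, hD.orthogonal i0 i1 h01 _ (he i0) _ (hf i1), add_zero, mul_zero]
        · rw [hef, hD.orthogonal i1 i0 h01.symm _ (he i1) _ (hf i0), add_zero, mul_zero])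
      have ha : a = 0 := by
        by_contra ha
        refine hxx ?_
        rw [hu.add_left, herm_add_right hu, herm_add_right hu, hself a _ (hee i) ha, hself b _ (hff i) hb]
        rw [hu.smul_left, herm_smul_right hu, hef, hu.smul_left, herm_smul_right hu, hfe, mul_zero, mul_zero, mul_zero,
          mul_zero, add_zero, zero_add, one_add_one_eq_two, h2]
      subst ha
      rw [zero_smul, zero_add] at hxx ⊢
      rw [hS, hτx, hu.smul_left, hlin]
      rcases hi with rfl | rfl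
      · refine ⟨i1, ?_, ?_⟩ <;> rw [hff, hD.orthogonal i0 i1 h01 _ (hf i0) _ (hf i1), add_zero, mul_one, smul_add,
          ← add_assoc, hneg, zero_add]
        · exact (D i1).smul_mem _ (hf i1)
        · exact (hself b _ (hff i1) hb).symm ▸ one_ne_zero
      · refine ⟨i0, ?_, ?_⟩ <;> rw [hff, hD.orthogonal i1 i0 h01.symm _ (hf i1) _ (hf i0), zero_add, mul_one, smul_add,
          add_comm (b • f i0) (b • f i1), ← add_assoc, hneg, zero_add]
        · exact (D i0).smul_mem _ (hf i0)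
        · exact (hself b _ (hff i0) hb).symm ▸ one_ne_zero
    exact fun x => ⟨hf' x, fun hx => by have := hf' _ hx; rwa [show (Cfsg.glToMat (Fin n) F) τ *ᵥ x =
      (τ : Matrix (Fin n) (Fin n) F) *ᵥ x from rfl, hττ] at this⟩
  refine ⟨Cfsg.stabilizing (Cfsg.glToMat (Fin n) F) S ⊓ (Cfsg.GU n F 2 ⊓ Cfsg.Geo.specialLinear (Fin n) F),
    lt_of_le_of_ne (le_inf (fun g hg x => ⟨hfwd g hg x, fun hx => ?_⟩) inf_le_right) fun heq => ?_,
    lt_of_le_of_ne inf_le_right fun heq => ?_⟩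
  · have := hfwd _ (inv_mem hg) _ hx
    rwa [show (Cfsg.glToMat (Fin n) F) g *ᵥ x = (g : Matrix (Fin n) (Fin n) F) *ᵥ x from rfl, gl_inv_mulVec] at this
  · have hmem : τ ∈ Cfsg.stabilizing (Cfsg.glToMat (Fin n) F) S ⊓ (Cfsg.GU n F 2 ⊓ Cfsg.Geo.specialLinear (Fin n) F) :=
      ⟨hτS, hτ ▸ htvU _ hv0⟩
    rw [← heq] at hmem
    obtain ⟨σ, hσ⟩ := hmem.1
    have h1 : e i0 ∈ D (σ i0) := by
      rw [← hσ i0]
      refine ⟨e i0, he i0, ?_⟩
      rw [Matrix.toLin'_apply, hτx, hlin, hef, hD.orthogonal i0 i1 h01 _ (he i0) _ (hf i1), add_zero, zero_smul, add_zero]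
    have h3 : f i1 ∈ D (σ i0) := by
      rw [← hσ i0]
      refine ⟨f i0, hf i0, ?_⟩
      rw [Matrix.toLin'_apply, hτx, hlin, hff, hD.orthogonal i0 i1 h01 _ (hf i0) _ (hf i1), add_zero, one_smul,
        ← add_assoc, hneg, zero_add]
    rcases eq_or_ne (σ i0) i0 with h | h
    · have := hff i1
      rw [hdisj i1 i0 h01.symm _ (hf i1) (h ▸ h3), herm_zero_left hu] at this
      exact zero_ne_one this
    · have := hee i0
      rw [hdisj i0 _ (Ne.symm h) _ (he i0) h1, herm_zero_left hu] at this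
      exact zero_ne_one this
  · obtain ⟨v, hv⟩ : ∃ v, v = (e i0 + f i0) + (e i1 + f i1) := ⟨_, rfl⟩
    have o1 : ∀ x ∈ D i0, ∀ y ∈ D i1, Cfsg.hermForm n F 2 x y = 0 := hD.orthogonal i0 i1 h01
    have o2 : ∀ x ∈ D i1, ∀ y ∈ D i0, Cfsg.hermForm n F 2 x y = 0 := hD.orthogonal i1 i0 h01.symm
    have hvv : (fun j => (v j) ^ 2) ⬝ᵥ v = 0 := by
      rw [hdot, hv]
      simp only [hu.add_left, herm_add_right hu, hee, hff, hef, hfe, o1 _ (he i0) _ (he i1), o1 _ (he i0) _ (hf i1),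
        o1 _ (hf i0) _ (he i1), o1 _ (hf i0) _ (hf i1), o2 _ (he i1) _ (he i0), o2 _ (hf i1) _ (he i0),
        o2 _ (he i1) _ (hf i0), o2 _ (hf i1) _ (hf i0), add_zero, zero_add, one_add_one_eq_two, h2]
    have hmem := htvU v hvv
    rw [← heq] at hmem
    have hin : e i0 ∈ S := by rw [hS]; exact ⟨i0, he i0, by rw [hee]; exact one_ne_zero⟩
    have hout := (hmem.1 (e i0)).1 hin
    rw [show (Cfsg.glToMat (Fin n) F) (tv v _ hvv) *ᵥ e i0 = (tv v _ hvv : Matrix (Fin n) (Fin n) F) *ᵥ e i0 from rfl,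
      tv_mulVec, hdot, hv, herm_add_right hu, herm_add_right hu, herm_add_right hu, hee, hef, o1 _ (he i0) _ (he i1),
      o1 _ (he i0) _ (hf i1), add_zero, add_zero, add_zero, one_smul, add_assoc (e i0) (f i0), ← add_assoc (e i0) (e i0), hneg, zero_add, hS] at hout
    obtain ⟨j, hj, -⟩ := hout
    rcases eq_or_ne j i0 with rfl | hj0
    · have h3 : Cfsg.hermForm n F 2 (f i0 + (e i1 + f i1)) (f i1) = 0 := hD.orthogonal i0 i1 h01 _ hj _ (hf i1)
      rw [hu.add_left, hu.add_left, o1 _ (hf i0) _ (hf i1), hef, hff, zero_add, zero_add] at h3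
      exact one_ne_zero h3
    · have h3 : Cfsg.hermForm n F 2 (f i0 + (e i1 + f i1)) (f i0) = 0 := hD.orthogonal j i0 hj0 _ hj _ (hf i0)
      rw [hu.add_left, hu.add_left, hff, o2 _ (he i1) _ (hf i0), o2 _ (hf i1) _ (hf i0), add_zero, add_zero] at h3
      exact one_ne_zero h3

end Cfsg.Agent.S5656
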