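import Cfsg.Statements.S5657
import Cfsg.Agent.Lib.Perm.Trans.UnitSU
import Cfsg.Agent.Lib.Perm.Trans.UnitPair

set_option autoImplicit false
open Cfsg
open scoped Matrix

namespace Cfsg.Agent.S5657

/-- Let F be the field with q² elements and n = 2k ≥ 13. Let D be a decomposition of F^n into two complementary subspaces of dimension k on each of which the standard unitary form vanishes identically. Then the elements of SU_n(q) preserving or interchanging the two subspaces form a maximal subgroup of SU_n(q). -/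
theorem result {F : Type*} [Field F] [Fintype F] (n q : ℕ) (hF : Fintype.card F = q ^ 2) (hn : 13 ≤ n) (k : ℕ) (hk : 2 * k = n) (D : Fin 2 → Submodule F (Fin n → F)) (hD : Cfsg.Geo.IsMDecomposition k D) (hts : ∀ i, Cfsg.Geo.IsTotallySingularFor (Cfsg.hermForm n F q) (D i)) : Cfsg.Geo.IsMaximalIn (Cfsg.GU n F q ⊓ Cfsg.Geo.specialLinear (Fin n) F) (Cfsg.Geo.decompositionStabilizer D ⊓ (Cfsg.GU n F q ⊓ Cfsg.Geo.specialLinear (Fin n) F)) := by
  obtain ⟨C⟩ := CfsgLib.Perm.Trans.Unit.ctx_of_card hF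
  have hsup : D 0 ⊔ D 1 = ⊤ := top_le_iff.1 (hD.iSup_eq_top ▸ iSup_le fun i => by
    fin_cases i
    exacts [le_sup_left, le_sup_right])
  have hinf : D 0 ⊓ D 1 = ⊥ := (hD.indep.pairwiseDisjoint (show (0 : Fin 2) ≠ 1 by decide)).eq_bot
  have P : CfsgLib.Perm.Trans.Unit.SingPair (Cfsg.hermForm n F q) (D 0) (D 1) :=
    ⟨hts 0, hts 1, hsup, hinf, by rw [hD.finrank_eq]; omega, by rw [hD.finrank_eq]; omega⟩
  have hmap : ∀ (g : Matrix.GeneralLinearGroup (Fin n) F) i j,
      (∀ x ∈ D i, (g : Matrix (Fin n) (Fin n) F) *ᵥ x ∈ D j) →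
        (D i).map (Matrix.toLin' (g : Matrix (Fin n) (Fin n) F)) = D j := by
    intro g i j h
    refine Submodule.eq_of_le_of_finrank_le (fun x hx => ?_) ?_
    · obtain ⟨y, hy, rfl⟩ := Submodule.mem_map.1 hx
      rw [Matrix.toLin'_apply]
      exact h y hy
    · refine ((hD.finrank_eq j).trans (hD.finrank_eq i).symm).le.trans
        (Submodule.equivMapOfInjective _ (fun a b hab => ?_) (D i)).finrank_eq.le
      have h1 := congrArg (fun v => ((g⁻¹ : Matrix.GeneralLinearGroup (Fin n) F) :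
        Matrix (Fin n) (Fin n) F) *ᵥ v) hab
      simpa [Matrix.toLin'_apply] using h1
  refine CfsgLib.Perm.Trans.Unit.pair_maximal (CfsgLib.Perm.Trans.Unit.isUnitary_hermForm C) P
    (by rw [hD.finrank_eq]; omega) (by rw [hD.finrank_eq]; omega) fun g => ?_
  constructor
  · rintro ⟨σ, hσ⟩
    have hm' : ∀ i, ∀ x ∈ D i, (g : Matrix (Fin n) (Fin n) F) *ᵥ x ∈ D (σ i) := fun i x hx => by
      rw [← hσ i, ← Matrix.toLin'_apply]
      exact Submodule.mem_map_of_mem hx
    rcases (show σ 0 = 0 ∨ σ 0 = 1 by omega) with h0 | h0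
    · have h1 : σ 1 = 1 := by
        rcases (show σ 1 = 0 ∨ σ 1 = 1 by omega) with h | h
        · exact absurd (σ.injective (h.trans h0.symm)) (by decide)
        · exact h
      exact Or.inl ⟨fun x hx => h0 ▸ hm' 0 x hx, fun x hx => h1 ▸ hm' 1 x hx⟩
    · have h1 : σ 1 = 0 := by
        rcases (show σ 1 = 0 ∨ σ 1 = 1 by omega) with h | h
        · exact h
        · exact absurd (σ.injective (h.trans h0.symm)) (by decide)
      exact Or.inr ⟨fun x hx => h0 ▸ hm' 0 x hx, fun x hx => h1 ▸ hm' 1 x hx⟩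
  · rintro (⟨hX, hY⟩ | ⟨hX, hY⟩)
    · refine ⟨1, fun i => ?_⟩
      fin_cases i
      exacts [hmap g 0 0 hX, hmap g 1 1 hY]
    · refine ⟨Equiv.swap 0 1, fun i => ?_⟩
      fin_cases i
      · exact hmap g 0 1 hX
      · exact hmap g 1 0 hY


end Cfsg.Agent.S5657
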