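import Cfsg.Statements.S5658
import Cfsg.Agent.Lib.Perm.Trans.UnitSU
import Cfsg.Agent.Lib.Perm.Trans.UnitSubfMax
-- import your own Cfsg.Agent.* helpers here

set_option autoImplicit false
open Cfsg

namespace Cfsg.Agent.S5658

/-- Let F be the field with q² elements, n ≥ 13, and F₀ a subfield with |F| = |F₀| ^ r for an odd prime r. Let P be an invertible matrix such that the standard unitary form takes values in F₀ on the F₀-span of the columns of P. Then the elements of SU_n(q) lying in the subfield group of P (the conjugate by P of the product of GL_n(F₀) with the scalars) form a maximal subgroup of SU_n(q). -/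
theorem result {F : Type*} [Field F] [Fintype F] (n q : ℕ) (hF : Fintype.card F = q ^ 2) (hn : 13 ≤ n) (F₀ : Subfield F) (r : ℕ) (hr : r.Prime) (hro : Odd r) (hcard : Fintype.card F = Nat.card F₀ ^ r) (P : Matrix.GeneralLinearGroup (Fin n) F) (hP : Cfsg.Geo.IsFormRationalStructure (Cfsg.hermForm n F q) F₀ 1 P) : Cfsg.Geo.IsMaximalIn (Cfsg.GU n F q ⊓ Cfsg.Geo.specialLinear (Fin n) F) (Cfsg.Geo.subfieldSubgroup F₀ P ⊓ (Cfsg.GU n F q ⊓ Cfsg.Geo.specialLinear (Fin n) F)) := by
  obtain ⟨C⟩ := CfsgLib.Perm.Trans.Unit.ctx_of_card hF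
  have D : CfsgLib.Perm.Trans.Unit.HermRat C.bar (Cfsg.hermForm n F q) F₀ P r :=
    { form := CfsgLib.Perm.Trans.Unit.isUnitary_hermForm C
      prime := hr
      two_lt := by
        obtain ⟨k, hk⟩ := hro
        have := hr.two_le
        omega
      card := hcard
      rat := fun a b => by
        have h := hP (fun i => (a i : F)) (fun i => (b i : F)) (fun i => (a i).2) (fun i => (b i).2)
        rw [one_mul] at h
        exact h }
  exact CfsgLib.Perm.Trans.Unit.herm_subfield_maximal D (by rw [Fintype.card_fin]; omega)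

end Cfsg.Agent.S5658
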