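import Cfsg.Statements.S5659
-- import your own Cfsg.Agent.* helpers here
import Mathlib
import Cfsg.Agent.Lib.Perm.Trans.UnitSU
import Cfsg.Agent.Lib.Perm.Trans.UnitSubfOrthMax

set_option autoImplicit false
set_option linter.all false
open Cfsg

namespace Cfsg.Agent.S5659

/-- Let F be the field with q² elements, q odd, n ≥ 13, and F₀ the subfield with q elements. Let P be an invertible matrix such that the standard unitary form takes values in F₀ on the F₀-span of the columns of P (so it restricts to a non-degenerate symmetric bilinear form there). Then the elements of SU_n(q) lying in the subfield group of P form a maximal subgroup of SU_n(q). -/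
theorem result {F : Type*} [Field F] [Fintype F] (n q : ℕ) (hF : Fintype.card F = q ^ 2) (hn : 13 ≤ n) (hodd : Odd q) (F₀ : Subfield F) (hcard : Fintype.card F = Nat.card F₀ ^ 2) (P : Matrix.GeneralLinearGroup (Fin n) F) (hP : Cfsg.Geo.IsFormRationalStructure (Cfsg.hermForm n F q) F₀ 1 P) : Cfsg.Geo.IsMaximalIn (Cfsg.GU n F q ⊓ Cfsg.Geo.specialLinear (Fin n) F) (Cfsg.Geo.subfieldSubgroup F₀ P ⊓ (Cfsg.GU n F q ⊓ Cfsg.Geo.specialLinear (Fin n) F)) := by
  obtain ⟨C⟩ := CfsgLib.Perm.Trans.Unit.ctx_of_card hF
  have hU := CfsgLib.Perm.Trans.Unit.isUnitary_hermForm C (n := n)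
  have hq : Nat.card F₀ = q := Nat.pow_left_injective two_ne_zero (hcard.symm.trans hF)
  have hmem : ∀ x : F, x ∈ F₀ → C.bar x = x := fun x hx => by
    letI : Fintype F₀ := Fintype.ofFinite F₀
    have h := FiniteField.pow_card (⟨x, hx⟩ : F₀)
    rw [← Nat.card_eq_fintype_card, hq] at h
    rw [C.bar_eq]
    exact congrArg Subtype.val h
  have hfix : ∀ x : F, x ∈ F₀ ↔ C.bar x = x := fun x => ⟨hmem x, fun hx => by
    by_contra hx0
    obtain ⟨y, hy⟩ := C.exists_not_fixed
    exact hy (CfsgLib.Perm.Trans.Subf.eq_univ_of_closed Nat.prime_two hcard (C := {z | C.bar z = z})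
      (fun a ha b hb => by simp only [Set.mem_setOf_eq] at *; rw [map_add, ha, hb])
      (fun a ha b hb => by simp only [Set.mem_setOf_eq] at *; rw [map_mul, ha, hb])
      (fun a => hmem _ a.2) (s := x) hx hx0 y)⟩
  obtain ⟨θ, hθ0, hθ⟩ := CfsgLib.Perm.Trans.exists_trace_zero hU
  have hq1 : ringChar F ≠ 2 := fun h => by
    have h1 := FiniteField.even_card_iff_char_two.1 h
    rw [hF, Nat.pow_mod, Nat.odd_iff.1 hodd] at h1
    norm_num at h1
  have D : CfsgLib.Perm.Trans.Unit.ORat.OD C.bar (Cfsg.hermForm n F q) F₀ P θ :=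
    { form := hU
      fix := hfix
      rat := fun a b => by
        have := hP _ _ (fun i => (a i).2) (fun i => (b i).2)
        rwa [one_mul] at this
      two := Ring.two_ne_zero hq1
      ne_zero := hθ0
      bar := hθ
      big := by rw [Fintype.card_fin]; omega }
  exact CfsgLib.Perm.Trans.Unit.ORat.orth_subfield_maximal D (by rw [Fintype.card_fin]; omega)

end Cfsg.Agent.S5659
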