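import Cfsg.Statements.S5660
import Cfsg.Agent.Lib.Perm.Trans.UnitSU
import Cfsg.Agent.Lib.Perm.Trans.UnitSubfSymp
-- import your own Cfsg.Agent.* helpers here

set_option autoImplicit false
open Cfsg

namespace Cfsg.Agent.S5660

/-- Let F be the field with q² elements, n ≥ 13 even, and F₀ the subfield with q elements. Let ζ be a non-zero element with ζ + ζ^q = 0 and P an invertible matrix such that ζ times the standard unitary form takes values in F₀ on the F₀-span of the columns of P and the form vanishes on every pair (u, u) of that span (so ζ times the form restricts to a non-degenerate alternating form there). Then the elements of SU_n(q) lying in the subfield group of P form a maximal subgroup of SU_n(q). -/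
theorem result {F : Type*} [Field F] [Fintype F] (n q : ℕ) (hF : Fintype.card F = q ^ 2) (hn : 13 ≤ n) (heven : Even n) (F₀ : Subfield F) (hcard : Fintype.card F = Nat.card F₀ ^ 2) (ζ : F) (hζ0 : ζ ≠ 0) (hζ : ζ + ζ ^ q = 0) (P : Matrix.GeneralLinearGroup (Fin n) F) (hP : Cfsg.Geo.IsFormRationalStructure (Cfsg.hermForm n F q) F₀ ζ P) (halt : ∀ u : Fin n → F, (∀ i, u i ∈ F₀) → Cfsg.hermForm n F q (Matrix.mulVec (P : Matrix (Fin n) (Fin n) F) u) (Matrix.mulVec (P : Matrix (Fin n) (Fin n) F) u) = 0) : Cfsg.Geo.IsMaximalIn (Cfsg.GU n F q ⊓ Cfsg.Geo.specialLinear (Fin n) F) (Cfsg.Geo.subfieldSubgroup F₀ P ⊓ (Cfsg.GU n F q ⊓ Cfsg.Geo.specialLinear (Fin n) F)) := by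
  obtain ⟨C⟩ := CfsgLib.Perm.Trans.Unit.ctx_of_card hF
  have hU := CfsgLib.Perm.Trans.Unit.isUnitary_hermForm C (n := n)
  have hq : Nat.card F₀ = q := Nat.pow_left_injective two_ne_zero (hcard.symm.trans hF)
  have hmem : ∀ x : F, x ∈ F₀ → C.bar x = x := fun x hx => by
    letI : Fintype F₀ := Fintype.ofFinite F₀
    have h := FiniteField.pow_card (⟨x, hx⟩ : F₀)
    rw [← Nat.card_eq_fintype_card, hq] at h
    rw [C.bar_eq]
    exact congrArg Subtype.val h
  have hfix : ∀ x : F, x ∈ F₀ ↔ C.bar x = x := fun x => ⟨hmem x, fun hx => by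
    by_contra hx0
    obtain ⟨y, hy⟩ := C.exists_not_fixed
    exact hy (CfsgLib.Perm.Trans.Subf.eq_univ_of_closed Nat.prime_two hcard (C := {z | C.bar z = z})
      (fun a ha b hb => by simp only [Set.mem_setOf_eq] at *; rw [map_add, ha, hb])
      (fun a ha b hb => by simp only [Set.mem_setOf_eq] at *; rw [map_mul, ha, hb])
      (fun a => hmem _ a.2) (s := x) hx hx0 y)⟩
  have D : CfsgLib.Perm.Trans.Unit.SympRat C.bar (Cfsg.hermForm n F q) F₀ P ζ :=
    { form := hU
      ne_zero := hζ0
      bar := by rw [C.bar_eq]; exact eq_neg_of_add_eq_zero_right hζ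
      fix := hfix
      rat := fun a b => hP _ _ (fun i => (a i).2) (fun i => (b i).2)
      alt := fun a => halt _ (fun i => (a i).2)
      card := hcard }
  exact CfsgLib.Perm.Trans.Unit.symp_subfield_maximal D (by rw [Fintype.card_fin]; omega)

end Cfsg.Agent.S5660
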