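import Cfsg.Statements.S5667
-- import your own Cfsg.Agent.* helpers here

import Mathlib
import Cfsg.Agent.Lib.Perm.Trans.SympDecomp
import Cfsg.Agent.Lib.Perm.Trans.TensorFrame

set_option autoImplicit false
open Cfsg

namespace Cfsg.Agent.S5667
open Matrix CfsgLib.Perm.Asch CfsgLib.Perm.Trans CfsgLib.Perm.Trans.Symp

/-- Over the field with 3 elements and for m ≥ 7, suppose the standard alternating form on F^(2m) is similar, through P and e, to the tensor product of a non-degenerate symplectic form f₁ on F^(n₁) and a non-degenerate symmetric bilinear form f₂ on F^3. Then the elements of Sp_2m(3) in the stabiliser of this tensor decomposition form a subgroup that is not maximal: some subgroup lies strictly between it and Sp_2m(3). -/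
theorem result {F : Type*} [Field F] [Fintype F] (m : ℕ) (hm : 7 ≤ m) (hq : Fintype.card F = 3) (n₁ : ℕ) (e : (Fin m ⊕ Fin m) ≃ Fin n₁ × Fin 3) (P : Matrix.GeneralLinearGroup (Fin m ⊕ Fin m) F) (f₁ : (Fin n₁ → F) → (Fin n₁ → F) → F) (f₂ : (Fin 3 → F) → (Fin 3 → F) → F) (hf₁ : Cfsg.Geo.IsSymplecticForm f₁) (hf₂ : Cfsg.Geo.IsSymmetricForm f₂) (hT : Cfsg.Geo.IsTensorFormStructure id (Cfsg.sympForm m F) f₁ f₂ e P) : ∃ K : Subgroup (Matrix.GeneralLinearGroup (Fin m ⊕ Fin m) F), Cfsg.Geo.tensorProductSubgroup n₁ 3 e P ⊓ Cfsg.spGL m F < K ∧ K < Cfsg.spGL m F := by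
  classical
  have hf := isSymplecticForm_sympForm (m := m) (F := F)
  have hn₁ : 3 ≤ n₁ := by
    have := Fintype.card_congr e
    simp at this
    omega
  obtain ⟨v, γ, hγ, hv, hspan, hframe⟩ := TensorFrame.exists_frame_three hq hf₂
  have C := TensorFrame.ctx_tvec (σ := id) (fun a b => rfl) hf.bilinear.add_left hf.bilinear.smul_left
    (TensorFrame.sesq_of_bilinear hf₁.bilinear) hf₁.nondegenerate
    (TensorFrame.sesq_of_bilinear hf₂.bilinear) hf₂.nondegenerate hT
  have horth : ∀ i j, i ≠ j → f₂ (v i) (v j) = 0 := fun i j h => by rw [hv, if_neg h]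
  have hval : ∀ i, f₂ (v i) (v i) ≠ 0 := fun i => by rw [hv, if_pos rfl]; exact hγ
  have hD := C.member_ok (by omega) (by norm_num) horth hval hspan
  have hle : Cfsg.Geo.tensorProductSubgroup n₁ 3 e P ⊓ Cfsg.spGL m F ≤
      Cfsg.Geo.decompositionStabilizer (C.member v) ⊓ Cfsg.spGL m F := by
    refine le_inf (fun g hg => ?_) inf_le_right
    obtain ⟨a, b, hab⟩ := TensorFrame.mem_tensor hg.1
    obtain ⟨l, hl, hsim⟩ := C.similitude (by omega) (by norm_num) hg.2 hab
    exact C.stab_of_frame hD hab (hframe b l hl hsim)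
  refine ⟨_, lt_of_le_of_ne hle fun heq => ?_, (decomposition_maximal hf hD (Or.inl hn₁)).1⟩
  obtain ⟨u, hu, hu0⟩ := Submodule.exists_mem_ne_zero_of_ne_bot (p := C.member v 0) fun h => by
    have := hD.decomp.finrank_eq 0
    rw [h, finrank_bot] at this
    omega
  have hfix : ∀ j : Fin 3, j ≠ 0 → ∀ z ∈ C.member v j,
      (stv hf u 1 : Matrix (Fin m ⊕ Fin m) (Fin m ⊕ Fin m) F) *ᵥ z = z := fun j hj z hz => by
    rw [stv_mulVec, hD.orthogonal j 0 hj z hz u hu, mul_zero, zero_smul, add_zero]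
  have h0 : ∀ z ∈ C.member v 0, (stv hf u 1 : Matrix (Fin m ⊕ Fin m) (Fin m ⊕ Fin m) F) *ᵥ z ∈ C.member v 0 :=
    fun z hz => by rw [stv_mulVec]; exact Submodule.add_mem _ hz (Submodule.smul_mem _ _ hu)
  have hmem : stv hf u 1 ∈ Cfsg.Geo.decompositionStabilizer (C.member v) ⊓ Cfsg.spGL m F := by
    refine ⟨⟨1, fun j => ?_⟩, stv_iso hf u 1⟩
    refine map_eq_of_maps hf hD fun z hz => ?_
    rcases eq_or_ne j 0 with rfl | hj
    · exact h0 z hz
    · rw [hfix j hj z hz]; exact hz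
  rw [← heq] at hmem
  obtain ⟨a, b, hab⟩ := TensorFrame.mem_tensor hmem.1
  obtain ⟨l, hl⟩ := C.scalar_of_fix (by omega) horth hval hspan hab (i := 0) (j := 1) (hfix 1 (by decide)) h0
  obtain ⟨y, hy, hyu⟩ := (hD.nondegenerate 0 u hu hu0).1
  have h1 := hl u hu
  rw [stv_mulVec, hf.alternating, mul_zero, zero_smul, add_zero] at h1
  have hl1 : l = 1 := smul_left_injective F hu0 (show l • u = (1 : F) • u by rw [← h1, one_smul])
  have h2 := hl y hy
  rw [stv_mulVec, hl1, one_smul, one_mul, add_eq_left, smul_eq_zero] at h2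
  exact h2.elim hyu hu0

end Cfsg.Agent.S5667
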