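import Cfsg.Statements.S5668
import Cfsg.Agent.Lib.Perm.Trans.TensorPowerSp.Max

set_option autoImplicit false
open Cfsg

namespace Cfsg.Agent.S5668

/-- For a finite field F of odd order q and m ≥ 7, suppose the standard alternating form on F^(2m) is similar, through a change of basis P and a bijection of index sets e, to the t-fold tensor power of a non-degenerate symplectic form f₁ on F^k, with t odd, t ≥ 3 and (q, k) ≠ (3, 2). Then the elements of Sp_2m(F) in the stabiliser of this decomposition (the conjugate by P of the standard tensor-wreath subgroup transported along e) form a maximal subgroup of Sp_2m(F). -/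
theorem result {F : Type*} [Field F] [Fintype F] (m : ℕ) (hm : 7 ≤ m) (hodd : Odd (Fintype.card F)) (k t : ℕ) (ht : Odd t) (ht3 : 3 ≤ t) (hex : ¬ (Fintype.card F = 3 ∧ k = 2)) (e : (Fin m ⊕ Fin m) ≃ (Fin t → Fin k)) (P : Matrix.GeneralLinearGroup (Fin m ⊕ Fin m) F) (f₁ : (Fin k → F) → (Fin k → F) → F) (hf₁ : Cfsg.Geo.IsSymplecticForm f₁) (hT : Cfsg.Geo.IsTensorPowerFormStructure id (Cfsg.sympForm m F) f₁ e P) : Cfsg.Geo.IsMaximalIn (Cfsg.spGL m F) (Cfsg.Geo.tensorWreathSubgroup k t e P ⊓ Cfsg.spGL m F) := by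
  have h2 : (2 : F) ≠ 0 := fun h => by
    haveI : CharP F (ringChar F) := ringChar.charP F
    have h2' : ringChar F ∣ 2 := ringChar.dvd (by exact_mod_cast h)
    obtain ⟨n, hp, hc⟩ := FiniteField.card F (ringChar F)
    rw [hc, Nat.odd_pow_iff n.pos.ne'] at hodd
    rw [(Nat.prime_dvd_prime_iff_eq hp Nat.prime_two).1 h2'] at hodd
    exact absurd hodd (by decide)
  obtain ⟨r, hr⟩ := CfsgLib.Perm.Trans.TensorPowerSp.even_of_symplectic h2 hf₁
  have hk0 : r ≠ 0 := fun h0 => by
    subst h0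
    have i : Fin m ⊕ Fin m := Sum.inl ⟨0, by omega⟩
    have := (e i ⟨0, by omega⟩).isLt
    omega
  obtain ⟨n, rfl⟩ : ∃ n, k = 2 * n + 2 := ⟨r - 1, by omega⟩
  have hq : 1 ≤ n ∨ 3 < Fintype.card F := by
    by_contra hcon
    push Not at hcon
    have h1 : 1 < Fintype.card F := Fintype.one_lt_card
    obtain ⟨j, hj⟩ := hodd
    exact hex ⟨by omega, by omega⟩
  exact CfsgLib.Perm.Trans.TensorPowerSp.symp_tensor_wreath_maximal (f := Cfsg.sympForm m F) h2 hq (by omega) ht hf₁ e P hT

end Cfsg.Agent.S5668
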