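import Cfsg.Statements.S5670
-- import your own Cfsg.Agent.* helpers here
import Mathlib
import Cfsg.Agent.Lib.Perm.Trans.TensorHermStep
import Cfsg.Agent.Lib.Perm.Trans.UnitSU

set_option autoImplicit false
set_option linter.all false
open Cfsg

namespace Cfsg.Agent.S5670

/-- Let F be the field with q² elements and n = n₁ n₂ ≥ 13 with 2 ≤ n₁ < n₂ and (n₁, q) ≠ (2, 2). Suppose the standard unitary form on F^n is similar, through a change of basis P and a bijection of index sets e, to the tensor product of non-degenerate unitary forms f₁ on F^(n₁) and f₂ on F^(n₂) (forms linear in the first argument with f_i(v, w) = f_i(w, v)^q). Then the elements of SU_n(q) in the stabiliser of this tensor decomposition form a maximal subgroup of SU_n(q). -/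
theorem result {F : Type*} [Field F] [Fintype F] (n q : ℕ) (hF : Fintype.card F = q ^ 2) (hn : 13 ≤ n) (n₁ n₂ : ℕ) (h1 : 2 ≤ n₁) (h12 : n₁ < n₂) (hex : ¬ (n₁ = 2 ∧ q = 2)) (e : Fin n ≃ Fin n₁ × Fin n₂) (P : Matrix.GeneralLinearGroup (Fin n) F) (f₁ : (Fin n₁ → F) → (Fin n₁ → F) → F) (f₂ : (Fin n₂ → F) → (Fin n₂ → F) → F) (hf₁ : Cfsg.Geo.IsUnitaryFormPow q f₁) (hf₂ : Cfsg.Geo.IsUnitaryFormPow q f₂) (hT : Cfsg.Geo.IsTensorFormStructure (fun x : F => x ^ q) (Cfsg.hermForm n F q) f₁ f₂ e P) : Cfsg.Geo.IsMaximalIn (Cfsg.GU n F q ⊓ Cfsg.Geo.specialLinear (Fin n) F) (Cfsg.Geo.tensorProductSubgroup n₁ n₂ e P ⊓ (Cfsg.GU n F q ⊓ Cfsg.Geo.specialLinear (Fin n) F)) := by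
  classical
  obtain ⟨C0⟩ := CfsgLib.Perm.Trans.Unit.ctx_of_card (q := q) hF
  have hu := CfsgLib.Perm.Trans.Unit.isUnitary_hermForm (n := n) C0
  have hbar : ∀ x, C0.bar x = x ^ q := fun x => C0.bar_eq x
  have hbar' : (fun x : F => x ^ q) = ⇑C0.bar := funext fun x => (hbar x).symm
  have hU : ∀ (k : ℕ) (g : (Fin k → F) → (Fin k → F) → F), Cfsg.Geo.IsUnitaryFormPow q g →
      Cfsg.Geo.IsUnitaryForm C0.bar g := fun k g hg =>
    ⟨hu.ne_refl, hu.involutive, hg.add_left, hg.smul_left, fun v w => by rw [hbar]; exact hg.herm v w,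
      hg.nondegenerate⟩
  have hu1 := hU n₁ f₁ hf₁
  have hu2 := hU n₂ f₂ hf₂
  have hsesq : ∀ (k : ℕ) (g : (Fin k → F) → (Fin k → F) → F), Cfsg.Geo.IsUnitaryForm C0.bar g →
      CfsgLib.Perm.Trans.TensorFrame.IsSesq (⇑C0.bar) g := fun k g hg =>
    ⟨hg.add_left, hg.smul_left, CfsgLib.Perm.Trans.herm_add_right hg, CfsgLib.Perm.Trans.herm_smul_right hg⟩
  rw [hbar'] at hT
  obtain ⟨k, hk, hpol⟩ := CfsgLib.Perm.Trans.TensorFrame.tvec_form (σ := ⇑C0.bar) (map_mul C0.bar)
    (hsesq n₁ f₁ hu1) (hsesq n₂ f₂ hu2) hT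
  have hcard : n₁ * n₂ = n := by simpa using (Fintype.card_congr e).symm
  have hs : 5 ≤ n₂ := by
    by_contra hlt
    have := Nat.mul_le_mul (show n₁ ≤ 3 by omega) (show n₂ ≤ 4 by omega)
    omega
  have hkσ : C0.bar k = k := by
    obtain ⟨x, -, hx⟩ := CfsgLib.Perm.Trans.Unit.exists_anisotropic hu1
      (CfsgLib.Perm.Trans.Unit.isNondegenerateOn_top hu1) (fun h0 => by
        have := congrArg (fun W : Submodule F (Fin n₁ → F) => Module.finrank F W) h0
        simp at this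
        omega)
    obtain ⟨y, -, hy⟩ := CfsgLib.Perm.Trans.Unit.exists_anisotropic hu2
      (CfsgLib.Perm.Trans.Unit.isNondegenerateOn_top hu2) (fun h0 => by
        have := congrArg (fun W : Submodule F (Fin n₂ → F) => Module.finrank F W) h0
        simp at this
        omega)
    have e1 := hu.herm (CfsgLib.Perm.Trans.TensorFrame.tvec e P x y) (CfsgLib.Perm.Trans.TensorFrame.tvec e P x y)
    rw [hpol, map_mul, map_mul, ← hu1.herm, ← hu2.herm] at e1
    exact (mul_right_cancel₀ (mul_ne_zero hx hy) e1).symm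
  have hex' : 3 ≤ n₁ ∨ ∃ t : F, C0.bar t = t ∧ t ≠ 0 ∧ t ≠ 1 := by
    by_contra hcon
    push Not at hcon
    obtain ⟨hr, hfix⟩ := hcon
    have hall : ∀ x : Fˣ, x ^ (q + 1) = 1 := fun x => Units.ext (by
      rw [Units.val_pow_eq_pow_val, Units.val_one, pow_succ, ← hbar, mul_comm]
      exact hfix _ (by rw [map_mul, C0.bar_bar, mul_comm]) (mul_ne_zero x.ne_zero (by simp)))
    have hdvd := Nat.le_of_dvd (by omega) ((FiniteField.forall_pow_eq_one_iff F (q + 1)).1 hall)
    rw [hF] at hdvd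
    have h1q : 1 < q := by
      have := Fintype.one_lt_card (α := F)
      rw [hF] at this
      rcases Nat.lt_or_ge 1 q with h | h
      · exact h
      · interval_cases q <;> simp at this
    have hq : q ≤ 2 := by
      by_contra h3
      have := Nat.mul_le_mul_right q (show 3 ≤ q by omega)
      rw [sq] at hdvd
      omega
    exact hex ⟨by omega, by omega⟩
  exact CfsgLib.Perm.Trans.TensorHerm.unitary_tensor_maximal (f := Cfsg.hermForm n F q) hu hu1 hu2 hk hkσ hpol
    h1 (le_trans (by omega) hs) h12 hex'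

end Cfsg.Agent.S5670
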