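import Cfsg.Statements.S5671
-- import your own Cfsg.Agent.* helpers here
import Mathlib
import Cfsg.Agent.Lib.Perm.Trans.UnitSU
import Cfsg.Agent.Lib.Perm.Trans.TensorFrame

set_option autoImplicit false
open Cfsg

namespace Cfsg.Agent.S5671
open Matrix CfsgLib.Perm.Asch CfsgLib.Perm.Trans

/-- Let F be the field with 4 elements (q = 2) and n = 2 n₂ ≥ 13. Suppose the standard unitary form Σ u_i v_i² on F^n is similar, through P and e, to the tensor product of non-degenerate unitary forms f₁ on F^2 and f₂ on F^(n₂). Then the elements of SU_n(2) in the stabiliser of this tensor decomposition form a subgroup that is not maximal: some subgroup lies strictly between it and SU_n(2). -/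
theorem result {F : Type*} [Field F] [Fintype F] (n : ℕ) (hF : Fintype.card F = 4) (hn : 13 ≤ n) (n₂ : ℕ) (e : Fin n ≃ Fin 2 × Fin n₂) (P : Matrix.GeneralLinearGroup (Fin n) F) (f₁ : (Fin 2 → F) → (Fin 2 → F) → F) (f₂ : (Fin n₂ → F) → (Fin n₂ → F) → F) (hf₁ : Cfsg.Geo.IsUnitaryFormPow 2 f₁) (hf₂ : Cfsg.Geo.IsUnitaryFormPow 2 f₂) (hT : Cfsg.Geo.IsTensorFormStructure (fun x : F => x ^ 2) (Cfsg.hermForm n F 2) f₁ f₂ e P) : ∃ K : Subgroup (Matrix.GeneralLinearGroup (Fin n) F), Cfsg.Geo.tensorProductSubgroup 2 n₂ e P ⊓ (Cfsg.GU n F 2 ⊓ Cfsg.Geo.specialLinear (Fin n) F) < K ∧ K < (Cfsg.GU n F 2 ⊓ Cfsg.Geo.specialLinear (Fin n) F) := by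
  classical
  obtain ⟨C0⟩ := CfsgLib.Perm.Trans.Unit.ctx_of_card (q := 2) (show Fintype.card F = 2 ^ 2 by rw [hF]; norm_num)
  have hu := CfsgLib.Perm.Trans.Unit.isUnitary_hermForm (n := n) C0
  have hn₂ : 7 ≤ n₂ := by
    have := Fintype.card_congr e
    simp at this
    omega
  have h2 : (2 : F) = 0 := by
    have h4 : ((4 : ℕ) : F) = 0 := hF ▸ FiniteField.cast_card_eq_zero F
    have : (2 : F) * 2 = 0 := by rw [← h4]; norm_num
    simpa using this
  have hbar : ∀ x, C0.bar x = x ^ 2 := fun x => C0.bar_eq x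
  have hsesq : ∀ (k : ℕ) (g : (Fin k → F) → (Fin k → F) → F), Cfsg.Geo.IsUnitaryFormPow 2 g →
      TensorFrame.IsSesq (fun x : F => x ^ 2) g := fun k g hg =>
    ⟨hg.add_left, hg.smul_left, fun v x y => by
      rw [hg.herm v (x + y), hg.add_left, hg.herm v x, hg.herm v y]
      linear_combination (g x v * g y v) * h2,
    fun c v x => by
      show g v (c • x) = c ^ 2 * g v x
      rw [hg.herm v (c • x), hg.smul_left, mul_pow, ← hg.herm v x]⟩
  have hU₁ : Cfsg.Geo.IsUnitaryForm C0.bar f₁ :=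
    ⟨hu.ne_refl, hu.involutive, hf₁.add_left, hf₁.smul_left, fun v w => by rw [hbar]; exact hf₁.herm v w, hf₁.nondegenerate⟩
  have hval : ∀ (k : ℕ) (g : (Fin k → F) → (Fin k → F) → F), Cfsg.Geo.IsUnitaryForm C0.bar g →
      ∀ x, g x x = 0 ∨ g x x = 1 := fun k g hg x => by
    have h1 := hg.herm x x
    rw [hbar] at h1
    rcases eq_or_ne (g x x) 0 with h | h
    · exact Or.inl h
    · refine Or.inr (mul_left_cancel₀ h ?_)
      rw [mul_one, ← sq]
      exact h1.symm
  -- a vector of value one in a non-degenerate subspace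
  have hone : ∀ (k : ℕ) (g : (Fin k → F) → (Fin k → F) → F), Cfsg.Geo.IsUnitaryForm C0.bar g →
      ∀ W : Submodule F (Fin k → F), W ≠ ⊥ → Cfsg.Geo.IsNondegenerateOn g W → ∃ x ∈ W, g x x = 1 := by
    intro k g hg W hW hnd
    by_contra hcon
    push Not at hcon
    have hall : ∀ y ∈ W, g y y = 0 := fun y hy => (hval k g hg y).resolve_right (hcon y hy)
    obtain ⟨w, hw, hw0⟩ := Submodule.exists_mem_ne_zero_of_ne_bot hW
    obtain ⟨y, hy, hyw⟩ := (hnd w hw hw0).1
    obtain ⟨a, ha⟩ := exists_not_fixed hg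
    obtain ⟨y', hy', hy'w⟩ : ∃ y' ∈ W, g y' w = a :=
      ⟨(a / g y w) • y, W.smul_mem _ hy, by rw [hg.smul_left, div_mul_cancel₀ _ hyw]⟩
    have h3 := hall _ (W.add_mem hy' hw)
    rw [hg.add_left, herm_add_right hg, herm_add_right hg, hall _ hy', hall _ hw, hy'w,
      hg.herm w y', hy'w, zero_add, add_zero] at h3
    refine ha ?_
    linear_combination h3 - a * h2
  -- an orthonormal frame of the two-dimensional factor
  obtain ⟨v, hvf, hspan⟩ : ∃ v : Fin 2 → Fin 2 → F, (∀ i j, f₁ (v i) (v j) = if i = j then 1 else 0) ∧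
      ∀ y, y ∈ Submodule.span F (Set.range v) := by
    obtain ⟨e₁, -, he⟩ := hone 2 f₁ hU₁ ⊤ (fun h => by
      have := congrArg (fun W : Submodule F (Fin 2 → F) => Module.finrank F W) h
      simp at this)
      (fun x _ hx => ⟨⟨_, Submodule.mem_top, (hf₁.nondegenerate x hx).1.choose_spec⟩,
        ⟨_, Submodule.mem_top, (hf₁.nondegenerate x hx).2.choose_spec⟩⟩)
    obtain ⟨e₂, he2k, he20⟩ := Submodule.exists_mem_ne_zero_of_ne_bot (p := perpOf hU₁ e₁) fun h => by
      have := finrank_perp hU₁ e₁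
      rw [h, finrank_bot, Fintype.card_fin] at this
      omega
    have h21 : f₁ e₂ e₁ = 0 := he2k
    have h12 : f₁ e₁ e₂ = 0 := herm_swap_zero hU₁ h21
    have hind : LinearIndependent F ![e₁, e₂] := by
      rw [LinearIndependent.pair_iff]
      intro s t hst
      have h := congrArg (fun z => f₁ z e₁) hst
      replace h : f₁ (s • e₁ + t • e₂) e₁ = f₁ 0 e₁ := h
      rw [hU₁.add_left, hU₁.smul_left, hU₁.smul_left, he, h21, herm_zero_left hU₁, mul_one, mul_zero, add_zero] at h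
      rw [h, zero_smul, zero_add] at hst
      exact ⟨h, (smul_eq_zero.1 hst).resolve_right he20⟩
    have hspan : ∀ y, y ∈ Submodule.span F (Set.range ![e₁, e₂]) := fun y => by
      rw [hind.span_eq_top_of_card_eq_finrank (by simp)]
      exact Submodule.mem_top
    have h22 : f₁ e₂ e₂ = 1 := (hval 2 f₁ hU₁ e₂).resolve_left fun h => by
      obtain ⟨z, hz⟩ := (hf₁.nondegenerate e₂ he20).1
      refine hz ?_
      obtain ⟨α, rfl⟩ := (Submodule.mem_span_range_iff_exists_fun F).1 (hspan z)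
      rw [Fin.sum_univ_two, hU₁.add_left, hU₁.smul_left, hU₁.smul_left]
      simp [h, h12]
    refine ⟨![e₁, e₂], fun i j => ?_, hspan⟩
    fin_cases i <;> fin_cases j <;> simp [he, h21, h12, h22]
  have horth : ∀ i j, i ≠ j → f₁ (v i) (v j) = 0 := fun i j h => by rw [hvf, if_neg h]
  have hvv : ∀ i, f₁ (v i) (v i) = 1 := fun i => by rw [hvf, if_pos rfl]
  have hv0 : ∀ i, f₁ (v i) (v i) ≠ 0 := fun i => by rw [hvv]; exact one_ne_zero
  have C := (TensorFrame.ctx_tvec (σ := fun x : F => x ^ 2) (fun a b => mul_pow a b 2) hu.add_left hu.smul_left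
    (hsesq 2 f₁ hf₁) hf₁.nondegenerate (hsesq n₂ f₂ hf₂) hf₂.nondegenerate hT).swap
  have hD := C.member_ok (by omega) le_rfl horth hv0 hspan
  have hle : Cfsg.Geo.tensorProductSubgroup 2 n₂ e P ⊓ (Cfsg.GU n F 2 ⊓ Cfsg.Geo.specialLinear (Fin n) F) ≤
      Cfsg.Geo.decompositionStabilizer (C.member v) ⊓ (Cfsg.GU n F 2 ⊓ Cfsg.Geo.specialLinear (Fin n) F) := by
    refine le_inf (fun g hg => ?_) inf_le_right
    obtain ⟨a, b, hab⟩ := TensorFrame.mem_tensor hg.1
    have hab' : ∀ x y, (g : Matrix (Fin n) (Fin n) F) *ᵥ TensorFrame.tvec e P y x =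
        TensorFrame.tvec e P ((a : Matrix (Fin 2) (Fin 2) F) *ᵥ y) ((b : Matrix (Fin n₂) (Fin n₂) F) *ᵥ x) :=
      fun x y => hab y x
    obtain ⟨l, hl, hsim⟩ := C.similitude (by omega) (by norm_num) hg.2.1 hab'
    refine C.stab_of_frame hD hab' fun j => ?_
    have hl1 : l = 1 := by
      have h := hsim (v j) (v j)
      rw [hvv, mul_one] at h
      rcases hval 2 f₁ hU₁ ((a : Matrix (Fin 2) (Fin 2) F) *ᵥ v j) with h' | h'
      · exact absurd (h.symm.trans h') hl
      · exact h.symm.trans h'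
    obtain ⟨α, hα⟩ := (Submodule.mem_span_range_iff_exists_fun F).1 (hspan ((a : Matrix (Fin 2) (Fin 2) F) *ᵥ v j))
    rw [Fin.sum_univ_two] at hα
    rcases eq_or_ne (α 0) 0 with h0 | h0
    · exact ⟨1, hα ▸ by rw [h0, zero_smul, zero_add]; exact Submodule.smul_mem _ _ (Submodule.mem_span_singleton_self _)⟩
    rcases eq_or_ne (α 1) 0 with h1 | h1
    · exact ⟨0, hα ▸ by rw [h1, zero_smul, add_zero]; exact Submodule.smul_mem _ _ (Submodule.mem_span_singleton_self _)⟩
    exfalso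
    have hself : ∀ c : F, c ≠ 0 → c * C0.bar c = 1 := fun c hc => by
      rw [hbar, ← pow_succ']
      have := FiniteField.pow_card_sub_one_eq_one c hc
      rwa [hF] at this
    have h := hsim (v j) (v j)
    rw [hvv, hl1, mul_one, ← hα, hU₁.add_left, herm_add_right hU₁, herm_add_right hU₁, hU₁.smul_left,
      hU₁.smul_left, hU₁.smul_left, hU₁.smul_left, herm_smul_right hU₁, herm_smul_right hU₁, herm_smul_right hU₁,
      herm_smul_right hU₁, hvv, hvv, horth 0 1 (by decide), horth 1 0 (by decide), mul_zero, mul_zero, mul_one,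
      mul_zero, mul_zero, mul_one, add_zero, zero_add, hself _ h0, hself _ h1, one_add_one_eq_two, h2] at h
    exact zero_ne_one h
  have hdim : ∀ i, Module.finrank F (C.member v i) = n₂ := hD.decomp.finrank_eq
  have hneg : (-1 : F) = 1 := by linear_combination (-1 : F) * h2
  have hc1 : C0.bar 1 = -1 := by rw [map_one, hneg]
  have hmemU : ∀ (u : Fin n → F) (huu : Cfsg.hermForm n F 2 u u = 0),
      tv u ((1 : F) • hv hu u) (utv_orth hu huu 1) ∈ Cfsg.GU n F 2 ⊓ Cfsg.Geo.specialLinear (Fin n) F := fun u huu =>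
    ⟨fun x y => utv_isometry hu u huu hc1 (utv_orth hu huu 1) x y, tv_mem_SL _ _ _⟩
  have htv : ∀ (u x : Fin n → F) (huu : Cfsg.hermForm n F 2 u u = 0),
      (tv u ((1 : F) • hv hu u) (utv_orth hu huu 1) : Matrix (Fin n) (Fin n) F) *ᵥ x =
        x + Cfsg.hermForm n F 2 x u • u := fun u x huu => by rw [tv_mulVec, one_smul, hv_dot]
  refine ⟨_, lt_of_le_of_ne hle fun heq => ?_, lt_of_le_of_ne inf_le_right fun heq => ?_⟩
  · obtain ⟨u, hu0m, hu0, huu⟩ := exists_isotropic hu (W := C.member v 0) (by rw [hdim]; omega)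
    have hfix : ∀ j : Fin 2, j ≠ 0 → ∀ z ∈ C.member v j,
        (tv u ((1 : F) • hv hu u) (utv_orth hu huu 1) : Matrix (Fin n) (Fin n) F) *ᵥ z = z := fun j hj z hz => by
      rw [htv _ _ huu, hD.orthogonal j 0 hj z hz u hu0m, zero_smul, add_zero]
    have h0 : ∀ z ∈ C.member v 0,
        (tv u ((1 : F) • hv hu u) (utv_orth hu huu 1) : Matrix (Fin n) (Fin n) F) *ᵥ z ∈ C.member v 0 :=
      fun z hz => by rw [htv _ _ huu]; exact Submodule.add_mem _ hz (Submodule.smul_mem _ _ hu0m)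
    have hmem : tv u ((1 : F) • hv hu u) (utv_orth hu huu 1) ∈
        Cfsg.Geo.decompositionStabilizer (C.member v) ⊓ (Cfsg.GU n F 2 ⊓ Cfsg.Geo.specialLinear (Fin n) F) := by
      refine ⟨⟨1, fun j => Submodule.eq_of_le_of_finrank_le ?_ (le_of_eq ?_)⟩, hmemU u huu⟩
      · rintro _ ⟨z, hz, rfl⟩
        rw [Matrix.toLin'_apply, Equiv.Perm.one_apply]
        rcases eq_or_ne j 0 with rfl | hj
        · exact h0 z hz
        · rw [hfix j hj z hz]; exact hz
      · rw [hdim, ← (Submodule.equivMapOfInjective _ (fun p q hpq => by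
          have := congrArg (fun x => (((tv u ((1 : F) • hv hu u) (utv_orth hu huu 1))⁻¹ :
            Matrix.GeneralLinearGroup (Fin n) F) : Matrix (Fin n) (Fin n) F) *ᵥ x) hpq
          simpa only [Matrix.toLin'_apply, gl_inv_mulVec] using this) _).finrank_eq, hdim]
    rw [← heq] at hmem
    obtain ⟨a, b, hab⟩ := TensorFrame.mem_tensor hmem.1
    obtain ⟨l, hl⟩ := C.scalar_of_fix (by omega) horth hv0 hspan (fun x y => hab y x) (i := 0) (j := 1)
      (hfix 1 (by decide)) h0
    obtain ⟨y, hy, hyu⟩ := (hD.nondegenerate 0 u hu0m hu0).1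
    have h1 := hl u hu0m
    rw [htv _ _ huu, huu, zero_smul, add_zero] at h1
    have hl1 : l = 1 := smul_left_injective F hu0 (show l • u = (1 : F) • u by rw [← h1, one_smul])
    have h3 := hl y hy
    rw [htv _ _ huu, hl1, one_smul, add_eq_left, smul_eq_zero] at h3
    exact h3.elim hyu hu0
  · have hne : ∀ i, C.member v i ≠ ⊥ := fun i h => by
      have := hdim i
      rw [h, finrank_bot] at this
      omega
    obtain ⟨x₀, hx₀, h00⟩ := hone n _ hu _ (hne 0) (hD.nondegenerate 0)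
    obtain ⟨x₁, hx₁, h11⟩ := hone n _ hu _ (hne 1) (hD.nondegenerate 1)
    have h01 := hD.orthogonal 0 1 (by decide) x₀ hx₀ x₁ hx₁
    have h10 := hD.orthogonal 1 0 (by decide) x₁ hx₁ x₀ hx₀
    have hxx : Cfsg.hermForm n F 2 (x₀ + x₁) (x₀ + x₁) = 0 := by
      rw [hu.add_left, herm_add_right hu, herm_add_right hu, h00, h01, h10, h11, add_zero, zero_add,
        one_add_one_eq_two, h2]
    have hmem := hmemU (x₀ + x₁) hxx
    rw [← heq] at hmem
    obtain ⟨π, hπ⟩ := hmem.1
    obtain ⟨y, ⟨hy, hyx⟩, hy0⟩ := Submodule.exists_mem_ne_zero_of_ne_bot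
      (p := C.member v 0 ⊓ perpOf hu x₀) fun h => by
        have := finrank_inf_perp hu (C.member v 0) x₀
        rw [h, finrank_bot, hdim] at this
        omega
    have hx1m : x₁ ∈ C.member v (π 0) := by
      refine hπ 0 ▸ ⟨x₀, hx₀, ?_⟩
      rw [Matrix.toLin'_apply, htv _ _ hxx, herm_add_right hu, h00, h01, add_zero, one_smul, ← add_assoc, ← two_smul F x₀, h2,
        zero_smul, zero_add]
    have hym : y ∈ C.member v (π 0) := by
      refine hπ 0 ▸ ⟨y, hy, ?_⟩
      rw [Matrix.toLin'_apply, htv _ _ hxx, herm_add_right hu, show Cfsg.hermForm n F 2 y x₀ = 0 from hyx,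
        hD.orthogonal 0 1 (by decide) y hy x₁ hx₁, add_zero, zero_smul, add_zero]
    have hdis : ∀ i j, i ≠ j → ∀ z, z ∈ C.member v i → z ∈ C.member v j → z = 0 := fun i j hij z hz hz' =>
      (Submodule.mem_bot F).1 ((disjoint_iff.1 (hD.decomp.indep.pairwiseDisjoint hij)) ▸ Submodule.mem_inf.2 ⟨hz, hz'⟩)
    rcases eq_or_ne (π 0) 0 with h | h
    · rw [hdis 1 0 (by decide) x₁ hx₁ (h ▸ hx1m), herm_zero_left hu] at h11
      exact zero_ne_one h11
    · exact hy0 (hdis 0 _ h.symm y hy hym)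

end Cfsg.Agent.S5671
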