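import Cfsg.Statements.S5672
import Cfsg.Agent.Lib.Perm.Trans.TensorPowerU.Max
import Cfsg.Agent.Lib.Perm.Trans.UnitSU

set_option autoImplicit false
open Cfsg

namespace Cfsg.Agent.S5672

/-- Let F be the field with q² elements and n = k^t ≥ 13 with k ≥ 3, t ≥ 2 and (q, k) ≠ (2, 3). Suppose the standard unitary form on F^n is similar, through a change of basis P and a bijection of index sets e, to the t-fold tensor power of a non-degenerate unitary form f₁ on F^k. Then the elements of SU_n(q) in the stabiliser of this decomposition (the conjugate by P of the standard tensor-wreath subgroup transported along e) form a maximal subgroup of SU_n(q). -/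
theorem result {F : Type*} [Field F] [Fintype F] (n q : ℕ) (hF : Fintype.card F = q ^ 2) (hn : 13 ≤ n) (k t : ℕ) (hk : 3 ≤ k) (ht : 2 ≤ t) (hex : ¬ (q = 2 ∧ k = 3)) (e : Fin n ≃ (Fin t → Fin k)) (P : Matrix.GeneralLinearGroup (Fin n) F) (f₁ : (Fin k → F) → (Fin k → F) → F) (hf₁ : Cfsg.Geo.IsUnitaryFormPow q f₁) (hT : Cfsg.Geo.IsTensorPowerFormStructure (fun x : F => x ^ q) (Cfsg.hermForm n F q) f₁ e P) : Cfsg.Geo.IsMaximalIn (Cfsg.GU n F q ⊓ Cfsg.Geo.specialLinear (Fin n) F) (Cfsg.Geo.tensorWreathSubgroup k t e P ⊓ (Cfsg.GU n F q ⊓ Cfsg.Geo.specialLinear (Fin n) F)) := by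
  classical
  obtain ⟨C0⟩ := CfsgLib.Perm.Trans.Unit.ctx_of_card (q := q) hF
  have hu := CfsgLib.Perm.Trans.Unit.isUnitary_hermForm (n := n) C0
  have hbar : ∀ x, C0.bar x = x ^ q := fun x => C0.bar_eq x
  have hbar' : (fun x : F => x ^ q) = ⇑C0.bar := funext fun x => (hbar x).symm
  have hu1 : Cfsg.Geo.IsUnitaryForm C0.bar f₁ :=
    ⟨hu.ne_refl, hu.involutive, hf₁.add_left, hf₁.smul_left, fun v w => by rw [hbar]; exact hf₁.herm v w,
      hf₁.nondegenerate⟩
  rw [hbar'] at hT
  obtain ⟨k', rfl⟩ : ∃ k', k = k' + 3 := ⟨k - 3, by omega⟩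
  have hq : 1 ≤ k' ∨ 4 < Fintype.card F := by
    by_contra hcon
    push Not at hcon
    obtain ⟨hk0, hcard⟩ := hcon
    have h1 : 1 < Fintype.card F := Fintype.one_lt_card
    rw [hF] at hcard h1
    have h2 : q < 3 := by
      by_contra h3
      have := Nat.pow_le_pow_left (show 3 ≤ q by omega) 2
      omega
    refine hex ⟨?_, by omega⟩
    interval_cases q
    · simp at h1
    · simp at h1
    · rfl
  exact CfsgLib.Perm.Trans.TensorPowerU.unitary_tensor_wreath_maximal (f := Cfsg.hermForm n F q)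
    ⟨hu.involutive, hu.ne_refl⟩ hq ht hu1 e P hT

end Cfsg.Agent.S5672
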