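import Cfsg.Statements.S5677
import Cfsg.Agent.Lib.Perm.Trans.QuadDecompMax
import Cfsg.Agent.Lib.Perm.Trans.QuadStd

set_option autoImplicit false
open Cfsg

namespace Cfsg.Agent.S5677

/-- Let F be a finite field of odd order q, m ≥ 6, Q the standard quadratic form on F^(2m+1) and Ω the commutator subgroup of its isometry group. Let D be a decomposition of F^(2m+1) into t ≥ 2 pairwise orthogonal, pairwise Q-isometric subspaces of equal dimension k > 1 on which the polar form is non-degenerate. Unless q = 3 and k = 3, the elements of Ω permuting the members of D form a maximal subgroup of Ω. -/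
theorem result {F : Type*} [Field F] [Fintype F] (hodd : Odd (Fintype.card F)) (m : ℕ) (hm : 6 ≤ m) {t : ℕ} (k : ℕ) (hk : 1 < k) (D : Fin t → Submodule F (Unit ⊕ (Fin m ⊕ Fin m) → F)) (hD : Cfsg.Geo.IsOrthogonalMDecomposition (Cfsg.quadFormOdd m F) k D) (hex : ¬ (Fintype.card F = 3 ∧ k = 3)) : Cfsg.Geo.IsMaximalIn (Cfsg.Geo.omegaGL (Cfsg.quadFormOdd m F)) (Cfsg.Geo.decompositionStabilizer D ⊓ Cfsg.Geo.omegaGL (Cfsg.quadFormOdd m F)) := by
  have hcard := CfsgLib.Perm.Trans.Quad.mdecomposition_card hD.decomp.decomp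
  simp only [Fintype.card_sum, Fintype.card_unit, Fintype.card_fin] at hcard
  have hk3 : 3 ≤ k := by
    by_contra h
    have hk2 : k = 2 := by omega
    subst hk2
    omega
  obtain ⟨j, hj⟩ := hodd
  have hq := Fintype.one_lt_card (α := F)
  refine CfsgLib.Perm.Trans.Quad.orth_decomp_maximal
    (CfsgLib.Perm.Trans.Quad.quadFormOdd_nd (CfsgLib.Perm.Asch.two_ne_zero_of_odd ⟨j, hj⟩)) hD (by simp; omega) hk3
    (fun h3 => ?_) (fun h2 => ?_)
  · by_contra hlt
    exact hex ⟨by omega, h3⟩
  · exfalso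
    omega

end Cfsg.Agent.S5677
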