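import Cfsg.Statements.S5680
import Cfsg.Agent.Lib.Perm.Trans.OrthExt.Max
import Cfsg.Agent.Lib.Perm.Trans.QuadStd

set_option autoImplicit false
open Cfsg
open scoped Matrix

namespace Cfsg.Agent.S5680

/-- Let F be a finite field of odd order, m ≥ 6, Q the standard quadratic form on F^(2m+1) and Ω the commutator subgroup of its isometry group. Let K be a subfield of the algebra of (2m+1) × (2m+1) matrices over F containing the scalars, of prime degree r over F with r ≠ 2m + 1, whose elements are self-adjoint for the polar form of Q. Then the elements of Ω normalising K form a maximal subgroup of Ω. -/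
theorem result {F : Type*} [Field F] [Fintype F] (hodd : Odd (Fintype.card F)) (m : ℕ) (hm : 6 ≤ m) (r : ℕ) (hr : r.Prime) (hrn : 2 * m + 1 ≠ r) (K : Subalgebra F (Matrix (Unit ⊕ (Fin m ⊕ Fin m)) (Unit ⊕ (Fin m ⊕ Fin m)) F)) (hK : Cfsg.Geo.IsFieldSubalgebra r K) (hsa : Cfsg.Geo.IsSelfAdjointFor (QuadraticMap.polar (Cfsg.quadFormOdd m F)) K) : Cfsg.Geo.IsMaximalIn (Cfsg.Geo.omegaGL (Cfsg.quadFormOdd m F)) (Cfsg.Geo.subalgebraNormalizer K ⊓ Cfsg.Geo.omegaGL (Cfsg.quadFormOdd m F)) := by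
  have h2 : (2 : F) ≠ 0 := Ring.two_ne_zero fun h => by
    obtain ⟨k, hk⟩ := hodd
    have := FiniteField.even_card_of_char_two h
    omega
  haveI : Nontrivial K := ⟨⟨0, 1, fun h => zero_ne_one (congrArg Subtype.val h :)⟩⟩
  letI : Field K := IsField.toField
    { exists_pair_ne := ⟨0, 1, zero_ne_one⟩
      mul_comm := fun a b => Subtype.ext (hK.comm _ a.2 _ b.2)
      mul_inv_cancel := fun {a} ha => by
        obtain ⟨y, hy, h⟩ := hK.inv _ a.2 fun h => ha (Subtype.ext h)
        exact ⟨⟨y, hy⟩, Subtype.ext h⟩ }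
  haveI : IsScalarTower F K (Unit ⊕ (Fin m ⊕ Fin m) → F) := ⟨fun c k x => by
    show (Subtype.val (c • k : K)) *ᵥ x = c • ((Subtype.val k) *ᵥ x)
    rw [Subalgebra.coe_smul, Matrix.smul_mulVec]⟩
  have hmul : r * Module.finrank K (Unit ⊕ (Fin m ⊕ Fin m) → F) = 2 * m + 1 := by
    rw [← hK.finrank_eq, Module.finrank_mul_finrank F K, Module.finrank_fintype_fun_eq_card]
    simp
    omega
  have hcard : Fintype.card (Unit ⊕ (Fin m ⊕ Fin m)) = 2 * m + 1 := by simp; omega
  have h3 : 3 ≤ Module.finrank K (Unit ⊕ (Fin m ⊕ Fin m) → F) := by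
    rcases Nat.lt_or_ge (Module.finrank K (Unit ⊕ (Fin m ⊕ Fin m) → F)) 3 with h | h
    · interval_cases hl : Module.finrank K (Unit ⊕ (Fin m ⊕ Fin m) → F) <;> omega
    · exact h
  have h3r : 3 * r ≤ 2 * m + 1 := by rw [← hmul, mul_comm 3 r]; exact Nat.mul_le_mul_left r h3
  refine CfsgLib.Perm.Trans.OrthExt.extField_maximal_le ?_ h2 hr hK hsa (by rw [hcard]; exact h3r)
    (fun h => by rw [hcard] at h; omega) (by rw [hcard]; omega)
  exact CfsgLib.Perm.Trans.Quad.quadFormOdd_nd h2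

end Cfsg.Agent.S5680
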