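import Cfsg.Statements.S5682
-- import your own Cfsg.Agent.* helpers here

import Mathlib
import Cfsg.Agent.Lib.Perm.Trans.QuadFrameCases
import Cfsg.Agent.Lib.Perm.Trans.QuadStd
import Cfsg.Agent.Lib.Perm.Trans.TensorFrame

set_option autoImplicit false
open Cfsg

namespace Cfsg.Agent.S5682
open Matrix CfsgLib.Perm.Asch CfsgLib.Perm.Trans CfsgLib.Perm.Trans.Quad

/-- Let F be the field with 3 elements, m ≥ 6, Q the standard quadratic form on F^(2m+1) and Ω the commutator subgroup of its isometry group. Suppose the polar form of Q is similar, through P and e, to the tensor product of non-degenerate symmetric bilinear forms f₁ on F^3 and f₂ on F^(n₂) with 3 < n₂. Then the elements of Ω in the stabiliser of this tensor decomposition form a subgroup that is not maximal: some subgroup lies strictly between it and Ω. -/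
theorem result {F : Type*} [Field F] [Fintype F] (hq : Fintype.card F = 3) (m : ℕ) (hm : 6 ≤ m) (n₂ : ℕ) (h2 : 3 < n₂) (e : (Unit ⊕ (Fin m ⊕ Fin m)) ≃ Fin 3 × Fin n₂) (P : Matrix.GeneralLinearGroup (Unit ⊕ (Fin m ⊕ Fin m)) F) (f₁ : (Fin 3 → F) → (Fin 3 → F) → F) (f₂ : (Fin n₂ → F) → (Fin n₂ → F) → F) (hf₁ : Cfsg.Geo.IsSymmetricForm f₁) (hf₂ : Cfsg.Geo.IsSymmetricForm f₂) (hT : Cfsg.Geo.IsTensorFormStructure id (QuadraticMap.polar (Cfsg.quadFormOdd m F)) f₁ f₂ e P) : ∃ K : Subgroup (Matrix.GeneralLinearGroup (Unit ⊕ (Fin m ⊕ Fin m)) F), Cfsg.Geo.tensorProductSubgroup 3 n₂ e P ⊓ Cfsg.Geo.omegaGL (Cfsg.quadFormOdd m F) < K ∧ K < Cfsg.Geo.omegaGL (Cfsg.quadFormOdd m F) := by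
  classical
  have h2F : (2 : F) ≠ 0 := two_ne_of_odd_card (n := 1) hq
  have hQ : Cfsg.Geo.IsNondegenerateQuadraticForm (Cfsg.quadFormOdd m F) := quadFormOdd_nd h2F
  obtain ⟨v, γ, hγ, hv, hspan, hframe⟩ := TensorFrame.exists_frame_three hq hf₁
  have C := (TensorFrame.ctx_tvec (σ := id) (fun a b => rfl) hQ.polar_bilinear.add_left hQ.polar_bilinear.smul_left
    (TensorFrame.sesq_of_bilinear hf₁.bilinear) hf₁.nondegenerate
    (TensorFrame.sesq_of_bilinear hf₂.bilinear) hf₂.nondegenerate hT).swap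
  have horth : ∀ i j, i ≠ j → f₁ (v i) (v j) = 0 := fun i j h => by rw [hv, if_neg h]
  have hval : ∀ i, f₁ (v i) (v i) ≠ 0 := fun i => by rw [hv, if_pos rfl]; exact hγ
  have hN := C.member_ok (by omega) (by norm_num) horth hval hspan
  obtain ⟨c, hc, hform⟩ := C.form
  have hinj : ∀ j, Function.Injective (C.lin (v j)) := fun j => by
    rw [← LinearMap.ker_eq_bot, ← Submodule.finrank_eq_zero]
    have h1 := LinearMap.finrank_range_add_finrank_ker (C.lin (v j))
    rw [Module.finrank_fin_fun, show Module.finrank F (LinearMap.range (C.lin (v j))) = n₂ from hN.decomp.finrank_eq j] at h1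
    omega
  have hD : Cfsg.Geo.IsOrthogonalMDecomposition (Cfsg.quadFormOdd m F) n₂ (C.member v) := by
    refine ⟨hN, fun i j => ⟨(LinearEquiv.ofInjective _ (hinj i)).symm.trans (LinearEquiv.ofInjective _ (hinj j)), fun w => ?_⟩⟩
    have key : ∀ x, Cfsg.quadFormOdd m F (C.lin (v j) x) = Cfsg.quadFormOdd m F (C.lin (v i) x) := fun x => by
      refine mul_left_cancel₀ h2F ?_
      rw [← pself hQ, ← pself hQ]
      show QuadraticMap.polar _ (TensorFrame.tvec e P (v j) x) (TensorFrame.tvec e P (v j) x) =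
        QuadraticMap.polar _ (TensorFrame.tvec e P (v i) x) (TensorFrame.tvec e P (v i) x)
      rw [hform, hform, hv, hv, if_pos rfl, if_pos rfl]
    exact (key _).trans (congrArg (Cfsg.quadFormOdd m F)
      (congrArg Subtype.val ((LinearEquiv.ofInjective _ (hinj i)).apply_symm_apply w)))
  have hcard : Fintype.card (Unit ⊕ (Fin m ⊕ Fin m)) = 3 * n₂ := by
    simpa using Fintype.card_congr e
  have h13 : 13 ≤ Fintype.card (Unit ⊕ (Fin m ⊕ Fin m)) := by simp; omega
  have hle : Cfsg.Geo.tensorProductSubgroup 3 n₂ e P ⊓ Cfsg.Geo.omegaGL (Cfsg.quadFormOdd m F) ≤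
      Cfsg.Geo.decompositionStabilizer (C.member v) ⊓ Cfsg.Geo.omegaGL (Cfsg.quadFormOdd m F) := by
    refine le_inf (fun g hg => ?_) inf_le_right
    obtain ⟨a, b, hab⟩ := TensorFrame.mem_tensor hg.1
    have hab' : ∀ x y, (g : Matrix (Unit ⊕ (Fin m ⊕ Fin m)) (Unit ⊕ (Fin m ⊕ Fin m)) F) *ᵥ TensorFrame.tvec e P y x =
        TensorFrame.tvec e P ((a : Matrix (Fin 3) (Fin 3) F) *ᵥ y) ((b : Matrix (Fin n₂) (Fin n₂) F) *ᵥ x) :=
      fun x y => hab y x
    obtain ⟨l, hl, hsim⟩ := C.similitude (by omega) (by norm_num) (iso_pol (omegaGL_le_iso hg.2)) hab'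
    exact C.stab_of_frame hN hab' (hframe a l hl hsim)
  refine ⟨_, lt_of_le_of_ne hle fun heq => ?_, lt_of_le_of_ne inf_le_right fun heq => ?_⟩
  · have hnd := hN.nondegenerate 0
    have hdim : Module.finrank F (C.member v 0) = n₂ := hN.decomp.finrank_eq 0
    obtain ⟨u, hu, hu0, hQu⟩ := exists_qsingular hQ hnd (by omega)
    obtain ⟨a₀, ⟨ha, hau⟩, han⟩ : ∃ a₀ ∈ C.member v 0 ⊓ LinearMap.ker (pfl hQ u), a₀ ∉ Submodule.span F {u} :=
      SetLike.not_le_iff_exists.1 fun h => by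
        have h1 := Submodule.finrank_mono h
        rw [finrank_span_singleton hu0] at h1
        have h2 := finrank_inf_pfl hQ (C.member v 0) u
        omega
    have hua : QuadraticMap.polar (Cfsg.quadFormOdd m F) u a₀ = 0 := by rw [pcomm]; exact hau
    obtain ⟨g, hgΩ, hg⟩ := ein_omega hQ (by omega) (a := a₀) hQu hua
    have hfix : ∀ j : Fin 3, j ≠ 0 → ∀ z ∈ C.member v j,
        (g : Matrix (Unit ⊕ (Fin m ⊕ Fin m)) (Unit ⊕ (Fin m ⊕ Fin m)) F) *ᵥ z = z := fun j hj z hz => by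
      rw [hg, hN.orthogonal j 0 hj z hz u hu, hN.orthogonal j 0 hj z hz a₀ ha]
      simp
    have h0 : ∀ z ∈ C.member v 0, (g : Matrix (Unit ⊕ (Fin m ⊕ Fin m)) (Unit ⊕ (Fin m ⊕ Fin m)) F) *ᵥ z ∈ C.member v 0 :=
      fun z hz => by
        rw [hg]
        exact Submodule.sub_mem _ (Submodule.sub_mem _ (Submodule.add_mem _ hz (Submodule.smul_mem _ _ ha))
          (Submodule.smul_mem _ _ hu)) (Submodule.smul_mem _ _ hu)
    have hmem : g ∈ Cfsg.Geo.decompositionStabilizer (C.member v) ⊓ Cfsg.Geo.omegaGL (Cfsg.quadFormOdd m F) := by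
      refine ⟨⟨1, fun j => Submodule.eq_of_le_of_finrank_le ?_ (le_of_eq ?_)⟩, hgΩ⟩
      · rintro _ ⟨z, hz, rfl⟩
        rw [Matrix.toLin'_apply, Equiv.Perm.one_apply]
        rcases eq_or_ne j 0 with rfl | hj
        · exact h0 z hz
        · rw [hfix j hj z hz]; exact hz
      · rw [hN.decomp.finrank_eq, ← (Submodule.equivMapOfInjective _ (fun p q hpq => by
          have := congrArg (fun x => ((g⁻¹ : Matrix.GeneralLinearGroup (Unit ⊕ (Fin m ⊕ Fin m)) F) : Matrix (Unit ⊕ (Fin m ⊕ Fin m)) (Unit ⊕ (Fin m ⊕ Fin m)) F) *ᵥ x) hpq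
          simpa only [Matrix.toLin'_apply, gl_inv_mulVec] using this) _).finrank_eq, hN.decomp.finrank_eq]
    rw [← heq] at hmem
    obtain ⟨a, b, hab⟩ := TensorFrame.mem_tensor hmem.1
    obtain ⟨l, hl⟩ := C.scalar_of_fix (by omega) horth hval hspan (fun x y => hab y x) (i := 0) (j := 1)
      (hfix 1 (by decide)) h0
    have h1 := hl u hu
    rw [hg, pself hQ, hQu, hua] at h1
    simp only [mul_zero, zero_smul, add_zero, sub_zero] at h1
    have hl1 : l = 1 := smul_left_injective F hu0 (show l • u = (1 : F) • u by rw [← h1, one_smul])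
    obtain ⟨y, hy, -, huy⟩ := exists_qpartner hQ hnd hu hu0 hQu
    have h2 := hl y hy
    rw [hg, hl1, one_smul, pcomm y u, huy, one_smul, mul_one] at h2
    refine han (Submodule.mem_span_singleton.2 ⟨QuadraticMap.polar (Cfsg.quadFormOdd m F) y a₀ + Cfsg.quadFormOdd m F a₀, ?_⟩)
    rw [add_smul]
    rw [sub_sub, sub_eq_iff_eq_add, add_right_inj] at h2
    exact h2.symm
  · obtain ⟨a₀, ha, hQa⟩ := exists_nonsingular hQ (hN.nondegenerate 0) (fun h => by
      have := hN.decomp.finrank_eq 0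
      rw [h, finrank_bot] at this
      omega)
    obtain ⟨g, hg, hgout⟩ := exists_move_out hQ hD (by omega) (by omega) ha hQa
    rw [← heq] at hg
    obtain ⟨σ, hσ⟩ := hg.1
    exact hgout (σ 0) (hσ 0 ▸ ⟨a₀, ha, Matrix.toLin'_apply _ _⟩)

end Cfsg.Agent.S5682
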