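import Cfsg.Statements.S5684
import Cfsg.Agent.Lib.Perm.Trans.TensorPowerO.MainOdd
import Cfsg.Agent.Lib.Perm.Trans.QuadStd

set_option autoImplicit false
open Cfsg

namespace Cfsg.Agent.S5684

/-- Let F be a finite field of odd order q, m ≥ 6, Q the standard quadratic form on F^(2m+1) and Ω the commutator subgroup of its isometry group. Suppose the polar form of Q is similar, through a change of basis P and a bijection of index sets e, to the t-fold tensor power (t ≥ 2) of a non-degenerate symmetric bilinear form f₁ on F^k with k ≥ 3 and (q, k) ≠ (3, 3). Then the elements of Ω in the stabiliser of this decomposition form a maximal subgroup of Ω. -/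
theorem result {F : Type*} [Field F] [Fintype F] (hodd : Odd (Fintype.card F)) (m : ℕ) (hm : 6 ≤ m) (k t : ℕ) (hk : 3 ≤ k) (ht : 2 ≤ t) (hex : ¬ (Fintype.card F = 3 ∧ k = 3)) (e : (Unit ⊕ (Fin m ⊕ Fin m)) ≃ (Fin t → Fin k)) (P : Matrix.GeneralLinearGroup (Unit ⊕ (Fin m ⊕ Fin m)) F) (f₁ : (Fin k → F) → (Fin k → F) → F) (hf₁ : Cfsg.Geo.IsSymmetricForm f₁) (hT : Cfsg.Geo.IsTensorPowerFormStructure id (QuadraticMap.polar (Cfsg.quadFormOdd m F)) f₁ e P) : Cfsg.Geo.IsMaximalIn (Cfsg.Geo.omegaGL (Cfsg.quadFormOdd m F)) (Cfsg.Geo.tensorWreathSubgroup k t e P ⊓ Cfsg.Geo.omegaGL (Cfsg.quadFormOdd m F)) := by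
  obtain ⟨n, rfl⟩ : ∃ n, k = n + 3 := ⟨k - 3, by omega⟩
  have h2 : (2 : F) ≠ 0 := by
    intro h
    haveI : CharP F 2 := CharTwo.of_one_ne_zero_of_two_eq_zero one_ne_zero h
    exact Nat.not_even_iff_odd.2 hodd (Nat.even_iff.2 (FiniteField.even_card_of_char_two (ringChar.eq_iff.2 inferInstance)))
  have hcard : (n + 3) ^ t = 2 * m + 1 := by
    have := Fintype.card_congr e
    simp only [Fintype.card_sum, Fintype.card_fun, Fintype.card_fin, Fintype.card_unit] at this
    omega
  have hn : Odd (n + 3) := by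
    by_contra h
    rw [Nat.not_odd_iff_even] at h
    have h' : Even ((n + 3) ^ t) := h.pow_of_ne_zero (by omega)
    rw [hcard] at h'
    exact Nat.not_even_two_mul_add_one m h'
  have big : 1 ≤ n ∨ ∃ y : F, y ≠ 0 ∧ y * y ≠ 1 := by
    by_cases hn0 : n = 0
    · subst hn0
      right
      classical
      by_contra hcon
      push Not at hcon
      have hsub : (Finset.univ : Finset F) ⊆ {0, 1, -1} := fun y _ => by
        by_cases hy : y = 0
        · simp [hy]
        · rcases mul_self_eq_one_iff.1 (hcon y hy) with h | h <;> simp [h]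
      have h3 := (Finset.card_le_card hsub).trans (Finset.card_le_three)
      rw [Finset.card_univ] at h3
      have h1 := Fintype.one_lt_card (α := F)
      obtain ⟨r, hr⟩ := hodd
      exact hex ⟨by omega, rfl⟩
    · exact Or.inl (by omega)
  exact CfsgLib.Perm.Trans.TensorPowerO.orth_tensor_maximal h2 big ht
    (CfsgLib.Perm.Trans.Quad.quadFormOdd_nd h2) hf₁ e P hT fun g hg s M hM => hM.main_odd hn

end Cfsg.Agent.S5684
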