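import Cfsg.Statements.S5692
import Cfsg.Agent.Lib.Perm.Trans.QuadPlaneMax
-- import your own Cfsg.Agent.* helpers here

set_option autoImplicit false
open Cfsg

namespace Cfsg.Agent.S5692

/-- Let F be a finite field with q elements, n ≥ 13 even, Q a non-degenerate quadratic form on F^n of plus type (some subspace of dimension n/2 is totally singular), and Ω the commutator subgroup of the isometry group of Q, viewed inside GL_n(F). Let D be a decomposition of F^n into t ≥ 2 pairwise orthogonal, pairwise Q-isometric subspaces of equal dimension k ≥ 2 on which the polar form is non-degenerate, such that: if k is even, either every member is of plus type or t is even; if k is odd, q is odd and the discriminant of Q is a square. Exclude the cases k = 2 with q = 3, k = 2 with plus-type members and q ∈ {2, 4, 5}, k = 3 with q = 3, and k = 4 with plus-type members and q = 2. Then the elements of Ω permuting the members of D form a maximal subgroup of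 Ω. -/
theorem result {F : Type*} [Field F] [Fintype F] {n : ℕ} (hn : 13 ≤ n) (heven : Even n) (Q : (Fin n → F) → F) (hQ : Cfsg.Geo.IsNondegenerateQuadraticForm Q) (hplus : Cfsg.Geo.IsPlusTypeOn Q ⊤) {t : ℕ} (k : ℕ) (hk : 2 ≤ k) (D : Fin t → Submodule F (Fin n → F)) (hD : Cfsg.Geo.IsOrthogonalMDecomposition Q k D) (hke : Even k → ((∀ i, Cfsg.Geo.IsPlusTypeOn Q (D i)) ∨ Even t)) (hko : Odd k → (Odd (Fintype.card F) ∧ Cfsg.Geo.HasSquareDiscriminant Q)) (hex : ¬ ((k = 2 ∧ (Fintype.card F = 3 ∨ ((∀ i, Cfsg.Geo.IsPlusTypeOn Q (D i)) ∧ (Fintype.card F = 2 ∨ Fintype.card F = 4 ∨ Fintype.card F = 5)))) ∨ (k = 3 ∧ Fintype.card F = 3) ∨ (k = 4 ∧ Fintype.card F = 2 ∧ ∀ i, Cfsg.Geo.IsPlusTypeOn Q (D i)))) : Cfsg.Geo.IsMaximalIn (Cfsg.Geo.omegaGL Q) (Cfsg.Geo.decompositionStabilizer D ⊓ Cfsg.Geo.omegaGL Q) := by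
  have hcard := CfsgLib.Perm.Trans.Quad.mdecomposition_card hD.decomp.decomp
  rw [Fintype.card_fin] at hcard
  have h5 : 5 ≤ Fintype.card (Fin n) := by rw [Fintype.card_fin]; omega
  have hq := Fintype.one_lt_card (α := F)
  by_cases hk3 : 3 ≤ k
  · refine CfsgLib.Perm.Trans.Quad.orth_decomp_maximal hQ hD h5 hk3 (fun h3 => ?_) (fun h2 h4 i hi => ?_)
    · obtain ⟨j, hj⟩ := (hko (h3 ▸ ⟨1, rfl⟩)).1
      by_contra hlt
      exact hex (Or.inr (Or.inl ⟨h3, by omega⟩))
    · exact hex (Or.inr (Or.inr ⟨h4, h2, fun j => CfsgLib.Perm.Trans.Quad.plus_of_isometric (hD.isometric i j) hi⟩))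
  · have hk2 : k = 2 := by omega
    subst hk2
    refine CfsgLib.Perm.Trans.Quad.plane_decomp_maximal hQ hD (fun i => ⟨fun h => hex (Or.inl ⟨rfl, Or.inl h⟩),
      fun hiso => ?_⟩) (by omega) h5
    have hall : ∀ j, Cfsg.Geo.IsPlusTypeOn Q (D j) := fun j => CfsgLib.Perm.Trans.Quad.plus_of_isometric
      (hD.isometric i j) (CfsgLib.Perm.Trans.Quad.plus_of_singular hQ (hD.decomp.decomp.finrank_eq i) hiso)
    by_contra hlt
    have h2 : Fintype.card F ≠ 2 := fun h => hex (Or.inl ⟨rfl, Or.inr ⟨hall, Or.inl h⟩⟩)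
    have h3 : Fintype.card F ≠ 3 := fun h => hex (Or.inl ⟨rfl, Or.inl h⟩)
    have h4 : Fintype.card F ≠ 4 := fun h => hex (Or.inl ⟨rfl, Or.inr ⟨hall, Or.inr (Or.inl h)⟩⟩)
    have h55 : Fintype.card F ≠ 5 := fun h => hex (Or.inl ⟨rfl, Or.inr ⟨hall, Or.inr (Or.inr h)⟩⟩)
    have h6 : Fintype.card F = 6 := by omega
    obtain ⟨p, hp⟩ := CharP.exists F
    obtain ⟨e, hpp, hpe⟩ := FiniteField.card F p
    rw [h6] at hpe
    have hpp2 := (Nat.prime_dvd_prime_iff_eq Nat.prime_two hpp).1 (Nat.prime_two.dvd_of_dvd_pow (hpe ▸ (by norm_num : 2 ∣ 6)))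
    have hpp3 := (Nat.prime_dvd_prime_iff_eq Nat.prime_three hpp).1 (Nat.prime_three.dvd_of_dvd_pow (hpe ▸ (by norm_num : 3 ∣ 6)))
    omega

end Cfsg.Agent.S5692
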