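import Cfsg.Statements.S5694
import Cfsg.Agent.Lib.Perm.Trans.QuadPlaneMax
-- import your own Cfsg.Agent.* helpers here

set_option autoImplicit false
open Cfsg

namespace Cfsg.Agent.S5694

/-- Let F be a finite field with q elements, n ≥ 13 even, Q a non-degenerate quadratic form on F^n of minus type (no subspace of dimension n/2 is totally singular), and Ω the commutator subgroup of the isometry group of Q, viewed inside GL_n(F). Let D be a decomposition of F^n into t ≥ 2 pairwise orthogonal, pairwise Q-isometric subspaces of equal dimension k ≥ 2 on which the polar form is non-degenerate, such that: if k is odd, q is odd and the discriminant of Q is a square; if k is even, t is odd and no member is of plus type. Unless q = 3 and k ∈ {2, 3}, the elements of Ω permuting the members of D form a maximal subgroup of Ω. -/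
theorem result {F : Type*} [Field F] [Fintype F] {n : ℕ} (hn : 13 ≤ n) (heven : Even n) (Q : (Fin n → F) → F) (hQ : Cfsg.Geo.IsNondegenerateQuadraticForm Q) (hminus : ¬ Cfsg.Geo.IsPlusTypeOn Q ⊤) {t : ℕ} (k : ℕ) (hk : 2 ≤ k) (D : Fin t → Submodule F (Fin n → F)) (hD : Cfsg.Geo.IsOrthogonalMDecomposition Q k D) (hko : Odd k → (Odd (Fintype.card F) ∧ Cfsg.Geo.HasSquareDiscriminant Q)) (hke : Even k → (Odd t ∧ ∀ i, ¬ Cfsg.Geo.IsPlusTypeOn Q (D i))) (hex : ¬ (Fintype.card F = 3 ∧ (k = 2 ∨ k = 3))) : Cfsg.Geo.IsMaximalIn (Cfsg.Geo.omegaGL Q) (Cfsg.Geo.decompositionStabilizer D ⊓ Cfsg.Geo.omegaGL Q) := by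
  have hcard := CfsgLib.Perm.Trans.Quad.mdecomposition_card hD.decomp.decomp
  rw [Fintype.card_fin] at hcard
  have h5 : 5 ≤ Fintype.card (Fin n) := by rw [Fintype.card_fin]; omega
  have hq := Fintype.one_lt_card (α := F)
  by_cases hk3 : 3 ≤ k
  · refine CfsgLib.Perm.Trans.Quad.orth_decomp_maximal hQ hD h5 hk3 (fun h3 => ?_) (fun h2 h4 i hi => ?_)
    · obtain ⟨j, hj⟩ := (hko (h3 ▸ ⟨1, rfl⟩)).1
      by_contra hlt
      exact hex ⟨by omega, Or.inr h3⟩
    · exact (hke (h4 ▸ ⟨2, rfl⟩)).2 i hi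
  · have hk2 : k = 2 := by omega
    subst hk2
    exact CfsgLib.Perm.Trans.Quad.plane_decomp_maximal hQ hD (fun i => ⟨fun h => hex ⟨h, Or.inl rfl⟩,
      fun hiso => absurd (CfsgLib.Perm.Trans.Quad.plus_of_singular hQ (hD.decomp.decomp.finrank_eq i) hiso)
        ((hke even_two).2 i)⟩) (by omega) h5

end Cfsg.Agent.S5694
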