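import Cfsg.Statements.S5697
import Cfsg.Agent.Lib.Perm.Trans.QuadPair

set_option autoImplicit false
open Cfsg

namespace Cfsg.Agent.S5697

/-- Let F be a finite field with q elements, n ≥ 13 even, Q a non-degenerate quadratic form on F^n of plus type (some subspace of dimension n/2 is totally singular), and Ω the commutator subgroup of the isometry group of Q, viewed inside GL_n(F). Suppose n/2 is even and let D be a decomposition of F^n into two complementary subspaces of dimension n/2 on each of which Q vanishes. Then the elements of Ω preserving or interchanging the two subspaces form a maximal subgroup of Ω. -/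
theorem result {F : Type*} [Field F] [Fintype F] {n : ℕ} (hn : 13 ≤ n) (heven : Even n) (Q : (Fin n → F) → F) (hQ : Cfsg.Geo.IsNondegenerateQuadraticForm Q) (hplus : Cfsg.Geo.IsPlusTypeOn Q ⊤) (k : ℕ) (hk : 2 * k = n) (hke : Even k) (D : Fin 2 → Submodule F (Fin n → F)) (hD : Cfsg.Geo.IsMDecomposition k D) (hts : ∀ i, Cfsg.Geo.IsTotallySingularQuad Q (D i)) : Cfsg.Geo.IsMaximalIn (Cfsg.Geo.omegaGL Q) (Cfsg.Geo.decompositionStabilizer D ⊓ Cfsg.Geo.omegaGL Q) := by
  have hsum := Submodule.finrank_sup_add_finrank_inf_eq (D 0) (D 1)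
  have hinf : D 0 ⊓ D 1 = ⊥ := disjoint_iff.1 (hD.indep.pairwiseDisjoint (by decide : (0 : Fin 2) ≠ 1))
  have hsup : D 0 ⊔ D 1 = ⊤ := by
    refine le_antisymm le_top (hD.iSup_eq_top ▸ iSup_le fun i => ?_)
    rcases (by decide : ∀ i : Fin 2, i = 0 ∨ i = 1) i with rfl | rfl
    exacts [le_sup_left, le_sup_right]
  have hd0 := hD.finrank_eq 0
  have hd1 := hD.finrank_eq 1
  refine CfsgLib.Perm.Trans.Quad.qpair_maximal hQ
    ⟨hts 0, hts 1, hsup, hinf, by omega, by omega⟩ (by simp; omega) (hd0 ▸ hke) (by omega) fun g => ⟨?_, ?_⟩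
  · rintro ⟨σ, hσ⟩
    have hm : ∀ i, ∀ x ∈ D i, Matrix.mulVec (g : Matrix (Fin n) (Fin n) F) x ∈ D (σ i) := fun i x hx =>
      hσ i ▸ ⟨x, hx, Matrix.toLin'_apply _ x⟩
    rcases (by decide : ∀ σ : Equiv.Perm (Fin 2), (σ 0 = 0 ∧ σ 1 = 1) ∨ (σ 0 = 1 ∧ σ 1 = 0)) σ with ⟨h0, h1⟩ | ⟨h0, h1⟩
    · exact Or.inl ⟨fun x hx => h0 ▸ hm 0 x hx, fun x hx => h1 ▸ hm 1 x hx⟩
    · exact Or.inr ⟨fun x hx => h0 ▸ hm 0 x hx, fun x hx => h1 ▸ hm 1 x hx⟩
  · intro h
    have key : ∀ σ : Equiv.Perm (Fin 2), (∀ i, ∀ x ∈ D i, Matrix.mulVec (g : Matrix (Fin n) (Fin n) F) x ∈ D (σ i)) →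
        g ∈ Cfsg.Geo.decompositionStabilizer D := fun σ hm => ⟨σ, fun i => by
      refine Submodule.eq_of_le_of_finrank_le ?_ (le_of_eq ?_)
      · rintro _ ⟨x, hx, rfl⟩
        rw [Matrix.toLin'_apply]
        exact hm i x hx
      · rw [hD.finrank_eq, ← (Submodule.equivMapOfInjective _ ?_ _).finrank_eq, hD.finrank_eq]
        intro u v huv
        exact Matrix.mulVec_injective_iff_isUnit.2 (Units.isUnit g) (by simpa [Matrix.toLin'_apply] using huv)⟩
    rcases h with ⟨h0, h1⟩ | ⟨h0, h1⟩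
    · refine key 1 fun i => ?_
      rcases (by decide : ∀ i : Fin 2, i = 0 ∨ i = 1) i with rfl | rfl
      exacts [h0, h1]
    · refine key (Equiv.swap 0 1) fun i => ?_
      rcases (by decide : ∀ i : Fin 2, i = 0 ∨ i = 1) i with rfl | rfl
      · rw [Equiv.swap_apply_left]; exact h0
      · rw [Equiv.swap_apply_right]; exact h1

end Cfsg.Agent.S5697
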