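import Cfsg.Statements.S5702
import Cfsg.Agent.Lib.Perm.Trans.QuadSubfMax

set_option autoImplicit false
open Cfsg

namespace Cfsg.Agent.S5702

/-- Let F be a finite field with q elements, n ≥ 13 even, Q a non-degenerate quadratic form on F^n (of either type), and Ω the commutator subgroup of the isometry group of Q, viewed inside GL_n(F). Let F₀ be a subfield with |F| = |F₀| ^ r for a prime r, ζ a non-zero scalar and P an invertible matrix such that ζ·Q takes values in F₀ on the F₀-span of the columns of P. Then the elements of Ω lying in the subfield group of P (the conjugate by P of the product of GL_n(F₀) with the scalars) form a maximal subgroup of Ω. -/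
theorem result {F : Type*} [Field F] [Fintype F] {n : ℕ} (hn : 13 ≤ n) (heven : Even n) (Q : (Fin n → F) → F) (hQ : Cfsg.Geo.IsNondegenerateQuadraticForm Q) (F₀ : Subfield F) (r : ℕ) (hr : r.Prime) (hcard : Fintype.card F = Nat.card F₀ ^ r) (P : Matrix.GeneralLinearGroup (Fin n) F) (ζ : F) (hζ : ζ ≠ 0) (hP : Cfsg.Geo.IsQuadFormRationalStructure (fun v : Fin n → F => ζ * Q v) F₀ P) : Cfsg.Geo.IsMaximalIn (Cfsg.Geo.omegaGL Q) (Cfsg.Geo.subfieldSubgroup F₀ P ⊓ Cfsg.Geo.omegaGL Q) := by
  classical
  have hiso : Cfsg.isometryGroup F (fun v : Fin n → F => ζ * Q v) = Cfsg.isometryGroup F Q := by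
    ext g
    rw [CfsgLib.Perm.Trans.Quad.mem_iso, CfsgLib.Perm.Trans.Quad.mem_iso]
    exact ⟨fun h x => mul_left_cancel₀ hζ (h x), fun h x => congrArg (ζ * ·) (h x)⟩
  have hΩ : Cfsg.Geo.omegaGL (fun v : Fin n → F => ζ * Q v) = Cfsg.Geo.omegaGL Q := by
    have key : ∀ K K' : Subgroup (Matrix.GeneralLinearGroup (Fin n) F), K = K' →
        (commutator K).map K.subtype = (commutator K').map K'.subtype := by
      rintro K K' rfl
      rfl
    exact key _ _ hiso
  have hpol : ∀ x y : Fin n → F,
      QuadraticMap.polar (fun v : Fin n → F => ζ * Q v) x y = ζ * QuadraticMap.polar Q x y := fun x y => by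
    simp only [QuadraticMap.polar]; ring
  have hQ' : Cfsg.Geo.IsNondegenerateQuadraticForm (fun v : Fin n → F => ζ * Q v) :=
    { smul := fun c v => by simp only [hQ.smul]; ring
      polar_bilinear :=
        { add_left := fun u v w => by simp only [hpol, hQ.polar_bilinear.add_left]; ring
          smul_left := fun c u v => by simp only [hpol, hQ.polar_bilinear.smul_left]; ring
          add_right := fun u v w => by simp only [hpol, hQ.polar_bilinear.add_right]; ring
          smul_right := fun c u v => by simp only [hpol, hQ.polar_bilinear.smul_right]; ring }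
      nondegenerate := fun v hv => by
        obtain ⟨⟨u, hu⟩, w, hw⟩ := hQ.nondegenerate v hv
        exact ⟨⟨u, by rw [hpol]; exact mul_ne_zero hζ hu⟩, w, by rw [hpol]; exact mul_ne_zero hζ hw⟩ }
  rw [← hΩ]
  exact CfsgLib.Perm.Trans.Quad.quad_subfield_maximal hQ' (fun a => hP _ fun i => (a i).2)
    (by rw [Fintype.card_fin]; exact hn) hr hcard

end Cfsg.Agent.S5702
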