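import Cfsg.Statements.S5706
import Cfsg.Agent.Lib.Perm.Trans.TensorPowerSp.PlusMax

set_option autoImplicit false
open Cfsg

namespace Cfsg.Agent.S5706

/-- Let F be a finite field with q elements, n ≥ 13 even, Q a non-degenerate quadratic form on F^n of plus type (some subspace of dimension n/2 is totally singular), and Ω the commutator subgroup of the isometry group of Q, viewed inside GL_n(F). Suppose that, through a change of basis P and a bijection of index sets e, the polar form of Q is similar to the t-fold tensor power (t ≥ 2) of a non-degenerate symplectic form f₁ on F^k, that Q vanishes on the images of all pure tensors, that t is even if q is odd, that (q, k) is neither (2, 2) nor (3, 2), and that k ≥ 6 if q is even. Then the elements of Ω in the stabiliser of this decomposition form a maximal subgroup of Ω. -/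
theorem result {F : Type*} [Field F] [Fintype F] {n : ℕ} (hn : 13 ≤ n) (heven : Even n) (Q : (Fin n → F) → F) (hQ : Cfsg.Geo.IsNondegenerateQuadraticForm Q) (hplus : Cfsg.Geo.IsPlusTypeOn Q ⊤) (k t : ℕ) (ht : 2 ≤ t) (hqt : Odd (Fintype.card F) → Even t) (hex1 : ¬ (Fintype.card F = 2 ∧ k = 2)) (hex2 : ¬ (Fintype.card F = 3 ∧ k = 2)) (hex3 : ¬ Odd (Fintype.card F) → 6 ≤ k) (e : (Fin n) ≃ (Fin t → Fin k)) (P : Matrix.GeneralLinearGroup (Fin n) F) (f₁ : (Fin k → F) → (Fin k → F) → F) (hf₁ : Cfsg.Geo.IsSymplecticForm f₁) (hT : Cfsg.Geo.IsTensorPowerFormStructure id (QuadraticMap.polar Q) f₁ e P) (hpure : (∀ xs : Fin t → (Fin k → F), Q (Matrix.mulVec (P : Matrix (Fin n) (Fin n) F) ((fun a : Fin t → Fin k => ∏ i, xs i (a i)) ∘ e)) = 0)) : Cfsg.Geo.IsMaximalIn (Cfsg.Geo.omegaGL Q) (Cfsg.Geo.tensorWreathSubgroup k t e P ⊓ Cfsg.Geo.omegaGL Q) := by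
  have hcard : n = k ^ t := by simpa using Fintype.card_congr e
  have hk2 : 2 ≤ k := by
    rcases k with _ | _ | k
    · rw [zero_pow (by omega)] at hcard; omega
    · simp at hcard; omega
    · omega
  obtain ⟨a, ha⟩ := CfsgLib.Perm.Asch.isSymplecticForm_even hf₁
  obtain ⟨m, rfl⟩ : ∃ m, k = 2 * m + 2 := ⟨a - 1, by omega⟩
  have hq1 : 1 < Fintype.card F := Fintype.one_lt_card
  refine CfsgLib.Perm.Trans.TensorPowerSp.plus_tensor_wreath_maximal ?_ ?_ ht ?_ ?_ (by rw [Fintype.card_fin]; omega) hQ
    hf₁ e P hT hpure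
  · by_cases h2 : (2 : F) = 0
    · refine Or.inr ⟨h2, ?_⟩
      have hne : ¬ Odd (Fintype.card F) := by
        rw [Nat.not_odd_iff_even]
        refine FiniteField.even_card_iff_char_two.1 ?_ |> Nat.even_iff.2
        obtain ⟨p, hp⟩ := CharP.exists F
        haveI := hp
        rw [ringChar.eq F p]
        exact ((Nat.prime_dvd_prime_iff_eq (CharP.char_is_prime F p) Nat.prime_two).1
          ((CharP.cast_eq_zero_iff F p 2).1 (by exact_mod_cast h2)))
      have := hex3 hne
      omega
    · exact Or.inl h2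
  · rcases Nat.eq_zero_or_pos m with hm | hm
    · right
      subst hm
      by_contra hle
      rcases (show Fintype.card F = 2 ∨ Fintype.card F = 3 by omega) with h | h
      · exact hex1 ⟨h, rfl⟩
      · exact hex2 ⟨h, rfl⟩
    · exact Or.inl hm
  · rcases Nat.eq_zero_or_pos m with hm | hm
    · right
      subst hm
      by_contra hlt
      have : (2 * 0 + 2) ^ t ≤ (2 * 0 + 2) ^ 3 := Nat.pow_le_pow_right (by norm_num) (by omega)
      omega
    · exact Or.inl hm
  · by_cases hodd : Odd (Fintype.card F)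
    · exact Or.inr (hqt hodd)
    · left
      have h := Nat.even_iff.1 (Nat.not_odd_iff_even.1 hodd)
      haveI : CharP F 2 := ringChar.eq_iff.1 (FiniteField.even_card_iff_char_two.2 h)
      exact_mod_cast CharP.cast_eq_zero F 2

end Cfsg.Agent.S5706
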