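import Cfsg.Statements.S5707
-- import your own Cfsg.Agent.* helpers here
import Mathlib
import Cfsg.Agent.Lib.Perm.Trans.SpinOver.Cases

set_option autoImplicit false
set_option linter.all false
open Cfsg
open CfsgLib.Perm.Asch CfsgLib.Perm.Trans.SpinOver
open scoped Matrix

namespace Cfsg.Agent.S5707

/-- Let F be a finite field with q elements, n ≥ 13 even, Q a non-degenerate quadratic form on F^n of plus type (some subspace of dimension n/2 is totally singular), and Ω the commutator subgroup of the isometry group of Q, viewed inside GL_n(F). Suppose q is even and that, through P and e, the polar form of Q is similar to the t-fold tensor power (t ≥ 2) of a non-degenerate symplectic form f₁ on F^k with k ≤ 4 and (q, k) ≠ (2, 2), Q vanishing on the images of all pure tensors. Then the elements of Ω in the stabiliser of this decomposition form a subgroup that is not maximal: some subgroup lies strictly between it and Ω. -/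
theorem result {F : Type*} [Field F] [Fintype F] {n : ℕ} (hn : 13 ≤ n) (heven : Even n) (Q : (Fin n → F) → F) (hQ : Cfsg.Geo.IsNondegenerateQuadraticForm Q) (hplus : Cfsg.Geo.IsPlusTypeOn Q ⊤) (hchar : ¬ Odd (Fintype.card F)) (k t : ℕ) (ht : 2 ≤ t) (hk : k ≤ 4) (hex1 : ¬ (Fintype.card F = 2 ∧ k = 2)) (e : (Fin n) ≃ (Fin t → Fin k)) (P : Matrix.GeneralLinearGroup (Fin n) F) (f₁ : (Fin k → F) → (Fin k → F) → F) (hf₁ : Cfsg.Geo.IsSymplecticForm f₁) (hT : Cfsg.Geo.IsTensorPowerFormStructure id (QuadraticMap.polar Q) f₁ e P) (hpure : (∀ xs : Fin t → (Fin k → F), Q (Matrix.mulVec (P : Matrix (Fin n) (Fin n) F) ((fun a : Fin t → Fin k => ∏ i, xs i (a i)) ∘ e)) = 0)) : ∃ K : Subgroup (Matrix.GeneralLinearGroup (Fin n) F), Cfsg.Geo.tensorWreathSubgroup k t e P ⊓ Cfsg.Geo.omegaGL Q < K ∧ K < Cfsg.Geo.omegaGL Q := by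
  have hn0 : 0 < n := by omega
  haveI : Nonempty (Fin n) := ⟨⟨0, hn0⟩⟩
  have h2 : (2 : F) = 0 := by
    by_contra h
    refine hchar (Nat.odd_iff.2 (FiniteField.odd_card_of_char_ne_two fun hc => h ?_))
    have : ((2 : ℕ) : F) = 0 := by rw [← hc]; exact ringChar.Nat.cast_ringChar
    exact_mod_cast this
  obtain ⟨G, hG⟩ := exists_gform (RingHom.id F) (QuadraticMap.polar Q) hQ.polar_bilinear.add_left
    hQ.polar_bilinear.smul_left hQ.polar_bilinear.add_right (fun a v x => hQ.polar_bilinear.smul_right a v x)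
  have hGd : G.det ≠ 0 := by
    intro h0
    obtain ⟨v, hv, hv0⟩ := Matrix.exists_mulVec_eq_zero_iff.2 h0
    obtain ⟨⟨x, hx⟩, -⟩ := hQ.nondegenerate v hv
    exact hx (by rw [hG, gform]; simp [hv0])
  obtain ⟨G₁, hG₁⟩ := exists_gform (RingHom.id F) f₁ hf₁.bilinear.add_left hf₁.bilinear.smul_left
    hf₁.bilinear.add_right (fun a v x => hf₁.bilinear.smul_right a v x)
  obtain ⟨c, hc, hcxy⟩ := hT
  have hgram : gramAt (RingHom.id F) G e P = c • CfsgLib.Perm.Asch.pure fun _ => G₁ := by
    refine gform_ext (σ := RingHom.id F) fun x y => ?_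
    rw [← gform_gramAt (RingHom.id F) G e P x y, ← hG, hcxy, hG₁, gramMatrix_gform]
    simp only [gform, dotProduct, Matrix.mulVec, Matrix.smul_apply, pure_apply, Function.comp_apply, smul_eq_mul,
      Finset.mul_sum, RingHom.id_apply, id_eq]
    exact Finset.sum_congr rfl fun a _ => Finset.sum_congr rfl fun b _ => by ring
  have hG₁d : G₁.det ≠ 0 := by
    intro h0
    obtain ⟨v, hv, hv0⟩ := Matrix.exists_mulVec_eq_zero_iff.2 h0
    obtain ⟨⟨x, hx⟩, -⟩ := hf₁.nondegenerate v hv
    exact hx (by rw [hG₁, gform]; simp [hv0])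
  have halt : ∀ v : Fin k → F, v ⬝ᵥ (G₁ *ᵥ v) = 0 := fun v => by
    have := hf₁.alternating v
    rw [hG₁, gform] at this
    simpa using this
  have hdiag : ∀ a, G₁ a a = 0 := fun a => by
    have := hf₁.alternating (Pi.single a 1)
    rwa [hG₁, gform_single] at this
  have hswap : ∀ a b, G₁ b a = G₁ a b := fun a b => by
    have := hf₁.skew (Pi.single b 1) (Pi.single a 1)
    rw [hG₁, gform_single, gform_single] at this
    linear_combination this - (G₁ b a) * 0 + (-(G₁ a b)) * h2
  have hcard : n = k ^ t := by simpa using Fintype.card_congr e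
  rcases (show k = 0 ∨ k = 1 ∨ k = 2 ∨ k = 3 ∨ k = 4 by omega) with rfl | rfl | rfl | rfl | rfl
  · rw [zero_pow (by omega)] at hcard; omega
  · rw [one_pow] at hcard; omega
  · have ht4 : 4 ≤ t := by
      by_contra h
      have : 2 ^ t ≤ 2 ^ 3 := Nat.pow_le_pow_right (by norm_num) (by omega)
      omega
    refine two_not_maximal (G := G) (J := G₁) (c := c) (e := e) (P := P)
      ⟨h2, hQ.smul, fun u v => by rw [hG], hgram, hGd, hG₁d, hpure⟩ (fun h => hex1 ⟨h, rfl⟩) ht4 hdiag (hswap 0 1)
  · exfalso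
    apply hG₁d
    rw [Matrix.det_fin_three, hdiag, hdiag, hdiag, hswap 0 1, hswap 0 2, hswap 1 2]
    linear_combination (G₁ 0 1 * G₁ 1 2 * G₁ 0 2) * h2
  · let e4 : Fin 4 ≃ Fin 2 ⊕ Fin 2 :=
      { toFun := ![Sum.inl 0, Sum.inl 1, Sum.inr 1, Sum.inr 0]
        invFun := Sum.elim ![0, 1] ![3, 2]
        left_inv := by intro a; fin_cases a <;> rfl
        right_inv := by rintro (a | a) <;> fin_cases a <;> rfl }
    obtain ⟨C, hC⟩ := CfsgLib.Descent.exists_symplectic_basis (G₁.submatrix e4.symm e4.symm)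
      (fun x => by
        have := halt (x ∘ e4)
        rw [← this, Matrix.submatrix_mulVec_equiv, Equiv.symm_symm]
        simp only [dotProduct, Function.comp_apply]
        exact Fintype.sum_equiv e4.symm _ _ fun a => by simp)
      (by rw [Matrix.det_submatrix_equiv_self]; exact hG₁d)
    let a : GL (Fin 4) F := Units.map (rx e4).toAlgHom.toRingHom.toMonoidHom C
    have ha : (a : Matrix (Fin 4) (Fin 4) F)ᵀ * G₁ * (a : Matrix (Fin 4) (Fin 4) F) = J4 := by
      have h3 := congrArg (rx e4) hC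
      rw [map_mul, map_mul, rx_transpose] at h3
      have h4 : rx e4 (G₁.submatrix e4.symm e4.symm) = G₁ := by ext x y; simp
      rw [h4] at h3
      show (rx e4 _)ᵀ * G₁ * rx e4 _ = _
      rw [h3]
      have hm1 : (-1 : F) = 1 := by linear_combination (-1 : F) * h2
      ext x y
      rw [rx_apply]
      fin_cases x <;> fin_cases y <;> simp [e4, Matrix.J, J4, hm1]
    set z : GL (Fin t → Fin 4) F := pureGL fun _ => a with hz
    have hzm : z ∈ Cfsg.Geo.tensorWreathStandard 4 t F := pureGL_mem _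
    have hgram' : gramAt (RingHom.id F) G e (P * Cfsg.Geo.glReindex e.symm z) =
        c • CfsgLib.Perm.Asch.pure fun _ => (J4 : Matrix (Fin 4) (Fin 4) F) := by
      rw [gramAt_mul, hgram, hz, pureGL_coe, pure_transpose, mul_smul_comm, smul_mul_assoc]
      congr 1
      simp only [RingHom.coe_id, Matrix.map_id]
      rw [pure_mul, pure_mul]
      congr 1
      funext l
      exact ha
    have hJd : (J4 : Matrix (Fin 4) (Fin 4) F).det ≠ 0 := by
      rw [← ha, Matrix.det_mul, Matrix.det_mul, Matrix.det_transpose]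
      have := ((Matrix.isUnit_iff_isUnit_det _).1 a.isUnit).ne_zero
      exact mul_ne_zero (mul_ne_zero this hG₁d) this
    have hpure' : ∀ xs : Fin t → Fin 4 → F,
        Q (((P * Cfsg.Geo.glReindex e.symm z : GL (Fin n) F) : Matrix (Fin n) (Fin n) F) *ᵥ
          (CfsgLib.Perm.Asch.pv xs ∘ e)) = 0 := by
      intro xs
      rw [Units.val_mul, ← Matrix.mulVec_mulVec]
      have h5 : ((Cfsg.Geo.glReindex e.symm z : GL (Fin n) F) : Matrix (Fin n) (Fin n) F) *ᵥ
          (CfsgLib.Perm.Asch.pv xs ∘ e) = CfsgLib.Perm.Asch.pv (fun l => (a : Matrix (Fin 4) (Fin 4) F) *ᵥ xs l) ∘ e := by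
        show rx e (z : Matrix (Fin t → Fin 4) (Fin t → Fin 4) F) *ᵥ _ = _
        rw [rx_mulVec, hz, pureGL_coe, pure_mulVec_pv]
      rw [h5]
      exact hpure _
    have ht2 : 2 ≤ t := ht
    obtain ⟨K, hK1, hK2⟩ := four_not_maximal (G := G) (c := c) (e := e) (P := P * Cfsg.Geo.glReindex e.symm z)
      ⟨h2, hQ.smul, fun u v => by rw [hG], hgram', hGd, hJd, hpure'⟩ ht2
    refine ⟨K, lt_of_le_of_lt (inf_le_inf_right _ ?_) hK1, hK2⟩
    exact le_tensorWreath_mul hzm le_rfl

end Cfsg.Agent.S5707
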