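import Cfsg.Statements.S5712
import Cfsg.Agent.Lib.Perm.Trans.SympO2.Centre
import Cfsg.Agent.Lib.Perm.Trans.SympO2.QuadricGroup
import Cfsg.Agent.Lib.Perm.Trans.SympO2.Radical
import Cfsg.Agent.Lib.Perm.Trans.SympO2.Small
import Cfsg.Agent.Lib.Coprime.Core

set_option autoImplicit false
set_option linter.all false
open Cfsg Matrix Cfsg.Geo CfsgLib.Perm.Asch CfsgLib.Perm.Trans CfsgLib.Perm.Trans.Symp CfsgLib.Perm.Trans.Symp.O2
open scoped Matrix

namespace Cfsg.Agent.S5712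

/-- Let F be a finite field of characteristic two, n ≥ 2, V = F^{2n} with the non-degenerate alternating form f(u, v) = Σ (u_i v_{n+i} + u_{n+i} v_i), and G the group of invertible matrices preserving f. Let a ≠ 0 be a vector, H its stabilizer in G, and X a subgroup of O₂(H) of order |F|^{2n−2} no element of which is a transvection (no element g has g − 1 of rank one). If L is a subgroup of G containing X that acts irreducibly on V (no proper non-zero L-invariant subspace), then L = G, or, for some quadratic form Q on V whose polar form is f, L is the isometry group of Q or its subgroup of the isometries g for which g − 1 has even rank, or |F| = 2, n = 2 and L is isomorphic to the alternating group of degree 6 or to the symmetric group of degree 5. -/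
theorem result {F : Type*} [Field F] [Fintype F] [CharP F 2] {n : ℕ} (hn : 2 ≤ n) (a : (Fin n ⊕ Fin n → F)) (ha : a ≠ 0)
    (X : Subgroup (GL (Fin n ⊕ Fin n) F)) (hXG : X ≤ Cfsg.preserving (Units.coeHom (Matrix (Fin n ⊕ Fin n) (Fin n ⊕ Fin n) F)) (fun u v : (Fin n ⊕ Fin n → F) => ∑ i : Fin n, (u (Sum.inl i) * v (Sum.inr i) + u (Sum.inr i) * v (Sum.inl i))))
    (hXO : ∀ H : Subgroup (GL (Fin n ⊕ Fin n) F),
      (∀ g : GL (Fin n ⊕ Fin n) F, g ∈ H ↔ (g ∈ Cfsg.preserving (Units.coeHom (Matrix (Fin n ⊕ Fin n) (Fin n ⊕ Fin n) F)) (fun u v : (Fin n ⊕ Fin n → F) => ∑ i : Fin n, (u (Sum.inl i) * v (Sum.inr i) + u (Sum.inr i) * v (Sum.inl i))) ∧ Matrix.mulVec (g : Matrix (Fin n ⊕ Fin n) (Fin n ⊕ Fin n) F) a = a)) →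
      X ≤ (Cfsg.pCore 2 ↥H).map H.subtype)
    (hcard : Nat.card ↥X = Fintype.card F ^ (2 * n - 2))
    (hntv : ∀ x ∈ X, ((x : Matrix (Fin n ⊕ Fin n) (Fin n ⊕ Fin n) F) - 1).rank ≠ 1)
    (L : Subgroup (GL (Fin n ⊕ Fin n) F)) (hXL : X ≤ L) (hLG : L ≤ Cfsg.preserving (Units.coeHom (Matrix (Fin n ⊕ Fin n) (Fin n ⊕ Fin n) F)) (fun u v : (Fin n ⊕ Fin n → F) => ∑ i : Fin n, (u (Sum.inl i) * v (Sum.inr i) + u (Sum.inr i) * v (Sum.inl i))))
    (hirr : ∀ W : Submodule F (Fin n ⊕ Fin n → F), (∀ g ∈ L, ∀ w ∈ W, Matrix.mulVec (g : Matrix (Fin n ⊕ Fin n) (Fin n ⊕ Fin n) F) w ∈ W) → W = ⊥ ∨ W = ⊤) :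
    L = Cfsg.preserving (Units.coeHom (Matrix (Fin n ⊕ Fin n) (Fin n ⊕ Fin n) F)) (fun u v : (Fin n ⊕ Fin n → F) => ∑ i : Fin n, (u (Sum.inl i) * v (Sum.inr i) + u (Sum.inr i) * v (Sum.inl i))) ∨
    (∃ Q : QuadraticForm F (Fin n ⊕ Fin n → F), (∀ u v, QuadraticMap.polar ⇑Q u v = (fun u v : (Fin n ⊕ Fin n → F) => ∑ i : Fin n, (u (Sum.inl i) * v (Sum.inr i) + u (Sum.inr i) * v (Sum.inl i))) u v) ∧
      (L = Cfsg.isometryGroup F ⇑Q ∨
        ∀ g : GL (Fin n ⊕ Fin n) F, g ∈ L ↔ (g ∈ Cfsg.isometryGroup F ⇑Q ∧ Even ((g : Matrix (Fin n ⊕ Fin n) (Fin n ⊕ Fin n) F) - 1).rank))) ∨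
    (Fintype.card F = 2 ∧ n = 2 ∧ (Nonempty (↥L ≃* ↥(alternatingGroup (Fin 6))) ∨ Nonempty (↥L ≃* Equiv.Perm (Fin 5)))) := by
  classical
  have h2 : (2 : F) = 0 := CharTwo.two_eq_zero
  obtain ⟨f, hfd⟩ : ∃ f, f = Cfsg.sympForm n F := ⟨_, rfl⟩
  have hform : (fun u v : (Fin n ⊕ Fin n → F) => ∑ i : Fin n, (u (Sum.inl i) * v (Sum.inr i) +
      u (Sum.inr i) * v (Sum.inl i))) = f := by
    funext u v
    rw [hfd, Cfsg.sympForm]
    simp only [Matrix.J, Matrix.fromBlocks_mulVec, dotProduct, Fintype.sum_sum_type, Sum.elim_inl, Sum.elim_inr,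
      Matrix.zero_mulVec, Matrix.neg_mulVec, Matrix.one_mulVec, Pi.add_apply, Pi.zero_apply, Pi.neg_apply,
      Function.comp_apply, zero_add, add_zero, ← Finset.sum_add_distrib]
    refine Finset.sum_congr rfl fun i _ => ?_
    linear_combination (u (Sum.inl i) * v (Sum.inr i)) * h2
  have hf : IsSymplecticForm f := hfd ▸ isSymplecticForm_sympForm
  rw [hform] at hXG hXO hLG ⊢
  simp only [funext_iff] at hform
  have hiso : Cfsg.preserving (Units.coeHom (Matrix (Fin n ⊕ Fin n) (Fin n ⊕ Fin n) F)) f = isoSub f := rfl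
  rw [hiso] at hXG hXO hLG ⊢
  have hcι : Fintype.card (Fin n ⊕ Fin n) = 2 * n := by rw [Fintype.card_sum, Fintype.card_fin]; ring
  have hn2 : 2 < Fintype.card (Fin n ⊕ Fin n) := by omega
  obtain ⟨x, hx⟩ := (hf.nondegenerate a ha).2
  obtain ⟨b, hbd⟩ : ∃ b, b = (f a x)⁻¹ • x := ⟨_, rfl⟩
  have hab : f a b = 1 := by rw [hbd, hf.bilinear.smul_right, inv_mul_cancel₀ hx]
  -- the point stabiliser and its radical
  let H : Subgroup (GL (Fin n ⊕ Fin n) F) :=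
    { carrier := {g | g ∈ isoSub f ∧ (g : Matrix (Fin n ⊕ Fin n) (Fin n ⊕ Fin n) F) *ᵥ a = a}
      one_mem' := ⟨one_mem _, by rw [Units.val_one, one_mulVec]⟩
      mul_mem' := fun {g h} hg hh => ⟨mul_mem hg.1 hh.1, by rw [gl_mul_mulVec, hh.2, hg.2]⟩
      inv_mem' := fun {g} hg => ⟨inv_mem hg.1, by conv_lhs => rw [← hg.2, gl_inv_mulVec]⟩ }
  have hXN : X ≤ (Cfsg.pCore 2 ↥H).map H.subtype := hXO H fun g => Iff.rfl
  obtain ⟨N, hNd⟩ : ∃ N, N = (Cfsg.pCore 2 ↥H).map H.subtype := ⟨_, rfl⟩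
  rw [← hNd] at hXN
  have hN : IsPGroup 2 ↥N := hNd ▸ IsPGroup.map (CfsgLib.Coprime.pCore_isPGroup 2) H.subtype
  have hle : ∀ g ∈ N, g ∈ isoSub f ∧ (g : Matrix (Fin n ⊕ Fin n) (Fin n ⊕ Fin n) F) *ᵥ a = a := fun g hg => by
    rw [hNd] at hg
    obtain ⟨k, -, rfl⟩ := hg
    exact k.2
  have hnorm : ∀ h ∈ isoSub f, (h : Matrix (Fin n ⊕ Fin n) (Fin n ⊕ Fin n) F) *ᵥ a = a →
      ∀ g ∈ N, h⁻¹ * g * h ∈ N := fun h hh hha g hg => by
    rw [hNd] at hg ⊢
    obtain ⟨k, hk, rfl⟩ := hg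
    let h' : ↥H := ⟨h, hh, hha⟩
    refine ⟨h'⁻¹ * k * h', ?_, rfl⟩
    have := (CfsgLib.Coprime.pCore_normal' (G := ↥H) 2).conj_mem k hk h'⁻¹
    rwa [inv_inv] at this
  have hXform : ∀ g ∈ X, ∃ v c, f v a = 0 ∧ f v b = 0 ∧ g = rs hf a v c :=
    fun g hg => radical_form hf h2 hab hn2 hN hle hnorm (hXN hg)
  have hclean : ∀ d : F, stv hf a d ∈ X → d = 0 := by
    intro d hd
    by_contra hd0
    refine hntv _ hd ?_
    rw [wrk_eq_rank]
    have hmoved : CfsgLib.Orth.moved (stv hf a d) = Submodule.span F {a} := by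
      refine le_antisymm ?_ (Submodule.span_le.2 ?_)
      · rintro _ ⟨y, rfl⟩
        rw [CfsgLib.Orth.disp_apply, stv_mulVec, sub_add_cancel_left]
        exact Submodule.neg_mem _ (Submodule.smul_mem _ _ (Submodule.mem_span_singleton_self a))
      · intro y hy
        rw [Set.mem_singleton_iff.1 hy]
        refine ⟨-(d⁻¹ • b), ?_⟩
        rw [CfsgLib.Orth.disp_apply, mulVec_neg, stv_mulVec, hf.bilinear.smul_left,
          CfsgLib.Perm.Trans.Symp.O2.comm h2 hf b a, hab, mul_one, mul_inv_cancel₀ hd0, one_smul]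
        abel
    show Module.finrank F ↥(CfsgLib.Orth.moved (stv hf a d)) = 1
    rw [hmoved, finrank_span_singleton ha]
  obtain ⟨φ, hφX⟩ := exists_graph hf h2 hab hXform hclean (by rw [hcard, hcι])
  have hφ : Graph hf L a φ := ⟨fun v hv => hXL (hφX.mem v hv), hφX.add⟩
  obtain ⟨g₀, hg₀, hga⟩ : ∃ g ∈ L, f a ((g : Matrix (Fin n ⊕ Fin n) (Fin n ⊕ Fin n) F) *ᵥ a) ≠ 0 := by
    by_contra hcon
    push Not at hcon
    let S : Submodule F (Fin n ⊕ Fin n → F) :=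
      Submodule.span F {y | ∃ g ∈ L, y = (g : Matrix (Fin n ⊕ Fin n) (Fin n ⊕ Fin n) F) *ᵥ a}
    rcases hirr S (fun g hg w hw => by
      induction hw using Submodule.span_induction with
      | mem y hy =>
        obtain ⟨k, hk, rfl⟩ := hy
        exact Submodule.subset_span ⟨g * k, L.mul_mem hg hk, (gl_mul_mulVec g k a).symm⟩
      | zero => rw [mulVec_zero]; exact S.zero_mem
      | add y z _ _ iy iz => rw [mulVec_add]; exact S.add_mem iy iz
      | smul t y _ iy => rw [mulVec_smul]; exact S.smul_mem t iy) with hS | hS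
    · have h1 : a ∈ S := Submodule.subset_span ⟨1, L.one_mem, by rw [Units.val_one, one_mulVec]⟩
      rw [hS, Submodule.mem_bot] at h1
      exact ha h1
    · have hperp : S ≤ LinearMap.ker (sfun hf a) := Submodule.span_le.2 (by
        rintro _ ⟨g, hg, rfl⟩
        exact LinearMap.mem_ker.2 (swap_zero hf (hcon g hg)))
      have h1 : f b a = 0 := LinearMap.mem_ker.1 (hperp (hS ▸ Submodule.mem_top))
      rw [CfsgLib.Perm.Trans.Symp.O2.comm h2 hf, hab] at h1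
      exact one_ne_zero h1
  by_cases hcen : ∃ c : F, c ≠ 0 ∧ stv hf a c ∈ L
  · obtain ⟨c, hc, hcL⟩ := hcen
    exact Or.inl (eq_isoSub_of_centre hf h2 hLG hn2 hφ hg₀ hga hc hcL)
  push Not at hcen
  have hS : Setup hf L a φ := ⟨hLG, hφ, hcen⟩
  rcases perpZero_or hf h2 hS with hz | ⟨hq, hcard4, p, c, hp, hc, hpc, hind, hD⟩
  · obtain ⟨b', hb'd⟩ : ∃ b', b' = (f a ((g₀ : Matrix (Fin n ⊕ Fin n) (Fin n ⊕ Fin n) F) *ᵥ a))⁻¹ •
        ((g₀ : Matrix (Fin n ⊕ Fin n) (Fin n ⊕ Fin n) F) *ᵥ a) := ⟨_, rfl⟩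
    have P : Pair f L a a b' := ⟨InS.self, hb'd ▸ (InS.self.move hg₀).smul (inv_ne_zero hga),
      by rw [hb'd, hf.bilinear.smul_right, inv_mul_cancel₀ hga]⟩
    obtain ⟨Q, hpol, hQp, hQb, hpres, hgen⟩ := exists_quad hf h2 hS hz P hn2
    refine Or.inr (Or.inl ⟨Q, fun u v => by rw [hpol], ?_⟩)
    refine group_cases hf h2 hpol hQp hQb P.hpb hn2 (fun g hg => Quad.mem_iso.2 (hpres g hg)) ?_
    rintro _ ⟨v, hvp, hvb, rfl | rfl⟩
    · exact (hgen v hvp hvb).1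
    · exact (hgen v hvp hvb).2
  · obtain rfl : n = 2 := by omega
    obtain ⟨k, hk, hcardL⟩ := small_card hf h2 hS hq (by omega) hg₀ hga hp hc hpc hind hD
    subst hfd
    rcases sp_four_two_cases hq hLG hk hcardL with h | h
    · exact Or.inl h
    · exact Or.inr (Or.inr ⟨hq, rfl, h⟩)

end Cfsg.Agent.S5712
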