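import Cfsg.Statements.S5713
-- import your own Cfsg.Agent.* helpers here
import Mathlib
import Cfsg.Agent.Lib.Perm.MinDegree.Distinguish

set_option autoImplicit false
set_option linter.all false
open Cfsg

namespace Cfsg.Agent.S5713

/-- A classification-free minimal-degree bound. Let G be a finite group acting faithfully and primitively on a finite set Ω with n elements, and suppose that the image of G in the symmetric group on Ω does not contain the alternating group on Ω. Then every non-identity element of G moves at least (√n − 1)/2 points of Ω, that is, it fixes at most n − (√n − 1)/2 points. -/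
theorem result {G Ω : Type*} [Group G] [Finite G] [MulAction G Ω] [FaithfulSMul G Ω] [Fintype Ω] [DecidableEq Ω]
    (hprim : MulAction.IsPreprimitive G Ω)
    (hA : ¬ alternatingGroup Ω ≤ (MulAction.toPermHom G Ω).range)
    (g : G) (hg : g ≠ 1) :
    (Real.sqrt (Fintype.card Ω) - 1) / 2 ≤ (Fintype.card Ω : ℝ) - Nat.card (MulAction.fixedBy Ω g) := by
  classical
  haveI : Fintype G := Fintype.ofFinite G
  obtain ⟨a, ha⟩ : ∃ a : Ω, g • a ≠ a := by
    by_contra h
    push Not at h
    exact hg (FaithfulSMul.eq_of_smul_eq_smul fun x => (h x).trans (one_smul G x).symm)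
  obtain ⟨S, hS⟩ : ∃ S : Finset Ω, S = Finset.univ.filter fun z => g • z ≠ z := ⟨_, rfl⟩
  have hmemS : ∀ z, z ∈ S ↔ g • z ≠ z := fun z => by simp [hS]
  suffices hkey : Fintype.card Ω - 1 ≤ 4 * S.card ^ 2 by
    have hfix : Nat.card (MulAction.fixedBy Ω g) + S.card = Fintype.card Ω := by
      rw [Nat.card_eq_fintype_card, Fintype.card_subtype, hS, ← Finset.card_univ,
        ← Finset.card_filter_add_card_filter_not (s := (Finset.univ : Finset Ω)) (fun z => g • z = z)]
      simp [MulAction.mem_fixedBy]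
    have hfix' : (Fintype.card Ω : ℝ) - Nat.card (MulAction.fixedBy Ω g) = S.card := by
      rw [← hfix]; push_cast; ring
    rw [hfix', div_le_iff₀ (by norm_num : (0 : ℝ) < 2), sub_le_iff_le_add]
    refine Real.sqrt_le_iff.2 ⟨by positivity, ?_⟩
    have h1 : (Fintype.card Ω : ℝ) ≤ 4 * (S.card : ℝ) ^ 2 + 1 := by
      have : Fintype.card Ω ≤ 4 * S.card ^ 2 + 1 := by omega
      exact_mod_cast this
    have h2 : (0 : ℝ) ≤ (S.card : ℝ) := by positivity
    nlinarith
  by_cases huni : ∃ x y : Ω, a ≠ x ∧ a ≠ y ∧ ¬ CfsgLib.Perm.MinDegree.SameCol G a x a y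
  · rw [hS]
    exact CfsgLib.Perm.MinDegree.sqrt_le_support a huni ha
  push Not at huni
  by_contra hlt
  push Not at hlt
  have haS : a ∈ S := (hmemS a).2 ha
  obtain ⟨Hs, hHs⟩ : ∃ Hs : Finset G, Hs = Finset.univ.filter fun h => h • a = a := ⟨_, rfl⟩
  have hH1 : (1 : G) ∈ Hs := by simp [hHs]
  have hfib : ∀ s t, s ≠ a → t ≠ a → (Fintype.card Ω - 1) * (Hs.filter fun h => h • s = t).card = Hs.card := by
    intro s t hs ht
    have hconst : ∀ t' ∈ Finset.univ.erase a, (Hs.filter fun h => h • s = t').card = (Hs.filter fun h => h • s = t).card := by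
      intro t' ht'
      obtain ⟨k, hk1, hk2⟩ := huni t' t (Finset.mem_erase.1 ht').1.symm ht.symm
      refine Finset.card_nbij (fun h => k * h) (fun h hh => ?_) (fun h _ h' _ e => mul_left_cancel e) ?_
      · simp only [hHs, Finset.coe_filter, Finset.mem_filter, Finset.mem_univ, true_and, Set.mem_setOf_eq] at hh ⊢
        exact ⟨by rw [mul_smul, hh.1, hk1], by rw [mul_smul, hh.2, hk2]⟩
      · intro h hh
        simp only [hHs, Finset.coe_filter, Finset.mem_filter, Finset.mem_univ, true_and, Set.mem_setOf_eq] at hh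
        refine ⟨k⁻¹ * h, ?_, mul_inv_cancel_left k h⟩
        simp only [hHs, Finset.coe_filter, Finset.mem_filter, Finset.mem_univ, true_and, Set.mem_setOf_eq]
        exact ⟨by rw [mul_smul, hh.1, inv_smul_eq_iff, hk1], by rw [mul_smul, hh.2, inv_smul_eq_iff, hk2]⟩
    have hsum := Finset.card_eq_sum_card_fiberwise (f := fun h : G => h • s) (s := Hs) (t := Finset.univ.erase a)
      (fun h hh => Finset.mem_erase.2 ⟨fun e => hs (smul_left_cancel h (e.trans (Finset.mem_filter.1 (hHs ▸ hh)).2.symm)),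
        Finset.mem_univ _⟩)
    rw [Finset.sum_congr rfl hconst, Finset.sum_const, Finset.card_erase_of_mem (Finset.mem_univ _), Finset.card_univ,
      smul_eq_mul] at hsum
    exact hsum.symm
  obtain ⟨h, hh, hgood⟩ : ∃ h ∈ Hs, ∀ s ∈ S, s ≠ a → h • s ∈ S → False := by
    by_contra hcon
    push Not at hcon
    have hsub : Hs ⊆ ((S.erase a) ×ˢ (S.erase a)).biUnion fun st => Hs.filter fun h => h • st.1 = st.2 := by
      intro h hh
      obtain ⟨s, hs, hsa, hhs⟩ := hcon h hh
      refine Finset.mem_biUnion.2 ⟨(s, h • s), Finset.mem_product.2 ⟨Finset.mem_erase.2 ⟨hsa, hs⟩,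
        Finset.mem_erase.2 ⟨fun e => hsa (smul_left_cancel h (e.trans (Finset.mem_filter.1 (hHs ▸ hh)).2.symm)), hhs.1⟩⟩,
        Finset.mem_filter.2 ⟨hh, rfl⟩⟩
    have h1 := Nat.mul_le_mul_left (Fintype.card Ω - 1) ((Finset.card_le_card hsub).trans Finset.card_biUnion_le)
    have hcongr : ∀ st ∈ (S.erase a) ×ˢ (S.erase a),
        (Fintype.card Ω - 1) * (Hs.filter fun h => h • st.1 = st.2).card = Hs.card := fun st hst => by
      rw [Finset.mem_product, Finset.mem_erase, Finset.mem_erase] at hst
      exact hfib st.1 st.2 hst.1.1 hst.2.1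
    rw [Finset.mul_sum, Finset.sum_congr rfl hcongr, Finset.sum_const, smul_eq_mul, Finset.card_product,
      Finset.card_erase_of_mem haS] at h1
    have h3 := Nat.le_of_mul_le_mul_right h1 (Finset.card_pos.2 ⟨1, hH1⟩)
    have h4 : (S.card - 1) * (S.card - 1) ≤ S.card ^ 2 := by
      rw [sq]; exact Nat.mul_le_mul (Nat.sub_le _ _) (Nat.sub_le _ _)
    omega
  have hha : h • a = a := by
    rw [hHs, Finset.mem_filter] at hh
    exact hh.2
  obtain ⟨g', hg'⟩ : ∃ g', g' = h * g * h⁻¹ := ⟨_, rfl⟩
  have hT : ∀ z, g' • z ≠ z → h⁻¹ • z ∈ S := fun z hz => (hmemS _).2 fun e => hz (by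
    rw [hg', mul_smul, mul_smul, e, smul_inv_smul])
  have hmeet : ∀ z, g • z ≠ z → g' • z ≠ z → z = a := by
    intro z hz hz'
    by_contra hza
    refine hgood _ (hT z hz') (fun e => hza ?_) (by rw [smul_inv_smul]; exact (hmemS z).2 hz)
    rw [← smul_inv_smul h z, e, hha]
  have hga' : g' • a ≠ a := fun e => ha (by
    have e2 : h⁻¹ • a = a := by rw [inv_smul_eq_iff, hha]
    rw [hg', mul_smul, mul_smul, e2] at e
    exact smul_left_cancel h (e.trans hha.symm))
  have hfixg : ∀ z : Ω, g • z = z → g⁻¹ • z = z := fun z hz => by rw [inv_smul_eq_iff, hz]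
  have hfixg' : ∀ z : Ω, g' • z = z → g'⁻¹ • z = z := fun z hz => by rw [inv_smul_eq_iff, hz]
  obtain ⟨k, hk⟩ : ∃ k, k = g * g' * g⁻¹ * g'⁻¹ := ⟨_, rfl⟩
  have hka : k • (g' • a) = a := by
    rw [hk, mul_smul, mul_smul, mul_smul, inv_smul_smul]
    have hb : g • (g⁻¹ • a) ≠ g⁻¹ • a := fun e => ha (by
      rw [smul_inv_smul] at e
      conv_lhs => rw [e, smul_inv_smul])
    have hfix : g' • g⁻¹ • a = g⁻¹ • a := by
      by_contra e
      have e2 := hmeet _ hb e
      exact ha (inv_smul_eq_iff.1 e2).symm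
    rw [hfix, smul_inv_smul]
  have hsupp : ∀ y, y ≠ a → y ≠ g • a → y ≠ g' • a → k • y = y := by
    intro y hya hy1 hy2
    rw [hk, mul_smul, mul_smul, mul_smul]
    by_cases hy' : g' • y = y
    · rw [hfixg' y hy']
      by_cases hy : g • y = y
      · rw [hfixg y hy, hy', hy]
      · have hne : g • (g⁻¹ • y) ≠ g⁻¹ • y := fun e => hy (by
          rw [smul_inv_smul] at e
          conv_lhs => rw [e, smul_inv_smul])
        have hfix : g' • g⁻¹ • y = g⁻¹ • y := by
          by_contra e
          exact hy1 (by rw [← hmeet _ hne e, smul_inv_smul])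
        rw [hfix, smul_inv_smul]
    · have hne : g' • (g'⁻¹ • y) ≠ g'⁻¹ • y := fun e => hy' (by
        rw [smul_inv_smul] at e
        conv_lhs => rw [e, smul_inv_smul])
      have hfix : g • g'⁻¹ • y = g'⁻¹ • y := by
        by_contra e
        exact hy2 (by rw [← hmeet _ e hne, smul_inv_smul])
      have hy : g • y = y := by
        by_contra e
        exact hya (hmeet _ e hy')
      rw [hfixg _ hfix, smul_inv_smul, hy]
  obtain ⟨σ, hσ⟩ : ∃ σ : Equiv.Perm Ω, σ = MulAction.toPermHom G Ω k := ⟨_, rfl⟩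
  have hsign : Equiv.Perm.sign σ = 1 := by
    rw [hσ, hk, map_mul, map_mul, map_mul, map_inv, map_inv, map_mul, map_mul, map_mul, map_inv, map_inv,
      mul_right_comm (Equiv.Perm.sign (MulAction.toPermHom G Ω g)), mul_inv_cancel, one_mul, mul_inv_cancel]
  have hσ3 : σ.support.card ≤ 3 := (Finset.card_le_card (t := {a, g • a, g' • a}) fun y hy => by
    rw [Equiv.Perm.mem_support] at hy
    simp only [Finset.mem_insert, Finset.mem_singleton]
    by_contra hc
    push Not at hc
    exact hy (by rw [hσ]; exact hsupp y hc.1 hc.2.1 hc.2.2)).trans Finset.card_le_three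
  have hσ1 : σ ≠ 1 := fun e => hga' (by
    have : σ (g' • a) = a := by rw [hσ]; exact hka
    rwa [e, Equiv.Perm.one_apply] at this)
  have hcyc : σ.IsThreeCycle := by
    rw [← _root_.card_support_eq_three_iff]
    have h0 : σ.support.card ≠ 0 := fun e => hσ1 (Equiv.Perm.card_support_le_one.1 (by omega))
    have h1 : σ.support.card ≠ 1 := fun e => hσ1 (Equiv.Perm.card_support_le_one.1 (by omega))
    have h2 : σ.support.card ≠ 2 := fun e => by
      have := (Equiv.Perm.card_support_eq_two.1 e).sign_eq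
      rw [hsign] at this
      exact absurd this (by decide)
    omega
  haveI := hprim
  have hprimR : MulAction.IsPreprimitive (MulAction.toPermHom G Ω).range Ω := by
    let f : Ω →ₑ[(MulAction.toPermHom G Ω).rangeRestrict] Ω := { toFun := id, map_smul' := fun m x => rfl }
    exact MulAction.IsPreprimitive.of_surjective (f := f) Function.surjective_id
  exact hA (Equiv.Perm.alternatingGroup_le_of_isPreprimitive_of_isThreeCycle_mem hprimR hcyc ⟨k, hσ.symm⟩)

end Cfsg.Agent.S5713
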