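import Cfsg.Statements.S5722
import Cfsg.Agent.Lib.Perm.CompositionLength
-- import your own Cfsg.Agent.* helpers here

set_option autoImplicit false
set_option linter.all false
open Cfsg

namespace Cfsg.Agent.S5722

section

open MulAction CfsgLib.Perm
open scoped ArithmeticFunction.Omega Classical Pointwise

universe u

theorem omega_lt_pow {x a : ℕ} (hx : x ≠ 0) (h : x < 2 ^ a) : Ω x < a := by
  suffices h' : 2 ^ Ω x ≤ x from (Nat.pow_lt_pow_iff_right (by norm_num)).1 (h'.trans_lt h)
  rw [ArithmeticFunction.cardFactors_apply]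
  conv_rhs => rw [← Nat.prod_primeFactorsList hx]
  exact List.pow_card_le_prod _ _ fun q hq => (Nat.prime_of_mem_primeFactorsList hq).two_le

theorem omega_prod {ι : Type*} (s : Finset ι) (f : ι → ℕ) (hf : ∀ i ∈ s, f i ≠ 0) :
    Ω (∏ i ∈ s, f i) = ∑ i ∈ s, Ω (f i) := by
  induction s using Finset.induction_on with
  | empty => simp
  | insert a s ha ih =>
    rw [Finset.prod_insert ha, Finset.sum_insert ha, ArithmeticFunction.cardFactors_mul (hf a (by simp))
      (Finset.prod_ne_zero_iff.2 fun i hi => hf i (by simp [hi])), ih fun i hi => hf i (by simp [hi])]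

theorem gl_bound {p k : ℕ} (hp : p.Prime) :
    3 * (k + Ω (∏ i : Fin k, (p ^ k - p ^ (i : ℕ)))) + 4 ≤ 4 * p ^ k := by
  obtain ⟨L, hL1, hpL, hfin⟩ : ∃ L, 1 ≤ L ∧ p ≤ 2 ^ L ∧ 3 * (L * (k * k)) + 4 ≤ 4 * p ^ k := by
    rcases hp.two_le.eq_or_lt with h2 | h3
    · subst h2
      refine ⟨1, le_rfl, by norm_num, ?_⟩
      have : ∀ m, 4 ≤ m → 3 * (m * m) + 4 ≤ 4 * 2 ^ m := by
        intro m hm
        induction m, hm using Nat.le_induction with
        | base => norm_num
        | succ m hm ih => rw [pow_succ]; nlinarith
      rcases le_or_gt 4 k with h | h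
      · simpa using this k h
      · interval_cases k <;> norm_num
    · refine ⟨p - 1, by omega, ?_, ?_⟩
      · have : p - 1 < 2 ^ (p - 1) := Nat.lt_two_pow_self
        omega
      · obtain ⟨d, rfl⟩ : ∃ d, p = d + 1 := ⟨p - 1, by omega⟩
        simp only [Nat.add_sub_cancel]
        have h3' : ∀ m, 3 * (m * m) + 2 ≤ 2 * 3 ^ m := by
          intro m
          induction m with
          | zero => norm_num
          | succ m ih =>
            rw [pow_succ]
            rcases m with _ | _ | m
            · norm_num
            · norm_num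
            · nlinarith
        have hgeom : ∀ m, 2 * (d + 1) ^ m + d ≥ d * 3 ^ m + 2 := by
          intro m
          induction m with
          | zero => simp; omega
          | succ m ih =>
            rw [pow_succ, pow_succ]
            nlinarith [Nat.one_le_pow m (d+1) (by omega), Nat.one_le_pow m 3 (by omega), mul_le_mul_of_nonneg_right (show 3 ≤ d + 1 by omega) (Nat.zero_le ((d+1)^m))]
        have h1 := Nat.mul_le_mul_left d (h3' k)
        have h2 := hgeom k
        nlinarith
  have hne : ∀ i : Fin k, p ^ k - p ^ (i : ℕ) ≠ 0 := fun i =>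
    (Nat.sub_pos_of_lt (Nat.pow_lt_pow_right hp.one_lt i.2)).ne'
  have hterm : ∀ i : Fin k, Ω (p ^ k - p ^ (i : ℕ)) + 1 ≤ L * k := by
    intro i
    refine omega_lt_pow (hne i) ?_
    calc p ^ k - p ^ (i : ℕ) < p ^ k := Nat.sub_lt (pow_pos hp.pos _) (pow_pos hp.pos _)
      _ ≤ (2 ^ L) ^ k := Nat.pow_le_pow_left hpL k
      _ = 2 ^ (L * k) := (pow_mul 2 L k).symm
  have hsum := Finset.sum_le_sum fun (i : Fin k) (_ : i ∈ Finset.univ) => hterm i
  rw [Finset.sum_add_distrib, Finset.sum_const, Finset.sum_const, Finset.card_univ, Fintype.card_fin,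
    smul_eq_mul, smul_eq_mul, mul_one] at hsum
  rw [omega_prod _ _ fun i _ => hne i]
  have : k * (L * k) = L * (k * k) := by ring
  omega

theorem card_range_mul_card_ker {A B : Type*} [Group A] [Group B] (f : A →* B) :
    Nat.card f.range * Nat.card f.ker = Nat.card A := by
  rw [Subgroup.card_eq_card_quotient_mul_card_subgroup f.ker,
    Nat.card_congr (QuotientGroup.quotientKerEquivRange f).toEquiv]

theorem omega_range_ker {A B : Type*} [Group A] [Finite A] [Group B] (f : A →* B) :
    Ω (Nat.card A) = Ω (Nat.card f.range) + Ω (Nat.card f.ker) := by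
  haveI : Finite f.range := Finite.of_surjective _ f.rangeRestrict_surjective
  rw [← ArithmeticFunction.cardFactors_mul Nat.card_pos.ne' Nat.card_pos.ne', card_range_mul_card_ker]

/-- number of orbits -/
noncomputable def norb (S : Type*) [Group S] (α : Type*) [MulAction S α] : ℕ :=
  Nat.card (Quotient (orbitRel S α))

theorem norb_pos (S : Type*) [Group S] (α : Type*) [MulAction S α] [Finite α] [Nonempty α] :
    0 < norb S α := by
  haveI : Nonempty (Quotient (orbitRel S α)) := ⟨Quotient.mk'' (Classical.arbitrary α)⟩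
  exact Nat.card_pos

/-- the statement for groups of degree `n` -/
def Bound (n : ℕ) : Prop :=
  ∀ (α : Type u) [Fintype α], Fintype.card α = n → ∀ S : Subgroup (Equiv.Perm α), Group.IsSolvable S →
    3 * Ω (Nat.card S) + 4 * norb S α ≤ 4 * n

theorem intransitive {n : ℕ} (ih : ∀ m < n, Bound.{u} m) (α : Type u) [Fintype α]
    (hα : Fintype.card α = n) (S : Subgroup (Equiv.Perm α)) (hS : Group.IsSolvable S)
    (a b : α) (hb : b ∉ orbit S a) : 3 * Ω (Nat.card S) + 4 * norb S α ≤ 4 * n := by
  let D : SubMulAction S α :=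
    { carrier := orbit S a, smul_mem' := fun c x hx => (mem_orbit_iff.1 hx).elim fun d hd =>
        mem_orbit_iff.2 ⟨c * d, by rw [mul_smul, hd]⟩ }
  let E : SubMulAction S α :=
    { carrier := (orbit S a)ᶜ
      smul_mem' := fun c x hx hcx => hx (by
        obtain ⟨d, hd⟩ := mem_orbit_iff.1 hcx
        exact mem_orbit_iff.2 ⟨c⁻¹ * d, by rw [mul_smul, hd, inv_smul_smul]⟩) }
  let f : S →* Equiv.Perm D := toPermHom S D
  let g : f.ker →* Equiv.Perm E := (toPermHom S E).comp f.ker.subtype
  have hg : Function.Injective g := by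
    rw [← MonoidHom.ker_eq_bot_iff, eq_bot_iff]
    intro x hx
    rw [Subgroup.mem_bot]
    apply Subtype.ext; apply Subtype.ext
    ext z
    by_cases hz : z ∈ orbit S a
    · have := Equiv.ext_iff.1 (MonoidHom.mem_ker.1 x.2) ⟨z, hz⟩
      exact congrArg Subtype.val this
    · have := Equiv.ext_iff.1 (MonoidHom.mem_ker.1 hx) ⟨z, hz⟩
      exact congrArg Subtype.val this
  haveI : Fintype D := Fintype.ofFinite _
  haveI : Fintype E := Fintype.ofFinite _
  have hcard : Fintype.card D + Fintype.card E = n := by
    rw [← hα, ← Nat.card_eq_fintype_card, ← Nat.card_eq_fintype_card, ← Nat.card_eq_fintype_card]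
    exact Set.ncard_add_ncard_compl (orbit S a)
  have hDpos : 0 < Fintype.card D := Fintype.card_pos_iff.2 ⟨⟨a, mem_orbit_self a⟩⟩
  have hEpos : 0 < Fintype.card E := Fintype.card_pos_iff.2 ⟨⟨b, hb⟩⟩
  haveI := hS
  have hfs : Group.IsSolvable f.range := Group.isSolvable_of_surjective f.rangeRestrict_surjective
  haveI hks : Group.IsSolvable f.ker := Group.isSolvable_of_isSolvable_injective f.ker.subtype_injective
  have hgs : Group.IsSolvable g.range := Group.isSolvable_of_surjective g.rangeRestrict_surjective
  have h1 := ih _ (by omega) D rfl f.range hfs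
  have h2 := ih _ (by omega) E rfl g.range hgs
  have hker : Nat.card g.range = Nat.card f.ker :=
    (Nat.card_congr (MonoidHom.ofInjective hg).toEquiv).symm
  haveI : Nonempty D := ⟨⟨a, mem_orbit_self a⟩⟩
  have h3 := norb_pos f.range D
  have h4 : norb S α ≤ norb g.range E + 1 := by
    have key : Nat.card (Quotient (orbitRel S α)) ≤
        Nat.card (Quotient (orbitRel g.range E) ⊕ PUnit.{1}) := by
      refine Nat.card_le_card_of_surjective (Sum.elim (Quotient.lift
        (fun z : E => (Quotient.mk'' (z : α) : Quotient (orbitRel S α))) ?_)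
        (fun _ => Quotient.mk'' a)) ?_
      · intro x y hxy
        obtain ⟨⟨_, ⟨k, rfl⟩⟩, hk⟩ := (hxy : x ∈ orbit g.range y)
        refine Quotient.sound' ((orbitRel_apply).2 ⟨(k : S), ?_⟩)
        exact congrArg Subtype.val hk
      · intro q
        induction q using Quotient.inductionOn' with
        | h z =>
          by_cases hz : z ∈ orbit S a
          · exact ⟨Sum.inr PUnit.unit, Quotient.sound' ((orbitRel_apply).2 (mem_orbit_symm.1 hz))⟩
          · exact ⟨Sum.inl (Quotient.mk'' ⟨z, hz⟩), rfl⟩
    rw [Nat.card_sum, Nat.card_unique (α := PUnit.{1})] at key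
    exact key
  have h5 := omega_range_ker f
  rw [hker] at h2
  omega

theorem card_dvd_card_gl {p : ℕ} [Fact p.Prime] {H : Type*} [Group H] {V : Type*} [AddCommGroup V]
    [Module (ZMod p) V] [Finite V] (θ : H → (V →+ V)) (h1 : ∀ v, θ 1 v = v)
    (hmul : ∀ x y v, θ (x * y) v = θ x (θ y v)) (hinj : ∀ h, (∀ v, θ h v = v) → h = 1) :
    ∃ k, Nat.card V = p ^ k ∧ Nat.card H ∣ ∏ i : Fin k, (p ^ k - p ^ (i : ℕ)) := by
  haveI : Module.Finite (ZMod p) V := Module.Finite.of_finite
  let ρ : H →* Module.End (ZMod p) V :=
    { toFun := fun h => (θ h).toZModLinearMap p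
      map_one' := LinearMap.ext fun v => h1 v
      map_mul' := fun x y => LinearMap.ext fun v => hmul x y v }
  let bas := Module.finBasis (ZMod p) V
  let φ : H →* GL (Fin (Module.finrank (ZMod p) V)) (ZMod p) :=
    (Units.map (LinearMap.toMatrixAlgEquiv bas).toAlgHom.toMonoidHom).comp ρ.toHomUnits
  have hφ : Function.Injective φ := by
    rw [← MonoidHom.ker_eq_bot_iff, eq_bot_iff]
    intro h hh
    have := congrArg Units.val (MonoidHom.mem_ker.1 hh)
    have e : ρ h = 1 := (LinearMap.toMatrixAlgEquiv bas).injective (this.trans (map_one _).symm)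
    exact Subgroup.mem_bot.2 (hinj h fun v => LinearMap.congr_fun e v)
  refine ⟨Module.finrank (ZMod p) V, ?_, ?_⟩
  · rw [Module.natCard_eq_pow_finrank (K := ZMod p), Nat.card_zmod]
  · have := Subgroup.card_dvd_of_injective φ hφ
    rwa [Matrix.card_GL_field, ZMod.card] at this

theorem main_bound : ∀ n, Bound.{u} n := by
  intro n
  induction n using Nat.strong_induction_on with
  | _ n ih => ?_
  intro α _ hα S hS
  haveI := hS
  rcases isEmpty_or_nonempty α with hE | hne
  · have h1 : Nat.card S = 1 := Nat.card_unique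
    have h2 : norb S α = 0 := by
      haveI : IsEmpty (Quotient (orbitRel S α)) :=
        ⟨fun q => Quotient.inductionOn' q fun z => isEmptyElim z⟩
      exact Nat.card_of_isEmpty
    rw [h1, h2]; simp
  by_cases htr : ∃ a b : α, b ∉ orbit S a
  · obtain ⟨a, b, hb⟩ := htr
    exact intransitive ih α hα S hS a b hb
  push Not at htr
  haveI : IsPretransitive S α := ⟨fun x y => mem_orbit_iff.1 (htr x y)⟩
  have hnorb : norb S α = 1 := Nat.card_eq_one_iff_unique.2
    ⟨⟨fun p q => Quotient.inductionOn₂' p q fun x y => Quotient.sound' ((orbitRel_apply).2 (htr y x))⟩,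
      ⟨Quotient.mk'' (Classical.arbitrary α)⟩⟩
  rw [hnorb]
  by_cases h1 : Fintype.card α = 1
  · haveI : Subsingleton α := Fintype.card_le_one_iff_subsingleton.1 h1.le
    have : Nat.card S = 1 := Nat.card_unique
    rw [this]; simp; omega
  haveI : Nontrivial α := Fintype.one_lt_card_iff_nontrivial.1 (by
    have := Fintype.card_pos (α := α); omega)
  by_cases hprim : IsPreprimitive S α
  · -- primitive: a regular elementary abelian normal subgroup
    haveI : Nontrivial S := by
      rcases subsingleton_or_nontrivial S with h | h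
      · exfalso
        obtain ⟨x, y, hxy⟩ := exists_pair_ne α
        obtain ⟨g, hg⟩ := exists_smul_eq S x y
        exact hxy (by rw [← hg, Subsingleton.elim g 1, one_smul])
      · exact h
    obtain ⟨N, hNn, hN0, -, hmin⟩ :=
      CfsgLib.Coprime.exists_minimal_normal_le (N := (⊤ : Subgroup S)) top_ne_bot
    haveI : Group.IsSolvable N := Group.isSolvable_of_isSolvable_injective N.subtype_injective
    obtain ⟨hcomm, p, hp, hexp⟩ := CfsgLib.Coprime.minimal_normal_solvable hN0 hmin
    haveI : Fact p.Prime := ⟨hp⟩
    have hnfix : fixedPoints N α ≠ Set.univ := by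
      intro h
      obtain ⟨x, hx, hx1⟩ := (Subgroup.bot_or_exists_ne_one N).resolve_left hN0
      refine hx1 (Subtype.ext (Equiv.ext fun z => ?_))
      have : z ∈ fixedPoints N α := h ▸ Set.mem_univ z
      exact this ⟨x, hx⟩
    haveI : IsPretransitive N α := IsQuasiPreprimitive.isPretransitive_of_normal hnfix
    obtain ⟨a⟩ := hne
    have hfree : ∀ m : N, m • a = a → m = 1 := by
      intro m hm
      apply Subtype.ext; apply Subtype.ext; ext z
      obtain ⟨l, rfl⟩ := exists_smul_eq N a z
      have : m * l = l * m := Subtype.ext (hcomm _ m.2 _ l.2)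
      show m • l • a = l • a
      rw [← mul_smul, this, mul_smul, hm]
    have hNcard : Nat.card N = n := by
      rw [← hα, ← Nat.card_eq_fintype_card]
      refine Nat.card_congr (Equiv.ofBijective (fun m : N => m • a) ⟨fun m l h => ?_, exists_smul_eq N a⟩)
      have := hfree (l⁻¹ * m) (by rw [mul_smul, inv_smul_eq_iff]; exact h)
      exact (inv_mul_eq_one.1 this).symm
    set H := stabilizer S a
    have hSH : Nat.card S = n * Nat.card H := by
      rw [← Subgroup.index_mul_card H, index_stabilizer_of_transitive, Nat.card_eq_fintype_card, hα]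
    letI : CommGroup N := { (inferInstance : Group N) with mul_comm := fun x y => Subtype.ext (hcomm _ x.2 _ y.2) }
    letI : Module (ZMod p) (Additive N) := AddCommGroup.zmodModule fun x => by
      show (Additive.ofMul ((Additive.toMul x) ^ p) : (Additive N)) = 0
      rw [show (Additive.toMul x) ^ p = 1 from Subtype.ext (hexp _ (Additive.toMul x).2)]
      rfl
    haveI : Finite (Additive N) := Finite.of_equiv N Additive.ofMul
    let θ : H → (Additive N →+ Additive N) := fun h =>
      MonoidHom.toAdditive ((MulAut.conjNormal (h : S) : MulAut N) : N →* N)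
    have hθ : ∀ (h : H) (v : Additive N),
        Additive.toMul (θ h v) = MulAut.conjNormal (h : S) (Additive.toMul v) := fun h v => rfl
    obtain ⟨k, hk, hdvd⟩ := card_dvd_card_gl (p := p) θ
      (fun v => Additive.toMul.injective (by rw [hθ, OneMemClass.coe_one, map_one]; rfl))
      (fun x y v => Additive.toMul.injective (by rw [hθ, hθ, hθ, Subgroup.coe_mul, map_mul]; rfl))
      (fun h hh => by
        apply Subtype.ext; apply Subtype.ext; ext z
        obtain ⟨l, rfl⟩ := exists_smul_eq N a z
        have h2 : MulAut.conjNormal (h : S) l = l :=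
          congrArg Additive.toMul (hh (Additive.ofMul l))
        have h3 : (h : S) * (l : S) = (l : S) * (h : S) := by
          have := congrArg Subtype.val h2
          rw [MulAut.conjNormal_apply, mul_inv_eq_iff_eq_mul] at this
          exact this
        show (h : S) • (l : S) • a = (l : S) • a
        rw [← mul_smul, h3, mul_smul, show (h : S) • a = a from h.2])
    have hnp : n = p ^ k := by
      rw [← hNcard, ← hk]
      exact Nat.card_congr Additive.ofMul
    have hne0 : (∏ i : Fin k, (p ^ k - p ^ (i : ℕ))) ≠ 0 := Finset.prod_ne_zero_iff.2 fun i _ =>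
      (Nat.sub_pos_of_lt (Nat.pow_lt_pow_right hp.one_lt i.2)).ne'
    have h3 := omega_le_of_dvd hdvd hne0
    have h4 := gl_bound (k := k) hp
    rw [hSH, ArithmeticFunction.cardFactors_mul (by rw [hnp]; exact (pow_pos hp.pos k).ne')
      Nat.card_pos.ne', hnp, ArithmeticFunction.cardFactors_apply_prime_pow hp]
    omega
  · -- imprimitive
    obtain ⟨B, hB, hBnt⟩ : ∃ B : Set α, IsBlock S B ∧ ¬ IsTrivialBlock B := by
      by_contra hc
      push Not at hc
      exact hprim { toIsPretransitive := inferInstance, isTrivialBlock_of_isBlock := fun {B} hB => hc B hB }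
    simp only [IsTrivialBlock, not_or, Set.not_subsingleton_iff] at hBnt
    obtain ⟨a, ha⟩ := hBnt.1.nonempty
    have h2B : 2 ≤ B.ncard := (Set.one_lt_ncard (Set.toFinite _)).2 hBnt.1
    let β := orbit S B
    haveI : Fintype β := Fintype.ofFinite _
    have hmul : B.ncard * Fintype.card β = n := by
      rw [← hα, ← Nat.card_eq_fintype_card, ← Nat.card_eq_fintype_card, Nat.card_coe_set_eq]
      exact IsBlock.ncard_block_mul_ncard_orbit_eq hB ⟨a, ha⟩
    have hBlt : B.ncard < n := by
      rw [← hα, ← Nat.card_eq_fintype_card]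
      exact Set.ncard_lt_card hBnt.2
    have hβlt : Fintype.card β < n := by
      have : 0 < Fintype.card β := Fintype.card_pos_iff.2 ⟨⟨B, mem_orbit_self B⟩⟩
      nlinarith
    let f : S →* Equiv.Perm β := toPermHom S β
    have hfs : Group.IsSolvable f.range := Group.isSolvable_of_surjective f.rangeRestrict_surjective
    have him := ih _ hβlt β rfl f.range hfs
    haveI : Nonempty β := ⟨⟨B, mem_orbit_self B⟩⟩
    have h3 := norb_pos f.range β
    set K : Subgroup (Equiv.Perm α) := f.ker.map S.subtype with hK
    haveI : Group.IsSolvable f.ker := Group.isSolvable_of_isSolvable_injective f.ker.subtype_injective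
    have hKs : Group.IsSolvable K := Group.isSolvable_of_surjective (S.subtype.subgroupMap_surjective f.ker)
    have hKfix : ∀ (k : K) (g : S) (x : α), x ∈ g • B → k • x ∈ g • B := by
      rintro ⟨_, k, hk, rfl⟩ g x hx
      have h2 : k • g • B = g • B :=
        congrArg Subtype.val (Equiv.ext_iff.1 (MonoidHom.mem_ker.1 hk) ⟨g • B, ⟨g, rfl⟩⟩)
      rw [← h2]
      exact Set.smul_mem_smul_set hx
    -- orbits of the kernel lie in blocks
    have hb : a ∈ B := ha
    obtain ⟨x, hx⟩ := (Set.ne_univ_iff_exists_notMem B).1 hBnt.2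
    have hKint : x ∉ orbit K a := fun ⟨k, hk⟩ => hx (by
      have := hKfix k 1 a (by rwa [one_smul])
      rw [show k • a = x from hk, one_smul] at this
      exact this)
    have hk := intransitive ih α hα K hKs a x hKint
    have hsur : Fintype.card β ≤ norb K α := by
      rw [← Nat.card_eq_fintype_card]
      let blk : α → β := fun z => ⟨(exists_smul_eq S a z).choose • B, ⟨_, rfl⟩⟩
      have hmem : ∀ z, z ∈ (blk z : Set α) := fun z => by
        show z ∈ (exists_smul_eq S a z).choose • B
        have key : ∀ g : S, g • a = z → z ∈ g • B := fun g hg => hg ▸ Set.smul_mem_smul_set ha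
        exact key _ (exists_smul_eq S a z).choose_spec
      have huniq : ∀ (z : α) (g : S), z ∈ g • B → (blk z : Set α) = g • B := fun z g hg => by
        by_contra hne'
        exact Set.disjoint_left.1 (hB hne') (hmem z) hg
      refine Nat.card_le_card_of_surjective (Quotient.lift blk ?_) ?_
      · intro z w hzw
        obtain ⟨k, hk⟩ := (hzw : z ∈ orbit K w)
        refine Subtype.ext (huniq z _ ?_)
        rw [← show k • w = z from hk]
        exact hKfix k _ w (hmem w)
      · rintro ⟨_, g, rfl⟩
        refine ⟨Quotient.mk'' (g • a), Subtype.ext (huniq _ g (Set.smul_mem_smul_set ha))⟩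
    have h5 := omega_range_ker f
    have h6 : Nat.card K = Nat.card f.ker :=
      (Nat.card_congr (f.ker.equivMapOfInjective S.subtype S.subtype_injective).toEquiv).symm
    rw [h6] at hk
    omega

end

open MulAction CfsgLib.Perm in
/-- If a finite group G acts faithfully on a finite set with n points and r orbits, then the composition length of G is at most 4(n − r)/3. Here the composition length is expressed through chains: the conclusion bounds the length l of every chain of subgroups 1 = H₀ < H₁ < ⋯ < H_l = G in which each term is normal in the next (the longest such chains are exactly the composition series). -/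
theorem result {G Ω : Type*} [Group G] [Finite G] [MulAction G Ω] [FaithfulSMul G Ω] [Fintype Ω]
    (l : ℕ) (H : Fin (l + 1) → Subgroup G) (h0 : H 0 = ⊥) (hl : H (Fin.last l) = ⊤)
    (hchain : ∀ i : Fin l, H i.castSucc < H i.succ ∧ ((H i.castSucc).subgroupOf (H i.succ)).Normal) :
    3 * l ≤ 4 * (Fintype.card Ω - Nat.card (Quotient (MulAction.orbitRel G Ω))) := by
  obtain ⟨S, hS, hb⟩ := exists_solvable_solvLenBound G
  let H' : ℕ → Subgroup G := fun i => H ⟨min i l, by omega⟩
  have hH' : ∀ i, i < l → ∀ hi : i < l, H' i = H (⟨i, hi⟩ : Fin l).castSucc ∧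
      H' (i + 1) = H (⟨i, hi⟩ : Fin l).succ := by
    intro i _ hi
    constructor <;> simp only [H'] <;> congr 1 <;> ext <;> simp <;> omega
  classical
  have hlen : l ≤ ArithmeticFunction.cardFactors (Nat.card S) := by
    have := hb l H' (by simp only [H', Nat.min_self]; exact hl) (fun i hi => by
      obtain ⟨hlt, hn⟩ := hchain ⟨i, hi⟩
      rw [(hH' i hi hi).1, (hH' i hi hi).2]
      refine ⟨hlt.le, fun x hx y hy => ?_⟩
      exact hn.conj_mem ⟨y, hlt.le hy⟩ hy ⟨x, hx⟩)
    rwa [Finset.filter_true_of_mem (fun i hi => by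
      have hi' := Finset.mem_range.1 hi
      rw [(hH' i hi' hi').1, (hH' i hi' hi').2]
      exact (hchain ⟨i, hi'⟩).1.ne), Finset.card_range] at this
  let e : S →* Equiv.Perm Ω := (MulAction.toPermHom G Ω).comp S.subtype
  have he : Function.Injective e := (MulAction.toPerm_injective).comp S.subtype_injective
  haveI := hS
  have hes : Group.IsSolvable e.range := Group.isSolvable_of_surjective e.rangeRestrict_surjective
  have h := main_bound _ Ω rfl e.range hes
  rw [(Nat.card_congr (MonoidHom.ofInjective he).toEquiv).symm] at h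
  have hr : Nat.card (Quotient (MulAction.orbitRel G Ω)) ≤ norb e.range Ω := by
    refine Nat.card_le_card_of_surjective (Quotient.lift
      (fun z : Ω => (Quotient.mk'' z : Quotient (MulAction.orbitRel G Ω))) ?_) ?_
    · intro x y hxy
      obtain ⟨⟨_, ⟨k, rfl⟩⟩, hk⟩ := (hxy : x ∈ orbit e.range y)
      exact Quotient.sound' ((orbitRel_apply).2 ⟨(k : G), hk⟩)
    · intro q
      induction q using Quotient.inductionOn' with
      | h z => exact ⟨Quotient.mk'' z, rfl⟩
  omega

end Cfsg.Agent.S5722
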