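import Cfsg.Statements.S5726
-- import your own Cfsg.Agent.* helpers here

set_option autoImplicit false
open Cfsg

namespace Cfsg.Agent.S5726

/-- If a finite group acts faithfully and transitively on a set with p^k elements, p a prime and k ≥ 1, then some element of order p fixes no point. -/
theorem result {G Ω : Type*} [Group G] [Finite G] [MulAction G Ω] [FaithfulSMul G Ω] [Fintype Ω] (htr : MulAction.IsPretransitive G Ω)
    (p k : ℕ) (hp : p.Prime) (hk : 1 ≤ k) (hΩ : Fintype.card Ω = p ^ k) :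
    ∃ g : G, orderOf g = p ∧ ∀ ω : Ω, g • ω ≠ ω := by
  classical
  haveI := Fact.mk hp
  haveI : Fintype G := Fintype.ofFinite G
  obtain ⟨P⟩ : Nonempty (Sylow p G) := inferInstance
  obtain ⟨ω₀⟩ : Nonempty Ω := Fintype.card_pos_iff.1 (by rw [hΩ]; exact pow_pos hp.pos k)
  -- the Sylow subgroup is transitive
  have hsurj : Function.Surjective fun g : G => g • ω₀ := fun ω => MulAction.exists_smul_eq G ω₀ ω
  have hPorb : MulAction.orbit (↥(P : Subgroup G)) ω₀ = Set.univ := by
    have h1 : p ^ k ∣ Nat.card (MulAction.orbit (↥(P : Subgroup G)) ω₀) := by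
      have e1 := Nat.card_congr (MulAction.orbitProdStabilizerEquivGroup (↥(P : Subgroup G)) ω₀)
      have e2 : (MulAction.stabilizer (↥(P : Subgroup G)) ω₀).map (P : Subgroup G).subtype ≤
          MulAction.stabilizer G ω₀ := by rintro _ ⟨x, hx, rfl⟩; exact hx
      have e3 := Subgroup.card_dvd_of_le e2
      rw [Subgroup.card_map_of_injective (P : Subgroup G).subtype_injective] at e3
      have e4 : Nat.card G = p ^ k * Nat.card (MulAction.stabilizer G ω₀) := by
        rw [← hΩ, ← Nat.card_eq_fintype_card (α := Ω), ← Nat.card_congr (MulAction.orbitProdStabilizerEquivGroup G ω₀),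
          Nat.card_prod, MulAction.orbit_eq_univ, Nat.card_coe_set_eq, Set.ncard_univ]
      rw [Nat.card_prod] at e1
      obtain ⟨a, ha⟩ := IsPGroup.iff_card.1 (P.isPGroup'.to_subgroup (MulAction.stabilizer (↥(P : Subgroup G)) ω₀))
      have hfac : p ^ k * p ^ a ∣ Nat.card G := e4 ▸ Nat.mul_dvd_mul_left _ (ha ▸ e3)
      rw [← pow_add] at hfac
      have h5 : p ^ (k + a) ∣ Nat.card (P : Subgroup G) := P.pow_dvd_card_of_pow_dvd_card hfac
      rw [← e1, ha, pow_add] at h5
      exact Nat.dvd_of_mul_dvd_mul_right (pow_pos hp.pos a) h5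
    have h2 := Nat.le_of_dvd (Nat.card_pos_iff.2 ⟨⟨⟨ω₀, MulAction.mem_orbit_self ω₀⟩⟩, inferInstance⟩) h1
    rw [← hΩ, ← Nat.card_eq_fintype_card, Nat.card_coe_set_eq] at h2
    exact Set.eq_univ_of_univ_subset (Set.eq_of_subset_of_ncard_le (Set.subset_univ _)
      (by rw [Set.ncard_univ]; exact h2)).ge
  haveI : Nontrivial (P : Subgroup G) := by
    obtain ⟨ω, hω⟩ := Fintype.exists_ne_of_one_lt_card (hΩ ▸ Nat.one_lt_pow (by omega) hp.one_lt) ω₀
    obtain ⟨x, hx⟩ := (hPorb ▸ Set.mem_univ ω : ω ∈ MulAction.orbit (↥(P : Subgroup G)) ω₀)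
    exact ⟨⟨x, 1, fun h => hω (by rw [← hx, h]; exact one_smul _ _)⟩⟩
  haveI : Nontrivial (Subgroup.center (P : Subgroup G)) := P.isPGroup'.center_nontrivial
  obtain ⟨z, hz⟩ := exists_prime_orderOf_dvd_card' (G := Subgroup.center (P : Subgroup G)) p (by
    obtain ⟨m, hm⟩ := IsPGroup.iff_card.1 (P.isPGroup'.to_subgroup (Subgroup.center (P : Subgroup G)))
    rcases m with _ | m
    · exact absurd (hm.trans (pow_zero p)) (Finite.one_lt_card (α := Subgroup.center (P : Subgroup G))).ne'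
    · exact hm ▸ dvd_pow_self p m.succ_ne_zero)
  have hord : orderOf ((z : ↥(P : Subgroup G)) : G) = p := by rw [Subgroup.orderOf_coe, Subgroup.orderOf_coe, hz]
  refine ⟨_, hord, fun ω hω => ?_⟩
  have h1 : ((z : ↥(P : Subgroup G)) : G) = 1 := by
    refine eq_of_smul_eq_smul (α := Ω) fun ω' => ?_
    obtain ⟨x₁, hx₁⟩ := (hPorb ▸ Set.mem_univ ω : ω ∈ MulAction.orbit (↥(P : Subgroup G)) ω₀)
    obtain ⟨x₂, hx₂⟩ := (hPorb ▸ Set.mem_univ ω' : ω' ∈ MulAction.orbit (↥(P : Subgroup G)) ω₀)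
    have hc := Subgroup.mem_center_iff.1 z.2 (x₂ * x₁⁻¹)
    have e : (x₂ * x₁⁻¹) • ω = ω' := by rw [← hx₁, ← hx₂, smul_smul, inv_mul_cancel_right]
    rw [one_smul, ← e, ← Subgroup.smul_def, smul_smul, ← hc, ← smul_smul, Subgroup.smul_def (z : ↥(P : Subgroup G)), hω]
  rw [h1, orderOf_one] at hord
  exact hp.ne_one hord.symm

end Cfsg.Agent.S5726
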