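import Cfsg.Statements.S5727
import Mathlib
import Cfsg.Agent.S5726
-- import your own Cfsg.Agent.* helpers here

set_option autoImplicit false
open Cfsg

namespace Cfsg.Agent.S5727

/-- If a finite group acts faithfully and transitively on a set with m·p elements, where p is a prime and 1 ≤ m ≤ p, then some element of order p fixes no point. -/
theorem result {G Ω : Type*} [Group G] [Finite G] [MulAction G Ω] [FaithfulSMul G Ω] [Fintype Ω] (htr : MulAction.IsPretransitive G Ω)
    (p m : ℕ) (hp : p.Prime) (hm : 1 ≤ m) (hmp : m ≤ p) (hΩ : Fintype.card Ω = m * p) :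
    ∃ g : G, orderOf g = p ∧ ∀ ω : Ω, g • ω ≠ ω := by
  classical
  haveI := Fact.mk hp
  haveI : Fintype G := Fintype.ofFinite G
  rcases eq_or_lt_of_le hmp with rfl | hlt
  · exact Cfsg.Agent.S5726.result htr m 2 hp one_le_two (by rw [hΩ, sq])
  obtain ⟨P⟩ : Nonempty (Sylow p G) := inferInstance
  -- all orbits of the Sylow subgroup have length p
  have horb : ∀ ω : Ω, Nat.card (MulAction.orbit (↥(P : Subgroup G)) ω) = p := by
    intro ω
    have e1 := Nat.card_congr (MulAction.orbitProdStabilizerEquivGroup (↥(P : Subgroup G)) ω)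
    have e2 : (MulAction.stabilizer (↥(P : Subgroup G)) ω).map (P : Subgroup G).subtype ≤
        MulAction.stabilizer G ω := by rintro _ ⟨x, hx, rfl⟩; exact hx
    have e3 := Subgroup.card_dvd_of_le e2
    rw [Subgroup.card_map_of_injective (P : Subgroup G).subtype_injective] at e3
    have e4 : Nat.card G = m * p * Nat.card (MulAction.stabilizer G ω) := by
      rw [← hΩ, ← Nat.card_eq_fintype_card (α := Ω), ← Nat.card_congr (MulAction.orbitProdStabilizerEquivGroup G ω),
        Nat.card_prod, MulAction.orbit_eq_univ, Nat.card_coe_set_eq, Set.ncard_univ]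
    rw [Nat.card_prod] at e1
    obtain ⟨b, hb⟩ := IsPGroup.iff_card.1 (P.isPGroup'.to_subgroup (MulAction.stabilizer (↥(P : Subgroup G)) ω))
    obtain ⟨a, ha⟩ := P.isPGroup'.card_orbit ω
    have hpd : p ∣ Nat.card (MulAction.orbit (↥(P : Subgroup G)) ω) := by
      have hfac : p ^ (1 + b) ∣ Nat.card G := by
        rw [e4, pow_add, pow_one, mul_comm m p, mul_assoc]
        exact Nat.mul_dvd_mul_left _ ((hb ▸ e3).mul_left m)
      have h5 : p ^ (1 + b) ∣ Nat.card (P : Subgroup G) := P.pow_dvd_card_of_pow_dvd_card hfac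
      rw [← e1, hb, pow_add, pow_one] at h5
      exact Nat.dvd_of_mul_dvd_mul_right (pow_pos hp.pos b) h5
    have hle : Nat.card (MulAction.orbit (↥(P : Subgroup G)) ω) ≤ m * p := by
      rw [← hΩ, ← Nat.card_eq_fintype_card]
      exact Finite.card_subtype_le _
    rcases a with _ | _ | a
    · rw [ha, pow_zero] at hpd
      exact absurd (Nat.dvd_one.1 hpd) hp.ne_one
    · rw [ha, pow_one]
    · rw [ha] at hle
      have h6 : p * p ≤ p ^ (a + 2) := (sq p).symm.trans_le (Nat.pow_le_pow_right hp.pos (by omega))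
      have h7 : m * p < p * p := Nat.mul_lt_mul_of_pos_right hlt hp.pos
      exact absurd (h6.trans hle) (not_le.2 h7)
  -- stabilisers in `P` are normal of index `p`
  have hindex : ∀ ω : Ω, (MulAction.stabilizer (↥(P : Subgroup G)) ω).index = p := fun ω => by
    rw [Subgroup.index, ← Nat.card_congr (MulAction.orbitEquivQuotientStabilizer (↥(P : Subgroup G)) ω), horb]
  have hnorm : ∀ ω : Ω, (MulAction.stabilizer (↥(P : Subgroup G)) ω).Normal := fun ω => by
    obtain ⟨b, hb⟩ := IsPGroup.iff_card.1 P.isPGroup'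
    refine Subgroup.normal_of_index_eq_minFac_card ?_
    have : b ≠ 0 := by
      rintro rfl
      have h1 := hindex ω
      have h2 := Subgroup.index_dvd_card (MulAction.stabilizer (↥(P : Subgroup G)) ω)
      rw [h1, hb, pow_zero] at h2
      exact hp.ne_one (Nat.dvd_one.1 h2)
    rw [hindex, hb, Nat.pow_minFac this, hp.minFac_eq]
  by_contra hcon
  push Not at hcon
  have hfix : ∀ x : (P : Subgroup G), x ≠ 1 → p ≤ Nat.card (MulAction.fixedBy Ω x) := by
    intro x hx
    have hxp : x ^ p = 1 := by
      refine Subtype.ext (eq_of_smul_eq_smul (α := Ω) fun ω => ?_)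
      have h1 : x ^ p ∈ MulAction.stabilizer (↥(P : Subgroup G)) ω := by
        haveI := hnorm ω
        rw [← QuotientGroup.eq_one_iff, QuotientGroup.mk_pow]
        exact (congrArg ((x : _ ⧸ MulAction.stabilizer (↥(P : Subgroup G)) ω) ^ ·) (hindex ω).symm).trans pow_card_eq_one'
      rw [Subgroup.coe_one, one_smul]
      exact h1
    have hord : orderOf (x : G) = p := by rw [Subgroup.orderOf_coe]; exact orderOf_eq_prime hxp hx
    obtain ⟨ω, hω⟩ := hcon _ hord
    refine (horb ω).ge.trans (Nat.card_mono (Set.toFinite _) ?_)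
    rintro _ ⟨y, rfl⟩
    show x • (y • ω) = y • ω
    rw [smul_smul, show x * y = y * (y⁻¹ * x * y) by group, mul_smul]
    have hmem : y⁻¹ * x * y ∈ MulAction.stabilizer (↥(P : Subgroup G)) ω := (hnorm ω).conj_mem' x hω y
    rw [show (y⁻¹ * x * y) • ω = ω from hmem]
  haveI : Fintype (P : Subgroup G) := Fintype.ofFinite _
  have hsum : ∑ x : (P : Subgroup G), Nat.card (MulAction.fixedBy Ω x) = m * Nat.card (P : Subgroup G) := by
    have h1 : ∀ x : (P : Subgroup G), Nat.card (MulAction.fixedBy Ω x) =
        ∑ ω : Ω, if x • ω = ω then 1 else 0 := fun x => by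
      rw [Finset.sum_boole, Nat.cast_id, ← Nat.card_eq_finsetCard]
      exact Nat.card_congr (Equiv.subtypeEquivRight fun ω => by simp)
    simp only [h1]
    rw [Finset.sum_comm]
    have h2 : ∀ ω : Ω, p * (∑ x : (P : Subgroup G), if x • ω = ω then 1 else 0) = Nat.card (P : Subgroup G) := by
      intro ω
      rw [← Nat.card_congr (MulAction.orbitProdStabilizerEquivGroup (↥(P : Subgroup G)) ω), Nat.card_prod, horb,
        Finset.sum_boole, Nat.cast_id, ← Nat.card_eq_finsetCard]
      congr 1
      exact Nat.card_congr (Equiv.subtypeEquivRight fun x => by simp [MulAction.mem_stabilizer_iff])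
    have h3 : p * (∑ ω : Ω, ∑ x : (P : Subgroup G), if x • ω = ω then 1 else 0) =
        p * (m * Nat.card (P : Subgroup G)) := by
      rw [Finset.mul_sum, Finset.sum_congr rfl fun ω _ => h2 ω, Finset.sum_const, Finset.card_univ, hΩ, smul_eq_mul]
      ring
    exact Nat.eq_of_mul_eq_mul_left hp.pos h3
  have hone : Nat.card (MulAction.fixedBy Ω (1 : (P : Subgroup G))) = m * p := by
    rw [← hΩ, ← Nat.card_eq_fintype_card, MulAction.fixedBy_one_eq_univ, Nat.card_coe_set_eq, Set.ncard_univ]
  have hge := Finset.sum_le_sum fun x (hx : x ∈ (Finset.univ : Finset (P : Subgroup G)).erase 1) =>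
    hfix x (Finset.ne_of_mem_erase hx)
  rw [Finset.sum_const, Finset.card_erase_of_mem (Finset.mem_univ _), Finset.card_univ, smul_eq_mul,
    ← Nat.card_eq_fintype_card] at hge
  rw [← Finset.add_sum_erase _ _ (Finset.mem_univ (1 : (P : Subgroup G))), hone] at hsum
  have hcardP : 1 ≤ Nat.card (P : Subgroup G) := Nat.card_pos
  obtain ⟨d, hd⟩ := Nat.exists_eq_add_of_le hcardP
  rw [hd, Nat.add_sub_cancel_left] at hge
  rw [hd] at hsum
  have h8 : (m + 1) * d ≤ p * d := Nat.mul_le_mul_right d hlt
  have h9 : 2 * m ≤ m * p := by rw [mul_comm 2]; exact Nat.mul_le_mul_left m hp.two_le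
  nlinarith

end Cfsg.Agent.S5727
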