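import Cfsg.Statements.S5728
import Mathlib


set_option autoImplicit false
open Cfsg

namespace Cfsg.Agent.S5728

/-- An elusive transitive action. Let p = 2^s − 1 be a prime and let F be the field with p² elements. Inside the group of affine maps x ↦ a·x + b of F (a ≠ 0), consider the subgroup of maps with both coefficients in the prime field. Then every element of prime order of the affine group is conjugate, within the affine group, to an element of that subgroup; equivalently, in the transitive action of the affine group on the cosets of that subgroup (of degree p(p + 1)) every element of prime order fixes a point. -/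
theorem result (p s : ℕ) [Fact p.Prime] (hs : p = 2 ^ s - 1)
    (g : Equiv.Perm (GaloisField p 2)) (hg : g ∈ Cfsg.affineGroup (GaloisField p 2)) (hord : (orderOf g).Prime) :
    ∃ x ∈ Cfsg.affineGroup (GaloisField p 2), ∃ a b : ZMod p, a ≠ 0 ∧
      ∀ y : GaloisField p 2, (x * g * x⁻¹) y = algebraMap (ZMod p) (GaloisField p 2) a * y + algebraMap (ZMod p) (GaloisField p 2) b := by
  classical
  obtain ⟨a, b, hab⟩ := hg
  have hp := (Fact.out : p.Prime)
  have hp2 : p ≠ 2 := by
    intro h
    rcases s with - | s
    · simp at hs; omega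
    rcases s with - | s
    · simp at hs; omega
    · have : 4 ≤ 2 ^ (s + 2) := by rw [pow_add]; have := Nat.one_le_two_pow (n := s); omega
      omega
  by_cases ha : (a : GaloisField p 2) = 1
  · have hb : b ≠ 0 := by
      intro hb
      have h1 : g = 1 := Equiv.ext fun y => by rw [hab, ha, hb]; simp
      rw [h1, orderOf_one] at hord
      exact Nat.not_prime_one hord
    refine ⟨(Equiv.mulLeft₀ b⁻¹ (inv_ne_zero hb)), ⟨Units.mk0 b⁻¹ (inv_ne_zero hb), 0, fun y => by simp⟩,
      1, 1, one_ne_zero, fun y => ?_⟩
    simp only [Equiv.Perm.mul_apply, map_one]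
    show b⁻¹ * g ((Equiv.mulLeft₀ b⁻¹ (inv_ne_zero hb))⁻¹ y) = _
    rw [hab, ha]
    have h2 : (Equiv.mulLeft₀ b⁻¹ (inv_ne_zero hb))⁻¹ y = b * y := by
      rw [Equiv.Perm.inv_eq_iff_eq]
      show y = b⁻¹ * (b * y)
      rw [inv_mul_cancel_left₀ hb]
    rw [h2, one_mul, one_mul, mul_add, inv_mul_cancel_left₀ hb, inv_mul_cancel₀ hb]
  · have h1a : 1 - (a : GaloisField p 2) ≠ 0 := sub_ne_zero.2 (Ne.symm ha)
    let c : GaloisField p 2 := b / (1 - a)
    have hc : (a : GaloisField p 2) * c + b = c := by
      simp only [c]; field_simp; ring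
    have hiter : ∀ (j : ℕ) (y : GaloisField p 2), (g ^ j) y - c = (a : GaloisField p 2) ^ j * (y - c) := by
      intro j
      induction j with
      | zero => simp
      | succ j ihj =>
        intro y
        rw [pow_succ', Equiv.Perm.mul_apply, hab, pow_succ', mul_assoc, ← ihj]
        linear_combination hc
    have har : (a : GaloisField p 2) ^ orderOf g = 1 := by
      have h2 := hiter (orderOf g) (c + 1)
      rw [pow_orderOf_eq_one, Equiv.Perm.one_apply, add_sub_cancel_left, mul_one] at h2
      exact h2.symm
    have horda : orderOf (a : GaloisField p 2) = orderOf g :=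
      haveI := Fact.mk hord
      orderOf_eq_prime har ha
    have hunit : (a : GaloisField p 2) ^ ((p - 1) * 2 ^ s) = 1 := by
      haveI : Fintype (GaloisField p 2) := Fintype.ofFinite _
      have h2 := FiniteField.pow_card_sub_one_eq_one (a : GaloisField p 2) (Units.ne_zero a)
      rw [← Nat.card_eq_fintype_card, GaloisField.card p 2 (by norm_num)] at h2
      convert h2 using 2
      have hp1 : p + 1 = 2 ^ s := by have := Nat.one_le_two_pow (n := s); omega
      rw [← hp1, mul_comm, ← Nat.sq_sub_sq, one_pow]
    have hdvd : orderOf g ∣ p - 1 := by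
      have h2 := orderOf_dvd_of_pow_eq_one hunit
      rw [horda] at h2
      rcases hord.dvd_mul.1 h2 with h | h
      · exact h
      · rw [(Nat.prime_dvd_prime_iff_eq hord Nat.prime_two).1 (hord.dvd_of_dvd_pow h)]
        obtain ⟨i, hi⟩ := hp.odd_of_ne_two hp2
        exact ⟨i, by omega⟩
    have hap : (a : GaloisField p 2) ^ p = a := by
      obtain ⟨e, he⟩ := hdvd
      have hpe : p = orderOf g * e + 1 := by have := hp.pos; omega
      have hexp : (a : GaloisField p 2) ^ p = (a : GaloisField p 2) ^ (orderOf g * e + 1) := congrArg _ hpe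
      rw [hexp]
      rw [pow_succ, pow_mul, har, one_pow, one_mul]
    obtain ⟨a₀, ha₀⟩ : ∃ a₀ : ZMod p, algebraMap (ZMod p) (GaloisField p 2) a₀ = a := by
      have h2 := (Subfield.mem_bot_iff_pow_eq_self (F := GaloisField p 2) (p := p)).2 hap
      rw [← ZMod.fieldRange_castHom_eq_bot p] at h2
      obtain ⟨z, hz⟩ := h2
      obtain ⟨i, rfl⟩ := ZMod.intCast_surjective z
      have hi : ((i : ℤ) : GaloisField p 2) = a := by rw [← hz]; exact (map_intCast _ i).symm
      exact ⟨(i : ZMod p), by rw [map_intCast, hi]⟩
    refine ⟨Equiv.subRight c, ⟨1, -c, fun y => by simp [sub_eq_add_neg]⟩, a₀, 0, ?_, fun y => ?_⟩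
    · rintro rfl
      rw [map_zero] at ha₀
      exact Units.ne_zero a ha₀.symm
    · rw [ha₀, map_zero, add_zero]
      show g ((Equiv.subRight c)⁻¹ y) - c = _
      have h2 : (Equiv.subRight c)⁻¹ y = y + c := by
        rw [Equiv.Perm.inv_eq_iff_eq]
        show y = y + c - c
        ring
      rw [h2]
      have := hiter 1 (y + c)
      rw [pow_one, pow_one, add_sub_cancel_right] at this
      exact this

end Cfsg.Agent.S5728
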