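import Cfsg.Statements.S5729
import Mathlib
import Cfsg.Agent.Lib.Perm.Groups.Transit
-- import your own Cfsg.Agent.* helpers here

set_option autoImplicit false
open Cfsg

namespace Cfsg.Agent.S5729

/-- Let a finite group G act faithfully and transitively on a set with n ≥ 3 points. Then either G is a Frobenius permutation group (Frobenius as a permutation group: transitive, some non-identity element fixes a point, and no non-identity element fixes two points) of order n(n − 1) and exactly |G|/n of its elements are derangements (fix no point), or the number of derangements is greater than |G|/n. -/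
theorem result {G Ω : Type*} [Group G] [Finite G] [MulAction G Ω] [FaithfulSMul G Ω] [Fintype Ω] (htr : MulAction.IsPretransitive G Ω) (hn : 3 ≤ Fintype.card Ω) :
    ((MulAction.IsPretransitive G Ω ∧ (∃ g : G, g ≠ 1 ∧ ∃ ω : Ω, g • ω = ω) ∧ ∀ g : G, g ≠ 1 → Nat.card (MulAction.fixedBy Ω g) ≤ 1) ∧ Nat.card G = Fintype.card Ω * (Fintype.card Ω - 1) ∧ Fintype.card Ω * Nat.card {g : G // ∀ ω : Ω, g • ω ≠ ω} = Nat.card G) ∨
    Nat.card G < Fintype.card Ω * Nat.card {g : G // ∀ ω : Ω, g • ω ≠ ω} := by
  classical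
  haveI : Fintype G := Fintype.ofFinite G
  haveI := htr
  obtain ⟨n, hn'⟩ : ∃ n, n = Fintype.card Ω := ⟨_, rfl⟩
  rw [← hn'] at hn ⊢
  obtain ⟨fx, hfx⟩ : ∃ fx : G → ℕ, fx = fun g => Nat.card (MulAction.fixedBy Ω g) := ⟨_, rfl⟩
  have hle : ∀ g, fx g ≤ n := fun g => by
    rw [hfx, hn', ← Nat.card_eq_fintype_card]; exact Finite.card_subtype_le _
  have hzero : ∀ g, fx g = 0 ↔ ∀ ω : Ω, g • ω ≠ ω := fun g => by
    rw [hfx]
    simp only [Nat.card_coe_set_eq, Set.ncard_eq_zero (Set.toFinite _), Set.eq_empty_iff_forall_notMem,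
      MulAction.mem_fixedBy]
  have hone : fx 1 = n := by
    rw [hfx, hn']
    simp only [MulAction.fixedBy_one_eq_univ]
    rw [Nat.card_coe_set_eq, Set.ncard_univ, Nat.card_eq_fintype_card]
  have hsum1 : ∑ g, fx g = Nat.card G := by
    haveI : Fintype (Quotient (MulAction.orbitRel G Ω)) := Fintype.ofFinite _
    have h := MulAction.sum_card_fixedBy_eq_card_orbits_mul_card_group G Ω
    have hq : Fintype.card (Quotient (MulAction.orbitRel G Ω)) = 1 := by
      obtain ⟨a⟩ : Nonempty Ω := Fintype.card_pos_iff.1 (by omega)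
      refine Fintype.card_eq_one_iff.2 ⟨Quotient.mk'' a, fun q => ?_⟩
      induction q using Quotient.inductionOn' with
      | h b => exact Quotient.sound' (MulAction.exists_smul_eq G a b)
    rw [hq, one_mul] at h
    rw [Nat.card_eq_fintype_card, ← h, hfx]
    exact Finset.sum_congr rfl fun g _ => Nat.card_eq_fintype_card
  obtain ⟨r, hr⟩ : ∃ r, r = Nat.card (Quotient (MulAction.orbitRel G (Ω × Ω))) := ⟨_, rfl⟩
  have hsum2 : ∑ g, fx g ^ 2 = r * Nat.card G := by
    haveI : Fintype (Quotient (MulAction.orbitRel G (Ω × Ω))) := Fintype.ofFinite _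
    have h := MulAction.sum_card_fixedBy_eq_card_orbits_mul_card_group G (Ω × Ω)
    rw [hr, Nat.card_eq_fintype_card, Nat.card_eq_fintype_card (α := G), ← h, hfx]
    refine Finset.sum_congr rfl fun g _ => ?_
    rw [← Nat.card_eq_fintype_card, sq, ← Nat.card_prod]
    refine Nat.card_congr ((Equiv.Set.prod _ _).symm.trans (Equiv.subtypeEquivRight fun x => ?_))
    simp [MulAction.mem_fixedBy, Prod.ext_iff]
  obtain ⟨a, b, hab⟩ := Fintype.exists_pair_of_one_lt_card (show 1 < Fintype.card Ω by omega)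
  have hr2 : 2 ≤ r := by
    rw [hr]
    haveI : Nontrivial (Quotient (MulAction.orbitRel G (Ω × Ω))) :=
      ⟨⟨Quotient.mk'' (a, a), Quotient.mk'' (a, b), fun h => by
        obtain ⟨g, hg⟩ := Quotient.exact' h
        exact hab (MulAction.injective g ((congrArg Prod.fst hg).trans (congrArg Prod.snd hg).symm))⟩⟩
    exact Finite.one_lt_card
  obtain ⟨D, hD⟩ : ∃ D, D = (Finset.univ.filter fun g : G => fx g = 0).card := ⟨_, rfl⟩
  have hDc : Nat.card {g : G // ∀ ω : Ω, g • ω ≠ ω} = D := by
    rw [hD, ← Fintype.card_subtype, Nat.card_eq_fintype_card]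
    exact Fintype.card_congr (Equiv.subtypeEquivRight fun g => (hzero g).symm)
  rw [hDc]
  obtain ⟨φ, hφ⟩ : ∃ φ : G → ℤ, φ = fun g => ((fx g : ℤ) - 1) * ((fx g : ℤ) - n) := ⟨_, rfl⟩
  have hall : ∑ g, φ g = ((r : ℤ) - 1) * Nat.card G := by
    have h1 : ∑ g, (fx g : ℤ) = Nat.card G := by exact_mod_cast hsum1
    have h2 : ∑ g, (fx g : ℤ) ^ 2 = r * Nat.card G := by exact_mod_cast hsum2
    have h3 : ∀ g : G, φ g = (fx g : ℤ) ^ 2 - ((n : ℤ) + 1) * fx g + n := fun g => by rw [hφ]; ring
    rw [Finset.sum_congr rfl fun g _ => h3 g, Finset.sum_add_distrib, Finset.sum_sub_distrib, ← Finset.mul_sum, h1,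
      h2, Finset.sum_const, Finset.card_univ, ← Nat.card_eq_fintype_card, nsmul_eq_mul]
    ring
  have hsplit := Finset.sum_filter_add_sum_filter_not Finset.univ (fun g : G => fx g = 0) φ
  rw [hall] at hsplit
  have hd : ∑ g ∈ Finset.univ.filter (fun g : G => fx g = 0), φ g = (D : ℤ) * n := by
    rw [Finset.sum_congr rfl (g := fun _ => (n : ℤ)) fun g hg => by
      rw [hφ]; simp only [(Finset.mem_filter.1 hg).2]; push_cast; ring, Finset.sum_const, hD, nsmul_eq_mul]
  have hneg : ∀ g ∈ Finset.univ.filter (fun g : G => ¬ fx g = 0), φ g ≤ 0 := by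
    intro g hg
    have h1 : (1 : ℤ) ≤ fx g := by exact_mod_cast Nat.one_le_iff_ne_zero.2 (Finset.mem_filter.1 hg).2
    have h2 : (fx g : ℤ) ≤ n := by exact_mod_cast hle g
    rw [hφ]
    exact mul_nonpos_of_nonneg_of_nonpos (by omega) (by omega)
  have hS := Finset.sum_nonpos hneg
  rcases lt_or_ge (Nat.card G) (n * D) with hlt | hge
  · exact Or.inr hlt
  left
  have hG : (0 : ℤ) < Nat.card G := by exact_mod_cast (Nat.card_pos : 0 < Nat.card G)
  have hge' : (n : ℤ) * D ≤ Nat.card G := by exact_mod_cast hge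
  have hr2' : r = 2 := by
    by_contra hne
    have : (3 : ℤ) ≤ r := by exact_mod_cast (show 3 ≤ r by omega)
    nlinarith [hsplit, hd, hS]
  rw [hr2', hd] at hsplit
  have hS0 : ∑ g ∈ Finset.univ.filter (fun g : G => ¬ fx g = 0), φ g = 0 := by push_cast at hsplit; nlinarith
  have hterm := (Finset.sum_eq_zero_iff_of_nonpos hneg).1 hS0
  have hnD : n * D = Nat.card G := by
    have : (n : ℤ) * D = Nat.card G := by rw [hS0] at hsplit; push_cast at hsplit; linarith
    exact_mod_cast this
  have hfix : ∀ g : G, g ≠ 1 → fx g ≤ 1 := by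
    intro g hg
    by_contra hgt
    have h1 := hterm g (Finset.mem_filter.2 ⟨Finset.mem_univ _, by omega⟩)
    rw [hφ] at h1
    rcases mul_eq_zero.1 h1 with h | h
    · omega
    · have huniv : MulAction.fixedBy Ω g = Set.univ := by
        refine Set.eq_of_subset_of_ncard_le (Set.subset_univ _) ?_
        rw [Set.ncard_univ, Nat.card_eq_fintype_card, ← hn', ← Nat.card_coe_set_eq]
        have : fx g = n := by omega
        rw [hfx] at this
        exact this.ge
      exact hg (eq_of_smul_eq_smul (α := Ω) fun ω => by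
        rw [one_smul]; exact (Set.eq_univ_iff_forall.1 huniv ω))
  -- the pairs of distinct points form one orbit
  have htwo : ∀ x y : Ω, x ≠ y → ∃ g : G, g • a = x ∧ g • b = y := by
    intro x y hxy
    by_contra hcon
    haveI : Finite (Quotient (MulAction.orbitRel G (Ω × Ω))) := inferInstance
    have hinj : Function.Injective
        (![Quotient.mk'' (a, a), Quotient.mk'' (a, b), Quotient.mk'' (x, y)] :
          Fin 3 → Quotient (MulAction.orbitRel G (Ω × Ω))) := by
      have h01 : (Quotient.mk'' (a, a) : Quotient (MulAction.orbitRel G (Ω × Ω))) ≠ Quotient.mk'' (a, b) := fun h => by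
        obtain ⟨g, hg⟩ := Quotient.exact' h
        exact hab (MulAction.injective g ((congrArg Prod.fst hg).trans (congrArg Prod.snd hg).symm))
      have h02 : (Quotient.mk'' (a, a) : Quotient (MulAction.orbitRel G (Ω × Ω))) ≠ Quotient.mk'' (x, y) := fun h => by
        obtain ⟨g, hg⟩ := Quotient.exact' h
        exact hxy (MulAction.injective g ((congrArg Prod.fst hg).trans (congrArg Prod.snd hg).symm))
      have h12 : (Quotient.mk'' (x, y) : Quotient (MulAction.orbitRel G (Ω × Ω))) ≠ Quotient.mk'' (a, b) := fun h => by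
        obtain ⟨g, hg⟩ := Quotient.exact' h
        exact hcon ⟨g, congrArg Prod.fst hg, congrArg Prod.snd hg⟩
      intro i j hij
      fin_cases i <;> fin_cases j <;> simp at hij <;>
        first | rfl | exact absurd hij h01 | exact absurd hij.symm h01 | exact absurd hij h02 |
          exact absurd hij.symm h02 | exact absurd hij h12 | exact absurd hij.symm h12
    have := Nat.card_le_card_of_injective _ hinj
    rw [Nat.card_fin, ← hr, hr2'] at this
    omega
  obtain ⟨c, hc⟩ := Fintype.exists_ne_of_one_lt_card (show 1 < Fintype.card {z : Ω // z ≠ a} by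
    rw [Fintype.card_subtype_compl, Fintype.card_subtype_eq, ← hn']; omega) ⟨b, hab.symm⟩
  have hex : ∃ g : G, g ≠ 1 ∧ ∃ ω : Ω, g • ω = ω := by
    obtain ⟨g, h1, h2⟩ := htwo a c c.2.symm
    exact ⟨g, fun h => hc (Subtype.ext (by rw [← h2, h, one_smul])), a, h1⟩
  refine ⟨⟨htr, hex, fun g hg => by simpa [hfx] using hfix g hg⟩, ?_, hnD⟩
  have hbij : Function.Bijective
      (fun g : G => (⟨(g • a, g • b), fun h => hab (MulAction.injective g h)⟩ : {q : Ω × Ω // q.1 ≠ q.2})) := by
    refine ⟨fun g g' he => ?_, fun ⟨⟨x, y⟩, hxy⟩ => ?_⟩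
    · simp only [Subtype.mk.injEq, Prod.mk.injEq] at he
      by_contra hne
      have h1 := hfix (g'⁻¹ * g) (by rwa [Ne, inv_mul_eq_one, eq_comm])
      rw [hfx] at h1
      have h2 : ({a, b} : Set Ω) ⊆ MulAction.fixedBy Ω (g'⁻¹ * g) := by
        rintro z (rfl | rfl) <;> rw [MulAction.mem_fixedBy, mul_smul, inv_smul_eq_iff]
        · exact he.1
        · exact he.2
      have h3 := Set.ncard_le_ncard h2 (Set.toFinite _)
      rw [Set.ncard_pair hab, ← Nat.card_coe_set_eq] at h3
      simp only at h1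
      omega
    · obtain ⟨g, h1, h2⟩ := htwo x y hxy
      exact ⟨g, Subtype.ext (Prod.ext h1 h2)⟩
  rw [Nat.card_congr (Equiv.ofBijective _ hbij), Nat.card_eq_fintype_card, Fintype.card_subtype_compl,
    Fintype.card_prod, ← hn']
  have hdiag : Fintype.card {q : Ω × Ω // q.1 = q.2} = n := by
    rw [hn']
    exact Fintype.card_congr ⟨fun q => q.1.1, fun z => ⟨(z, z), rfl⟩, fun q => Subtype.ext (Prod.ext rfl q.2),
      fun z => rfl⟩
  rw [hdiag, Nat.mul_sub, mul_one]

end Cfsg.Agent.S5729
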