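import Cfsg.Statements.S5730
-- import your own Cfsg.Agent.* helpers here
import Mathlib
import Cfsg.Agent.Lib.Perm.Trans.DerangementTwoSum

set_option autoImplicit false
set_option linter.all false
open Cfsg

namespace Cfsg.Agent.S5730

/-- Let a finite group G act faithfully and transitively on a set with n ≥ 7 points. Then either G is a Frobenius permutation group (Frobenius as a permutation group: transitive, some non-identity element fixes a point, and no non-identity element fixes two points) of order n(n − 1)/a with a ∈ {1, 2}, in which case exactly a|G|/n of its elements are derangements, or the number of derangements is at least 2|G|/n. (Equality does occur: PSL₃(2) acting on the 7 points of the Fano plane has exactly 2|G|/7 derangements.) -/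
theorem result {G Ω : Type*} [Group G] [Finite G] [MulAction G Ω] [FaithfulSMul G Ω] [Fintype Ω] (htr : MulAction.IsPretransitive G Ω) (hn : 7 ≤ Fintype.card Ω) :
    (∃ a : ℕ, (a = 1 ∨ a = 2) ∧ (MulAction.IsPretransitive G Ω ∧ (∃ g : G, g ≠ 1 ∧ ∃ ω : Ω, g • ω = ω) ∧ ∀ g : G, g ≠ 1 → Nat.card (MulAction.fixedBy Ω g) ≤ 1) ∧ a * Nat.card G = Fintype.card Ω * (Fintype.card Ω - 1) ∧ Fintype.card Ω * Nat.card {g : G // ∀ ω : Ω, g • ω ≠ ω} = a * Nat.card G) ∨
    2 * Nat.card G ≤ Fintype.card Ω * Nat.card {g : G // ∀ ω : Ω, g • ω ≠ ω} := by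
  classical
  haveI : Fintype G := Fintype.ofFinite G
  haveI := htr
  obtain ⟨n, hn'⟩ : ∃ n, n = Fintype.card Ω := ⟨_, rfl⟩
  rw [← hn'] at hn ⊢
  obtain ⟨fx, hfx⟩ : ∃ fx : G → ℕ, fx = fun g => Nat.card (MulAction.fixedBy Ω g) := ⟨_, rfl⟩
  have hle : ∀ g, fx g ≤ n := fun g => by
    rw [hfx, hn', ← Nat.card_eq_fintype_card]; exact Finite.card_subtype_le _
  have hzero : ∀ g, fx g = 0 ↔ ∀ ω : Ω, g • ω ≠ ω := fun g => by
    rw [hfx]
    simp only [Nat.card_coe_set_eq, Set.ncard_eq_zero (Set.toFinite _), Set.eq_empty_iff_forall_notMem,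
      MulAction.mem_fixedBy]
  have hone : fx 1 = n := by
    rw [hfx, hn']
    simp only [MulAction.fixedBy_one_eq_univ]
    rw [Nat.card_coe_set_eq, Set.ncard_univ, Nat.card_eq_fintype_card]
  have hsum1 : ∑ g, fx g = Nat.card G := by
    haveI : Fintype (Quotient (MulAction.orbitRel G Ω)) := Fintype.ofFinite _
    have h := MulAction.sum_card_fixedBy_eq_card_orbits_mul_card_group G Ω
    have hq : Fintype.card (Quotient (MulAction.orbitRel G Ω)) = 1 := by
      obtain ⟨a⟩ : Nonempty Ω := Fintype.card_pos_iff.1 (by omega)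
      refine Fintype.card_eq_one_iff.2 ⟨Quotient.mk'' a, fun q => ?_⟩
      induction q using Quotient.inductionOn' with
      | h b => exact Quotient.sound' (MulAction.exists_smul_eq G a b)
    rw [hq, one_mul] at h
    rw [Nat.card_eq_fintype_card, ← h, hfx]
    exact Finset.sum_congr rfl fun g _ => Nat.card_eq_fintype_card
  obtain ⟨r, hr⟩ : ∃ r, r = Nat.card (Quotient (MulAction.orbitRel G (Ω × Ω))) := ⟨_, rfl⟩
  have hsum2 : ∑ g, fx g ^ 2 = r * Nat.card G := by
    haveI : Fintype (Quotient (MulAction.orbitRel G (Ω × Ω))) := Fintype.ofFinite _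
    have h := MulAction.sum_card_fixedBy_eq_card_orbits_mul_card_group G (Ω × Ω)
    rw [hr, Nat.card_eq_fintype_card, Nat.card_eq_fintype_card (α := G), ← h, hfx]
    refine Finset.sum_congr rfl fun g _ => ?_
    rw [← Nat.card_eq_fintype_card, sq, ← Nat.card_prod]
    refine Nat.card_congr ((Equiv.Set.prod _ _).symm.trans (Equiv.subtypeEquivRight fun x => ?_))
    simp [MulAction.mem_fixedBy, Prod.ext_iff]
  obtain ⟨a, b, hab⟩ := Fintype.exists_pair_of_one_lt_card (show 1 < Fintype.card Ω by omega)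
  have hr2 : 2 ≤ r := by
    rw [hr]
    haveI : Nontrivial (Quotient (MulAction.orbitRel G (Ω × Ω))) :=
      ⟨⟨Quotient.mk'' (a, a), Quotient.mk'' (a, b), fun h => by
        obtain ⟨g, hg⟩ := Quotient.exact' h
        exact hab (MulAction.injective g ((congrArg Prod.fst hg).trans (congrArg Prod.snd hg).symm))⟩⟩
    exact Finite.one_lt_card
  obtain ⟨D, hD⟩ : ∃ D, D = (Finset.univ.filter fun g : G => fx g = 0).card := ⟨_, rfl⟩
  have hDc : Nat.card {g : G // ∀ ω : Ω, g • ω ≠ ω} = D := by
    rw [hD, ← Fintype.card_subtype, Nat.card_eq_fintype_card]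
    exact Fintype.card_congr (Equiv.subtypeEquivRight fun g => (hzero g).symm)
  rw [hDc]
  obtain ⟨φ, hφ⟩ : ∃ φ : G → ℤ, φ = fun g => ((fx g : ℤ) - 1) * ((fx g : ℤ) - n) := ⟨_, rfl⟩
  have hall : ∑ g, φ g = ((r : ℤ) - 1) * Nat.card G := by
    have h1 : ∑ g, (fx g : ℤ) = Nat.card G := by exact_mod_cast hsum1
    have h2 : ∑ g, (fx g : ℤ) ^ 2 = r * Nat.card G := by exact_mod_cast hsum2
    have h3 : ∀ g : G, φ g = (fx g : ℤ) ^ 2 - ((n : ℤ) + 1) * fx g + n := fun g => by rw [hφ]; ring
    rw [Finset.sum_congr rfl fun g _ => h3 g, Finset.sum_add_distrib, Finset.sum_sub_distrib, ← Finset.mul_sum, h1,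
      h2, Finset.sum_const, Finset.card_univ, ← Nat.card_eq_fintype_card, nsmul_eq_mul]
    ring
  have hsplit := Finset.sum_filter_add_sum_filter_not Finset.univ (fun g : G => fx g = 0) φ
  rw [hall] at hsplit
  have hd : ∑ g ∈ Finset.univ.filter (fun g : G => fx g = 0), φ g = (D : ℤ) * n := by
    rw [Finset.sum_congr rfl (g := fun _ => (n : ℤ)) fun g hg => by
      rw [hφ]; simp only [(Finset.mem_filter.1 hg).2]; push_cast; ring, Finset.sum_const, hD, nsmul_eq_mul]
  have hneg : ∀ g ∈ Finset.univ.filter (fun g : G => ¬ fx g = 0), φ g ≤ 0 := by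
    intro g hg
    have h1 : (1 : ℤ) ≤ fx g := by exact_mod_cast Nat.one_le_iff_ne_zero.2 (Finset.mem_filter.1 hg).2
    have h2 : (fx g : ℤ) ≤ n := by exact_mod_cast hle g
    rw [hφ]
    exact mul_nonpos_of_nonneg_of_nonpos (by omega) (by omega)
  have hS := Finset.sum_nonpos hneg
  rcases Nat.lt_or_ge 2 r with hr3 | hr2'
  · right
    have h3 : (3 : ℤ) ≤ r := by exact_mod_cast hr3
    have h4 : (2 : ℤ) * Nat.card G ≤ (n : ℤ) * D := by
      have hG : (0 : ℤ) ≤ Nat.card G := Nat.cast_nonneg _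
      nlinarith [hsplit, hd, hS]
    exact_mod_cast h4
  have hre : r = 2 := le_antisymm hr2' hr2
  have h2 : CfsgLib.Perm.DerTwo.Two G Ω := by
    intro p p' x y hpp hxy
    by_contra hcon
    have hinj : Function.Injective
        (![Quotient.mk'' (a, a), Quotient.mk'' (p, p'), Quotient.mk'' (x, y)] :
          Fin 3 → Quotient (MulAction.orbitRel G (Ω × Ω))) := by
      have hne : ∀ u v : Ω, u ≠ v →
          (Quotient.mk'' (a, a) : Quotient (MulAction.orbitRel G (Ω × Ω))) ≠ Quotient.mk'' (u, v) := fun u v huv h => by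
        obtain ⟨g, hg⟩ := Quotient.exact' h
        exact huv (MulAction.injective g ((congrArg Prod.fst hg).trans (congrArg Prod.snd hg).symm))
      have h12 : (Quotient.mk'' (x, y) : Quotient (MulAction.orbitRel G (Ω × Ω))) ≠ Quotient.mk'' (p, p') := fun h => by
        obtain ⟨g, hg⟩ := Quotient.exact' h
        exact hcon ⟨g, congrArg Prod.fst hg, congrArg Prod.snd hg⟩
      intro i j hij
      have h01 := hne p p' hpp
      have h02 := hne x y hxy
      fin_cases i <;> fin_cases j <;> simp at hij <;>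
        first | rfl | exact absurd hij h01 | exact absurd hij.symm h01 | exact absurd hij h02 |
          exact absurd hij.symm h02 | exact absurd hij h12 | exact absurd hij.symm h12
    have := Nat.card_le_card_of_injective _ hinj
    rw [Nat.card_fin, ← hr, hre] at this
    omega
  -- the order
  set N := Nat.card (CfsgLib.Perm.DerTwo.pst G a b) with hN
  have horder : Nat.card G = n * (n - 1) * N := by
    have e : CfsgLib.Perm.DerTwo.pst G a b = MulAction.stabilizer G (a, b) := by
      ext g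
      simp [CfsgLib.Perm.DerTwo.mem_pst, MulAction.mem_stabilizer_iff, Prod.ext_iff]
    rw [← Subgroup.card_mul_index (MulAction.stabilizer G (a, b)), ← e, ← hN, e, MulAction.index_stabilizer,
      mul_comm N]
    congr 1
    have horb : MulAction.orbit G (a, b) = ((Finset.univ.offDiag : Finset (Ω × Ω)) : Set (Ω × Ω)) := by
      ext ⟨x, y⟩
      simp only [Finset.coe_offDiag, Finset.coe_univ, Set.mem_offDiag, Set.mem_univ, true_and]
      refine ⟨?_, fun hxy => ?_⟩
      · rintro ⟨g, hg⟩ rfl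
        exact hab (MulAction.injective g ((congrArg Prod.fst hg).trans (congrArg Prod.snd hg).symm))
      · obtain ⟨g, h1, h3⟩ := h2 a b x y hab hxy
        exact ⟨g, Prod.ext h1 h3⟩
    rw [horb, Set.ncard_coe_finset, Finset.offDiag_card, Finset.card_univ, ← hn', Nat.mul_sub, mul_one]
  have hfix : ∀ g, fx g = (MulAction.fixedBy Ω g).ncard := fun g => by rw [hfx]; exact Nat.card_coe_set_eq _
  set E : G → ℚ := fun g => ((n : ℚ) - fx g) / fx g with hE
  let P : Finset (Ω × Ω) := Finset.univ.offDiag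
  let Bs : Ω × Ω → Finset G := fun q => (Finset.univ.filter (· ∈ CfsgLib.Perm.DerTwo.pst G q.1 q.2)).erase 1
  have hsame : ∀ q ∈ P, ∑ g ∈ Bs q, E g = ∑ g ∈ Bs (a, b), E g := by
    intro q hq
    obtain ⟨t, ht1, ht2⟩ := h2 a b q.1 q.2 hab (Finset.mem_offDiag.1 hq).2.2
    symm
    refine Finset.sum_bij' (fun g _ => t * g * t⁻¹) (fun g _ => t⁻¹ * g * t) (fun g hg => ?_) (fun g hg => ?_)
      (fun g _ => by group) (fun g _ => by group) (fun g _ => ?_)
    · simp only [Bs, Finset.mem_erase, Finset.mem_filter, Finset.mem_univ, true_and] at hg ⊢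
      exact ⟨fun e => hg.1 (by simpa using e), by rw [← ht1, ← ht2]; exact CfsgLib.Perm.DerTwo.pst_transport.2 hg.2⟩
    · simp only [Bs, Finset.mem_erase, Finset.mem_filter, Finset.mem_univ, true_and] at hg ⊢
      refine ⟨fun e => hg.1 ?_, ?_⟩
      · calc g = t * (t⁻¹ * g * t) * t⁻¹ := by group
          _ = 1 := by rw [e]; group
      · rw [← CfsgLib.Perm.DerTwo.pst_transport (g := t), show t * (t⁻¹ * g * t) * t⁻¹ = g by group, ht1, ht2]
        exact hg.2
    · have e : fx (t * g * t⁻¹) = fx g := by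
        rw [hfix, hfix, show MulAction.fixedBy Ω (t * g * t⁻¹) = (fun z => t • z) '' MulAction.fixedBy Ω g by
          ext z
          constructor
          · intro hz
            rw [MulAction.mem_fixedBy, mul_smul, mul_smul, smul_eq_iff_eq_inv_smul] at hz
            exact ⟨t⁻¹ • z, hz, smul_inv_smul t z⟩
          · rintro ⟨z, hz, rfl⟩
            rw [MulAction.mem_fixedBy] at hz ⊢
            rw [mul_smul, mul_smul, inv_smul_smul, hz]]
        exact Set.ncard_image_of_injective _ (MulAction.injective t)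
      rw [hE]
      simp only [e]
  have hcount : ∑ q ∈ P, ∑ g ∈ Bs q, E g = -(∑ g ∈ Finset.univ.filter (fun g : G => ¬ fx g = 0), (φ g : ℚ)) := by
    have e1 : ∀ q, ∑ g ∈ Bs q, E g =
        ∑ g ∈ (Finset.univ.erase (1 : G)), if g ∈ CfsgLib.Perm.DerTwo.pst G q.1 q.2 then E g else 0 := fun q => by
      rw [← Finset.sum_filter, Finset.filter_erase]
    rw [Finset.sum_congr rfl fun q _ => e1 q, Finset.sum_comm, ← Finset.sum_neg_distrib, Finset.sum_filter]
    rw [← Finset.sum_erase_add (a := (1 : G)) Finset.univ (fun g => if ¬ fx g = 0 then -(φ g : ℚ) else 0)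
      (Finset.mem_univ _)]
    have h1 : (if ¬ fx 1 = 0 then -(φ 1 : ℚ) else 0) = 0 := by
      rw [hφ]; simp [hone]
    rw [h1, add_zero]
    refine Finset.sum_congr rfl fun g _ => ?_
    rw [← Finset.sum_filter, Finset.sum_const, nsmul_eq_mul]
    have e2 : P.filter (fun q => g ∈ CfsgLib.Perm.DerTwo.pst G q.1 q.2) = (MulAction.fixedBy Ω g).toFinset.offDiag := by
      ext ⟨x, y⟩
      simp [P, Finset.mem_offDiag, CfsgLib.Perm.DerTwo.mem_pst, MulAction.mem_fixedBy]
      tauto
    rw [e2, Finset.offDiag_card, ← Set.ncard_eq_toFinset_card', ← hfix g]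
    by_cases h0 : fx g = 0
    · simp [h0]
    rw [if_pos h0, hφ, Nat.cast_sub (Nat.le_mul_self _), hE]
    have hf0 : (fx g : ℚ) ≠ 0 := by exact_mod_cast h0
    push_cast
    field_simp
    ring
  have hnD : (n : ℚ) * D = Nat.card G + ∑ q ∈ P, ∑ g ∈ Bs q, E g := by
    rw [hcount]
    have h1 : (D : ℤ) * n + ∑ g ∈ Finset.univ.filter (fun g : G => ¬ fx g = 0), φ g = Nat.card G := by
      rw [← hd, hsplit, hre]
      norm_num
    have h3 := congrArg (fun z : ℤ => (z : ℚ)) h1
    push_cast at h3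
    linarith
  have hPcard : (P.card : ℚ) * N = Nat.card G := by
    rw [show P.card = n * (n - 1) by simp [P, Finset.offDiag_card, ← hn', Nat.mul_sub]]
    exact_mod_cast horder.symm
  rcases Nat.lt_or_ge N 2 with hN1 | hN2
  · left
    have hbot : CfsgLib.Perm.DerTwo.pst G a b = ⊥ := Subgroup.eq_bot_of_card_le _ (by omega)
    have hN1' : N = 1 := by rw [hN, hbot, Subgroup.card_bot]
    have hzero' : ∀ q ∈ P, ∑ g ∈ Bs q, E g = 0 := fun q hq => by
      rw [hsame q hq]
      refine Finset.sum_eq_zero fun g hg => ?_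
      simp only [Bs, Finset.mem_erase, Finset.mem_filter, Finset.mem_univ, true_and] at hg
      rw [hbot, Subgroup.mem_bot] at hg
      exact absurd hg.2 hg.1
    rw [Finset.sum_eq_zero hzero', add_zero] at hnD
    refine ⟨1, Or.inl rfl, ⟨htr, ?_, fun g hg => ?_⟩, by rw [one_mul, horder, hN1', mul_one],
      by rw [one_mul]; exact_mod_cast hnD⟩
    · obtain ⟨c, hca, hcb⟩ : ∃ c : Ω, c ≠ a ∧ c ≠ b := by
        by_contra hcon
        push Not at hcon
        have h1 : Fintype.card Ω ≤ ({a, b} : Finset Ω).card := Finset.card_le_card fun z _ => by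
          by_cases hz : z = a
          · simp [hz]
          · simp [hcon z hz]
        have := Finset.card_le_two (a := a) (b := b)
        omega
      obtain ⟨g, h1, h3⟩ := h2 a b a c hab (Ne.symm hca)
      exact ⟨g, fun e => hcb (by rw [← h3, e, one_smul]), a, h1⟩
    · rw [Nat.card_coe_set_eq]
      by_contra hgt
      obtain ⟨x, hx, y, hy, hxy⟩ := (Set.one_lt_ncard (Set.toFinite _)).1 (not_le.1 hgt)
      have hc := CfsgLib.Perm.DerTwo.card_pst h2 hab hxy
      rw [← hN, hN1'] at hc
      have hb' := Subgroup.eq_bot_of_card_eq _ hc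
      exact hg (Subgroup.mem_bot.1 (hb' ▸ (⟨hx, hy⟩ : g ∈ CfsgLib.Perm.DerTwo.pst G x y)))
  · right
    have h7 : 7 ≤ Nat.card Ω := by rw [Nat.card_eq_fintype_card, ← hn']; exact hn
    have hbase := CfsgLib.Perm.DerTwo.two_point_sum h2 hab h7 hN2
    have hbase' : (N : ℚ) ≤ ∑ g ∈ Bs (a, b), E g := by
      refine hbase.trans (le_of_eq ?_)
      refine Finset.sum_congr (by ext g; simp [Bs]) fun g _ => ?_
      rw [hE]
      simp only [hfix, Nat.card_eq_fintype_card (α := Ω), ← hn']
    rw [Finset.sum_congr rfl hsame, Finset.sum_const, nsmul_eq_mul] at hnD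
    have h4 : ((2 * Nat.card G : ℕ) : ℚ) ≤ ((n * D : ℕ) : ℚ) := by
      push_cast
      rw [hnD, ← hPcard]
      have : (P.card : ℚ) * N ≤ P.card * ∑ g ∈ Bs (a, b), E g := mul_le_mul_of_nonneg_left hbase' (Nat.cast_nonneg _)
      linarith
    exact_mod_cast h4

end Cfsg.Agent.S5730
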