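import Cfsg.Statements.S5732
import Cfsg.Agent.Lib.Perm.DerangeIndex.Frobenius
import Cfsg.Agent.Lib.Char.DerangementIndex

set_option autoImplicit false
open Cfsg
open scoped Pointwise

namespace Cfsg.Agent.S5732

/-- There is a bound N such that for every finite group G acting faithfully and transitively on a set with n ≥ N points, either G is primitive and a Frobenius permutation group (Frobenius as a permutation group: transitive, some non-identity element fixes a point, and no non-identity element fixes two points), or the subgroup generated by the derangements of G has index at most √n − 1 in G. -/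
theorem result : ∃ N : ℕ, ∀ (G Ω : Type*) [Group G] [Finite G] [MulAction G Ω] [FaithfulSMul G Ω] [Fintype Ω],
      MulAction.IsPretransitive G Ω → N ≤ Fintype.card Ω →
      (MulAction.IsPreprimitive G Ω ∧ (MulAction.IsPretransitive G Ω ∧ (∃ g : G, g ≠ 1 ∧ ∃ ω : Ω, g • ω = ω) ∧ ∀ g : G, g ≠ 1 → Nat.card (MulAction.fixedBy Ω g) ≤ 1)) ∨
      ((Subgroup.closure {g : G | ∀ ω : Ω, g • ω ≠ ω}).index : ℝ) ≤ Real.sqrt (Fintype.card Ω) - 1 := by
  refine ⟨2 ^ 4096, fun G Ω _ _ _ _ _ htr hN => ?_⟩
  classical
  set n := Fintype.card Ω with hndef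
  set D := CfsgLib.Char.derangementSubgroup G Ω with hD
  set k := D.index with hkdef
  by_cases hsmall : (k + 1) ^ 2 ≤ n
  · right
    show (k : ℝ) ≤ Real.sqrt n - 1
    have h1 : ((k : ℝ) + 1) ≤ Real.sqrt n := by
      rw [Real.le_sqrt (by positivity) (by positivity)]
      exact_mod_cast hsmall
    linarith
  · left
    have hnc : Nat.card Ω = n := Nat.card_eq_fintype_card
    have h4 : 4 ≤ n := le_trans (le_trans (show 4 ≤ 2 ^ 2 by norm_num)
      (Nat.pow_le_pow_right two_pos (by norm_num))) hN
    haveI := htr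
    haveI : Nonempty Ω := Fintype.card_pos_iff.1 (show 0 < Fintype.card Ω by omega)
    obtain ⟨a⟩ := ‹Nonempty Ω›
    have hpair : CfsgLib.DerangeIndex.Pair G Ω D :=
      { normal := CfsgLib.Char.DerangementIndex.derangementSubgroup_normal
        trans := fun b c => by
          obtain ⟨⟨d, hd⟩, he⟩ :=
            (CfsgLib.Char.derangementSubgroup_transitive htr).1.exists_smul_eq b c
          exact ⟨d, hd, he⟩
        uniq := fun g hg b c hb hc => by
          by_contra hne
          exact hg (CfsgLib.Char.DerangementIndex.mem_of_fix_two htr hne hb hc) }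
    have hbig : Nat.card Ω < (D.index + 1) ^ 2 := by rw [hnc]; exact not_le.1 hsmall
    obtain ⟨p, e, hp, he, hpe, hord⟩ := hpair.hard a (by omega) hbig
    have hred : CfsgLib.DerangeIndex.Red G Ω D a p e :=
      ⟨hpair, fun g hg => eq_of_smul_eq_smul fun b : Ω => (hg b).trans (one_smul G b).symm,
        hp, he, hpe, hord⟩
    obtain ⟨P, hPn, hPt, hPs, hfpf, hirr, hk2⟩ := hred.frobenius hbig
      (by rw [hnc]; exact le_trans (Nat.pow_le_pow_right two_pos (show 3 ≤ 4096 by norm_num)) hN)
    refine ⟨?_, htr, ?_, ?_⟩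
    · refine MulAction.IsPreprimitive.of_isTrivialBlock_base a fun {B} ha hB => ?_
      let W : Subgroup G := P ⊓ MulAction.stabilizer G B
      have hWn : ∀ g ∈ MulAction.stabilizer G a, ∀ w ∈ W, g * w * g⁻¹ ∈ W := by
        intro g hg w hw
        have hgB : g ∈ MulAction.stabilizer G B := hB.stabilizer_le ha hg
        exact Subgroup.mem_inf.2 ⟨hPn.conj_mem w (Subgroup.mem_inf.1 hw).1 g,
          mul_mem (mul_mem hgB (Subgroup.mem_inf.1 hw).2) (inv_mem hgB)⟩
      rcases hirr W inf_le_left hWn with h | h
      · left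
        intro b hb c hc
        have key : ∀ x ∈ B, x = a := by
          intro x hx
          obtain ⟨u, hu, rfl⟩ := hPt a x
          have hm : u ∈ W := Subgroup.mem_inf.2 ⟨hu, hB.smul_eq_of_mem ha hx⟩
          rw [h, Subgroup.mem_bot] at hm
          rw [hm, one_smul]
        rw [key b hb, key c hc]
      · right
        refine Set.eq_univ_of_forall fun x => ?_
        obtain ⟨u, hu, rfl⟩ := hPt a x
        have hm : u ∈ MulAction.stabilizer G B := (Subgroup.mem_inf.1 (h.ge hu)).2
        have h1 : u • a ∈ u • B := Set.smul_mem_smul_set ha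
        rwa [MulAction.mem_stabilizer_iff.1 hm] at h1
    · have hne : ¬ MulAction.stabilizer G a ≤ D := fun hle => by
        have htop : D = ⊤ := eq_top_iff.2 fun g _ => by
          obtain ⟨g', hg', hgD⟩ := hpair.covers_stabilizer a g
          rw [show g = g' * (g'⁻¹ * g) by group]
          exact mul_mem (hle hg') hgD
        rw [htop, Subgroup.index_top] at hk2
        omega
      obtain ⟨g, hg, hgD⟩ := SetLike.not_le_iff_exists.1 hne
      exact ⟨g, fun e' => hgD (e' ▸ one_mem D), a, hg⟩
    · intro g hg1
      refine Finite.card_le_one_iff_subsingleton.2 ⟨fun ⟨b, hb⟩ ⟨c, hc⟩ => Subtype.ext ?_⟩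
      have hbg : g • b = b := hb
      have hcg : g • c = c := hc
      obtain ⟨t, ht, rfl⟩ := hPt a b
      obtain ⟨v, hv, hvc⟩ := hPt a (t⁻¹ • c)
      set g' := t⁻¹ * g * t with hg'
      have hga : g' • a = a := by rw [hg', mul_smul, mul_smul, hbg, inv_smul_smul]
      have hgv : g' • (v • a) = v • a := by rw [hvc, hg', mul_smul, mul_smul, smul_inv_smul, hcg]
      have hg'1 : g' ≠ 1 := fun e' => hg1 (by
        calc g = t * (t⁻¹ * g * t) * t⁻¹ := by group
          _ = 1 := by rw [← hg', e']; group)
      have hcomm : g' * v = v * g' := by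
        have h1 : v⁻¹ * (g' * v * g'⁻¹) = 1 :=
          hPs _ (mul_mem (inv_mem hv) (hPn.conj_mem v hv g')) a (by
            rw [mul_smul, mul_smul, mul_smul, inv_smul_eq_iff.2 hga.symm, hgv, inv_smul_smul])
        exact mul_inv_eq_iff_eq_mul.1 (inv_mul_eq_one.1 h1).symm
      have hv1 := hfpf g' hga hg'1 v hv hcomm
      rw [hv1, one_smul] at hvc
      show t • a = c
      rw [hvc, smul_inv_smul]

end Cfsg.Agent.S5732
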