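import Cfsg.Statements.S5737
import Cfsg.Agent.Lib.Lie.Suz.Binary.Main
import Cfsg.Agent.Lib.Lie.Suz.Twisted
-- import your own Cfsg.Agent.* helpers here

set_option autoImplicit false
open Cfsg CfsgLib.Lie

namespace Cfsg.Agent.S5737

/-- Let G = Sz(q) be a Suzuki group, q = 2^(2a+1) with a ≥ 1 (realised inside Sp₄ over the field with q elements), and let H be a proper subgroup of G. Then the action of G on the cosets of H is binary if and only if H is trivial or H is the centre of a Sylow 2-subgroup of G. Here an action is binary (relational complexity 2) when, for every n ≥ 2 and all n-tuples I, J of points, if for every pair of positions some group element carries the corresponding pair of entries of I to those of J, then a single group element carries I to J. -/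
theorem result {F : Type*} [Field F] [Fintype F] (a : ℕ) (ha : 1 ≤ a) (hF : Fintype.card F = 2 ^ (2 * a + 1))
    (H : Subgroup (Cfsg.Lie.Sz F (2 ^ (a + 1)))) (hH : H ≠ ⊤) :
    (∀ (n : ℕ) (I J : Fin n → (Cfsg.Lie.Sz F (2 ^ (a + 1))) ⧸ H), 2 ≤ n →
        (∀ i j : Fin n, i ≠ j → ∃ g : (Cfsg.Lie.Sz F (2 ^ (a + 1))), g • I i = J i ∧ g • I j = J j) → ∃ g : (Cfsg.Lie.Sz F (2 ^ (a + 1))), ∀ i, g • I i = J i) ↔
      (H = ⊥ ∨ ∃ P : Sylow 2 (Cfsg.Lie.Sz F (2 ^ (a + 1))), H = (Subgroup.center (P : Subgroup (Cfsg.Lie.Sz F (2 ^ (a + 1))))).map (P : Subgroup (Cfsg.Lie.Sz F (2 ^ (a + 1)))).subtype) := by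
  obtain ⟨e⟩ := Suz.exists_twEquiv (m := a) ha hF
  haveI : Fact (Nat.Prime 2) := ⟨Nat.prime_two⟩
  have back : ∀ K : Subgroup (Cfsg.Lie.Sz F (2 ^ (a + 1))), (K.map e.symm.toMonoidHom).map e.toMonoidHom = K := fun K => by
    ext g
    rw [Subgroup.mem_map_equiv, Subgroup.mem_map_equiv]
    simp
  have back' : ∀ K : Subgroup (Cfsg.Sz F a), (K.map e.toMonoidHom).map e.symm.toMonoidHom = K := fun K => by
    ext g
    rw [Subgroup.mem_map_equiv, Subgroup.mem_map_equiv]
    simp
  set H' := H.map e.symm.toMonoidHom with hH'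
  have hH1 : H' ≠ ⊤ := fun h => hH (by
    rw [← back H, ← hH', h]
    exact Subgroup.map_top_of_surjective _ e.surjective)
  have hb : Suz.Binary.IsBin H ↔ Suz.Binary.IsBin H' := by
    refine ⟨fun h => h.map_equiv e.symm, fun h => ?_⟩
    have := h.map_equiv e
    rwa [hH', back] at this
  show Suz.Binary.IsBin H ↔ _
  rw [hb, Suz.Binary.main ha hF H' hH1]
  refine or_congr ?_ ⟨?_, ?_⟩
  · rw [hH', Subgroup.map_eq_bot_iff_of_injective _ (MulEquiv.injective _)]
  · rintro ⟨P, hP⟩
    refine ⟨P.mapSurjective (f := e.toMonoidHom) e.surjective, ?_⟩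
    rw [← back H, ← hH', hP, ← Suz.Binary.ctr_map]
    rfl
  · rintro ⟨P, hP⟩
    refine ⟨P.mapSurjective (f := e.symm.toMonoidHom) e.symm.surjective, ?_⟩
    rw [hH', hP]
    show (Suz.Binary.ctr _).map _ = _
    rw [← Suz.Binary.ctr_map]
    rfl

end Cfsg.Agent.S5737
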