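import Cfsg.Statements.S5738
import Mathlib


set_option autoImplicit false
open Cfsg

namespace Cfsg.Agent.S5738

/-- Let F ⊆ K be finite fields with |F| = q and [K : F] = n ≥ 2, so |K| = q^n. Regard K as an n-dimensional F-vector space; the multiplications by non-zero elements of K form a cyclic subgroup of GL_F(K) of order q^n − 1 acting regularly on the non-zero vectors (a Singer group). Its normaliser in GL_F(K) has order n·(q^n − 1). -/
theorem result {F K : Type*} [Field F] [Fintype F] [Field K] [Fintype K] [Algebra F K] (n : ℕ) (hn : 2 ≤ n) (hdim : Module.finrank F K = n) :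
    Nat.card (Subgroup.normalizer (((Units.map ((Algebra.lmul F K : K →ₐ[F] Module.End F K) : K →* Module.End F K)).range : Subgroup (Module.End F K)ˣ) : Set (Module.End F K)ˣ)) = n * (Fintype.card K - 1) := by
  classical
  haveI : FiniteDimensional F K := Module.Finite.of_finite
  haveI : IsGalois F K := inferInstance
  have hmul : ∀ (u : Kˣ) (v : K), ((Units.map ((Algebra.lmul F K : K →ₐ[F] Module.End F K) : K →* Module.End F K) u :
      (Module.End F K)ˣ) : Module.End F K) v = u * v := fun u v => rfl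
  obtain ⟨R, hR⟩ : ∃ R : Subgroup (Module.End F K)ˣ,
      R = (Units.map ((Algebra.lmul F K : K →ₐ[F] Module.End F K) : K →* Module.End F K)).range := ⟨_, rfl⟩
  rw [← hR]
  let U : (K ≃ₐ[F] K) → (Module.End F K)ˣ := fun σ =>
    ⟨σ.toLinearMap, σ.symm.toLinearMap, LinearMap.ext fun x => σ.apply_symm_apply x,
      LinearMap.ext fun x => σ.symm_apply_apply x⟩
  let M : Kˣ → (Module.End F K)ˣ := fun u =>
    Units.map ((Algebra.lmul F K : K →ₐ[F] Module.End F K) : K →* Module.End F K) u
  have hMR : ∀ u, M u ∈ R := fun u => hR ▸ ⟨u, rfl⟩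
  have hUN : ∀ (σ : K ≃ₐ[F] K) (u : Kˣ), U σ * M u * (U σ)⁻¹ = M (Units.map (σ : K →* K) u) := by
    intro σ u
    refine Units.ext (LinearMap.ext fun v => ?_)
    show σ ((u : K) * σ.symm v) = σ u * v
    rw [map_mul, σ.apply_symm_apply]
  have hnorm : ∀ q : Kˣ × (K ≃ₐ[F] K), M q.1 * U q.2 ∈ Subgroup.normalizer (R : Set (Module.End F K)ˣ) := by
    intro q
    refine mul_mem (Subgroup.le_normalizer (hMR q.1)) ?_
    rw [Subgroup.mem_normalizer_iff]
    intro T
    constructor
    · intro hT
      rw [hR] at hT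
      obtain ⟨u, rfl⟩ := hT
      show U q.2 * M u * (U q.2)⁻¹ ∈ R
      rw [hUN]
      exact hMR _
    · intro hT
      rw [hR] at hT
      obtain ⟨u, hu⟩ := hT
      have h1 : T = M (Units.map (q.2.symm : K →* K) u) := by
        have h2 := hUN q.2 (Units.map (q.2.symm : K →* K) u)
        have h3 : Units.map (q.2 : K →* K) (Units.map (q.2.symm : K →* K) u) = u :=
          Units.ext (q.2.apply_symm_apply _)
        rw [h3] at h2
        exact (mul_left_cancel (mul_right_cancel (h2.trans hu))).symm
      exact h1 ▸ hMR _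
  let Φ : Kˣ × (K ≃ₐ[F] K) → Subgroup.normalizer (R : Set (Module.End F K)ˣ) := fun q => ⟨M q.1 * U q.2, hnorm q⟩
  have hΦv : ∀ (q : Kˣ × (K ≃ₐ[F] K)) (v : K),
      (((Φ q : (Module.End F K)ˣ)) : Module.End F K) v = (q.1 : K) * q.2 v := fun q v => rfl
  have hinj : Function.Injective Φ := by
    intro q q' h
    have h1 : ∀ v, (q.1 : K) * q.2 v = (q'.1 : K) * q'.2 v := fun v => by rw [← hΦv, ← hΦv, h]
    have h2 : q.1 = q'.1 := Units.ext (by simpa using h1 1)
    refine Prod.ext h2 (AlgEquiv.ext fun v => ?_)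
    have h3 := h1 v
    rw [h2] at h3
    exact mul_left_cancel₀ (Units.ne_zero q'.1) h3
  have hsurj : Function.Surjective Φ := by
    rintro ⟨T, hT⟩
    let t : K → K := fun v => (T : Module.End F K) v
    have htinv : ∀ v, (T : Module.End F K) (((T⁻¹ : (Module.End F K)ˣ) : Module.End F K) v) = v := fun v => by
      rw [← Module.End.mul_apply, ← Units.val_mul, mul_inv_cancel]; rfl
    have htinv' : ∀ v, ((T⁻¹ : (Module.End F K)ˣ) : Module.End F K) ((T : Module.End F K) v) = v := fun v => by
      rw [← Module.End.mul_apply, ← Units.val_mul, inv_mul_cancel]; rfl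
    have htbij : Function.Bijective t :=
      ⟨fun v w h => by rw [← htinv' v, ← htinv' w]; exact congrArg _ h, fun v => ⟨_, htinv v⟩⟩
    have ht1 : t 1 ≠ 0 := fun h => one_ne_zero (htbij.1 (h.trans (map_zero _).symm))
    have htm : ∀ x v, t (x * v) = t x * (t 1)⁻¹ * t v := by
      intro x v
      by_cases hx : x = 0
      · subst hx
        simp [t]
      have h1 := (Subgroup.mem_normalizer_iff.1 hT (M (Units.mk0 x hx))).1 (hMR _)
      rw [hR] at h1
      obtain ⟨y, hy⟩ := h1
      have h2 : ∀ w, t (x * w) = y * t w := by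
        intro w
        have h3 := LinearMap.congr_fun (congrArg Units.val hy) (t w)
        rw [hmul, Units.val_mul, Units.val_mul, Module.End.mul_apply, Module.End.mul_apply, htinv'] at h3
        exact h3.symm
      have h4 := h2 1
      rw [mul_one] at h4
      rw [h2, h4, mul_inv_cancel_right₀ ht1]
    let σ : K →ₐ[F] K := AlgHom.mk' ⟨⟨⟨fun v => t v * (t 1)⁻¹, mul_inv_cancel₀ ht1⟩,
        fun x v => by simp only [htm x v]; ring⟩, by simp [t], fun x v => by simp [t, map_add, add_mul]⟩
      (fun c v => by simp [t, map_smul])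
    have hσ : Function.Bijective σ :=
      (mulRight_bijective₀ _ (inv_ne_zero ht1)).comp htbij
    refine ⟨(Units.mk0 (t 1) ht1, AlgEquiv.ofBijective σ hσ), Subtype.ext (Units.ext (LinearMap.ext fun v => ?_))⟩
    rw [hΦv]
    show t 1 * (t v * (t 1)⁻¹) = t v
    field_simp
  rw [← Nat.card_congr (Equiv.ofBijective Φ ⟨hinj, hsurj⟩), Nat.card_prod, IsGalois.card_aut_eq_finrank, hdim,
    Nat.card_units, Nat.card_eq_fintype_card, mul_comm]

end Cfsg.Agent.S5738
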