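import Cfsg.Statements.S5739
-- import your own Cfsg.Agent.* helpers here
import Mathlib

set_option autoImplicit false
set_option linter.all false
open Cfsg

namespace Cfsg.Agent.S5739

/-- Let F ⊆ K be finite fields with |F| = q and [K : F] = n ≥ 2, and let M ≤ GL_F(K) be the Singer group of multiplications by non-zero elements of K. If g ∈ GL_F(K) does not normalise M, then the order of M ∩ gMg⁻¹ divides q^r − 1 for some proper divisor r of n. In particular, when n is prime, that order divides q − 1. -/
theorem result {F K : Type*} [Field F] [Fintype F] [Field K] [Fintype K] [Algebra F K] (n : ℕ) (hn : 2 ≤ n) (hdim : Module.finrank F K = n)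
    (g : (Module.End F K)ˣ) (hg : ((Units.map ((Algebra.lmul F K : K →ₐ[F] Module.End F K) : K →* Module.End F K)).range).map (MulAut.conj g).toMonoidHom ≠ (Units.map ((Algebra.lmul F K : K →ₐ[F] Module.End F K) : K →* Module.End F K)).range) :
    ∃ r : ℕ, 1 ≤ r ∧ r ∣ n ∧ r < n ∧ Nat.card ↥(((Units.map ((Algebra.lmul F K : K →ₐ[F] Module.End F K) : K →* Module.End F K)).range).map (MulAut.conj g).toMonoidHom ⊓ (Units.map ((Algebra.lmul F K : K →ₐ[F] Module.End F K) : K →* Module.End F K)).range) ∣ Fintype.card F ^ r - 1 := by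
  classical
  let Λ : K →ₐ[F] Module.End F K := Algebra.lmul F K
  have hΛ : Function.Injective Λ := fun a b h => by simpa [Λ] using congrArg (fun f : Module.End F K => f 1) h
  haveI : Finite (Module.End F K) := Finite.of_injective (fun f => (f : K → K)) DFunLike.coe_injective
  let φ : Kˣ →* (Module.End F K)ˣ := Units.map (Λ : K →* Module.End F K)
  have hφ : Function.Injective φ := fun a b h => Units.ext (hΛ (congrArg Units.val h))
  let L : Subalgebra F K :=
    { carrier := {x | ∃ y, (g : Module.End F K) * Λ y * ((g⁻¹ : (Module.End F K)ˣ) : Module.End F K) = Λ x}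
      one_mem' := ⟨1, by simp [map_one]⟩
      mul_mem' := by
        rintro a b ⟨y, hy⟩ ⟨z, hz⟩
        refine ⟨y * z, ?_⟩
        rw [map_mul, map_mul, ← hy, ← hz]
        simp only [mul_assoc, Units.inv_mul_cancel_left]
      zero_mem' := ⟨0, by simp [map_zero]⟩
      add_mem' := by
        rintro a b ⟨y, hy⟩ ⟨z, hz⟩
        exact ⟨y + z, by rw [map_add, map_add, ← hy, ← hz, mul_add, add_mul]⟩
      algebraMap_mem' := fun c => ⟨algebraMap F K c, by
        rw [Λ.commutes, ← Algebra.commutes, mul_assoc, Units.mul_inv, mul_one]⟩ }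
  letI : Field L := (Finite.isDomain_to_isField L).toField
  haveI : Module.Free F L := Module.Free.of_divisionRing F L
  have htower := Module.finrank_mul_finrank F L K
  rw [hdim] at htower
  have hr : 0 < Module.finrank F L := Module.finrank_pos
  have hne : L ≠ ⊤ := by
    intro h
    refine hg ?_
    have hle : φ.range ≤ φ.range.map (MulAut.conj g).toMonoidHom := by
      rintro _ ⟨x, rfl⟩
      obtain ⟨y, hy⟩ : (x : K) ∈ L := by rw [h]; exact Algebra.mem_top
      have hy0 : y ≠ 0 := by
        rintro rfl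
        rw [map_zero, mul_zero, zero_mul] at hy
        exact x.ne_zero (hΛ (by rw [map_zero]; exact hy.symm))
      exact ⟨φ (Units.mk0 y hy0), ⟨_, rfl⟩, Units.ext hy⟩
    refine (Subgroup.eq_of_le_of_card_ge hle (le_of_eq ?_)).symm
    exact (Nat.card_congr (φ.range.equivMapOfInjective _ (MulAut.conj g).injective).toEquiv).symm
  have hlt : Module.finrank F L < n := by
    refine lt_of_le_of_ne (Nat.le_of_dvd (by omega) ⟨_, htower.symm⟩) fun e => hne ?_
    refine Algebra.toSubmodule_eq_top.1 (Submodule.eq_top_of_finrank_eq ?_)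
    rw [hdim]
    exact e
  refine ⟨_, hr, ⟨_, htower.symm⟩, hlt, ?_⟩
  let J : Subgroup Kˣ :=
    { carrier := {u | (u : K) ∈ L}
      one_mem' := L.one_mem
      mul_mem' := fun ha hb => L.mul_mem ha hb
      inv_mem' := fun {u} hu => by
        have h1 := pow_card_eq_one (x := u)
        show ((u⁻¹ : Kˣ) : K) ∈ L
        rw [show u⁻¹ = u ^ (Fintype.card Kˣ - 1) from inv_eq_of_mul_eq_one_right (by
          rw [← pow_succ', Nat.sub_add_cancel Fintype.card_pos, h1]), Units.val_pow_eq_pow_val]
        exact L.pow_mem hu _ }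
  have hI : φ.range.map (MulAut.conj g).toMonoidHom ⊓ φ.range ≤ J.map φ := by
    rintro _ ⟨⟨_, ⟨y, rfl⟩, hy⟩, x, rfl⟩
    exact ⟨x, ⟨y, congrArg Units.val hy⟩, rfl⟩
  refine (Subgroup.card_dvd_of_le hI).trans (dvd_of_eq ?_)
  rw [← Nat.card_congr (J.equivMapOfInjective φ hφ).toEquiv]
  have hJ : Nat.card J = Nat.card Lˣ := Nat.card_congr
    { toFun := fun u => Units.mk0 (⟨(u.1 : K), u.2⟩ : L) (fun h => u.1.ne_zero (congrArg Subtype.val h))
      invFun := fun v => ⟨Units.mk0 ((v : L) : K) (fun h => v.ne_zero (Subtype.ext h)), (v : L).2⟩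
      left_inv := fun u => Subtype.ext (Units.ext rfl)
      right_inv := fun v => Units.ext rfl }
  rw [hJ, Nat.card_units, Module.natCard_eq_pow_finrank (K := F), Nat.card_eq_fintype_card]

end Cfsg.Agent.S5739
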