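import Cfsg.Statements.S5747
-- import your own Cfsg.Agent.* helpers here

set_option autoImplicit false
open Cfsg

namespace Cfsg.Agent.S5747

section Aux

variable {G Ω : Type*} [Group G] [MulAction G Ω]

/-- every point is moved by the pointwise stabiliser of the earlier ones -/
def Irr (G : Type*) [Group G] [MulAction G Ω] {t : ℕ} (f : Fin t → Ω) : Prop :=
  ∀ i : Fin t, ∃ g : G, (∀ j : Fin t, j < i → g • f j = f j) ∧ g • f i ≠ f i

def Base (G : Type*) [Group G] [MulAction G Ω] {t : ℕ} (f : Fin t → Ω) : Prop :=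
  ∀ g : G, (∀ i : Fin t, g • f i = f i) → g = 1

theorem Irr.injective {t : ℕ} {f : Fin t → Ω} (h : Irr G f) : Function.Injective f := by
  intro i j hij
  rcases lt_trichotomy i j with hlt | he | hlt
  · obtain ⟨g, hg, hne⟩ := h j
    exact absurd (hij ▸ hg i hlt) hne
  · exact he
  · obtain ⟨g, hg, hne⟩ := h i
    exact absurd (hij.symm ▸ hg j hlt) hne

theorem Irr.snoc {t : ℕ} {f : Fin t → Ω} (h : Irr G f) {x : Ω} {g : G} (hg : ∀ i, g • f i = f i)
    (hx : g • x ≠ x) : Irr G (Fin.snoc f x : Fin (t + 1) → Ω) := by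
  intro i
  refine Fin.lastCases ?_ (fun i => ?_) i
  · refine ⟨g, fun j hj => ?_, by rwa [Fin.snoc_last]⟩
    refine Fin.lastCases (fun hj => absurd hj (lt_irrefl _)) (fun j _ => ?_) j hj
    rw [Fin.snoc_castSucc]
    exact hg j
  · obtain ⟨k, hk, hne⟩ := h i
    refine ⟨k, fun j hj => ?_, by rwa [Fin.snoc_castSucc]⟩
    refine Fin.lastCases (fun hj => absurd hj (not_lt.2 (Fin.le_last _))) (fun j hj => ?_) j hj
    rw [Fin.snoc_castSucc]
    exact hk j (Fin.castSucc_lt_castSucc_iff.1 hj)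

/-- an irredundant sequence extends to a base using points of a given base -/
theorem exists_extend [Fintype Ω] {B : Set Ω} (hB : ∀ g : G, (∀ b ∈ B, g • b = b) → g = 1) :
    ∀ (m t : ℕ) (f : Fin t → Ω), Irr G f → Fintype.card Ω - t ≤ m →
      ∃ (t' : ℕ) (f' : Fin t' → Ω), Irr G f' ∧ Base G f' ∧ t ≤ t' ∧ Set.range f' ⊆ Set.range f ∪ B := by
  intro m
  induction m with
  | zero =>
    intro t f hf hm
    have hsurj : Function.Surjective f := by
      have hle := Fintype.card_le_of_injective f hf.injective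
      rw [Fintype.card_fin] at hle
      exact ((Fintype.bijective_iff_injective_and_card f).2 ⟨hf.injective, by rw [Fintype.card_fin]; omega⟩).2
    refine ⟨t, f, hf, fun g hg => hB g fun b _ => ?_, le_rfl, Set.subset_union_left⟩
    obtain ⟨i, rfl⟩ := hsurj b
    exact hg i
  | succ m ih =>
    intro t f hf hm
    by_cases hbase : Base G f
    · exact ⟨t, f, hf, hbase, le_rfl, Set.subset_union_left⟩
    simp only [Base, not_forall] at hbase
    obtain ⟨g, hg, hg1⟩ := hbase
    obtain ⟨b, hb, hgb⟩ : ∃ b ∈ B, g • b ≠ b := by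
      by_contra hcon
      push Not at hcon
      exact hg1 (hB g hcon)
    obtain ⟨t', f', h1, h2, h3, h4⟩ := ih (t + 1) _ (hf.snoc hg hgb) (by omega)
    refine ⟨t', f', h1, h2, by omega, h4.trans ?_⟩
    rw [Fin.range_snoc, Set.union_subset_iff, Set.insert_subset_iff]
    exact ⟨⟨Or.inr hb, Set.subset_union_left⟩, Set.subset_union_right⟩

theorem le_of_reorder [Fintype Ω]
    (H : ∀ (t : ℕ) (f : Fin t → Ω) (σ : Equiv.Perm (Fin t)), Base G f ∧ Irr G f →
      Base G (f ∘ σ) ∧ Irr G (f ∘ σ)) {t' : ℕ} (f' : Fin t' → Ω) (hB : Base G f') (hI : Irr G f') :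
    ∀ (m t : ℕ) (f : Fin t → Ω), Base G f → Irr G f → (Set.range f \ Set.range f').ncard ≤ m → t ≤ t' := by
  intro m
  induction m with
  | zero =>
    intro t f hfB hfI hm
    rw [Nat.le_zero, Set.ncard_eq_zero (Set.toFinite _), Set.diff_eq_empty] at hm
    have h1 := Set.ncard_le_ncard hm (Set.toFinite _)
    rwa [Set.ncard_range_of_injective hfI.injective, Set.ncard_range_of_injective hI.injective, Nat.card_fin,
      Nat.card_fin] at h1
  | succ m ih =>
    intro t f hfB hfI hm
    rcases (Set.range f \ Set.range f').eq_empty_or_nonempty with he | ⟨a, ⟨i, rfl⟩, ha⟩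
    · exact ih t f hfB hfI (by rw [he, Set.ncard_empty]; omega)
    cases t with
    | zero => exact Nat.zero_le _
    | succ t =>
      obtain ⟨hgB, hgI⟩ := H (t + 1) f (Equiv.swap i (Fin.last t)) ⟨hfB, hfI⟩
      obtain ⟨g, hg, hgne⟩ := hgI (Fin.last t)
      obtain ⟨f₀, hf₀⟩ : ∃ f₀ : Fin t → Ω, f₀ = fun j => f (Equiv.swap i (Fin.last t) (Fin.castSucc j)) := ⟨_, rfl⟩
      have hf₀I : Irr G f₀ := by
        intro j
        obtain ⟨k, hk, hkne⟩ := hgI (Fin.castSucc j)
        exact ⟨k, fun l hl => by rw [hf₀]; exact hk _ (Fin.castSucc_lt_castSucc_iff.2 hl), by rw [hf₀]; exact hkne⟩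
      have hgf : ∀ j, g • f₀ j = f₀ j := fun j => by rw [hf₀]; exact hg _ (Fin.castSucc_lt_last j)
      obtain ⟨b, ⟨l, rfl⟩, hgb⟩ : ∃ b ∈ Set.range f', g • b ≠ b := by
        by_contra hcon
        push Not at hcon
        have := hB g fun j => hcon _ ⟨j, rfl⟩
        exact hgne (by rw [this, one_smul])
      obtain ⟨t₁, f₁, h1, h2, h3, h4⟩ :=
        exists_extend (B := Set.range f') (fun g hg => hB g fun j => hg _ ⟨j, rfl⟩) (Fintype.card Ω) (t + 1) _
          (hf₀I.snoc hgf hgb) (Nat.sub_le _ _)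
      refine le_trans h3 (ih t₁ f₁ h2 h1 ?_)
      have hsub : Set.range f₁ \ Set.range f' ⊆ (Set.range f \ Set.range f') \ {f i} := by
        rintro x ⟨hx, hxf⟩
        have h5 : x ∈ Set.range (Fin.snoc f₀ (f' l) : Fin (t + 1) → Ω) := (h4 hx).resolve_right hxf
        rw [Fin.range_snoc, Set.mem_insert_iff] at h5
        rcases h5 with rfl | ⟨j, rfl⟩
        · exact absurd ⟨l, rfl⟩ hxf
        · refine ⟨⟨by rw [hf₀]; exact ⟨_, rfl⟩, hxf⟩, fun he => ?_⟩
          rw [hf₀, Set.mem_singleton_iff] at he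
          have h6 := hfI.injective he
          rw [Equiv.swap_apply_eq_iff, Equiv.swap_apply_left] at h6
          exact (Fin.castSucc_lt_last j).ne h6
      have h7 := Set.ncard_le_ncard hsub (Set.toFinite _)
      rw [Set.ncard_sdiff_singleton_of_mem (show f i ∈ Set.range f \ Set.range f' from ⟨⟨i, rfl⟩, ha⟩)] at h7
      omega

end Aux

/-- Let a finite group G act on a finite set Ω. An irredundant base is a sequence of points ω₁, …, ω_t whose pointwise stabiliser is trivial and in which each ω_i is moved by some element fixing ω₁, …, ω_{i−1}. Then all irredundant bases have the same length if and only if every reordering of an irredundant base is again an irredundant base. -/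
theorem result {G Ω : Type*} [Group G] [Finite G] [MulAction G Ω] [Fintype Ω] :
    (∀ (t t' : ℕ) (f : Fin t → Ω) (f' : Fin t' → Ω), ((∀ g : G, (∀ i : Fin t, g • f i = f i) → g = 1) ∧ ∀ i : Fin t, ∃ g : G, (∀ j : Fin t, j < i → g • f j = f j) ∧ g • f i ≠ f i) → ((∀ g : G, (∀ i : Fin t', g • f' i = f' i) → g = 1) ∧ ∀ i : Fin t', ∃ g : G, (∀ j : Fin t', j < i → g • f' j = f' j) ∧ g • f' i ≠ f' i) → t = t') ↔
    (∀ (t : ℕ) (f : Fin t → Ω) (σ : Equiv.Perm (Fin t)), ((∀ g : G, (∀ i : Fin t, g • f i = f i) → g = 1) ∧ ∀ i : Fin t, ∃ g : G, (∀ j : Fin t, j < i → g • f j = f j) ∧ g • f i ≠ f i) → ((∀ g : G, (∀ i : Fin t, g • (f ∘ σ) i = (f ∘ σ) i) → g = 1) ∧ ∀ i : Fin t, ∃ g : G, (∀ j : Fin t, j < i → g • (f ∘ σ) j = (f ∘ σ) j) ∧ g • (f ∘ σ) i ≠ (f ∘ σ) i)) := by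
  show (∀ (t t' : ℕ) (f : Fin t → Ω) (f' : Fin t' → Ω), (Base G f ∧ Irr G f) → (Base G f' ∧ Irr G f') → t = t') ↔
    (∀ (t : ℕ) (f : Fin t → Ω) (σ : Equiv.Perm (Fin t)), (Base G f ∧ Irr G f) →
      (Base G (f ∘ σ) ∧ Irr G (f ∘ σ)))
  constructor
  · intro hsame t f σ hf
    have hbase : Base G (f ∘ σ) := fun g hg => hf.1 g fun i => by
      simpa using hg (σ.symm i)
    refine ⟨hbase, fun i => ?_⟩
    by_contra hbad
    push Not at hbad
    cases t with
    | zero => exact i.elim0
    | succ t =>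
      -- drop the redundant point
      obtain ⟨t', f', hI, hB, -, hsub⟩ := exists_extend (G := G) (B := Set.range fun j => f (σ (i.succAbove j)))
        (fun g hg => hbase g fun j => by
          induction j using WellFoundedLT.induction with
          | ind j ihj =>
            rcases eq_or_ne j i with rfl | hne
            · exact hbad g ihj
            · obtain ⟨k, rfl⟩ := Fin.exists_succAbove_eq hne
              exact hg _ ⟨k, rfl⟩)
        (Fintype.card Ω) 0 Fin.elim0 (fun j => j.elim0) (Nat.sub_le _ _)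
      have h1 := hsame _ _ f f' hf ⟨hB, hI⟩
      rw [Set.range_eq_empty Fin.elim0, Set.empty_union] at hsub
      have h2 := Set.ncard_le_ncard hsub (Set.finite_range _)
      have h3 : (Set.range fun j => f (σ (i.succAbove j))).ncard = Nat.card (Fin t) :=
        Set.ncard_range_of_injective (hf.2.injective.comp (σ.injective.comp Fin.succAbove_right_injective))
      rw [Set.ncard_range_of_injective hI.injective, h3, Nat.card_fin, Nat.card_fin] at h2
      omega
  · intro H t t' f f' hf hf'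
    exact le_antisymm (le_of_reorder H f' hf'.1 hf'.2 _ t f hf.1 hf.2 le_rfl)
      (le_of_reorder H f hf.1 hf.2 _ t' f' hf'.1 hf'.2 le_rfl)

end Cfsg.Agent.S5747
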