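import Cfsg.Statements.S5752
import Cfsg.Agent.Lib.Char.ThompsonWielandt

set_option autoImplicit false
open Cfsg

namespace Cfsg.Agent.S5752

open CfsgLib.Char.TW

/-- A form of the Thompson–Wielandt Theorem on primitive permutation groups. Let G be a finite group and M₁, M₂ two distinct conjugate maximal subgroups of G with trivial core in G; define two descending sequences of subgroups by A₀ = M₁, B₀ = M₂ and, for every i, A_{i+1} = the core in M₁ of A_i ∩ B_i and B_{i+1} = the core in M₂ of A_i ∩ B_i (the core in M of a subgroup Y ≤ M is the largest normal subgroup of M contained in Y). If A₂ and B₂ are both non-trivial, then for some prime p the subgroup generated by A₂ and B₂ is a p-group, and for each j the generalized Fitting subgroups of M_j and of its first core (A₁, resp. B₁) are their largest normal p-subgroups. -/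
theorem result {G : Type*} [Group G] [Finite G] (M₁ M₂ : Subgroup G) (hmax : IsCoatom M₁) (g : G)
    (hconj : M₂ = M₁.map (MulAut.conj g).toMonoidHom) (hne : M₁ ≠ M₂) (hcore : M₁.normalCore = ⊥)
    (A B : ℕ → Subgroup G) (hA0 : A 0 = M₁) (hB0 : B 0 = M₂)
    (hA : ∀ i, A (i + 1) = ((A i ⊓ B i).subgroupOf M₁).normalCore.map M₁.subtype)
    (hB : ∀ i, B (i + 1) = ((A i ⊓ B i).subgroupOf M₂).normalCore.map M₂.subtype) (hA2 : A 2 ≠ ⊥) (hB2 : B 2 ≠ ⊥) :
    ∃ p : ℕ, p.Prime ∧ IsPGroup p ↥(A 2 ⊔ B 2) ∧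
      Cfsg.generalizedFittingSubgroup ↥M₁ = Cfsg.pCore p ↥M₁ ∧ Cfsg.generalizedFittingSubgroup ↥(A 1) = Cfsg.pCore p ↥(A 1) ∧
      Cfsg.generalizedFittingSubgroup ↥M₂ = Cfsg.pCore p ↥M₂ ∧ Cfsg.generalizedFittingSubgroup ↥(B 1) = Cfsg.pCore p ↥(B 1) := by
  have hM : M₂ = M₁.map (MulAut.conj g).toMonoidHom := hconj
  have hcore₂ : M₂.normalCore = ⊥ := by
    refine le_bot_iff.1 ?_
    have hle : M₂.normalCore ≤ M₁ := by
      intro x hx
      have := M₂.normalCore_le ((Subgroup.normalCore_normal M₂).conj_mem x hx g)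
      rw [hM, Subgroup.mem_map_equiv] at this
      simpa [MulAut.conj_symm_apply, mul_assoc] using this
    exact hcore ▸ Subgroup.normal_le_normalCore.2 hle
  have hmax₂ : IsCoatom M₂ := by
    rw [hM]
    exact (OrderIso.isCoatom_iff (MulEquiv.mapSubgroup (MulAut.conj g)) M₁).2 hmax
  have hP : Pair M₁ M₂ := ⟨hmax, hmax₂, hne, hcore, hcore₂, g, hconj⟩
  have eA1 : A 1 = fst M₁ M₂ := by rw [hA 0, hA0, hB0]
  have eB1 : B 1 = fst M₂ M₁ := by rw [hB 0, hA0, hB0, inf_comm]
  have eA2 : A 2 = snd M₁ M₂ := by rw [hA 1, eA1, eB1]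
  have eB2 : B 2 = snd M₂ M₁ := by rw [hB 1, eA1, eB1, inf_comm]
  rw [eA2] at hA2
  rw [eB2] at hB2
  obtain ⟨p, hp, h1, h2, h3, h4⟩ := hP.thompson_wielandt hA2 hB2
  haveI := Fact.mk hp
  have hfst : ∀ H K : Subgroup G, CfsgLib.Invol.PClean p H →
      CfsgLib.Invol.PClean p ↥(fst H K) := fun H K h =>
    CfsgLib.Invol.pClean_congr (Subgroup.equivMapOfInjective _ _ H.subtype_injective)
      (CfsgLib.CharPLoc.pClean_of_normal h)
  refine ⟨p, hp, ?_, CfsgLib.CharPLoc.fStar_eq_pCore_iff.2 h1, ?_,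
    CfsgLib.CharPLoc.fStar_eq_pCore_iff.2 h2, ?_⟩
  · rw [eA2, eB2]
    exact h3.to_sup_of_normal_right' h4
      (((snd_le_inf _ _).trans inf_le_right).trans (le_normalizer_ncore _ _))
  · rw [eA1]; exact CfsgLib.CharPLoc.fStar_eq_pCore_iff.2 (hfst _ _ h1)
  · rw [eB1]; exact CfsgLib.CharPLoc.fStar_eq_pCore_iff.2 (hfst _ _ h2)

end Cfsg.Agent.S5752
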