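import Cfsg.Statements.S5754
-- import your own Cfsg.Agent.* helpers here
import Mathlib

set_option autoImplicit false
open Cfsg

namespace Cfsg.Agent.S5754

/-- Let V be a finite-dimensional vector space over a finite field F carrying an anisotropic quadratic form Q (Q(v) = 0 only for v = 0). Then the group of all maps v ↦ φ(v) + c, with φ an isometry of Q and c ∈ V, acts on V as a binary permutation group: given n ≥ 2 and two n-tuples u, u' of vectors such that every pair of corresponding entries of u is carried to that of u' by such a map, one such map carries u to u'. -/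
theorem result {F V : Type*} [Field F] [Finite F] [AddCommGroup V] [Module F V] [Module.Finite F V]
    (Q : QuadraticForm F V) (hQ : Q.Anisotropic) (n : ℕ) (hn : 2 ≤ n) (u u' : Fin n → V)
    (h2 : ∀ i j : Fin n, i ≠ j → ∃ (φ : Q.IsometryEquiv Q) (c : V), φ (u i) + c = u' i ∧ φ (u j) + c = u' j) :
    ∃ (φ : Q.IsometryEquiv Q) (c : V), ∀ i, φ (u i) + c = u' i := by
  classical
  have hsub : ∀ x y : V, QuadraticMap.polar Q x y = Q x + Q y - Q (x - y) := fun x y => by
    have h := QuadraticMap.map_add Q x (-y)
    rw [QuadraticMap.map_neg, QuadraticMap.polar_neg_right] at h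
    rw [← sub_eq_add_neg] at h
    linear_combination h
  have hpair : ∀ i j, Q (u i - u j) = Q (u' i - u' j) := by
    intro i j
    rcases eq_or_ne i j with rfl | hij
    · simp
    obtain ⟨φ, c, h1, h2⟩ := h2 i j hij
    rw [← h1, ← h2, add_sub_add_right_eq_sub, ← map_sub, QuadraticMap.IsometryEquiv.map_app]
  let o : Fin n := ⟨0, by omega⟩
  suffices h : ∀ s : Finset (Fin n), ∃ φ : Q.IsometryEquiv Q, ∀ i ∈ s, φ (u i - u o) = u' i - u' o by
    obtain ⟨φ, hφ⟩ := h Finset.univ
    refine ⟨φ, u' o - φ (u o), fun i => ?_⟩
    have := hφ i (Finset.mem_univ i)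
    rw [map_sub] at this
    calc φ (u i) + (u' o - φ (u o)) = (φ (u i) - φ (u o)) + u' o := by abel
      _ = u' i := by rw [this, sub_add_cancel]
  intro s
  induction s using Finset.induction_on with
  | empty => exact ⟨QuadraticMap.IsometryEquiv.refl Q, fun i hi => absurd hi (Finset.notMem_empty i)⟩
  | @insert a s ha ih =>
    obtain ⟨φ, hφ⟩ := ih
    obtain ⟨x, hx⟩ : ∃ x, x = φ (u a - u o) := ⟨_, rfl⟩
    obtain ⟨b, hb⟩ : ∃ b, b = u' a - u' o := ⟨_, rfl⟩
    rcases eq_or_ne x b with hxb | hxb
    · refine ⟨φ, fun i hi => ?_⟩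
      rcases Finset.mem_insert.1 hi with rfl | hi
      · rw [← hb, ← hxb, hx]
      · exact hφ i hi
    have hQxb : Q x = Q b := by rw [hx, hb, QuadraticMap.IsometryEquiv.map_app]; exact hpair a o
    obtain ⟨v, hv⟩ : ∃ v, v = x - b := ⟨_, rfl⟩
    have hv0 : Q v ≠ 0 := fun h => hxb (sub_eq_zero.1 (hv ▸ hQ v h))
    obtain ⟨k, hk⟩ : ∃ k : V → F, k = fun w => QuadraticMap.polar Q w v * (Q v)⁻¹ := ⟨_, rfl⟩
    have hkv : k v = 2 := by
      simp only [hk]
      rw [QuadraticMap.polar_self, nsmul_eq_mul, Nat.cast_ofNat, mul_assoc, mul_inv_cancel₀ hv0, mul_one]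
    let r : V →ₗ[F] V :=
      { toFun := fun w => w - k w • v
        map_add' := fun p q => by simp only [hk, QuadraticMap.polar_add_left, add_mul, add_smul]; abel
        map_smul' := fun c p => by
          simp only [hk, QuadraticMap.polar_smul_left, smul_eq_mul, mul_assoc, mul_smul, smul_sub, RingHom.id_apply] }
    have hksub : ∀ (w : V) (c : F), k (w - c • v) = k w - c * k v := fun w c => by
      simp only [hk, QuadraticMap.polar_sub_left, QuadraticMap.polar_smul_left, smul_eq_mul]
      ring
    have hrr : Function.Involutive r := fun w => by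
      show (w - k w • v) - k (w - k w • v) • v = w
      rw [hksub, hkv, sub_sub, ← add_smul, show k w + (k w - k w * 2) = 0 by ring, zero_smul, sub_zero]
    let R : Q.IsometryEquiv Q :=
      { toLinearEquiv := LinearEquiv.ofInvolutive r hrr
        map_app' := fun w => by
          show Q (w - k w • v) = Q w
          rw [sub_eq_add_neg, ← neg_smul, QuadraticMap.map_add Q, QuadraticMap.map_smul, QuadraticMap.polar_smul_right,
            smul_eq_mul, smul_eq_mul]
          have : k w * Q v = QuadraticMap.polar Q w v := by
            simp only [hk]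
            rw [mul_assoc, inv_mul_cancel₀ hv0, mul_one]
          linear_combination (k w) * this }
    have hR : ∀ w, R w = w - k w • v := fun w => rfl
    refine ⟨φ.trans R, fun i hi => ?_⟩
    show R (φ (u i - u o)) = _
    rw [hR]
    rcases Finset.mem_insert.1 hi with rfl | hi
    · rw [← hx, ← hb]
      have : k x = 1 := by
        have h1 : QuadraticMap.polar Q x v = Q v := by
          rw [hsub, hv, sub_sub_cancel, hQxb]
          ring
        simp only [hk]
        rw [h1, mul_inv_cancel₀ hv0]
      rw [this, one_smul, hv, sub_sub_cancel]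
    · have hj := hφ i hi
      have h1 : QuadraticMap.polar Q (φ (u i - u o)) v = 0 := by
        rw [hv, QuadraticMap.polar_sub_right, hsub, hsub, hQxb, hx, ← map_sub, QuadraticMap.IsometryEquiv.map_app,
          QuadraticMap.IsometryEquiv.map_app, sub_sub_sub_cancel_right, hb, hj, sub_sub_sub_cancel_right, hpair i a]
        rw [hpair i o]
        ring
      simp only [hk]
      rw [h1, zero_mul, zero_smul, sub_zero]
      exact hj

end Cfsg.Agent.S5754
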