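import Cfsg.Statements.S5763
-- import your own Cfsg.Agent.* helpers here
import Mathlib
import Cfsg.Agent.Lib.Perm.Small.SylowEight

set_option autoImplicit false
open Cfsg

namespace Cfsg.Agent.S5763

/-- In the symmetric group on 8 letters any two Sylow 2-subgroups have non-trivial intersection: for a Sylow 2-subgroup H and every element x, H ∩ xHx⁻¹ ≠ 1. -/
theorem result (H : Sylow 2 (Equiv.Perm (Fin 8))) (x : Equiv.Perm (Fin 8)) :
    (H : Subgroup (Equiv.Perm (Fin 8))) ⊓ (H : Subgroup (Equiv.Perm (Fin 8))).map (MulAut.conj x).toMonoidHom ≠ ⊥ := by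
  classical
  haveI : Fact (Nat.Prime 2) := ⟨Nat.prime_two⟩
  obtain ⟨hS, -⟩ := CfsgLib.Perm.Small.SylowEight.card_treeStab_and_cover
  let P : Sylow 2 (Equiv.Perm (Fin 8)) := Sylow.ofCard CfsgLib.Perm.Small.SylowEight.treeStab (by
    have : Nat.card (Equiv.Perm (Fin 8)) = 2 ^ 7 * 315 := by
      rw [Nat.card_perm, Nat.card_fin]; decide
    rw [hS, this, Nat.factorization_mul (by norm_num) (by norm_num), Nat.factorization_pow, Finsupp.add_apply,
      Finsupp.smul_apply, Nat.prime_two.factorization_self,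
      Nat.factorization_eq_zero_of_not_dvd (by norm_num : ¬ 2 ∣ 315)]
    rfl)
  obtain ⟨a, ha⟩ := MulAction.exists_smul_eq (Equiv.Perm (Fin 8)) P H
  have hH : (H : Subgroup (Equiv.Perm (Fin 8))) =
      CfsgLib.Perm.Small.SylowEight.treeStab.map (MulAut.conj a).toMonoidHom := by
    rw [← ha]
    rfl
  obtain ⟨w, hw, hw1, hwy⟩ := CfsgLib.Perm.Small.SylowEight.exists_witness (a⁻¹ * x * a)
  refine fun h => hw1 ?_
  have h1 : a * w * a⁻¹ ∈ (H : Subgroup (Equiv.Perm (Fin 8))) ⊓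
      (H : Subgroup (Equiv.Perm (Fin 8))).map (MulAut.conj x).toMonoidHom := by
    rw [hH]
    refine ⟨⟨w, hw, rfl⟩, ⟨_, ⟨_, hwy, rfl⟩, ?_⟩⟩
    simp only [MulEquiv.coe_toMonoidHom, MulAut.conj_apply]
    group
  rw [h, Subgroup.mem_bot] at h1
  exact conj_eq_one_iff.1 h1

end Cfsg.Agent.S5763
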