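import Cfsg.Statements.S5769
import Cfsg.Agent.Lib.Lie.Chev.CoxTorus.E7.SixtyFive.Main
import Cfsg.Agent.Lib.Lie.Chev.CoxTorus.E7.SixtyFive.Classical

set_option autoImplicit false
open Cfsg

namespace Cfsg.Agent.S5769

theorem no_iso (H : Subgroup ↥(Cfsg.Lie.chevE7.group (ZMod 2))) {X : Type*} [Group X]
    (hq : ∃ q : X, orderOf q = 65) : IsEmpty (↥H ≃* X) := by
  haveI : Fact (Nat.Prime 2) := ⟨Nat.prime_two⟩
  obtain ⟨q, hq⟩ := hq
  refine ⟨fun e => CfsgLib.Lie.SixtyFiveE7.order_ne (ZMod.card 2) (H.subtype (e.symm q)) ?_⟩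
  rw [orderOf_injective H.subtype H.subtype_injective, MulEquiv.orderOf_eq, hq]

/-- The Chevalley group of type E₇ over the field with two elements (generated by its root elements in the adjoint representation) has no subgroup isomorphic to any of PSL₂(64), PSp₄(8), PSL₄(8), PSU₄(8) or PSp₆(8). Here F₈ and F₆₄ denote fields with 8 and 64 elements. -/
theorem result {F₈ F₆₄ : Type*} [Field F₈] [Fintype F₈] (h8 : Fintype.card F₈ = 8) [Field F₆₄] [Fintype F₆₄] (h64 : Fintype.card F₆₄ = 64)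
    (H : Subgroup ↥(Cfsg.Lie.chevE7.group (ZMod 2))) :
    IsEmpty (↥H ≃* Matrix.ProjectiveSpecialLinearGroup (Fin 2) F₆₄) ∧ IsEmpty (↥H ≃* Cfsg.PSp 2 F₈) ∧
    IsEmpty (↥H ≃* Matrix.ProjectiveSpecialLinearGroup (Fin 4) F₈) ∧ IsEmpty (↥H ≃* Cfsg.PSU 4 F₆₄ 8) ∧ IsEmpty (↥H ≃* Cfsg.PSp 3 F₈) := by
  classical
  haveI : CharP F₈ 2 := CfsgLib.Lie.SixtyFiveE7.charP_two_of_card_pow (n := 3) (h8.trans (by norm_num))
  obtain ⟨f, hf⟩ := CfsgLib.Lie.SixtyFiveE7.exists_hom_sp4 (E := F₈) (F := F₆₄) h8 h64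
  obtain ⟨a, ha⟩ := CfsgLib.Lie.SixtyFiveE7.exists_hom_sl4 (E := F₈)
  obtain ⟨b, hb⟩ := CfsgLib.Lie.SixtyFiveE7.exists_hom_sp6 (E := F₈)
  obtain ⟨u, hu⟩ := CfsgLib.Lie.SixtyFiveE7.exists_hom_su4 (E := F₈) (F := F₆₄) h8 h64
  exact ⟨no_iso H (CfsgLib.Lie.SixtyFiveE7.exists_order_quot h64 (MonoidHom.id _) (fun _ _ h => h)),
    no_iso H (CfsgLib.Lie.SixtyFiveE7.exists_order_quot h64 f hf),
    no_iso H (CfsgLib.Lie.SixtyFiveE7.exists_order_quot h64 (a.comp f) (ha.comp hf)),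
    no_iso H (CfsgLib.Lie.SixtyFiveE7.exists_order_quot h64 u hu),
    no_iso H (CfsgLib.Lie.SixtyFiveE7.exists_order_quot h64 (b.comp f) (hb.comp hf))⟩

end Cfsg.Agent.S5769
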