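import Cfsg.Statements.S5776
import Cfsg.Agent.Lib.Perm.Trans.ThreeRes.NoTv.Main
import Cfsg.Agent.Lib.Perm.Trans.ThreeRes.Tv.Main
import Cfsg.Agent.Lib.Perm.Trans.ThreeRes.Socle.Main

set_option autoImplicit false
open Cfsg

namespace Cfsg.Agent.S5776

/-- The maximal subgroups of SL_3(q) in the residual class. Let F be a finite field with q elements of characteristic p, and let H be a maximal subgroup of SL_3(F) lying in the residual class of the linear case. Then the perfect socle preimage P of H (the subgroup given by the residual-class conditions) satisfies one of: P modulo scalars is isomorphic to the simple group of order 168 (written here as PSL_3(2)) and q = p with p ≠ 2 and p ≡ 1, 2 or 4 mod 7; or P modulo scalars is isomorphic to the alternating group A_6 and either q = p with p ≡ 1 or 4 mod 15, or q = p² with p ≡ 2 or 3 mod 5 and p ≠ 3. -/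
theorem result {F : Type*} [Field F] [Fintype F] (H : Subgroup (Matrix.GeneralLinearGroup (Fin 3) F)) (hH : Cfsg.Geo.IsMaximalIn (Cfsg.Geo.specialLinear (Fin 3) F) H) (hS : Cfsg.Geo.InLinearResidualClass H) :
    ∃ (P : Subgroup (Matrix.GeneralLinearGroup (Fin 3) F)) (p : ℕ), Cfsg.Geo.IsResidualCore H P ∧ p.Prime ∧ CharP F p ∧
    ((Nonempty ((P ⧸ (Cfsg.Geo.scalars (Fin 3) F).subgroupOf P) ≃* Matrix.ProjectiveSpecialLinearGroup (Fin 3) (ZMod 2)) ∧
        Fintype.card F = p ∧ p ≠ 2 ∧ (p % 7 = 1 ∨ p % 7 = 2 ∨ p % 7 = 4)) ∨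
     (Nonempty ((P ⧸ (Cfsg.Geo.scalars (Fin 3) F).subgroupOf P) ≃* alternatingGroup (Fin 6)) ∧
        ((Fintype.card F = p ∧ (p % 15 = 1 ∨ p % 15 = 4)) ∨ (Fintype.card F = p ^ 2 ∧ p ≠ 3 ∧ (p % 5 = 2 ∨ p % 5 = 3))))) := by
  classical
  obtain ⟨P, hcore, hQ, -, hU⟩ := hS
  obtain ⟨p, hchar⟩ := CharP.exists F
  haveI := hchar
  have hp : p.Prime := CharP.char_is_prime F p
  obtain ⟨hP, hsub⟩ := CfsgLib.Perm.Trans.ThreeRes.Quasi.of_core hcore hH.1.le
  have hne : P ≠ Cfsg.Geo.specialLinear (Fin 3) F := fun e => hH.1.not_ge (e ▸ hcore.le)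
  have hd : CfsgLib.Perm.Trans.ThreeRes.HasDihedralTwo P := by
    by_cases hno : CfsgLib.Perm.Trans.ThreeDim.NoTv P
    · exact CfsgLib.Perm.Trans.ThreeRes.hasDihedralTwo_of_noTv hP hno
    · rcases CfsgLib.Perm.Trans.ThreeRes.of_transvection hP hsub hno with h | h | h
      · exact absurd h hne
      · exact absurd h hU
      · exact h
  exact ⟨P, p, hcore, hp, hchar, CfsgLib.Perm.Trans.ThreeRes.Socle.linear_socle hp hP hsub hd hQ hU hne⟩

end Cfsg.Agent.S5776
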