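import Cfsg.Statements.S5778
import Cfsg.Agent.Lib.Perm.Asch.Forms.U3.Max
import Cfsg.Agent.Lib.Perm.Asch.Forms.U3.Orth
import Cfsg.Agent.Lib.Perm.Asch.Forms.U3.Sym
import Cfsg.Agent.Lib.Perm.Asch.Forms.U3.Field

set_option autoImplicit false
open Cfsg

namespace Cfsg.Agent.S5778

/-- Every maximal subgroup of SU_3(q), q ≥ 3, is of one of the listed geometric types or lies in the residual class. Let F be the field with q² elements, f the standard unitary form Σ u_i v_i^q on F^3, and H a maximal subgroup of SU_3(q) (the determinant-one isometries of f, inside GL_3(F)). Then H is the intersection with SU_3(q) of one of: the stabiliser of a non-zero subspace on which f vanishes; the stabiliser of a non-degenerate 1-space; for q ≠ 5, the stabiliser of a decomposition into three mutually orthogonal non-degenerate 1-spaces; for q ≠ 3, 5, the normaliser of an adjoint-closed degree-3 subfield of the matrix algebra; a subfield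 group of odd prime index whose F₀-structure carries f; for q odd, q ≥ 7, a subfield group of index 2 whose F₀-structure carries f; for q = p ≡ 2 mod 3 prime with p ≥ 11, the normaliser of an absolutely irreducible subgroup of order 27 with centre of order 3, exponent 3 and all characteristic abelian subgroups cyclic, contained in the similarity group of f — or else H lies in the residual class of the unitary case. -/
theorem result {F : Type*} [Field F] [Fintype F] (q : ℕ) (hF : Fintype.card F = q ^ 2) (hq : 3 ≤ q) (H : Subgroup (Matrix.GeneralLinearGroup (Fin 3) F)) (hH : Cfsg.Geo.IsMaximalIn (Cfsg.GU 3 F q ⊓ Cfsg.Geo.specialLinear (Fin 3) F) H) :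
    (∃ W : Submodule F (Fin 3 → F), W ≠ ⊥ ∧ Cfsg.Geo.IsTotallySingularFor (Cfsg.hermForm 3 F q) W ∧ H = Cfsg.Geo.subspaceStabilizer W ⊓ (Cfsg.GU 3 F q ⊓ Cfsg.Geo.specialLinear (Fin 3) F)) ∨
    (∃ W : Submodule F (Fin 3 → F), W ≠ ⊥ ∧ Cfsg.Geo.IsNondegenerateOn (Cfsg.hermForm 3 F q) W ∧ 2 * Module.finrank F W < 3 ∧ H = Cfsg.Geo.subspaceStabilizer W ⊓ (Cfsg.GU 3 F q ⊓ Cfsg.Geo.specialLinear (Fin 3) F)) ∨
    (q ≠ 5 ∧ ∃ D : Fin 3 → Submodule F (Fin 3 → F), Cfsg.Geo.IsNondegenerateMDecomposition (Cfsg.hermForm 3 F q) 1 D ∧ H = Cfsg.Geo.decompositionStabilizer D ⊓ (Cfsg.GU 3 F q ⊓ Cfsg.Geo.specialLinear (Fin 3) F)) ∨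
    (q ≠ 3 ∧ q ≠ 5 ∧ ∃ K : Subalgebra F (Matrix (Fin 3) (Fin 3) F), Cfsg.Geo.IsFieldSubalgebra 3 K ∧ Cfsg.Geo.IsAdjointClosedFor (Cfsg.hermForm 3 F q) K ∧ H = Cfsg.Geo.subalgebraNormalizer K ⊓ (Cfsg.GU 3 F q ⊓ Cfsg.Geo.specialLinear (Fin 3) F)) ∨
    (∃ (F₀ : Subfield F) (r : ℕ) (P : Matrix.GeneralLinearGroup (Fin 3) F), r.Prime ∧ Odd r ∧ Fintype.card F = Nat.card F₀ ^ r ∧ Cfsg.Geo.IsFormRationalStructure (Cfsg.hermForm 3 F q) F₀ 1 P ∧ H = Cfsg.Geo.subfieldSubgroup F₀ P ⊓ (Cfsg.GU 3 F q ⊓ Cfsg.Geo.specialLinear (Fin 3) F)) ∨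
    (Odd q ∧ 7 ≤ q ∧ ∃ (F₀ : Subfield F) (P : Matrix.GeneralLinearGroup (Fin 3) F), Fintype.card F = Nat.card F₀ ^ 2 ∧ Cfsg.Geo.IsFormRationalStructure (Cfsg.hermForm 3 F q) F₀ 1 P ∧ H = Cfsg.Geo.subfieldSubgroup F₀ P ⊓ (Cfsg.GU 3 F q ⊓ Cfsg.Geo.specialLinear (Fin 3) F)) ∨
    (∃ (p : ℕ) (R : Subgroup (Matrix.GeneralLinearGroup (Fin 3) F)), p.Prime ∧ q = p ∧ p % 3 = 2 ∧ 11 ≤ p ∧ Cfsg.Geo.IsSymplecticTypeGroup 3 R ∧ Cfsg.Geo.ActsAbsolutelyIrreducibly (Cfsg.Geo.matrixSet R) ∧ R ≤ Cfsg.Geo.similarityGroup (Cfsg.hermForm 3 F q) ∧ Nat.card R = 27 ∧ Nat.card (Subgroup.center R) = 3 ∧ H = Cfsg.Geo.subgroupNormalizer R ⊓ (Cfsg.GU 3 F q ⊓ Cfsg.Geo.specialLinear (Fin 3) F)) ∨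
    Cfsg.Geo.InUnitaryResidualClass H := by
  open CfsgLib.Perm.Asch in
  cases U3.su_max hF hq hH with
  | singular h0 hs h => exact Or.inl ⟨_, h0, hs, h⟩
  | nondeg h0 hn hd h => exact Or.inr (Or.inl ⟨_, h0, hn, hd, h⟩)
  | dec hD h =>
    refine Or.inr (Or.inr (Or.inl ⟨fun h5 => ?_, _, hD, h⟩))
    subst h5
    exact U3.frame_not_maximal hF hH hD h
  | field hK ha h =>
    refine Or.inr (Or.inr (Or.inr (Or.inl ⟨fun h3 => ?_, fun h5 => ?_, _, hK, ha, h⟩)))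
    · subst h3
      exact U3.field_not_maximal hF (Or.inl rfl) hH hK ha (h.le.trans inf_le_left)
    · subst h5
      exact U3.field_not_maximal hF (Or.inr rfl) hH hK ha (h.le.trans inf_le_left)
  | subOdd h => exact Or.inr (Or.inr (Or.inr (Or.inr (Or.inl h))))
  | subOrth hodd hc hs h =>
    rcases eq_or_ne q 3 with rfl | h3
    · obtain ⟨D, hD, hH'⟩ := U3.orth_three hF hH hc hs (h.le.trans inf_le_left)
      exact Or.inr (Or.inr (Or.inl ⟨by norm_num, D, hD, hH'⟩))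
    rcases eq_or_ne q 5 with rfl | h5
    · exact (U3.orth_five hF hH hc hs (h.le.trans inf_le_left)).elim
    have h7 : 7 ≤ q := by
      obtain ⟨k, rfl⟩ := hodd
      omega
    exact Or.inr (Or.inr (Or.inr (Or.inr (Or.inr (Or.inl ⟨hodd, h7, _, _, hc, hs, h⟩)))))
  | sym hp hqp hp3 hR ha hs hI hc hz h =>
    refine Or.inr (Or.inr (Or.inr (Or.inr (Or.inr (Or.inr (Or.inl ⟨_, _, hp, hqp, hp3, ?_, hR, ha, hs, hc, hz, h⟩))))))
    subst hqp
    by_contra hlt
    have h5 : q = 5 := by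
      by_contra h5
      interval_cases q <;> first | omega | norm_num at hp
    subst h5
    exact U3.sym_not_maximal hF hH hR hI hc hz h
  | residual h => exact Or.inr (Or.inr (Or.inr (Or.inr (Or.inr (Or.inr (Or.inr h))))))

end Cfsg.Agent.S5778
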