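import Cfsg.Statements.S5784
-- import your own Cfsg.Agent.* helpers here
import Mathlib
import Cfsg.Agent.Lib.Perm.Asch.Forms.U4Cases
import Cfsg.Agent.Lib.Perm.Asch.Forms.U4Frame
import Cfsg.Agent.Lib.Perm.Asch.Forms.U4Pair

set_option autoImplicit false
set_option linter.all false
open Cfsg

namespace Cfsg.Agent.S5784

/-- Every maximal subgroup of SU_4(q) is of one of the listed geometric types or lies in the residual class. Let F be the field with q² elements, f the standard unitary form Σ u_i v_i^q on F^4, and H a maximal subgroup of SU_4(q) (inside GL_4(F)). Then H is the intersection with SU_4(q) of one of: the stabiliser of a non-zero subspace on which f vanishes; the stabiliser of a non-degenerate 1-space; for q ≠ 3, the stabiliser of a decomposition into four mutually orthogonal non-degenerate 1-spaces; for q ≥ 3, of a decomposition into two orthogonal non-degenerate 2-spaces;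 for q ≥ 4, of a decomposition into two totally isotropic 2-spaces; a subfield group of odd prime index whose F₀-structure carries f; a subfield group of index 2 whose F₀-structure carries ζ f, vanishing on pairs (u, u), for some non-zero ζ with ζ + ζ^q = 0; for q odd, a subfield group of index 2 whose F₀-structure carries f; for q = p ≡ 3 mod 4 prime, the normaliser of an absolutely irreducible symplectic-type 2-group of exponent 4, order 64 and centre of order 4 inside the similarity group of f — or else H lies in the residual class of the unitary case. -/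
theorem result {F : Type*} [Field F] [Fintype F] (q : ℕ) (hF : Fintype.card F = q ^ 2) (H : Subgroup (Matrix.GeneralLinearGroup (Fin 4) F)) (hH : Cfsg.Geo.IsMaximalIn (Cfsg.GU 4 F q ⊓ Cfsg.Geo.specialLinear (Fin 4) F) H) :
    (∃ W : Submodule F (Fin 4 → F), W ≠ ⊥ ∧ Cfsg.Geo.IsTotallySingularFor (Cfsg.hermForm 4 F q) W ∧ H = Cfsg.Geo.subspaceStabilizer W ⊓ (Cfsg.GU 4 F q ⊓ Cfsg.Geo.specialLinear (Fin 4) F)) ∨
    (∃ W : Submodule F (Fin 4 → F), W ≠ ⊥ ∧ Cfsg.Geo.IsNondegenerateOn (Cfsg.hermForm 4 F q) W ∧ 2 * Module.finrank F W < 4 ∧ H = Cfsg.Geo.subspaceStabilizer W ⊓ (Cfsg.GU 4 F q ⊓ Cfsg.Geo.specialLinear (Fin 4) F)) ∨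
    (q ≠ 3 ∧ ∃ D : Fin 4 → Submodule F (Fin 4 → F), Cfsg.Geo.IsNondegenerateMDecomposition (Cfsg.hermForm 4 F q) 1 D ∧ H = Cfsg.Geo.decompositionStabilizer D ⊓ (Cfsg.GU 4 F q ⊓ Cfsg.Geo.specialLinear (Fin 4) F)) ∨
    (3 ≤ q ∧ ∃ D : Fin 2 → Submodule F (Fin 4 → F), Cfsg.Geo.IsNondegenerateMDecomposition (Cfsg.hermForm 4 F q) 2 D ∧ H = Cfsg.Geo.decompositionStabilizer D ⊓ (Cfsg.GU 4 F q ⊓ Cfsg.Geo.specialLinear (Fin 4) F)) ∨
    (4 ≤ q ∧ ∃ D : Fin 2 → Submodule F (Fin 4 → F), Cfsg.Geo.IsMDecomposition 2 D ∧ (∀ i, Cfsg.Geo.IsTotallySingularFor (Cfsg.hermForm 4 F q) (D i)) ∧ H = Cfsg.Geo.decompositionStabilizer D ⊓ (Cfsg.GU 4 F q ⊓ Cfsg.Geo.specialLinear (Fin 4) F)) ∨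
    (∃ (F₀ : Subfield F) (r : ℕ) (P : Matrix.GeneralLinearGroup (Fin 4) F), r.Prime ∧ Odd r ∧ Fintype.card F = Nat.card F₀ ^ r ∧ Cfsg.Geo.IsFormRationalStructure (Cfsg.hermForm 4 F q) F₀ 1 P ∧ H = Cfsg.Geo.subfieldSubgroup F₀ P ⊓ (Cfsg.GU 4 F q ⊓ Cfsg.Geo.specialLinear (Fin 4) F)) ∨
    (∃ (F₀ : Subfield F) (P : Matrix.GeneralLinearGroup (Fin 4) F) (ζ : F), Fintype.card F = Nat.card F₀ ^ 2 ∧ ζ ≠ 0 ∧ ζ + ζ ^ q = 0 ∧ Cfsg.Geo.IsFormRationalStructure (Cfsg.hermForm 4 F q) F₀ ζ P ∧ (∀ u : Fin 4 → F, (∀ i, u i ∈ F₀) → (Cfsg.hermForm 4 F q) (Matrix.mulVec (P : Matrix (Fin 4) (Fin 4) F) u) (Matrix.mulVec (P : Matrix (Fin 4) (Fin 4) F) u) = 0) ∧ H = Cfsg.Geo.subfieldSubgroup F₀ P ⊓ (Cfsg.GU 4 F q ⊓ Cfsg.Geo.specialLinear (Fin 4) F)) ∨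
    (Odd q ∧ ∃ (F₀ : Subfield F) (P : Matrix.GeneralLinearGroup (Fin 4) F), Fintype.card F = Nat.card F₀ ^ 2 ∧ Cfsg.Geo.IsFormRationalStructure (Cfsg.hermForm 4 F q) F₀ 1 P ∧ H = Cfsg.Geo.subfieldSubgroup F₀ P ⊓ (Cfsg.GU 4 F q ⊓ Cfsg.Geo.specialLinear (Fin 4) F)) ∨
    (∃ (p : ℕ) (R : Subgroup (Matrix.GeneralLinearGroup (Fin 4) F)), p.Prime ∧ q = p ∧ p % 4 = 3 ∧ Cfsg.Geo.IsSymplecticTypeGroup 2 R ∧ Cfsg.Geo.ActsAbsolutelyIrreducibly (Cfsg.Geo.matrixSet R) ∧ R ≤ Cfsg.Geo.similarityGroup (Cfsg.hermForm 4 F q) ∧ Nat.card R = 64 ∧ Nat.card (Subgroup.center R) = 4 ∧ H = Cfsg.Geo.subgroupNormalizer R ⊓ (Cfsg.GU 4 F q ⊓ Cfsg.Geo.specialLinear (Fin 4) F)) ∨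
    Cfsg.Geo.InUnitaryResidualClass H := by
  obtain ⟨σ, hu⟩ := CfsgLib.Perm.Asch.exists_uconj hF
  have hq2 := hu.two_le
  rcases CfsgLib.Perm.Asch.su_max_four hF hH with
    @⟨W, h0, hs, h⟩ | @⟨W, h0, hn, hd, h⟩ | @⟨t, k, D, ht, htk, h2, hD, h⟩ | @⟨k, D, hk, hD, hs, h⟩ | hodd |
    @⟨hq, horth⟩ | @⟨hev, hsymp⟩ | @⟨r, R, p, e, k, hR, ha, hs, hrp, hm, hI, hk, hcases, h⟩ | @⟨r, K, hr, hro, hdvd, hK, ha, h⟩ |
    @⟨n₁, n₂, e, P, f₁, f₂, hn1, h12, hn, hq, h₁, h₂, hs, h⟩ | @⟨k, t, e, P, f₁, hk, ht, hn, hex, h₁, hs, h⟩ | hres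
  · exact Or.inl (⟨W, h0, hs, h⟩)
  · exact Or.inr (Or.inl (⟨W, h0, hn, hd, h⟩))
  · have htle : t ≤ 4 := Nat.le_of_dvd (by norm_num) ⟨k, htk.symm⟩
    interval_cases t <;> try omega
    · obtain rfl : k = 2 := by omega
      exact Or.inr (Or.inr (Or.inr (Or.inl (⟨h2 rfl, D, hD, h⟩))))
    · obtain rfl : k = 1 := by omega
      by_cases hq3 : q = 3
      · exact (CfsgLib.Perm.Asch.U4.frame_not_maximal hF hq3 hH hD h).elim
      · exact Or.inr (Or.inr (Or.inl (⟨hq3, D, hD, h⟩)))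
  · obtain rfl : k = 2 := by omega
    by_cases hq3 : q ≤ 3
    · exact (CfsgLib.Perm.Asch.U4.pair_not_maximal (CfsgLib.Perm.Asch.exists_uctx hu).choose hF (by omega) hH hD hs h).elim
    · exact Or.inr (Or.inr (Or.inr (Or.inr (Or.inl (⟨by omega, D, hD, hs, h⟩)))))
  · exact Or.inr (Or.inr (Or.inr (Or.inr (Or.inr (Or.inl (hodd))))))
  · exact Or.inr (Or.inr (Or.inr (Or.inr (Or.inr (Or.inr (Or.inr (Or.inl (⟨hq, horth⟩))))))))
  · exact Or.inr (Or.inr (Or.inr (Or.inr (Or.inr (Or.inr (Or.inl (hsymp)))))))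
  · obtain rfl : r = 2 := (Nat.prime_dvd_prime_iff_eq hR.prime Nat.prime_two).1
      (hR.prime.dvd_of_dvd_pow (show r ∣ 2 ^ 2 by rw [show 2 ^ 2 = r ^ k from hk]; exact dvd_pow_self r (by
        rintro rfl; simp at hk)))
    obtain rfl : k = 2 := Nat.pow_right_injective le_rfl hk.symm
    rcases hcases with ⟨ho, -⟩ | ⟨-, rfl, hz, hcard⟩
    · exact absurd ho (by decide)
    rw [hz] at hm
    obtain ⟨hp, hqp, hp4⟩ := CfsgLib.Perm.Asch.sym_cond_two hF hrp hm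
    exact Or.inr (Or.inr (Or.inr (Or.inr (Or.inr (Or.inr (Or.inr (Or.inr (Or.inl (⟨p, R, hp, hqp, hp4, hR, ha, hs, by rw [hcard]; norm_num, hz, h⟩)))))))))
  · have hrle : r ≤ 4 := Nat.le_of_dvd (by norm_num) hdvd
    have := hr.two_le
    interval_cases r
    · exact absurd hro (by decide)
    · norm_num at hdvd
    · norm_num at hr
  · have hle : n₁ ≤ 4 := Nat.le_of_dvd (by norm_num) ⟨n₂, hn.symm⟩
    interval_cases n₁ <;> omega
  · have h9 : 3 ^ 2 ≤ k ^ t := (Nat.pow_le_pow_left hk 2).trans (Nat.pow_le_pow_right (by omega) ht)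
    omega
  · exact Or.inr (Or.inr (Or.inr (Or.inr (Or.inr (Or.inr (Or.inr (Or.inr (Or.inr hres))))))))

end Cfsg.Agent.S5784
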