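import Cfsg.Statements.S5786
import Cfsg.Agent.Lib.Perm.Trans.GeomSpFour
import Cfsg.Agent.Lib.Perm.Trans.SympSubfFourOdd
import Cfsg.Agent.Lib.Perm.Trans.KleinFour.SymType
import Cfsg.Agent.Lib.Perm.Trans.KleinFour.PlaneType

set_option autoImplicit false
open Cfsg Cfsg.Geo CfsgLib.Perm.Trans

namespace Cfsg.Agent.S5786

/-- Maximal subgroups of Sp_4(q) of geometric type, q odd. Let F be a finite field of odd order q, f the standard alternating form on F^4 (coordinates Fin 2 ⊕ Fin 2) and Sp_4(F) its isometry group inside GL_4(F). Each of the following, intersected with Sp_4(F), is a maximal subgroup of Sp_4(F): (1) the stabiliser of any non-zero totally isotropic subspace (totally isotropic 1-spaces and 2-spaces); (2) the stabiliser of any decomposition of F^4 into two mutually orthogonal non-degenerate 2-spaces; (3) for q ≥ 5, the stabiliser of any decomposition of F^4 into two totally isotropic 2-spaces; (4) the normaliser of any degree-2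 subfield K of the matrix algebra whose elements are self-adjoint for f with f(k v, v) = 0 for all k in K and all v (f is the trace of an alternating form over K); (5) for q ≥ 5, the normaliser of any degree-2 subfield of the matrix algebra that is closed under adjoints but not self-adjoint (f is the trace of a multiple of a unitary form over K); (6) every subfield group for a subfield F₀ with |F| = |F₀|^r, r prime, whose F₀-structure carries a non-zero scalar multiple of f; (7) for q = p prime, the normaliser of any absolutely irreducible 2-group R of symplectic type and exponent 4, of order 32 with centre of order 2 and of minus type, consisting of isometries of f. -/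
theorem result {F : Type*} [Field F] [Fintype F] (hodd : Odd (Fintype.card F)) :
    (∀ W : Submodule F (Fin 2 ⊕ Fin 2 → F), W ≠ ⊥ → Cfsg.Geo.IsTotallySingularFor (Cfsg.sympForm 2 F) W → Cfsg.Geo.IsMaximalIn (Cfsg.spGL 2 F) (Cfsg.Geo.subspaceStabilizer W ⊓ Cfsg.spGL 2 F)) ∧
    (∀ D : Fin 2 → Submodule F (Fin 2 ⊕ Fin 2 → F), Cfsg.Geo.IsNondegenerateMDecomposition (Cfsg.sympForm 2 F) 2 D → Cfsg.Geo.IsMaximalIn (Cfsg.spGL 2 F) (Cfsg.Geo.decompositionStabilizer D ⊓ Cfsg.spGL 2 F)) ∧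
    (5 ≤ Fintype.card F → ∀ D : Fin 2 → Submodule F (Fin 2 ⊕ Fin 2 → F), Cfsg.Geo.IsMDecomposition 2 D → (∀ i, Cfsg.Geo.IsTotallySingularFor (Cfsg.sympForm 2 F) (D i)) → Cfsg.Geo.IsMaximalIn (Cfsg.spGL 2 F) (Cfsg.Geo.decompositionStabilizer D ⊓ Cfsg.spGL 2 F)) ∧
    (∀ K : Subalgebra F (Matrix (Fin 2 ⊕ Fin 2) (Fin 2 ⊕ Fin 2) F), Cfsg.Geo.IsFieldSubalgebra 2 K → Cfsg.Geo.IsSelfAdjointFor (Cfsg.sympForm 2 F) K → (∀ k ∈ K, ∀ v : (Fin 2 ⊕ Fin 2 → F), (Cfsg.sympForm 2 F) (Matrix.mulVec k v) v = 0) → Cfsg.Geo.IsMaximalIn (Cfsg.spGL 2 F) (Cfsg.Geo.subalgebraNormalizer K ⊓ Cfsg.spGL 2 F)) ∧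
    (5 ≤ Fintype.card F → ∀ K : Subalgebra F (Matrix (Fin 2 ⊕ Fin 2) (Fin 2 ⊕ Fin 2) F), Cfsg.Geo.IsFieldSubalgebra 2 K → Cfsg.Geo.IsAdjointClosedFor (Cfsg.sympForm 2 F) K → ¬ Cfsg.Geo.IsSelfAdjointFor (Cfsg.sympForm 2 F) K → Cfsg.Geo.IsMaximalIn (Cfsg.spGL 2 F) (Cfsg.Geo.subalgebraNormalizer K ⊓ Cfsg.spGL 2 F)) ∧
    (∀ (F₀ : Subfield F) (r : ℕ) (P : Matrix.GeneralLinearGroup (Fin 2 ⊕ Fin 2) F) (ζ : F), r.Prime → Fintype.card F = Nat.card F₀ ^ r → ζ ≠ 0 → Cfsg.Geo.IsFormRationalStructure (Cfsg.sympForm 2 F) F₀ ζ P → Cfsg.Geo.IsMaximalIn (Cfsg.spGL 2 F) (Cfsg.Geo.subfieldSubgroup F₀ P ⊓ Cfsg.spGL 2 F)) ∧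
    (∀ (p : ℕ) (R : Subgroup (Matrix.GeneralLinearGroup (Fin 2 ⊕ Fin 2) F)), p.Prime → Fintype.card F = p → Cfsg.Geo.IsSymplecticTypeGroup 2 R → Cfsg.Geo.ActsAbsolutelyIrreducibly (Cfsg.Geo.matrixSet R) → R ≤ Cfsg.spGL 2 F → Nat.card R = 32 → Nat.card (Subgroup.center R) = 2 → Cfsg.Geo.IsOfMinusType 2 R → Cfsg.Geo.IsMaximalIn (Cfsg.spGL 2 F) (Cfsg.Geo.subgroupNormalizer R ⊓ Cfsg.spGL 2 F)) := by
  classical
  have hs := Symp.isSymplecticForm_sympForm (m := 2) (F := F)
  have h2 : (2 : F) ≠ 0 := KleinFour.two_ne hodd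
  have hm1 : (-1 : F) ≠ 1 := fun h => h2 (by linear_combination -h)
  refine ⟨fun W h0 hW => Symp.singular_subspace_maximal hs h0 hW, fun D hD => ?_,
    fun hq D hD hts => KleinFour.isotropic_pair_maximal hodd hq hD hts, fun K hK hsa halt => ?_,
    fun hq K hK hac hnsa => KleinFour.unitary_maximal_four hodd hq hK hac hnsa, ?_, ?_⟩
  · exact Symp.decomposition_maximal hs hD (Or.inr ⟨1, one_ne_zero, Ne.symm hm1⟩)
  · rw [Symp.spGL_eq_isoSub]
    exact Symp.Ext.extField_maximal_of hs (by simp) (Or.inr ⟨-1, neg_ne_zero.2 one_ne_zero, hm1⟩)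
      Nat.prime_two hK hsa halt
  · intro F₀ r P ζ hr hcard hζ hP
    let f : (Fin 2 ⊕ Fin 2 → F) → (Fin 2 ⊕ Fin 2 → F) → F := fun u v => ζ * sympForm 2 F u v
    have hf : IsSymplecticForm f :=
      { bilinear :=
          ⟨fun x y v => by show ζ * _ = ζ * _ + ζ * _; rw [hs.bilinear.add_left, mul_add],
           fun c x v => by show ζ * _ = c * (ζ * _); rw [hs.bilinear.smul_left, mul_left_comm],
           fun v x y => by show ζ * _ = ζ * _ + ζ * _; rw [hs.bilinear.add_right, mul_add],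
           fun c v x => by show ζ * _ = c * (ζ * _); rw [hs.bilinear.smul_right, mul_left_comm]⟩
        skew := fun v w => by show ζ * _ = -(ζ * _); rw [hs.skew, mul_neg]
        alternating := fun v => by show ζ * _ = 0; rw [hs.alternating, mul_zero]
        nondegenerate := fun v hv => by
          obtain ⟨⟨a, ha⟩, ⟨b, hb⟩⟩ := hs.nondegenerate v hv
          exact ⟨⟨a, mul_ne_zero hζ ha⟩, ⟨b, mul_ne_zero hζ hb⟩⟩ }
    have hrat : ∀ a b, f (Subf.em F₀ P a) (Subf.em F₀ P b) ∈ F₀ := fun a b =>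
      hP _ _ (fun i => (a i).2) (fun i => (b i).2)
    have heq : spGL 2 F = Symp.isoSub f := SetLike.ext fun g =>
      ⟨fun h => Symp.mem_isoSub.2 fun x y => congrArg (ζ * ·)
          ((Symp.mem_isoSub (f := sympForm 2 F)).1 h x y),
       fun h => (Symp.mem_isoSub (f := sympForm 2 F)).2 fun x y =>
          mul_left_cancel₀ hζ (Symp.mem_isoSub.1 h x y)⟩
    rw [heq]
    exact Symp.subfield_maximal_odd_four hf hrat h2 (by simp) hr hcard
  · intro p R hp hcard hst habs hle hR hZ hm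
    exact KleinFour.normalizer_symplectic_maximal hodd (hcard.symm ▸ hp) hst habs hle hR hZ hm

end Cfsg.Agent.S5786
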