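import Cfsg.Statements.S5787
import Cfsg.Agent.Lib.Perm.Asch.Forms.SpCases
-- import your own Cfsg.Agent.* helpers here

set_option autoImplicit false
open Cfsg

namespace Cfsg.Agent.S5787

/-- Every maximal subgroup of Sp_4(q), q odd, is of one of the listed geometric types or lies in the residual class. Let F be a finite field of odd order q, f the standard alternating form on F^4 (coordinates Fin 2 ⊕ Fin 2), and H a maximal subgroup of the isometry group Sp_4(F) (inside GL_4(F)). Then H is the intersection with Sp_4(F) of one of: the stabiliser of a non-zero totally isotropic subspace; the stabiliser of a decomposition into two orthogonal non-degenerate 2-spaces; for q ≥ 5, of a decomposition into two totally isotropic 2-spaces; the normaliser of a degree-2 subfield K of the matrix algebra, self-adjoint with f(k v, v) = 0; for q ≥ 5, the normaliser of a degree-2 subfield closed under adjoints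 but not self-adjoint; a subfield group whose F₀-structure carries a non-zero multiple of f, |F| = |F₀|^r with r prime; for q = p prime, the normaliser of an absolutely irreducible symplectic-type 2-group of exponent 4, order 32, centre of order 2 and minus type inside the similarity group of f — or else H lies in the residual class of the symplectic case. -/
theorem result {F : Type*} [Field F] [Fintype F] (hodd : Odd (Fintype.card F)) (H : Subgroup (Matrix.GeneralLinearGroup (Fin 2 ⊕ Fin 2) F)) (hH : Cfsg.Geo.IsMaximalIn (Cfsg.spGL 2 F) H) :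
    (∃ W : Submodule F (Fin 2 ⊕ Fin 2 → F), W ≠ ⊥ ∧ Cfsg.Geo.IsTotallySingularFor (Cfsg.sympForm 2 F) W ∧ H = Cfsg.Geo.subspaceStabilizer W ⊓ Cfsg.spGL 2 F) ∨
    (∃ D : Fin 2 → Submodule F (Fin 2 ⊕ Fin 2 → F), Cfsg.Geo.IsNondegenerateMDecomposition (Cfsg.sympForm 2 F) 2 D ∧ H = Cfsg.Geo.decompositionStabilizer D ⊓ Cfsg.spGL 2 F) ∨
    (5 ≤ Fintype.card F ∧ ∃ D : Fin 2 → Submodule F (Fin 2 ⊕ Fin 2 → F), Cfsg.Geo.IsMDecomposition 2 D ∧ (∀ i, Cfsg.Geo.IsTotallySingularFor (Cfsg.sympForm 2 F) (D i)) ∧ H = Cfsg.Geo.decompositionStabilizer D ⊓ Cfsg.spGL 2 F) ∨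
    (∃ K : Subalgebra F (Matrix (Fin 2 ⊕ Fin 2) (Fin 2 ⊕ Fin 2) F), Cfsg.Geo.IsFieldSubalgebra 2 K ∧ Cfsg.Geo.IsSelfAdjointFor (Cfsg.sympForm 2 F) K ∧ (∀ k ∈ K, ∀ v : (Fin 2 ⊕ Fin 2 → F), (Cfsg.sympForm 2 F) (Matrix.mulVec k v) v = 0) ∧ H = Cfsg.Geo.subalgebraNormalizer K ⊓ Cfsg.spGL 2 F) ∨
    (5 ≤ Fintype.card F ∧ ∃ K : Subalgebra F (Matrix (Fin 2 ⊕ Fin 2) (Fin 2 ⊕ Fin 2) F), Cfsg.Geo.IsFieldSubalgebra 2 K ∧ Cfsg.Geo.IsAdjointClosedFor (Cfsg.sympForm 2 F) K ∧ ¬ Cfsg.Geo.IsSelfAdjointFor (Cfsg.sympForm 2 F) K ∧ H = Cfsg.Geo.subalgebraNormalizer K ⊓ Cfsg.spGL 2 F) ∨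
    (∃ (F₀ : Subfield F) (r : ℕ) (P : Matrix.GeneralLinearGroup (Fin 2 ⊕ Fin 2) F) (ζ : F), r.Prime ∧ Fintype.card F = Nat.card F₀ ^ r ∧ ζ ≠ 0 ∧ Cfsg.Geo.IsFormRationalStructure (Cfsg.sympForm 2 F) F₀ ζ P ∧ H = Cfsg.Geo.subfieldSubgroup F₀ P ⊓ Cfsg.spGL 2 F) ∨
    (∃ (p : ℕ) (R : Subgroup (Matrix.GeneralLinearGroup (Fin 2 ⊕ Fin 2) F)), p.Prime ∧ Fintype.card F = p ∧ Cfsg.Geo.IsSymplecticTypeGroup 2 R ∧ Cfsg.Geo.ActsAbsolutelyIrreducibly (Cfsg.Geo.matrixSet R) ∧ R ≤ Cfsg.Geo.similarityGroup (Cfsg.sympForm 2 F) ∧ Nat.card R = 32 ∧ Nat.card (Subgroup.center R) = 2 ∧ Cfsg.Geo.IsOfMinusType 2 R ∧ H = Cfsg.Geo.subgroupNormalizer R ⊓ Cfsg.spGL 2 F) ∨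
    Cfsg.Geo.InSymplecticResidualClass H := by
  rcases CfsgLib.Perm.Asch.sp_max (by norm_num) hH with
    @⟨W, h0, hs, h⟩ | @⟨W, h0, hn, hd, he, h⟩ | @⟨t, k, D, ht, htk, hk, h2, hD, h⟩ | @⟨D, hq, h5, hD, hs, h⟩ | hsub |
    @⟨R, p, k, hp, hpo, hc, hR, ha, hs, hcard, hz, hm, hk, h⟩ | @⟨Q, hq, hQ, hp, h⟩ |
    @⟨r, K, hr, hdvd, hK, hs, hv, h⟩ | @⟨K, hq, h5, hK, ha, hns, h⟩ |
    @⟨n₁, n₂, e, P, f₁, f₂, hq, hn, he, h3, h5, hplus, h₁, h₂, hs, h⟩ | @⟨k, t, e, P, f₁, hq, hn, h3, h5, h₁, hs, h⟩ | hres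
  · exact Or.inl (⟨W, h0, hs, h⟩)
  · obtain ⟨j, hj⟩ := he
    exfalso
    exact h0 (Submodule.finrank_eq_zero.1 (by omega))
  · obtain ⟨j, rfl⟩ := hk
    have htb : t * j = 2 := by
      rw [Nat.mul_add] at htk
      omega
    have htle : t ≤ 2 := Nat.le_of_dvd (by norm_num) ⟨j, htb.symm⟩
    interval_cases t <;> try omega
    · obtain rfl : j = 1 := by omega
      exact Or.inr (Or.inl (⟨D, hD, h⟩))
  · exact Or.inr (Or.inr (Or.inl (⟨h5 rfl, D, hD, hs, h⟩)))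
  · exact Or.inr (Or.inr (Or.inr (Or.inr (Or.inr (Or.inl (hsub))))))
  · obtain rfl : k = 2 := Nat.pow_right_injective le_rfl (show 2 ^ k = 2 ^ 2 by omega)
    exact Or.inr (Or.inr (Or.inr (Or.inr (Or.inr (Or.inr (Or.inl (⟨p, R, hp, hc, hR, ha, hs, by rw [hcard]; norm_num, hz, hm, h⟩)))))))
  · exact absurd hodd hq
  · have hrle : r ≤ 2 := Nat.le_of_dvd (by norm_num) hdvd
    have := hr.two_le
    interval_cases r <;> try first | omega | (norm_num at hr)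
    · exact Or.inr (Or.inr (Or.inr (Or.inl (⟨K, hK, hs, hv, h⟩))))
  · exact Or.inr (Or.inr (Or.inr (Or.inr (Or.inl (⟨h5 rfl, K, hK, ha, hns, h⟩)))))
  · exfalso
    obtain ⟨j, rfl⟩ := he
    have : 1 ≤ j := by
      by_contra hj
      obtain rfl : j = 0 := by omega
      omega
    nlinarith
  · obtain ⟨j, rfl⟩ := CfsgLib.Perm.Asch.isSymplecticForm_even h₁
    have hj1 : 1 ≤ j := by
      by_contra hj
      obtain rfl : j = 0 := by omega
      rw [add_zero, zero_pow (by omega)] at hn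
      omega
    have h8 : (j + j) ^ 3 ≤ 4 := (Nat.pow_le_pow_right (by omega) h3).trans (hn.trans (by norm_num)).le
    exfalso
    nlinarith [sq_nonneg j]
  · exact Or.inr (Or.inr (Or.inr (Or.inr (Or.inr (Or.inr (Or.inr ((hres))))))))

end Cfsg.Agent.S5787
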