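import Cfsg.Statements.S5791
import Cfsg.Agent.Lib.CMax.SpFourRes.Transport

set_option autoImplicit false
open Cfsg

namespace Cfsg.Agent.S5791

/-- The maximal subgroups of Sp_4(q), q ≥ 4 even, in the residual class. Let F be a finite field of even order q ≥ 4 and H a maximal subgroup of Sp_4(F) (isometries of the standard alternating form on F^4) lying in the residual class of the symplectic case. Then q = 2^(2m+1) with m ≥ 1 and the perfect socle preimage P of H is, modulo scalars, isomorphic to the Suzuki group over F (the subgroup Sz(F, θ) of the four-dimensional symplectic group with θ(x) = x^(2^(m+1))). -/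
theorem result {F : Type*} [Field F] [Fintype F] (heven : ¬ Odd (Fintype.card F)) (h4 : 4 ≤ Fintype.card F) (H : Subgroup (Matrix.GeneralLinearGroup (Fin 2 ⊕ Fin 2) F)) (hH : Cfsg.Geo.IsMaximalIn (Cfsg.spGL 2 F) H) (hS : Cfsg.Geo.InSymplecticResidualClass H) :
    ∃ (P : Subgroup (Matrix.GeneralLinearGroup (Fin 2 ⊕ Fin 2) F)) (m : ℕ), Cfsg.Geo.IsResidualCore H P ∧ 1 ≤ m ∧ Fintype.card F = 2 ^ (2 * m + 1) ∧
    Nonempty ((P ⧸ (Cfsg.Geo.scalars (Fin 2 ⊕ Fin 2) F).subgroupOf P) ≃* Cfsg.Lie.Sz F (2 ^ (m + 1))) := by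
  classical
  obtain ⟨p, hp⟩ := CharP.exists F
  haveI := hp
  haveI : Fact p.Prime := ⟨CharP.char_is_prime F p⟩
  obtain ⟨n, hprime, hn⟩ := FiniteField.card F p
  obtain rfl : p = 2 := hprime.eq_two_or_odd'.resolve_right fun ho => heven (hn ▸ ho.pow)
  haveI : PerfectRing F 2 := PerfectField.toPerfectRing 2
  obtain ⟨P, hP, hQ, -⟩ := hS
  have hle : P ≤ Cfsg.spGL 2 F := hP.le.trans hH.1.le
  have hbot : (Cfsg.Geo.scalars (Fin 2 ⊕ Fin 2) F).subgroupOf P = ⊥ :=
    (Subgroup.eq_bot_iff_forall _).2 fun x hx =>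
      Subtype.ext (CfsgLib.CMax.SpFourRes.scalars_inf_sp (Subgroup.mem_subgroupOf.1 hx) (hle x.2))
  let π := (QuotientGroup.quotientMulEquivOfEq hbot).trans (QuotientGroup.quotientBot (G := P))
  let η := P.equivMapOfInjective CfsgLib.CMax.SpFourRes.gl4.toMonoidHom
    CfsgLib.CMax.SpFourRes.gl4.injective
  haveI := hP.simple
  have hc : CfsgLib.CMax.SpFourRes.Core (P.map CfsgLib.CMax.SpFourRes.gl4.toMonoidHom) :=
    { le := by
        rintro _ ⟨g, hg, rfl⟩
        exact (CfsgLib.CMax.SpFourRes.gl4_mem_iff g).2 (hle hg)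
      simple := (π.trans η).symm.isSimpleGroup
      nonab := by
        by_contra hcon
        push Not at hcon
        refine hP.nonabelian ⟨⟨fun a b => (π.trans η).injective ?_⟩⟩
        rw [map_mul, map_mul]
        exact Subtype.ext (hcon _ ((π.trans η) a).2 _ ((π.trans η) b).2)
      absIrr := CfsgLib.CMax.SpFourRes.absIrr_map hP.absIrred
      noQuad := fun h => hQ (CfsgLib.CMax.SpFourRes.quad_of_map h)
      noSub := fun K hK h => hP.no_subfield K hK (CfsgLib.CMax.SpFourRes.realisable_of_map h)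
      proper := fun h => hH.1.not_ge fun g hg => hP.le (by
        obtain ⟨g', hg', e⟩ := h ((CfsgLib.CMax.SpFourRes.gl4_mem_iff g).2 hg)
        rwa [← CfsgLib.CMax.SpFourRes.gl4.injective e]) }
  obtain ⟨m, hm, hcard, ⟨e⟩⟩ := CfsgLib.CMax.SpFourRes.core_suzuki hc h4 CfsgLib.CMax.SpFourRes.card_sp4_le
  exact ⟨P, m, hP, hm, hcard, ⟨(π.trans η).trans e⟩⟩

end Cfsg.Agent.S5791
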