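import Cfsg.Statements.S5795
import Cfsg.Agent.Lib.Perm.Trans.UnitMax
import Cfsg.Agent.Lib.Perm.Trans.UnitSubfHerm
import Cfsg.Agent.Lib.Perm.Trans.UnitFive.PairGeom
import Cfsg.Agent.Lib.Perm.Trans.UnitFive.FrameGeom
import Cfsg.Agent.Lib.Perm.Trans.UnitFive.OrthGeom
import Cfsg.Agent.Lib.Perm.Trans.UnitFive.Singer.Main
import Cfsg.Agent.Lib.Perm.Trans.UnitFive.Pauli.Max
import Cfsg.Agent.Lib.Perm.Trans.UnitFive.Pauli.Four.Main
import Cfsg.Agent.Lib.Perm.Trans.UnitFive.Pauli.Cen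

set_option autoImplicit false
open Cfsg

namespace Cfsg.Agent.S5795

/-- Maximal subgroups of SU_5(q) of geometric type (any prime power q). Let F be the field with q² elements (characteristic p), f the standard unitary form Σ u_i v_i^q on F^5 and SU_5(q) its determinant-one isometry group inside GL_5(F). Each of the following, intersected with SU_5(q), is a maximal subgroup of SU_5(q): (1) the stabiliser of any non-zero subspace on which f vanishes identically (totally isotropic 1- and 2-spaces); (2) the stabiliser of any non-degenerate 1-space or 2-space; (3) the stabiliser of any decomposition of F^5 into five mutually orthogonal non-degenerate 1-spaces; (4) for q ≥ 3, the normaliser of any degree-5 subfield of the matrix algebra closed under adjoints for f; (5) every subfield group for a subfield F₀ of odd prime index in F whose F₀-structure carries f; (6) for q odd, every subfield group for the subfield F₀ of index 2 whose F₀-structure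 carries f (orthogonal type); (7) when q = p with p ≡ 4 mod 5, or q = p² with p ≡ 2 or 3 mod 5, the normaliser of any absolutely irreducible 5-group R of exponent 5, order 125 and centre of order 5 with all characteristic abelian subgroups cyclic, contained in the similarity group of f. -/
theorem result {F : Type*} [Field F] [Fintype F] (q : ℕ) (hF : Fintype.card F = q ^ 2) :
    (∀ W : Submodule F (Fin 5 → F), W ≠ ⊥ → Cfsg.Geo.IsTotallySingularFor (Cfsg.hermForm 5 F q) W → Cfsg.Geo.IsMaximalIn (Cfsg.GU 5 F q ⊓ Cfsg.Geo.specialLinear (Fin 5) F) (Cfsg.Geo.subspaceStabilizer W ⊓ (Cfsg.GU 5 F q ⊓ Cfsg.Geo.specialLinear (Fin 5) F))) ∧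
    (∀ W : Submodule F (Fin 5 → F), W ≠ ⊥ → Cfsg.Geo.IsNondegenerateOn (Cfsg.hermForm 5 F q) W → 2 * Module.finrank F W < 5 → Cfsg.Geo.IsMaximalIn (Cfsg.GU 5 F q ⊓ Cfsg.Geo.specialLinear (Fin 5) F) (Cfsg.Geo.subspaceStabilizer W ⊓ (Cfsg.GU 5 F q ⊓ Cfsg.Geo.specialLinear (Fin 5) F))) ∧
    (∀ D : Fin 5 → Submodule F (Fin 5 → F), Cfsg.Geo.IsNondegenerateMDecomposition (Cfsg.hermForm 5 F q) 1 D → Cfsg.Geo.IsMaximalIn (Cfsg.GU 5 F q ⊓ Cfsg.Geo.specialLinear (Fin 5) F) (Cfsg.Geo.decompositionStabilizer D ⊓ (Cfsg.GU 5 F q ⊓ Cfsg.Geo.specialLinear (Fin 5) F))) ∧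
    (3 ≤ q → ∀ K : Subalgebra F (Matrix (Fin 5) (Fin 5) F), Cfsg.Geo.IsFieldSubalgebra 5 K → Cfsg.Geo.IsAdjointClosedFor (Cfsg.hermForm 5 F q) K → Cfsg.Geo.IsMaximalIn (Cfsg.GU 5 F q ⊓ Cfsg.Geo.specialLinear (Fin 5) F) (Cfsg.Geo.subalgebraNormalizer K ⊓ (Cfsg.GU 5 F q ⊓ Cfsg.Geo.specialLinear (Fin 5) F))) ∧
    (∀ (F₀ : Subfield F) (r : ℕ) (P : Matrix.GeneralLinearGroup (Fin 5) F), r.Prime → Odd r → Fintype.card F = Nat.card F₀ ^ r → Cfsg.Geo.IsFormRationalStructure (Cfsg.hermForm 5 F q) F₀ 1 P → Cfsg.Geo.IsMaximalIn (Cfsg.GU 5 F q ⊓ Cfsg.Geo.specialLinear (Fin 5) F) (Cfsg.Geo.subfieldSubgroup F₀ P ⊓ (Cfsg.GU 5 F q ⊓ Cfsg.Geo.specialLinear (Fin 5) F))) ∧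
    (Odd q → ∀ (F₀ : Subfield F) (P : Matrix.GeneralLinearGroup (Fin 5) F), Fintype.card F = Nat.card F₀ ^ 2 → Cfsg.Geo.IsFormRationalStructure (Cfsg.hermForm 5 F q) F₀ 1 P → Cfsg.Geo.IsMaximalIn (Cfsg.GU 5 F q ⊓ Cfsg.Geo.specialLinear (Fin 5) F) (Cfsg.Geo.subfieldSubgroup F₀ P ⊓ (Cfsg.GU 5 F q ⊓ Cfsg.Geo.specialLinear (Fin 5) F))) ∧
    (∀ (p : ℕ) (R : Subgroup (Matrix.GeneralLinearGroup (Fin 5) F)), p.Prime → CharP F p → ((q = p ∧ p % 5 = 4) ∨ (q = p ^ 2 ∧ (p % 5 = 2 ∨ p % 5 = 3))) → Cfsg.Geo.IsSymplecticTypeGroup 5 R → Cfsg.Geo.ActsAbsolutelyIrreducibly (Cfsg.Geo.matrixSet R) → R ≤ Cfsg.Geo.similarityGroup (Cfsg.hermForm 5 F q) → Nat.card R = 125 → Nat.card (Subgroup.center R) = 5 → Cfsg.Geo.IsMaximalIn (Cfsg.GU 5 F q ⊓ Cfsg.Geo.specialLinear (Fin 5) F) (Cfsg.Geo.subgroupNormalizer R ⊓ (Cfsg.GU 5 F q ⊓ Cfsg.Geo.specialLinear (Fin 5) F))) := by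
  obtain ⟨C⟩ := CfsgLib.Perm.Trans.Unit.ctx_of_card hF
  have hU := CfsgLib.Perm.Trans.Unit.isUnitary_hermForm C (n := 5)
  open CfsgLib.Perm.Trans in
  refine ⟨fun W h0 hW => Unit.singular_subspace_maximal hU (by simp) h0 hW,
    fun W h0 hW hd => GeomSUFive.nondeg_subspace_maximal_su5 hF h0 hW hd,
    fun D hD => GeomSUFive.frame_maximal_su5 hF hD,
    fun hq K hK hac => ?_,
    fun F₀ r P hr hro hc hP => ?_,
    fun hodd F₀ P hc hP => GeomSUFive.orth_subfield_maximal_su5 hF hodd F₀ P hc hP,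
    fun p R hp hchar hqp hR habs hsim hcard hcen => ?_⟩
  · exact CfsgLib.Perm.Trans.UnitFive.Singer.singer_maximal_five hF hq hK hac
  · exact CfsgLib.Perm.Trans.Unit.herm_subfield_maximal_six
      { form := hU
        prime := hr
        two_lt := by
          obtain ⟨k, hk⟩ := hro
          have := hr.two_le
          omega
        card := hc
        rat := fun a b => by
          have h := hP (fun i => (a i : F)) (fun i => (b i : F)) (fun i => (a i).2) (fun i => (b i).2)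
          rw [one_mul] at h
          exact h } (by simp)
  · have hQ : UnitFive.Pauli.QCase F q := ⟨hF, p, hp, hchar, hqp⟩
    haveI := hchar
    rcases eq_or_ne p 2 with rfl | hp2
    · obtain rfl : q = 4 := by rcases hqp with ⟨-, h⟩ | ⟨h, -⟩ <;> omega
      exact UnitFive.Pauli.Four.symplectic_maximal_five_four hQ hR habs hsim hcard hcen
    · have h2 : (2 : F) ≠ 0 := fun h => hp2 ((Nat.prime_dvd_prime_iff_eq hp Nat.prime_two).1
        ((CharP.cast_eq_zero_iff F p 2).1 (by exact_mod_cast h)))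
      exact UnitFive.Pauli.symplectic_maximal_five_of hQ h2 (fun _ _ hM => hM.le_normalizer) hR habs hsim hcard hcen

end Cfsg.Agent.S5795
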