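import Cfsg.Statements.S5801
import Cfsg.Agent.Lib.Perm.Trans.GeomSU
import Cfsg.Agent.Lib.Perm.Trans.UnitSubfHerm
import Cfsg.Agent.Lib.Perm.Trans.UnitDecomp.SixMax
import Cfsg.Agent.Lib.Perm.Trans.TensorHermTwo

set_option autoImplicit false
open Cfsg

namespace Cfsg.Agent.S5801

/-- Maximal subgroups of SU_6(q) of geometric type (any prime power q). Let F be the field with q² elements, f the standard unitary form Σ u_i v_i^q on F^6 and SU_6(q) its determinant-one isometry group inside GL_6(F). Each of the following, intersected with SU_6(q), is a maximal subgroup of SU_6(q): (1) the stabiliser of any non-zero subspace on which f vanishes identically (totally isotropic 1-, 2- and 3-spaces); (2) the stabiliser of any non-degenerate 1-space or 2-space; (3) for q ≥ 3, the stabiliser of any decomposition into six mutually orthogonal non-degenerate 1-spaces; (4) for q ≥ 3, the stabiliser of any decomposition into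 three mutually orthogonal non-degenerate 2-spaces; (5) the stabiliser of any decomposition into two mutually orthogonal non-degenerate 3-spaces; (6) the stabiliser of any decomposition into two totally isotropic 3-spaces; (7) for q ≥ 3, the normaliser of any degree-3 subfield of the matrix algebra closed under adjoints for f; (8) for q ≥ 3, the stabiliser of any tensor decomposition of f as (unitary form on F^2) ⊗ (unitary form on F^3) up to a scalar; (9) every subfield group for a subfield F₀ of odd prime index in F whose F₀-structure carries f; (10) every subfield group for the subfield F₀ of index 2 whose F₀-structure carries ζ f, vanishing on pairs (u, u), for a non-zero ζ with ζ + ζ^q = 0 (symplectic type); (11) for q odd, every subfield group for the subfield F₀ of index 2 whose F₀-structure carries f (orthogonal types, either sign). -/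
theorem result {F : Type*} [Field F] [Fintype F] (q : ℕ) (hF : Fintype.card F = q ^ 2) :
    (∀ W : Submodule F (Fin 6 → F), W ≠ ⊥ → Cfsg.Geo.IsTotallySingularFor (Cfsg.hermForm 6 F q) W → Cfsg.Geo.IsMaximalIn (Cfsg.GU 6 F q ⊓ Cfsg.Geo.specialLinear (Fin 6) F) (Cfsg.Geo.subspaceStabilizer W ⊓ (Cfsg.GU 6 F q ⊓ Cfsg.Geo.specialLinear (Fin 6) F))) ∧
    (∀ W : Submodule F (Fin 6 → F), W ≠ ⊥ → Cfsg.Geo.IsNondegenerateOn (Cfsg.hermForm 6 F q) W → 2 * Module.finrank F W < 6 → Cfsg.Geo.IsMaximalIn (Cfsg.GU 6 F q ⊓ Cfsg.Geo.specialLinear (Fin 6) F) (Cfsg.Geo.subspaceStabilizer W ⊓ (Cfsg.GU 6 F q ⊓ Cfsg.Geo.specialLinear (Fin 6) F))) ∧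
    (3 ≤ q → ∀ D : Fin 6 → Submodule F (Fin 6 → F), Cfsg.Geo.IsNondegenerateMDecomposition (Cfsg.hermForm 6 F q) 1 D → Cfsg.Geo.IsMaximalIn (Cfsg.GU 6 F q ⊓ Cfsg.Geo.specialLinear (Fin 6) F) (Cfsg.Geo.decompositionStabilizer D ⊓ (Cfsg.GU 6 F q ⊓ Cfsg.Geo.specialLinear (Fin 6) F))) ∧
    (3 ≤ q → ∀ D : Fin 3 → Submodule F (Fin 6 → F), Cfsg.Geo.IsNondegenerateMDecomposition (Cfsg.hermForm 6 F q) 2 D → Cfsg.Geo.IsMaximalIn (Cfsg.GU 6 F q ⊓ Cfsg.Geo.specialLinear (Fin 6) F) (Cfsg.Geo.decompositionStabilizer D ⊓ (Cfsg.GU 6 F q ⊓ Cfsg.Geo.specialLinear (Fin 6) F))) ∧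
    (∀ D : Fin 2 → Submodule F (Fin 6 → F), Cfsg.Geo.IsNondegenerateMDecomposition (Cfsg.hermForm 6 F q) 3 D → Cfsg.Geo.IsMaximalIn (Cfsg.GU 6 F q ⊓ Cfsg.Geo.specialLinear (Fin 6) F) (Cfsg.Geo.decompositionStabilizer D ⊓ (Cfsg.GU 6 F q ⊓ Cfsg.Geo.specialLinear (Fin 6) F))) ∧
    (∀ D : Fin 2 → Submodule F (Fin 6 → F), Cfsg.Geo.IsMDecomposition 3 D → (∀ i, Cfsg.Geo.IsTotallySingularFor (Cfsg.hermForm 6 F q) (D i)) → Cfsg.Geo.IsMaximalIn (Cfsg.GU 6 F q ⊓ Cfsg.Geo.specialLinear (Fin 6) F) (Cfsg.Geo.decompositionStabilizer D ⊓ (Cfsg.GU 6 F q ⊓ Cfsg.Geo.specialLinear (Fin 6) F))) ∧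
    (3 ≤ q → ∀ K : Subalgebra F (Matrix (Fin 6) (Fin 6) F), Cfsg.Geo.IsFieldSubalgebra 3 K → Cfsg.Geo.IsAdjointClosedFor (Cfsg.hermForm 6 F q) K → Cfsg.Geo.IsMaximalIn (Cfsg.GU 6 F q ⊓ Cfsg.Geo.specialLinear (Fin 6) F) (Cfsg.Geo.subalgebraNormalizer K ⊓ (Cfsg.GU 6 F q ⊓ Cfsg.Geo.specialLinear (Fin 6) F))) ∧
    (3 ≤ q → ∀ (e : Fin 6 ≃ Fin 2 × Fin 3) (P : Matrix.GeneralLinearGroup (Fin 6) F) (f₁ : (Fin 2 → F) → (Fin 2 → F) → F) (f₂ : (Fin 3 → F) → (Fin 3 → F) → F), Cfsg.Geo.IsUnitaryFormPow q f₁ → Cfsg.Geo.IsUnitaryFormPow q f₂ → Cfsg.Geo.IsTensorFormStructure (fun x : F => x ^ q) (Cfsg.hermForm 6 F q) f₁ f₂ e P → Cfsg.Geo.IsMaximalIn (Cfsg.GU 6 F q ⊓ Cfsg.Geo.specialLinear (Fin 6) F) (Cfsg.Geo.tensorProductSubgroup 2 3 e P ⊓ (Cfsg.GU 6 F q ⊓ Cfsg.Geo.specialLinear (Fin 6) F))) ∧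
    (∀ (F₀ : Subfield F) (r : ℕ) (P : Matrix.GeneralLinearGroup (Fin 6) F), r.Prime → Odd r → Fintype.card F = Nat.card F₀ ^ r → Cfsg.Geo.IsFormRationalStructure (Cfsg.hermForm 6 F q) F₀ 1 P → Cfsg.Geo.IsMaximalIn (Cfsg.GU 6 F q ⊓ Cfsg.Geo.specialLinear (Fin 6) F) (Cfsg.Geo.subfieldSubgroup F₀ P ⊓ (Cfsg.GU 6 F q ⊓ Cfsg.Geo.specialLinear (Fin 6) F))) ∧
    (∀ (F₀ : Subfield F) (P : Matrix.GeneralLinearGroup (Fin 6) F) (ζ : F), Fintype.card F = Nat.card F₀ ^ 2 → ζ ≠ 0 → ζ + ζ ^ q = 0 → Cfsg.Geo.IsFormRationalStructure (Cfsg.hermForm 6 F q) F₀ ζ P → (∀ u : Fin 6 → F, (∀ i, u i ∈ F₀) → (Cfsg.hermForm 6 F q) (Matrix.mulVec (P : Matrix (Fin 6) (Fin 6) F) u) (Matrix.mulVec (P : Matrix (Fin 6) (Fin 6) F) u) = 0) → Cfsg.Geo.IsMaximalIn (Cfsg.GU 6 F q ⊓ Cfsg.Geo.specialLinear (Fin 6) F) (Cfsg.Geo.subfieldSubgroup F₀ P ⊓ (Cfsg.GU 6 F q ⊓ Cfsg.Geo.specialLinear (Fin 6) F))) ∧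
    (Odd q → ∀ (F₀ : Subfield F) (P : Matrix.GeneralLinearGroup (Fin 6) F), Fintype.card F = Nat.card F₀ ^ 2 → Cfsg.Geo.IsFormRationalStructure (Cfsg.hermForm 6 F q) F₀ 1 P → Cfsg.Geo.IsMaximalIn (Cfsg.GU 6 F q ⊓ Cfsg.Geo.specialLinear (Fin 6) F) (Cfsg.Geo.subfieldSubgroup F₀ P ⊓ (Cfsg.GU 6 F q ⊓ Cfsg.Geo.specialLinear (Fin 6) F))) := by
  obtain ⟨C⟩ := CfsgLib.Perm.Trans.Unit.ctx_of_card hF
  have hU := CfsgLib.Perm.Trans.Unit.isUnitary_hermForm C (n := 6)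
  have h4 : 3 ≤ q → 4 < Fintype.card F := fun h => by
    rw [hF]
    calc 4 < 3 ^ 2 := by norm_num
      _ ≤ q ^ 2 := Nat.pow_le_pow_left h 2
  open CfsgLib.Perm.Trans in
  refine ⟨fun W h0 hW => GeomSU.singular_maximal_su hF le_rfl W h0 hW,
    fun W h0 hW hd => GeomSU.nondeg_maximal_su hF le_rfl W h0 hW hd,
    fun hq D hD => Unit.Dec.decomposition_maximal_six hU hD (h4 hq),
    fun hq D hD => GeomSU.decomposition_maximal_su hF le_rfl (fun h => absurd h (by norm_num)) (Or.inr hq) D hD,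
    fun D hD => GeomSU.decomposition_maximal_su hF le_rfl (fun h => absurd h (by norm_num)) (Or.inl (by norm_num)) D hD,
    fun D hD hts => GeomSU.pair_maximal_su hF le_rfl (by norm_num) D hD hts,
    fun hq K hK hac => Unit.Ext.extField_maximal hU Nat.prime_three (by decide) (by simp)
      (Or.inr fun h => absurd h.2 (by have := h4 hq; omega)) hK hac,
    fun hq e P f₁ f₂ hf₁ hf₂ hT => ?_,
    fun F₀ r P hr hro hc hP => ?_,
    fun F₀ P ζ hc hζ0 hζ hP halt => GeomSU.symp_subfield_maximal_su hF le_rfl F₀ P ζ hc hζ0 hζ hP halt,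
    fun hodd F₀ P hc hP => GeomSU.orth_subfield_maximal_su hF le_rfl hodd F₀ P hc hP⟩
  · obtain ⟨σ, hσ, hu, hu1, hu2, k, hk, hkσ, hpol⟩ :=
      CfsgLib.Perm.Trans.GeomSU.tensor_data_su hF (by norm_num) (by norm_num) e P f₁ f₂ hf₁ hf₂ hT
    refine CfsgLib.Perm.Trans.TensorHerm.unitary_tensor_two_three hu hu1 hu2 hk hkσ hpol (h4 hq) ?_
    classical
    by_contra hcon
    push Not at hcon
    have hall : ∀ x : Fˣ, x ^ (q + 1) = 1 := fun x => Units.ext (by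
      rw [Units.val_pow_eq_pow_val, Units.val_one, pow_succ, ← hσ, mul_comm]
      exact hcon _ (by rw [map_mul, hu.involutive, mul_comm]) (mul_ne_zero x.ne_zero (by simp)))
    have hdvd := Nat.le_of_dvd (by omega) ((FiniteField.forall_pow_eq_one_iff F (q + 1)).1 hall)
    rw [hF] at hdvd
    have := Nat.mul_le_mul_right q hq
    rw [sq] at hdvd
    omega
  · exact CfsgLib.Perm.Trans.Unit.herm_subfield_maximal_six
      { form := hU
        prime := hr
        two_lt := by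
          obtain ⟨k, hk⟩ := hro
          have := hr.two_le
          omega
        card := hc
        rat := fun a b => by
          have h := hP (fun i => (a i : F)) (fun i => (b i : F)) (fun i => (a i).2) (fun i => (b i).2)
          rw [one_mul] at h
          exact h } (by simp)

end Cfsg.Agent.S5801
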