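import Cfsg.Statements.S5802
-- import your own Cfsg.Agent.* helpers here
import Mathlib
import Cfsg.Agent.Lib.Perm.Asch.Forms.U62Frame
import Cfsg.Agent.Lib.Perm.Asch.Forms.U62Field

set_option autoImplicit false
set_option linter.all false
open Cfsg

namespace Cfsg.Agent.S5802

/-- Every maximal subgroup of SU_6(q) is of one of the listed geometric types or lies in the residual class. Let F be the field with q² elements, f the standard unitary form Σ u_i v_i^q on F^6, and H a maximal subgroup of SU_6(q) (inside GL_6(F)). Then H is the intersection with SU_6(q) of one of: the stabiliser of a non-zero totally isotropic subspace; the stabiliser of a non-degenerate 1- or 2-space; for q ≥ 3, the stabiliser of a decomposition into six mutually orthogonal non-degenerate 1-spaces; for q ≥ 3, of a decomposition into three mutually orthogonal non-degenerate 2-spaces; of a decomposition into two orthogonal non-degenerate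 3-spaces; of a decomposition into two totally isotropic 3-spaces; for q ≥ 3, the normaliser of an adjoint-closed degree-3 subfield of the matrix algebra; for q ≥ 3, the stabiliser of a tensor decomposition of f into unitary forms on F^2 and F^3; a subfield group of odd prime index whose F₀-structure carries f; a subfield group of index 2 and symplectic type; for q odd, a subfield group of index 2 and orthogonal type — or else H lies in the residual class of the unitary case. -/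
theorem result {F : Type*} [Field F] [Fintype F] (q : ℕ) (hF : Fintype.card F = q ^ 2) (H : Subgroup (Matrix.GeneralLinearGroup (Fin 6) F)) (hH : Cfsg.Geo.IsMaximalIn (Cfsg.GU 6 F q ⊓ Cfsg.Geo.specialLinear (Fin 6) F) H) :
    (∃ W : Submodule F (Fin 6 → F), W ≠ ⊥ ∧ Cfsg.Geo.IsTotallySingularFor (Cfsg.hermForm 6 F q) W ∧ H = Cfsg.Geo.subspaceStabilizer W ⊓ (Cfsg.GU 6 F q ⊓ Cfsg.Geo.specialLinear (Fin 6) F)) ∨
    (∃ W : Submodule F (Fin 6 → F), W ≠ ⊥ ∧ Cfsg.Geo.IsNondegenerateOn (Cfsg.hermForm 6 F q) W ∧ 2 * Module.finrank F W < 6 ∧ H = Cfsg.Geo.subspaceStabilizer W ⊓ (Cfsg.GU 6 F q ⊓ Cfsg.Geo.specialLinear (Fin 6) F)) ∨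
    (3 ≤ q ∧ ∃ D : Fin 6 → Submodule F (Fin 6 → F), Cfsg.Geo.IsNondegenerateMDecomposition (Cfsg.hermForm 6 F q) 1 D ∧ H = Cfsg.Geo.decompositionStabilizer D ⊓ (Cfsg.GU 6 F q ⊓ Cfsg.Geo.specialLinear (Fin 6) F)) ∨
    (3 ≤ q ∧ ∃ D : Fin 3 → Submodule F (Fin 6 → F), Cfsg.Geo.IsNondegenerateMDecomposition (Cfsg.hermForm 6 F q) 2 D ∧ H = Cfsg.Geo.decompositionStabilizer D ⊓ (Cfsg.GU 6 F q ⊓ Cfsg.Geo.specialLinear (Fin 6) F)) ∨
    (∃ D : Fin 2 → Submodule F (Fin 6 → F), Cfsg.Geo.IsNondegenerateMDecomposition (Cfsg.hermForm 6 F q) 3 D ∧ H = Cfsg.Geo.decompositionStabilizer D ⊓ (Cfsg.GU 6 F q ⊓ Cfsg.Geo.specialLinear (Fin 6) F)) ∨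
    (∃ D : Fin 2 → Submodule F (Fin 6 → F), Cfsg.Geo.IsMDecomposition 3 D ∧ (∀ i, Cfsg.Geo.IsTotallySingularFor (Cfsg.hermForm 6 F q) (D i)) ∧ H = Cfsg.Geo.decompositionStabilizer D ⊓ (Cfsg.GU 6 F q ⊓ Cfsg.Geo.specialLinear (Fin 6) F)) ∨
    (3 ≤ q ∧ ∃ K : Subalgebra F (Matrix (Fin 6) (Fin 6) F), Cfsg.Geo.IsFieldSubalgebra 3 K ∧ Cfsg.Geo.IsAdjointClosedFor (Cfsg.hermForm 6 F q) K ∧ H = Cfsg.Geo.subalgebraNormalizer K ⊓ (Cfsg.GU 6 F q ⊓ Cfsg.Geo.specialLinear (Fin 6) F)) ∨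
    (3 ≤ q ∧ ∃ (e : Fin 6 ≃ Fin 2 × Fin 3) (P : Matrix.GeneralLinearGroup (Fin 6) F) (f₁ : (Fin 2 → F) → (Fin 2 → F) → F) (f₂ : (Fin 3 → F) → (Fin 3 → F) → F), Cfsg.Geo.IsUnitaryFormPow q f₁ ∧ Cfsg.Geo.IsUnitaryFormPow q f₂ ∧ Cfsg.Geo.IsTensorFormStructure (fun x : F => x ^ q) (Cfsg.hermForm 6 F q) f₁ f₂ e P ∧ H = Cfsg.Geo.tensorProductSubgroup 2 3 e P ⊓ (Cfsg.GU 6 F q ⊓ Cfsg.Geo.specialLinear (Fin 6) F)) ∨
    (∃ (F₀ : Subfield F) (r : ℕ) (P : Matrix.GeneralLinearGroup (Fin 6) F), r.Prime ∧ Odd r ∧ Fintype.card F = Nat.card F₀ ^ r ∧ Cfsg.Geo.IsFormRationalStructure (Cfsg.hermForm 6 F q) F₀ 1 P ∧ H = Cfsg.Geo.subfieldSubgroup F₀ P ⊓ (Cfsg.GU 6 F q ⊓ Cfsg.Geo.specialLinear (Fin 6) F)) ∨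
    (∃ (F₀ : Subfield F) (P : Matrix.GeneralLinearGroup (Fin 6) F) (ζ : F), Fintype.card F = Nat.card F₀ ^ 2 ∧ ζ ≠ 0 ∧ ζ + ζ ^ q = 0 ∧ Cfsg.Geo.IsFormRationalStructure (Cfsg.hermForm 6 F q) F₀ ζ P ∧ (∀ u : Fin 6 → F, (∀ i, u i ∈ F₀) → (Cfsg.hermForm 6 F q) (Matrix.mulVec (P : Matrix (Fin 6) (Fin 6) F) u) (Matrix.mulVec (P : Matrix (Fin 6) (Fin 6) F) u) = 0) ∧ H = Cfsg.Geo.subfieldSubgroup F₀ P ⊓ (Cfsg.GU 6 F q ⊓ Cfsg.Geo.specialLinear (Fin 6) F)) ∨
    (Odd q ∧ ∃ (F₀ : Subfield F) (P : Matrix.GeneralLinearGroup (Fin 6) F), Fintype.card F = Nat.card F₀ ^ 2 ∧ Cfsg.Geo.IsFormRationalStructure (Cfsg.hermForm 6 F q) F₀ 1 P ∧ H = Cfsg.Geo.subfieldSubgroup F₀ P ⊓ (Cfsg.GU 6 F q ⊓ Cfsg.Geo.specialLinear (Fin 6) F)) ∨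
    Cfsg.Geo.InUnitaryResidualClass H := by
  rcases CfsgLib.Perm.Asch.su_max hF (by norm_num) hH with
    @⟨W, h0, hs, h⟩ | @⟨W, h0, hn, hd, h⟩ | @⟨t, k, D, ht, htk, h2, hD, h⟩ | @⟨k, D, hk, hD, hs, h⟩ | hodd |
    @⟨hq, horth⟩ | @⟨hev, hsymp⟩ | @⟨r, R, p, e, k, hR, ha, hs, hrp, hm, hI, hk, hcases, h⟩ | @⟨r, K, hr, hro, hdvd, hK, ha, h⟩ |
    @⟨n₁, n₂, e, P, f₁, f₂, hn1, h12, hn, hq, h₁, h₂, hs, h⟩ | @⟨k, t, e, P, f₁, hk, ht, hn, hex, h₁, hs, h⟩ | hres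
  · exact Or.inl (⟨W, h0, hs, h⟩)
  · exact Or.inr (Or.inl (⟨W, h0, hn, hd, h⟩))
  · have htle : t ≤ 6 := Nat.le_of_dvd (by norm_num) ⟨k, htk.symm⟩
    interval_cases t <;> try omega
    · obtain rfl : k = 3 := by omega
      exact Or.inr (Or.inr (Or.inr (Or.inr (Or.inl (⟨D, hD, h⟩)))))
    · obtain rfl : k = 2 := by omega
      exact Or.inr (Or.inr (Or.inr (Or.inl (⟨h2 rfl, D, hD, h⟩))))
    · obtain rfl : k = 1 := by omega
      by_cases hq2 : q = 2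
      · subst hq2
        exact (CfsgLib.Perm.Asch.U62.frame_not_maximal hF hH hD h).elim
      · refine Or.inr (Or.inr (Or.inl ⟨?_, D, hD, h⟩))
        obtain ⟨σ, hu⟩ := CfsgLib.Perm.Asch.exists_uconj hF
        have := hu.two_le
        omega
  · obtain rfl : k = 3 := by omega
    exact Or.inr (Or.inr (Or.inr (Or.inr (Or.inr (Or.inl (⟨D, hD, hs, h⟩))))))
  · exact Or.inr (Or.inr (Or.inr (Or.inr (Or.inr (Or.inr (Or.inr (Or.inr (Or.inl (hodd)))))))))
  · exact Or.inr (Or.inr (Or.inr (Or.inr (Or.inr (Or.inr (Or.inr (Or.inr (Or.inr (Or.inr (Or.inl (⟨hq, horth⟩)))))))))))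
  · exact Or.inr (Or.inr (Or.inr (Or.inr (Or.inr (Or.inr (Or.inr (Or.inr (Or.inr (Or.inl (hsymp))))))))))
  · have hr := hR.prime
    exfalso
    have hk0 : k ≠ 0 := by
      rintro rfl
      norm_num at hk
    have hdvd : r ∣ 6 := hk ▸ dvd_pow_self r hk0
    have hrle : r ≤ 6 := Nat.le_of_dvd (by norm_num) hdvd
    have := hr.two_le
    interval_cases r <;> (try first | (norm_num at hr; done) | (norm_num at hdvd; done) | omega)
    · have hk3 : k ≤ 2 := by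
        by_contra hcon
        have := Nat.pow_le_pow_right (show 1 ≤ 2 by norm_num) (show 3 ≤ k by omega)
        omega
      interval_cases k <;> omega
    · have hk3 : k ≤ 1 := by
        by_contra hcon
        have := Nat.pow_le_pow_right (show 1 ≤ 3 by norm_num) (show 2 ≤ k by omega)
        omega
      interval_cases k <;> omega
  · have hrle : r ≤ 6 := Nat.le_of_dvd (by norm_num) hdvd
    have := hr.two_le
    interval_cases r <;> (try first | omega | (norm_num at hr; done) | exact absurd hro (by decide))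
    · by_cases hq2 : q = 2
      · subst hq2
        exact (CfsgLib.Perm.Asch.U62.field_not_maximal hF hH hK ha h).elim
      · refine Or.inr (Or.inr (Or.inr (Or.inr (Or.inr (Or.inr (Or.inl ⟨?_, K, hK, ha, h⟩))))))
        obtain ⟨σ, hu⟩ := CfsgLib.Perm.Asch.exists_uconj hF
        have := hu.two_le
        omega
  · have hle : n₁ ≤ 6 := Nat.le_of_dvd (by norm_num) ⟨n₂, hn.symm⟩
    interval_cases n₁ <;> try omega
    · obtain rfl : n₂ = 3 := by omega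
      exact Or.inr (Or.inr (Or.inr (Or.inr (Or.inr (Or.inr (Or.inr (Or.inl (⟨hq rfl, e, P, f₁, f₂, h₁, h₂, hs, h⟩))))))))
  · have hkle : k ≤ 6 := Nat.le_of_dvd (by norm_num) (hn ▸ dvd_pow_self k (by omega))
    have ht2 : t ≤ 2 := by
      by_contra hcon
      have h3 : k ^ 3 ≤ k ^ t := Nat.pow_le_pow_right (by omega) (by omega)
      have h27 : 3 ^ 3 ≤ k ^ 3 := Nat.pow_le_pow_left hk 3
      omega
    obtain rfl : t = 2 := by omega
    interval_cases k <;> norm_num at hn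
  · exact Or.inr (Or.inr (Or.inr (Or.inr (Or.inr (Or.inr (Or.inr (Or.inr (Or.inr (Or.inr (Or.inr (hres)))))))))))

end Cfsg.Agent.S5802
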