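import Cfsg.Statements.S5805
import Cfsg.Agent.Lib.Perm.Asch.Forms.SpCases
-- import your own Cfsg.Agent.* helpers here

set_option autoImplicit false
open Cfsg

namespace Cfsg.Agent.S5805

/-- Every maximal subgroup of Sp_6(q) is of one of the listed geometric types or lies in the residual class. Let F be a finite field with q elements, f the standard alternating form on F^6 (coordinates Fin 3 ⊕ Fin 3), and H a maximal subgroup of Sp_6(F) (inside GL_6(F)). Then H is the intersection with Sp_6(F) of one of: the stabiliser of a non-zero totally isotropic subspace; the stabiliser of a non-degenerate 2-space; for q ≥ 3, the stabiliser of a decomposition into three mutually orthogonal non-degenerate 2-spaces; for q odd, of a decomposition into two totally isotropic 3-spaces; the normaliser of a degree-3 subfield K of the matrix algebra, self-adjoint with f(k v, v) = 0; for q odd,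 the normaliser of a degree-2 subfield closed under adjoints but not self-adjoint; for q odd, q ≥ 5, the stabiliser of a tensor decomposition of f into an alternating form on F^2 and a symmetric form on F^3; a subfield group (|F| = |F₀|^r, r prime) whose F₀-structure carries a non-zero multiple of f; for q even, the similarity group of a non-degenerate quadratic form polarising to f — or else H lies in the residual class of the symplectic case. -/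
theorem result {F : Type*} [Field F] [Fintype F] (H : Subgroup (Matrix.GeneralLinearGroup (Fin 3 ⊕ Fin 3) F)) (hH : Cfsg.Geo.IsMaximalIn (Cfsg.spGL 3 F) H) :
    (∃ W : Submodule F (Fin 3 ⊕ Fin 3 → F), W ≠ ⊥ ∧ Cfsg.Geo.IsTotallySingularFor (Cfsg.sympForm 3 F) W ∧ H = Cfsg.Geo.subspaceStabilizer W ⊓ Cfsg.spGL 3 F) ∨
    (∃ W : Submodule F (Fin 3 ⊕ Fin 3 → F), W ≠ ⊥ ∧ Cfsg.Geo.IsNondegenerateOn (Cfsg.sympForm 3 F) W ∧ Module.finrank F W < 3 ∧ H = Cfsg.Geo.subspaceStabilizer W ⊓ Cfsg.spGL 3 F) ∨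
    (3 ≤ Fintype.card F ∧ ∃ D : Fin 3 → Submodule F (Fin 3 ⊕ Fin 3 → F), Cfsg.Geo.IsNondegenerateMDecomposition (Cfsg.sympForm 3 F) 2 D ∧ H = Cfsg.Geo.decompositionStabilizer D ⊓ Cfsg.spGL 3 F) ∨
    (Odd (Fintype.card F) ∧ ∃ D : Fin 2 → Submodule F (Fin 3 ⊕ Fin 3 → F), Cfsg.Geo.IsMDecomposition 3 D ∧ (∀ i, Cfsg.Geo.IsTotallySingularFor (Cfsg.sympForm 3 F) (D i)) ∧ H = Cfsg.Geo.decompositionStabilizer D ⊓ Cfsg.spGL 3 F) ∨
    (∃ K : Subalgebra F (Matrix (Fin 3 ⊕ Fin 3) (Fin 3 ⊕ Fin 3) F), Cfsg.Geo.IsFieldSubalgebra 3 K ∧ Cfsg.Geo.IsSelfAdjointFor (Cfsg.sympForm 3 F) K ∧ (∀ k ∈ K, ∀ v : (Fin 3 ⊕ Fin 3 → F), (Cfsg.sympForm 3 F) (Matrix.mulVec k v) v = 0) ∧ H = Cfsg.Geo.subalgebraNormalizer K ⊓ Cfsg.spGL 3 F) ∨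
    (Odd (Fintype.card F) ∧ ∃ K : Subalgebra F (Matrix (Fin 3 ⊕ Fin 3) (Fin 3 ⊕ Fin 3) F), Cfsg.Geo.IsFieldSubalgebra 2 K ∧ Cfsg.Geo.IsAdjointClosedFor (Cfsg.sympForm 3 F) K ∧ ¬ Cfsg.Geo.IsSelfAdjointFor (Cfsg.sympForm 3 F) K ∧ H = Cfsg.Geo.subalgebraNormalizer K ⊓ Cfsg.spGL 3 F) ∨
    (Odd (Fintype.card F) ∧ 5 ≤ Fintype.card F ∧ ∃ (e : (Fin 3 ⊕ Fin 3) ≃ Fin 2 × Fin 3) (P : Matrix.GeneralLinearGroup (Fin 3 ⊕ Fin 3) F) (f₁ : (Fin 2 → F) → (Fin 2 → F) → F) (f₂ : (Fin 3 → F) → (Fin 3 → F) → F), Cfsg.Geo.IsSymplecticForm f₁ ∧ Cfsg.Geo.IsSymmetricForm f₂ ∧ Cfsg.Geo.IsTensorFormStructure id (Cfsg.sympForm 3 F) f₁ f₂ e P ∧ H = Cfsg.Geo.tensorProductSubgroup 2 3 e P ⊓ Cfsg.spGL 3 F) ∨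
    (∃ (F₀ : Subfield F) (r : ℕ) (P : Matrix.GeneralLinearGroup (Fin 3 ⊕ Fin 3) F) (ζ : F), r.Prime ∧ Fintype.card F = Nat.card F₀ ^ r ∧ ζ ≠ 0 ∧ Cfsg.Geo.IsFormRationalStructure (Cfsg.sympForm 3 F) F₀ ζ P ∧ H = Cfsg.Geo.subfieldSubgroup F₀ P ⊓ Cfsg.spGL 3 F) ∨
    (¬ Odd (Fintype.card F) ∧ ∃ Q : (Fin 3 ⊕ Fin 3 → F) → F, Cfsg.Geo.IsNondegenerateQuadraticForm Q ∧ (∀ u v : (Fin 3 ⊕ Fin 3 → F), QuadraticMap.polar Q u v = (Cfsg.sympForm 3 F) u v) ∧ H = Cfsg.Geo.quadSimilarityGroup Q ⊓ Cfsg.spGL 3 F) ∨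
    Cfsg.Geo.InSymplecticResidualClass H := by
  rcases CfsgLib.Perm.Asch.sp_max (by norm_num) hH with
    @⟨W, h0, hs, h⟩ | @⟨W, h0, hn, hd, he, h⟩ | @⟨t, k, D, ht, htk, hk, h2, hD, h⟩ | @⟨D, hq, h5, hD, hs, h⟩ | hsub |
    @⟨R, p, k, hp, hpo, hc, hR, ha, hs, hcard, hz, hm, hk, h⟩ | @⟨Q, hq, hQ, hp, h⟩ |
    @⟨r, K, hr, hdvd, hK, hs, hv, h⟩ | @⟨K, hq, h5, hK, ha, hns, h⟩ |
    @⟨n₁, n₂, e, P, f₁, f₂, hq, hn, he, h3, h5, hplus, h₁, h₂, hs, h⟩ | @⟨k, t, e, P, f₁, hq, hn, h3, h5, h₁, hs, h⟩ | hres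
  · exact Or.inl (⟨W, h0, hs, h⟩)
  · exact Or.inr (Or.inl (⟨W, h0, hn, hd, h⟩))
  · obtain ⟨j, rfl⟩ := hk
    have htb : t * j = 3 := by
      rw [Nat.mul_add] at htk
      omega
    have htle : t ≤ 3 := Nat.le_of_dvd (by norm_num) ⟨j, htb.symm⟩
    interval_cases t <;> try omega
    · obtain rfl : j = 1 := by omega
      exact Or.inr (Or.inr (Or.inl (⟨h2 rfl, D, hD, h⟩)))
  · exact Or.inr (Or.inr (Or.inr (Or.inl (⟨hq, D, hD, hs, h⟩))))
  · exact Or.inr (Or.inr (Or.inr (Or.inr (Or.inr (Or.inr (Or.inr (Or.inl (hsub))))))))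
  · exfalso
    rcases Nat.lt_or_ge k 4 with hk4 | hk4
    · interval_cases k <;> norm_num at hk
    · have := Nat.pow_le_pow_right (show 1 ≤ 2 by norm_num) hk4
      omega
  · exact Or.inr (Or.inr (Or.inr (Or.inr (Or.inr (Or.inr (Or.inr (Or.inr (Or.inl (⟨hq, Q, hQ, hp, h⟩)))))))))
  · have hrle : r ≤ 3 := Nat.le_of_dvd (by norm_num) hdvd
    have := hr.two_le
    interval_cases r <;> try first | omega | (norm_num at hr)
    · exact Or.inr (Or.inr (Or.inr (Or.inr (Or.inl (⟨K, hK, hs, hv, h⟩)))))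
  · exact Or.inr (Or.inr (Or.inr (Or.inr (Or.inr (Or.inl (⟨hq, K, hK, ha, hns, h⟩))))))
  · obtain ⟨j, rfl⟩ := he
    have hjn : j * n₂ = 3 := by
      rw [Nat.add_mul] at hn
      omega
    have hjle : j ≤ 3 := Nat.le_of_dvd (by norm_num) ⟨n₂, hjn.symm⟩
    interval_cases j <;> try omega
    · obtain rfl : n₂ = 3 := by omega
      exact Or.inr (Or.inr (Or.inr (Or.inr (Or.inr (Or.inr (Or.inl (⟨hq, h5 rfl, e, P, f₁, f₂, h₁, h₂, hs, h⟩)))))))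
  · obtain ⟨j, rfl⟩ := CfsgLib.Perm.Asch.isSymplecticForm_even h₁
    have hj1 : 1 ≤ j := by
      by_contra hj
      obtain rfl : j = 0 := by omega
      rw [add_zero, zero_pow (by omega)] at hn
      omega
    have h8 : (j + j) ^ 3 ≤ 6 := (Nat.pow_le_pow_right (by omega) h3).trans (hn.trans (by norm_num)).le
    exfalso
    nlinarith [sq_nonneg j]
  · exact Or.inr (Or.inr (Or.inr (Or.inr (Or.inr (Or.inr (Or.inr (Or.inr (Or.inr ((hres))))))))))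

end Cfsg.Agent.S5805
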