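import Cfsg.Statements.S5808
import Cfsg.Agent.Lib.Perm.Asch.Cases

set_option autoImplicit false
open Cfsg

namespace Cfsg.Agent.S5808

/-- Every maximal subgroup of SL_7(q) is of one of the listed geometric types or lies in the residual class. Let F be a finite field with q elements (p its characteristic) and H a maximal subgroup of SL_7(F) (inside GL_7(F)). Then H is the intersection with SL_7(F) of one of: the stabiliser of a proper non-zero subspace; for q ≥ 5, the stabiliser of a decomposition into 7 independent 1-spaces; the normaliser of a degree-7 subfield of the matrix algebra; a subfield group for a subfield F₀ with |F| = |F₀|^r, r prime; for q = p prime with p ≡ 1 mod 7, or q = p³ with p ≡ 2 or 4 mod 7, the normaliser of an absolutely irreducible 7-subgroup R of exponent 7 and order 7^(1+2m) with centre of order 7, all of whose characteristic abelian subgroups are cyclic, F being the smallest field of characteristic p containing the seventh roots of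 unity (here R is extraspecial of order 343); for q odd, the similarity group of a non-degenerate quadratic form; the similarity group of a non-degenerate unitary form — or else H lies in the residual class of the linear case (modulo scalars H is almost simple, with absolutely irreducible perfect socle preimage realisable over no proper subfield and fixing no non-degenerate quadratic, symplectic or unitary form). -/
theorem result {F : Type*} [Field F] [Fintype F] (H : Subgroup (Matrix.GeneralLinearGroup (Fin 7) F)) (hH : Cfsg.Geo.IsMaximalIn (Cfsg.Geo.specialLinear (Fin 7) F) H) :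
    (∃ W : Submodule F (Fin 7 → F), W ≠ ⊥ ∧ W ≠ ⊤ ∧ H = Cfsg.Geo.subspaceStabilizer W ⊓ Cfsg.Geo.specialLinear (Fin 7) F) ∨
    (5 ≤ Fintype.card F ∧ ∃ D : Fin 7 → Submodule F (Fin 7 → F), Cfsg.Geo.IsMDecomposition 1 D ∧ H = Cfsg.Geo.decompositionStabilizer D ⊓ Cfsg.Geo.specialLinear (Fin 7) F) ∨
    (∃ K : Subalgebra F (Matrix (Fin 7) (Fin 7) F), Cfsg.Geo.IsFieldSubalgebra 7 K ∧ H = Cfsg.Geo.subalgebraNormalizer K ⊓ Cfsg.Geo.specialLinear (Fin 7) F) ∨
    (∃ (F₀ : Subfield F) (r : ℕ) (P : Matrix.GeneralLinearGroup (Fin 7) F), r.Prime ∧ Fintype.card F = Nat.card F₀ ^ r ∧ H = Cfsg.Geo.subfieldSubgroup F₀ P ⊓ Cfsg.Geo.specialLinear (Fin 7) F) ∨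
    ((∃ p : ℕ, p.Prime ∧ CharP F p ∧ ((Fintype.card F = p ∧ p % 7 = 1) ∨ (Fintype.card F = p ^ 3 ∧ (p % 7 = 2 ∨ p % 7 = 4)))) ∧ ∃ R : Subgroup (Matrix.GeneralLinearGroup (Fin 7) F), Cfsg.Geo.IsLinearSymplecticTypeData 7 R ∧ H = Cfsg.Geo.subgroupNormalizer R ⊓ Cfsg.Geo.specialLinear (Fin 7) F) ∨
    (Odd (Fintype.card F) ∧ ∃ Q : (Fin 7 → F) → F, Cfsg.Geo.IsNondegenerateQuadraticForm Q ∧ H = Cfsg.Geo.quadSimilarityGroup Q ⊓ Cfsg.Geo.specialLinear (Fin 7) F) ∨
    (∃ (σ : F ≃+* F) (f : (Fin 7 → F) → (Fin 7 → F) → F), Cfsg.Geo.IsUnitaryForm σ f ∧ H = Cfsg.Geo.similarityGroup f ⊓ Cfsg.Geo.specialLinear (Fin 7) F) ∨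
    Cfsg.Geo.InLinearResidualClass H := by
  rcases CfsgLib.Perm.Asch.max_cases (by norm_num) hH with ⟨W, h0, h1, h⟩ | ⟨t, m, D, hD, htm, h1, h14, h2, h22, h⟩ |
    ⟨r, K, hr, hdvd, hK, h34, h⟩ | ⟨n₁, n₂, e, P, h2, hlt, hnn, hq, h⟩ | h | ⟨r, R, hR, hf, h⟩ | ⟨m, t, e, P, hm, ht, hnn, h⟩ |
    ⟨f, hf, he, h⟩ | h | h | h
  · exact Or.inl (⟨W, h0, h1, h⟩)
  · have ht2 := hD.two_le
    have htn : t ≤ 7 := Nat.le_of_dvd (by norm_num) ⟨m, htm.symm⟩
    interval_cases t <;> try omega
    · obtain rfl : m = 1 := by omega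
      exact Or.inr (Or.inl (⟨h1 rfl, D, hD, h⟩))
  · have hrn : r ≤ 7 := Nat.le_of_dvd (by norm_num) hdvd
    have hr2 := hr.two_le
    have hrs : r = 7 := by interval_cases r <;> first | omega | norm_num at hr
    subst hrs
    exact Or.inr (Or.inr (Or.inl (⟨K, hK, h⟩)))
  · have hle : n₁ ≤ 7 := Nat.le_of_dvd (by norm_num) ⟨n₂, hnn.symm⟩
    exfalso
    interval_cases n₁ <;> omega
  · exact Or.inr (Or.inr (Or.inr (Or.inl (h))))
  · obtain rfl := hf.eq_of_dvd (q := 7) (by norm_num) (by norm_num)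
    obtain ⟨-, -, p, e, hp, hcp, hcard, ⟨-, ho, hd, hm, hne⟩ | ⟨h2, -, -⟩⟩ := hf
    swap
    · norm_num at h2
    refine Or.inr (Or.inr (Or.inr (Or.inr (Or.inl (⟨⟨p, hp, hcp, ?_⟩, R, hR, h⟩)))))
    have := Nat.le_of_dvd (by norm_num) hd
    obtain ⟨k, rfl⟩ := ho
    have hk : k ≤ 4 := by omega
    interval_cases k <;> first | omega | skip
    · exact Or.inl ⟨by simpa using hcard, by simpa using hm⟩
    · refine Or.inr ⟨hcard, ?_⟩
      have key : ∀ a < 7, a ^ 3 % 7 = 1 → a ≠ 1 → a = 2 ∨ a = 4 := by decide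
      exact key (p % 7) (Nat.mod_lt _ (by norm_num)) (by rw [← Nat.pow_mod]; exact hm) (hne (by norm_num))
  · have hm3 : m ^ 2 ≤ 7 := hnn ▸ Nat.pow_le_pow_right (by omega) ht
    have hmb : m ≤ 3 := by nlinarith
    obtain rfl : m = 3 := by omega
    have htb : t ≤ 2 := by
      by_contra hlt
      have := Nat.pow_le_pow_right (show 1 ≤ 3 by norm_num) (show 3 ≤ t by omega)
      omega
    obtain rfl : t = 2 := by omega
    norm_num at hnn
  · exact absurd he (by decide)
  · exact Or.inr (Or.inr (Or.inr (Or.inr (Or.inr (Or.inr (Or.inl (h)))))))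
  · exact Or.inr (Or.inr (Or.inr (Or.inr (Or.inr (Or.inl (h))))))
  · exact Or.inr (Or.inr (Or.inr (Or.inr (Or.inr (Or.inr (Or.inr (h)))))))

end Cfsg.Agent.S5808
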