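import Cfsg.Statements.S5811
import Cfsg.Agent.Lib.Perm.Asch.Forms.UCases
-- import your own Cfsg.Agent.* helpers here

set_option autoImplicit false
open Cfsg

namespace Cfsg.Agent.S5811

/-- Every maximal subgroup of SU_7(q) is of one of the listed geometric types or lies in the residual class. Let F be the field with q² elements (characteristic p), f the standard unitary form Σ u_i v_i^q on F^7, and H a maximal subgroup of SU_7(q) (inside GL_7(F)). Then H is the intersection with SU_7(q) of one of: the stabiliser of a non-zero totally isotropic subspace; the stabiliser of a non-degenerate 1-, 2- or 3-space; the stabiliser of a decomposition into seven mutually orthogonal non-degenerate 1-spaces; the normaliser of an adjoint-closed degree-7 subfield of the matrix algebra; a subfield group of odd prime index whose F₀-structure carries f; for q odd, a subfield group of index 2 whose F₀-structure carries f; for q = p prime with p ≡ 6 mod 7, or q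 = p³ with p ≡ 3 or 5 mod 7, the normaliser of an absolutely irreducible 7-group R of exponent 7, order 343 and centre of order 7, all of whose characteristic abelian subgroups are cyclic, contained in the similarity group of f — or else H lies in the residual class of the unitary case (modulo scalars H is almost simple, with absolutely irreducible perfect socle preimage realisable over no proper subfield and fixing no non-degenerate quadratic or symplectic form). -/
theorem result {F : Type*} [Field F] [Fintype F] (q : ℕ) (hF : Fintype.card F = q ^ 2) (H : Subgroup (Matrix.GeneralLinearGroup (Fin 7) F)) (hH : Cfsg.Geo.IsMaximalIn (Cfsg.GU 7 F q ⊓ Cfsg.Geo.specialLinear (Fin 7) F) H) :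
    (∃ W : Submodule F (Fin 7 → F), W ≠ ⊥ ∧ Cfsg.Geo.IsTotallySingularFor (Cfsg.hermForm 7 F q) W ∧ H = Cfsg.Geo.subspaceStabilizer W ⊓ (Cfsg.GU 7 F q ⊓ Cfsg.Geo.specialLinear (Fin 7) F)) ∨
    (∃ W : Submodule F (Fin 7 → F), W ≠ ⊥ ∧ Cfsg.Geo.IsNondegenerateOn (Cfsg.hermForm 7 F q) W ∧ 2 * Module.finrank F W < 7 ∧ H = Cfsg.Geo.subspaceStabilizer W ⊓ (Cfsg.GU 7 F q ⊓ Cfsg.Geo.specialLinear (Fin 7) F)) ∨
    (∃ D : Fin 7 → Submodule F (Fin 7 → F), Cfsg.Geo.IsNondegenerateMDecomposition (Cfsg.hermForm 7 F q) 1 D ∧ H = Cfsg.Geo.decompositionStabilizer D ⊓ (Cfsg.GU 7 F q ⊓ Cfsg.Geo.specialLinear (Fin 7) F)) ∨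
    (∃ K : Subalgebra F (Matrix (Fin 7) (Fin 7) F), Cfsg.Geo.IsFieldSubalgebra 7 K ∧ Cfsg.Geo.IsAdjointClosedFor (Cfsg.hermForm 7 F q) K ∧ H = Cfsg.Geo.subalgebraNormalizer K ⊓ (Cfsg.GU 7 F q ⊓ Cfsg.Geo.specialLinear (Fin 7) F)) ∨
    (∃ (F₀ : Subfield F) (r : ℕ) (P : Matrix.GeneralLinearGroup (Fin 7) F), r.Prime ∧ Odd r ∧ Fintype.card F = Nat.card F₀ ^ r ∧ Cfsg.Geo.IsFormRationalStructure (Cfsg.hermForm 7 F q) F₀ 1 P ∧ H = Cfsg.Geo.subfieldSubgroup F₀ P ⊓ (Cfsg.GU 7 F q ⊓ Cfsg.Geo.specialLinear (Fin 7) F)) ∨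
    (Odd q ∧ ∃ (F₀ : Subfield F) (P : Matrix.GeneralLinearGroup (Fin 7) F), Fintype.card F = Nat.card F₀ ^ 2 ∧ Cfsg.Geo.IsFormRationalStructure (Cfsg.hermForm 7 F q) F₀ 1 P ∧ H = Cfsg.Geo.subfieldSubgroup F₀ P ⊓ (Cfsg.GU 7 F q ⊓ Cfsg.Geo.specialLinear (Fin 7) F)) ∨
    (∃ (p : ℕ) (R : Subgroup (Matrix.GeneralLinearGroup (Fin 7) F)), p.Prime ∧ CharP F p ∧ ((q = p ∧ p % 7 = 6) ∨ (q = p ^ 3 ∧ (p % 7 = 3 ∨ p % 7 = 5))) ∧ Cfsg.Geo.IsSymplecticTypeGroup 7 R ∧ Cfsg.Geo.ActsAbsolutelyIrreducibly (Cfsg.Geo.matrixSet R) ∧ R ≤ Cfsg.Geo.similarityGroup (Cfsg.hermForm 7 F q) ∧ Nat.card R = 343 ∧ Nat.card (Subgroup.center R) = 7 ∧ H = Cfsg.Geo.subgroupNormalizer R ⊓ (Cfsg.GU 7 F q ⊓ Cfsg.Geo.specialLinear (Fin 7) F)) ∨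
    Cfsg.Geo.InUnitaryResidualClass H := by
  rcases CfsgLib.Perm.Asch.su_max hF (by norm_num) hH with
    @⟨W, h0, hs, h⟩ | @⟨W, h0, hn, hd, h⟩ | @⟨t, k, D, ht, htk, h2, hD, h⟩ | @⟨k, D, hk, hD, hs, h⟩ | hodd |
    @⟨hq, horth⟩ | @⟨hev, hsymp⟩ | @⟨r, R, p, e, k, hR, ha, hs, hrp, hm, hI, hk, hcases, h⟩ | @⟨r, K, hr, hro, hdvd, hK, ha, h⟩ |
    @⟨n₁, n₂, e, P, f₁, f₂, hn1, h12, hn, hq, h₁, h₂, hs, h⟩ | @⟨k, t, e, P, f₁, hk, ht, hn, hex, h₁, hs, h⟩ | hres
  · exact Or.inl (⟨W, h0, hs, h⟩)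
  · exact Or.inr (Or.inl (⟨W, h0, hn, hd, h⟩))
  · have htle : t ≤ 7 := Nat.le_of_dvd (by norm_num) ⟨k, htk.symm⟩
    interval_cases t <;> try omega
    · obtain rfl : k = 1 := by omega
      exact Or.inr (Or.inr (Or.inl (⟨D, hD, h⟩)))
  · omega
  · exact Or.inr (Or.inr (Or.inr (Or.inr (Or.inl (hodd)))))
  · exact Or.inr (Or.inr (Or.inr (Or.inr (Or.inr (Or.inl (⟨hq, horth⟩))))))
  · exact absurd hev (by decide)
  · have hr := hR.prime
    have hrle : r ≤ 7 := by
      rcases Nat.eq_zero_or_pos k with rfl | hk0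
      · omega
      · exact Nat.le_of_dvd (by norm_num) (hk ▸ dvd_pow_self r (by omega))
    have hk4 : k ≤ 4 := by
      by_contra hcon
      have h2k : 2 ^ k ≤ r ^ k := Nat.pow_le_pow_left hr.two_le k
      have : 2 ^ 5 ≤ 2 ^ k := Nat.pow_le_pow_right (by norm_num) (by omega)
      omega
    have := hr.two_le
    interval_cases k <;> interval_cases r <;> (try first | omega | (norm_num at hr; done) | exact absurd hro (by decide))
    rcases hcases with ⟨-, hz, -, hcard⟩ | ⟨h2, -⟩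
    swap
    · norm_num at h2
    rw [hz] at hm
    obtain ⟨f, hf, hp, hcp, hqp, hdf, hpow, hord⟩ := CfsgLib.Perm.Asch.sym_cond_odd hF hr hrp hm
    have hv : p % 7 < 7 := Nat.mod_lt _ (by norm_num)
    have hfle : 2 * f ≤ 6 := Nat.le_of_dvd (by norm_num) hdf
    have hcond : (q = p ∧ p % 7 = 6) ∨ (q = p ^ 3 ∧ (p % 7 = 3 ∨ p % 7 = 5)) := by
      have hf1 : f = 1 ∨ f = 3 := by
        have hfh : f ≤ 3 := by omega
        interval_cases f <;> first | (left; rfl) | (right; rfl) | (norm_num at hdf)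
      generalize p % 7 = v at hv hpow hord ⊢
      rcases hf1 with rfl | rfl
      · refine Or.inl ⟨by simpa using hqp, ?_⟩
        interval_cases v <;> first | rfl | exact absurd hpow (by decide) | exact absurd (hord 1 (by decide)) (by decide)
      · refine Or.inr ⟨hqp, ?_⟩
        interval_cases v <;> first | omega | exact absurd hpow (by decide) | exact absurd (hord 2 (by decide)) (by decide) |
          exact absurd (hord 1 (by decide)) (by decide) | exact absurd (hord 3 (by decide)) (by decide)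
    exact Or.inr (Or.inr (Or.inr (Or.inr (Or.inr (Or.inr (Or.inl (⟨p, R, hp, hcp, hcond, hR, ha, hs, by rw [hcard]; norm_num, hz, h⟩)))))))
  · have hrle : r ≤ 7 := Nat.le_of_dvd (by norm_num) hdvd
    have := hr.two_le
    interval_cases r <;> (try first | omega | (norm_num at hr; done) | exact absurd hro (by decide))
    · exact Or.inr (Or.inr (Or.inr (Or.inl (⟨K, hK, ha, h⟩))))
  · have hle : n₁ ≤ 7 := Nat.le_of_dvd (by norm_num) ⟨n₂, hn.symm⟩
    interval_cases n₁ <;> try omega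
  · have hkle : k ≤ 7 := Nat.le_of_dvd (by norm_num) (hn ▸ dvd_pow_self k (by omega))
    have ht2 : t ≤ 2 := by
      by_contra hcon
      have h3 : k ^ 3 ≤ k ^ t := Nat.pow_le_pow_right (by omega) (by omega)
      have h27 : 3 ^ 3 ≤ k ^ 3 := Nat.pow_le_pow_left hk 3
      omega
    obtain rfl : t = 2 := by omega
    interval_cases k <;> norm_num at hn
  · exact Or.inr (Or.inr (Or.inr (Or.inr (Or.inr (Or.inr (Or.inr (hres)))))))

end Cfsg.Agent.S5811
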