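import Cfsg.Statements.S5825
import Cfsg.Agent.Lib.Perm.Trans.QuadMax
import Cfsg.Agent.Lib.Perm.Trans.QuadNondegEight
import Cfsg.Agent.Lib.Perm.Trans.QuadPoint
import Cfsg.Agent.Lib.Perm.Trans.QuadSubfSmall
import Cfsg.Agent.Lib.Perm.Trans.OrthExt.Max
import Cfsg.Agent.Lib.Perm.Trans.TensorOO.EvenMax

set_option autoImplicit false
open Cfsg

namespace Cfsg.Agent.S5825

/-- Maximal subgroups of Ω_8^-(q) of geometric type (any q). Let F be a finite field with q elements, Q a non-degenerate quadratic form on F^8 (non-degenerate polar form) of minus type (Witt index 3: no totally singular 4-space), and Ω = Ω_8^-(q) the commutator subgroup of the isometry group of Q, inside GL_8(F). Each of the following, intersected with Ω, is a maximal subgroup of Ω: (1) the stabiliser of any non-zero subspace on which Q vanishes identically (totally singular 1-, 2- and 3-spaces); (2) for q odd, the stabiliser of any proper subspace of odd dimension (1, 3, 5 or 7) on which the polar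 form of Q is non-degenerate; (3) the stabiliser of any non-degenerate 2-space of minus type (containing no non-zero singular vector); (4) for q ≥ 4, the stabiliser of any non-degenerate 2-space of plus type (containing a non-zero singular vector); (5) the stabiliser of any non-degenerate 4-space (its orthogonal complement is then a non-degenerate 4-space of the opposite type); (6) for q even, the stabiliser of the 1-space spanned by any non-singular vector v (Q(v) ≠ 0); (7) for q odd, the normaliser of any degree-2 subfield K of the matrix algebra whose elements are self-adjoint for the polar form of Q (Q is then the trace of a quadratic form over K); (8) every subfield group for a subfield F₀ of odd prime index r in F whose F₀-structure carries a non-zero scalar multiple of Q. -/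
theorem result {F : Type*} [Field F] [Fintype F] (Q : (Fin 8 → F) → F) (hQ : Cfsg.Geo.IsNondegenerateQuadraticForm Q) (hminus : ¬ Cfsg.Geo.IsPlusTypeOn Q ⊤) :
    (∀ W : Submodule F (Fin 8 → F), W ≠ ⊥ → Cfsg.Geo.IsTotallySingularQuad Q W → Cfsg.Geo.IsMaximalIn (Cfsg.Geo.omegaGL Q) (Cfsg.Geo.subspaceStabilizer W ⊓ Cfsg.Geo.omegaGL Q)) ∧
    (Odd (Fintype.card F) → ∀ W : Submodule F (Fin 8 → F), W ≠ ⊥ → W ≠ ⊤ → Odd (Module.finrank F W) → Cfsg.Geo.IsNondegenerateOn (QuadraticMap.polar Q) W → Cfsg.Geo.IsMaximalIn (Cfsg.Geo.omegaGL Q) (Cfsg.Geo.subspaceStabilizer W ⊓ Cfsg.Geo.omegaGL Q)) ∧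
    (∀ W : Submodule F (Fin 8 → F), Module.finrank F W = 2 → Cfsg.Geo.IsNondegenerateOn (QuadraticMap.polar Q) W → ¬ Cfsg.Geo.IsPlusTypeOn Q W → Cfsg.Geo.IsMaximalIn (Cfsg.Geo.omegaGL Q) (Cfsg.Geo.subspaceStabilizer W ⊓ Cfsg.Geo.omegaGL Q)) ∧
    (4 ≤ Fintype.card F → ∀ W : Submodule F (Fin 8 → F), Module.finrank F W = 2 → Cfsg.Geo.IsNondegenerateOn (QuadraticMap.polar Q) W → Cfsg.Geo.IsPlusTypeOn Q W → Cfsg.Geo.IsMaximalIn (Cfsg.Geo.omegaGL Q) (Cfsg.Geo.subspaceStabilizer W ⊓ Cfsg.Geo.omegaGL Q)) ∧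
    (∀ W : Submodule F (Fin 8 → F), Module.finrank F W = 4 → Cfsg.Geo.IsNondegenerateOn (QuadraticMap.polar Q) W → Cfsg.Geo.IsMaximalIn (Cfsg.Geo.omegaGL Q) (Cfsg.Geo.subspaceStabilizer W ⊓ Cfsg.Geo.omegaGL Q)) ∧
    (¬ Odd (Fintype.card F) → ∀ v : (Fin 8 → F), Q v ≠ 0 → Cfsg.Geo.IsMaximalIn (Cfsg.Geo.omegaGL Q) (Cfsg.Geo.subspaceStabilizer (Submodule.span F {v}) ⊓ Cfsg.Geo.omegaGL Q)) ∧
    (Odd (Fintype.card F) → ∀ K : Subalgebra F (Matrix (Fin 8) (Fin 8) F), Cfsg.Geo.IsFieldSubalgebra 2 K → Cfsg.Geo.IsSelfAdjointFor (QuadraticMap.polar Q) K → Cfsg.Geo.IsMaximalIn (Cfsg.Geo.omegaGL Q) (Cfsg.Geo.subalgebraNormalizer K ⊓ Cfsg.Geo.omegaGL Q)) ∧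
    (∀ (F₀ : Subfield F) (r : ℕ) (P : Matrix.GeneralLinearGroup (Fin 8) F) (ζ : F), r.Prime → Odd r → Fintype.card F = Nat.card F₀ ^ r → ζ ≠ 0 → Cfsg.Geo.IsQuadFormRationalStructure (fun v : Fin 8 → F => ζ * Q v) F₀ P → Cfsg.Geo.IsMaximalIn (Cfsg.Geo.omegaGL Q) (Cfsg.Geo.subfieldSubgroup F₀ P ⊓ Cfsg.Geo.omegaGL Q)) := by
  classical
  have hev : ¬ Odd (Fintype.card F) → (2 : F) = 0 := fun hchar => by
    by_contra h2
    exact hchar (Nat.odd_iff.2 (FiniteField.odd_card_of_char_ne_two (F := F) fun h => h2 (by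
      haveI := ringChar.of_eq h; exact CharTwo.two_eq_zero)))
  have hodd : Odd (Fintype.card F) → (2 : F) ≠ 0 := CfsgLib.Perm.Trans.TensorSO.two_ne_zero_of_odd_card
  have hW01 : ∀ W : Submodule F (Fin 8 → F), ∀ d, Module.finrank F W = d → 0 < d → d < 8 → W ≠ ⊥ ∧ W ≠ ⊤ :=
    fun W d h h0 h8 => ⟨fun hb => by rw [hb, finrank_bot] at h; omega,
      fun ht => by rw [ht, finrank_top, Module.finrank_fin_fun] at h; omega⟩
  refine ⟨?_, ?_, ?_, ?_, ?_, ?_, ?_, ?_⟩
  · intro W hW0 hW
    refine CfsgLib.Perm.Trans.Quad.singular_subspace_maximal hQ (by simp) hW0 hW fun z hz hzW hQz => ?_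
    obtain ⟨hT, h1, h2⟩ := CfsgLib.Perm.Trans.Quad.singular_extend hQ hW hz hzW hQz
    simp only [Fintype.card_fin] at h2 ⊢
    by_contra hcon
    refine hminus ⟨_, le_top, hT, ?_⟩
    rw [finrank_top, Module.finrank_fin_fun]
    omega
  · intro _ W hW0 hW1 hWo hW
    obtain ⟨j, hj⟩ := hWo
    refine CfsgLib.Perm.Trans.Quad.nd_subspace_maximal_unequal hQ (by simp) hW0 hW1 hW
      (by rw [hj, Fintype.card_fin]; omega) fun U hU h2 _ => ?_
    exfalso
    rcases hU with rfl | rfl
    · omega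
    · have := CfsgLib.Perm.Trans.Quad.finrank_qperp_add hQ W
      rw [Fintype.card_fin] at this
      omega
  · intro W hd hW hm
    obtain ⟨hW0, hW1⟩ := hW01 W 2 hd (by norm_num) (by norm_num)
    refine CfsgLib.Perm.Trans.Quad.nd_subspace_maximal_unequal hQ (by simp) hW0 hW1 hW
      (by rw [hd, Fintype.card_fin]; norm_num) fun U hU h2 hUp => ?_
    exfalso
    rcases hU with rfl | rfl
    · exact hm hUp
    · have := CfsgLib.Perm.Trans.Quad.finrank_qperp_add hQ W
      rw [Fintype.card_fin] at this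
      omega
  · intro hq W hd hW _
    obtain ⟨hW0, hW1⟩ := hW01 W 2 hd (by norm_num) (by norm_num)
    exact CfsgLib.Perm.Trans.Quad.nd_subspace_maximal_unequal hQ (by simp) hW0 hW1 hW
      (by rw [hd, Fintype.card_fin]; norm_num) fun U _ _ _ => hq
  · intro W hd hW
    exact CfsgLib.Perm.Trans.Quad.nd_four_maximal hQ (by simp) hminus hW hd
  · intro hchar v hv
    exact CfsgLib.Perm.Trans.Quad.point_maximal hQ (by simp) (hev hchar) hv
  · intro hq K hK hsa
    exact CfsgLib.Perm.Trans.OrthExt.extField_maximal_eight hQ (hodd hq) hK hsa (by simp) hminus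
  · intro F₀ r P ζ hr hro hcard hζ hP
    refine CfsgLib.Perm.Trans.Quad.scaled_subfield_maximal_small hQ (by simp) hr (fun h => ?_) hcard hζ hP
    exfalso
    subst h
    exact absurd hro (by decide)

end Cfsg.Agent.S5825
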