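import Cfsg.Statements.S5826
-- import your own Cfsg.Agent.* helpers here
import Cfsg.Agent.Lib.Perm.Asch.OE.Cases

set_option autoImplicit false
open Cfsg CfsgLib.Perm.Asch

namespace Cfsg.Agent.S5826

/-- Every maximal subgroup of Ω_8^-(q) is of one of the listed geometric types or lies in the residual class. Let F be a finite field with q elements, Q a non-degenerate quadratic form on F^8 of minus type (no totally singular 4-space), Ω the commutator subgroup of its isometry group, and H a maximal subgroup of Ω (inside GL_8(F)). Then H is the intersection with Ω of one of: the stabiliser of a non-zero totally singular subspace; for q odd, the stabiliser of a non-degenerate subspace of odd dimension; the stabiliser of a non-degenerate 2-space of minus type; for q ≥ 4, the stabiliser of a non-degenerate 2-space of plus type; the stabiliser of a non-degenerate 4-space; for q even, the stabiliser of the span of a non-singular vector; the normaliser of a degree-2 subfield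 of the matrix algebra; a subfield group of odd prime index whose F₀-structure carries a non-zero multiple of Q — or else H lies in the residual class of the orthogonal case (modulo scalars H is almost simple, with absolutely irreducible perfect socle preimage realisable over no proper subfield and fixing no non-degenerate unitary form). -/
theorem result {F : Type*} [Field F] [Fintype F] (Q : (Fin 8 → F) → F) (hQ : Cfsg.Geo.IsNondegenerateQuadraticForm Q) (hminus : ¬ Cfsg.Geo.IsPlusTypeOn Q ⊤) (H : Subgroup (Matrix.GeneralLinearGroup (Fin 8) F)) (hH : Cfsg.Geo.IsMaximalIn (Cfsg.Geo.omegaGL Q) H) :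
    (∃ W : Submodule F (Fin 8 → F), W ≠ ⊥ ∧ Cfsg.Geo.IsTotallySingularQuad Q W ∧ H = Cfsg.Geo.subspaceStabilizer W ⊓ Cfsg.Geo.omegaGL Q) ∨
    (Odd (Fintype.card F) ∧ ∃ W : Submodule F (Fin 8 → F), W ≠ ⊥ ∧ W ≠ ⊤ ∧ Odd (Module.finrank F W) ∧ Cfsg.Geo.IsNondegenerateOn (QuadraticMap.polar Q) W ∧ H = Cfsg.Geo.subspaceStabilizer W ⊓ Cfsg.Geo.omegaGL Q) ∨
    (∃ W : Submodule F (Fin 8 → F), Module.finrank F W = 2 ∧ Cfsg.Geo.IsNondegenerateOn (QuadraticMap.polar Q) W ∧ ¬ Cfsg.Geo.IsPlusTypeOn Q W ∧ H = Cfsg.Geo.subspaceStabilizer W ⊓ Cfsg.Geo.omegaGL Q) ∨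
    (4 ≤ Fintype.card F ∧ ∃ W : Submodule F (Fin 8 → F), Module.finrank F W = 2 ∧ Cfsg.Geo.IsNondegenerateOn (QuadraticMap.polar Q) W ∧ Cfsg.Geo.IsPlusTypeOn Q W ∧ H = Cfsg.Geo.subspaceStabilizer W ⊓ Cfsg.Geo.omegaGL Q) ∨
    (∃ W : Submodule F (Fin 8 → F), Module.finrank F W = 4 ∧ Cfsg.Geo.IsNondegenerateOn (QuadraticMap.polar Q) W ∧ H = Cfsg.Geo.subspaceStabilizer W ⊓ Cfsg.Geo.omegaGL Q) ∨
    (¬ Odd (Fintype.card F) ∧ ∃ v : (Fin 8 → F), Q v ≠ 0 ∧ H = Cfsg.Geo.subspaceStabilizer (Submodule.span F {v}) ⊓ Cfsg.Geo.omegaGL Q) ∨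
    (∃ K : Subalgebra F (Matrix (Fin 8) (Fin 8) F), Cfsg.Geo.IsFieldSubalgebra 2 K ∧ H = Cfsg.Geo.subalgebraNormalizer K ⊓ Cfsg.Geo.omegaGL Q) ∨
    (∃ (F₀ : Subfield F) (r : ℕ) (P : Matrix.GeneralLinearGroup (Fin 8) F) (ζ : F), r.Prime ∧ Odd r ∧ Fintype.card F = Nat.card F₀ ^ r ∧ ζ ≠ 0 ∧ Cfsg.Geo.IsQuadFormRationalStructure (fun v : Fin 8 → F => ζ * Q v) F₀ P ∧ H = Cfsg.Geo.subfieldSubgroup F₀ P ⊓ Cfsg.Geo.omegaGL Q) ∨
    Cfsg.Geo.InOrthogonalResidualClass H := by
  have hc : Fintype.card (Fin 8) = 8 := Fintype.card_fin 8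
  have hn : 8 ≤ Fintype.card (Fin 8) := hc.ge
  have hn' : Fintype.card (Fin 8) ≤ 12 := by omega
  have he : Even (Fintype.card (Fin 8)) := by rw [hc]; decide
  rcases OE.oe_structure hQ (by omega) (OE.max_iso hH) with hcl | hres
  swap
  · iterate 8 right
    exact hres
  cases hcl with
  | singular h0 hs h => exact Or.inl ⟨_, h0, hs, (OE.case_singular hQ hH hn hn' h0 hs h).1⟩
  | nondeg h0 h1 hW h =>
    obtain ⟨V, v0, v1, hV, hd, hpos, hle, heq⟩ := OE.case_nondeg hQ hH hn hn' h0 h1 hW h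
    rw [hc] at hd
    rcases Nat.even_or_odd (Module.finrank F V) with hev | hodd
    · rcases (show Module.finrank F V = 2 ∨ Module.finrank F V = 4 by obtain ⟨j, hj⟩ := hev; omega) with h2 | h4
      · by_cases hp : Cfsg.Geo.IsPlusTypeOn Q V
        · iterate 3 right
          exact Or.inl ⟨OE.case_plane hQ hH hn hn' h2 hV heq hp, V, h2, hV, hp, heq⟩
        · iterate 2 right
          exact Or.inl ⟨V, h2, hV, hp, heq⟩
      · iterate 4 right
        exact Or.inl ⟨V, h4, hV, heq⟩
    · right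
      exact Or.inl ⟨OE.odd_card_iff_two.2 (OE.two_ne_of_odd_nd hQ hV hodd), V, v0, v1, hodd, hV, heq⟩
  | point h2 hv h =>
    iterate 5 right
    exact Or.inl ⟨(OE.case_point hQ hH hn hn' h2 hv h).1, _, hv, (OE.case_point hQ hH hn hn' h2 hv h).2⟩
  | @dec t k D hk hD h =>
    exfalso
    have htk := (OE.case_decomposition hQ hH hn hn' hD.decomp.decomp h).1
    rw [hc] at htk
    have h2t := hD.decomp.decomp.two_le
    have h1k := hD.decomp.decomp.pos
    have hk4 : k ≤ 4 := by
      have := Nat.mul_le_mul_right k h2t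
      omega
    have hpar : Even t ∧ (Even k ∨ Even (t / 2)) := by
      simp only [Nat.even_iff]
      interval_cases k <;> omega
    exact hminus (OE.dec_plus hQ hD hpar.1 hpar.2)
  | pair hD hs h => exact absurd (OE.case_pair hQ hH hn hn' hD hs h).2.1 hminus
  | @field r K hr hK hne hcl h =>
    obtain ⟨hdvd, heq⟩ := OE.case_field hQ hH hn hn' hr hK h
    rw [hc] at hdvd
    obtain rfl : r = 2 :=
      (Nat.prime_dvd_prime_iff_eq hr Nat.prime_two).1 (hr.dvd_of_dvd_pow (show r ∣ 2 ^ 3 by norm_num [hdvd]))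
    iterate 6 right
    exact Or.inl ⟨K, hK, heq⟩
  | @sub F₀ r P ζ hr hcard hζ hs h =>
    obtain ⟨heq, hodd⟩ := OE.case_sub hQ hH hn hn' he hr hcard hζ hs h
    iterate 7 right
    exact Or.inl ⟨F₀, r, P, ζ, hr, hodd hminus, hcard, hζ, hs, heq⟩
  | @tensorA d k e P f₁ f₂ hd hk h₁ h₂ hs hp h =>
    refine absurd (OE.tensorA_plus hQ hn ?_ hp) hminus
    have hdk := OE.tensor_count e
    rw [hc] at hdk
    by_contra hne
    have : 3 * 3 ≤ d * k := Nat.mul_le_mul (by omega) (by omega)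
    omega
  | tensorS e P h2 hd hdk h₁ h₂ hs h =>
    have := OE.tensorS_dims hn' hd hdk e
    omega
  | sym h2 haQ ha hl =>
    obtain ⟨j, hj, hiff⟩ := OE.type_of_sq_neg_one hQ h2 haQ ha
    exact absurd (hiff.2 (Or.inl ⟨2, by omega⟩)) hminus
  | powerTwo hl hp => exact absurd hp hminus
  | power hd ht heq => exact absurd heq (OE.pow_ne_of_three hn' (by omega) hd ht)

end Cfsg.Agent.S5826
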