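import Cfsg.Statements.S5834
import Cfsg.Agent.Lib.Perm.Trans.GeomOmegaOdd
import Cfsg.Agent.Lib.Perm.Trans.QuadSubfSmall
import Cfsg.Agent.Lib.Perm.Trans.QuadDecompMax
import Cfsg.Agent.Lib.Perm.Trans.OrthExt.Max
import Cfsg.Agent.Lib.Perm.Trans.TensorSquare.Max

set_option autoImplicit false
open Cfsg

namespace Cfsg.Agent.S5834

/-- Maximal subgroups of Ω_9(q) of geometric type, q odd. Let F be a finite field of odd order q, Q the standard quadratic form x₀² + Σ x_i y_i on F^9 (coordinates Unit ⊕ (Fin 4 ⊕ Fin 4)), and Ω = Ω_9(q) the commutator subgroup of its isometry group, inside GL_9(F). Each of the following, intersected with Ω, is a maximal subgroup of Ω: (1) the stabiliser of any non-zero subspace on which Q vanishes identically (totally singular 1- to 4-spaces); (2) the stabiliser of any non-zero even-dimensional subspace W (dimension 2, 4, 6 or 8) on which the polar form of Q is non-degenerate (equivalently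 of its odd-dimensional orthogonal complement), except when q = 3 and W is a 2-space containing a non-zero singular vector (a plus-type plane); (3) for q = p prime, the stabiliser of any decomposition of F^9 into nine pairwise orthogonal, pairwise Q-isometric non-degenerate 1-spaces; (4) for q ≥ 5, the stabiliser of any decomposition of F^9 into three pairwise orthogonal, pairwise Q-isometric non-degenerate 3-spaces; (5) the normaliser of any degree-3 subfield K of the matrix algebra whose elements are self-adjoint for the polar form of Q (Q is then the trace of a quadratic form over K); (6) every subfield group for a subfield F₀ with |F| = |F₀|^r, r prime, whose F₀-structure carries Q; (7) for q ≥ 5, the stabiliser of any decomposition of the polar form of Q as the tensor square of a non-degenerate symmetric bilinear form on F^3 up to a scalar (tensor-wreath subgroup). -/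
theorem result {F : Type*} [Field F] [Fintype F] (hodd : Odd (Fintype.card F)) :
    (∀ W : Submodule F (Unit ⊕ (Fin 4 ⊕ Fin 4) → F), W ≠ ⊥ → Cfsg.Geo.IsTotallySingularQuad (Cfsg.quadFormOdd 4 F) W → Cfsg.Geo.IsMaximalIn (Cfsg.Geo.omegaGL (Cfsg.quadFormOdd 4 F)) (Cfsg.Geo.subspaceStabilizer W ⊓ Cfsg.Geo.omegaGL (Cfsg.quadFormOdd 4 F))) ∧
    (∀ W : Submodule F (Unit ⊕ (Fin 4 ⊕ Fin 4) → F), W ≠ ⊥ → Even (Module.finrank F W) → Cfsg.Geo.IsNondegenerateOn (QuadraticMap.polar (Cfsg.quadFormOdd 4 F)) W → ¬ (Fintype.card F = 3 ∧ Module.finrank F W = 2 ∧ Cfsg.Geo.IsPlusTypeOn (Cfsg.quadFormOdd 4 F) W) → Cfsg.Geo.IsMaximalIn (Cfsg.Geo.omegaGL (Cfsg.quadFormOdd 4 F)) (Cfsg.Geo.subspaceStabilizer W ⊓ Cfsg.Geo.omegaGL (Cfsg.quadFormOdd 4 F))) ∧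
    ((Fintype.card F).Prime → ∀ D : Fin 9 → Submodule F (Unit ⊕ (Fin 4 ⊕ Fin 4) → F), Cfsg.Geo.IsOrthogonalMDecomposition (Cfsg.quadFormOdd 4 F) 1 D → Cfsg.Geo.IsMaximalIn (Cfsg.Geo.omegaGL (Cfsg.quadFormOdd 4 F)) (Cfsg.Geo.decompositionStabilizer D ⊓ Cfsg.Geo.omegaGL (Cfsg.quadFormOdd 4 F))) ∧
    (5 ≤ Fintype.card F → ∀ D : Fin 3 → Submodule F (Unit ⊕ (Fin 4 ⊕ Fin 4) → F), Cfsg.Geo.IsOrthogonalMDecomposition (Cfsg.quadFormOdd 4 F) 3 D → Cfsg.Geo.IsMaximalIn (Cfsg.Geo.omegaGL (Cfsg.quadFormOdd 4 F)) (Cfsg.Geo.decompositionStabilizer D ⊓ Cfsg.Geo.omegaGL (Cfsg.quadFormOdd 4 F))) ∧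
    (∀ K : Subalgebra F (Matrix (Unit ⊕ (Fin 4 ⊕ Fin 4)) (Unit ⊕ (Fin 4 ⊕ Fin 4)) F), Cfsg.Geo.IsFieldSubalgebra 3 K → Cfsg.Geo.IsSelfAdjointFor (QuadraticMap.polar (Cfsg.quadFormOdd 4 F)) K → Cfsg.Geo.IsMaximalIn (Cfsg.Geo.omegaGL (Cfsg.quadFormOdd 4 F)) (Cfsg.Geo.subalgebraNormalizer K ⊓ Cfsg.Geo.omegaGL (Cfsg.quadFormOdd 4 F))) ∧
    (∀ (F₀ : Subfield F) (r : ℕ) (P : Matrix.GeneralLinearGroup (Unit ⊕ (Fin 4 ⊕ Fin 4)) F), r.Prime → Fintype.card F = Nat.card F₀ ^ r → Cfsg.Geo.IsQuadFormRationalStructure (Cfsg.quadFormOdd 4 F) F₀ P → Cfsg.Geo.IsMaximalIn (Cfsg.Geo.omegaGL (Cfsg.quadFormOdd 4 F)) (Cfsg.Geo.subfieldSubgroup F₀ P ⊓ Cfsg.Geo.omegaGL (Cfsg.quadFormOdd 4 F))) ∧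
    (5 ≤ Fintype.card F → ∀ (e : (Unit ⊕ (Fin 4 ⊕ Fin 4)) ≃ (Fin 2 → Fin 3)) (P : Matrix.GeneralLinearGroup (Unit ⊕ (Fin 4 ⊕ Fin 4)) F) (f₁ : (Fin 3 → F) → (Fin 3 → F) → F), Cfsg.Geo.IsSymmetricForm f₁ → Cfsg.Geo.IsTensorPowerFormStructure id (QuadraticMap.polar (Cfsg.quadFormOdd 4 F)) f₁ e P → Cfsg.Geo.IsMaximalIn (Cfsg.Geo.omegaGL (Cfsg.quadFormOdd 4 F)) (Cfsg.Geo.tensorWreathSubgroup 3 2 e P ⊓ Cfsg.Geo.omegaGL (Cfsg.quadFormOdd 4 F))) := by
  have h2 := CfsgLib.Perm.Asch.two_ne_zero_of_odd hodd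
  have hQ : Cfsg.Geo.IsNondegenerateQuadraticForm (Cfsg.quadFormOdd 4 F) := CfsgLib.Perm.Trans.Quad.quadFormOdd_nd h2
  refine ⟨fun W h1 h3 => CfsgLib.Perm.Trans.GeomOmegaOdd.singular_maximal_odd hodd 4 (by omega) W h1 h3,
    fun W h1 h3 h4 h5 => CfsgLib.Perm.Trans.GeomOmegaOdd.nondeg_maximal_odd hodd 4 (by omega) W h1 h3 h4 h5,
    fun hp D hD => CfsgLib.Perm.Trans.GeomOmegaOdd.frame_maximal_odd hodd hp 4 (by omega) D hD,
    fun h5 D hD => CfsgLib.Perm.Trans.Quad.orth_decomp_maximal hQ hD (by simp) le_rfl (fun _ => h5)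
      fun hq _ => by omega,
    fun K hK hsa => CfsgLib.Perm.Trans.OrthExt.extField_maximal_three hQ h2 Nat.prime_three (by omega) hK hsa (by simp),
    fun F₀ r P hr hcard hP => CfsgLib.Perm.Trans.Quad.quad_subfield_maximal_small_two hQ
      (fun a => hP _ fun i => (a i).2) (by simp) hr (fun _ => h2) hcard,
    fun h5 e P f₁ hf hT => CfsgLib.Perm.Trans.TensorSquare.orth_square_maximal e P hQ h2 ?_ hf hT⟩
  classical
  by_contra hcon
  push Not at hcon
  have hsub : (Finset.univ : Finset F) ⊆ {0, 1, -1} := fun t _ => by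
    simp only [Finset.mem_insert, Finset.mem_singleton]
    rcases eq_or_ne t 0 with rfl | ht
    · exact Or.inl rfl
    · exact Or.inr (mul_self_eq_one_iff.1 (hcon t ht))
  have := (Finset.card_le_card hsub).trans Finset.card_le_three
  rw [Finset.card_univ] at this
  omega

end Cfsg.Agent.S5834
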