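import Cfsg.Statements.S5850
-- import your own Cfsg.Agent.* helpers here
import Cfsg.Agent.Lib.Perm.Asch.OE.Cases2

set_option autoImplicit false
open Cfsg CfsgLib.Perm.Asch

namespace Cfsg.Agent.S5850

/-- Every maximal subgroup of Ω_10^-(q) is of one of the listed geometric types or lies in the residual class. Let F be a finite field with q elements (characteristic p), Q a non-degenerate quadratic form on F^10 of minus type (Witt index 4: no totally singular 5-space), Ω the commutator subgroup of its isometry group, and H a maximal subgroup of Ω (inside GL_10(F)). Then H is the intersection with Ω of one of: the stabiliser of a non-zero totally singular subspace; for q odd, the stabiliser of a non-degenerate subspace of odd dimension ≠ 5; the stabiliser of a non-degenerate 2-space of minus type; for q ≥ 4, the stabiliser of a non-degenerate 2-space of plus type; the stabiliser of a non-degenerate 4-space; for q even, the stabiliser of the span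 of a non-singular vector; for q = p prime with p ≡ 3 mod 4, the stabiliser of a decomposition into 10 pairwise orthogonal, pairwise isometric non-degenerate 1-spaces; for q ≠ 3, the stabiliser of a decomposition into 5 pairwise orthogonal, pairwise isometric non-degenerate 2-spaces; for q ≡ 3 mod 4, the stabiliser of a decomposition into 2 pairwise orthogonal, pairwise isometric non-degenerate 5-spaces; for q ≡ 1 mod 4, the stabiliser of a decomposition into two orthogonal, non-isometric non-degenerate 5-spaces; for q odd, the normaliser of a degree-2 subfield of the matrix algebra, self-adjoint for the polar form; the normaliser of a degree-2 subfield K, adjoint-closed but not self-adjoint, acting by similarities of Q; a subfield group (|F| = |F₀|^r, r odd prime) whose F₀-structure carries a non-zero multiple of Q — or else H lies in the residual class of the orthogonal case (modulo scalars H is almost simple, with absolutely irreducible perfect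 socle preimage realisable over no proper subfield and fixing no non-degenerate unitary form). -/
theorem result {F : Type*} [Field F] [Fintype F] (Q : (Fin 10 → F) → F) (hQ : Cfsg.Geo.IsNondegenerateQuadraticForm Q) (hminus : ¬ Cfsg.Geo.IsPlusTypeOn Q ⊤) (H : Subgroup (Matrix.GeneralLinearGroup (Fin 10) F)) (hH : Cfsg.Geo.IsMaximalIn (Cfsg.Geo.omegaGL Q) H) :
    (∃ W : Submodule F (Fin 10 → F), W ≠ ⊥ ∧ Cfsg.Geo.IsTotallySingularQuad Q W ∧ H = Cfsg.Geo.subspaceStabilizer W ⊓ Cfsg.Geo.omegaGL Q) ∨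
    (Odd (Fintype.card F) ∧ ∃ W : Submodule F (Fin 10 → F), W ≠ ⊥ ∧ W ≠ ⊤ ∧ Odd (Module.finrank F W) ∧ 2 * Module.finrank F W ≠ 10 ∧ Cfsg.Geo.IsNondegenerateOn (QuadraticMap.polar Q) W ∧ H = Cfsg.Geo.subspaceStabilizer W ⊓ Cfsg.Geo.omegaGL Q) ∨
    (∃ W : Submodule F (Fin 10 → F), Module.finrank F W = 2 ∧ Cfsg.Geo.IsNondegenerateOn (QuadraticMap.polar Q) W ∧ ¬ Cfsg.Geo.IsPlusTypeOn Q W ∧ H = Cfsg.Geo.subspaceStabilizer W ⊓ Cfsg.Geo.omegaGL Q) ∨
    (4 ≤ Fintype.card F ∧ ∃ W : Submodule F (Fin 10 → F), Module.finrank F W = 2 ∧ Cfsg.Geo.IsNondegenerateOn (QuadraticMap.polar Q) W ∧ Cfsg.Geo.IsPlusTypeOn Q W ∧ H = Cfsg.Geo.subspaceStabilizer W ⊓ Cfsg.Geo.omegaGL Q) ∨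
    (∃ W : Submodule F (Fin 10 → F), Module.finrank F W = 4 ∧ Cfsg.Geo.IsNondegenerateOn (QuadraticMap.polar Q) W ∧ H = Cfsg.Geo.subspaceStabilizer W ⊓ Cfsg.Geo.omegaGL Q) ∨
    (¬ Odd (Fintype.card F) ∧ ∃ v : (Fin 10 → F), Q v ≠ 0 ∧ H = Cfsg.Geo.subspaceStabilizer (Submodule.span F {v}) ⊓ Cfsg.Geo.omegaGL Q) ∨
    ((∃ p : ℕ, p.Prime ∧ Fintype.card F = p ∧ (p % 4 = 3)) ∧ ∃ D : Fin 10 → Submodule F (Fin 10 → F), Cfsg.Geo.IsOrthogonalMDecomposition Q 1 D ∧ H = Cfsg.Geo.decompositionStabilizer D ⊓ Cfsg.Geo.omegaGL Q) ∨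
    (Fintype.card F ≠ 3 ∧ ∃ D : Fin 5 → Submodule F (Fin 10 → F), Cfsg.Geo.IsOrthogonalMDecomposition Q 2 D ∧ H = Cfsg.Geo.decompositionStabilizer D ⊓ Cfsg.Geo.omegaGL Q) ∨
    (Fintype.card F % 4 = 3 ∧ ∃ D : Fin 2 → Submodule F (Fin 10 → F), Cfsg.Geo.IsOrthogonalMDecomposition Q 5 D ∧ H = Cfsg.Geo.decompositionStabilizer D ⊓ Cfsg.Geo.omegaGL Q) ∨
    (Fintype.card F % 4 = 1 ∧ ∃ D : Fin 2 → Submodule F (Fin 10 → F), Cfsg.Geo.IsNondegenerateMDecomposition (QuadraticMap.polar Q) 5 D ∧ ¬ Cfsg.Geo.AreIsometricFor Q (D 0) (D 1) ∧ H = Cfsg.Geo.decompositionStabilizer D ⊓ Cfsg.Geo.omegaGL Q) ∨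
    (Odd (Fintype.card F) ∧ ∃ K : Subalgebra F (Matrix (Fin 10) (Fin 10) F), Cfsg.Geo.IsFieldSubalgebra 2 K ∧ Cfsg.Geo.IsSelfAdjointFor (QuadraticMap.polar Q) K ∧ H = Cfsg.Geo.subalgebraNormalizer K ⊓ Cfsg.Geo.omegaGL Q) ∨
    (∃ K : Subalgebra F (Matrix (Fin 10) (Fin 10) F), Cfsg.Geo.IsFieldSubalgebra 2 K ∧ Cfsg.Geo.IsAdjointClosedFor (QuadraticMap.polar Q) K ∧ ¬ Cfsg.Geo.IsSelfAdjointFor (QuadraticMap.polar Q) K ∧ (∀ k ∈ K, ∃ c : F, ∀ v : (Fin 10 → F), Q (Matrix.mulVec k v) = c * Q v) ∧ H = Cfsg.Geo.subalgebraNormalizer K ⊓ Cfsg.Geo.omegaGL Q) ∨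
    (∃ (F₀ : Subfield F) (r : ℕ) (P : Matrix.GeneralLinearGroup (Fin 10) F) (ζ : F), r.Prime ∧ Odd r ∧ Fintype.card F = Nat.card F₀ ^ r ∧ ζ ≠ 0 ∧ Cfsg.Geo.IsQuadFormRationalStructure (fun v : Fin 10 → F => ζ * Q v) F₀ P ∧ H = Cfsg.Geo.subfieldSubgroup F₀ P ⊓ Cfsg.Geo.omegaGL Q) ∨
    Cfsg.Geo.InOrthogonalResidualClass H := by
  have hc : Fintype.card (Fin 10) = 10 := Fintype.card_fin 10
  have hn : 8 ≤ Fintype.card (Fin 10) := by omega
  have hn' : Fintype.card (Fin 10) ≤ 12 := by omega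
  have he : Even (Fintype.card (Fin 10)) := by rw [hc]; decide
  rcases OE.oe_structure hQ (by omega) (OE.max_iso hH) with hcl | hres
  swap
  · iterate 13 right
    exact hres
  cases hcl with
  | singular h0 hs h => exact Or.inl ⟨_, h0, hs, (OE.case_singular hQ hH hn hn' h0 hs h).1⟩
  | nondeg h0 h1 hW h =>
    obtain ⟨V, v0, v1, hV, hd, hpos, hle, heq⟩ := OE.case_nondeg hQ hH hn hn' h0 h1 hW h
    rw [hc] at hd
    by_cases h5 : Module.finrank F V = 5
    · obtain ⟨hD, hDeq, hDiso⟩ := OE.case_halves hQ hH hn hn' h5 (by omega) hV hle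
      have hodd : Odd (Module.finrank F V) := by rw [h5]; decide
      have h2 := OE.two_ne_of_odd_nd hQ hV hodd
      by_cases hi : Cfsg.Geo.AreIsometricFor Q V (CfsgLib.Perm.Trans.Quad.qperp hQ V)
      · iterate 8 right
        exact Or.inl ⟨OE.mod_four_of_nonsquare fun hsq => hminus ((OE.halves_odd_iso hQ hV hodd hi).2 hsq), _, hDiso hi, hDeq⟩
      · iterate 9 right
        exact Or.inl ⟨OE.mod_four_of_square h2 (not_not.1 fun hsq => hminus ((OE.halves_odd_noniso hQ hV hodd (by omega) hi).2 hsq)), _, hD, hi, hDeq⟩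
    rcases Nat.even_or_odd (Module.finrank F V) with hev | hodd
    · rcases (show Module.finrank F V = 2 ∨ Module.finrank F V = 4 by obtain ⟨j, hj⟩ := hev; omega) with h2 | h4
      · by_cases hp : Cfsg.Geo.IsPlusTypeOn Q V
        · iterate 3 right
          exact Or.inl ⟨OE.case_plane hQ hH hn hn' h2 hV heq hp, V, h2, hV, hp, heq⟩
        · iterate 2 right
          exact Or.inl ⟨V, h2, hV, hp, heq⟩
      · iterate 4 right
        exact Or.inl ⟨V, h4, hV, heq⟩
    · right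
      exact Or.inl ⟨OE.odd_card_iff_two.2 (OE.two_ne_of_odd_nd hQ hV hodd), V, v0, v1, hodd, by omega, hV, heq⟩
  | point h2 hv h =>
    iterate 5 right
    exact Or.inl ⟨(OE.case_point hQ hH hn hn' h2 hv h).1, _, hv, (OE.case_point hQ hH hn hn' h2 hv h).2⟩
  | @dec t k D hk hD h =>
    obtain ⟨htk, heq⟩ := OE.case_decomposition hQ hH hn hn' hD.decomp.decomp h
    rw [hc] at htk
    have h2t := hD.decomp.decomp.two_le
    have h1k := hD.decomp.decomp.pos
    have hk5 : k ≤ 5 := by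
      have := Nat.mul_le_mul_right k h2t
      omega
    rcases (show (t = 10 ∧ k = 1) ∨ (t = 5 ∧ k = 2) ∨ (t = 2 ∧ k = 5) by interval_cases k <;> omega) with
      ⟨rfl, rfl⟩ | ⟨rfl, rfl⟩ | ⟨rfl, rfl⟩
    · obtain ⟨-, hp, h2⟩ := hk.resolve_left (lt_irrefl 1)
      have hiff := OE.dec_type_pairs hQ hD (j := 5) (by decide) rfl
      iterate 6 right
      exact Or.inl ⟨⟨Fintype.card F, hp, rfl, OE.mod_four_of_nonsquare fun hsq => hminus (hiff.2 (Or.inr hsq))⟩, D, hD, heq⟩
    · have hiff : ∀ i, Cfsg.Geo.IsPlusTypeOn Q ⊤ ↔ (Even 5 ∨ Cfsg.Geo.IsPlusTypeOn Q (D i)) :=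
        fun i => OE.dec_type_even hQ hD (by decide) i
      iterate 7 right
      exact Or.inl ⟨OE.minus_planes_card hQ hH (by omega) hn' hD heq fun i hp => hminus ((hiff i).2 (Or.inr hp)), D, hD, heq⟩
    · have hiff := OE.dec_type_pairs hQ hD (j := 1) (by decide) rfl
      have h2 := OE.two_ne_of_odd_nd hQ (hD.decomp.nondegenerate 0) (by rw [hD.decomp.decomp.finrank_eq]; decide)
      iterate 8 right
      exact Or.inl ⟨OE.mod_four_of_nonsquare fun hsq => hminus (hiff.2 (Or.inr hsq)), D, hD, heq⟩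
  | pair hD hs h => exact absurd (OE.case_pair hQ hH hn hn' hD hs h).2.1 hminus
  | @field r K hr hK hne hcl h =>
    obtain ⟨hdvd, heq⟩ := OE.case_field hQ hH hn hn' hr hK h
    rw [hc] at hdvd hne
    obtain rfl : r = 2 := by
      rcases (Nat.Prime.dvd_mul hr).1 (show r ∣ 2 * 5 from hdvd) with h' | h'
      · exact (Nat.prime_dvd_prime_iff_eq hr Nat.prime_two).1 h'
      · have := (Nat.prime_dvd_prime_iff_eq hr Nat.prime_five).1 h'
        omega
    rcases hcl with hsa | ⟨-, hac, hns, hsim⟩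
    · iterate 10 right
      exact Or.inl ⟨OE.field_selfAdjoint_odd hQ hn hK hsa (by rw [hc]; decide), K, hK, hsa, heq⟩
    · iterate 11 right
      exact Or.inl ⟨K, hK, hac, hns, hsim, heq⟩
  | @sub F₀ r P ζ hr hcard hζ hs h =>
    obtain ⟨heq, hodd⟩ := OE.case_sub hQ hH hn hn' he hr hcard hζ hs h
    iterate 12 right
    exact Or.inl ⟨F₀, r, P, ζ, hr, hodd hminus, hcard, hζ, hs, heq⟩
  | @tensorA d k e P f₁ f₂ hd hk h₁ h₂ hs hp h =>
    have hdk := OE.tensor_count e
    rw [hc] at hdk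
    obtain ⟨a, rfl⟩ := isSymplecticForm_even h₁
    obtain ⟨b, rfl⟩ := isSymplecticForm_even h₂
    have e4 : (a + a) * (b + b) = 4 * (a * b) := by ring
    omega
  | tensorS e P h2 hd hdk h₁ h₂ hs h =>
    have := OE.tensorS_dims hn' hd hdk e
    omega
  | sym h2 haQ ha hl =>
    obtain ⟨l, hl⟩ := hl
    exact absurd hl (OE.pow_two_ne (by omega) hn')
  | powerTwo hl hp =>
    obtain ⟨l, -, hl⟩ := hl
    exact absurd hl (OE.pow_two_ne (by omega) hn')
  | power hd ht heq => exact absurd heq (OE.pow_ne_of_three hn' (by omega) hd ht)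

end Cfsg.Agent.S5850
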