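import Cfsg.Statements.S5870
import Cfsg.Agent.Lib.Perm.Trans.QuadMax
import Cfsg.Agent.Lib.Perm.Trans.QuadNondegCases
import Cfsg.Agent.Lib.Perm.Trans.QuadPoint
import Cfsg.Agent.Lib.Perm.Trans.QuadDecompMax
import Cfsg.Agent.Lib.Perm.Trans.QuadPlaneMax
import Cfsg.Agent.Lib.Perm.Trans.QuadPair
import Cfsg.Agent.Lib.Perm.Trans.QuadOverData
import Cfsg.Agent.Lib.Perm.Trans.QuadSubfScaled
import Cfsg.Agent.Lib.Perm.Trans.OrthExt.Max
import Cfsg.Agent.Lib.Perm.Trans.TensorSympMax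
import Cfsg.Agent.Lib.Perm.Trans.TensorSO.Max
import Cfsg.Agent.Lib.Perm.Trans.OrthFrame.Maximal
-- import your own Cfsg.Agent.* helpers here

set_option autoImplicit false
open Cfsg

namespace Cfsg.Agent.S5870

/-- Maximal subgroups of Ω_12^+(q) of geometric type (any q). Let F be a finite field with q elements (characteristic p), Q a non-degenerate quadratic form on F^12 (non-degenerate polar form) of plus type (Witt index 6: some totally singular 6-space), and Ω = Ω_12^+(q) the commutator subgroup of the isometry group of Q, inside GL_12(F). Each of the following, intersected with Ω, is a maximal subgroup of Ω: (1) the stabiliser of any non-zero subspace on which Q vanishes identically other than those of dimension 5 (totally singular subspaces, dimensions 1, 2, 3, 4 and 6); (2) for q odd, the stabiliser of any subspace of odd dimension on which the polar form of Q is non-degenerate; (3) the stabiliser of any non-degenerate 2-space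 of minus type (containing no non-zero singular vector); (4) for q ≥ 4, the stabiliser of any non-degenerate 2-space of plus type (containing a non-zero singular vector); (5) the stabiliser of any non-degenerate 4-space (either type); (6) for q even, the stabiliser of the 1-space spanned by any non-singular vector v (Q(v) ≠ 0); (7) for q = p an odd prime, the stabiliser of any decomposition of F^12 into 12 pairwise orthogonal, pairwise Q-isometric non-degenerate 1-spaces; (8) for q ≥ 7, the stabiliser of any decomposition of F^12 into 6 pairwise orthogonal, pairwise Q-isometric non-degenerate 2-spaces of plus type; (9) for q ≠ 3, the stabiliser of any decomposition of F^12 into 6 pairwise orthogonal, pairwise Q-isometric non-degenerate 2-spaces of minus type; (10) for q odd with q ≥ 5, the stabiliser of any decomposition of F^12 into 4 pairwise orthogonal, pairwise Q-isometric non-degenerate 3-spaces; (11) for q ≥ 3, the stabiliser of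 any decomposition of F^12 into 3 pairwise orthogonal, pairwise Q-isometric non-degenerate 4-spaces; (12) the stabiliser of any decomposition of F^12 into 2 pairwise orthogonal, pairwise Q-isometric non-degenerate 6-spaces; (13) the stabiliser of any decomposition into two totally singular 6-spaces; (14) for q odd, the normaliser of any degree-2 subfield K of the matrix algebra whose elements are self-adjoint for the polar form of Q (Q is then the trace of a quadratic form over K); (15) for q odd, the normaliser of any degree-3 subfield K of the matrix algebra whose elements are self-adjoint for the polar form of Q (Q is then the trace of a quadratic form over K); (16) the normaliser of any degree-2 subfield K of the matrix algebra, closed under adjoints for the polar form but not self-adjoint, whose elements act as similarities of Q (so F^12 becomes a 6-dimensional space over K with a hermitian form, and the subgroup is of the type of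 the unitary group GU_6(q)); (17) for q ≥ 3, the stabiliser of any tensor decomposition F^12 = F^2 ⊗ F^6 in which the polar form of Q is (alternating form) ⊗ (alternating form) up to a scalar and Q vanishes on all pure tensors; (18) every subfield group for a subfield F₀ with |F| = |F₀|^r, r prime, whose F₀-structure carries a non-zero scalar multiple of Q. -/
theorem result {F : Type*} [Field F] [Fintype F] (Q : (Fin 12 → F) → F) (hQ : Cfsg.Geo.IsNondegenerateQuadraticForm Q) (hplus : Cfsg.Geo.IsPlusTypeOn Q ⊤) :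
    (∀ W : Submodule F (Fin 12 → F), W ≠ ⊥ → Cfsg.Geo.IsTotallySingularQuad Q W → Module.finrank F W ≠ 5 → Cfsg.Geo.IsMaximalIn (Cfsg.Geo.omegaGL Q) (Cfsg.Geo.subspaceStabilizer W ⊓ Cfsg.Geo.omegaGL Q)) ∧
    (Odd (Fintype.card F) → ∀ W : Submodule F (Fin 12 → F), W ≠ ⊥ → W ≠ ⊤ → Odd (Module.finrank F W) → 2 * Module.finrank F W ≠ 12 → Cfsg.Geo.IsNondegenerateOn (QuadraticMap.polar Q) W → Cfsg.Geo.IsMaximalIn (Cfsg.Geo.omegaGL Q) (Cfsg.Geo.subspaceStabilizer W ⊓ Cfsg.Geo.omegaGL Q)) ∧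
    (∀ W : Submodule F (Fin 12 → F), Module.finrank F W = 2 → Cfsg.Geo.IsNondegenerateOn (QuadraticMap.polar Q) W → ¬ Cfsg.Geo.IsPlusTypeOn Q W → Cfsg.Geo.IsMaximalIn (Cfsg.Geo.omegaGL Q) (Cfsg.Geo.subspaceStabilizer W ⊓ Cfsg.Geo.omegaGL Q)) ∧
    (4 ≤ Fintype.card F → ∀ W : Submodule F (Fin 12 → F), Module.finrank F W = 2 → Cfsg.Geo.IsNondegenerateOn (QuadraticMap.polar Q) W → Cfsg.Geo.IsPlusTypeOn Q W → Cfsg.Geo.IsMaximalIn (Cfsg.Geo.omegaGL Q) (Cfsg.Geo.subspaceStabilizer W ⊓ Cfsg.Geo.omegaGL Q)) ∧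
    (∀ W : Submodule F (Fin 12 → F), Module.finrank F W = 4 → Cfsg.Geo.IsNondegenerateOn (QuadraticMap.polar Q) W → Cfsg.Geo.IsMaximalIn (Cfsg.Geo.omegaGL Q) (Cfsg.Geo.subspaceStabilizer W ⊓ Cfsg.Geo.omegaGL Q)) ∧
    (¬ Odd (Fintype.card F) → ∀ v : (Fin 12 → F), Q v ≠ 0 → Cfsg.Geo.IsMaximalIn (Cfsg.Geo.omegaGL Q) (Cfsg.Geo.subspaceStabilizer (Submodule.span F {v}) ⊓ Cfsg.Geo.omegaGL Q)) ∧
    ((∃ p : ℕ, p.Prime ∧ Odd p ∧ Fintype.card F = p) → ∀ D : Fin 12 → Submodule F (Fin 12 → F), Cfsg.Geo.IsOrthogonalMDecomposition Q 1 D → Cfsg.Geo.IsMaximalIn (Cfsg.Geo.omegaGL Q) (Cfsg.Geo.decompositionStabilizer D ⊓ Cfsg.Geo.omegaGL Q)) ∧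
    (7 ≤ Fintype.card F → ∀ D : Fin 6 → Submodule F (Fin 12 → F), Cfsg.Geo.IsOrthogonalMDecomposition Q 2 D → (∀ i, Cfsg.Geo.IsPlusTypeOn Q (D i)) → Cfsg.Geo.IsMaximalIn (Cfsg.Geo.omegaGL Q) (Cfsg.Geo.decompositionStabilizer D ⊓ Cfsg.Geo.omegaGL Q)) ∧
    (Fintype.card F ≠ 3 → ∀ D : Fin 6 → Submodule F (Fin 12 → F), Cfsg.Geo.IsOrthogonalMDecomposition Q 2 D → (∀ i, ¬ Cfsg.Geo.IsPlusTypeOn Q (D i)) → Cfsg.Geo.IsMaximalIn (Cfsg.Geo.omegaGL Q) (Cfsg.Geo.decompositionStabilizer D ⊓ Cfsg.Geo.omegaGL Q)) ∧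
    (Odd (Fintype.card F) ∧ 5 ≤ Fintype.card F → ∀ D : Fin 4 → Submodule F (Fin 12 → F), Cfsg.Geo.IsOrthogonalMDecomposition Q 3 D → Cfsg.Geo.IsMaximalIn (Cfsg.Geo.omegaGL Q) (Cfsg.Geo.decompositionStabilizer D ⊓ Cfsg.Geo.omegaGL Q)) ∧
    (3 ≤ Fintype.card F → ∀ D : Fin 3 → Submodule F (Fin 12 → F), Cfsg.Geo.IsOrthogonalMDecomposition Q 4 D → Cfsg.Geo.IsMaximalIn (Cfsg.Geo.omegaGL Q) (Cfsg.Geo.decompositionStabilizer D ⊓ Cfsg.Geo.omegaGL Q)) ∧
    (∀ D : Fin 2 → Submodule F (Fin 12 → F), Cfsg.Geo.IsOrthogonalMDecomposition Q 6 D → Cfsg.Geo.IsMaximalIn (Cfsg.Geo.omegaGL Q) (Cfsg.Geo.decompositionStabilizer D ⊓ Cfsg.Geo.omegaGL Q)) ∧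
    (∀ D : Fin 2 → Submodule F (Fin 12 → F), Cfsg.Geo.IsMDecomposition 6 D → (∀ i, Cfsg.Geo.IsTotallySingularQuad Q (D i)) → Cfsg.Geo.IsMaximalIn (Cfsg.Geo.omegaGL Q) (Cfsg.Geo.decompositionStabilizer D ⊓ Cfsg.Geo.omegaGL Q)) ∧
    (Odd (Fintype.card F) → ∀ K : Subalgebra F (Matrix (Fin 12) (Fin 12) F), Cfsg.Geo.IsFieldSubalgebra 2 K → Cfsg.Geo.IsSelfAdjointFor (QuadraticMap.polar Q) K → Cfsg.Geo.IsMaximalIn (Cfsg.Geo.omegaGL Q) (Cfsg.Geo.subalgebraNormalizer K ⊓ Cfsg.Geo.omegaGL Q)) ∧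
    (Odd (Fintype.card F) → ∀ K : Subalgebra F (Matrix (Fin 12) (Fin 12) F), Cfsg.Geo.IsFieldSubalgebra 3 K → Cfsg.Geo.IsSelfAdjointFor (QuadraticMap.polar Q) K → Cfsg.Geo.IsMaximalIn (Cfsg.Geo.omegaGL Q) (Cfsg.Geo.subalgebraNormalizer K ⊓ Cfsg.Geo.omegaGL Q)) ∧
    (∀ K : Subalgebra F (Matrix (Fin 12) (Fin 12) F), Cfsg.Geo.IsFieldSubalgebra 2 K → Cfsg.Geo.IsAdjointClosedFor (QuadraticMap.polar Q) K → ¬ Cfsg.Geo.IsSelfAdjointFor (QuadraticMap.polar Q) K → (∀ k ∈ K, ∃ c : F, ∀ v : (Fin 12 → F), Q (Matrix.mulVec k v) = c * Q v) → Cfsg.Geo.IsMaximalIn (Cfsg.Geo.omegaGL Q) (Cfsg.Geo.subalgebraNormalizer K ⊓ Cfsg.Geo.omegaGL Q)) ∧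
    (3 ≤ Fintype.card F → ∀ (e : Fin 12 ≃ Fin 2 × Fin 6) (P : Matrix.GeneralLinearGroup (Fin 12) F) (f₁ : (Fin 2 → F) → (Fin 2 → F) → F) (f₂ : (Fin 6 → F) → (Fin 6 → F) → F), Cfsg.Geo.IsSymplecticForm f₁ → Cfsg.Geo.IsSymplecticForm f₂ → Cfsg.Geo.IsTensorFormStructure id (QuadraticMap.polar Q) f₁ f₂ e P → (∀ (x₁ : Fin 2 → F) (x₂ : Fin 6 → F), Q (Matrix.mulVec (P : Matrix (Fin 12) (Fin 12) F) ((fun a : Fin 2 × Fin 6 => x₁ a.1 * x₂ a.2) ∘ e)) = 0) → Cfsg.Geo.IsMaximalIn (Cfsg.Geo.omegaGL Q) (Cfsg.Geo.tensorProductSubgroup 2 6 e P ⊓ Cfsg.Geo.omegaGL Q)) ∧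
    (∀ (F₀ : Subfield F) (r : ℕ) (P : Matrix.GeneralLinearGroup (Fin 12) F) (ζ : F), r.Prime → Fintype.card F = Nat.card F₀ ^ r → ζ ≠ 0 → Cfsg.Geo.IsQuadFormRationalStructure (fun v : Fin 12 → F => ζ * Q v) F₀ P → Cfsg.Geo.IsMaximalIn (Cfsg.Geo.omegaGL Q) (Cfsg.Geo.subfieldSubgroup F₀ P ⊓ Cfsg.Geo.omegaGL Q)) := by
  classical
  have hev : ¬ Odd (Fintype.card F) → (2 : F) = 0 := fun hchar => by
    by_contra h2
    exact hchar (Nat.odd_iff.2 (FiniteField.odd_card_of_char_ne_two (F := F) fun h => h2 (by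
      haveI := ringChar.of_eq h; exact CharTwo.two_eq_zero)))
  have hodd : Odd (Fintype.card F) → (2 : F) ≠ 0 := CfsgLib.Perm.Trans.TensorSO.two_ne_zero_of_odd_card
  have hW01 : ∀ W : Submodule F (Fin 12 → F), ∀ d, Module.finrank F W = d → 0 < d → d < 12 → W ≠ ⊥ ∧ W ≠ ⊤ :=
    fun W d h h0 h12 => ⟨fun hb => by rw [hb, finrank_bot] at h; omega,
      fun ht => by rw [ht, finrank_top, Module.finrank_fin_fun] at h; omega⟩
  have hperp : ∀ W : Submodule F (Fin 12 → F), ∀ U, U = W ∨ U = CfsgLib.Perm.Trans.Quad.qperp hQ W →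
      Module.finrank F W ≠ 10 → Module.finrank F U = 2 → U = W ∧ Module.finrank F W = 2 := fun W U hU h10 h2 => by
    rcases hU with rfl | rfl
    · exact ⟨rfl, h2⟩
    · have := CfsgLib.Perm.Trans.Quad.finrank_qperp_add hQ W
      rw [Fintype.card_fin] at this
      omega
  refine ⟨?_, ?_, ?_, ?_, ?_, ?_, ?_, ?_, ?_, ?_, ?_, ?_, ?_, ?_, ?_, ?_, ?_, ?_⟩
  · intro W hW0 hW h5
    refine CfsgLib.Perm.Trans.Quad.singular_subspace_maximal hQ (by simp) hW0 hW fun z hz hzW hQz => ?_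
    obtain ⟨-, h1, h2⟩ := CfsgLib.Perm.Trans.Quad.singular_extend hQ hW hz hzW hQz
    simp only [Fintype.card_fin] at h2 ⊢
    omega
  · intro _ W hW0 hW1 hWo hdim hW
    obtain ⟨j, hj⟩ := hWo
    refine CfsgLib.Perm.Trans.Quad.nd_subspace_maximal' hQ (by simp) hW0 hW1 hW (fun h => ?_) fun U hU h2 _ => ?_
    · exact absurd (by simpa using h) hdim
    · have := (hperp W U hU (by omega) h2).2
      omega
  · intro W hd hW hm
    obtain ⟨hW0, hW1⟩ := hW01 W 2 hd (by norm_num) (by norm_num)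
    refine CfsgLib.Perm.Trans.Quad.nd_subspace_maximal' hQ (by simp) hW0 hW1 hW (fun h => ?_) fun U hU h2 hUp => ?_
    · rw [hd, Fintype.card_fin] at h; omega
    · exact absurd ((hperp W U hU (by omega) h2).1 ▸ hUp) hm
  · intro hq W hd hW hp
    obtain ⟨hW0, hW1⟩ := hW01 W 2 hd (by norm_num) (by norm_num)
    refine CfsgLib.Perm.Trans.Quad.nd_subspace_maximal' hQ (by simp) hW0 hW1 hW (fun h => ?_) fun U _ _ _ => hq
    rw [hd, Fintype.card_fin] at h; omega
  · intro W hd hW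
    obtain ⟨hW0, hW1⟩ := hW01 W 4 hd (by norm_num) (by norm_num)
    refine CfsgLib.Perm.Trans.Quad.nd_subspace_maximal' hQ (by simp) hW0 hW1 hW (fun h => ?_) fun U hU h2 _ => ?_
    · rw [hd, Fintype.card_fin] at h; omega
    · have := (hperp W U hU (by omega) h2).2
      omega
  · intro hchar v hv
    exact CfsgLib.Perm.Trans.Quad.point_maximal hQ (by simp) (hev hchar) hv
  · rintro ⟨p, hp, hp2, hcard⟩ D hD
    exact CfsgLib.Perm.Trans.OrthFrame.frame_stabilizer_maximal hQ (hcard ▸ hp) (hcard ▸ hp2) (by simp) (by simp) hD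
  · intro h7 D hD _
    exact CfsgLib.Perm.Trans.Quad.plane_decomp_maximal hQ hD (fun i => ⟨by omega, fun _ => h7⟩) (by norm_num) (by simp)
  · intro h3 D hD hm
    exact CfsgLib.Perm.Trans.Quad.plane_decomp_maximal hQ hD (fun i => ⟨h3, fun hiso =>
      absurd (CfsgLib.Perm.Trans.Quad.plus_of_singular hQ (hD.decomp.decomp.finrank_eq i) hiso) (hm i)⟩) (by norm_num)
      (by simp)
  · rintro ⟨-, hq5⟩ D hD
    exact CfsgLib.Perm.Trans.Quad.orth_decomp_maximal hQ hD (by simp) le_rfl (fun _ => hq5) (fun _ h => by omega)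
  · intro hq3 D hD
    exact CfsgLib.Perm.Trans.Quad.orth_decomp_maximal hQ hD (by simp) (by norm_num) (fun h => by omega)
      (fun h _ => by omega)
  · intro D hD
    exact CfsgLib.Perm.Trans.Quad.orth_decomp_maximal hQ hD (by simp) (by norm_num) (fun h => by omega)
      (fun _ h => by omega)
  · intro D hD hts
    have hsum := Submodule.finrank_sup_add_finrank_inf_eq (D 0) (D 1)
    have hinf : D 0 ⊓ D 1 = ⊥ := disjoint_iff.1 (hD.indep.pairwiseDisjoint (by decide : (0 : Fin 2) ≠ 1))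
    have hsup : D 0 ⊔ D 1 = ⊤ := by
      refine le_antisymm le_top (hD.iSup_eq_top ▸ iSup_le fun i => ?_)
      rcases (by decide : ∀ i : Fin 2, i = 0 ∨ i = 1) i with rfl | rfl
      exacts [le_sup_left, le_sup_right]
    have hd0 := hD.finrank_eq 0
    have hd1 := hD.finrank_eq 1
    refine CfsgLib.Perm.Trans.Quad.qpair_maximal hQ
      ⟨hts 0, hts 1, hsup, hinf, by omega, by omega⟩ (by simp) (hd0 ▸ ⟨3, rfl⟩) (by omega) fun g => ⟨?_, ?_⟩
    · rintro ⟨σ, hσ⟩
      have hm : ∀ i, ∀ x ∈ D i, Matrix.mulVec (g : Matrix (Fin 12) (Fin 12) F) x ∈ D (σ i) := fun i x hx =>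
        hσ i ▸ ⟨x, hx, Matrix.toLin'_apply _ x⟩
      rcases (by decide : ∀ σ : Equiv.Perm (Fin 2), (σ 0 = 0 ∧ σ 1 = 1) ∨ (σ 0 = 1 ∧ σ 1 = 0)) σ with ⟨h0, h1⟩ | ⟨h0, h1⟩
      · exact Or.inl ⟨fun x hx => h0 ▸ hm 0 x hx, fun x hx => h1 ▸ hm 1 x hx⟩
      · exact Or.inr ⟨fun x hx => h0 ▸ hm 0 x hx, fun x hx => h1 ▸ hm 1 x hx⟩
    · intro h
      have key : ∀ σ : Equiv.Perm (Fin 2), (∀ i, ∀ x ∈ D i, Matrix.mulVec (g : Matrix (Fin 12) (Fin 12) F) x ∈ D (σ i)) →
          g ∈ Cfsg.Geo.decompositionStabilizer D := fun σ hm => ⟨σ, fun i => by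
        refine Submodule.eq_of_le_of_finrank_le ?_ (le_of_eq ?_)
        · rintro _ ⟨x, hx, rfl⟩
          rw [Matrix.toLin'_apply]
          exact hm i x hx
        · rw [hD.finrank_eq, ← (Submodule.equivMapOfInjective _ ?_ _).finrank_eq, hD.finrank_eq]
          intro u v huv
          exact Matrix.mulVec_injective_iff_isUnit.2 (Units.isUnit g) (by simpa [Matrix.toLin'_apply] using huv)⟩
      rcases h with ⟨h0, h1⟩ | ⟨h0, h1⟩
      · refine key 1 fun i => ?_
        rcases (by decide : ∀ i : Fin 2, i = 0 ∨ i = 1) i with rfl | rfl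
        exacts [h0, h1]
      · refine key (Equiv.swap 0 1) fun i => ?_
        rcases (by decide : ∀ i : Fin 2, i = 0 ∨ i = 1) i with rfl | rfl
        · rw [Equiv.swap_apply_left]; exact h0
        · rw [Equiv.swap_apply_right]; exact h1
  · intro hq K hK hsa
    exact CfsgLib.Perm.Trans.OrthExt.extField_maximal hQ (hodd hq) Nat.prime_two hK hsa (by simp) (by simp)
  · intro hq K hK hsa
    exact CfsgLib.Perm.Trans.OrthExt.extField_maximal hQ (hodd hq) Nat.prime_three hK hsa (by simp) (by simp)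
  · intro K hK hac hnsa hsc
    exact CfsgLib.Perm.Trans.Quad.Over.overfield_maximal hQ (by simp) hK hac hnsa hsc
  · intro hq3 e P f₁ f₂ hf₁ hf₂ hT hpure
    exact CfsgLib.Perm.Trans.TensorSymp.symp_tensor_maximal (by simp) hQ (by norm_num) (fun h => by omega) hf₁ hf₂ hT
      hpure
  · intro F₀ r P ζ hr hcard hζ hP
    exact CfsgLib.Perm.Trans.Quad.scaled_subfield_maximal_of_twelve hQ (by simp) hr hcard hζ hP

end Cfsg.Agent.S5870
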