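import Cfsg.Statements.S5871
-- import your own Cfsg.Agent.* helpers here
import Cfsg.Agent.Lib.Perm.Asch.OE.Cases2

set_option autoImplicit false
open Cfsg CfsgLib.Perm.Asch

namespace Cfsg.Agent.S5871

/-- Every maximal subgroup of Ω_12^+(q) is of one of the listed geometric types or lies in the residual class. Let F be a finite field with q elements (characteristic p), Q a non-degenerate quadratic form on F^12 of plus type (Witt index 6: some totally singular 6-space), Ω the commutator subgroup of its isometry group, and H a maximal subgroup of Ω (inside GL_12(F)). Then H is the intersection with Ω of one of: the stabiliser of a non-zero totally singular subspace of dimension ≠ 5; for q odd, the stabiliser of a non-degenerate subspace of odd dimension; the stabiliser of a non-degenerate 2-space of minus type; for q ≥ 4, the stabiliser of a non-degenerate 2-space of plus type; the stabiliser of a non-degenerate 4-space; for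 q even, the stabiliser of the span of a non-singular vector; for q = p an odd prime, the stabiliser of a decomposition into 12 pairwise orthogonal, pairwise isometric non-degenerate 1-spaces; for q ≥ 7, the stabiliser of a decomposition into 6 pairwise orthogonal, pairwise isometric non-degenerate 2-spaces of plus type; for q ≠ 3, the stabiliser of a decomposition into 6 pairwise orthogonal, pairwise isometric non-degenerate 2-spaces of minus type; for q odd with q ≥ 5, the stabiliser of a decomposition into 4 pairwise orthogonal, pairwise isometric non-degenerate 3-spaces; for q ≥ 3, the stabiliser of a decomposition into 3 pairwise orthogonal, pairwise isometric non-degenerate 4-spaces; the stabiliser of a decomposition into 2 pairwise orthogonal, pairwise isometric non-degenerate 6-spaces; of a decomposition into two totally singular 6-spaces; the normaliser of a degree-2 subfield of the matrix algebra; the normaliser of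 a degree-3 subfield of the matrix algebra; the normaliser of a degree-2 subfield K, adjoint-closed but not self-adjoint, acting by similarities of Q; for q ≥ 3, the stabiliser of a tensor decomposition of Q into alternating forms on F^2 and F^6 (Q vanishing on pure tensors); a subfield group (|F| = |F₀|^r, r prime) whose F₀-structure carries a non-zero multiple of Q — or else H lies in the residual class of the orthogonal case (modulo scalars H is almost simple, with absolutely irreducible perfect socle preimage realisable over no proper subfield and fixing no non-degenerate unitary form). -/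
theorem result {F : Type*} [Field F] [Fintype F] (Q : (Fin 12 → F) → F) (hQ : Cfsg.Geo.IsNondegenerateQuadraticForm Q) (hplus : Cfsg.Geo.IsPlusTypeOn Q ⊤) (H : Subgroup (Matrix.GeneralLinearGroup (Fin 12) F)) (hH : Cfsg.Geo.IsMaximalIn (Cfsg.Geo.omegaGL Q) H) :
    (∃ W : Submodule F (Fin 12 → F), W ≠ ⊥ ∧ Cfsg.Geo.IsTotallySingularQuad Q W ∧ Module.finrank F W ≠ 5 ∧ H = Cfsg.Geo.subspaceStabilizer W ⊓ Cfsg.Geo.omegaGL Q) ∨
    (Odd (Fintype.card F) ∧ ∃ W : Submodule F (Fin 12 → F), W ≠ ⊥ ∧ W ≠ ⊤ ∧ Odd (Module.finrank F W) ∧ 2 * Module.finrank F W ≠ 12 ∧ Cfsg.Geo.IsNondegenerateOn (QuadraticMap.polar Q) W ∧ H = Cfsg.Geo.subspaceStabilizer W ⊓ Cfsg.Geo.omegaGL Q) ∨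
    (∃ W : Submodule F (Fin 12 → F), Module.finrank F W = 2 ∧ Cfsg.Geo.IsNondegenerateOn (QuadraticMap.polar Q) W ∧ ¬ Cfsg.Geo.IsPlusTypeOn Q W ∧ H = Cfsg.Geo.subspaceStabilizer W ⊓ Cfsg.Geo.omegaGL Q) ∨
    (4 ≤ Fintype.card F ∧ ∃ W : Submodule F (Fin 12 → F), Module.finrank F W = 2 ∧ Cfsg.Geo.IsNondegenerateOn (QuadraticMap.polar Q) W ∧ Cfsg.Geo.IsPlusTypeOn Q W ∧ H = Cfsg.Geo.subspaceStabilizer W ⊓ Cfsg.Geo.omegaGL Q) ∨
    (∃ W : Submodule F (Fin 12 → F), Module.finrank F W = 4 ∧ Cfsg.Geo.IsNondegenerateOn (QuadraticMap.polar Q) W ∧ H = Cfsg.Geo.subspaceStabilizer W ⊓ Cfsg.Geo.omegaGL Q) ∨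
    (¬ Odd (Fintype.card F) ∧ ∃ v : (Fin 12 → F), Q v ≠ 0 ∧ H = Cfsg.Geo.subspaceStabilizer (Submodule.span F {v}) ⊓ Cfsg.Geo.omegaGL Q) ∨
    ((∃ p : ℕ, p.Prime ∧ Odd p ∧ Fintype.card F = p) ∧ ∃ D : Fin 12 → Submodule F (Fin 12 → F), Cfsg.Geo.IsOrthogonalMDecomposition Q 1 D ∧ H = Cfsg.Geo.decompositionStabilizer D ⊓ Cfsg.Geo.omegaGL Q) ∨
    (7 ≤ Fintype.card F ∧ ∃ D : Fin 6 → Submodule F (Fin 12 → F), Cfsg.Geo.IsOrthogonalMDecomposition Q 2 D ∧ (∀ i, Cfsg.Geo.IsPlusTypeOn Q (D i)) ∧ H = Cfsg.Geo.decompositionStabilizer D ⊓ Cfsg.Geo.omegaGL Q) ∨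
    (Fintype.card F ≠ 3 ∧ ∃ D : Fin 6 → Submodule F (Fin 12 → F), Cfsg.Geo.IsOrthogonalMDecomposition Q 2 D ∧ (∀ i, ¬ Cfsg.Geo.IsPlusTypeOn Q (D i)) ∧ H = Cfsg.Geo.decompositionStabilizer D ⊓ Cfsg.Geo.omegaGL Q) ∨
    (Odd (Fintype.card F) ∧ 5 ≤ Fintype.card F ∧ ∃ D : Fin 4 → Submodule F (Fin 12 → F), Cfsg.Geo.IsOrthogonalMDecomposition Q 3 D ∧ H = Cfsg.Geo.decompositionStabilizer D ⊓ Cfsg.Geo.omegaGL Q) ∨
    (3 ≤ Fintype.card F ∧ ∃ D : Fin 3 → Submodule F (Fin 12 → F), Cfsg.Geo.IsOrthogonalMDecomposition Q 4 D ∧ H = Cfsg.Geo.decompositionStabilizer D ⊓ Cfsg.Geo.omegaGL Q) ∨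
    (∃ D : Fin 2 → Submodule F (Fin 12 → F), Cfsg.Geo.IsOrthogonalMDecomposition Q 6 D ∧ H = Cfsg.Geo.decompositionStabilizer D ⊓ Cfsg.Geo.omegaGL Q) ∨
    (∃ D : Fin 2 → Submodule F (Fin 12 → F), Cfsg.Geo.IsMDecomposition 6 D ∧ (∀ i, Cfsg.Geo.IsTotallySingularQuad Q (D i)) ∧ H = Cfsg.Geo.decompositionStabilizer D ⊓ Cfsg.Geo.omegaGL Q) ∨
    (∃ K : Subalgebra F (Matrix (Fin 12) (Fin 12) F), Cfsg.Geo.IsFieldSubalgebra 2 K ∧ H = Cfsg.Geo.subalgebraNormalizer K ⊓ Cfsg.Geo.omegaGL Q) ∨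
    (∃ K : Subalgebra F (Matrix (Fin 12) (Fin 12) F), Cfsg.Geo.IsFieldSubalgebra 3 K ∧ H = Cfsg.Geo.subalgebraNormalizer K ⊓ Cfsg.Geo.omegaGL Q) ∨
    (∃ K : Subalgebra F (Matrix (Fin 12) (Fin 12) F), Cfsg.Geo.IsFieldSubalgebra 2 K ∧ Cfsg.Geo.IsAdjointClosedFor (QuadraticMap.polar Q) K ∧ ¬ Cfsg.Geo.IsSelfAdjointFor (QuadraticMap.polar Q) K ∧ (∀ k ∈ K, ∃ c : F, ∀ v : (Fin 12 → F), Q (Matrix.mulVec k v) = c * Q v) ∧ H = Cfsg.Geo.subalgebraNormalizer K ⊓ Cfsg.Geo.omegaGL Q) ∨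
    (3 ≤ Fintype.card F ∧ ∃ (e : Fin 12 ≃ Fin 2 × Fin 6) (P : Matrix.GeneralLinearGroup (Fin 12) F) (f₁ : (Fin 2 → F) → (Fin 2 → F) → F) (f₂ : (Fin 6 → F) → (Fin 6 → F) → F), Cfsg.Geo.IsSymplecticForm f₁ ∧ Cfsg.Geo.IsSymplecticForm f₂ ∧ Cfsg.Geo.IsTensorFormStructure id (QuadraticMap.polar Q) f₁ f₂ e P ∧ (∀ (x₁ : Fin 2 → F) (x₂ : Fin 6 → F), Q (Matrix.mulVec (P : Matrix (Fin 12) (Fin 12) F) ((fun a : Fin 2 × Fin 6 => x₁ a.1 * x₂ a.2) ∘ e)) = 0) ∧ H = Cfsg.Geo.tensorProductSubgroup 2 6 e P ⊓ Cfsg.Geo.omegaGL Q) ∨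
    (∃ (F₀ : Subfield F) (r : ℕ) (P : Matrix.GeneralLinearGroup (Fin 12) F) (ζ : F), r.Prime ∧ Fintype.card F = Nat.card F₀ ^ r ∧ ζ ≠ 0 ∧ Cfsg.Geo.IsQuadFormRationalStructure (fun v : Fin 12 → F => ζ * Q v) F₀ P ∧ H = Cfsg.Geo.subfieldSubgroup F₀ P ⊓ Cfsg.Geo.omegaGL Q) ∨
    Cfsg.Geo.InOrthogonalResidualClass H := by
  have hc : Fintype.card (Fin 12) = 12 := Fintype.card_fin 12
  have hn : 8 ≤ Fintype.card (Fin 12) := by omega
  have hn' : Fintype.card (Fin 12) ≤ 12 := by omega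
  have he : Even (Fintype.card (Fin 12)) := by rw [hc]; decide
  rcases OE.oe_structure hQ (by omega) (OE.max_iso hH) with hcl | hres
  swap
  · iterate 18 right
    exact hres
  cases hcl with
  | singular h0 hs h =>
    obtain ⟨heq, hne⟩ := OE.case_singular hQ hH hn hn' h0 hs h
    have := hne hplus
    exact Or.inl ⟨_, h0, hs, by omega, heq⟩
  | nondeg h0 h1 hW h =>
    obtain ⟨V, v0, v1, hV, hd, hpos, hle, heq⟩ := OE.case_nondeg hQ hH hn hn' h0 h1 hW h
    rw [hc] at hd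
    rcases Nat.even_or_odd (Module.finrank F V) with hev | hodd
    · rcases (show Module.finrank F V = 2 ∨ Module.finrank F V = 4 ∨ Module.finrank F V = 6 by
        obtain ⟨j, hj⟩ := hev; omega) with h2 | h4 | h6
      · by_cases hp : Cfsg.Geo.IsPlusTypeOn Q V
        · iterate 3 right
          exact Or.inl ⟨OE.case_plane hQ hH hn hn' h2 hV heq hp, V, h2, hV, hp, heq⟩
        · iterate 2 right
          exact Or.inl ⟨V, h2, hV, hp, heq⟩
      · iterate 4 right
        exact Or.inl ⟨V, h4, hV, heq⟩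
      · obtain ⟨hD, hDeq, hDiso⟩ := OE.case_halves hQ hH hn hn' h6 (by omega) hV hle
        have hperp := CfsgLib.Perm.Trans.Quad.finrank_qperp_add hQ V
        have hi := OE.isometric_of_type hQ hV (CfsgLib.Perm.Trans.Quad.qperp_nd hQ hV) (by omega) hev
          ((OE.halves_even hQ hV hev he).1 hplus)
        iterate 11 right
        exact Or.inl ⟨_, hDiso hi, hDeq⟩
    · right
      exact Or.inl ⟨OE.odd_card_iff_two.2 (OE.two_ne_of_odd_nd hQ hV hodd), V, v0, v1, hodd,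
        (by obtain ⟨j, hj⟩ := hodd; omega), hV, heq⟩
  | point h2 hv h =>
    iterate 5 right
    exact Or.inl ⟨(OE.case_point hQ hH hn hn' h2 hv h).1, _, hv, (OE.case_point hQ hH hn hn' h2 hv h).2⟩
  | @dec t k D hk hD h =>
    obtain ⟨htk, heq⟩ := OE.case_decomposition hQ hH hn hn' hD.decomp.decomp h
    rw [hc] at htk
    have h2t := hD.decomp.decomp.two_le
    have h1k := hD.decomp.decomp.pos
    have hk6 : k ≤ 6 := by
      have := Nat.mul_le_mul_right k h2t
      omega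
    rcases (show (t = 12 ∧ k = 1) ∨ (t = 6 ∧ k = 2) ∨ (t = 4 ∧ k = 3) ∨ (t = 3 ∧ k = 4) ∨ (t = 2 ∧ k = 6) by
        interval_cases k <;> omega) with ⟨rfl, rfl⟩ | ⟨rfl, rfl⟩ | ⟨rfl, rfl⟩ | ⟨rfl, rfl⟩ | ⟨rfl, rfl⟩
    · obtain ⟨-, hp, h2⟩ := hk.resolve_left (lt_irrefl 1)
      iterate 6 right
      exact Or.inl ⟨⟨Fintype.card F, hp, OE.odd_card_iff_two.2 h2, rfl⟩, D, hD, heq⟩
    · by_cases hp : Cfsg.Geo.IsPlusTypeOn Q (D 0)
      · have hall : ∀ i, Cfsg.Geo.IsPlusTypeOn Q (D i) := fun i => OE.plus_of_isometric hQ (hD.isometric 0 i) hp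
        iterate 7 right
        exact Or.inl ⟨OE.plus_planes_card hQ hH (by omega) hn' hD heq hall, D, hD, hall, heq⟩
      · have hall : ∀ i, ¬ Cfsg.Geo.IsPlusTypeOn Q (D i) := fun i hi => hp (OE.plus_of_isometric hQ (hD.isometric i 0) hi)
        iterate 8 right
        exact Or.inl ⟨OE.minus_planes_card hQ hH (by omega) hn' hD heq hall, D, hD, hall, heq⟩
    · obtain ⟨hodd, h5⟩ := OE.triples_card hQ hH (by omega) hn' hD heq
      iterate 9 right
      exact Or.inl ⟨hodd, h5, D, hD, heq⟩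
    · have hall : ∀ i, Cfsg.Geo.IsPlusTypeOn Q (D i) := fun i =>
        ((OE.dec_type_even hQ hD (by decide) i).1 hplus).resolve_left (by decide)
      iterate 10 right
      exact Or.inl ⟨OE.fours_card hQ hH (by omega) hn' hD heq hall, D, hD, heq⟩
    · iterate 11 right
      exact Or.inl ⟨D, hD, heq⟩
  | @pair k D hD hs h =>
    obtain ⟨h2k, -, heq, -⟩ := OE.case_pair hQ hH hn hn' hD hs h
    obtain rfl : k = 6 := by omega
    iterate 12 right
    exact Or.inl ⟨D, hD, hs, heq⟩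
  | @field r K hr hK hne hcl h =>
    obtain ⟨hdvd, heq⟩ := OE.case_field hQ hH hn hn' hr hK h
    rw [hc] at hdvd
    have hr23 : r = 2 ∨ r = 3 := by
      rcases (Nat.Prime.dvd_mul hr).1 (show r ∣ 2 ^ 2 * 3 from hdvd) with h' | h'
      · exact Or.inl ((Nat.prime_dvd_prime_iff_eq hr Nat.prime_two).1 (hr.dvd_of_dvd_pow h'))
      · exact Or.inr ((Nat.prime_dvd_prime_iff_eq hr Nat.prime_three).1 h')
    rcases hr23 with rfl | rfl
    · iterate 13 right
      exact Or.inl ⟨K, hK, heq⟩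
    · iterate 14 right
      exact Or.inl ⟨K, hK, heq⟩
  | @sub F₀ r P ζ hr hcard hζ hs h =>
    obtain ⟨heq, -⟩ := OE.case_sub hQ hH hn hn' he hr hcard hζ hs h
    iterate 17 right
    exact Or.inl ⟨F₀, r, P, ζ, hr, hcard, hζ, hs, heq⟩
  | @tensorA d k e P f₁ f₂ hd hk h₁ h₂ hs hp h =>
    have hdk := OE.tensor_count e
    rw [hc] at hdk
    have hd6 : d ≤ 6 := by
      have := Nat.mul_le_mul_left d hk
      omega
    obtain ⟨a, ha⟩ := isSymplecticForm_even h₁
    obtain ⟨b, hb⟩ := isSymplecticForm_even h₂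
    rcases (show (d = 2 ∧ k = 6) ∨ (d = 6 ∧ k = 2) by interval_cases d <;> omega) with ⟨rfl, rfl⟩ | ⟨rfl, rfl⟩
    · obtain ⟨h3, heq⟩ := OE.case_pair26 hQ hH (by omega) hn' h₁ h₂ hs hp h
      iterate 16 right
      exact Or.inl ⟨h3, e, P, f₁, f₂, h₁, h₂, hs, hp, heq⟩
    · have hp' : ∀ x y, Q (pt2 (e.trans (Equiv.prodComm _ _)) P x y) = 0 := fun x y => by
        rw [OE.pt2_swap]; exact hp y x
      obtain ⟨h3, heq⟩ := OE.case_pair26 hQ hH (by omega) hn' h₂ h₁ (OE.tensorStructure_swap hs) hp'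
        (le_trans h (tensorProduct_swap e P))
      iterate 16 right
      exact Or.inl ⟨h3, _, P, f₂, f₁, h₂, h₁, OE.tensorStructure_swap hs, hp', heq⟩
  | @tensorS d k e P f₁ f₂ h2 hd hdk h₁ h₂ hs h =>
    obtain ⟨rfl, h3k⟩ := OE.tensorS_dims hn' hd hdk e
    obtain rfl : k = 4 := by omega
    have hplus₂ := (OE.tensor34_type hQ h2 h₁ h₂ hs).1 hplus
    obtain ⟨e', P', g₁, g₂, hg₁, hg₂, hs', h'⟩ := OE.tensor34_to_26 hQ h2 h₁ h₂ hs hH.1.le hplus₂ h
    have hp' := OE.pure_zero_odd hQ h2 hg₁ hg₂ hs'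
    obtain ⟨h3, heq⟩ := OE.case_pair26 hQ hH (by omega) hn' hg₁ hg₂ hs' hp' h'
    iterate 16 right
    exact Or.inl ⟨h3, e', P', g₁, g₂, hg₁, hg₂, hs', hp', heq⟩
  | sym h2 haQ ha hl =>
    obtain ⟨l, hl⟩ := hl
    exact absurd hl (OE.pow_two_ne (by omega) hn')
  | powerTwo hl hp =>
    obtain ⟨l, -, hl⟩ := hl
    exact absurd hl (OE.pow_two_ne (by omega) hn')
  | power hd ht heq => exact absurd heq (OE.pow_ne_of_three hn' (by omega) hd ht)

end Cfsg.Agent.S5871
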