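import Cfsg.Statements.S5873
import Cfsg.Agent.Lib.Perm.Trans.QuadMax
import Cfsg.Agent.Lib.Perm.Trans.QuadNondegCases
import Cfsg.Agent.Lib.Perm.Trans.QuadPoint
import Cfsg.Agent.Lib.Perm.Trans.QuadDecompMax
import Cfsg.Agent.Lib.Perm.Trans.QuadPlaneMax
import Cfsg.Agent.Lib.Perm.Trans.QuadSubfScaled
import Cfsg.Agent.Lib.Perm.Trans.OrthExt.Max
import Cfsg.Agent.Lib.Perm.Trans.TensorOO.EvenMax

set_option autoImplicit false
open Cfsg

namespace Cfsg.Agent.S5873

/-- Maximal subgroups of Ω_12^-(q) of geometric type (any q). Let F be a finite field with q elements (characteristic p), Q a non-degenerate quadratic form on F^12 (non-degenerate polar form) of minus type (Witt index 5: no totally singular 6-space), and Ω = Ω_12^-(q) the commutator subgroup of the isometry group of Q, inside GL_12(F). Each of the following, intersected with Ω, is a maximal subgroup of Ω: (1) the stabiliser of any non-zero subspace on which Q vanishes identically (totally singular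 subspaces, dimensions 1 to 5); (2) for q odd, the stabiliser of any subspace of odd dimension on which the polar form of Q is non-degenerate; (3) the stabiliser of any non-degenerate 2-space of minus type (containing no non-zero singular vector); (4) for q ≥ 4, the stabiliser of any non-degenerate 2-space of plus type (containing a non-zero singular vector); (5) the stabiliser of any non-degenerate 4-space (either type); (6) the stabiliser of any non-degenerate 6-space (either type); (7) for q even, the stabiliser of the 1-space spanned by any non-singular vector v (Q(v) ≠ 0); (8) the stabiliser of any decomposition of F^12 into 3 pairwise orthogonal, pairwise Q-isometric non-degenerate 4-spaces of minus type; (9) for q odd, the normaliser of any degree-2 subfield K of the matrix algebra whose elements are self-adjoint for the polar form of Q (Q is then the trace of a quadratic form over K); (10) for q odd, the normaliser of any degree-3 subfield K of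 the matrix algebra whose elements are self-adjoint for the polar form of Q (Q is then the trace of a quadratic form over K); (11) for q odd with q ≥ 5, the stabiliser of any tensor decomposition F^12 = F^3 ⊗ F^4 in which the polar form of Q is the product of non-degenerate symmetric bilinear forms, the second of minus type, up to a scalar; (12) every subfield group for a subfield F₀ with |F| = |F₀|^r, r an odd prime, whose F₀-structure carries a non-zero scalar multiple of Q. -/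
theorem result {F : Type*} [Field F] [Fintype F] (Q : (Fin 12 → F) → F) (hQ : Cfsg.Geo.IsNondegenerateQuadraticForm Q) (hminus : ¬ Cfsg.Geo.IsPlusTypeOn Q ⊤) :
    (∀ W : Submodule F (Fin 12 → F), W ≠ ⊥ → Cfsg.Geo.IsTotallySingularQuad Q W → Cfsg.Geo.IsMaximalIn (Cfsg.Geo.omegaGL Q) (Cfsg.Geo.subspaceStabilizer W ⊓ Cfsg.Geo.omegaGL Q)) ∧
    (Odd (Fintype.card F) → ∀ W : Submodule F (Fin 12 → F), W ≠ ⊥ → W ≠ ⊤ → Odd (Module.finrank F W) → 2 * Module.finrank F W ≠ 12 → Cfsg.Geo.IsNondegenerateOn (QuadraticMap.polar Q) W → Cfsg.Geo.IsMaximalIn (Cfsg.Geo.omegaGL Q) (Cfsg.Geo.subspaceStabilizer W ⊓ Cfsg.Geo.omegaGL Q)) ∧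
    (∀ W : Submodule F (Fin 12 → F), Module.finrank F W = 2 → Cfsg.Geo.IsNondegenerateOn (QuadraticMap.polar Q) W → ¬ Cfsg.Geo.IsPlusTypeOn Q W → Cfsg.Geo.IsMaximalIn (Cfsg.Geo.omegaGL Q) (Cfsg.Geo.subspaceStabilizer W ⊓ Cfsg.Geo.omegaGL Q)) ∧
    (4 ≤ Fintype.card F → ∀ W : Submodule F (Fin 12 → F), Module.finrank F W = 2 → Cfsg.Geo.IsNondegenerateOn (QuadraticMap.polar Q) W → Cfsg.Geo.IsPlusTypeOn Q W → Cfsg.Geo.IsMaximalIn (Cfsg.Geo.omegaGL Q) (Cfsg.Geo.subspaceStabilizer W ⊓ Cfsg.Geo.omegaGL Q)) ∧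
    (∀ W : Submodule F (Fin 12 → F), Module.finrank F W = 4 → Cfsg.Geo.IsNondegenerateOn (QuadraticMap.polar Q) W → Cfsg.Geo.IsMaximalIn (Cfsg.Geo.omegaGL Q) (Cfsg.Geo.subspaceStabilizer W ⊓ Cfsg.Geo.omegaGL Q)) ∧
    (∀ W : Submodule F (Fin 12 → F), Module.finrank F W = 6 → Cfsg.Geo.IsNondegenerateOn (QuadraticMap.polar Q) W → Cfsg.Geo.IsMaximalIn (Cfsg.Geo.omegaGL Q) (Cfsg.Geo.subspaceStabilizer W ⊓ Cfsg.Geo.omegaGL Q)) ∧
    (¬ Odd (Fintype.card F) → ∀ v : (Fin 12 → F), Q v ≠ 0 → Cfsg.Geo.IsMaximalIn (Cfsg.Geo.omegaGL Q) (Cfsg.Geo.subspaceStabilizer (Submodule.span F {v}) ⊓ Cfsg.Geo.omegaGL Q)) ∧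
    (∀ D : Fin 3 → Submodule F (Fin 12 → F), Cfsg.Geo.IsOrthogonalMDecomposition Q 4 D → (∀ i, ¬ Cfsg.Geo.IsPlusTypeOn Q (D i)) → Cfsg.Geo.IsMaximalIn (Cfsg.Geo.omegaGL Q) (Cfsg.Geo.decompositionStabilizer D ⊓ Cfsg.Geo.omegaGL Q)) ∧
    (Odd (Fintype.card F) → ∀ K : Subalgebra F (Matrix (Fin 12) (Fin 12) F), Cfsg.Geo.IsFieldSubalgebra 2 K → Cfsg.Geo.IsSelfAdjointFor (QuadraticMap.polar Q) K → Cfsg.Geo.IsMaximalIn (Cfsg.Geo.omegaGL Q) (Cfsg.Geo.subalgebraNormalizer K ⊓ Cfsg.Geo.omegaGL Q)) ∧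
    (Odd (Fintype.card F) → ∀ K : Subalgebra F (Matrix (Fin 12) (Fin 12) F), Cfsg.Geo.IsFieldSubalgebra 3 K → Cfsg.Geo.IsSelfAdjointFor (QuadraticMap.polar Q) K → Cfsg.Geo.IsMaximalIn (Cfsg.Geo.omegaGL Q) (Cfsg.Geo.subalgebraNormalizer K ⊓ Cfsg.Geo.omegaGL Q)) ∧
    (Odd (Fintype.card F) ∧ 5 ≤ Fintype.card F → ∀ (e : Fin 12 ≃ Fin 3 × Fin 4) (P : Matrix.GeneralLinearGroup (Fin 12) F) (f₁ : (Fin 3 → F) → (Fin 3 → F) → F) (f₂ : (Fin 4 → F) → (Fin 4 → F) → F), Cfsg.Geo.IsSymmetricForm f₁ → Cfsg.Geo.IsSymmetricForm f₂ → ¬ Cfsg.Geo.IsPlusTypeOn (fun v : Fin 4 → F => f₂ v v) ⊤ → Cfsg.Geo.IsTensorFormStructure id (QuadraticMap.polar Q) f₁ f₂ e P → Cfsg.Geo.IsMaximalIn (Cfsg.Geo.omegaGL Q) (Cfsg.Geo.tensorProductSubgroup 3 4 e P ⊓ Cfsg.Geo.omegaGL Q)) ∧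
    (∀ (F₀ : Subfield F) (r : ℕ) (P : Matrix.GeneralLinearGroup (Fin 12) F) (ζ : F), r.Prime → Odd r → Fintype.card F = Nat.card F₀ ^ r → ζ ≠ 0 → Cfsg.Geo.IsQuadFormRationalStructure (fun v : Fin 12 → F => ζ * Q v) F₀ P → Cfsg.Geo.IsMaximalIn (Cfsg.Geo.omegaGL Q) (Cfsg.Geo.subfieldSubgroup F₀ P ⊓ Cfsg.Geo.omegaGL Q)) := by
  classical
  have hev : ¬ Odd (Fintype.card F) → (2 : F) = 0 := fun hchar => by
    by_contra h2
    exact hchar (Nat.odd_iff.2 (FiniteField.odd_card_of_char_ne_two (F := F) fun h => h2 (by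
      haveI := ringChar.of_eq h; exact CharTwo.two_eq_zero)))
  have hodd : Odd (Fintype.card F) → (2 : F) ≠ 0 := CfsgLib.Perm.Trans.TensorSO.two_ne_zero_of_odd_card
  have hW01 : ∀ W : Submodule F (Fin 12 → F), ∀ d, Module.finrank F W = d → 0 < d → d < 12 → W ≠ ⊥ ∧ W ≠ ⊤ :=
    fun W d h h0 h12 => ⟨fun hb => by rw [hb, finrank_bot] at h; omega,
      fun ht => by rw [ht, finrank_top, Module.finrank_fin_fun] at h; omega⟩
  refine ⟨?_, ?_, ?_, ?_, ?_, ?_, ?_, ?_, ?_, ?_, ?_, ?_⟩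
  · intro W hW0 hW
    refine CfsgLib.Perm.Trans.Quad.singular_subspace_maximal hQ (by simp) hW0 hW fun z hz hzW hQz => ?_
    obtain ⟨hT, h1, h2⟩ := CfsgLib.Perm.Trans.Quad.singular_extend hQ hW hz hzW hQz
    simp only [Fintype.card_fin] at h2 ⊢
    by_contra hcon
    refine hminus ⟨_, le_top, hT, ?_⟩
    rw [finrank_top, Module.finrank_fin_fun]
    omega
  · intro _ W hW0 hW1 hWo hdim hW
    refine CfsgLib.Perm.Trans.Quad.nd_subspace_maximal' hQ (by simp) hW0 hW1 hW (fun h => ?_) fun U hU h2 _ => ?_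
    · exact absurd (by simpa using h) hdim
    · exfalso
      obtain ⟨j, hj⟩ := hWo
      rcases hU with rfl | rfl
      · omega
      · have := CfsgLib.Perm.Trans.Quad.finrank_qperp_add hQ W
        rw [Fintype.card_fin] at this
        omega
  · intro W hd hW hm
    obtain ⟨hW0, hW1⟩ := hW01 W 2 hd (by norm_num) (by norm_num)
    refine CfsgLib.Perm.Trans.Quad.nd_subspace_maximal' hQ (by simp) hW0 hW1 hW (fun h => ?_) fun U hU h2 hUp => ?_
    · rw [hd, Fintype.card_fin] at h; omega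
    · exfalso
      rcases hU with rfl | rfl
      · exact hm hUp
      · have := CfsgLib.Perm.Trans.Quad.finrank_qperp_add hQ W
        rw [Fintype.card_fin] at this
        omega
  · intro hq W hd hW hp
    obtain ⟨hW0, hW1⟩ := hW01 W 2 hd (by norm_num) (by norm_num)
    refine CfsgLib.Perm.Trans.Quad.nd_subspace_maximal' hQ (by simp) hW0 hW1 hW (fun h => ?_) fun U _ _ _ => hq
    rw [hd, Fintype.card_fin] at h; omega
  · intro W hd hW
    obtain ⟨hW0, hW1⟩ := hW01 W 4 hd (by norm_num) (by norm_num)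
    refine CfsgLib.Perm.Trans.Quad.nd_subspace_maximal' hQ (by simp) hW0 hW1 hW (fun h => ?_) fun U hU h2 _ => ?_
    · rw [hd, Fintype.card_fin] at h; omega
    · exfalso
      rcases hU with rfl | rfl
      · omega
      · have := CfsgLib.Perm.Trans.Quad.finrank_qperp_add hQ W
        rw [Fintype.card_fin] at this
        omega
  · intro W hd hW
    obtain ⟨hW0, hW1⟩ := hW01 W 6 hd (by norm_num) (by norm_num)
    refine CfsgLib.Perm.Trans.Quad.nd_subspace_maximal' hQ (by simp) hW0 hW1 hW (fun h g hg hgW => ?_)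
      fun U hU h2 _ => ?_
    · exact hminus (CfsgLib.Perm.Trans.Quad.plus_of_isometric_halves hQ hW h (by rw [hd]; decide)
        (CfsgLib.Perm.Trans.Quad.omegaGL_le_iso hg) hgW)
    · exfalso
      rcases hU with rfl | rfl
      · omega
      · have := CfsgLib.Perm.Trans.Quad.finrank_qperp_add hQ W
        rw [Fintype.card_fin] at this
        omega
  · intro hchar v hv
    exact CfsgLib.Perm.Trans.Quad.point_maximal hQ (by simp) (hev hchar) hv
  · intro D hD hm
    refine CfsgLib.Perm.Trans.Quad.orth_decomp_maximal hQ hD (by simp) (by norm_num) (fun h => ?_)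
      (fun _ _ i => hm i)
    omega
  · intro hq K hK hsa
    exact CfsgLib.Perm.Trans.OrthExt.extField_maximal hQ (hodd hq) Nat.prime_two hK hsa (by simp) (by simp)
  · intro hq K hK hsa
    exact CfsgLib.Perm.Trans.OrthExt.extField_maximal hQ (hodd hq) Nat.prime_three hK hsa (by simp) (by simp)
  · rintro ⟨hq, hq5⟩ e P f₁ f₂ hf₁ hf₂ hm hT
    refine CfsgLib.Perm.Trans.TensorOO.orth_orth_even_maximal hQ hf₁ hf₂ hT (hodd hq) le_rfl ⟨1, rfl⟩ ⟨2, rfl⟩
      le_rfl (fun _ => hm) (Or.inr (CfsgLib.Perm.Trans.TensorSO.exists_non_sign ?_))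
    omega
  · intro F₀ r P ζ hr hro hcard hζ hP
    refine CfsgLib.Perm.Trans.Quad.scaled_subfield_maximal_twelve hQ (by simp) hr (fun h => ?_) hcard hζ hP
    subst h
    exact absurd hro (by decide)

end Cfsg.Agent.S5873
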