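import Cfsg.Statements.S5877
import Mathlib
import Cfsg.Agent.Lib.Perm.Elusive.ShiftEigen

set_option autoImplicit false
set_option linter.all false
open Cfsg

namespace Cfsg.Agent.S5877

section Aux

variable {F : Type*} [Field F] {n : ℕ}

/-- the linear map of a group element -/
theorem lin_mul (a b : GL (Fin n) F) (v : Fin n → F) :
    Matrix.toLin' ((a * b : GL (Fin n) F) : Matrix (Fin n) (Fin n) F) v =
      Matrix.toLin' (a : Matrix (Fin n) (Fin n) F) (Matrix.toLin' (b : Matrix (Fin n) (Fin n) F) v) := by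
  rw [Units.val_mul, Matrix.toLin'_mul, LinearMap.comp_apply]

theorem lin_injective (a : GL (Fin n) F) : Function.Injective (Matrix.toLin' (a : Matrix (Fin n) (Fin n) F)) := by
  intro u v h
  have h' := congrArg (Matrix.toLin' ((a⁻¹ : GL (Fin n) F) : Matrix (Fin n) (Fin n) F)) h
  rwa [← lin_mul, ← lin_mul, inv_mul_cancel, Units.val_one, Matrix.toLin'_one, LinearMap.id_apply, LinearMap.id_apply] at h'

theorem mem_scalars_of_eq {a : GL (Fin n) F} {c : F} (h : (a : Matrix (Fin n) (Fin n) F) = c • 1) :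
    a ∈ Cfsg.Geo.scalars (Fin n) F := by
  rw [Cfsg.Geo.mem_scalars_iff]
  by_cases hc : c = 0
  · refine ⟨1, ?_⟩
    rw [Units.val_one, one_smul]
    have h1 : (a : Matrix (Fin n) (Fin n) F) * ((a⁻¹ : GL (Fin n) F) : Matrix (Fin n) (Fin n) F) = 1 := Units.mul_inv a
    rw [h, hc, zero_smul, zero_mul] at h1
    rw [h, hc, zero_smul, h1]
  · exact ⟨Units.mk0 c hc, h⟩

theorem commute_of_scalars {a : GL (Fin n) F} (ha : a ∈ Cfsg.Geo.scalars (Fin n) F) (b : GL (Fin n) F) : a * b = b * a := by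
  obtain ⟨c, hc⟩ := (Cfsg.Geo.mem_scalars_iff _).1 ha
  refine Units.ext ?_
  rw [Units.val_mul, Units.val_mul, hc, Matrix.smul_mul, Matrix.mul_smul, Matrix.one_mul, Matrix.mul_one]

theorem scalar_unique {a b : GL (Fin n) F} (hn : 0 < n) {x y : F}
    (h : x • ((a * b : GL (Fin n) F) : Matrix (Fin n) (Fin n) F) = y • ((a * b : GL (Fin n) F) : Matrix (Fin n) (Fin n) F)) :
    x = y := by
  have h' := congrArg (· * (((a * b)⁻¹ : GL (Fin n) F) : Matrix (Fin n) (Fin n) F)) h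
  simp only [Matrix.smul_mul, Units.mul_inv] at h'
  have h'' := congrFun (congrFun h' ⟨0, hn⟩) ⟨0, hn⟩
  simpa using h''

/-- additive endomorphisms: killed cube -/
theorem cube_zero {Q : Type*} [AddCommGroup Q] (T : AddMonoid.End Q) {r ϖ : ℕ} (hr : r.Prime) (hϖ : Odd ϖ)
    (hrQ : ((r : ℕ) : AddMonoid.End Q) = 0) (hT : T ^ ϖ = 1)
    (hrel : T ^ 4 - 2 * T ^ 3 + 2 * T - 1 = 0) : (T - 1) ^ 4 = 0 := by
  have h0 : (T - 1) ^ 3 * (T + 1) = 0 := by rw [← hrel]; noncomm_ring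
  rcases hr.eq_two_or_odd' with h2 | ⟨s, hs⟩
  · subst h2
    have h22 : (2 : AddMonoid.End Q) = 0 := by exact_mod_cast hrQ
    rw [← h0]
    calc (T - 1) ^ 4 = (T - 1) ^ 3 * (T + 1) - (T - 1) ^ 3 * 2 := by noncomm_ring
      _ = _ := by rw [h22, mul_zero, sub_zero]
  · have h1 : (T - 1) ^ 3 * T = -((T - 1) ^ 3) := by
      rw [mul_add, mul_one] at h0
      exact eq_neg_of_add_eq_zero_left h0
    have hk : ∀ k : ℕ, (T - 1) ^ 3 * T ^ k = (-1 : ℤ) ^ k • (T - 1) ^ 3 := fun k => by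
      induction k with
      | zero => simp
      | succ k ih => rw [pow_succ T, ← mul_assoc, ih, smul_mul_assoc, h1]; simp [pow_succ]
    have h2 := hk ϖ
    rw [hT, mul_one, hϖ.neg_one_pow, neg_one_smul, eq_neg_iff_add_eq_zero] at h2
    have h3 : ((r : ℕ) : AddMonoid.End Q) * (T - 1) ^ 3 = 0 := by rw [hrQ, zero_mul]
    rw [hs, Nat.cast_add, Nat.cast_one, add_mul, one_mul, mul_comm 2 s, Nat.cast_mul, mul_assoc, Nat.cast_ofNat, two_mul, h2,
      mul_zero, zero_add] at h3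
    rw [show (4 : ℕ) = 3 + 1 from rfl, pow_succ, h3, zero_mul]

theorem fixed_of_ne {Q : Type*} [AddCommGroup Q] (T : AddMonoid.End Q) {r ϖ : ℕ} (hr : r.Prime) (hϖ : ϖ.Prime) (hne : ϖ ≠ r)
    (hrQ : ((r : ℕ) : AddMonoid.End Q) = 0) (hT : T ^ ϖ = 1) (h4 : (T - 1) ^ 4 = 0) : T - 1 = 0 := by
  obtain ⟨N, hN⟩ : ∃ N, N = T - 1 := ⟨_, rfl⟩
  have hTN : T = 1 + N := by rw [hN]; abel
  rw [← hN] at h4 ⊢
  have hdesc : ∀ k, N ^ (k + 2) = 0 → N ^ (k + 1) = 0 := by
    intro k hk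
    have hj : ∀ j : ℕ, N ^ k * T ^ j = N ^ k + (j : AddMonoid.End Q) * N ^ (k + 1) := fun j => by
      induction j with
      | zero => simp
      | succ j ih =>
        rw [pow_succ, ← mul_assoc, ih, hTN, mul_add, mul_one, add_mul, ← pow_succ, mul_assoc, ← pow_succ, hk, mul_zero,
          add_zero, Nat.cast_succ, add_mul, one_mul, add_assoc]
    have h1 := hj ϖ
    rw [hT, mul_one, left_eq_add] at h1
    obtain ⟨u, -, hu⟩ : ∃ u < r, ϖ * u % r = 1 := Nat.exists_mul_mod_eq_one_of_coprime ((Nat.coprime_primes hϖ hr).2 hne) hr.one_lt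
    have e := Nat.div_add_mod (ϖ * u) r
    rw [hu] at e
    have h2 : ((ϖ * u : ℕ) : AddMonoid.End Q) * N ^ (k + 1) = 0 := by
      rw [mul_comm ϖ u, Nat.cast_mul, mul_assoc, h1, mul_zero]
    rwa [← e, Nat.cast_add, Nat.cast_mul, hrQ, zero_mul, zero_add, Nat.cast_one, one_mul] at h2
  have h3 := hdesc 2 h4
  have h2 := hdesc 1 h3
  have h1 := hdesc 0 h2
  rwa [zero_add, pow_one] at h1

end Aux


/-- Eigenspaces of elements normalising an absolutely irreducible extraspecial group. Let F be a finite field, r a prime, and R ≤ GL_n(F) an absolutely irreducible extraspecial r-group (an r-group whose centre equals its derived subgroup and has order r) of exponent r or 4. Let g ∈ GL_n(F) normalise the product of R with the scalar matrices, have prime order ϖ and not be scalar, and let W be the eigenspace of g for any c ∈ F (W may be the zero subspace). Then dim W ≤ 3n/4 if ϖ = 2, dim W ≤ 2n/3 if ϖ = 3, and dim W ≤ n/2 if ϖ > 3; moreover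 if ϖ = 3 and 3 does not divide n then dim W ≤ n/2. -/
theorem result {F : Type*} [Field F] [Fintype F] {n r ϖ : ℕ} (R : Subgroup (Matrix.GeneralLinearGroup (Fin n) F)) (hr : r.Prime) (hR : IsPGroup r R) (hZ : Nat.card (Subgroup.center R) = r) (hext : commutator R = Subgroup.center R) (hexp : Monoid.exponent R = r ∨ Monoid.exponent R = 4) (hirr : Cfsg.Geo.ActsAbsolutelyIrreducibly (Cfsg.Geo.matrixSet R)) (g : Matrix.GeneralLinearGroup (Fin n) F) (hg : g ∈ Cfsg.Geo.subgroupNormalizer (R ⊔ Cfsg.Geo.scalars (Fin n) F)) (hϖ : ϖ.Prime) (hord : orderOf g = ϖ) (hns : g ∉ Cfsg.Geo.scalars (Fin n) F) (c : F) :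
    (ϖ = 2 → 4 * Module.finrank F (Module.End.eigenspace (Matrix.toLin' (g : Matrix (Fin n) (Fin n) F)) c) ≤ 3 * n) ∧
    (ϖ = 3 → 3 * Module.finrank F (Module.End.eigenspace (Matrix.toLin' (g : Matrix (Fin n) (Fin n) F)) c) ≤ 2 * n) ∧
    (3 < ϖ → 2 * Module.finrank F (Module.End.eigenspace (Matrix.toLin' (g : Matrix (Fin n) (Fin n) F)) c) ≤ n) ∧
    (ϖ = 3 → ¬ 3 ∣ n → 2 * Module.finrank F (Module.End.eigenspace (Matrix.toLin' (g : Matrix (Fin n) (Fin n) F)) c) ≤ n) := by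
  classical
  obtain ⟨S, hS⟩ : ∃ S, S = Cfsg.Geo.scalars (Fin n) F := ⟨_, rfl⟩
  rw [← hS] at hg hns
  have hn : 0 < n := by
    by_contra h0
    obtain rfl : n = 0 := by omega
    exact hns (hS ▸ mem_scalars_of_eq (c := 1) (Subsingleton.elim _ _))
  haveI : Fact r.Prime := ⟨hr⟩
  haveI hSn : S.Normal := hS ▸ Cfsg.Geo.scalars_normal
  have hScomm : ∀ a ∈ S, ∀ b, a * b = b * a := fun a ha b => commute_of_scalars (hS ▸ ha) b
  have hcent : ∀ a : GL (Fin n) F, (∀ y ∈ R, a * y = y * a) → a ∈ S := by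
    intro a ha
    obtain ⟨c, hc⟩ := hirr.2 (a : Matrix (Fin n) (Fin n) F) (by
      rintro _ ⟨y, hy, rfl⟩
      exact (Units.val_mul a y).symm.trans ((congrArg Units.val (ha y hy)).trans (Units.val_mul y a)))
    exact hS ▸ mem_scalars_of_eq hc
  obtain ⟨M, hM⟩ : ∃ M, M = R ⊔ S := ⟨_, rfl⟩
  rw [← hM] at hg
  have hRM : ∀ x ∈ R, x ∈ M := fun x hx => hM ▸ Subgroup.mem_sup_left hx
  have hfac : ∀ a ∈ M, ∃ x ∈ R, ∃ s ∈ S, x * s = a := fun a ha => Subgroup.mem_sup_of_normal_right.1 (hM ▸ ha)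
  -- commutators are scalars
  have hcom : ∀ a ∈ M, ∀ b ∈ M, ∃ β : F, β ^ r = 1 ∧
      ((a * b : GL (Fin n) F) : Matrix (Fin n) (Fin n) F) = β • ((b * a : GL (Fin n) F) : Matrix (Fin n) (Fin n) F) := by
    intro a ha b hb
    obtain ⟨x, hx, s, hs, rfl⟩ := hfac a ha
    obtain ⟨y, hy, u, hu, rfl⟩ := hfac b hb
    obtain ⟨z, hz⟩ : ∃ z : R, z = ⟨x, hx⟩ * ⟨y, hy⟩ * (⟨y, hy⟩ * ⟨x, hx⟩)⁻¹ := ⟨_, rfl⟩
    have hzc : z ∈ Subgroup.center R := by
      rw [← hext, hz, mul_inv_rev, ← mul_assoc]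
      exact Subgroup.commutator_mem_commutator (Subgroup.mem_top _) (Subgroup.mem_top _)
    have hzS : (z : GL (Fin n) F) ∈ S := hcent _ fun w hw => by
      have h := congrArg Subtype.val (Subgroup.mem_center_iff.1 hzc ⟨w, hw⟩)
      exact h.symm
    have hzr : (z : GL (Fin n) F) ^ r = 1 := by
      have h : (⟨z, hzc⟩ : Subgroup.center R) ^ r = 1 := hZ ▸ pow_card_eq_one'
      exact congrArg (fun w : Subgroup.center R => ((w : R) : GL (Fin n) F)) h
    obtain ⟨c, hc⟩ := (Cfsg.Geo.mem_scalars_iff _).1 (hS ▸ hzS)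
    have hxy : x * y = z * (y * x) := by
      have h : (z : GL (Fin n) F) = x * y * (y * x)⁻¹ := congrArg Subtype.val hz
      rw [h, inv_mul_cancel_right]
    refine ⟨c, ?_, ?_⟩
    · have h := congrArg Units.val hzr
      rw [Units.val_pow_eq_pow_val, hc, _root_.smul_pow, one_pow, Units.val_one] at h
      have h'' := congrFun (congrFun h ⟨0, hn⟩) ⟨0, hn⟩
      simpa using h''
    · have e : x * s * (y * u) = z * (y * u * (x * s)) := by
        rw [show x * s * (y * u) = x * (s * y) * u by group, hScomm s hs y, show y * u * (x * s) = y * (u * x) * s by group,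
          hScomm u hu x, show x * (y * s) * u = x * y * (s * u) by group, hxy, hScomm s hs u]
        group
      rw [e, Units.val_mul, hc, Matrix.smul_mul, Matrix.one_mul]
  choose! β hβr hβ using hcom
  have hβu : ∀ a ∈ M, ∀ b ∈ M, ∀ e : F,
      ((a * b : GL (Fin n) F) : Matrix (Fin n) (Fin n) F) = e • ((b * a : GL (Fin n) F) : Matrix (Fin n) (Fin n) F) → β a b = e :=
    fun a ha b hb e he => scalar_unique hn ((hβ a ha b hb).symm.trans he)
  have hβ0 : ∀ a ∈ M, ∀ b ∈ M, β a b ≠ 0 := fun a ha b hb h => by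
    have := hβr a ha b hb
    rw [h, zero_pow hr.ne_zero] at this
    exact zero_ne_one this
  have hβsymm : ∀ a ∈ M, ∀ b ∈ M, β b a = (β a b)⁻¹ := fun a ha b hb =>
    hβu b hb a ha _ (by rw [hβ a ha b hb, inv_smul_smul₀ (hβ0 a ha b hb)])
  have hβl : ∀ a ∈ M, ∀ a' ∈ M, ∀ b ∈ M, β (a * a') b = β a b * β a' b := fun a ha a' ha' b hb =>
    hβu _ (M.mul_mem ha ha') b hb _ (by
      rw [mul_assoc, Units.val_mul, hβ a' ha' b hb, Matrix.mul_smul, ← Units.val_mul, ← mul_assoc a b a', Units.val_mul,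
        hβ a ha b hb, Matrix.smul_mul, ← Units.val_mul, smul_smul, mul_assoc b a a', mul_comm])
  have hβr' : ∀ a ∈ M, ∀ b ∈ M, ∀ b' ∈ M, β a (b * b') = β a b * β a b' := fun a ha b hb b' hb' => by
    rw [hβsymm _ (M.mul_mem hb hb') a ha, hβl b hb b' hb' a ha, mul_inv, ← hβsymm b hb a ha, ← hβsymm b' hb' a ha]
  have hβone : ∀ a ∈ M, β a a = 1 := fun a ha => hβu a ha a ha 1 (one_smul _ _).symm
  have hβinv : ∀ a ∈ M, ∀ b ∈ M, β a b⁻¹ = (β a b)⁻¹ := fun a ha b hb => by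
    refine eq_inv_of_mul_eq_one_left ?_
    rw [← hβr' a ha _ (M.inv_mem hb) b hb, inv_mul_cancel]
    exact hβu a ha 1 M.one_mem 1 (by rw [one_smul, mul_one, one_mul])
  have hβS : ∀ a ∈ M, (∀ y ∈ R, β a y = 1) → a ∈ S := fun a ha h => hcent a fun y hy => Units.ext (by
    rw [hβ a ha y (hRM y hy), h y hy, one_smul])
  have hnc : ∀ a ∈ M, a ∉ S → ∃ y ∈ R, β a y ≠ 1 := fun a ha hnS => by
    by_contra hno
    push Not at hno
    exact hnS (hβS a ha hno)
  -- the action of g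
  obtain ⟨φ, hφ⟩ : ∃ φ : GL (Fin n) F → GL (Fin n) F, ∀ a, φ a = g * a * g⁻¹ := ⟨_, fun a => rfl⟩
  have hφM : ∀ a ∈ M, φ a ∈ M := fun a ha => hφ a ▸ (Subgroup.mem_normalizer_iff.1 hg a).1 ha
  have hφmul : ∀ a b, φ (a * b) = φ a * φ b := fun a b => by simp only [hφ]; group
  have hβφ : ∀ a ∈ M, ∀ b ∈ M, β (φ a) (φ b) = β a b := fun a ha b hb => hβu _ (hφM a ha) _ (hφM b hb) _ (by
    rw [← hφmul, ← hφmul, hφ, hφ, Units.val_mul, Units.val_mul, hβ a ha b hb]
    simp only [Units.val_mul, Matrix.mul_smul, Matrix.smul_mul])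
  have hφS : ∀ a ∈ S, φ a = a := fun a ha => by rw [hφ, ← hScomm a ha g, mul_inv_cancel_right]
  obtain ⟨W, hW⟩ : ∃ W, W = Module.End.eigenspace (Matrix.toLin' (g : Matrix (Fin n) (Fin n) F)) c := ⟨_, rfl⟩
  rw [← hW]
  obtain ⟨G, hG⟩ : ∃ G : Module.End F (Fin n → F), G = Matrix.toLin' (g : Matrix (Fin n) (Fin n) F) := ⟨_, rfl⟩
  rw [← hG] at hW
  have hgW : ∀ v ∈ W, G v = c • v := fun v hv => by rw [hW, Module.End.mem_eigenspace_iff] at hv; exact hv
  have hnV : Module.finrank F (Fin n → F) = n := Module.finrank_fin_fun F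
  by_cases hc : c = 0
  · have hW0 : W = ⊥ := (Submodule.eq_bot_iff _).2 fun v hv => lin_injective g (by
      rw [← hG, hgW v hv, hc, zero_smul, map_zero])
    rw [hW0, finrank_bot]
    simp
  suffices hmain : 4 * Module.finrank F W ≤ 3 * n ∧ (ϖ ≠ 2 → 2 * Module.finrank F W ≤ n ∨
      (r = ϖ ∧ r * Module.finrank F W ≤ 2 * n ∧ r ∣ n)) by
    refine ⟨fun _ => hmain.1, fun h3 => ?_, fun h3 => ?_, fun h3 hnd => ?_⟩
    · rcases hmain.2 (by omega) with h | ⟨e, h, -⟩
      · omega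
      · rw [e, h3] at h; exact h
    · rcases hmain.2 (by omega) with h | ⟨e, h, -⟩
      · exact h
      · have h5 : 5 ≤ r := by
          rw [e]
          by_contra h5
          obtain rfl : ϖ = 4 := by omega
          exact absurd hϖ (by decide)
        have := Nat.mul_le_mul_right (Module.finrank F W) h5
        omega
    · rcases hmain.2 (by omega) with h | ⟨e, -, h⟩
      · exact h
      · rw [e, h3] at h; exact absurd h hnd
  -- eigenspaces of elements of M outside S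
  have hprim : ∀ e : F, e ^ r = 1 → e ≠ 1 → IsPrimitiveRoot e r := fun e h1 h2 =>
    orderOf_eq_prime h1 h2 ▸ IsPrimitiveRoot.orderOf e
  have hrelM : ∀ a ∈ M, ∀ y ∈ M, ∀ v : Fin n → F, Matrix.toLin' (a : Matrix (Fin n) (Fin n) F)
      (Matrix.toLin' (y : Matrix (Fin n) (Fin n) F) v) =
        β a y • Matrix.toLin' (y : Matrix (Fin n) (Fin n) F) (Matrix.toLin' (a : Matrix (Fin n) (Fin n) F) v) :=
    fun a ha y hy v => by rw [← lin_mul, ← lin_mul, hβ a ha y hy, map_smul, LinearMap.smul_apply]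
  have heig : ∀ a ∈ M, a ∉ S → r * Module.finrank F
      (Module.End.eigenspace (Matrix.toLin' (a : Matrix (Fin n) (Fin n) F)) 1) ≤ n := by
    intro a ha hnS
    obtain ⟨y, hy, hne⟩ := hnc a ha hnS
    have h := CfsgLib.Perm.Elusive.shift_bound (Matrix.toLin' (a : Matrix (Fin n) (Fin n) F))
      (Matrix.toLin' (y : Matrix (Fin n) (Fin n) F)) (lin_injective y) (P := ⊤) (fun _ _ => Submodule.mem_top)
      (hprim _ (hβr a ha y (hRM y hy)) hne) (fun v _ => hrelM a ha y (hRM y hy) v) (μ := 1) one_ne_zero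
    rwa [inf_top_eq, finrank_top, hnV] at h
  have hsplit : ∀ x : GL (Fin n) F, ∀ P : Submodule F (Fin n → F),
      (∀ v ∈ W, Matrix.toLin' (x : Matrix (Fin n) (Fin n) F) v ∈ W → Matrix.toLin' (x : Matrix (Fin n) (Fin n) F) v ∈ P) →
      2 * Module.finrank F W ≤ n + Module.finrank F P := by
    intro x P hP
    have h := Submodule.finrank_sup_add_finrank_inf_eq W (W.map (Matrix.toLin' (x : Matrix (Fin n) (Fin n) F)))
    rw [← (Submodule.equivMapOfInjective _ (lin_injective x) W).finrank_eq] at h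
    have h1 := Submodule.finrank_le (W ⊔ W.map (Matrix.toLin' (x : Matrix (Fin n) (Fin n) F)))
    have h2 : Module.finrank F (W ⊓ W.map (Matrix.toLin' (x : Matrix (Fin n) (Fin n) F)) : Submodule F (Fin n → F)) ≤
        Module.finrank F P := by
      refine Submodule.finrank_mono fun u hu => ?_
      obtain ⟨hu1, v, hv, rfl⟩ := hu
      exact hP v hv hu1
    rw [hnV] at h1
    omega
  -- scalar shifts
  by_cases hshift : ∃ x ∈ R, φ x * x⁻¹ ∈ S ∧ φ x ≠ x
  · obtain ⟨x, hx, hxS, hxne⟩ := hshift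
    obtain ⟨e, he⟩ := (Cfsg.Geo.mem_scalars_iff _).1 (hS ▸ hxS)
    have he1 : (e : F) ≠ 1 := fun h => hxne (by
      refine mul_inv_eq_one.1 (Units.ext ?_)
      rw [he, h, one_smul, Units.val_one])
    have hb : 2 * Module.finrank F W ≤ n := by
      have h := hsplit x ⊥ fun v hv hxv => by
        have h1 : G (Matrix.toLin' (x : Matrix (Fin n) (Fin n) F) v) =
            (e : F) • Matrix.toLin' (x : Matrix (Fin n) (Fin n) F) (G v) := by
          rw [hG, ← lin_mul, ← lin_mul, show g * x = φ x * x⁻¹ * (x * g) by rw [hφ]; group, Units.val_mul, he,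
            Matrix.smul_mul, Matrix.one_mul, map_smul, LinearMap.smul_apply]
        rw [hgW _ hxv, hgW v hv, map_smul, smul_smul] at h1
        rw [Submodule.mem_bot]
        by_contra h0
        have h2 := smul_left_injective F h0 h1
        exact he1 (mul_right_cancel₀ hc (h2.symm.trans (one_mul c).symm))
      rw [finrank_bot] at h
      omega
    exact ⟨by omega, fun _ => Or.inl hb⟩
  push Not at hshift
  obtain ⟨x₀, hx₀, hx₀ne⟩ : ∃ x ∈ R, φ x ≠ x := by
    by_contra hno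
    push Not at hno
    exact hns (hcent g fun y hy => mul_inv_eq_iff_eq_mul.1 (hφ y ▸ hno y hy))
  -- twisting element
  obtain ⟨hh, hhd⟩ : ∃ hh : GL (Fin n) F → GL (Fin n) F, ∀ a, hh a = φ a * a⁻¹ := ⟨_, fun a => rfl⟩
  have hhM : ∀ a ∈ M, hh a ∈ M := fun a ha => hhd a ▸ M.mul_mem (hφM a ha) (M.inv_mem ha)
  have hgx : ∀ (x : GL (Fin n) F) v, G (Matrix.toLin' (x : Matrix (Fin n) (Fin n) F) v) =
      Matrix.toLin' ((hh x : GL (Fin n) F) : Matrix (Fin n) (Fin n) F) (Matrix.toLin' (x : Matrix (Fin n) (Fin n) F) (G v)) :=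
    fun x v => by
      rw [hG, ← lin_mul, ← lin_mul, ← lin_mul]
      congr 3
      rw [hhd, hφ]; group
  have hfix1 : ∀ x : GL (Fin n) F, ∀ v ∈ W, Matrix.toLin' (x : Matrix (Fin n) (Fin n) F) v ∈ W →
      Matrix.toLin' ((hh x : GL (Fin n) F) : Matrix (Fin n) (Fin n) F) (Matrix.toLin' (x : Matrix (Fin n) (Fin n) F) v) =
        Matrix.toLin' (x : Matrix (Fin n) (Fin n) F) v := fun x v hv hxv => by
    have h := hgx x v
    rw [hgW _ hxv, hgW v hv, map_smul, map_smul] at h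
    exact (smul_right_injective _ hc h).symm
  have hfix2 : ∀ (a : GL (Fin n) F) (u : Fin n → F), u ∈ W → Matrix.toLin' (a : Matrix (Fin n) (Fin n) F) u = u →
      Matrix.toLin' ((φ a : GL (Fin n) F) : Matrix (Fin n) (Fin n) F) u = u := fun a u hu hau => by
    have h : Matrix.toLin' ((φ a * g : GL (Fin n) F) : Matrix (Fin n) (Fin n) F) u =
        Matrix.toLin' ((g * a : GL (Fin n) F) : Matrix (Fin n) (Fin n) F) u := by
      congr 2
      rw [hφ, inv_mul_cancel_right]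
    rw [lin_mul, lin_mul, hau, ← hG, hgW u hu, map_smul] at h
    exact smul_right_injective _ hc h
  have h34 : 4 * Module.finrank F W ≤ 3 * n := by
    have h := hsplit x₀ (Module.End.eigenspace (Matrix.toLin' ((hh x₀ : GL (Fin n) F) : Matrix (Fin n) (Fin n) F)) 1)
      fun v hv hxv => Module.End.mem_eigenspace_iff.2 (by rw [one_smul]; exact hfix1 x₀ v hv hxv)
    have h2 := heig _ (hhM x₀ (hRM x₀ hx₀)) (fun hmem => hx₀ne (hshift x₀ hx₀ (hhd x₀ ▸ hmem)))
    have := Nat.mul_le_mul_right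
      (Module.finrank F (Module.End.eigenspace (Matrix.toLin' ((hh x₀ : GL (Fin n) F) : Matrix (Fin n) (Fin n) F)) 1)) hr.two_le
    omega
  refine ⟨h34, fun hϖ2 => ?_⟩
  have hzero : ∀ x : GL (Fin n) F, (∀ v ∈ W, Matrix.toLin' (x : Matrix (Fin n) (Fin n) F) v ∈ W →
      Matrix.toLin' (x : Matrix (Fin n) (Fin n) F) v = 0) → 2 * Module.finrank F W ≤ n := fun x hx => by
    have h := hsplit x ⊥ fun v hv hxv => (Submodule.mem_bot F).2 (hx v hv hxv)
    rw [finrank_bot] at h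
    omega
  by_cases hnc2 : ∃ x ∈ M, β (hh x) (φ (hh x)) ≠ 1
  · obtain ⟨x, hx, hne⟩ := hnc2
    refine Or.inl (hzero x fun v hv hxv => ?_)
    have h1 := hfix1 x v hv hxv
    have h2 := hfix2 _ _ hxv h1
    have h3 := hrelM _ (hhM x hx) _ (hφM _ (hhM x hx)) (Matrix.toLin' (x : Matrix (Fin n) (Fin n) F) v)
    rw [h2, h1, h2] at h3
    by_contra h0
    exact hne (smul_left_injective F h0 (h3.symm.trans (one_smul F _).symm))
  push Not at hnc2
  have hϖo : Odd ϖ := hϖ.odd_of_ne_two hϖ2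
  -- quadratic identity
  obtain ⟨f, hf⟩ : ∃ f : GL (Fin n) F → GL (Fin n) F → F, ∀ a b, f a b = β a (φ b) ^ 2 / β a (φ (φ b)) :=
    ⟨_, fun a b => rfl⟩
  have hfaa : ∀ a ∈ M, f a a = 1 := fun a ha => by
    have h := hnc2 a ha
    have ha1 := hφM a ha
    have ha2 := hφM _ ha1
    rw [hhd, hφmul, show φ a⁻¹ = (φ a)⁻¹ by rw [hφ, hφ]; group, hβl _ ha1 _ (M.inv_mem ha) _ (M.mul_mem ha2 (M.inv_mem ha1)),
      hβr' _ ha1 _ ha2 _ (M.inv_mem ha1), hβr' _ (M.inv_mem ha) _ ha2 _ (M.inv_mem ha1), hβinv _ ha1 _ ha1, hβone _ ha1,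
      hβφ a ha _ ha1, inv_one, mul_one, hβinv _ (M.inv_mem ha) _ ha1, hβsymm _ ha2 _ (M.inv_mem ha), hβinv _ ha2 _ ha,
      inv_inv, hβsymm _ ha1 _ (M.inv_mem ha), hβinv _ ha1 _ ha, inv_inv, hβsymm a ha _ ha1, hβsymm a ha _ ha2, inv_inv] at h
    rw [hf, div_eq_one_iff_eq (hβ0 _ ha _ ha2), sq]
    have h0 := hβ0 _ ha _ ha2
    field_simp at h
    linear_combination h
  have hfl : ∀ a ∈ M, ∀ a' ∈ M, ∀ b ∈ M, f (a * a') b = f a b * f a' b := fun a ha a' ha' b hb => by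
    rw [hf, hf, hf, hβl a ha a' ha' _ (hφM b hb), hβl a ha a' ha' _ (hφM _ (hφM b hb)), mul_pow, div_mul_div_comm]
  have hfr : ∀ a ∈ M, ∀ b ∈ M, ∀ b' ∈ M, f a (b * b') = f a b * f a b' := fun a ha b hb b' hb' => by
    rw [hf, hf, hf, hφmul, hφmul, hβr' a ha _ (hφM b hb) _ (hφM b' hb'),
      hβr' a ha _ (hφM _ (hφM b hb)) _ (hφM _ (hφM b' hb')), mul_pow, div_mul_div_comm]
  have hpol : ∀ a ∈ M, ∀ b ∈ M, f a b * f b a = 1 := fun a ha b hb => by
    have h := hfaa _ (M.mul_mem ha hb)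
    rwa [hfl a ha b hb _ (M.mul_mem ha hb), hfr a ha a ha b hb, hfr b hb a ha b hb, hfaa a ha, hfaa b hb, one_mul,
      mul_one] at h
  have hrelS : ∀ b ∈ M, φ (φ (φ b)) * φ (φ (φ b)) * (φ b * φ b)⁻¹ * (φ (φ (φ (φ b))))⁻¹ * b ∈ S := by
    intro b hb
    have hb1 := hφM b hb
    have hb2 := hφM _ hb1
    have hb3 := hφM _ hb2
    have hb4 := hφM _ hb3
    have hm := M.mul_mem (M.mul_mem hb3 hb3) (M.inv_mem (M.mul_mem hb1 hb1))
    refine hβS _ (M.mul_mem (M.mul_mem hm (M.inv_mem hb4)) hb) fun y hy => ?_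
    have ha := hRM y hy
    have h := hpol y ha _ hb2
    rw [hf, hf, hβφ _ hb1 y ha, hβφ _ hb1 _ (hφM y ha), hβφ b hb y ha] at h
    rw [hβsymm y ha _ (M.mul_mem (M.mul_mem hm (M.inv_mem hb4)) hb), inv_eq_one, hβr' y ha _ (M.mul_mem hm (M.inv_mem hb4)) b hb,
      hβr' y ha _ hm _ (M.inv_mem hb4), hβr' y ha _ (M.mul_mem hb3 hb3) _ (M.inv_mem (M.mul_mem hb1 hb1)),
      hβinv y ha _ (M.mul_mem hb1 hb1), hβinv y ha _ hb4, hβr' y ha _ hb3 _ hb3, hβr' y ha _ hb1 _ hb1]
    rw [hβsymm y ha _ hb1, hβsymm y ha _ hb] at h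
    have h1 := hβ0 y ha _ hb1
    have h4 := hβ0 y ha _ hb4
    have h0 := hβ0 y ha _ hb
    field_simp at h ⊢
    linear_combination h
  -- the quotient
  obtain ⟨ψ, hψ⟩ : ∃ ψ : M →* M, ∀ a : M, (ψ a : GL (Fin n) F) = φ a :=
    ⟨{ toFun := fun a => ⟨φ a, hφM a a.2⟩
       map_one' := Subtype.ext (show φ 1 = 1 by rw [hφ, mul_one, mul_inv_cancel])
       map_mul' := fun a b => Subtype.ext (hφmul a b) }, fun a => rfl⟩
  haveI : (S.subgroupOf M).Normal := inferInstance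
  letI : CommGroup (M ⧸ S.subgroupOf M) :=
    { (inferInstance : Group (M ⧸ S.subgroupOf M)) with
      mul_comm := by
        intro u v
        obtain ⟨a, rfl⟩ := QuotientGroup.mk_surjective u
        obtain ⟨b, rfl⟩ := QuotientGroup.mk_surjective v
        rw [← QuotientGroup.mk_mul, ← QuotientGroup.mk_mul, QuotientGroup.eq_iff_div_mem, Subgroup.mem_subgroupOf]
        refine hS ▸ mem_scalars_of_eq (c := β a b) ?_
        rw [div_eq_mul_inv, Subgroup.coe_mul, Subgroup.coe_inv, Subgroup.coe_mul, Subgroup.coe_mul, Units.val_mul,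
          hβ _ a.2 _ b.2, Matrix.smul_mul, ← Units.val_mul, mul_inv_cancel, Units.val_one] }
  obtain ⟨mk, hmk⟩ : ∃ mk : M → Additive (M ⧸ S.subgroupOf M), ∀ a, mk a = Additive.ofMul (QuotientGroup.mk a) :=
    ⟨_, fun a => rfl⟩
  have hmksurj : Function.Surjective mk := fun u => by
    obtain ⟨a, ha⟩ := QuotientGroup.mk_surjective (Additive.toMul u)
    exact ⟨a, by rw [hmk, ha, ofMul_toMul]⟩
  have hmk0 : ∀ a, mk a = 0 ↔ (a : GL (Fin n) F) ∈ S := fun a => by
    rw [hmk, ofMul_eq_zero, QuotientGroup.eq_one_iff, Subgroup.mem_subgroupOf]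
  have hmkmul : ∀ a b, mk (a * b) = mk a + mk b := fun a b => by rw [hmk, hmk, hmk, QuotientGroup.mk_mul, ofMul_mul]
  have hmkinv : ∀ a, mk a⁻¹ = - mk a := fun a => by rw [hmk, hmk, QuotientGroup.mk_inv, ofMul_inv]
  obtain ⟨T, hT⟩ : ∃ T : AddMonoid.End (Additive (M ⧸ S.subgroupOf M)), ∀ a, T (mk a) = mk (ψ a) :=
    ⟨MonoidHom.toAdditive (QuotientGroup.map _ _ ψ fun a ha => by
        rw [Subgroup.mem_comap, Subgroup.mem_subgroupOf, hψ]
        rw [Subgroup.mem_subgroupOf] at ha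
        rw [hφS _ ha]; exact ha), fun a => by rw [hmk, hmk]; rfl⟩
  have hrel : T ^ 4 - 2 * T ^ 3 + 2 * T - 1 = 0 := by
    refine AddMonoidHom.ext fun u => ?_
    obtain ⟨b, rfl⟩ := hmksurj u
    have e : ((ψ (ψ (ψ b)) * ψ (ψ (ψ b)) * (ψ b * ψ b)⁻¹ * (ψ (ψ (ψ (ψ b))))⁻¹ * b : M) : GL (Fin n) F) ∈ S := by
      simp only [Subgroup.coe_mul, Subgroup.coe_inv, hψ]
      exact hrelS _ b.2
    have h := (hmk0 _).2 e
    simp only [hmkmul, hmkinv, ← hT] at h
    show T (T (T (T (mk b)))) - (2 • T (T (T (mk b)))) + 2 • T (mk b) - mk b = 0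
    rw [← neg_eq_zero, ← h, two_nsmul, two_nsmul]
    abel
  have hrQ : ((r : ℕ) : AddMonoid.End (Additive (M ⧸ S.subgroupOf M))) = 0 := by
    refine AddMonoidHom.ext fun u => ?_
    obtain ⟨a, rfl⟩ := hmksurj u
    show r • mk a = 0
    have hpow : ∀ j : ℕ, mk (a ^ j) = j • mk a := fun j => by rw [hmk, hmk, QuotientGroup.mk_pow, ofMul_pow]
    rw [← hpow, hmk0, Subgroup.coe_pow]
    refine hβS _ (M.pow_mem a.2 r) fun y hy => ?_
    have hj : ∀ j : ℕ, β ((a : GL (Fin n) F) ^ j) y = β a y ^ j := fun j => by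
      induction j with
      | zero => rw [pow_zero, pow_zero]; exact hβu 1 M.one_mem y (hRM y hy) 1 (by rw [one_smul, one_mul, mul_one])
      | succ j ih => rw [pow_succ, hβl _ (M.pow_mem a.2 j) _ a.2 y (hRM y hy), ih, pow_succ]
    rw [hj, hβr _ a.2 y (hRM y hy)]
  have hTϖ : T ^ ϖ = 1 := by
    refine AddMonoidHom.ext fun u => ?_
    obtain ⟨a, rfl⟩ := hmksurj u
    have hit : ∀ (j : ℕ) (a b : M), (b : GL (Fin n) F) = g ^ j * a * (g ^ j)⁻¹ → (T ^ j) (mk a) = mk b := fun j => by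
      induction j with
      | zero =>
        intro a b h
        rw [Subtype.ext (a1 := b) (a2 := a) (by simpa using h)]
        rfl
      | succ j ih =>
        intro a b h
        rw [pow_succ]
        show (T ^ j) (T (mk a)) = _
        rw [hT]
        refine ih _ _ ?_
        rw [h, hψ, hφ, pow_succ]
        group
    exact hit ϖ a a (by rw [← hord, pow_orderOf_eq_one, one_mul, inv_one, mul_one])
  have h4 := cube_zero T hr hϖo hrQ hTϖ hrel
  have hN0 : T - 1 ≠ 0 := fun h => by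
    have h1 : (T - 1) (mk ⟨x₀, hRM x₀ hx₀⟩) = 0 := by rw [h]; rfl
    change T (mk _) - mk _ = 0 at h1
    rw [hT, sub_eq_add_neg, ← hmkinv, ← hmkmul, hmk0, Subgroup.coe_mul, Subgroup.coe_inv, hψ] at h1
    exact hx₀ne (hshift x₀ hx₀ h1)
  have hrϖ : r = ϖ := by
    by_contra hne
    exact hN0 (fixed_of_ne T hr hϖ (Ne.symm hne) hrQ hTϖ h4)
  obtain ⟨u, hu1, hu2⟩ : ∃ u, (T - 1) u ≠ 0 ∧ (T - 1) ((T - 1) u) = 0 := by
    by_contra hno
    push Not at hno
    refine hN0 (AddMonoidHom.ext fun u => by_contra fun h1 => ?_)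
    refine hno _ (hno _ (hno u h1)) ?_
    exact DFunLike.congr_fun h4 u
  obtain ⟨a, rfl⟩ := hmksurj u
  obtain ⟨x, hx, s, hs, hxs⟩ := hfac a a.2
  have hhxs : hh (x * s) = hh x := by rw [hhd, hhd, hφmul, hφS s hs, mul_inv_rev]; group
  obtain ⟨h, hhdef⟩ : ∃ h, h = hh x := ⟨_, rfl⟩
  have hhMx : h ∈ M := hhdef ▸ hhM x (hRM x hx)
  have hh1 : (T - 1) (mk a) = mk ⟨h, hhMx⟩ := by
    show T (mk a) - mk a = _
    rw [hT, sub_eq_add_neg, ← hmkinv, ← hmkmul]
    congr 1
    refine Subtype.ext ?_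
    rw [Subgroup.coe_mul, Subgroup.coe_inv, hψ, ← hxs, ← hhd, hhxs]
    exact hhdef.symm
  rw [hh1] at hu1 hu2
  have hnS : h ∉ S := fun hmem => hu1 ((hmk0 _).2 hmem)
  change T (mk _) - mk _ = 0 at hu2
  rw [hT, sub_eq_add_neg, ← hmkinv, ← hmkmul, hmk0, Subgroup.coe_mul, Subgroup.coe_inv, hψ] at hu2
  obtain ⟨μ, hμ⟩ := (Cfsg.Geo.mem_scalars_iff _).1 (hS ▸ hu2)
  by_cases hμ1 : (μ : F) ≠ 1
  · refine Or.inl (hzero x fun v hv hxv => ?_)
    have h1 := hfix1 x v hv hxv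
    rw [← hhdef] at h1
    have h2 := hfix2 _ _ hxv h1
    have h3 : Matrix.toLin' ((φ h : GL (Fin n) F) : Matrix (Fin n) (Fin n) F) (Matrix.toLin' (x : Matrix (Fin n) (Fin n) F) v) =
        (μ : F) • Matrix.toLin' (h : Matrix (Fin n) (Fin n) F) (Matrix.toLin' (x : Matrix (Fin n) (Fin n) F) v) := by
      conv_lhs => rw [show φ h = φ h * h⁻¹ * h by group, Units.val_mul, hμ, Matrix.smul_mul, Matrix.one_mul, map_smul,
        LinearMap.smul_apply]
    rw [h2, h1] at h3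
    by_contra h0
    exact hμ1 (smul_left_injective F h0 (h3.symm.trans (one_smul F _).symm))
  push Not at hμ1
  have hgh : g * h = h * g := by
    have e : φ h = h := mul_inv_eq_one.1 (Units.ext (by rw [hμ, hμ1, one_smul, Units.val_one]))
    rw [hφ] at e
    exact mul_inv_eq_iff_eq_mul.1 e
  by_cases hbot : Module.End.eigenspace (Matrix.toLin' (h : Matrix (Fin n) (Fin n) F)) 1 = ⊥
  · refine Or.inl (hzero x fun v hv hxv => ?_)
    rw [← Submodule.mem_bot F, ← hbot, Module.End.mem_eigenspace_iff, one_smul, hhdef]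
    exact hfix1 x v hv hxv
  obtain ⟨w, hw, hw0⟩ := Submodule.exists_mem_ne_zero_of_ne_bot hbot
  rw [Module.End.mem_eigenspace_iff, one_smul] at hw
  obtain ⟨H, hH⟩ : ∃ H : Module.End F (Fin n → F), H = Matrix.toLin' (h : Matrix (Fin n) (Fin n) F) := ⟨_, rfl⟩
  obtain ⟨X, hX⟩ : ∃ X : Module.End F (Fin n → F), X = Matrix.toLin' (x : Matrix (Fin n) (Fin n) F) := ⟨_, rfl⟩
  rw [← hH] at hw
  obtain ⟨y, hy, hyne⟩ := hnc h hhMx hnS
  have hζy := hprim _ (hβr h hhMx y (hRM y hy)) hyne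
  have hrF : (r : F) ≠ 0 := by
    haveI : NeZero r := ⟨hr.ne_zero⟩
    exact (hζy.neZero').out
  have hHr : H ^ r = 1 := by
    obtain ⟨e, he⟩ : ∃ e : Fˣ, ((h ^ r : GL (Fin n) F) : Matrix (Fin n) (Fin n) F) = (e : F) • 1 := by
      refine (Cfsg.Geo.mem_scalars_iff _).1 (hS ▸ ?_)
      have := (hmk0 (⟨h, hhMx⟩ ^ r)).1 (by
        rw [hmk, QuotientGroup.mk_pow, ofMul_pow, ← hmk]
        exact DFunLike.congr_fun hrQ _)
      exact this
    have hHe : H ^ r = (e : F) • LinearMap.id := by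
      rw [hH, ← Matrix.toLin'_pow, ← Units.val_pow_eq_pow_val, he, map_smul, Matrix.toLin'_one]
    have hfixw : ∀ j : ℕ, (H ^ j) w = w := fun j => by
      induction j with
      | zero => simp
      | succ j ih => rw [pow_succ, Module.End.mul_apply, hw, ih]
    have h1 := hfixw r
    rw [hHe, LinearMap.smul_apply, LinearMap.id_apply] at h1
    rw [hHe, smul_left_injective F hw0 (h1.trans (one_smul F w).symm), one_smul]
    rfl
  have hGH : ∀ v, H (G v) = G (H v) := fun v => by rw [hG, hH, ← lin_mul, ← lin_mul, hgh]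
  have hWH : ∀ v ∈ W, H v ∈ W := fun v hv => by
    rw [hW, Module.End.mem_eigenspace_iff] at hv ⊢
    rw [← hGH, hv, map_smul]
  have hsumW : ∀ e : F, IsPrimitiveRoot e r → Module.finrank F W =
      ∑ j : Fin r, Module.finrank F (H.eigenspace (e ^ (j : ℕ)) ⊓ W : Submodule F (Fin n → F)) :=
    fun e he => CfsgLib.Perm.Elusive.finrank_eq_sum_eigen H hr.pos he hrF hHr hWH
  have hre : r * Module.finrank F (H.eigenspace 1) ≤ n := hH ▸ heig h hhMx hnS
  have hall : n = ∑ j : Fin r, Module.finrank F (H.eigenspace (β h y ^ (j : ℕ))) := by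
    have h0 := CfsgLib.Perm.Elusive.finrank_eq_sum_eigen H hr.pos hζy hrF hHr (P := ⊤) (fun _ _ => Submodule.mem_top)
    rw [finrank_top, hnV] at h0
    refine h0.trans (Finset.sum_congr rfl fun j _ => ?_)
    rw [inf_top_eq]
  refine Or.inr ⟨hrϖ, ?_, ?_⟩
  swap
  · -- the eigenspaces of h have equal dimensions
    obtain ⟨Y, hY⟩ : ∃ Y : Module.End F (Fin n → F), Y = Matrix.toLin' (y : Matrix (Fin n) (Fin n) F) := ⟨_, rfl⟩
    have hmap : ∀ k j : ℕ, ∀ v ∈ H.eigenspace (β h y ^ j), (Y ^ k) v ∈ H.eigenspace (β h y ^ (j + k)) := by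
      intro k
      induction k with
      | zero => intro j v hv; simpa using hv
      | succ k ih =>
        intro j v hv
        have hv' := ih j v hv
        rw [Module.End.mem_eigenspace_iff] at hv' ⊢
        rw [pow_succ' Y, Module.End.mul_apply, hY, hH, hrelM h hhMx y (hRM y hy), ← hH, ← hY, hv', map_smul, smul_smul,
          ← add_assoc, pow_succ' (β h y)]
    have hYinj : ∀ k : ℕ, Function.Injective (Y ^ k) := fun k => by
      rw [Module.End.coe_pow]; exact (hY ▸ lin_injective y).iterate k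
    have hle : ∀ j l : Fin r, Module.finrank F (H.eigenspace (β h y ^ (j : ℕ))) ≤
        Module.finrank F (H.eigenspace (β h y ^ (l : ℕ))) := by
      intro j l
      have h1 := CfsgLib.Perm.Elusive.finrank_le_of_maps (hYinj ((l : ℕ) + (r - j))) (hmap ((l : ℕ) + (r - j)) j)
      rwa [show (j : ℕ) + ((l : ℕ) + (r - j)) = l + r by omega, pow_add (β h y), hζy.pow_eq_one, mul_one] at h1
    refine ⟨Module.finrank F (H.eigenspace (β h y ^ ((⟨0, hr.pos⟩ : Fin r) : ℕ))), ?_⟩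
    refine hall.trans ?_
    rw [Finset.sum_congr rfl fun j _ => by rw [le_antisymm (hle j ⟨0, hr.pos⟩) (hle ⟨0, hr.pos⟩ j)],
      Finset.sum_const, Finset.card_univ, Fintype.card_fin, smul_eq_mul]
  -- shifting
  have hGX : ∀ v, G (X v) = H (X (G v)) := fun v => by rw [hX, hH, hhdef]; exact hgx x v
  have hHX : ∀ v, H (X v) = β h x • X (H v) := fun v => by rw [hX, hH]; exact hrelM h hhMx x (hRM x hx) v
  have hXinj : Function.Injective X := hX ▸ lin_injective x
  by_cases hη : β h x = 1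
  · rw [hsumW _ hζy, Finset.mul_sum]
    refine le_trans (Finset.sum_le_sum (g := fun j : Fin r =>
      Module.finrank F (H.eigenspace (β h y ^ (j : ℕ))) + if (j : ℕ) = 0 then r * Module.finrank F (H.eigenspace 1) else 0)
      fun j _ => ?_) ?_
    · by_cases hj : (j : ℕ) = 0
      · rw [if_pos hj, hj, pow_zero]
        exact le_trans (Nat.mul_le_mul_left r (Submodule.finrank_mono inf_le_left)) (Nat.le_add_left _ _)
      · rw [if_neg hj, add_zero, inf_comm, hW]
        refine CfsgLib.Perm.Elusive.shift_bound G X hXinj (P := H.eigenspace (β h y ^ (j : ℕ))) (fun v hv => ?_)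
          (hprim (β h y ^ (j : ℕ)) ?_ ?_) (fun v hv => ?_) hc
        · rw [Module.End.mem_eigenspace_iff] at hv ⊢
          rw [hHX, hη, one_smul, hv, map_smul]
        · rw [← pow_mul, mul_comm, pow_mul, hζy.pow_eq_one, one_pow]
        · exact hζy.pow_ne_one_of_pos_of_lt hj j.2
        · rw [Module.End.mem_eigenspace_iff] at hv
          rw [hGX, hHX, hη, one_smul, hGH, hv, map_smul, map_smul]
    · rw [Finset.sum_add_distrib, ← hall, Finset.sum_eq_single (⟨0, hr.pos⟩ : Fin r)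
        (fun b _ hb => if_neg fun hb0 => hb (Fin.ext hb0)) (fun h0 => absurd (Finset.mem_univ _) h0), if_pos rfl]
      omega
  have hζ := hprim _ (hβr h hhMx x (hRM x hx)) hη
  obtain ⟨η, hηd⟩ : ∃ η, η = β h x := ⟨_, rfl⟩
  rw [← hηd] at hζ hHX
  -- triangular exponents
  obtain ⟨tr, htr⟩ : ∃ tr : ℕ → ℕ, tr 0 = 0 ∧ ∀ k, tr (k + 1) = tr k + (k + 1) :=
    ⟨fun k => ∑ i ∈ Finset.range (k + 1), i, by simp, fun k => Finset.sum_range_succ _ _⟩
  have htr2 : ∀ k, 2 * tr k = k * (k + 1) := fun k => by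
    induction k with
    | zero => rw [htr.1]
    | succ k ih => rw [htr.2, mul_add, ih]; ring
  have hmap : ∀ k j : ℕ, ∀ v ∈ H.eigenspace (η ^ j) ⊓ W, (X ^ k) v ∈
      G.eigenspace (c * η ^ (j * k + tr k)) ⊓ H.eigenspace (η ^ (j + k)) := by
    intro k
    induction k with
    | zero =>
      intro j v hv
      obtain ⟨h1, h2⟩ := Submodule.mem_inf.1 hv
      rw [hW, Module.End.mem_eigenspace_iff] at h2
      rw [Module.End.mem_eigenspace_iff] at h1
      rw [htr.1]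
      simpa using ⟨h2, h1⟩
    | succ k ih =>
      intro j v hv
      obtain ⟨h1, h2⟩ := Submodule.mem_inf.1 (ih j v hv)
      rw [Module.End.mem_eigenspace_iff] at h1 h2
      rw [pow_succ' X, Module.End.mul_apply, Submodule.mem_inf, Module.End.mem_eigenspace_iff, Module.End.mem_eigenspace_iff]
      refine ⟨?_, ?_⟩
      · rw [hGX, h1, map_smul, map_smul, hHX, h2, map_smul, smul_smul, smul_smul, htr.2]
        congr 1
        ring
      · rw [hHX, h2, map_smul, smul_smul]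
        congr 1
        ring
  have hXk : ∀ k : ℕ, Function.Injective (X ^ k) := fun k => by
    rw [Module.End.coe_pow]; exact hXinj.iterate k
  obtain ⟨val, hval⟩ : ∃ val : Fin r → ℕ, ∀ j : Fin r, val j = (j : ℕ) * (r - j) + tr (r - j) := ⟨_, fun j => rfl⟩
  have hstep : ∀ j : Fin r, Module.finrank F (H.eigenspace (η ^ (j : ℕ)) ⊓ W : Submodule F (Fin n → F)) ≤
      Module.finrank F (G.eigenspace (c * η ^ val j) ⊓ H.eigenspace 1 : Submodule F (Fin n → F)) := fun j =>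
    CfsgLib.Perm.Elusive.finrank_le_of_maps (hXk (r - j)) fun v hv => by
      have h1 := hmap (r - j) j v hv
      rwa [show (j : ℕ) + (r - j) = r by omega, hζ.pow_eq_one, ← hval] at h1
  obtain ⟨D, hD⟩ : ∃ D : ZMod r → ℕ, ∀ e : ZMod r, D e =
      Module.finrank F (G.eigenspace (c * η ^ e.val) ⊓ H.eigenspace 1 : Submodule F (Fin n → F)) := ⟨_, fun e => rfl⟩
  haveI : NeZero r := ⟨hr.ne_zero⟩
  have hDsum : ∑ e, D e ≤ Module.finrank F (H.eigenspace 1) := by
    simp only [hD]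
    exact CfsgLib.Perm.Elusive.sum_eigen_le G (H.eigenspace 1) (μ := fun e : ZMod r => c * η ^ e.val) fun a b hab =>
      ZMod.val_injective r (hζ.pow_inj (ZMod.val_lt a) (ZMod.val_lt b) (mul_left_cancel₀ hc hab))
  have hcast : ∀ j : Fin r, (2 : ZMod r) * (val j : ZMod r) = - ((j : ℕ) : ZMod r) * (((j : ℕ) : ZMod r) + 1) := by
    intro j
    have h2 := congrArg (Nat.cast : ℕ → ZMod r) (htr2 (r - j))
    push_cast at h2
    rw [Nat.cast_sub j.2.le, ZMod.natCast_self, zero_sub] at h2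
    rw [hval]
    push_cast
    rw [Nat.cast_sub j.2.le, ZMod.natCast_self, zero_sub]
    linear_combination h2
  have hfib : ∀ e : ZMod r, (Finset.univ.filter fun j : Fin r => (val j : ZMod r) = e).card ≤ 2 := by
    intro e
    rcases Finset.eq_empty_or_nonempty (Finset.univ.filter fun j : Fin r => (val j : ZMod r) = e) with h0 | ⟨j₀, hj₀⟩
    · simp [h0]
    have hj₀' := (Finset.mem_filter.1 hj₀).2
    refine le_trans (Finset.card_le_card_of_injOn (fun j : Fin r => ((j : ℕ) : ZMod r))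
      (t := ({((j₀ : ℕ) : ZMod r), -1 - ((j₀ : ℕ) : ZMod r)} : Finset (ZMod r))) (fun j hj => ?_) ?_) Finset.card_le_two
    · simp only [Finset.coe_filter, Finset.mem_univ, true_and, Set.mem_setOf_eq] at hj
      simp only [Finset.coe_insert, Finset.coe_singleton, Set.mem_insert_iff, Set.mem_singleton_iff]
      have h1 := hcast j
      have h2 := hcast j₀
      rw [hj] at h1
      rw [hj₀'] at h2
      have h3 : (((j : ℕ) : ZMod r) - ((j₀ : ℕ) : ZMod r)) * (((j : ℕ) : ZMod r) - (-1 - ((j₀ : ℕ) : ZMod r))) = 0 := by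
        linear_combination h1 - h2
      rcases mul_eq_zero.1 h3 with h3 | h3
      · exact Or.inl (sub_eq_zero.1 h3)
      · exact Or.inr (sub_eq_zero.1 h3)
    · intro a _ b _ hab
      have := congrArg ZMod.val hab
      simp only [ZMod.val_natCast, Nat.mod_eq_of_lt a.2, Nat.mod_eq_of_lt b.2] at this
      exact Fin.ext this
  have h1 : Module.finrank F W ≤ 2 * Module.finrank F (H.eigenspace 1) := by
    rw [hsumW _ hζ]
    calc _ ≤ ∑ j : Fin r, D (val j : ZMod r) := Finset.sum_le_sum fun j _ => (hstep j).trans (le_of_eq (by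
          rw [hD, ZMod.val_natCast, ← pow_eq_pow_mod (val j) hζ.pow_eq_one]))
      _ = ∑ e, ∑ j ∈ Finset.univ.filter (fun j : Fin r => (val j : ZMod r) = e), D (val j : ZMod r) :=
          (Finset.sum_fiberwise _ _ _).symm
      _ ≤ ∑ e, 2 * D e := Finset.sum_le_sum fun e _ => by
          rw [Finset.sum_congr rfl fun j hj => by rw [(Finset.mem_filter.1 hj).2], Finset.sum_const, smul_eq_mul]
          exact Nat.mul_le_mul_right _ (hfib e)
      _ ≤ _ := by rw [← Finset.mul_sum]; exact Nat.mul_le_mul_left 2 hDsum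
  calc r * Module.finrank F W ≤ r * (2 * Module.finrank F (H.eigenspace 1)) := Nat.mul_le_mul_left r h1
    _ = 2 * (r * Module.finrank F (H.eigenspace 1)) := by ring
    _ ≤ 2 * n := Nat.mul_le_mul_left 2 hre

end Cfsg.Agent.S5877
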