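import Cfsg.Statements.S5883
import Cfsg.Agent.Lib.Spor.Fi23Derived.Main
-- import your own Cfsg.Agent.* helpers here

set_option autoImplicit false
open Cfsg

namespace Cfsg.Agent.S5883

/-- The constant 10 in the statement that H⁽¹⁰⁾ is perfect for every maximal subgroup H of a finite almost simple group cannot be lowered to 9: there exist a finite almost simple group G (with a non-abelian simple normal subgroup of trivial centralizer) and a maximal subgroup H of G whose ninth derived subgroup H⁽⁹⁾ is not perfect, i.e. H⁽¹⁰⁾ ≠ H⁽⁹⁾. (A solvable maximal subgroup of derived length 10 in the Fischer group Fi₂₃ is such an example.) -/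
theorem result :
    ∃ (G : Type) (_ : Group G) (_ : Finite G) (S H : Subgroup G), S.Normal ∧ IsSimpleGroup S ∧ ¬ IsMulCommutative S ∧
      Subgroup.centralizer (S : Set G) = ⊥ ∧ IsCoatom H ∧ derivedSeries H 10 ≠ derivedSeries H 9 := by
  open CfsgLib.Spor CfsgLib.Spor.Fi23Out in
  haveI hs : IsSimpleGroup Gp := Fi23.simple
  have hfin : Finite Gp := Fi23Three.finite_gp
  have hnc : ¬ IsMulCommutative Gp := fun h =>
    Fi23Derived.isCoatom_norR.1 (eq_top_iff.2 fun g _ => Fi23Derived.mem_of_commute (h.is_comm.comm g _))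
  refine ⟨Gp, inferInstance, hfin, ⊤, Fi23Derived.norR, inferInstance,
    (Subgroup.topEquiv : (⊤ : Subgroup Gp) ≃* Gp).isSimpleGroup, ?_, ?_,
    Fi23Derived.isCoatom_norR, Fi23Derived.derived_ne⟩
  · exact fun h => hnc ⟨⟨fun a b => congrArg Subtype.val
      (h.is_comm.comm (⟨a, Subgroup.mem_top a⟩ : (⊤ : Subgroup Gp)) ⟨b, Subgroup.mem_top b⟩)⟩⟩
  · rw [Subgroup.coe_top, Subgroup.centralizer_univ]
    refine (hs.eq_bot_or_eq_top_of_normal (Subgroup.center Gp) inferInstance).resolve_right fun h => hnc ⟨⟨fun a b =>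
      ((Subgroup.mem_center_iff.1 (h.symm ▸ Subgroup.mem_top a : a ∈ Subgroup.center Gp)) b).symm⟩⟩

end Cfsg.Agent.S5883
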