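import Cfsg.Statements.S5885
-- import your own Cfsg.Agent.* helpers here

set_option autoImplicit false
set_option linter.all false
open Cfsg

namespace Cfsg.Agent.S5885


open MulAction Equiv
open scoped Pointwise

/-- the permutation `b ↦ c ↦ d ↦ b` -/
def cyc {α : Type*} [DecidableEq α] (b c d : α) : Equiv.Perm α := swap b d * swap b c

section
variable {α : Type*} [DecidableEq α] {b c d : α}

theorem cyc_fst (hbc : b ≠ c) (hcd : c ≠ d) : cyc b c d b = c := by
  simp [cyc, swap_apply_of_ne_of_ne hbc.symm hcd]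

theorem cyc_snd : cyc b c d c = d := by simp [cyc]

theorem cyc_of_ne {z : α} (h1 : z ≠ b) (h2 : z ≠ c) (h3 : z ≠ d) : cyc b c d z = z := by
  simp [cyc, swap_apply_of_ne_of_ne h1 h2, swap_apply_of_ne_of_ne h1 h3]

theorem cyc_mem [Fintype α] (hbc : b ≠ c) (hbd : b ≠ d) : cyc b c d ∈ alternatingGroup α := by
  simp [Equiv.Perm.mem_alternatingGroup, cyc, Equiv.Perm.sign_swap hbc, Equiv.Perm.sign_swap hbd]

theorem cyc_maps {s : Set α} (hb : b ∈ s) (hc : c ∈ s) (hd : d ∈ s) {z : α} (hz : z ∈ s) :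
    cyc b c d z ∈ s := by
  unfold cyc
  simp only [Perm.coe_mul, Function.comp_apply, swap_apply_def]
  split_ifs <;> assumption

end

variable {α : Type*} [DecidableEq α] [Fintype α] {P : Subgroup (Equiv.Perm α)}

theorem coatom_of_fusion (a : α) (H K : Subgroup P) (hHK : H ≤ K)
    (hHS : ∀ x ∈ K, x • a = a → x ∈ H) (hHa : ∀ x ∈ H, x • a = a) (hKmove : ∃ k ∈ K, k • a ≠ a)
    (hfus : ∀ b c : α, b ≠ a → c ≠ a → (∃ k ∈ K, k • a = b) → (∃ k ∈ K, k • a = c) →
      ∃ h ∈ H, h • b = c) : IsCoatom (H.subgroupOf K) := by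
  constructor
  · rw [Ne, Subgroup.subgroupOf_eq_top]
    intro hle
    obtain ⟨k, hk, hka⟩ := hKmove
    exact hka (hHa k (hle hk))
  · intro L hL
    obtain ⟨l, hlL, hlH⟩ := SetLike.exists_of_lt hL
    have hla : (l : P) • a ≠ a := fun h => hlH (Subgroup.mem_subgroupOf.2 (hHS _ l.2 h))
    rw [eq_top_iff]
    intro k _
    by_cases hka : (k : P) • a = a
    · exact hL.le (Subgroup.mem_subgroupOf.2 (hHS _ k.2 hka))
    · obtain ⟨h, hh, hhc⟩ := hfus _ _ hla hka ⟨l, l.2, rfl⟩ ⟨k, k.2, rfl⟩
      set h' : K := ⟨h, hHK hh⟩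
      have e : (((h' * l)⁻¹ * k : K) : P) • a = a := by
        simp only [Subgroup.coe_mul, Subgroup.coe_inv, mul_smul]
        rw [inv_smul_eq_iff, ← hhc, mul_smul]
      have h1 : h' * l ∈ L := L.mul_mem (hL.le (Subgroup.mem_subgroupOf.2 hh)) hlL
      have h2 : (h' * l)⁻¹ * k ∈ L := hL.le (Subgroup.mem_subgroupOf.2 (hHS _ (SetLike.coe_mem _) e))
      have h3 := L.mul_mem h1 h2
      rwa [mul_inv_cancel_left] at h3

omit [DecidableEq α] [Fintype α] in
theorem smul_def' (x : P) (z : α) : x • z = (x : Equiv.Perm α) z := rfl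

theorem coatom_of_prime_index {G : Type*} [Group G] {H : Subgroup G} (h : H.index.Prime) :
    IsCoatom H := by
  refine ⟨fun e => ?_, fun L hL => ?_⟩
  · rw [e, Subgroup.index_top] at h; exact Nat.not_prime_one h
  · rcases (Nat.dvd_prime h).1 (Subgroup.index_dvd_of_le hL.le) with e | e
    · exact Subgroup.index_eq_one.1 e
    · exfalso
      have hm := Subgroup.relIndex_mul_index hL.le
      rw [e] at hm
      have : H.relIndex L = 1 := Nat.eq_of_mul_eq_mul_right h.pos (hm.trans (one_mul _).symm)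
      exact hL.not_ge (Subgroup.relIndex_eq_one.1 this)

theorem natural_case (hP : alternatingGroup α ≤ P) (h4 : Odd (Fintype.card α))
    (hA : ∀ X : Subgroup (Equiv.Perm α), IsPreprimitive X α → alternatingGroup α ≤ X)
    (a : α) (H K : Subgroup P) (hH : H ≤ stabilizer P a) (hmax : IsCoatom (H.subgroupOf (stabilizer P a)))
    (hS : IsCoatom (stabilizer P a))
    (hK : IsCoatom K) (hHK : H ≤ K) : IsCoatom (H.subgroupOf K) := by
  by_cases hKS : K = stabilizer P a
  · subst hKS; exact hmax
  -- maximality of `H` in the stabiliser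
  have hmax' : ∀ T : Subgroup P, H ≤ T → (∃ y : P, y • a = a ∧ y ∉ T) →
      ∀ x ∈ T, x • a = a → x ∈ H := by
    intro T hT ⟨y, hy, hyT⟩ x hx hxa
    have hle : H.subgroupOf (stabilizer P a) ≤ T.subgroupOf (stabilizer P a) :=
      fun z hz => Subgroup.mem_subgroupOf.2 (hT (Subgroup.mem_subgroupOf.1 hz))
    rcases eq_or_lt_of_le hle with e | e
    · have : (⟨x, hxa⟩ : stabilizer P a) ∈ T.subgroupOf (stabilizer P a) := Subgroup.mem_subgroupOf.2 hx
      rw [← e] at this
      exact Subgroup.mem_subgroupOf.1 this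
    · have h1 := hmax.2 _ e
      have : (⟨y, hy⟩ : stabilizer P a) ∈ T.subgroupOf (stabilizer P a) := h1 ▸ Subgroup.mem_top _
      exact absurd (Subgroup.mem_subgroupOf.1 this) hyT
  have hKa : ∃ k ∈ K, k • a ≠ a := by
    by_contra hc
    push Not at hc
    have hle : K ≤ stabilizer P a := fun k hk => hc k hk
    rcases eq_or_lt_of_le hle with e | e
    · exact hKS e
    · exact hS.1 (hK.2 _ e)
  have hHS : ∀ x ∈ K, x • a = a → x ∈ H := by
    refine hmax' K hHK ?_
    by_contra hc
    push Not at hc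
    have hle : stabilizer P a ≤ K := fun y hy => hc y hy
    rcases eq_or_lt_of_le hle with e | e
    · exact hKS e.symm
    · exact hK.1 (hS.2 _ e)
  have hHa : ∀ x ∈ H, x • a = a := fun x hx => hH hx
  obtain ⟨k₁, hk₁, hk₁a⟩ := hKa
  have h3 : 3 ≤ Fintype.card α := by
    have : 1 < Fintype.card α := Fintype.one_lt_card_iff.2 ⟨_, _, hk₁a⟩
    rcases h4 with ⟨m, hm⟩
    omega
  set Δ : Set α := {z | ∃ k ∈ K, k • a = z} with hΔ
  have haΔ : a ∈ Δ := ⟨1, K.one_mem, one_smul _ _⟩
  -- enough 3-cycles in `H`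
  suffices hcyc : ∀ b c d : α, b ∈ Δ → c ∈ Δ → d ∈ Δ → b ≠ a → c ≠ a → d ≠ a → b ≠ c → b ≠ d →
      c ≠ d → ∃ h ∈ H, h • b = c by
    rcases le_or_gt 4 Δ.ncard with h4Δ | h4Δ
    · refine coatom_of_fusion a H K hHK hHS hHa ⟨k₁, hk₁, hk₁a⟩ ?_
      intro b c hb hc hbΔ hcΔ
      by_cases hbc : b = c
      · exact ⟨1, H.one_mem, by simp [hbc]⟩
      obtain ⟨d, hd, hd'⟩ : ∃ d ∈ Δ, d ∉ ({a, b, c} : Set α) := by
        by_contra hcon
        push Not at hcon
        have h1 := Set.ncard_le_ncard (fun z hz => hcon z hz) (Set.toFinite ({a, b, c} : Set α))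
        have h2 := (Set.ncard_insert_le a ({b, c} : Set α))
        have h3 := (Set.ncard_insert_le b ({c} : Set α))
        rw [Set.ncard_singleton] at h3
        omega
      simp only [Set.mem_insert_iff, Set.mem_singleton_iff, not_or] at hd'
      exact hcyc b c d hbΔ hcΔ hd hb hc hd'.1 hbc (Ne.symm hd'.2.1) (Ne.symm hd'.2.2)
    · have e : H.subgroupOf K = stabilizer K a := by
        ext x
        exact ⟨fun h => hHa _ h, fun h => hHS _ x.2 h⟩
      have eo : orbit K a = Δ := by
        ext z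
        constructor
        · rintro ⟨k, rfl⟩; exact ⟨k, k.2, rfl⟩
        · rintro ⟨k, hk, rfl⟩; exact ⟨⟨k, hk⟩, rfl⟩
      apply coatom_of_prime_index
      rw [e, index_stabilizer, eo]
      have : 2 ≤ Δ.ncard := (Set.one_lt_ncard (Set.toFinite _)).2 ⟨a, haΔ, _, ⟨k₁, hk₁, rfl⟩, Ne.symm hk₁a⟩
      rcases (show Δ.ncard = 2 ∨ Δ.ncard = 3 by omega) with h | h <;> rw [h]
      · exact Nat.prime_two
      · exact Nat.prime_three
  by_cases hΔu : Δ = Set.univ
  · -- transitive: `K` is primitive
    haveI htr : IsPretransitive (K.map P.subtype) α := by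
      refine ⟨fun x y => ?_⟩
      obtain ⟨k, hk, rfl⟩ : x ∈ Δ := hΔu ▸ Set.mem_univ x
      obtain ⟨l, hl, rfl⟩ : y ∈ Δ := hΔu ▸ Set.mem_univ y
      refine ⟨⟨_, Subgroup.mem_map.2 ⟨l * k⁻¹, K.mul_mem hl (K.inv_mem hk), rfl⟩⟩, ?_⟩
      show (l * k⁻¹) • k • a = l • a
      rw [mul_smul, inv_smul_smul]
    have hprim : IsPreprimitive (K.map P.subtype) α := by
      refine IsPreprimitive.of_isTrivialBlock_base a fun {B} haB hB => ?_
      by_contra hnt
      simp only [IsTrivialBlock, not_or] at hnt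
      obtain ⟨b, hbB, hba⟩ : ∃ b ∈ B, b ≠ a := by
        by_contra hcon
        push Not at hcon
        exact hnt.1 (fun x hx y hy => (hcon x hx).trans (hcon y hy).symm)
      obtain ⟨x, hxB⟩ := (Set.ne_univ_iff_exists_notMem B).1 hnt.2
      have hblock : ∀ k ∈ K, ∀ z ∈ B, k • z ∈ B → ∀ w ∈ B, k • w ∈ B := by
        intro k hk z hz hkz w hw
        set k' : K.map P.subtype := ⟨_, Subgroup.mem_map.2 ⟨k, hk, rfl⟩⟩
        have := hB.smul_eq_of_mem (g := k') hz hkz
        rw [← this]
        exact Set.smul_mem_smul_set hw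
      -- the stabiliser of `a` and `B`
      let T : Subgroup P := stabilizer P a ⊓ stabilizer P B
      have hHT : H ≤ T := by
        intro h hh
        refine ⟨hHa h hh, (mem_stabilizer_set' (Set.toFinite _)).2 ?_⟩
        intro w hw
        exact hblock h (hHK hh) a haB (by rw [hHa h hh]; exact haB) w hw
      have hax : a ≠ x := fun e => hxB (e ▸ haB)
      have hbx : b ≠ x := fun e => hxB (e ▸ hbB)
      obtain ⟨y, hya, hyb, hyx⟩ : ∃ y, y ≠ a ∧ y ≠ b ∧ y ≠ x := by
        by_contra hcon
        push Not at hcon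
        have huniv : ∀ z, z = a ∨ z = b ∨ z = x := by
          intro z
          by_cases e1 : z = a
          · exact Or.inl e1
          by_cases e2 : z = b
          · exact Or.inr (Or.inl e2)
          exact Or.inr (Or.inr (hcon z e1 e2))
        have hle : Fintype.card α ≤ 3 := by
          rw [← Finset.card_univ]
          refine (Finset.card_le_card (t := {a, b, x}) (fun z _ => ?_)).trans Finset.card_le_three
          simpa using huniv z
        have hB2 : B = {a, b} := by
          ext z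
          rcases huniv z with rfl | rfl | rfl <;> simp [haB, hbB, hxB, hax.symm, hbx.symm]
        have := hB.ncard_dvd_card ⟨a, haB⟩
        rw [hB2, Set.ncard_pair (Ne.symm hba), Nat.card_eq_fintype_card,
          show Fintype.card α = 3 by omega] at this
        omega
      have hzmem : ∀ u v w : α, u ≠ v → u ≠ w → cyc u v w ∈ P := fun u v w h1 h2 => hP (cyc_mem h1 h2)
      have hTlt : ∃ s : P, s • a = a ∧ s ∉ T := by
        refine ⟨⟨cyc b x y, hzmem _ _ _ hbx (Ne.symm hyb)⟩,
          cyc_of_ne (Ne.symm hba) hax (Ne.symm hya), fun h => ?_⟩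
        have := ((mem_stabilizer_set' (Set.toFinite _)).1 h.2) hbB
        rw [smul_def', cyc_fst hbx (Ne.symm hyx)] at this
        exact hxB this
      -- `a, b` and the translate `B'` of `B` containing `x`
      obtain ⟨k, hk, hka⟩ : x ∈ Δ := hΔu ▸ Set.mem_univ x
      have hkb : k • b ∉ B := fun h => hxB (hka ▸ hblock k hk b hbB h a haB)
      have hkbx : k • b ≠ x := fun h => hba (smul_left_cancel k (h.trans hka.symm))
      -- a point outside `B ∪ k B`
      obtain ⟨z, hzB, hzB'⟩ : ∃ z, z ∉ B ∧ k⁻¹ • z ∉ B := by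
        by_contra hcon
        push Not at hcon
        have hu : B ∪ (k • B) = Set.univ := by
          ext z; simp only [Set.mem_union, Set.mem_univ, iff_true]
          by_cases h : z ∈ B
          · exact Or.inl h
          · exact Or.inr (Set.mem_smul_set_iff_inv_smul_mem.2 (hcon z h))
        have hd : Disjoint B (k • B) := by
          rw [Set.disjoint_left]
          intro z hz hz'
          have h' := Set.mem_smul_set_iff_inv_smul_mem.1 hz'
          exact hxB (hka ▸ hblock k hk _ h' (by rwa [smul_inv_smul]) a haB)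
        have hc := Set.ncard_union_eq hd
        rw [hu, Set.ncard_univ, Nat.card_eq_fintype_card, Set.ncard_smul_set] at hc
        rcases h4 with ⟨m, hm⟩
        omega
      have hxz : x ≠ z := fun e => hzB' (by rw [← e, ← hka, inv_smul_smul]; exact haB)
      have hkbz : k • b ≠ z := fun e => hzB' (by rw [← e, inv_smul_smul]; exact hbB)
      -- the 3-cycle `x ↦ k b ↦ z ↦ x` lies in `T` but not in `K`
      set σ : P := ⟨cyc x (k • b) z, hzmem _ _ _ (Ne.symm hkbx) hxz⟩ with hσ
      have hfix : ∀ w ∈ B, σ • w = w := fun w hw =>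
        cyc_of_ne (fun e : w = x => hxB (e ▸ hw)) (fun e : w = k • b => hkb (e ▸ hw)) (fun e : w = z => hzB (e ▸ hw))
      have hσa : σ • a = a := hfix a haB
      have hσT : σ ∈ T := ⟨hσa, (mem_stabilizer_set' (Set.toFinite _)).2 (fun w hw => by rwa [hfix w hw])⟩
      have hσK : σ ∈ K := hHK (hmax' T hHT hTlt σ hσT hσa)
      have h1 : (k⁻¹ * σ * k) • a = b := by
        rw [mul_smul, mul_smul, hka, inv_smul_eq_iff]
        exact cyc_fst (Ne.symm hkbx) hkbz
      have h2 : (k⁻¹ * σ * k) • b ∈ B :=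
        hblock _ (K.mul_mem (K.mul_mem (K.inv_mem hk) hσK) hk) a haB (by rw [h1]; exact hbB) b hbB
      rw [mul_smul, mul_smul] at h2
      exact hzB' (by rwa [show σ • k • b = z from cyc_snd] at h2)
    have hAK := hA _ hprim
    intro b c d _ _ _ hb hc hd hbc hbd hcd
    obtain ⟨k, hk, hke⟩ := Subgroup.mem_map.1 (hAK (cyc_mem hbc hbd))
    have hk' : ∀ w, k • w = cyc b c d w := fun w => by rw [← hke]; rfl
    refine ⟨k, hHS k hk ?_, ?_⟩
    · rw [hk', cyc_of_ne (Ne.symm hb) (Ne.symm hc) (Ne.symm hd)]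
    · rw [hk', cyc_fst hbc hcd]
  · -- intransitive
    obtain ⟨x, hx⟩ := (Set.ne_univ_iff_exists_notMem Δ).1 hΔu
    let T : Subgroup P := stabilizer P a ⊓ stabilizer P Δ
    have hHT : H ≤ T := by
      intro h hh
      refine ⟨hHa h hh, (mem_stabilizer_set' (Set.toFinite _)).2 ?_⟩
      rintro w ⟨l, hl, rfl⟩
      exact ⟨h * l, K.mul_mem (hHK hh) hl, mul_smul _ _ _⟩
    intro b c d hbΔ hcΔ hdΔ hb hc hd hbc hbd hcd
    have hbx : b ≠ x := fun e => hx (e ▸ hbΔ)
    have hTlt : ∃ s : P, s • a = a ∧ s ∉ T := by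
      refine ⟨⟨cyc b x c, hP (cyc_mem hbx hbc)⟩,
        cyc_of_ne (Ne.symm hb) (fun e : a = x => hx (e ▸ haΔ)) (Ne.symm hc), fun h => ?_⟩
      have := ((mem_stabilizer_set' (Set.toFinite _)).1 h.2) hbΔ
      rw [smul_def', cyc_fst hbx (fun e : x = c => hx (e ▸ hcΔ))] at this
      exact hx this
    set σ : P := ⟨cyc b c d, hP (cyc_mem hbc hbd)⟩
    have hσa : σ • a = a := cyc_of_ne (Ne.symm hb) (Ne.symm hc) (Ne.symm hd)
    have hσT : σ ∈ T := ⟨hσa, (mem_stabilizer_set' (Set.toFinite _)).2 (fun w hw => cyc_maps hbΔ hcΔ hdΔ hw)⟩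
    exact ⟨σ, hmax' T hHT hTlt σ hσT hσa, cyc_fst hbc hcd⟩

theorem coatom_map {G G' : Type*} [Group G] [Group G'] (π : G →* G') (hπ : Function.Surjective π)
    {A : Subgroup G} (hA : π.ker ≤ A) (h : IsCoatom A) : IsCoatom (A.map π) := by
  refine ⟨fun e => h.1 ?_, fun L hL => ?_⟩
  · rw [← Subgroup.comap_map_eq_self hA, e, Subgroup.comap_top]
  · have := h.2 (L.comap π) (lt_of_le_of_ne (by
      rw [← Subgroup.comap_map_eq_self hA]; exact Subgroup.comap_mono hL.le)
      (fun e => hL.ne (by rw [e, Subgroup.map_comap_eq_self_of_surjective hπ])))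
    rw [← Subgroup.map_comap_eq_self_of_surjective hπ L, this, Subgroup.map_top_of_surjective π hπ]

theorem coatom_map_iff {G G' : Type*} [Group G] [Group G'] (π : G →* G')
    {A B : Subgroup G} (hA : π.ker ≤ A) (hAB : A ≤ B) :
    IsCoatom (A.subgroupOf B) ↔ IsCoatom ((A.map π).subgroupOf (B.map π)) := by
  let ρ : B →* B.map π := π.subgroupMap B
  have hρ : Function.Surjective ρ := π.subgroupMap_surjective B
  have hker : ρ.ker ≤ A.subgroupOf B := fun x hx => hA (congrArg Subtype.val hx)
  have e : (A.subgroupOf B).map ρ = (A.map π).subgroupOf (B.map π) := by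
    ext ⟨y, hy⟩
    constructor
    · rintro ⟨x, hx, hxy⟩
      exact ⟨x, hx, congrArg Subtype.val hxy⟩
    · rintro ⟨x, hx, hxy⟩
      exact ⟨⟨x, hAB hx⟩, hx, Subtype.ext hxy⟩
  constructor
  · intro h; exact e ▸ coatom_map ρ hρ hker h
  · intro h
    rw [← e] at h
    refine ⟨fun eq => h.1 (by rw [eq, Subgroup.map_top_of_surjective ρ hρ]), fun L hL => ?_⟩
    have hk : ρ.ker ≤ L := hker.trans hL.le
    have : L.map ρ = ⊤ := h.2 _ (lt_of_le_of_ne (Subgroup.map_mono hL.le) (fun eq => hL.ne (by
      rw [← Subgroup.comap_map_eq_self hker, eq, Subgroup.comap_map_eq_self hk])))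
    rw [← Subgroup.comap_map_eq_self hk, this, Subgroup.comap_top]

/-- Let n be an odd positive integer such that every primitive permutation group of degree n contains the alternating group (so the symmetric and alternating groups are the only primitive groups of degree n). Let G be a finite group, M a maximal subgroup of G of index n, and H a maximal subgroup of M. Then H is a second maximal subgroup of G: H is maximal in every maximal subgroup K of G containing H. -/
theorem result {G : Type*} [Group G]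
    [Finite G] (n : ℕ) (hodd : Odd n)
    (hA : ∀ P : Subgroup (Equiv.Perm (Fin n)), MulAction.IsPreprimitive P (Fin n) → alternatingGroup (Fin n) ≤ P)
    (M : Subgroup G) (hM : IsCoatom M) (hn : M.index = n) (H : Subgroup G) (hHM : H ≤ M)
    (hmax : IsCoatom (H.subgroupOf M)) (K : Subgroup G) (hK : IsCoatom K) (hHK : H ≤ K) :
    IsCoatom (H.subgroupOf K) := by
  classical
  by_cases hKM : K = M
  · subst hKM; exact hmax
  have hMK : ¬ M ≤ K := fun h => hKM (by
    rcases eq_or_lt_of_le h with e | e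
    · exact e.symm
    · exact absurd (hM.2 _ e) hK.1)
  -- `M ⊓ K = H`
  have hMH : ∀ x ∈ M, x ∈ K → x ∈ H := by
    intro x hx hxK
    have hle : H.subgroupOf M ≤ K.subgroupOf M := fun z hz => hHK hz
    rcases eq_or_lt_of_le hle with e | e
    · have : (⟨x, hx⟩ : M) ∈ K.subgroupOf M := hxK
      rw [← e] at this; exact this
    · exact absurd (Subgroup.subgroupOf_eq_top.1 (hmax.2 _ e)) hMK
  haveI : M.FiniteIndex := Subgroup.finiteIndex_of_finite
  haveI : Fintype (G ⧸ M) := Fintype.ofFinite _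
  let α : Type _ := G ⧸ M
  have hcard : Fintype.card α = n := by rw [← hn, Subgroup.index, Nat.card_eq_fintype_card]
  have hA' : ∀ X : Subgroup (Equiv.Perm α), IsPreprimitive X α → alternatingGroup α ≤ X := by
    intro X hX
    let e : α ≃ Fin n := Fintype.equivFinOfCardEq hcard
    let X' := X.map e.permCongrHom.toMonoidHom
    have hX' : IsPreprimitive X' (Fin n) := by
      let φ : X → X' := fun x => ⟨_, Subgroup.mem_map_of_mem _ x.2⟩
      let f : α →ₑ[φ] Fin n := { toFun := e, map_smul' := fun x z => by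
                                  show e ((x : Equiv.Perm α) z) = e.permCongr (x : Equiv.Perm α) (e z)
                                  simp [Equiv.permCongr_apply] }
      exact IsPreprimitive.of_surjective (f := f) e.surjective
    intro σ hσ
    have h1 := hA X' hX' (x := e.permCongrHom σ) (by
      rw [Equiv.Perm.mem_alternatingGroup] at hσ ⊢
      rw [← hσ]; exact Equiv.Perm.sign_permCongr e σ)
    obtain ⟨y, hy, hye⟩ := Subgroup.mem_map.1 h1
    exact e.permCongrHom.injective hye ▸ hy
  let φ : G →* Equiv.Perm α := toPermHom G α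
  let a : α := ((1 : G) : G ⧸ M)
  have hstab : ∀ g : G, g ∈ M ↔ g • a = a := by
    intro g
    show g ∈ M ↔ ((g * 1 : G) : G ⧸ M) = ((1 : G) : G ⧸ M)
    rw [mul_one, QuotientGroup.eq, mul_one, M.inv_mem_iff]
  let π : G →* φ.range := φ.rangeRestrict
  have hπ : Function.Surjective π := φ.rangeRestrict_surjective
  have hsm : ∀ (g : G) (z : α), π g • z = g • z := fun g z => rfl
  by_cases hN : π.ker ≤ H
  · -- the kernel is in `H`: the image is `A_n` or `S_n`
    have hNK : π.ker ≤ K := hN.trans hHK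
    have hNM : π.ker ≤ M := hN.trans hHM
    have hMmap : M.map π = stabilizer φ.range a := by
      ext y
      obtain ⟨g, rfl⟩ := hπ y
      constructor
      · rintro ⟨m, hm, e⟩
        rw [← e]; exact (hstab m).1 hm
      · intro h
        exact Subgroup.mem_map_of_mem _ ((hstab g).2 h)
    have hcm : (stabilizer φ.range a).comap π = M := by
      rw [← hMmap, Subgroup.comap_map_eq_self hNM]
    have hprim : IsPreprimitive φ.range α := by
      haveI : Nontrivial α := by
        rw [← Fintype.one_lt_card_iff_nontrivial, hcard, ← hn]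
        exact (Subgroup.one_lt_index_of_ne_top hM.1)
      haveI : IsPretransitive φ.range α := ⟨fun x y => by
        obtain ⟨g, hg⟩ := exists_smul_eq G x y
        exact ⟨π g, hg⟩⟩
      rw [← isCoatom_stabilizer_iff_preprimitive φ.range a, ← hMmap]
      refine ⟨fun e => hM.1 (by rw [← hcm, ← hMmap, e, Subgroup.comap_top]), fun L hL => ?_⟩
      have := hM.2 (L.comap π) (lt_of_le_of_ne (by
          rw [← hcm, ← hMmap]; exact Subgroup.comap_mono hL.le) (fun e => hL.ne (by
          rw [e, Subgroup.map_comap_eq_self_of_surjective hπ])))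
      rw [← Subgroup.map_comap_eq_self_of_surjective hπ L, this, Subgroup.map_top_of_surjective π hπ]
    have tr : ∀ (A B : Subgroup G), π.ker ≤ A → A ≤ B →
        (IsCoatom (A.subgroupOf B) ↔ IsCoatom ((A.map π).subgroupOf (B.map π))) :=
      fun A B hA hAB => coatom_map_iff π hA hAB
    have hK' : IsCoatom (K.map π) := coatom_map π hπ hNK hK
    have hM' : IsCoatom (M.map π) := coatom_map π hπ hNM hM
    rw [tr H K hN hHK]
    refine natural_case (hA' _ hprim) (hcard ▸ hodd) hA' a _ _ ?_ ?_ (hMmap ▸ hM') hK'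
      (Subgroup.map_mono hHK)
    · exact hMmap ▸ Subgroup.map_mono hHM
    · exact hMmap ▸ (tr H M hN hHM).1 hmax
  · -- the kernel is not in `H`
    haveI : π.ker.Normal := π.normal_ker
    have hNM : π.ker ≤ M := fun g hg => (hstab g).2 (by
      rw [← hsm g a, MonoidHom.mem_ker.1 hg, one_smul])
    have hHN : H ⊔ π.ker = M := by
      have hle : H ⊔ π.ker ≤ M := sup_le hHM hNM
      have h1 : H.subgroupOf M < (H ⊔ π.ker).subgroupOf M := by
        refine lt_of_le_of_ne (fun z hz => Subgroup.mem_sup_left hz) fun e => hN fun g hg => ?_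
        have : (⟨g, hNM hg⟩ : M) ∈ (H ⊔ π.ker).subgroupOf M := Subgroup.mem_sup_right hg
        rw [← e] at this; exact this
      exact le_antisymm hle (Subgroup.subgroupOf_eq_top.1 (hmax.2 _ h1))
    constructor
    · rw [Ne, Subgroup.subgroupOf_eq_top]
      intro hle
      rcases eq_or_lt_of_le (hle.trans hHM) with e | e
      · exact hKM e
      · exact hM.1 (hK.2 _ e)
    · intro L hL
      obtain ⟨l, hlL, hlH⟩ := SetLike.exists_of_lt hL
      set L' : Subgroup G := L.map K.subtype with hL'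
      have hL'K : L' ≤ K := Subgroup.map_subtype_le L
      have hHL' : H ≤ L' := fun h hh => ⟨⟨h, hHK hh⟩, hL.le hh, rfl⟩
      have htop : L' ⊔ π.ker = ⊤ := by
        have hle : M ≤ L' ⊔ π.ker := hHN ▸ sup_le_sup_right hHL' _
        refine hM.2 _ (lt_of_le_of_ne hle fun e => hlH ?_)
        exact hMH _ (e ▸ Subgroup.mem_sup_left ⟨l, hlL, rfl⟩) l.2
      rw [eq_top_iff]
      intro k _
      have hk : (k : G) ∈ L' ⊔ π.ker := htop ▸ Subgroup.mem_top _
      obtain ⟨x, hx, y, hy, hxy⟩ := Subgroup.mem_sup_of_normal_right.1 hk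
      have hyK : y ∈ K := by
        rw [show y = x⁻¹ * (k : G) by rw [← hxy]; group]
        exact K.mul_mem (K.inv_mem (hL'K hx)) k.2
      have hkL : (k : G) ∈ L' := hxy ▸ L'.mul_mem hx (hHL' (hMH y (hNM hy) hyK))
      obtain ⟨k', hk', e⟩ := hkL
      exact (Subtype.ext e : k' = k) ▸ hk'

end Cfsg.Agent.S5885
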