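import Cfsg.Statements.S5890
-- import your own Cfsg.Agent.* helpers here
import Mathlib
import Cfsg.Agent.Lib.Perm.Dickson.PGLMax

set_option autoImplicit false
set_option linter.all false
open Cfsg

namespace Cfsg.Agent.S5890

open CfsgLib.Perm.Dickson

/-- Let F be a finite field with q ≥ 4 elements, let L ≤ PGL₂(F) be the image of SL₂(F) (a copy of PSL₂(F), of index gcd(2, q − 1)), and let M be a maximal subgroup of PGL₂(F) that does not contain L. Suppose q ∉ {7, 9, 11} and that q is not a prime congruent to ±11 or ±19 modulo 40. Then M ∩ L is a maximal subgroup of L. (For the excluded q there are maximal subgroups of PGL₂(q) — dihedral groups of order 12 and 16 at q = 7, of order 20 and 16 at q = 9, of order 20 at q = 11, and S₄ at the excluded primes — whose intersection with L is not maximal in L.) -/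
theorem result {F : Type*} [Field F]
    [Fintype F] (h4 : 4 ≤ Fintype.card F) (h7 : Fintype.card F ≠ 7) (h9 : Fintype.card F ≠ 9) (h11 : Fintype.card F ≠ 11)
    (h40 : (Fintype.card F).Prime → Fintype.card F % 40 ∉ ({11, 19, 21, 29} : Finset ℕ))
    (M : Subgroup (Matrix.ProjGenLinGroup (Fin 2) F)) (hM : IsCoatom M)
    (hML : ¬ (Matrix.ProjGenLinGroup.mk.comp Matrix.SpecialLinearGroup.toGL).range ≤ M) :
    IsCoatom ((M ⊓ (Matrix.ProjGenLinGroup.mk.comp Matrix.SpecialLinearGroup.toGL).range).subgroupOf
      (Matrix.ProjGenLinGroup.mk.comp Matrix.SpecialLinearGroup.toGL).range) := by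
  classical
  haveI := finite_G2 (F := F)
  have hq : Fintype.card F = Nat.card F := Nat.card_eq_fintype_card.symm
  rw [hq] at h4 h7 h9 h11 h40
  obtain ⟨p, hpc⟩ := CharP.exists F
  haveI : Fact p.Prime := ⟨CharP.char_is_prime F p⟩
  show IsCoatom ((M ⊓ psl F).subgroupOf (psl F))
  change ¬ psl F ≤ M at hML
  rcases Nat.even_or_odd (Nat.card F) with he | ho
  · have ht := psl_eq_top he
    refine isCoatom_subgroupOf_psl inf_le_right ?_ ?_
    · intro e; exact hML (e ▸ inf_le_left)
    · intro N hle hlt
      rw [ht, inf_top_eq] at hle ⊢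
      rw [ht] at hlt
      rcases hle.lt_or_eq with h | h
      · exact absurd (hM.2 _ h) hlt.ne
      · exact h.ge
  have key : (M ⊓ psl F ≠ psl F) ∧ ∀ N, M ⊓ psl F ≤ N → N < psl F → N ≤ M ⊓ psl F := by
    refine ⟨fun e => hML (e ▸ inf_le_left), ?_⟩
    cases pgl_coatom_cases p ho (by omega) hM hML with
    | borel x h =>
      intro N hle hlt
      rw [h] at hle ⊢
      rcases hle.lt_or_eq with h' | h'
      · exact absurd (psl_preprimitive x h' hlt.le) hlt.ne
      · exact h'.ge
    | torus a b hg h h5 =>
      rw [h]
      have hk := card_pairFix_psl hg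
      rw [gcd_odd ho] at hk
      set k := Nat.card (pairFix a b ⊓ psl F : Subgroup (G2 F)) with hkdef
      obtain ⟨t, ht⟩ := id ho
      have hk' : 2 * k = Nat.card F - 1 ∨ 2 * k = Nat.card F + 1 := by
        rcases card_pairFix hg with ⟨-, e⟩ | ⟨-, e⟩ <;> omega
      have hc := card_psl F
      rw [gcd_odd ho] at hc
      refine dihedral_maximal p hg rfl ?_ ?_ ?_ ?_
      · by_contra hcon
        exact h5 ⟨by omega, by omega⟩
      · intro h34 hd
        have h5' : Nat.card F = 5 := by omega
        rw [h5'] at hc
        simp only [Nat.reduceSub, Nat.reduceAdd, Nat.reduceMul] at hc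
        have := Nat.le_of_dvd (by omega) hd
        omega
      · intro h35
        have h5' : Nat.card F = 5 := by omega
        rw [h5'] at hc
        simp only [Nat.reduceSub, Nat.reduceAdd, Nat.reduceMul] at hc
        exact Or.inl (by omega)
      · intro c hc3 hcc ⟨n, hn⟩ hkc
        have hc4 : c ≤ 3 := by
          by_contra hlt
          have := Nat.mul_le_mul_right c (show 4 ≤ c by omega)
          omega
        obtain rfl : c = 3 := by omega
        have h9' : Nat.card F ≤ 9 := by omega
        omega
    | s4 σ Q hF h8 h =>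
      have h5 : 5 ≤ p := by omega
      have h10 : ¬ (p % 10 = 1 ∨ p % 10 = 9) := by
        intro h10
        apply h40 (hF.symm ▸ Fact.out)
        rw [hF]
        simp only [Finset.mem_insert, Finset.mem_singleton]
        omega
      refine max_of_conj (σ := σ) ?_
      rw [conjG_inf, h, conjG_psl]
      exact (a4_max p ho hF h5 h8 h10 Q).2
    | subfield σ F1 r hr hodd' hq' h3' i e h =>
      refine max_of_conj (σ := σ) ?_
      rw [conjG_inf, h, conjG_psl, pglSub_inf_psl F1 hq'.symm hodd']
      exact psl_prime_max p hr hq'.symm (Or.inl ⟨ho, fun e => by rw [e] at hodd'; exact absurd hodd' (by decide)⟩)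
  exact isCoatom_subgroupOf_psl inf_le_right key.1 key.2

end Cfsg.Agent.S5890
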