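import Cfsg.Statements.S5891
-- import your own Cfsg.Agent.* helpers here
import Mathlib
import Cfsg.Agent.Lib.Perm.Dickson.PGLMax

set_option autoImplicit false
set_option linter.all false
open Cfsg

namespace Cfsg.Agent.S5891

open CfsgLib.Perm.Dickson

/-- Let F be a finite field of odd order q > 3 and characteristic p, and let M be a maximal subgroup of PGL₂(F) not containing the image L of SL₂(F) (a copy of PSL₂(F) of index 2). Then one of the following holds: |M| = q(q − 1) (M is the stabiliser of a point of the projective line); q ≠ 5 and M is dihedral of order 2(q − 1); M is dihedral of order 2(q + 1); q = p ≡ ±3 (mod 8) and M ≅ S₄; or q = q₀^r for an odd prime r and M ≅ PGL₂(F₀) with |F₀| = q₀. -/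
theorem result {F : Type*} [Field F] [Fintype F]
    (hodd : Odd (Fintype.card F)) (h3 : 3 < Fintype.card F) (M : Subgroup (Matrix.ProjGenLinGroup (Fin 2) F)) (hM : IsCoatom M)
    (hML : ¬ (Matrix.ProjGenLinGroup.mk.comp Matrix.SpecialLinearGroup.toGL).range ≤ M) :
    Nat.card M = Fintype.card F * (Fintype.card F - 1) ∨
    (Fintype.card F ≠ 5 ∧ Nonempty (M ≃* DihedralGroup (Fintype.card F - 1))) ∨
    Nonempty (M ≃* DihedralGroup (Fintype.card F + 1)) ∨
    ((Fintype.card F).Prime ∧ (Fintype.card F % 8 = 3 ∨ Fintype.card F % 8 = 5) ∧ Nonempty (M ≃* Equiv.Perm (Fin 4))) ∨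
    (∃ (F₀ : Type) (_ : Field F₀) (_ : Fintype F₀) (r : ℕ), r.Prime ∧ Odd r ∧ Fintype.card F = Fintype.card F₀ ^ r ∧
        Nonempty (M ≃* Matrix.ProjGenLinGroup (Fin 2) F₀)) := by
  classical
  haveI := finite_G2 (F := F)
  have hq : Fintype.card F = Nat.card F := Nat.card_eq_fintype_card.symm
  rw [hq] at hodd h3 ⊢
  obtain ⟨p, hpc⟩ := CharP.exists F
  haveI : Fact p.Prime := ⟨CharP.char_is_prime F p⟩
  cases pgl_coatom_cases p hodd h3 hM hML with
  | borel x h => exact Or.inl (by rw [h, card_bor])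
  | torus a b hg h h5 =>
    obtain ⟨w, -, hws, hwn⟩ := exists_swap hg
    obtain ⟨-, hiso⟩ := dihedral_of_le hg.1 (isCyclic_pairFix hg.1) (le_refl (pairSet a b)) (fun h => hwn (h hws))
    rw [inf_eq_right.2 (pairFix_le_pairSet a b)] at hiso
    obtain ⟨f⟩ := hiso
    rcases card_pairFix hg with ⟨-, e⟩ | ⟨-, e⟩ <;> rw [e] at f
    · exact Or.inr (Or.inl ⟨fun e5 => h5 ⟨e5, by omega⟩, ⟨(MulEquiv.subgroupCongr h).trans f⟩⟩)
    · exact Or.inr (Or.inr (Or.inl ⟨(MulEquiv.subgroupCongr h).trans f⟩))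
  | s4 σ Q hF h8 h =>
    obtain ⟨e⟩ := Q.N_s4
    refine Or.inr (Or.inr (Or.inr (Or.inl ⟨hF.symm ▸ Fact.out, hF.symm ▸ h8, ⟨?_⟩⟩)))
    exact (conjEquiv σ M).trans ((MulEquiv.subgroupCongr h).trans e)
  | subfield σ F1 r hr hodd' hq' h3' i e h =>
    obtain ⟨ei⟩ := e
    haveI : Finite (GaloisField p i) := Finite.of_equiv _ ei.toEquiv
    letI := Fintype.ofFinite (GaloisField p i)
    have hcard : Fintype.card (GaloisField p i) = Nat.card F1 := by
      rw [← Nat.card_eq_fintype_card]; exact (Nat.card_congr ei.toEquiv).symm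
    exact Or.inr (Or.inr (Or.inr (Or.inr ⟨GaloisField p i, inferInstance, inferInstance, r, hr, hodd',
      by rw [hcard, hq'], ⟨(conjEquiv σ M).trans ((MulEquiv.subgroupCongr h).trans (pglSubEquiv F1 ei))⟩⟩)))

end Cfsg.Agent.S5891
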