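import Cfsg.Statements.S5892
-- import your own Cfsg.Agent.* helpers here
import Mathlib
import Cfsg.Agent.Lib.Perm.Dickson.ListExc

set_option autoImplicit false
set_option linter.all false
open Cfsg

namespace Cfsg.Agent.S5892

open CfsgLib.Perm.Dickson

/-- Let F be a finite field of odd order q ≥ 5 and characteristic p, and let M be a maximal subgroup of PSL₂(F). Then one of the following holds: |M| = q(q − 1)/2 (the stabiliser of a point of the projective line); q ≥ 13 and M is dihedral of order q − 1; q ∉ {7, 9} and M is dihedral of order q + 1; q = q₀² and M ≅ PGL₂(F₀) with |F₀| = q₀; q = q₀^r for an odd prime r and M ≅ PSL₂(F₀) with |F₀| = q₀; q ≡ ±1 (mod 10) with q = p or q = p², p ≡ ±3 (mod 10), and M ≅ A₅; q = p ≡ ±3 (mod 8), q ≢ ±1 (mod 10), and M ≅ A₄; or q = p ≡ ±1 (mod 8) and M ≅ S₄. -/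
theorem result {F : Type*} [Field F] [Fintype F] (p : ℕ)
    [Fact p.Prime] [CharP F p] (hodd : Odd (Fintype.card F)) (h5 : 5 ≤ Fintype.card F)
    (M : Subgroup (Matrix.ProjectiveSpecialLinearGroup (Fin 2) F)) (hM : IsCoatom M) :
    2 * Nat.card M = Fintype.card F * (Fintype.card F - 1) ∨
    (13 ≤ Fintype.card F ∧ (∃ k : ℕ, 2 * k = Fintype.card F - 1 ∧ Nonempty (M ≃* DihedralGroup k))) ∨
    (Fintype.card F ≠ 7 ∧ Fintype.card F ≠ 9 ∧ (∃ k : ℕ, 2 * k = Fintype.card F + 1 ∧ Nonempty (M ≃* DihedralGroup k))) ∨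
    (∃ (F₀ : Type) (_ : Field F₀) (_ : Fintype F₀), Fintype.card F = Fintype.card F₀ ^ 2 ∧
        Nonempty (M ≃* Matrix.ProjGenLinGroup (Fin 2) F₀)) ∨
    (∃ (F₀ : Type) (_ : Field F₀) (_ : Fintype F₀) (r : ℕ), r.Prime ∧ Odd r ∧ Fintype.card F = Fintype.card F₀ ^ r ∧
        Nonempty (M ≃* Matrix.ProjectiveSpecialLinearGroup (Fin 2) F₀)) ∨
    ((Fintype.card F % 10 = 1 ∨ Fintype.card F % 10 = 9) ∧
        (Fintype.card F = p ∨ (Fintype.card F = p ^ 2 ∧ (p % 10 = 3 ∨ p % 10 = 7))) ∧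
        Nonempty (M ≃* alternatingGroup (Fin 5))) ∨
    (Fintype.card F = p ∧ (p % 8 = 3 ∨ p % 8 = 5) ∧ ¬ (p % 10 = 1 ∨ p % 10 = 9) ∧
        Nonempty (M ≃* alternatingGroup (Fin 4))) ∨
    (Fintype.card F = p ∧ (p % 8 = 1 ∨ p % 8 = 7) ∧ Nonempty (M ≃* Equiv.Perm (Fin 4))) := by
  classical
  haveI := finite_G2 (F := F)
  haveI : Finite (S2P F) := Finite.of_equiv _ (pslEquiv F).symm.toEquiv
  have hq : Fintype.card F = Nat.card F := Nat.card_eq_fintype_card.symm
  rw [hq] at hodd h5 ⊢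
  have hp : p.Prime := Fact.out
  have hd := gcd_odd hodd
  have hc := card_psl F
  rw [hd, ← card_S2P] at hc
  haveI : IsSimpleGroup (S2P F) := (psl_simple_noncomm (F := F) (by omega)).1
  have h2 := two_ne_zero_of_odd hodd
  have torus : ∀ {a b : P2 (Kc F)}, GoodPair a b → up M ≤ pairSet a b →
      (13 ≤ Nat.card F ∧ (∃ k : ℕ, 2 * k = Nat.card F - 1 ∧ Nonempty (M ≃* DihedralGroup k))) ∨
      (Nat.card F ≠ 7 ∧ Nat.card F ≠ 9 ∧ (∃ k : ℕ, 2 * k = Nat.card F + 1 ∧ Nonempty (M ≃* DihedralGroup k))) := by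
    intro a b hg hle
    obtain ⟨k, hk, hMc, hiso⟩ := coatom_torus (by omega) hM hg hle
    rw [hd] at hk
    have hE4 : Nat.card F = 5 → ∃ E : Subgroup (S2P F), Nat.card E = 12 := fun _ => by
      obtain ⟨E, ⟨f⟩⟩ := exists_a4_odd (F := F) hodd
      exact ⟨E, by rw [Nat.card_congr f.toEquiv, Nat.card_eq_fintype_card]; decide +kernel⟩
    have hES : Nat.card F = 7 ∨ Nat.card F = 9 → ∃ E : Subgroup (S2P F), Nat.card E = 24 := fun h => by
      obtain ⟨E, ⟨f⟩⟩ := exists_s4 (F := F) (two_is_square_iff.2 (by omega)) hodd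
      exact ⟨E, by rw [Nat.card_congr f.toEquiv, Nat.card_eq_fintype_card]; decide +kernel⟩
    have hEA : Nat.card F = 9 ∨ Nat.card F = 11 → ∃ E : Subgroup (S2P F), Nat.card E = 60 := fun h => by
      have h5 : 5 ∣ Nat.card (psl F) := by
        rw [← card_S2P]
        rcases h with e | e <;> rw [e] at hc <;> simp only [Nat.reduceSub, Nat.reduceAdd, Nat.reduceMul] at hc <;> omega
      obtain ⟨τ, hτ⟩ := exists_tau_of_dvd p h5
      obtain ⟨Q⟩ := exists_qpar h2
      obtain ⟨f⟩ := Q.icosa_a5 hτ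
      exact ⟨down (Q.icosa hτ), by
        rw [Nat.card_congr ((downEquiv (Q.icosa_le_psl hτ)).trans f).toEquiv, Nat.card_eq_fintype_card]; rfl⟩
    have hne : ∀ E : Subgroup (S2P F), Nat.card E < Nat.card (S2P F) → E ≠ ⊤ := fun E h e => by
      rw [e, Subgroup.card_top] at h; omega
    haveI : Fact (Nat.Prime 2) := ⟨Nat.prime_two⟩
    haveI : Fact (Nat.Prime 3) := ⟨Nat.prime_three⟩
    haveI : Fact (Nat.Prime 5) := ⟨by norm_num⟩
    obtain ⟨t, ht⟩ := id hodd
    rcases hk with hk | hk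
    · refine Or.inl ⟨?_, k, hk, hiso⟩
      by_contra hcon
      rcases (show Nat.card F = 5 ∨ Nat.card F = 7 ∨ Nat.card F = 9 ∨ Nat.card F = 11 by omega) with e | e | e | e <;>
        rw [e] at hk hc <;> simp only [Nat.reduceSub, Nat.reduceAdd, Nat.reduceMul] at hc hk
      · obtain ⟨E, hE⟩ := hE4 e
        have hG : Nat.card (S2P F) = 60 := by omega
        exact not_coatom_sylow hM (l := 2) (a := 2) (by rw [hMc]; norm_num; omega) (fun h => by rw [hG] at h; norm_num at h)
          (hne E (by omega)) (by rw [hE]; norm_num) (by rw [hE]; norm_num)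
      · obtain ⟨E, hE⟩ := hES (Or.inl e)
        have hG : Nat.card (S2P F) = 168 := by omega
        exact not_coatom_dihedral hM (k := 3) (by norm_num) (by rw [hMc]; omega) (fun h => by rw [hG] at h; norm_num at h)
          (hne E (by omega)) (by rw [hE]; norm_num) (by rw [hE]; norm_num) (by rw [hE]; norm_num)
      · obtain ⟨E, hE⟩ := hES (Or.inr e)
        have hG : Nat.card (S2P F) = 360 := by omega
        exact not_coatom_sylow hM (l := 2) (a := 3) (by rw [hMc]; norm_num; omega) (fun h => by rw [hG] at h; norm_num at h)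
          (hne E (by omega)) (by rw [hE]; norm_num) (by rw [hE]; norm_num)
      · obtain ⟨E, hE⟩ := hEA (Or.inr e)
        have hG : Nat.card (S2P F) = 660 := by omega
        exact not_coatom_dihedral hM (k := 5) (by norm_num) (by rw [hMc]; omega) (fun h => by rw [hG] at h; norm_num at h)
          (hne E (by omega)) (by rw [hE]; norm_num) (by rw [hE]; norm_num) (by rw [hE]; norm_num)
    · refine Or.inr ⟨fun e => ?_, fun e => ?_, k, hk, hiso⟩ <;>
        rw [e] at hk hc <;> simp only [Nat.reduceSub, Nat.reduceAdd, Nat.reduceMul] at hc hk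
      · obtain ⟨E, hE⟩ := hES (Or.inl e)
        have hG : Nat.card (S2P F) = 168 := by omega
        exact not_coatom_sylow hM (l := 2) (a := 3) (by rw [hMc]; norm_num; omega) (fun h => by rw [hG] at h; norm_num at h)
          (hne E (by omega)) (by rw [hE]; norm_num) (by rw [hE]; norm_num)
      · obtain ⟨E, hE⟩ := hEA (Or.inl e)
        have hG : Nat.card (S2P F) = 360 := by omega
        exact not_coatom_dihedral hM (k := 5) (by norm_num) (by rw [hMc]; omega) (fun h => by rw [hG] at h; norm_num at h)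
          (hne E (by omega)) (by rw [hE]; norm_num) (by rw [hE]; norm_num) (by rw [hE]; norm_num)
  have hp5 : p ≠ 2 → p ≠ 3 → 5 ≤ p := fun a b => by
    have := hp.two_le
    have : p ≠ 4 := fun e => by rw [e] at hp; norm_num at hp
    omega
  rcases classify_finite p (up M) with ⟨x, hx⟩ | ⟨a, b, hg, h, -⟩ | ⟨a, b, hg, h, -, -⟩ | ⟨-, h2', h3', ⟨e⟩⟩ |
    ⟨-, h2', h3', ⟨e⟩⟩ | ⟨-, h2', h5', ⟨e⟩⟩ | ⟨σ, F1, h3, h⟩
  · left
    have := coatom_borel hM hx
    rwa [hd] at this
  · rcases torus hg fun g hg' => mem_pairSet.2 (Or.inl (mem_pairFix.1 (h hg'))) with r | r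
    · exact Or.inr (Or.inl r)
    · exact Or.inr (Or.inr (Or.inl r))
  · rcases torus hg h with r | r
    · exact Or.inr (Or.inl r)
    · exact Or.inr (Or.inr (Or.inl r))
  · have f : M ≃* alternatingGroup (Fin 4) := (upEquiv M).trans e
    obtain ⟨h1, h2, h3⟩ := coatom_a4 p hodd (hp5 h2' h3') hM f
    exact Or.inr (Or.inr (Or.inr (Or.inr (Or.inr (Or.inr (Or.inl ⟨h1, h2, h3, ⟨f⟩⟩))))))
  · have f : M ≃* Equiv.Perm (Fin 4) := (upEquiv M).trans e
    obtain ⟨h1, h2⟩ := coatom_s4 p hodd (hp5 h2' h3') hM f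
    exact Or.inr (Or.inr (Or.inr (Or.inr (Or.inr (Or.inr (Or.inr ⟨h1, h2, ⟨f⟩⟩))))))
  · have f : M ≃* alternatingGroup (Fin 5) := (upEquiv M).trans e
    obtain ⟨h1, h2⟩ := coatom_a5 p hodd h5' hM f
    exact Or.inr (Or.inr (Or.inr (Or.inr (Or.inr (Or.inl ⟨h1, h2, ⟨f⟩⟩)))))
  · have hle : conjG σ (up M) ≤ pglSub F1 := by
      rcases h with e | ⟨-, e⟩
      · exact e.le
      · rw [e]; exact pslSub_le_pglSub F1
    have hne : Nat.card F1 ≠ Nat.card F := subfield_ne_top (σ := σ) (up_lt_of_ne_top hM.1) (by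
      rcases h with e | ⟨-, e⟩
      · rw [e]; exact pslSub_le_pglSub F1
      · exact e ▸ le_rfl)
    obtain ⟨r, hr, hpow, heq, i, ⟨ei⟩⟩ := coatom_subfield p hM h3 hne hle
    haveI : Finite (GaloisField p i) := Finite.of_equiv _ ei.toEquiv
    letI := Fintype.ofFinite (GaloisField p i)
    have hcard : Fintype.card (GaloisField p i) = Nat.card F1 := by
      rw [← Nat.card_eq_fintype_card]; exact (Nat.card_congr ei.toEquiv).symm
    have f0 : M ≃* conjG σ (up M) := (upEquiv M).trans (conjEquiv σ (up M))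
    rcases hr.eq_two_or_odd' with rfl | hrodd
    · rw [inf_eq_left.2 (pglSub_le_psl F1 hpow.symm (Or.inl even_two))] at heq
      exact Or.inr (Or.inr (Or.inr (Or.inl ⟨GaloisField p i, inferInstance, inferInstance, by rw [hcard, hpow],
        ⟨f0.trans ((MulEquiv.subgroupCongr heq).trans (pglSubEquiv F1 ei))⟩⟩)))
    · rw [pglSub_inf_psl F1 hpow.symm hrodd] at heq
      exact Or.inr (Or.inr (Or.inr (Or.inr (Or.inl ⟨GaloisField p i, inferInstance, inferInstance, r, hr, hrodd,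
        by rw [hcard, hpow], ⟨f0.trans ((MulEquiv.subgroupCongr heq).trans (pslSubEquiv F1 ei))⟩⟩))))

end Cfsg.Agent.S5892
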