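import Cfsg.Statements.S5893
-- import your own Cfsg.Agent.* helpers here
import Mathlib
import Cfsg.Agent.Lib.Perm.Dickson.ListExc

set_option autoImplicit false
set_option linter.all false
open Cfsg

namespace Cfsg.Agent.S5893

open CfsgLib.Perm.Dickson

/-- Let F be a finite field of even order q ≥ 4 and let M be a maximal subgroup of PSL₂(F) (= SL₂(F) = PGL₂(F)). Then one of the following holds: |M| = q(q − 1) (the stabiliser of a point of the projective line, elementary abelian of order q extended by a cyclic group of order q − 1); M is dihedral of order 2(q − 1); M is dihedral of order 2(q + 1); or q = q₀^r for a prime r with q₀ ≠ 2 and M ≅ PSL₂(F₀) with |F₀| = q₀. -/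
theorem result {F : Type*} [Field F] [Fintype F]
    (heven : Even (Fintype.card F)) (h4 : 4 ≤ Fintype.card F) (M : Subgroup (Matrix.ProjectiveSpecialLinearGroup (Fin 2) F)) (hM : IsCoatom M) :
    Nat.card M = Fintype.card F * (Fintype.card F - 1) ∨
    Nonempty (M ≃* DihedralGroup (Fintype.card F - 1)) ∨
    Nonempty (M ≃* DihedralGroup (Fintype.card F + 1)) ∨
    (∃ (F₀ : Type) (_ : Field F₀) (_ : Fintype F₀) (r : ℕ), r.Prime ∧ Fintype.card F₀ ≠ 2 ∧
        Fintype.card F = Fintype.card F₀ ^ r ∧ Nonempty (M ≃* Matrix.ProjectiveSpecialLinearGroup (Fin 2) F₀)) := by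
  classical
  haveI := finite_G2 (F := F)
  have hq : Fintype.card F = Nat.card F := Nat.card_eq_fintype_card.symm
  rw [hq] at heven h4 ⊢
  obtain ⟨p, hpc⟩ := CharP.exists F
  haveI : Fact p.Prime := ⟨CharP.char_is_prime F p⟩
  have hp : p.Prime := Fact.out
  have hp2 : p = 2 := by
    obtain ⟨n, hn, hqn⟩ := card_eq_pow (F := F) p
    rw [hqn, Nat.even_pow] at heven
    exact hp.even_iff.1 heven.1
  have hd := gcd_even heven
  have torus : ∀ {a b : P2 (Kc F)}, GoodPair a b → up M ≤ pairSet a b →
      Nonempty (M ≃* DihedralGroup (Nat.card F - 1)) ∨ Nonempty (M ≃* DihedralGroup (Nat.card F + 1)) := by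
    intro a b hg hle
    obtain ⟨k, hk, -, hiso⟩ := coatom_torus h4 hM hg hle
    rw [hd, one_mul] at hk
    rcases hk with rfl | rfl
    · exact Or.inl hiso
    · exact Or.inr hiso
  rcases classify_finite p (up M) with ⟨x, hx⟩ | ⟨a, b, hg, h, -⟩ | ⟨a, b, hg, h, -, -⟩ | ⟨-, h2', -, -⟩ |
    ⟨-, h2', -, -⟩ | ⟨-, h2', -, -⟩ | ⟨σ, F1, h3, h⟩
  · left
    have := coatom_borel hM hx
    rwa [hd, one_mul] at this
  · rcases torus hg fun g hg' => mem_pairSet.2 (Or.inl (mem_pairFix.1 (h hg'))) with r | r
    · exact Or.inr (Or.inl r)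
    · exact Or.inr (Or.inr (Or.inl r))
  · rcases torus hg h with r | r
    · exact Or.inr (Or.inl r)
    · exact Or.inr (Or.inr (Or.inl r))
  · exact absurd hp2 h2'
  · exact absurd hp2 h2'
  · exact absurd hp2 h2'
  · have hle : conjG σ (up M) ≤ pglSub F1 := by
      rcases h with e | ⟨-, e⟩
      · exact e.le
      · rw [e]; exact pslSub_le_pglSub F1
    have hne : Nat.card F1 ≠ Nat.card F := subfield_ne_top (σ := σ) (up_lt_of_ne_top hM.1) (by
      rcases h with e | ⟨-, e⟩
      · rw [e]; exact pslSub_le_pglSub F1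
      · exact e ▸ le_rfl)
    obtain ⟨r, hr, hpow, heq, i, ⟨ei⟩⟩ := coatom_subfield p hM h3 hne hle
    haveI : Finite (GaloisField p i) := Finite.of_equiv _ ei.toEquiv
    letI := Fintype.ofFinite (GaloisField p i)
    have hcard : Fintype.card (GaloisField p i) = Nat.card F1 := by
      rw [← Nat.card_eq_fintype_card]; exact (Nat.card_congr ei.toEquiv).symm
    have f0 : M ≃* conjG σ (up M) := (upEquiv M).trans (conjEquiv σ (up M))
    have he1 : Even (Nat.card F1) := (Nat.even_pow.1 (hpow ▸ heven)).1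
    have htop : pglSub F1 = pslSub F1 := by rw [pglSub, pslSub, psl_eq_top he1, ← MonoidHom.range_eq_map]
    rw [inf_eq_left.2 (pglSub_le_psl F1 hpow.symm (Or.inr heven)), htop] at heq
    exact Or.inr (Or.inr (Or.inr ⟨GaloisField p i, inferInstance, inferInstance, r, hr, by omega,
      by rw [hcard, hpow], ⟨f0.trans ((MulEquiv.subgroupCongr heq).trans (pslSubEquiv F1 ei))⟩⟩))

end Cfsg.Agent.S5893
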