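import Cfsg.Statements.S5894
import Mathlib
import Cfsg.Agent.Lib.Perm.Groups.PartitionStab

set_option autoImplicit false
open Cfsg

namespace Cfsg.Agent.S5894
open scoped Pointwise

/-- For every m ≥ 2 the symmetric group on 2m letters has a maximal subgroup M of index 2m together with a maximal subgroup H of M that is not second maximal: some maximal subgroup K of the symmetric group contains H without H being maximal in K. (One may take M the stabiliser of a letter, H ≅ S_m × S_{m−1} inside it, and K ≅ S_m ≀ S₂ the stabiliser of a partition into two m-sets, with H < S_m × S_m < K.) So the prime-index hypothesis in the second-maximality criterion cannot be relaxed to any even index ≥ 4. -/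
theorem result (m : ℕ) (hm : 2 ≤ m) :
    ∃ M H K : Subgroup (Equiv.Perm (Fin (2 * m))), IsCoatom M ∧ M.index = 2 * m ∧ H ≤ M ∧ IsCoatom (H.subgroupOf M) ∧
      IsCoatom K ∧ H ≤ K ∧ ¬ IsCoatom (H.subgroupOf K) := by
  classical
  obtain ⟨f, hfdef⟩ : ∃ f : Fin (2 * m) → Fin 2, f = fun x => ⟨x.val % 2, Nat.mod_lt _ (by norm_num)⟩ := ⟨_, rfl⟩
  have hf : ∀ i : Fin 2, Nat.card {x : Fin (2 * m) // f x = i} = m := by
    intro i
    refine (Nat.card_congr (β := Fin m) ⟨fun x => ⟨x.1.val / 2, by omega⟩,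
      fun j => ⟨⟨2 * j.val + i.val, by omega⟩, by simp [hfdef, Fin.ext_iff]; omega⟩, fun x => ?_, fun j => ?_⟩).trans (Nat.card_fin m)
    · have h := x.2
      simp [hfdef, Fin.ext_iff] at h
      apply Subtype.ext
      apply Fin.ext
      show 2 * (x.1.val / 2) + i.val = x.1.val
      omega
    · apply Fin.ext
      show (2 * j.val + i.val) / 2 = j.val
      omega
  have hK := CfsgLib.Perm.Groups.isCoatom_partitionStab m 2 hm le_rfl f hf
  obtain ⟨o, ho⟩ : ∃ o : Fin (2 * m), o.val = 0 := ⟨⟨0, by omega⟩, rfl⟩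
  obtain ⟨A, hA⟩ : ∃ A : Set (Fin (2 * m)), A = {x | f x = f o} := ⟨_, rfl⟩
  obtain ⟨M, hMdef⟩ : ∃ M, M = MulAction.stabilizer (Equiv.Perm (Fin (2 * m))) o := ⟨_, rfl⟩
  obtain ⟨T, hTdef⟩ : ∃ T, T = MulAction.stabilizer (Equiv.Perm (Fin (2 * m))) A := ⟨_, rfl⟩
  obtain ⟨K, hKdef⟩ : ∃ K, K = Subgroup.closure
      {g : Equiv.Perm (Fin (2 * m)) | ∀ x y, f x = f y ↔ f (g x) = f (g y)} := ⟨_, rfl⟩
  rw [← hKdef] at hK
  have hmemT : ∀ g, g ∈ T ↔ ∀ x, f (g x) = f o ↔ f x = f o := by
    intro g
    rw [hTdef, MulAction.mem_stabilizer_set]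
    simp [hA]
  have hTK : T ≤ K := by
    intro g hg
    rw [hKdef]
    refine Subgroup.subset_closure fun x y => ?_
    have h1 := (hmemT g).1 hg x
    have h2 := (hmemT g).1 hg y
    revert h1 h2
    generalize f x = u; generalize f y = v; generalize f (g x) = u'; generalize f (g y) = v'; generalize f o = w
    revert u v u' v' w
    decide
  have hM : IsCoatom M := by
    rw [hMdef, ← MulAction.stabilizer_singleton]
    refine Equiv.Perm.isCoatom_stabilizer (Set.singleton_nonempty o) ?_ ?_
    · exact ⟨⟨1, by omega⟩, by simp [Fin.ext_iff, ho]⟩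
    · rw [Set.ncard_singleton, Nat.card_eq_fintype_card, Fintype.card_fin]; omega
  refine ⟨M, M ⊓ T, K, hM, ?_, inf_le_left, ?_, hK, inf_le_right.trans hTK, ?_⟩
  · rw [hMdef, MulAction.index_stabilizer_of_transitive, Nat.card_eq_fintype_card, Fintype.card_fin]
  · let φ : Equiv.Perm {x : Fin (2 * m) // x ≠ o} →* M :=
      (Equiv.Perm.ofSubtype).codRestrict M fun σ => by
        rw [hMdef, MulAction.mem_stabilizer_iff]
        exact Equiv.Perm.ofSubtype_apply_of_not_mem σ (by simp)
    have hbij : Function.Bijective φ := by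
      constructor
      · intro σ τ h
        exact Equiv.Perm.ofSubtype_injective (congrArg Subtype.val h)
      · rintro ⟨g, hg⟩
        rw [hMdef, MulAction.mem_stabilizer_iff] at hg
        change g o = o at hg
        have hne : ∀ x, g x ≠ o ↔ x ≠ o := fun x =>
          ⟨fun h hx => h (hx ▸ hg), fun h hx => h (g.injective (hx.trans hg.symm))⟩
        refine ⟨g.subtypePerm hne, Subtype.ext (Equiv.ext fun x => ?_)⟩
        show Equiv.Perm.ofSubtype (g.subtypePerm hne) x = g x
        by_cases hx : x = o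
        · rw [Equiv.Perm.ofSubtype_apply_of_not_mem _ (by simp [hx]), hx, hg]
        · exact Equiv.Perm.ofSubtype_apply_coe (g.subtypePerm hne) ⟨x, hx⟩
    let e := MulEquiv.ofBijective φ hbij
    obtain ⟨A', hA'⟩ : ∃ A' : Set {x : Fin (2 * m) // x ≠ o}, A' = {x | f x.1 = f o} := ⟨_, rfl⟩
    have hmap : (M ⊓ T).subgroupOf M = Subgroup.map e.toMonoidHom
        (MulAction.stabilizer (Equiv.Perm {x : Fin (2 * m) // x ≠ o}) A') := by
      ext g
      obtain ⟨σ, rfl⟩ := e.surjective g
      rw [Subgroup.mem_subgroupOf]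
      refine Iff.trans ?_ (Subgroup.mem_map_iff_mem e.injective).symm
      rw [Subgroup.mem_inf, hmemT, MulAction.mem_stabilizer_set]
      refine ⟨fun h x => ?_, fun h => ⟨(e σ).2, fun x => ?_⟩⟩
      · have h1 := h.2 x.1
        rw [show ((e σ : Equiv.Perm (Fin (2 * m)))) x.1 = (σ x).1 from Equiv.Perm.ofSubtype_apply_coe σ x] at h1
        simpa [hA'] using h1
      · by_cases hx : x = o
        · have h1 : ((e σ : Equiv.Perm (Fin (2 * m)))) o = o :=
            Equiv.Perm.ofSubtype_apply_of_not_mem σ (by simp)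
          rw [hx, h1]
        · rw [show ((e σ : Equiv.Perm (Fin (2 * m)))) x = (σ ⟨x, hx⟩).1 from Equiv.Perm.ofSubtype_apply_coe σ ⟨x, hx⟩]
          have h1 := h ⟨x, hx⟩
          simpa [hA'] using h1
    rw [hmap]
    refine (OrderIso.isCoatom_iff e.mapSubgroup _).2 (Equiv.Perm.isCoatom_stabilizer ?_ ?_ ?_)
    · exact ⟨⟨⟨2, by omega⟩, by simp [Fin.ext_iff, ho]⟩, by simp [hA', hfdef, ho]⟩
    · exact ⟨⟨⟨1, by omega⟩, by simp [Fin.ext_iff, ho]⟩, by simp [hA', hfdef, ho]⟩
    · have hc : A'.ncard = m - 1 := by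
        rw [← Set.ncard_image_of_injective A' Subtype.val_injective]
        have himg : (Subtype.val '' A') = A \ {o} := by
          ext x
          simp [hA', hA]
        rw [himg, Set.ncard_sdiff_singleton_of_mem (by simp [hA]), hA, ← Nat.card_coe_set_eq]
        exact congrArg (· - 1) (hf (f o))
      rw [hc, Nat.card_eq_fintype_card, Fintype.card_subtype_compl, Fintype.card_fin, Fintype.card_subtype_eq]
      omega
  · intro hco
    let ν : Equiv.Perm (Fin (2 * m)) := Function.Involutive.toPerm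
      (fun x => ⟨2 * (x.val / 2) + (1 - x.val % 2), by omega⟩) (fun x => Fin.ext (by dsimp; omega))
    have hν : ∀ x, (ν x).val = 2 * (x.val / 2) + (1 - x.val % 2) := fun x => rfl
    have hνK : ν ∈ K := by
      rw [hKdef]
      refine Subgroup.subset_closure fun x y => ?_
      simp [hν, hfdef, Fin.ext_iff]
      omega
    have hνT : ν ∉ T := by
      rw [hmemT]
      intro h
      have := h o
      simp [hν, hfdef, Fin.ext_iff, ho] at this
    obtain ⟨o', ho'⟩ : ∃ o' : Fin (2 * m), o'.val = 2 := ⟨⟨2, by omega⟩, rfl⟩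
    have hsw : Equiv.swap o o' ∈ T := by
      rw [hmemT]
      intro x
      rcases eq_or_ne x o with rfl | h1
      · simp [hfdef, ho, ho']
      rcases eq_or_ne x o' with rfl | h2
      · simp [hfdef, ho, ho']
      rw [Equiv.swap_apply_of_ne_of_ne h1 h2]
    have hlt : (M ⊓ T).subgroupOf K < T.subgroupOf K := by
      refine lt_of_le_of_ne (fun g hg => hg.2) fun h => ?_
      have h1 : (⟨_, hTK hsw⟩ : K) ∈ (M ⊓ T).subgroupOf K := h ▸ (show _ ∈ T.subgroupOf K from hsw)
      have h2 : Equiv.swap o o' ∈ M := h1.1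
      rw [hMdef, MulAction.mem_stabilizer_iff] at h2
      change Equiv.swap o o' o = o at h2
      rw [Equiv.swap_apply_left, Fin.ext_iff] at h2
      omega
    have htop := hco.2 _ hlt
    rw [Subgroup.subgroupOf_eq_top] at htop
    exact hνT (htop hνK)

end Cfsg.Agent.S5894
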