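import Cfsg.Statements.S5895
-- import your own Cfsg.Agent.* helpers here
import Mathlib

set_option autoImplicit false
set_option linter.all false
open Cfsg

namespace Cfsg.Agent.S5895

/-- For every prime p and every d ≥ 2 there is a finite group G with a maximal subgroup M of index p^d and a maximal subgroup H of M that is not second maximal in G: some maximal subgroup K of G contains H without H being maximal in K. (One may take G the affine group V ⋊ GL(V) of V = 𝔽_p^d, M = GL(V), H the stabiliser in M of a line W of V, and K = V ⋊ H, with H < W ⋊ H < K.) So the prime-index hypothesis in the second-maximality criterion cannot be relaxed to prime-power index. -/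
theorem result (p d : ℕ) (hp : p.Prime)
    (hd : 2 ≤ d) :
    ∃ (G : Type) (_ : Group G) (_ : Finite G) (M H K : Subgroup G), IsCoatom M ∧ M.index = p ^ d ∧ H ≤ M ∧
      IsCoatom (H.subgroupOf M) ∧ IsCoatom K ∧ H ≤ K ∧ ¬ IsCoatom (H.subgroupOf K) := by
  classical
  haveI : Fact p.Prime := ⟨hp⟩
  let K := GaloisField p d
  haveI : Fintype K := Fintype.ofFinite K
  have hK : Nat.card K = p ^ d := GaloisField.card p d (by omega)
  obtain ⟨Irr, hIrr⟩ : ∃ Irr : Subgroup Kˣ → Prop, Irr = fun M => ∀ W : AddSubgroup K,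
      (∀ a : Kˣ, a ∈ M → ∀ w ∈ W, (a : K) * w ∈ W) → W = ⊥ ∨ W = ⊤ := ⟨_, rfl⟩
  have htop : Irr ⊤ := by
    rw [hIrr]
    intro W hW
    refine or_iff_not_imp_left.2 fun h => eq_top_iff.2 fun x _ => ?_
    obtain ⟨⟨w, hw⟩, hw0'⟩ := AddSubgroup.ne_bot_iff_exists_ne_zero.1 h
    have hw0 : w ≠ 0 := fun e => hw0' (Subtype.ext e)
    rcases eq_or_ne x 0 with rfl | hx
    · exact W.zero_mem
    have := hW (Units.mk0 (x / w) (div_ne_zero hx hw0)) (Subgroup.mem_top _) w hw
    rwa [Units.val_mk0, div_mul_cancel₀ _ hw0] at this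
  obtain ⟨M₀, hM₀⟩ := (Set.toFinite {M : Subgroup Kˣ | Irr M}).exists_minimal ⟨⊤, htop⟩
  have hirr : ∀ W : AddSubgroup K, (∀ a : Kˣ, a ∈ M₀ → ∀ w ∈ W, (a : K) * w ∈ W) → W = ⊥ ∨ W = ⊤ := by
    have := hM₀.1
    simp only [Set.mem_setOf_eq, hIrr] at this
    exact this
  have hne : M₀ ≠ ⊥ := by
    intro h
    have hcard : Nat.card (AddSubgroup.zmultiples (1 : K)) = p := by
      rw [Nat.card_zmultiples]
      exact CharP.eq K (CharP.addOrderOf_one K) inferInstance
    rcases hirr (AddSubgroup.zmultiples (1 : K)) (fun a ha w hw => by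
      rw [h, Subgroup.mem_bot] at ha
      rwa [ha, Units.val_one, one_mul]) with h' | h'
    · rw [h', AddSubgroup.card_bot] at hcard
      exact hp.one_lt.ne hcard
    · rw [h', AddSubgroup.card_top, hK] at hcard
      have := Nat.pow_lt_pow_right hp.one_lt hd
      have h1 := Nat.pow_le_pow_right hp.pos hd
      nlinarith [hp.one_lt, sq p]
  haveI : Nontrivial M₀ := (Subgroup.nontrivial_iff_ne_bot M₀).2 hne
  obtain ⟨H₀, hH₀, -⟩ := (eq_top_or_exists_le_coatom (⊥ : Subgroup M₀)).resolve_left bot_ne_top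
  have hred : ∃ W : AddSubgroup K, W ≠ ⊥ ∧ W ≠ ⊤ ∧ ∀ a : M₀, a ∈ H₀ → ∀ w ∈ W, ((a : Kˣ) : K) * w ∈ W := by
    by_contra hcon
    push Not at hcon
    have hlt : H₀.map M₀.subtype < M₀ := by
      refine lt_of_le_of_ne (Subgroup.map_subtype_le _) fun e => hH₀.1 ?_
      rw [← Subgroup.comap_map_eq_self_of_injective M₀.subtype_injective H₀, e]
      exact Subgroup.comap_subtype M₀ M₀ |>.trans (Subgroup.subgroupOf_self M₀)
    refine not_le_of_gt hlt (hM₀.2 ?_ hlt.le)
    simp only [Set.mem_setOf_eq, hIrr]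
    intro W hW
    by_contra hW'
    push Not at hW'
    obtain ⟨a, ha, w, hw, hnot⟩ := hcon W hW'.1 hW'.2
    exact hnot (hW _ ⟨a, ha, rfl⟩ w hw)
  obtain ⟨W, hW0, hW1, hWinv⟩ := hred
  let φ : M₀ →* MulAut (Multiplicative K) :=
    { toFun := fun a =>
        { toFun := fun w => Multiplicative.ofAdd (((a : Kˣ) : K) * w.toAdd)
          invFun := fun w => Multiplicative.ofAdd ((((a : Kˣ)⁻¹ : Kˣ) : K) * w.toAdd)
          left_inv := fun w => by simp [← mul_assoc]
          right_inv := fun w => by simp [← mul_assoc]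
          map_mul' := fun x y => by simp [mul_add, ← ofAdd_add] }
      map_one' := by ext w; simp
      map_mul' := fun a b => by ext w; simp [mul_assoc] }
  let G := Multiplicative K ⋊[φ] M₀
  have hφ : ∀ (a : M₀) (w : Multiplicative K), (φ a w).toAdd = ((a : Kˣ) : K) * w.toAdd := fun a w => rfl
  haveI : Finite G := Finite.of_equiv _ SemidirectProduct.equivProd.symm
  let M : Subgroup G := (SemidirectProduct.inr : M₀ →* G).range
  let H : Subgroup G := H₀.map (SemidirectProduct.inr : M₀ →* G)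
  let K' : Subgroup G := H₀.comap (SemidirectProduct.rightHom : G →* M₀)
  have hMmem : ∀ g : G, g ∈ M ↔ g.left = 1 := fun g => ⟨fun ⟨a, ha⟩ => by rw [← ha]; rfl,
    fun hg => ⟨g.right, by ext <;> simp [hg]⟩⟩
  refine ⟨G, inferInstance, inferInstance, M, H, K', ?_, ?_, ?_, ?_, ?_, ?_, ?_⟩
  · refine ⟨fun h => ?_, fun X hX => eq_top_iff.2 ?_⟩
    · have h1 : (SemidirectProduct.inl (Multiplicative.ofAdd (1 : K)) : G) ∈ M := h ▸ Subgroup.mem_top _
      rw [hMmem, SemidirectProduct.left_inl] at h1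
      exact one_ne_zero (congrArg Multiplicative.toAdd h1 : (1 : K) = 0)
    obtain ⟨g, hgX, hgM⟩ := SetLike.exists_of_lt hX
    let Wx : AddSubgroup K :=
      { carrier := {w | (SemidirectProduct.inl (Multiplicative.ofAdd w) : G) ∈ X}
        zero_mem' := by simp [X.one_mem]
        add_mem' := fun {x y} hx hy => by
          simp only [Set.mem_setOf_eq, ofAdd_add, map_mul] at *
          exact X.mul_mem hx hy
        neg_mem' := fun {x} hx => by
          simp only [Set.mem_setOf_eq, ofAdd_neg, map_inv] at *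
          exact X.inv_mem hx }
    have hdec : ∀ g : G, g ∈ X → g.left.toAdd ∈ Wx := fun g hg => by
      show (SemidirectProduct.inl g.left : G) ∈ X
      rw [← mul_inv_cancel_right (SemidirectProduct.inl g.left) (SemidirectProduct.inr g.right : G),
        SemidirectProduct.inl_left_mul_inr_right]
      exact X.mul_mem hg (X.inv_mem (hX.le ⟨_, rfl⟩))
    have hWx : ∀ a : Kˣ, a ∈ M₀ → ∀ w ∈ Wx, (a : K) * w ∈ Wx := by
      intro a ha w hw
      show (SemidirectProduct.inl (φ ⟨a, ha⟩ (Multiplicative.ofAdd w)) : G) ∈ X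
      rw [SemidirectProduct.inl_aut]
      exact X.mul_mem (X.mul_mem (hX.le ⟨⟨a, ha⟩, rfl⟩) hw) (hX.le ⟨(⟨a, ha⟩ : M₀)⁻¹, rfl⟩)
    rcases hirr Wx hWx with h | h
    · have := hdec g hgX
      rw [h, AddSubgroup.mem_bot] at this
      exact absurd ((hMmem g).2 (toAdd_eq_zero.1 this)) hgM
    · intro g _
      rw [← SemidirectProduct.inl_left_mul_inr_right g]
      refine X.mul_mem ?_ (hX.le ⟨_, rfl⟩)
      have hg : g.left.toAdd ∈ Wx := h ▸ AddSubgroup.mem_top _
      exact hg
  · have h1 := M.card_mul_index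
    rw [SemidirectProduct.card, Nat.card_congr (MonoidHom.ofInjective
      (SemidirectProduct.inr_injective : Function.Injective (SemidirectProduct.inr : M₀ →* G))).toEquiv.symm,
      mul_comm (Nat.card (Multiplicative K)), Nat.card_congr Multiplicative.toAdd, hK] at h1
    exact Nat.eq_of_mul_eq_mul_left Nat.card_pos h1
  · exact Subgroup.map_le_range _ _
  · let e : M₀ ≃* M := MonoidHom.ofInjective SemidirectProduct.inr_injective
    have he : H.subgroupOf M = H₀.map e.toMonoidHom := by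
      ext x
      simp only [Subgroup.mem_subgroupOf, H, Subgroup.mem_map]
      constructor
      · rintro ⟨a, ha, hax⟩; exact ⟨a, ha, Subtype.ext hax⟩
      · rintro ⟨a, ha, rfl⟩; exact ⟨a, ha, rfl⟩
    rw [he]
    exact (OrderIso.isCoatom_iff e.mapSubgroup H₀).2 hH₀
  · exact Subgroup.isCoatom_comap_of_surjective SemidirectProduct.rightHom_surjective hH₀
  · rintro _ ⟨a, ha, rfl⟩
    exact ha
  · intro hco
    let Y : Subgroup G :=
      { carrier := {g | g.right ∈ H₀ ∧ g.left.toAdd ∈ W}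
        one_mem' := ⟨H₀.one_mem, W.zero_mem⟩
        mul_mem' := fun {x y} hx hy => ⟨H₀.mul_mem hx.1 hy.1, by
          show (x.left * φ x.right y.left).toAdd ∈ W
          rw [toAdd_mul, hφ]
          exact W.add_mem hx.2 (hWinv _ hx.1 _ hy.2)⟩
        inv_mem' := fun {x} hx => ⟨H₀.inv_mem hx.1, by
          show (φ x.right⁻¹ x.left⁻¹).toAdd ∈ W
          rw [hφ, toAdd_inv]
          exact hWinv _ (H₀.inv_mem hx.1) _ (W.neg_mem hx.2)⟩ }
    have hYK : Y ≤ K' := fun g hg => hg.1
    have hHY : H.subgroupOf K' < Y.subgroupOf K' := by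
      refine lt_of_le_of_ne (fun x hx => ?_) fun e => ?_
      · obtain ⟨a, ha, hax⟩ := hx
        refine ⟨hax ▸ ha, ?_⟩
        rw [← hax]
        exact W.zero_mem
      · obtain ⟨⟨w, hw⟩, hw0⟩ := AddSubgroup.ne_bot_iff_exists_ne_zero.1 hW0
        have hxY : (SemidirectProduct.inl (Multiplicative.ofAdd w) : G) ∈ Y := ⟨H₀.one_mem, hw⟩
        have : (⟨_, hYK hxY⟩ : K') ∈ H.subgroupOf K' := e ▸ (hxY : (⟨_, hYK hxY⟩ : K') ∈ Y.subgroupOf K')
        obtain ⟨a, -, hax⟩ := this
        have := congrArg (fun g : G => g.left.toAdd) hax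
        simp at this
        exact hw0 (Subtype.ext this.symm)
    have := hco.2 _ hHY
    rw [Subgroup.subgroupOf_eq_top] at this
    refine hW1 (eq_top_iff.2 fun w _ => ?_)
    have h1 : (SemidirectProduct.inl (Multiplicative.ofAdd w) : G) ∈ K' := H₀.one_mem
    exact (this h1).2

end Cfsg.Agent.S5895
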