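import Cfsg.Statements.S5902
import Cfsg.Agent.Lib.Perm.LatticeCompl
-- import your own Cfsg.Agent.* helpers here

set_option autoImplicit false
open Cfsg

namespace Cfsg.Agent.S5902

/-- Let G be a finite group, X a subgroup whose own subgroup lattice is complemented, and suppose X lies in exactly one maximal subgroup M of G. Then every subgroup H of G not contained in the normal core of M has a complement in the subgroup lattice of G (some C with H ⊔ C = G and H ⊓ C = 1); in particular the subgroup lattice of G modulo the normal core of M is complemented. -/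
theorem result {G : Type*} [Group G] [Finite G] (X M : Subgroup G)
    (hK : ComplementedLattice (Subgroup X))
    (hM : IsCoatom M) (hXM : X ≤ M) (huniq : ∀ M' : Subgroup G, IsCoatom M' → X ≤ M' → M' = M) :
    (∀ H : Subgroup G, ¬ H ≤ M.normalCore → ∃ C : Subgroup G, H ⊔ C = ⊤ ∧ H ⊓ C = ⊥) ∧
    ComplementedLattice (Subgroup (G ⧸ M.normalCore)) := by
  have hint : ∀ Y : Subgroup G, ⊥ ≤ Y → Y ≤ X → ∃ C : Subgroup G, ⊥ ≤ C ∧ C ≤ X ∧ Y ⊔ C = X ∧ Y ⊓ C = ⊥ := by
    intro Y _ hYX
    obtain ⟨C, hC⟩ := exists_isCompl (Y.subgroupOf X)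
    refine ⟨C.map X.subtype, bot_le, Subgroup.map_subtype_le _, ?_, ?_⟩
    · conv_lhs => rw [← Subgroup.map_subgroupOf_eq_of_le hYX, ← Subgroup.map_sup, hC.sup_eq_top]
      rw [← MonoidHom.range_eq_map, Subgroup.range_subtype]
    · conv_lhs => rw [← Subgroup.map_subgroupOf_eq_of_le hYX, ← Subgroup.map_inf _ _ _ X.subtype_injective,
        hC.inf_eq_bot, Subgroup.map_bot]
  have main : ∀ H : Subgroup G, ¬ H ≤ M.normalCore → ∃ C : Subgroup G, H ⊔ C = ⊤ ∧ H ⊓ C = ⊥ := by
    intro H hH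
    obtain ⟨x, hx, hxc⟩ := SetLike.not_le_iff_exists.1 hH
    obtain ⟨b, hb⟩ : ∃ b : G, b * x * b⁻¹ ∉ M := by
      by_contra hcon
      push Not at hcon
      exact hxc hcon
    refine CfsgLib.Perm.LatticeCompl.exists_compl_of_interval_conj ⊥ X M hint bot_le huniq H (MulAut.conj b⁻¹)
      (fun hle => ?_) (by rw [Subgroup.map_bot, inf_bot_eq])
    obtain ⟨m, hm, hmx⟩ := hle hx
    refine hb ?_
    rw [← hmx]
    simpa [MulAut.conj_apply, mul_assoc] using hm
  refine ⟨main, ⟨fun Hq => ?_⟩⟩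
  let π := QuotientGroup.mk' M.normalCore
  have hπ : Function.Surjective π := QuotientGroup.mk'_surjective _
  have hmc : (Hq.comap π).map π = Hq := Subgroup.map_comap_eq_self_of_surjective hπ Hq
  by_cases hle : Hq.comap π ≤ M.normalCore
  · refine ⟨⊤, ?_⟩
    have hbot : Hq = ⊥ := by
      rw [← hmc, Subgroup.map_eq_bot_iff, QuotientGroup.ker_mk']
      exact hle
    exact hbot ▸ isCompl_bot_top
  obtain ⟨C, h1, h2⟩ := main _ hle
  refine ⟨C.map π, IsCompl.of_eq ?_ ?_⟩
  · rw [eq_bot_iff]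
    rintro y ⟨hy, c, hc, rfl⟩
    have : c ∈ Hq.comap π ⊓ C := ⟨hy, hc⟩
    rw [h2, Subgroup.mem_bot] at this
    rw [this]; exact one_mem _
  · rw [← hmc, ← Subgroup.map_sup, h1, Subgroup.map_top_of_surjective _ hπ]

end Cfsg.Agent.S5902
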