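import Cfsg.Statements.S5903
import Cfsg.Agent.Lib.Perm.LatticeCompl
-- import your own Cfsg.Agent.* helpers here

set_option autoImplicit false
open Cfsg

namespace Cfsg.Agent.S5903

/-- Let G be a finite simple group, X a subgroup lying in exactly one maximal subgroup M of G, and N a subgroup of prime order with N ≤ X that is central in M. If the subgroup lattice of X/N is complemented, then the subgroup lattice of G is complemented. -/
theorem result {G : Type*} [Group G] [Finite G] [IsSimpleGroup G] (X M N : Subgroup G)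
    (hM : IsCoatom M) (hXM : X ≤ M) (huniq : ∀ M' : Subgroup G, IsCoatom M' → X ≤ M' → M' = M)
    (hNX : N ≤ X) (hN : (Nat.card N).Prime) (hcen : ∀ n ∈ N, ∀ m ∈ M, m * n = n * m)
    [(N.subgroupOf X).Normal] (hK : ComplementedLattice (Subgroup (X ⧸ N.subgroupOf X))) :
    ComplementedLattice (Subgroup G) := by
  refine ⟨fun H => ?_⟩
  by_cases hbot : H = ⊥
  · exact ⟨⊤, hbot ▸ isCompl_bot_top⟩
  by_cases htop : H = ⊤
  · exact ⟨⊥, htop ▸ isCompl_top_bot⟩
  suffices h : ∃ b : G, ¬ H ≤ M.map (MulAut.conj b).toMonoidHom ∧ H ⊓ N.map (MulAut.conj b).toMonoidHom = ⊥ by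
    obtain ⟨b, h1, h2⟩ := h
    obtain ⟨C, e1, e2⟩ := CfsgLib.Perm.LatticeCompl.exists_compl_of_interval_conj N X M
      (CfsgLib.Perm.LatticeCompl.interval_of_quotient N X hNX hK) hNX huniq H (MulAut.conj b) h1 h2
    exact ⟨C, IsCompl.of_eq e2 e1⟩
  by_contra hcon
  push Not at hcon
  obtain ⟨A, hA⟩ : ∃ A, A = {b : G | N.map (MulAut.conj b).toMonoidHom ≤ H} := ⟨_, rfl⟩
  have hdich : ∀ b : G, b ∈ A ∨ H ≤ M.map (MulAut.conj b).toMonoidHom := fun b => by
    by_cases hb : H ≤ M.map (MulAut.conj b).toMonoidHom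
    · exact Or.inr hb
    refine Or.inl ?_
    rw [hA]
    have hne := hcon b hb
    have hcard : Nat.card ↥(N.map (MulAut.conj b).toMonoidHom) = Nat.card N :=
      Subgroup.card_map_of_injective (MulAut.conj b).injective
    haveI : Fact (Nat.card ↥(N.map (MulAut.conj b).toMonoidHom)).Prime := ⟨hcard.symm ▸ hN⟩
    rcases ((H ⊓ N.map (MulAut.conj b).toMonoidHom).subgroupOf
        (N.map (MulAut.conj b).toMonoidHom)).eq_bot_or_eq_top_of_prime_card with h | h
    · exact absurd (by
        rw [← Subgroup.map_subgroupOf_eq_of_le (inf_le_right : H ⊓ N.map (MulAut.conj b).toMonoidHom ≤ _), h,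
          Subgroup.map_bot]) hne
    · exact (Subgroup.subgroupOf_eq_top.1 h).trans inf_le_left
  obtain ⟨K, hK'⟩ : ∃ K : Subgroup G, K = ⨆ a ∈ A, N.map (MulAut.conj a).toMonoidHom := ⟨_, rfl⟩
  have hKH : K ≤ H := by
    rw [hK']
    exact iSup₂_le fun a ha => by rw [hA] at ha; exact ha
  have hnorm : K.Normal := by
    have hNall : ∀ b : G, N.map (MulAut.conj b).toMonoidHom ≤ Subgroup.normalizer (K : Set G) := by
      intro b
      by_cases hb : b ∈ A
      · refine le_trans ?_ Subgroup.le_normalizer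
        rw [hK']
        exact le_iSup₂ (f := fun a (_ : a ∈ A) => N.map (MulAut.conj a).toMonoidHom) b hb
      · refine le_trans ?_ (Subgroup.centralizer_le_normalizer (K : Set G))
        rintro _ ⟨n, hn, rfl⟩ k hk
        obtain ⟨m, hm, rfl⟩ := ((hdich b).resolve_left hb) (hKH hk)
        show (MulAut.conj b) m * (MulAut.conj b) n = (MulAut.conj b) n * (MulAut.conj b) m
        rw [← map_mul, ← map_mul, hcen n hn m hm]
    have hJ : (⨆ b : G, N.map (MulAut.conj b).toMonoidHom).Normal := ⟨fun n hn g => by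
      have hle : (⨆ b : G, N.map (MulAut.conj b).toMonoidHom).map (MulAut.conj g).toMonoidHom ≤
          ⨆ b : G, N.map (MulAut.conj b).toMonoidHom := by
        rw [Subgroup.map_iSup]
        refine iSup_le fun b => le_trans (le_of_eq ?_) (le_iSup _ (g * b))
        rw [Subgroup.map_map]
        congr 1
        ext x
        simp [mul_assoc]
      exact hle ⟨n, hn, rfl⟩⟩
    rw [← Subgroup.normalizer_eq_top_iff, eq_top_iff]
    refine le_trans (le_of_eq ?_) (iSup_le hNall)
    refine (hJ.eq_bot_or_eq_top.resolve_left fun h => ?_).symm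
    have := (le_iSup (fun b : G => N.map (MulAut.conj b).toMonoidHom) 1).trans h.le
    rw [le_bot_iff, Subgroup.map_eq_bot_iff_of_injective _ (MulAut.conj (1 : G)).injective] at this
    rw [this, Subgroup.card_bot] at hN
    exact Nat.not_prime_one hN
  rcases hnorm.eq_bot_or_eq_top with h | h
  · have hle : H ≤ M.normalCore := fun x hx b => by
      rcases hdich b⁻¹ with ha | hle
      · have h1 : N.map (MulAut.conj b⁻¹).toMonoidHom = ⊥ := by
          rw [eq_bot_iff, ← h, hK']
          exact le_iSup₂ (f := fun a (_ : a ∈ A) => N.map (MulAut.conj a).toMonoidHom) b⁻¹ ha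
        rw [Subgroup.map_eq_bot_iff_of_injective _ (MulAut.conj b⁻¹).injective] at h1
        rw [h1, Subgroup.card_bot] at hN
        exact absurd hN Nat.not_prime_one
      · obtain ⟨m, hm, rfl⟩ := hle hx
        simpa [MulAut.conj_apply, mul_assoc] using hm
    rcases (inferInstance : M.normalCore.Normal).eq_bot_or_eq_top with h' | h'
    · exact hbot (le_bot_iff.1 (h' ▸ hle))
    · exact hM.1 (top_le_iff.1 (h' ▸ M.normalCore_le))
  · exact htop (top_le_iff.1 (h ▸ hKH))

end Cfsg.Agent.S5903
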