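import Cfsg.Statements.S5904
-- import your own Cfsg.Agent.* helpers here

set_option autoImplicit false
open scoped Pointwise
open Cfsg

namespace Cfsg.Agent.S5904

/-- Let Ω be a finite set with more than two elements and O ⊆ Ω a subset with exactly as many elements as its complement. Then the setwise stabilizer of O in the symmetric group on Ω is not a maximal subgroup (it is properly contained in the stabilizer of the partition {O, Ω ∖ O}, which is proper). -/
theorem result {Ω : Type*} [Fintype Ω] [DecidableEq Ω] (hΩ : 2 < Fintype.card Ω)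
    (O : Set Ω) (hO : Nat.card O = Nat.card ↥Oᶜ) :
    ¬ IsCoatom (MulAction.stabilizer (Equiv.Perm Ω) O) := by
  intro hco
  have hsum : Nat.card O + Nat.card ↥Oᶜ = Fintype.card Ω := by
    classical
    rw [← Nat.card_eq_fintype_card, ← Nat.card_sum]
    exact Nat.card_congr (Equiv.Set.sumCompl O)
  let K : Subgroup (Equiv.Perm Ω) :=
    { carrier := {g | g • O = O ∨ g • O = Oᶜ}
      one_mem' := Or.inl (one_smul _ _)
      mul_mem' := fun {g h} hg hh => by
        have hcompl : g • Oᶜ = (g • O)ᶜ := Set.smul_set_compl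
        show (g * h) • O = O ∨ (g * h) • O = Oᶜ
        rw [mul_smul]
        rcases hh with hh | hh <;> rcases hg with hg | hg <;> rw [hh] <;>
          simp only [hcompl, hg, compl_compl, true_or, or_true]
      inv_mem' := fun {g} hg => by
        show g⁻¹ • O = O ∨ g⁻¹ • O = Oᶜ
        rcases hg with hg | hg
        · exact Or.inl (inv_smul_eq_iff.2 hg.symm)
        · refine Or.inr (inv_smul_eq_iff.2 ?_)
          rw [Set.smul_set_compl, hg, compl_compl] }
  have hle : MulAction.stabilizer (Equiv.Perm Ω) O ≤ K := fun g hg => Or.inl hg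
  -- a permutation exchanging the two halves
  obtain ⟨e⟩ : Nonempty (↥O ≃ ↥Oᶜ) := ⟨(Finite.equivFin _).trans ((finCongr hO).trans (Finite.equivFin _).symm)⟩
  obtain ⟨a, b, ha, hb⟩ : ∃ a b, a ∈ O ∧ b ∉ O := by
    have h0 : 0 < Nat.card O := by omega
    have h1 : 0 < Nat.card ↥Oᶜ := by omega
    obtain ⟨⟨a, ha⟩⟩ := (Nat.card_pos_iff.1 h0).1
    obtain ⟨⟨b, hb⟩⟩ := (Nat.card_pos_iff.1 h1).1
    exact ⟨a, b, ha, hb⟩
  classical
  let s : Equiv.Perm Ω :=
    (Equiv.Set.sumCompl O).symm.trans ((Equiv.sumComm _ _).trans ((e.symm.sumCongr e).trans (Equiv.Set.sumCompl O)))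
  have hsO : s • O = Oᶜ := by
    ext x
    rw [Set.mem_smul_set_iff_inv_smul_mem]
    show s.symm x ∈ O ↔ x ∈ Oᶜ
    by_cases hx : x ∈ O
    · simp [s, hx, Equiv.Set.sumCompl_symm_apply_of_mem hx]
      exact (e ⟨x, hx⟩).2
    · simp [s, hx, Equiv.Set.sumCompl_symm_apply_of_notMem hx]
  rcases lt_or_eq_of_le hle with hlt | heq
  · have htop := hco.2 K hlt
    have hmem : Equiv.swap a b ∈ K := htop ▸ Subgroup.mem_top _
    obtain ⟨a', ha', hne⟩ : ∃ a' ∈ O, a' ≠ a := by
      by_contra hcon
      push Not at hcon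
      have h1 : Nat.card O ≤ 1 :=
        Finite.card_le_one_iff_subsingleton.2
          ⟨fun x y => Subtype.ext ((hcon x x.2).trans (hcon y y.2).symm)⟩
      omega
    have hsw : Equiv.swap a b a' = a' := Equiv.swap_apply_of_ne_of_ne hne fun h => hb (h ▸ ha')
    rcases hmem with h | h
    · have : Equiv.swap a b a ∈ O := h ▸ Set.smul_mem_smul_set ha
      rw [Equiv.swap_apply_left] at this
      exact hb this
    · have : Equiv.swap a b a' ∈ Oᶜ := h ▸ Set.smul_mem_smul_set ha'
      rw [hsw] at this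
      exact this ha'
  · have hsK : s ∈ K := Or.inr hsO
    rw [← heq] at hsK
    have : s • O = O := hsK
    rw [hsO] at this
    have hb' : b ∈ Oᶜ := hb
    rw [this] at hb'
    exact hb hb'

end Cfsg.Agent.S5904
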