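import Cfsg.Statements.S5910
-- import your own Cfsg.Agent.* helpers here
import Mathlib
import Cfsg.Agent.Lib.Perm.Small.PairsEight

set_option autoImplicit false
set_option linter.all false
open Cfsg

namespace Cfsg.Agent.S5910

/-- Let Ω be a set with 8 elements and f : Ω → Fin 4 a labelling whose four fibres all have size 2 (a partition of the 8 points into 4 pairs). Then the group of even permutations preserving this partition, (S₂ ≀ S₄) ∩ A₈, is not a maximal subgroup of the alternating group A₈ (it lies in a subgroup isomorphic to the affine group AGL₃(2)). -/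
theorem result {Ω : Type*} [Fintype Ω] [DecidableEq Ω] (h8 : Fintype.card Ω = 8)
    (f : Ω → Fin 4) (hf : ∀ i : Fin 4, Nat.card {x : Ω // f x = i} = 2) :
    ¬ IsCoatom ((Subgroup.closure {g : Equiv.Perm Ω | ∀ x y : Ω, f x = f y ↔ f (g x) = f (g y)} ⊓ alternatingGroup Ω).subgroupOf (alternatingGroup Ω)) := by
  classical
  intro hco
  have e : ∀ i, {x : Ω // f x = i} ≃ Fin 2 := fun i => Fintype.equivFinOfCardEq (by rw [← Nat.card_eq_fintype_card, hf])
  let σ : Ω ≃ Fin 8 :=
    ((Equiv.sigmaFiberEquiv f).symm.trans (Equiv.sigmaCongrRight e)).trans ((Equiv.sigmaEquivProd _ _).trans finProdFinEquiv)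
  have hσ : ∀ x, (σ x).val / 2 = (f x).val := fun x => by
    show ((e (f x) ⟨x, rfl⟩).val + 2 * (f x).val) / 2 = (f x).val
    have := (e (f x) ⟨x, rfl⟩).isLt
    omega
  let W : Subgroup (Equiv.Perm Ω) :=
    { carrier := {g | ∀ x y : Ω, f x = f y ↔ f (g x) = f (g y)}
      one_mem' := fun x y => Iff.rfl
      mul_mem' := fun {g h} hg hh x y => (hh x y).trans (hg (h x) (h y))
      inv_mem' := fun {g} hg x y => by
        have := hg (g⁻¹ x) (g⁻¹ y)
        rw [show g (g⁻¹ x) = x from g.apply_symm_apply x, show g (g⁻¹ y) = y from g.apply_symm_apply y] at this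
        exact this.symm }
  rw [show Subgroup.closure {g : Equiv.Perm Ω | ∀ x y : Ω, f x = f y ↔ f (g x) = f (g y)} = W from Subgroup.closure_eq W] at hco
  let c : Equiv.Perm Ω ≃* Equiv.Perm (Fin 8) := σ.permCongrHom
  have hc : ∀ (g : Equiv.Perm Ω) i, c g i = σ (g (σ.symm i)) := fun g i => rfl
  have hcs : ∀ g : Equiv.Perm Ω, Equiv.Perm.sign (c g) = Equiv.Perm.sign g := fun g => Equiv.Perm.sign_permCongr σ g
  let K : Subgroup (Equiv.Perm Ω) := CfsgLib.Perm.Small.PairsEight.affine.comap c.toMonoidHom ⊓ alternatingGroup Ω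
  obtain ⟨ha, has, hb, hbs⟩ := CfsgLib.Perm.Small.PairsEight.affine_facts
  have hWK : W ⊓ alternatingGroup Ω ≤ K := by
    rintro g ⟨hgW, hgA⟩
    refine ⟨CfsgLib.Perm.Small.PairsEight.mem_affine (fun i j => ?_) ((hcs g).trans (Equiv.Perm.mem_alternatingGroup.1 hgA)), hgA⟩
    have := hgW (σ.symm i) (σ.symm j)
    rw [Fin.ext_iff, Fin.ext_iff, ← hσ, ← hσ, ← hσ, ← hσ, σ.apply_symm_apply, σ.apply_symm_apply] at this
    exact this
  have hlt : (W ⊓ alternatingGroup Ω).subgroupOf (alternatingGroup Ω) < K.subgroupOf (alternatingGroup Ω) := by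
    refine lt_of_le_of_ne (fun x hx => hWK hx) fun heq => ?_
    have hA : c.symm (Equiv.swap (1 : Fin 8) 2 * Equiv.swap 5 6) ∈ alternatingGroup Ω := by
      rw [Equiv.Perm.mem_alternatingGroup, ← hcs, c.apply_symm_apply, has]
    have hK : (⟨_, hA⟩ : alternatingGroup Ω) ∈ K.subgroupOf (alternatingGroup Ω) :=
      ⟨Subgroup.mem_comap.2 (show c (c.symm (Equiv.swap (1 : Fin 8) 2 * Equiv.swap 5 6)) ∈ CfsgLib.Perm.Small.PairsEight.affine by rw [c.apply_symm_apply]; exact ha), hA⟩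
    rw [← heq] at hK
    have h1 : f (σ.symm 0) = f (σ.symm 1) ↔ f ((c.symm (Equiv.swap (1 : Fin 8) 2 * Equiv.swap 5 6)) (σ.symm 0)) =
      f ((c.symm (Equiv.swap (1 : Fin 8) 2 * Equiv.swap 5 6)) (σ.symm 1)) := hK.1 (σ.symm 0) (σ.symm 1)
    rw [Fin.ext_iff, Fin.ext_iff, ← hσ, ← hσ, ← hσ, ← hσ, ← hc, ← hc, c.apply_symm_apply, σ.apply_symm_apply,
      σ.apply_symm_apply] at h1
    revert h1
    decide
  have := hco.2 _ hlt
  rw [Subgroup.subgroupOf_eq_top] at this
  have hA : c.symm (Equiv.swap (0 : Fin 8) 1 * Equiv.swap 1 2) ∈ alternatingGroup Ω := by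
    rw [Equiv.Perm.mem_alternatingGroup, ← hcs, c.apply_symm_apply, hbs]
  have h2 : c (c.symm (Equiv.swap (0 : Fin 8) 1 * Equiv.swap 1 2)) ∈ CfsgLib.Perm.Small.PairsEight.affine := (this hA).1
  rw [c.apply_symm_apply] at h2
  exact hb h2

end Cfsg.Agent.S5910
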