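import Cfsg.Statements.S5912
-- import your own Cfsg.Agent.* helpers here
import Mathlib
import Cfsg.Agent.Lib.Perm.Groups.SymAut

set_option autoImplicit false
set_option linter.all false
open Cfsg

namespace Cfsg.Agent.S5912

/-- The symmetric group on a 6-element set Ω has exactly two conjugacy classes of subgroups of index 6: there are two non-conjugate subgroups of index 6 (a point stabilizer and a transitive subgroup isomorphic to S₅), and every subgroup of index 6 is conjugate to one of them. -/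
theorem result {Ω : Type*} [Fintype Ω] [DecidableEq Ω] (h6 : Fintype.card Ω = 6) :
    ∃ H₁ H₂ : Subgroup (Equiv.Perm Ω), H₁.index = 6 ∧ H₂.index = 6 ∧
      (¬ ∃ g : Equiv.Perm Ω, Subgroup.map (MulAut.conj g).toMonoidHom H₁ = H₂) ∧
      ∀ H : Subgroup (Equiv.Perm Ω), H.index = 6 →
        ∃ g : Equiv.Perm Ω, Subgroup.map (MulAut.conj g).toMonoidHom H₁ = H ∨ Subgroup.map (MulAut.conj g).toMonoidHom H₂ = H := by
  classical
  obtain ⟨φ, hφ, hall⟩ := CfsgLib.Perm.Groups.SymAut.classify_six h6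
  obtain ⟨a⟩ : Nonempty Ω := Fintype.card_pos_iff.1 (by omega)
  refine ⟨MulAction.stabilizer (Equiv.Perm Ω) a, (MulAction.stabilizer (Equiv.Perm Ω) a).comap φ.toMonoidHom,
    (CfsgLib.Perm.Groups.SymAut.card_stab a).trans h6, ?_, ?_, fun H hH => ?_⟩
  · rw [Subgroup.index_comap_of_surjective _ φ.surjective]
    exact (CfsgLib.Perm.Groups.SymAut.card_stab a).trans h6
  · rintro ⟨g, hg⟩
    rw [CfsgLib.Perm.Groups.SymAut.stab_conj] at hg
    exact hφ _ _ hg.symm
  · obtain ⟨x, rfl | rfl⟩ := hall H hH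
    · exact ⟨Equiv.swap a x, Or.inl (by rw [CfsgLib.Perm.Groups.SymAut.stab_conj, Equiv.swap_apply_left])⟩
    · exact ⟨φ.symm (Equiv.swap a x), Or.inr (by
        rw [CfsgLib.Perm.Groups.SymAut.comap_conj, CfsgLib.Perm.Groups.SymAut.stab_conj, Equiv.swap_apply_left])⟩

end Cfsg.Agent.S5912
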