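import Cfsg.Statements.S5913
-- import your own Cfsg.Agent.* helpers here

set_option autoImplicit false
open Cfsg

namespace Cfsg.Agent.S5913

/-- Let S be a non-abelian simple group and n a natural number. Every normal subgroup N of the direct power S^n (functions Fin n → S) is a subproduct: there is a set T of coordinates such that N consists exactly of the elements whose coordinates outside T are trivial. In particular the minimal normal subgroups of S^n are its n factors. -/
theorem result {S : Type*} [Group S] [IsSimpleGroup S] (hS : ¬ IsMulCommutative S) (n : ℕ)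
    (N : Subgroup (Fin n → S)) [N.Normal] :
    ∃ T : Finset (Fin n), ∀ x : Fin n → S, x ∈ N ↔ ∀ i, i ∉ T → x i = 1 := by
  classical
  refine ⟨Finset.univ.filter fun i => ∃ x ∈ N, x i ≠ 1, fun x => ⟨fun hx i hi => ?_, fun hx => ?_⟩⟩
  · by_contra h
    exact hi (Finset.mem_filter.2 ⟨Finset.mem_univ i, x, hx, h⟩)
  have key : ∀ i : Fin n, ∀ y ∈ N, y i ≠ 1 → ∀ s : S, Pi.mulSingle i s ∈ N := by
    intro i y hy hyi
    obtain ⟨t, ht⟩ : ∃ t : S, t * y i ≠ y i * t := by
      by_contra hcon
      push Not at hcon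
      have hmem : y i ∈ Subgroup.center S := Subgroup.mem_center_iff.2 hcon
      rcases (inferInstance : (Subgroup.center S).Normal).eq_bot_or_eq_top with h | h
      · exact hyi ((Subgroup.mem_bot).1 (h ▸ hmem))
      · exact hS ⟨⟨fun a b => Subgroup.mem_center_iff.1 (h ▸ Subgroup.mem_top b : b ∈ Subgroup.center S) a⟩⟩
    let J : Subgroup S := N.comap (MonoidHom.mulSingle (fun _ : Fin n => S) i)
    have hJ : J.Normal := ⟨fun a ha c => by
      show Pi.mulSingle i (c * a * c⁻¹) ∈ N
      rw [Pi.mulSingle_mul, Pi.mulSingle_mul, Pi.mulSingle_inv]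
      exact Subgroup.Normal.conj_mem ‹N.Normal› _ ha _⟩
    have hcom : Pi.mulSingle i t * y * (Pi.mulSingle i t)⁻¹ * y⁻¹ = Pi.mulSingle i (t * y i * t⁻¹ * (y i)⁻¹) := by
      funext j
      rcases eq_or_ne j i with rfl | hj
      · simp
      · simp [hj]
    have hcJ : t * y i * t⁻¹ * (y i)⁻¹ ∈ J := by
      show Pi.mulSingle i _ ∈ N
      rw [← hcom]
      exact N.mul_mem (Subgroup.Normal.conj_mem ‹N.Normal› _ hy _) (N.inv_mem hy)
    rcases hJ.eq_bot_or_eq_top with h | h
    · rw [h, Subgroup.mem_bot, mul_inv_eq_one, mul_inv_eq_iff_eq_mul] at hcJ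
      exact absurd hcJ ht
    · intro s
      exact (h ▸ Subgroup.mem_top s : s ∈ J)
  rw [← Finset.noncommProd_mulSingle x]
  refine N.noncommProd_mem _ fun i _ => ?_
  by_cases hi : ∃ y ∈ N, y i ≠ 1
  · obtain ⟨y, hy, hyi⟩ := hi
    exact key i y hy hyi (x i)
  · rw [hx i (fun h => hi (Finset.mem_filter.1 h).2), Pi.mulSingle_one]
    exact N.one_mem

end Cfsg.Agent.S5913
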