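import Cfsg.Statements.S5914
import Mathlib
import Cfsg.Agent.Lib.Perm.Groups.PowerSimple
import Cfsg.Agent.S5913
-- import your own Cfsg.Agent.* helpers here

set_option autoImplicit false
open Cfsg

namespace Cfsg.Agent.S5914

/-- A non-trivial finite group G is characteristically simple (its only characteristic subgroups are 1 and G) if and only if G is isomorphic to a direct power S^n (n ≥ 1) of some simple group S (possibly cyclic of prime order). -/
theorem result {G : Type*} [Group G] [Finite G] [Nontrivial G] :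
    (∀ H : Subgroup G, H.Characteristic → H = ⊥ ∨ H = ⊤) ↔
    ∃ (S : Type) (_ : Group S) (_ : IsSimpleGroup S) (n : ℕ), 1 ≤ n ∧ Nonempty (G ≃* (Fin n → S)) := by
  classical
  refine ⟨CfsgLib.Perm.Groups.exists_power_of_charSimple, ?_⟩
  rintro ⟨S, iS, hS, n, hn, ⟨e⟩⟩ H hH
  rcases eq_or_ne H ⊥ with hb | hb
  · exact Or.inl hb
  right
  haveI : Finite (Fin n → S) := Finite.of_equiv G e.toEquiv
  have hKchar : (H.map e.toMonoidHom).Characteristic := by
    refine Subgroup.characteristic_iff_map_le.2 fun φ => ?_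
    rintro _ ⟨x, ⟨h, hh, rfl⟩, rfl⟩
    refine ⟨(e.trans (φ.trans e.symm)) h, ?_, e.apply_symm_apply _⟩
    exact (Subgroup.characteristic_iff_map_le.1 hH) (e.trans (φ.trans e.symm)) ⟨h, hh, rfl⟩
  obtain ⟨K, hK⟩ : ∃ K, K = H.map e.toMonoidHom := ⟨_, rfl⟩
  rw [← hK] at hKchar
  suffices hKtop : K = ⊤ by
    refine Subgroup.map_injective (f := e.toMonoidHom) e.injective ?_
    rw [← hK, hKtop, Subgroup.map_top_of_surjective _ e.surjective]
  have hperm : ∀ (σ : Equiv.Perm (Fin n)) (x : Fin n → S), x ∈ K → (fun j => x (σ j)) ∈ K := by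
    intro σ x hx
    let φ : (Fin n → S) ≃* (Fin n → S) :=
      { toFun := fun y j => y (σ j)
        invFun := fun y j => y (σ.symm j)
        left_inv := fun y => funext fun j => by simp
        right_inv := fun y => funext fun j => by simp
        map_mul' := fun y z => rfl }
    exact (Subgroup.characteristic_iff_map_le.1 hKchar) φ ⟨x, hx, rfl⟩
  obtain ⟨x, hxK, hx⟩ : ∃ x ∈ K, x ≠ 1 := by
    by_contra hcon
    push Not at hcon
    refine hb ((Subgroup.map_eq_bot_iff_of_injective H e.injective (f := e.toMonoidHom)).1 ?_)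
    rw [← hK]
    exact (Subgroup.eq_bot_iff_forall _).2 hcon
  obtain ⟨i, hi⟩ : ∃ i, x i ≠ 1 := by
    by_contra hcon
    push Not at hcon
    exact hx (funext hcon)
  suffices hall : ∀ j s, Pi.mulSingle j s ∈ K by
    refine eq_top_iff.2 fun y _ => ?_
    rw [← Finset.noncommProd_mulSingle y]
    exact K.noncommProd_mem _ fun j _ => hall j (y j)
  by_cases hc : IsMulCommutative S
  · obtain ⟨hc⟩ := hc
    haveI : Finite S := Finite.of_injective (fun s => (fun _ => s : Fin n → S))
      fun a b h => congrFun h ⟨0, hn⟩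
    have hgen : ∀ (a : S), a ≠ 1 → ∀ b : S, ∃ k : ℕ, a ^ k = b := by
      intro a ha b
      have hnorm : (Subgroup.zpowers a).Normal := ⟨fun u hu g => by
        rwa [hc.comm g u, mul_inv_cancel_right]⟩
      rcases hnorm.eq_bot_or_eq_top with h | h
      · exact absurd (Subgroup.zpowers_eq_bot.1 h) ha
      · obtain ⟨k, hk⟩ := mem_powers_iff_mem_zpowers.2 (h ▸ Subgroup.mem_top b)
        exact ⟨k, hk⟩
    have key : ∀ j, j ≠ i → ∀ s, Pi.mulSingle j s ∈ K := by
      intro j hj s
      obtain ⟨k, hk⟩ := hgen _ hi s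
      let φ : (Fin n → S) ≃* (Fin n → S) :=
        { toFun := fun y => y * Pi.mulSingle j (y i ^ k)
          invFun := fun y => y * Pi.mulSingle j ((y i ^ k)⁻¹)
          left_inv := fun y => by
            show y * Pi.mulSingle j (y i ^ k) * Pi.mulSingle j (((y * Pi.mulSingle j (y i ^ k) : Fin n → S) i ^ k)⁻¹) = y
            rw [Pi.mul_apply, Pi.mulSingle_eq_of_ne hj.symm, mul_one, mul_assoc, ← Pi.mulSingle_mul,
              mul_inv_cancel, Pi.mulSingle_one, mul_one]
          right_inv := fun y => by
            show y * Pi.mulSingle j ((y i ^ k)⁻¹) * Pi.mulSingle j ((y * Pi.mulSingle j ((y i ^ k)⁻¹) : Fin n → S) i ^ k) = y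
            rw [Pi.mul_apply, Pi.mulSingle_eq_of_ne hj.symm, mul_one, mul_assoc, ← Pi.mulSingle_mul,
              inv_mul_cancel, Pi.mulSingle_one, mul_one]
          map_mul' := fun y z => by
            funext l
            show (y * z) l * (Pi.mulSingle j ((y * z) i ^ k) : Fin n → S) l =
              (y l * (Pi.mulSingle j (y i ^ k) : Fin n → S) l) * (z l * (Pi.mulSingle j (z i ^ k) : Fin n → S) l)
            rcases eq_or_ne l j with rfl | hl
            · rw [Pi.mulSingle_eq_same, Pi.mulSingle_eq_same, Pi.mulSingle_eq_same, Pi.mul_apply, Pi.mul_apply,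
                (show Commute (y i) (z i) from hc.comm _ _).mul_pow]
              rw [mul_assoc (y l), mul_assoc (y l), ← mul_assoc (z l), hc.comm (z l), mul_assoc]
            · simp [Pi.mulSingle_eq_of_ne hl] }
      have h1 : φ x ∈ K := (Subgroup.characteristic_iff_map_le.1 hKchar) φ ⟨x, hxK, rfl⟩
      have h2 := K.mul_mem (K.inv_mem hxK) h1
      rw [show φ x = x * Pi.mulSingle j (x i ^ k) from rfl, inv_mul_cancel_left, hk] at h2
      exact h2
    intro j s
    by_cases hn1 : ∃ l, l ≠ i
    · obtain ⟨l, hl⟩ := hn1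
      rcases eq_or_ne j i with rfl | hj
      · have h1 := hperm (Equiv.swap j l) _ (key l hl s)
        convert h1 using 1
        funext t
        rcases eq_or_ne t j with rfl | htj
        · simp
        · rcases eq_or_ne t l with rfl | htl
          · rw [Pi.mulSingle_eq_of_ne htj]
            simp [Pi.mulSingle_eq_of_ne hl.symm]
          · rw [Pi.mulSingle_eq_of_ne htj, Equiv.swap_apply_of_ne_of_ne htj htl, Pi.mulSingle_eq_of_ne htl]
      · exact key j hj s
    · push Not at hn1
      obtain ⟨k, hk⟩ := hgen _ hi s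
      have : (x ^ k : Fin n → S) = Pi.mulSingle j s := funext fun t => by
        rw [hn1 t, hn1 j, Pi.pow_apply, Pi.mulSingle_eq_same, hk]
      exact this ▸ K.pow_mem hxK k
  · haveI : K.Normal := inferInstance
    obtain ⟨T, hT⟩ := Cfsg.Agent.S5913.result hc n K
    have hiT : i ∈ T := by
      by_contra h
      exact hi ((hT x).1 hxK i h)
    intro j s
    refine (hT _).2 fun l hl => ?_
    rcases eq_or_ne l j with rfl | hne
    · exfalso
      have h1 : Pi.mulSingle i (x i) ∈ K := (hT _).2 fun t ht => Pi.mulSingle_eq_of_ne (show t ≠ i from fun h => ht (by rw [h]; exact hiT)) _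
      have h2 := (hT _).1 (hperm (Equiv.swap l i) _ h1) l hl
      rw [Equiv.swap_apply_left, Pi.mulSingle_eq_same] at h2
      exact hi h2
    · exact Pi.mulSingle_eq_of_ne hne _

end Cfsg.Agent.S5914
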