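import Cfsg.Statements.S5938
-- import your own Cfsg.Agent.* helpers here
import Mathlib
import Cfsg.Agent.Lib.Perm.Dickson.ExcMax

set_option autoImplicit false
set_option linter.all false
open Cfsg

namespace Cfsg.Agent.S5938

open CfsgLib.Perm.Dickson

/-- Let p be a prime with p ≡ ±1 (mod 8) and F a field with p elements. Then PSL_2(F) has a maximal subgroup isomorphic to the symmetric group S_4. -/
theorem result {F : Type*} [Field F] [Fintype F] (p : ℕ) [Fact p.Prime] (hF : Fintype.card F = p) (hp : p % 8 = 1 ∨ p % 8 = 7) : ∃ H : Subgroup (Matrix.ProjectiveSpecialLinearGroup (Fin 2) F), IsCoatom H ∧ Nonempty (H ≃* Equiv.Perm (Fin 4)) := by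
  classical
  haveI := finite_G2 (F := F)
  have hF' : Nat.card F = p := by rw [Nat.card_eq_fintype_card, hF]
  haveI : CharP F p := charP_of_card_eq_prime hF
  have hp' : p.Prime := Fact.out
  have ho : Odd (Nat.card F) := by rw [hF']; exact Nat.odd_iff.2 (by omega)
  have h7 : 7 ≤ p := by have := hp'.two_le; omega
  obtain ⟨Q⟩ := exists_qpar (two_ne_zero_of_odd ho)
  have hle : Q.N ≤ psl F := Q.N_inf_psl_of_sq (two_is_square_iff.2 (by rw [hF']; omega))
  have hbig : 24 < Nat.card (psl F) := by
    have h := card_psl F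
    rw [gcd_odd ho, hF'] at h
    have := Nat.mul_le_mul (show 7 ≤ p from h7) (Nat.mul_le_mul (show 6 ≤ p - 1 by omega) (show 8 ≤ p + 1 by omega))
    omega
  refine exists_coatom (lt_of_le_of_ne hle fun e => ?_) (fun M hM hlt => ?_) Q.N_s4
  · rw [← e, Q.card_N] at hbig; omega
  have hd := Subgroup.card_dvd_of_le hM
  rw [Q.card_N] at hd
  rcases exc_overgroup p (IsExc.of_equiv Q.N_s4.some isExc_s4) (by omega) hM hlt with h | h | h | ⟨σ, F1, hne, -⟩
  · omega
  · exact (Subgroup.eq_of_le_of_card_ge hM (by rw [h, Q.card_N])).ge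
  · omega
  · exact absurd (subfield_card_eq_of_prime (hF'.symm ▸ hp') F1) hne

end Cfsg.Agent.S5938
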