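import Cfsg.Statements.S5939
-- import your own Cfsg.Agent.* helpers here
import Mathlib
import Cfsg.Agent.Lib.Perm.Dickson.ExcMax

set_option autoImplicit false
set_option linter.all false
open Cfsg

namespace Cfsg.Agent.S5939

open CfsgLib.Perm.Dickson

/-- Let p be a prime and F a finite field of characteristic p such that either F has p elements and p ≡ ±1 (mod 10), or F has p² elements and p ≡ ±3 (mod 10). Then PSL_2(F) has a maximal subgroup isomorphic to the alternating group A_5. -/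
theorem result {F : Type*} [Field F] [Fintype F] (p : ℕ) [Fact p.Prime] [CharP F p] (h : (Fintype.card F = p ∧ (p % 10 = 1 ∨ p % 10 = 9)) ∨ (Fintype.card F = p ^ 2 ∧ (p % 10 = 3 ∨ p % 10 = 7))) : ∃ H : Subgroup (Matrix.ProjectiveSpecialLinearGroup (Fin 2) F), IsCoatom H ∧ Nonempty (H ≃* alternatingGroup (Fin 5)) := by
  classical
  haveI := finite_G2 (F := F)
  have hp' : p.Prime := Fact.out
  obtain ⟨k, hk, hq⟩ : ∃ k, (k = 1 ∧ (p % 10 = 1 ∨ p % 10 = 9) ∨ k = 2 ∧ (p % 10 = 3 ∨ p % 10 = 7)) ∧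
      Nat.card F = p ^ k := by
    rcases h with ⟨h1, h2⟩ | ⟨h1, h2⟩
    · exact ⟨1, Or.inl ⟨rfl, h2⟩, by rw [Nat.card_eq_fintype_card, h1, pow_one]⟩
    · exact ⟨2, Or.inr ⟨rfl, h2⟩, by rw [Nat.card_eq_fintype_card, h1]⟩
  have hq9 : 9 ≤ Nat.card F ∧ (Nat.card F % 5 = 1 ∨ Nat.card F % 5 = 4) := by
    have := hp'.two_le
    rw [hq]
    rcases hk with ⟨rfl, h2⟩ | ⟨rfl, h2⟩
    · rw [pow_one]; omega
    · have : p % 5 = 2 ∨ p % 5 = 3 := by omega
      refine ⟨?_, ?_⟩
      · have := Nat.mul_le_mul (show 3 ≤ p by omega) (show 3 ≤ p by omega)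
        rw [pow_two]; omega
      · rw [Nat.pow_mod]
        rcases this with e | e <;> rw [e] <;> omega
  have ho : Odd (Nat.card F) := by
    rw [hq]; exact (Nat.odd_iff.2 (by rcases hk with ⟨-, h2⟩ | ⟨-, h2⟩ <;> omega)).pow
  have hc := card_psl F
  rw [gcd_odd ho] at hc
  have h5 : 5 ∣ Nat.card (psl F) := by
    have : 5 ∣ 2 * Nat.card (psl F) := by
      rw [hc]
      rcases hq9.2 with e | e
      · exact Dvd.dvd.mul_left (Dvd.dvd.mul_right (by omega) _) _
      · exact Dvd.dvd.mul_left (Dvd.dvd.mul_left (by omega) _) _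
    exact ((by norm_num : Nat.Coprime 5 2)).dvd_of_dvd_mul_left this
  obtain ⟨τ, hτ⟩ := exists_tau_of_dvd p h5
  obtain ⟨Q⟩ := exists_qpar (two_ne_zero_of_odd ho)
  obtain ⟨e⟩ := Q.icosa_a5 hτ
  have hH : Nat.card (Q.icosa hτ) = 60 := by
    rw [Nat.card_congr e.toEquiv, Nat.card_eq_fintype_card]; rfl
  refine exists_coatom (lt_of_le_of_ne (Q.icosa_le_psl hτ) fun e => ?_) (fun M hM hlt => ?_) ⟨e⟩
  · rw [← e, hH] at hc
    have := Nat.mul_le_mul hq9.1 (Nat.mul_le_mul (show 8 ≤ Nat.card F - 1 by omega) (show 10 ≤ Nat.card F + 1 by omega))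
    omega
  have hd := Subgroup.card_dvd_of_le hM
  rw [hH] at hd
  rcases exc_overgroup p (IsExc.of_equiv e isExc_a5) (by rcases hk with ⟨-, h2⟩ | ⟨-, h2⟩ <;> omega) hM hlt with
    h | h | h | ⟨σ, F1, hne, hle⟩
  · omega
  · omega
  · exact (Subgroup.eq_of_le_of_card_ge hM (by rw [h, hH])).ge
  · exfalso
    obtain ⟨m, hm, hpow⟩ := exists_card_pow F1
    have hdp : Nat.card F1 ∣ p ^ k := by rw [← hq, ← hpow]; exact dvd_pow_self _ (by omega)
    obtain ⟨i, hi, hFi⟩ := (Nat.dvd_prime_pow hp').1 hdp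
    have h2 := two_le_card_subfield F1
    have hi0 : i ≠ 0 := by rintro rfl; rw [pow_zero] at hFi; omega
    have hik : i ≠ k := by rintro rfl; exact hne (hFi.trans hq.symm)
    rcases hk with ⟨rfl, -⟩ | ⟨rfl, h2⟩
    · omega
    obtain rfl : i = 1 := by omega
    rw [pow_one] at hFi
    have hM5 : 5 ∣ Nat.card (pglSub F1) := (dvd_trans (by norm_num : 5 ∣ 60) hd).trans
      (by rw [← card_conjG (G := M) σ]; exact Subgroup.card_dvd_of_le hle)
    rw [card_pglSub, hFi] at hM5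
    have h10 : p % 5 = 2 ∨ p % 5 = 3 := by omega
    rcases (Nat.Prime.dvd_mul (by norm_num : Nat.Prime 5)).1 hM5 with h | h
    · rcases (Nat.Prime.dvd_mul (by norm_num : Nat.Prime 5)).1 h with h | h <;> omega
    · omega

end Cfsg.Agent.S5939
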