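import Cfsg.Statements.S5940
-- import your own Cfsg.Agent.* helpers here
import Mathlib
import Cfsg.Agent.Lib.Perm.Dickson.ExcMax

set_option autoImplicit false
set_option linter.all false
open Cfsg

namespace Cfsg.Agent.S5940

open CfsgLib.Perm.Dickson

/-- Let p ≥ 5 be a prime with p ≡ ±3 (mod 8) and p ≢ ±1 (mod 10), and F a field with p elements. Then PSL_2(F) has a maximal subgroup isomorphic to the alternating group A_4. -/
theorem result {F : Type*} [Field F] [Fintype F] (p : ℕ) [Fact p.Prime] (hF : Fintype.card F = p) (h5 : 5 ≤ p) (h8 : p % 8 = 3 ∨ p % 8 = 5) (h10 : p % 10 ≠ 1 ∧ p % 10 ≠ 9) : ∃ H : Subgroup (Matrix.ProjectiveSpecialLinearGroup (Fin 2) F), IsCoatom H ∧ Nonempty (H ≃* alternatingGroup (Fin 4)) := by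
  classical
  haveI := finite_G2 (F := F)
  have hF' : Nat.card F = p := by rw [Nat.card_eq_fintype_card, hF]
  haveI : CharP F p := charP_of_card_eq_prime hF
  have hp' : p.Prime := Fact.out
  have ho : Odd (Nat.card F) := by rw [hF']; exact Nat.odd_iff.2 (by omega)
  obtain ⟨Q⟩ := exists_qpar (two_ne_zero_of_odd ho)
  have hns : ¬ IsSquare (2 : F) := by rw [two_is_square_iff, hF']; omega
  obtain ⟨e⟩ := Q.N_psl_a4 hns
  have hH := Q.card_N_psl hns
  have hc := card_psl F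
  rw [gcd_odd ho, hF'] at hc
  have h5' : 5 ≤ p ∧ 120 ≤ 2 * Nat.card (psl F) := by
    have := Nat.mul_le_mul (show 5 ≤ p from h5) (Nat.mul_le_mul (show 4 ≤ p - 1 by omega) (show 6 ≤ p + 1 by omega))
    omega
  refine exists_coatom (lt_of_le_of_ne inf_le_right fun e => ?_) (fun M hM hlt => ?_) ⟨e⟩
  · rw [e] at hH; omega
  have hd := Subgroup.card_dvd_of_le hlt.le
  rcases exc_overgroup p (IsExc.of_equiv e isExc_a4) (by omega) hM hlt with h | h | h | ⟨σ, F1, hne, -⟩
  · exact (Subgroup.eq_of_le_of_card_ge hM (by rw [h, hH])).ge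
  · exfalso
    rw [h] at hd
    have h16 : 16 ∣ p * ((p - 1) * (p + 1)) := hc ▸ (dvd_trans (by norm_num : 16 ∣ 2 * 24) (Nat.mul_dvd_mul_left 2 hd))
    obtain ⟨r, hr, hr'⟩ : ∃ r, (r = 3 ∨ r = 5 ∨ r = 11 ∨ r = 13) ∧ p % 16 = r := ⟨p % 16, by omega, rfl⟩
    rw [Nat.dvd_iff_mod_eq_zero, Nat.mul_mod, Nat.mul_mod (p - 1), hr',
      show (p - 1) % 16 = r - 1 by omega, show (p + 1) % 16 = (r + 1) % 16 by omega] at h16
    rcases hr with rfl | rfl | rfl | rfl <;> omega
  · exfalso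
    rw [h] at hd
    have h16 : 5 ∣ p * ((p - 1) * (p + 1)) :=
      hc ▸ (dvd_trans (by norm_num : 5 ∣ 2 * 60) (Nat.mul_dvd_mul_left 2 hd))
    rcases (Nat.Prime.dvd_mul (by norm_num : Nat.Prime 5)).1 h16 with h5 | h5
    · obtain rfl : p = 5 := ((Nat.prime_dvd_prime_iff_eq (by norm_num) hp').1 h5).symm
      exact hlt.ne (Subgroup.eq_of_le_of_card_ge hlt.le (by rw [h]; omega))
    · rcases (Nat.Prime.dvd_mul (by norm_num : Nat.Prime 5)).1 h5 with h | h <;> omega
  · exact absurd (subfield_card_eq_of_prime (hF'.symm ▸ hp') F1) hne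

end Cfsg.Agent.S5940
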