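import Cfsg.Statements.S5941
-- import your own Cfsg.Agent.* helpers here
import Mathlib
import Cfsg.Agent.Lib.Perm.Dickson.SubfieldMax

set_option autoImplicit false
set_option linter.all false
open Cfsg

namespace Cfsg.Agent.S5941

open CfsgLib.Perm.Dickson

/-- Let K and F be finite fields of odd characteristic with #F = (#K)². Then PSL_2(F) has a maximal subgroup isomorphic to PGL_2(K). -/
theorem result {F K : Type*} [Field F] [Fintype F] [Field K] [Fintype K] (q : ℕ) (hK : Fintype.card K = q) (hF : Fintype.card F = q ^ 2) (hq : Odd q) : ∃ H : Subgroup (Matrix.ProjectiveSpecialLinearGroup (Fin 2) F), IsCoatom H ∧ Nonempty (H ≃* Matrix.ProjGenLinGroup (Fin 2) K) := by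
  classical
  haveI := finite_G2 (F := F)
  obtain ⟨p, hpc⟩ := CharP.exists F
  haveI : Fact p.Prime := ⟨CharP.char_is_prime F p⟩
  have hK' : Nat.card K = q := by rw [Nat.card_eq_fintype_card, hK]
  have hF' : Nat.card F = q ^ 2 := by rw [Nat.card_eq_fintype_card, hF]
  obtain ⟨F1, ⟨e⟩⟩ := exists_subfield_ringEquiv (F := F) (K := K) p (m := 2) (by norm_num) (by rw [hK', hF'])
  have hc : Nat.card F1 = q := by rw [Nat.card_congr e.toEquiv, hK']
  have ho : Odd (Nat.card F) := by rw [hF']; exact hq.pow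
  have hle : pglSub F1 ≤ psl F := pglSub_le_psl F1 (m := 2) (by rw [hc, hF']) (Or.inl even_two)
  refine exists_coatom (lt_of_le_of_ne hle fun he => ?_) (pgl_square_max p (by rw [hc, hF']; ring) ho)
    ⟨pglSubEquiv F1 e⟩
  have h1 := card_pglSub F1
  have h2 := card_psl F
  rw [he, hc] at h1
  rw [gcd_odd ho, h1, hF'] at h2
  have h3 : 3 ≤ q := by
    obtain ⟨t, ht⟩ := hq
    have := card_pos_lt (F := F1)
    omega
  obtain ⟨a, rfl⟩ : ∃ a, q = a + 1 := ⟨q - 1, by omega⟩
  have e3 : (a + 1) ^ 2 - 1 = a * (a + 2) := by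
    rw [show (a + 1) ^ 2 = a * (a + 2) + 1 by ring, Nat.add_sub_cancel]
  rw [e3, Nat.add_sub_cancel] at h2
  have e4 : ((a + 1) * a * (a + 2)) * 2 = ((a + 1) * a * (a + 2)) * ((a + 1) * ((a + 1) ^ 2 + 1)) := by
    linarith [h2]
  have h5 := Nat.eq_of_mul_eq_mul_left (Nat.mul_pos (Nat.mul_pos (by omega) (by omega)) (by omega)) e4
  nlinarith

end Cfsg.Agent.S5941
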