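import Cfsg.Statements.S5943
-- import your own Cfsg.Agent.* helpers here
import Mathlib
import Cfsg.Agent.Lib.Perm.Dickson.SubfieldMax

set_option autoImplicit false
set_option linter.all false
open Cfsg

namespace Cfsg.Agent.S5943

open CfsgLib.Perm.Dickson

/-- Let K and F be finite fields of characteristic 2 with #K = q > 2 and #F = q^r for a prime r. Then PSL_2(F) has a maximal subgroup isomorphic to PSL_2(K) (which equals PGL_2(K) in characteristic 2). -/
theorem result {F K : Type*} [Field F] [Fintype F] [Field K] [Fintype K] (q r : ℕ) (hK : Fintype.card K = q) (hF : Fintype.card F = q ^ r) (hq : Even q) (hq2 : q ≠ 2) (hr : r.Prime) : ∃ H : Subgroup (Matrix.ProjectiveSpecialLinearGroup (Fin 2) F), IsCoatom H ∧ Nonempty (H ≃* Matrix.ProjectiveSpecialLinearGroup (Fin 2) K) := by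
  classical
  haveI := finite_G2 (F := F)
  obtain ⟨p, hpc⟩ := CharP.exists F
  haveI : Fact p.Prime := ⟨CharP.char_is_prime F p⟩
  have hK' : Nat.card K = q := by rw [Nat.card_eq_fintype_card, hK]
  have hF' : Nat.card F = q ^ r := by rw [Nat.card_eq_fintype_card, hF]
  obtain ⟨F1, ⟨e⟩⟩ := exists_subfield_ringEquiv (F := F) (K := K) p (m := r) hr.one_le (by rw [hK', hF'])
  have hc : Nat.card F1 = q := by rw [Nat.card_congr e.toEquiv, hK']
  refine exists_coatom (lt_of_le_of_ne (pslSub_le_psl F1) fun he => ?_) (psl_prime_max p hr (by rw [hc, hF']) ?_)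
    ⟨pslSubEquiv F1 e⟩
  · -- too small
    have h1 := card_pslSub F1
    rw [card_pglSub, hc, he] at h1
    have h2 := card_psl F
    rw [hF'] at h2
    have hq2 : 2 ≤ q := hc ▸ two_le_card_subfield F1
    have hqr : q < q ^ r := by
      calc q = q ^ 1 := (pow_one q).symm
        _ < q ^ r := Nat.pow_lt_pow_right (by omega) hr.one_lt
    have hP := Nat.card_pos (α := psl F)
    have hd1 : Nat.gcd 2 (q - 1) = Nat.gcd 2 (q ^ r - 1) := by
      rcases Nat.even_or_odd q with he' | ho'
      · have a1 := gcd_even (F := F1) (by rw [hc]; exact he')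
        have a2 := gcd_even (F := F) (by rw [hF']; exact Nat.even_pow.2 ⟨he', hr.ne_zero⟩)
        rw [hc] at a1; rw [hF'] at a2; omega
      · have a1 := gcd_odd (F := F1) (by rw [hc]; exact ho')
        have a2 := gcd_odd (F := F) (by rw [hF']; exact ho'.pow)
        rw [hc] at a1; rw [hF'] at a2; omega
    rw [hd1, h2] at h1
    have : q * (q - 1) * (q + 1) < q ^ r * ((q ^ r - 1) * (q ^ r + 1)) := by
      rw [mul_assoc]
      exact Nat.mul_lt_mul'' hqr (Nat.mul_lt_mul'' (by omega) (by omega))
    omega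
  · refine Or.inr ⟨by rw [hF']; exact Nat.even_pow.2 ⟨hq, hr.ne_zero⟩, ?_⟩
    have := two_le_card_subfield F1
    obtain ⟨t, ht⟩ := hq
    omega

end Cfsg.Agent.S5943
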