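import Cfsg.Statements.S5946
-- import your own Cfsg.Agent.* helpers here

set_option autoImplicit false
open Cfsg

namespace Cfsg.Agent.S5946

/-- Let F ⊆ K be finite fields with [K : F] = n ≥ 2 and regard K as an n-dimensional F-vector space. The Singer group M ≤ GL_F(K) of multiplications by the non-zero elements of K is self-centralizing: every F-linear automorphism of K commuting with all of M lies in M. -/
theorem result {F K : Type*} [Field F] [Fintype F] [Field K] [Fintype K] [Algebra F K] (n : ℕ) (hn : 2 ≤ n) (hdim : Module.finrank F K = n) :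
    Subgroup.centralizer (((Units.map ((Algebra.lmul F K : K →ₐ[F] Module.End F K) : K →* Module.End F K)).range : Subgroup (Module.End F K)ˣ) : Set (Module.End F K)ˣ) = (Units.map ((Algebra.lmul F K : K →ₐ[F] Module.End F K) : K →* Module.End F K)).range := by
  refine le_antisymm (fun g hg => ?_) ?_
  · rw [Subgroup.mem_centralizer_iff] at hg
    have hall : ∀ x : K, (g : Module.End F K) x = (g : Module.End F K) 1 * x := by
      intro x
      rcases eq_or_ne x 0 with rfl | hx
      · rw [map_zero, mul_zero]
      have h := congrArg (fun f : (Module.End F K)ˣ => (f : Module.End F K) 1) (hg _ ⟨Units.mk0 x hx, rfl⟩)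
      simp at h
      rw [mul_comm] at h
      exact h.symm
    have h1 : (g : Module.End F K) 1 ≠ 0 := by
      intro h
      have h2 : (g : Module.End F K) = 0 := LinearMap.ext fun x => by
        rw [hall, h, zero_mul]; rfl
      exact g.ne_zero h2
    exact ⟨Units.mk0 _ h1, Units.ext (LinearMap.ext fun x => by simp [hall x])⟩
  · rintro g ⟨a, rfl⟩
    rw [Subgroup.mem_centralizer_iff]
    rintro _ ⟨b, rfl⟩
    rw [← map_mul, ← map_mul, mul_comm]

end Cfsg.Agent.S5946
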