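import Cfsg.Statements.S5947
import Mathlib
-- import your own Cfsg.Agent.* helpers here

set_option autoImplicit false
open Cfsg

namespace Cfsg.Agent.S5947

section
variable {F V : Type*} [Field F] [Fintype F] [AddCommGroup V] [Module F V] [Finite V]
  [Nontrivial V]

/-- In a commutative subalgebra all of whose elements satisfy `x ^ Q = x`, some vector has
trivial annihilator. -/
theorem exists_faithful_vector (R : Subalgebra F (Module.End F V)) (Q : ℕ) (hQ : 3 ≤ Q)
    (hcomm : ∀ x ∈ R, ∀ y ∈ R, x * y = y * x) (hpow : ∀ x ∈ R, x ^ Q = x) :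
    ∃ v : V, ∀ x ∈ R, x v = 0 → x = 0 := by
  classical
  haveI : Finite (Module.End F V) := Finite.of_injective _ DFunLike.coe_injective
  let A : V → Set (Module.End F V) := fun v => {x | x ∈ R ∧ x v = 0}
  obtain ⟨v, hv⟩ := Finite.exists_min (fun v : V => (A v).ncard)
  refine ⟨v, fun r hr hrv => ?_⟩
  by_contra hr0
  set e := r ^ (Q - 1) with he
  have heR : e ∈ R := pow_mem hr _
  have hQ' : Q - 1 + (Q - 1) = Q + (Q - 2) := by omega
  have hee : e * e = e := by
    rw [he, ← pow_add, hQ', pow_add, hpow r hr, ← pow_succ']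
    congr 1
    omega
  have her : e * r = r := by
    rw [he, ← pow_succ]
    have : Q - 1 + 1 = Q := by omega
    rw [this, hpow r hr]
  have he0 : e ≠ 0 := by
    intro h
    exact hr0 (by rw [← her, h, zero_mul])
  have hev : e v = 0 := by
    have h2 : e = r ^ (Q - 2) * r := by
      rw [he, ← pow_succ]
      congr 1
      omega
    rw [h2, Module.End.mul_apply, hrv, map_zero]
  obtain ⟨w, hw⟩ : ∃ w, e w ≠ 0 := by
    by_contra! h
    exact he0 (LinearMap.ext h)
  have hsub : A (v + e w) ⊂ A v := by
    refine ⟨fun s hs => ⟨hs.1, ?_⟩, fun hsup => ?_⟩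
    · have hs2 : s v + s (e w) = 0 := by rw [← map_add]; exact hs.2
      have hes : ∀ z, e (s z) = s (e z) := fun z => by
        rw [← Module.End.mul_apply, hcomm e heR s hs.1, Module.End.mul_apply]
      have h3 : s (e w) = 0 := by
        have h := congrArg e hs2
        rw [map_add, hes, hev, map_zero, hes, ← Module.End.mul_apply e e w, hee, map_zero,
          zero_add] at h
        exact h
      rwa [h3, add_zero] at hs2
    · have h := (hsup ⟨heR, hev⟩).2
      rw [map_add, hev, zero_add, ← Module.End.mul_apply e e w, hee] at h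
      exact hw h
  exact absurd (Set.ncard_lt_ncard hsub (Set.toFinite _)) (not_lt.mpr (hv _))

end


/-- Let F ⊆ K be finite fields with |F| = q and [K : F] = n ≥ 2, regard K as an n-dimensional F-vector space, and let M ≤ GL_F(K) be the Singer group of multiplications by non-zero elements of K (cyclic of order q^n − 1). Assume (n, q) ≠ (6, 2), and that it is not the case that n = 2 with q a prime such that q + 1 is a power of 2. Then every abelian subgroup of GL_F(K) of order q^n − 1 is conjugate to M. -/
theorem result {F K : Type*} [Field F] [Fintype F] [Field K] [Fintype K] [Algebra F K] (n : ℕ) (hn : 2 ≤ n) (hdim : Module.finrank F K = n)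
    (hex1 : ¬ (n = 6 ∧ Fintype.card F = 2))
    (hex2 : ¬ (n = 2 ∧ (Fintype.card F).Prime ∧ ∃ a : ℕ, Fintype.card F + 1 = 2 ^ a))
    (U : Subgroup (Module.End F K)ˣ) (hU : IsMulCommutative U) (hcard : Nat.card U = Fintype.card K - 1) :
    ∃ g : (Module.End F K)ˣ, U.map (MulAut.conj g).toMonoidHom = (Units.map ((Algebra.lmul F K : K →ₐ[F] Module.End F K) : K →* Module.End F K)).range := by
  classical
  haveI : Finite K := Finite.of_fintype K
  haveI : Finite (Module.End F K) := Finite.of_injective _ DFunLike.coe_injective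
  obtain ⟨p, hpF⟩ := CharP.exists F
  haveI hp : Fact p.Prime := ⟨CharP.char_is_prime F p⟩
  obtain ⟨m, -, hqm⟩ := FiniteField.card F p
  haveI : CharP (Module.End F K) p :=
    charP_of_injective_algebraMap (algebraMap F (Module.End F K)).injective p
  haveI : ExpChar (Module.End F K) p := ExpChar.prime hp.out
  have hcardK : Fintype.card K = Fintype.card F ^ n := by
    rw [← hdim]; exact Module.card_eq_pow_finrank
  set Q := Fintype.card K with hQdef
  have hQ3 : 3 ≤ Q := by
    have h2 : 2 ≤ Fintype.card F := Fintype.one_lt_card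
    have h4 : 2 ^ n ≤ Fintype.card F ^ n := Nat.pow_le_pow_left h2 n
    have h5 : 2 ^ 2 ≤ 2 ^ n := Nat.pow_le_pow_right (by norm_num) hn
    omega
  let s : Set (Module.End F K) := (fun u : (Module.End F K)ˣ => (u : Module.End F K)) '' (U : Set _)
  let R : Subalgebra F (Module.End F K) := Algebra.adjoin F s
  have hs : ∀ a ∈ s, ∀ b ∈ s, a * b = b * a := by
    rintro _ ⟨a, ha, rfl⟩ _ ⟨b, hb, rfl⟩
    have h := congrArg Subtype.val (hU.is_comm.comm ⟨a, ha⟩ ⟨b, hb⟩)
    exact congrArg Units.val h
  letI : CommRing R := Algebra.adjoinCommRingOfComm F hs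
  have hcomm : ∀ x ∈ R, ∀ y ∈ R, x * y = y * x := fun x hx y hy =>
    congrArg Subtype.val (mul_comm (⟨x, hx⟩ : R) ⟨y, hy⟩)
  have hpow : ∀ x ∈ R, x ^ Q = x := by
    intro x hx
    induction hx using Algebra.adjoin_induction with
    | mem x hx =>
      obtain ⟨u, hu, rfl⟩ := hx
      have h1 : (⟨u, hu⟩ : U) ^ Nat.card U = 1 := pow_card_eq_one'
      have h2 : u ^ (Q - 1) = 1 := by
        rw [← hcard]; exact congrArg Subtype.val h1
      have h3 : u ^ Q = u := by
        have : Q = Q - 1 + 1 := by omega
        rw [this, pow_succ, h2, one_mul]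
      have := congrArg Units.val h3
      simpa using this
    | algebraMap c =>
      rw [← map_pow, hcardK, FiniteField.pow_card_pow]
    | add a b ha hb iha ihb =>
      have hQp : Q = p ^ ((m : ℕ) * n) := by rw [hcardK, hqm, ← pow_mul]
      rw [hQp] at iha ihb ⊢
      rw [add_pow_expChar_pow_of_commute p ((m : ℕ) * n) (hcomm a ha b hb), iha, ihb]
    | mul a b ha hb iha ihb =>
      rw [(show Commute a b from hcomm a ha b hb).mul_pow, iha, ihb]
  obtain ⟨v, hv⟩ := exists_faithful_vector R Q hQ3 hcomm hpow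
  -- evaluation at `v`
  have hUR : ∀ u ∈ U, (u : Module.End F K) ∈ R := fun u hu =>
    Algebra.subset_adjoin ⟨u, hu, rfl⟩
  let L : R →ₗ[F] K :=
    { toFun := fun x => (x : Module.End F K) v
      map_add' := fun x y => rfl
      map_smul' := fun c x => rfl }
  have hLinj : Function.Injective L := by
    intro x y h
    have h1 : (x : Module.End F K) v = (y : Module.End F K) v := h
    apply Subtype.ext
    rw [← sub_eq_zero]
    exact hv _ (sub_mem x.2 y.2) (by rw [LinearMap.sub_apply, h1, sub_self])
  let j : U → {x : R // x ≠ 0} := fun u =>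
    ⟨⟨((u : (Module.End F K)ˣ) : Module.End F K), hUR _ u.2⟩, fun h =>
      Units.ne_zero (u : (Module.End F K)ˣ) (congrArg Subtype.val h)⟩
  have hjinj : Function.Injective j := fun a b h =>
    Subtype.ext (Units.ext (congrArg (fun z : {x : R // x ≠ 0} => ((z.1 : R) : Module.End F K)) h))
  have hRle : Nat.card R ≤ Nat.card K := Nat.card_le_card_of_injective L hLinj
  have hne : Nat.card {x : R // x ≠ 0} = Nat.card R - 1 := by
    letI := Fintype.ofFinite R
    rw [Nat.card_eq_fintype_card, Nat.card_eq_fintype_card, Fintype.card_subtype_compl,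
      Fintype.card_subtype_eq]
  have hle := Nat.card_le_card_of_injective j hjinj
  rw [hne, hcard] at hle
  have hKQ : Nat.card K = Q := Nat.card_eq_fintype_card
  have hRK : Nat.card R = Nat.card K := by omega
  have hjbij : Function.Bijective j :=
    (Nat.bijective_iff_injective_and_card j).2 ⟨hjinj, by rw [hne, hcard]; omega⟩
  have hinv : ∀ x : R, x ≠ 0 → ∃ u ∈ U, (u : Module.End F K) = x := fun x hx => by
    obtain ⟨u, hu⟩ := hjbij.2 ⟨x, hx⟩
    exact ⟨u, u.2, congrArg (fun z : {x : R // x ≠ 0} => ((z.1 : R) : Module.End F K)) hu⟩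
  have hfield : IsField R := by
    refine ⟨⟨0, 1, zero_ne_one⟩, mul_comm, fun {x} hx => ?_⟩
    obtain ⟨u, hu, hux⟩ := hinv x hx
    exact ⟨⟨(↑(u⁻¹) : Module.End F K), hUR _ (inv_mem hu)⟩, Subtype.ext
      (by show (x : Module.End F K) * ↑(u⁻¹) = 1; rw [← hux, Units.mul_inv])⟩
  letI : Field R := hfield.toField
  have hdimR : Module.finrank F R = n := by
    have h1 : Nat.card R = Nat.card F ^ Module.finrank F R := Module.natCard_eq_pow_finrank
    rw [hRK, hKQ, hcardK, Nat.card_eq_fintype_card] at h1
    exact (Nat.pow_right_injective Fintype.one_lt_card h1).symm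
  obtain ⟨φ⟩ : Nonempty (K →ₐ[F] R) :=
    FiniteField.nonempty_algHom_of_finrank_dvd (by rw [hdim, hdimR])
  have hφinj : Function.Injective φ := φ.toRingHom.injective
  let E0 : K →ₗ[F] K := L.comp φ.toLinearMap
  have hE0 : Function.Injective E0 := hLinj.comp hφinj
  let E : K ≃ₗ[F] K := LinearEquiv.ofBijective E0 ⟨hE0, Finite.injective_iff_surjective.mp hE0⟩
  have hE : ∀ a z, ((φ a : R) : Module.End F K) (E z) = E (a * z) := fun a z => by
    show ((φ a : R) : Module.End F K) (((φ z : R) : Module.End F K) v)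
      = ((φ (a * z) : R) : Module.End F K) v
    rw [map_mul]
    rfl
  let g : (Module.End F K)ˣ :=
    ⟨E.symm.toLinearMap, E.toLinearMap, LinearMap.ext fun x => E.symm_apply_apply x,
      LinearMap.ext fun x => E.apply_symm_apply x⟩
  refine ⟨g, ?_⟩
  have key : ∀ (u : (Module.End F K)ˣ) (a : K), (u : Module.End F K) = (φ a : R) →
      ((g * u * g⁻¹ : (Module.End F K)ˣ) : Module.End F K) = Algebra.lmul F K a := by
    intro u a hu
    refine LinearMap.ext fun z => ?_
    show E.symm ((u : Module.End F K) (E z)) = a * z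
    rw [hu, hE, E.symm_apply_apply]
  have hφsurj : Function.Surjective φ :=
    ((Nat.bijective_iff_injective_and_card (φ : K → R)).2 ⟨hφinj, hRK.symm⟩).2
  ext w
  simp only [Subgroup.mem_map, MonoidHom.mem_range]
  constructor
  · rintro ⟨u, hu, rfl⟩
    obtain ⟨a, ha⟩ := hφsurj ⟨u, hUR u hu⟩
    have ha0 : a ≠ 0 := by
      intro h
      rw [h, map_zero] at ha
      exact u.ne_zero (congrArg Subtype.val ha).symm
    refine ⟨Units.mk0 a ha0, Units.ext ?_⟩
    exact (key u a (congrArg Subtype.val ha).symm).symm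
  · rintro ⟨a, rfl⟩
    have hφa : φ (a : K) ≠ 0 := fun h => a.ne_zero (hφinj (by rw [h, map_zero]))
    obtain ⟨u, hu, hux⟩ := hinv _ hφa
    exact ⟨u, hu, Units.ext (key u a hux)⟩

end Cfsg.Agent.S5947
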