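import Cfsg.Statements.S5949
-- import your own Cfsg.Agent.* helpers here
import Mathlib
import Cfsg.Agent.Lib.Perm.Elusive.PrimeOrderLinear

set_option autoImplicit false
set_option linter.all false
open scoped MatrixGroups
open Cfsg

namespace Cfsg.Agent.S5949

/-- Elements of prime order of PSL_n(q) with no fixed `m`-space. Here `T = PSL_n(F)` for a field `F` with `q = p^f` elements (`n ≥ 2`, `(n, q) ≠ (2, 2), (2, 3)`); an element of `T` of prime order `r` is represented by a matrix `x` of determinant 1 with `x^r` scalar and `x` not scalar; `i` denotes the multiplicative order of `q` modulo `r` (when `r ≠ p`), and `(a)_r` the `r`-part of `a`. Let `1 ≤ m ≤ n/2` and let `r` be a prime dividing the number of `m`-dimensional subspaces of `F^n`. Then every element of `T` of order `r` fixes some `m`-dimensional subspace (the action on `m`-spaces is `r`-elusive) if and only if `r ≠ p` and either (i) `i = 1` and (`r ∣ m`, or `(q−1)_r ≥ (n)_r` where in addition `q ≡ 1 (mod 4)` is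 required when `r = 2` and `n` is even), or (ii) `2 ≤ i ≤ m` and `n mod i ≥ m mod i`. -/
theorem result {F : Type*} [Field F] [Fintype F] {p : ℕ} [Fact p.Prime] [CharP F p] {q : ℕ} (hq : Fintype.card F = q)
    (n m : ℕ) (hn : 2 ≤ n) (hT : (n, q) ≠ (2, 2) ∧ (n, q) ≠ (2, 3)) (hm : 1 ≤ m) (hmn : 2 * m ≤ n)
    (r : ℕ) [Fact r.Prime] (hrΩ : r ∣ Nat.card {W : Submodule F (Fin n → F) // Module.finrank F ↥W = m}) :
    (∀ x : Matrix.SpecialLinearGroup (Fin n) F,
      (∃ c : F, ((x ^ r : Matrix.SpecialLinearGroup (Fin n) F) : Matrix (Fin n) (Fin n) F) = c • (1 : Matrix (Fin n) (Fin n) F)) →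
      (∀ c : F, (x : Matrix (Fin n) (Fin n) F) ≠ c • (1 : Matrix (Fin n) (Fin n) F)) →
      ∃ W : Submodule F (Fin n → F), Module.finrank F ↥W = m ∧ W.map (Matrix.toLin' (x : Matrix (Fin n) (Fin n) F)) ≤ W) ↔
    (r ≠ p ∧
      ((orderOf (q : ZMod r) = 1 ∧ (r ∣ m ∨ (padicValNat r n ≤ padicValNat r (q - 1) ∧ (r = 2 → Even n → q % 4 = 1)))) ∨
       (2 ≤ orderOf (q : ZMod r) ∧ orderOf (q : ZMod r) ≤ m ∧ m % orderOf (q : ZMod r) ≤ n % orderOf (q : ZMod r)))) := by
  classical
  have hr := (Fact.out : r.Prime)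
  subst hq
  obtain ⟨i, hi⟩ : ∃ i, i = orderOf ((Fintype.card F : ℕ) : ZMod r) := ⟨_, rfl⟩
  rw [← hi]
  have hmle : m ≤ n := by omega
  have heps : (r = 2 → Fintype.card F % 4 = 1) → ∃ e : F, e ^ r = (-1) ^ (r - 1) := fun h => by
    rcases hr.eq_two_or_odd' with h2 | ho
    · obtain ⟨e, he⟩ := FiniteField.isSquare_neg_one_iff.2 (by have := h h2; omega : Fintype.card F % 4 ≠ 3)
      exact ⟨e, by rw [h2, sq, ← he, pow_one]⟩
    · exact ⟨1, by rw [one_pow, (Nat.Odd.sub_odd ho odd_one).neg_one_pow]⟩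
  have hee : ((-1 : F) ^ (r - 1)) * (-1) ^ (r - 1) = 1 := by rw [← mul_pow, neg_one_mul, neg_neg, one_pow]
  constructor
  · intro hall
    by_contra hbad
    by_cases hrp : r = p
    · exact CfsgLib.Perm.Elusive.card_subspaces_not_dvd (F := F) (p := p) hmle (hrp ▸ hrΩ)
    obtain ⟨j, hjm, hj⟩ := CfsgLib.Perm.Elusive.exists_order_dvd hrp hmle hrΩ
    rw [← hi] at hj
    have hipos : 0 < i := hi ▸ CfsgLib.Perm.Elusive.order_pos hrp
    -- a derangement contradicts the assumption
    have hfin : ∀ T : (Fin n → F) →ₗ[F] (Fin n → F), LinearMap.det T = 1 → (∀ c : F, T ≠ c • LinearMap.id) →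
        (∃ c : F, T ^ r = c • LinearMap.id) →
        (∀ W : Submodule F (Fin n → F), (∀ u ∈ W, T u ∈ W) → Module.finrank F W ≠ m) → False := by
      intro T hd hns ⟨c, hc⟩ hW
      obtain ⟨x, hx⟩ : ∃ x : Matrix.SpecialLinearGroup (Fin n) F, Matrix.toLin' (x : Matrix (Fin n) (Fin n) F) = T :=
        ⟨⟨LinearMap.toMatrix' T, by rw [← LinearMap.det_toLin', Matrix.toLin'_toMatrix', hd]⟩, Matrix.toLin'_toMatrix' T⟩
      obtain ⟨W, hWm, hWi⟩ := hall x ⟨c, Matrix.toLin'.injective (by
        rw [Matrix.SpecialLinearGroup.coe_pow, Matrix.toLin'_pow, hx, hc, map_smul, Matrix.toLin'_one])⟩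
        (fun c' hc' => hns c' (by rw [← hx, hc', map_smul, Matrix.toLin'_one]))
      rw [hx, Submodule.map_le_iff_le_comap] at hWi
      exact hW W (fun u hu => hWi hu) hWm
    by_cases hi1 : i = 1
    · have hq1 : r ∣ Fintype.card F - 1 := (CfsgLib.Perm.Elusive.order_one_iff hrp).1 (hi ▸ hi1)
      have hcond : ¬ r ∣ m ∧ ((r = 2 ∧ Even n ∧ Fintype.card F % 4 ≠ 1) ∨
          ((r = 2 → Fintype.card F % 4 = 1) ∧ padicValNat r (Fintype.card F - 1) < padicValNat r n)) := by
        refine ⟨fun h => hbad ⟨hrp, Or.inl ⟨hi1, Or.inl h⟩⟩, ?_⟩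
        by_cases hA : r = 2 ∧ Even n ∧ Fintype.card F % 4 ≠ 1
        · exact Or.inl hA
        refine Or.inr ?_
        have hlt : padicValNat r (Fintype.card F - 1) < padicValNat r n := by
          by_contra hle
          push Not at hle
          exact hbad ⟨hrp, Or.inl ⟨hi1, Or.inr ⟨hle, fun h2 he => by_contra fun h4 => hA ⟨h2, he, h4⟩⟩⟩⟩
        refine ⟨fun h2 => by_contra fun h4 => hA ⟨h2, ?_, h4⟩, hlt⟩
        subst h2
        rw [even_iff_two_dvd]
        exact dvd_of_one_le_padicValNat (by omega)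
      obtain ⟨hrm, hcase⟩ := hcond
      obtain ⟨k, z, hnk, hz, hzd⟩ : ∃ (k : ℕ) (z : F), n = k * r ∧ (∀ l : F, l ^ r ≠ z) ∧ ((-1) ^ (r - 1) * z) ^ k = 1 := by
        rcases hcase with ⟨h2, ⟨k, hk⟩, h4⟩ | ⟨h4, hv⟩
        · refine ⟨k, -1, by rw [h2, hk]; ring, fun l hl => ?_, by rw [h2]; simp⟩
          rw [h2, sq] at hl
          have := FiniteField.isSquare_neg_one_iff.1 ⟨l, hl.symm⟩
          have : Fintype.card F % 2 = 1 := by
            have : 2 ∣ Fintype.card F - 1 := h2 ▸ hq1
            have := Fintype.one_lt_card (α := F)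
            omega
          omega
        · obtain ⟨v, hv'⟩ : ∃ v, v = padicValNat r (Fintype.card F - 1) := ⟨_, rfl⟩
          obtain ⟨g, hg⟩ := IsCyclic.exists_ofOrder_eq_natCard (α := Fˣ)
          rw [Nat.card_units, Nat.card_eq_fintype_card] at hg
          have hvd : r ^ v ∣ Fintype.card F - 1 := hv' ▸ pow_padicValNat_dvd
          obtain ⟨u, hu⟩ : ∃ u : F, orderOf u = r ^ v :=
            ⟨((g ^ ((Fintype.card F - 1) / r ^ v) : Fˣ) : F), by
              rw [orderOf_units]
              conv_lhs => rw [← hg]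
              exact orderOf_pow_orderOf_div (orderOf_pos g).ne' (hg.symm ▸ hvd)⟩
          have hur : ∀ l : F, l ^ r ≠ u := fun l hl => by
            have h0 : u ≠ 0 := fun h => by
              rw [h, orderOf_zero] at hu
              exact (pow_pos hr.pos v).ne' hu.symm
            have hl0 : l ≠ 0 := fun h => h0 (by rw [← hl, h, zero_pow hr.ne_zero])
            have hlo : orderOf l = r ^ (v + 1) := by
              refine orderOf_eq_prime_pow ?_ ?_
              · intro h
                rcases Nat.eq_zero_or_pos v with hv0 | hvp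
                · have : 1 ≤ v := hv' ▸ one_le_padicValNat_of_dvd (by have := Fintype.one_lt_card (α := F); omega) hq1
                  omega
                · obtain ⟨w, rfl⟩ : ∃ w, v = w + 1 := ⟨v - 1, by omega⟩
                  rw [pow_succ', pow_mul, hl] at h
                  have := Nat.le_of_dvd (pow_pos hr.pos w) (hu ▸ orderOf_dvd_of_pow_eq_one h)
                  exact absurd this (not_le.2 (Nat.pow_lt_pow_right hr.one_lt (by omega)))
              · rw [pow_succ', pow_mul, hl, ← hu, pow_orderOf_eq_one]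
            have hdv : r ^ (v + 1) ∣ Fintype.card F - 1 :=
              hlo ▸ orderOf_dvd_of_pow_eq_one (FiniteField.pow_card_sub_one_eq_one l hl0)
            rw [padicValNat_dvd_iff_le (by have := Fintype.one_lt_card (α := F); omega), ← hv'] at hdv
            omega
          have hrn : r ∣ n := dvd_of_one_le_padicValNat (by omega)
          obtain ⟨k, hk⟩ := hrn
          have hk0 : k ≠ 0 := fun h => by rw [h, mul_zero] at hk; omega
          refine ⟨k, (-1) ^ (r - 1) * u, by rw [hk, mul_comm], fun l hl => ?_, ?_⟩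
          · obtain ⟨e, he⟩ := heps h4
            exact hur (l * e) (by rw [mul_pow, hl, he, mul_comm, ← mul_assoc, hee, one_mul])
          · rw [← mul_assoc, hee, one_mul]
            refine orderOf_dvd_iff_pow_eq_one.1 ?_
            rw [hu, padicValNat_dvd_iff_le hk0]
            rw [hk, padicValNat.mul hr.ne_zero hk0, padicValNat_self, ← hv'] at hv
            omega
      obtain ⟨T, hT⟩ := CfsgLib.Perm.Elusive.exists_block_element (F := F) (r := r) hnk z
      obtain ⟨-, hdet⟩ := CfsgLib.Perm.Elusive.det_of_pow_eq_nonpower hr (CfsgLib.Perm.Elusive.natCast_ne_zero_of_ne hrp) T hT hz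
      rw [Module.finrank_fin_fun, show n / r = k by rw [hnk, Nat.mul_div_cancel _ hr.pos], hzd] at hdet
      refine hfin T hdet (fun c hc => ?_) ⟨z, hT⟩ fun W hW hWm =>
        hrm (hWm ▸ (CfsgLib.Perm.Elusive.nonpower_invariant T hT hz).1 W hW)
      refine hz c ?_
      rw [hc, smul_pow, ← Module.End.one_eq_id, one_pow] at hT
      have h := congrFun (LinearMap.congr_fun hT (fun _ => 1)) ⟨0, by omega⟩
      simpa using h
    have hcond : ¬ (i ≤ m ∧ m % i ≤ n % i) := fun h => hbad ⟨hrp, Or.inr ⟨by omega, h.1, h.2⟩⟩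
    have hin : i ≤ n := by
      rcases le_or_gt i m with h | h
      · omega
      · exact le_trans (Nat.le_of_dvd (by omega) hj) (Nat.sub_le n j)
    have hsmall : m < i → n % i < m := fun h => by
      have e := Nat.mod_eq_of_lt (show j < i by omega)
      obtain ⟨c, hc⟩ := hj
      rw [show n = j + i * c by omega, Nat.add_mul_mod_self_left, e]
      exact hjm
    obtain ⟨T, hT, hker⟩ := CfsgLib.Perm.Elusive.exists_prime_element (F := F) (p := p) (r := r) hrp
      (n := n) (a := n % i) (b := n / i) (by rw [← hi]; exact (Nat.mod_add_div' n i).symm)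
    refine hfin T ?_ (fun c hc => ?_) ⟨1, by rw [hT, one_smul]; rfl⟩ fun W hW hWm => ?_
    · have hd : LinearMap.det T ^ r = 1 := by rw [← map_pow, hT, map_one]
      have hg := pow_gcd_eq_one.2 ⟨hd, FiniteField.pow_card_sub_one_eq_one (LinearMap.det T) (fun h => by
        rw [h, zero_pow hr.ne_zero] at hd; exact zero_ne_one hd)⟩
      rwa [Nat.Coprime.gcd_eq_one (hr.coprime_iff_not_dvd.2 fun h => hi1 (hi ▸ (CfsgLib.Perm.Elusive.order_one_iff hrp).2 h)),
        pow_one] at hg
    · have h1 : c ^ r = 1 := by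
        have h := congrFun (LinearMap.congr_fun hT (fun _ => 1)) ⟨0, by omega⟩
        rw [hc, smul_pow, ← Module.End.one_eq_id, one_pow] at h
        simpa using h
      have hg := pow_gcd_eq_one.2 ⟨h1, FiniteField.pow_card_sub_one_eq_one c (fun h => by
        rw [h, zero_pow hr.ne_zero] at h1; exact zero_ne_one h1)⟩
      rw [Nat.Coprime.gcd_eq_one (hr.coprime_iff_not_dvd.2 fun h => hi1 (hi ▸ (CfsgLib.Perm.Elusive.order_one_iff hrp).2 h)),
        pow_one] at hg
      rw [hc, hg, one_smul, ← Module.End.one_eq_id, sub_self, LinearMap.ker_zero, finrank_top, Module.finrank_fin_fun] at hker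
      have := Nat.mod_lt n hipos
      omega
    · obtain ⟨a, k, ha, hk⟩ := CfsgLib.Perm.Elusive.finrank_invariant (p := p) hrp T hT hW
      rw [hker] at ha
      rw [hWm, ← hi] at hk
      have hai : a % i = a := Nat.mod_eq_of_lt (lt_of_le_of_lt ha (Nat.mod_lt n hipos))
      have hmi : m % i = a := by rw [hk, Nat.add_mul_mod_self_right, hai]
      refine hcond ⟨?_, by omega⟩
      by_contra hlt
      have := hsmall (by omega)
      rw [Nat.mod_eq_of_lt (by omega : m < i)] at hmi
      omega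
  rintro ⟨hrp, hcase⟩ x ⟨z, hz⟩ hns
  obtain ⟨T, hT⟩ : ∃ T, T = Matrix.toLin' (x : Matrix (Fin n) (Fin n) F) := ⟨_, rfl⟩
  have hTr : T ^ r = z • LinearMap.id := by
    rw [hT, ← Matrix.toLin'_pow, ← Matrix.SpecialLinearGroup.coe_pow, hz, map_smul, Matrix.toLin'_one]
  have hTd : LinearMap.det T = 1 := by rw [hT, LinearMap.det_toLin', x.2]
  suffices h : ∃ U : Submodule F (Fin n → F), (∀ u ∈ U, T u ∈ U) ∧ Module.finrank F U = m by
    obtain ⟨U, hU, hUm⟩ := h
    refine ⟨U, hUm, ?_⟩
    rw [Submodule.map_le_iff_le_comap, ← hT]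
    exact hU
  by_cases hroot : ∃ l : F, l ^ r = z
  · obtain ⟨l, hl⟩ := hroot
    have hl0 : l ≠ 0 := fun h => by
      rw [h, zero_pow hr.ne_zero] at hl
      rw [← hl, zero_smul] at hTr
      have h := congrArg LinearMap.det hTr
      haveI : Nonempty (Fin n) := ⟨⟨0, by omega⟩⟩
      rw [map_pow, hTd, one_pow, LinearMap.det_zero' (Pi.basisFun F (Fin n))] at h
      exact one_ne_zero h
    obtain ⟨y, hy⟩ : ∃ y, y = l⁻¹ • T := ⟨_, rfl⟩
    have hyr : y ^ r = 1 := by
      rw [hy, smul_pow, hTr, smul_smul, inv_pow, hl, inv_mul_cancel₀ (hl ▸ pow_ne_zero r hl0), one_smul]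
      rfl
    obtain ⟨k, hk, hex⟩ := CfsgLib.Perm.Elusive.exists_split (p := p) hrp y hyr
    rw [Module.finrank_fin_fun, ← hi] at hk
    rw [← hi] at hex
    obtain ⟨a, ha⟩ : ∃ a, a = Module.finrank F (LinearMap.ker (y - 1)) := ⟨_, rfl⟩
    rw [← ha] at hk hex
    obtain ⟨a', j, ha', hj, hsum⟩ : ∃ a' j, a' ≤ a ∧ j ≤ k ∧ a' + j * i = m := by
      rcases hcase with ⟨hi1, -⟩ | ⟨hi2, him, hmod⟩
      · rw [hi1, mul_one] at hk
        exact ⟨min m a, m - min m a, min_le_right _ _, by omega, by rw [hi1, mul_one]; omega⟩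
      · have hai : n % i ≤ a := by rw [hk, Nat.add_mul_mod_self_right]; exact Nat.mod_le _ _
        have hm' := Nat.mod_add_div' m i
        rcases le_or_gt (m / i) k with h | h
        · exact ⟨m % i, m / i, by omega, h, hm'⟩
        · have : k * i ≤ m / i * i := Nat.mul_le_mul_right i h.le
          exact ⟨m - k * i, k, by omega, le_rfl, by omega⟩
    obtain ⟨U, -, -, hU, -, hUf⟩ := hex a' j ha' hj
    refine ⟨U, fun u hu => ?_, hUf.trans hsum⟩
    have h := U.smul_mem l (hU u hu)
    rwa [hy, LinearMap.smul_apply, smul_inv_smul₀ hl0] at h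
  push Not at hroot
  have hi1 : i = 1 := by_contra fun h => by
    obtain ⟨l, hl⟩ := CfsgLib.Perm.Elusive.exists_root_of_order_ne_one (F := F) (p := p) hrp (hi ▸ h) z
    exact hroot l hl
  obtain ⟨hdim, hdet⟩ := CfsgLib.Perm.Elusive.det_of_pow_eq_nonpower hr (CfsgLib.Perm.Elusive.natCast_ne_zero_of_ne hrp) T hTr hroot
  rw [Module.finrank_fin_fun] at hdim hdet
  rcases hcase with ⟨-, hrm | ⟨hv, h4⟩⟩ | ⟨hi2, -⟩
  · obtain ⟨c, hc⟩ := hrm
    obtain ⟨U, -, -, hU, -, hUf⟩ := (CfsgLib.Perm.Elusive.nonpower_invariant T hTr hroot).2 c (by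
      rw [Module.finrank_fin_fun]; linarith [mul_comm r c])
    exact ⟨U, hU, by rw [hUf, hc, mul_comm]⟩
  · exfalso
    obtain ⟨k, hk⟩ := hdim
    have hk0 : k ≠ 0 := fun h => by rw [h, mul_zero] at hk; omega
    rw [show n / r = k by rw [hk, Nat.mul_div_cancel_left _ hr.pos], hTd] at hdet
    rw [hk, padicValNat.mul hr.ne_zero hk0, padicValNat_self] at hv
    have hw0 : ((-1 : F) ^ (r - 1) * z) ≠ 0 := fun h => by
      rw [h, zero_pow hk0] at hdet
      exact one_ne_zero hdet
    obtain ⟨l, hl⟩ := CfsgLib.Perm.Elusive.exists_root_of_pow_eq_one (F := F) (r := r) hw0 hk0 hdet.symm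
      ((CfsgLib.Perm.Elusive.order_one_iff hrp).1 (hi ▸ hi1)) (by omega)
    obtain ⟨e, he⟩ := heps fun h2 => h4 h2 (by rw [hk, h2]; exact even_two_mul k)
    exact hroot (l * e) (by rw [mul_pow, hl, he, mul_comm, ← mul_assoc, hee, one_mul])
  · omega

end Cfsg.Agent.S5949
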