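import Cfsg.Statements.S5950
-- import your own Cfsg.Agent.* helpers here
import Mathlib
import Cfsg.Agent.Lib.Perm.Elusive.InvariantPairs
import Cfsg.Agent.Lib.Perm.Elusive.JordanPairs

set_option autoImplicit false
set_option linter.all false
open scoped MatrixGroups
open Cfsg

namespace Cfsg.Agent.S5950

/-- Elements of prime order of PSL_n(q) fixing no decomposition `F^n = U ⊕ W` with `dim U = m`. Here `T = PSL_n(F)` for a field `F` with `q = p^f` elements (`n ≥ 2`, `(n, q) ≠ (2, 2), (2, 3)`); an element of `T` of prime order `r` is represented by a matrix `x` of determinant 1 with `x^r` scalar and `x` not scalar; `i` denotes the multiplicative order of `q` modulo `r` (when `r ≠ p`), and `(a)_r` the `r`-part of `a`. Let `n ≥ 3`, `1 ≤ m < n/2`, and let `r` be a prime dividing the number of such decompositions (unordered pairs `{U, W}` of complementary subspaces with `dim U = m`; since `m ≠ n − m` these are the ordered pairs with `dim U = m`). Then every element of `T` of order `r`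 fixes such a pair (fixes both `U` and `W` for some complementary `U, W` with `dim U = m`) if and only if one of: (i) `r = p > 2` and every partition of `n` into parts of size at most `p` contains, as a sub-multiset, a partition of `m`; (ii) `r = p = 2` and `n` is odd or `m` is even; (iii) `r ≠ p`, `i = 1`, and `r ∣ m` or `(q−1)_r ≥ (n)_r` (with `q ≡ 1 (mod 4)` required when `r = 2` and `n` is even); (iv) `r ≠ p`, `2 ≤ i ≤ m` and `n mod i ≥ m mod i`. -/
theorem result {F : Type*} [Field F] [Fintype F] {p : ℕ} [Fact p.Prime] [CharP F p] {q : ℕ} (hq : Fintype.card F = q)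
    (n m : ℕ) (hn : 3 ≤ n) (hm : 1 ≤ m) (hmn : 2 * m < n)
    (r : ℕ) [Fact r.Prime]
    (hrΩ : r ∣ Nat.card {P : Submodule F (Fin n → F) × Submodule F (Fin n → F) // IsCompl P.1 P.2 ∧ Module.finrank F ↥P.1 = m}) :
    (∀ x : Matrix.SpecialLinearGroup (Fin n) F,
      (∃ c : F, ((x ^ r : Matrix.SpecialLinearGroup (Fin n) F) : Matrix (Fin n) (Fin n) F) = c • (1 : Matrix (Fin n) (Fin n) F)) →
      (∀ c : F, (x : Matrix (Fin n) (Fin n) F) ≠ c • (1 : Matrix (Fin n) (Fin n) F)) →
      ∃ U W : Submodule F (Fin n → F), IsCompl U W ∧ Module.finrank F ↥U = m ∧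
        U.map (Matrix.toLin' (x : Matrix (Fin n) (Fin n) F)) ≤ U ∧ W.map (Matrix.toLin' (x : Matrix (Fin n) (Fin n) F)) ≤ W) ↔
    ((r = p ∧ 2 < p ∧ (∀ μ : Multiset ℕ, (∀ a ∈ μ, 0 < a ∧ a ≤ p) → μ.sum = n → ∃ ν : Multiset ℕ, ν ≤ μ ∧ ν.sum = m)) ∨
     (r = p ∧ p = 2 ∧ (Odd n ∨ Even m)) ∨
     (r ≠ p ∧
      ((orderOf (q : ZMod r) = 1 ∧ (r ∣ m ∨ (padicValNat r n ≤ padicValNat r (q - 1) ∧ (r = 2 → Even n → q % 4 = 1)))) ∨
       (2 ≤ orderOf (q : ZMod r) ∧ orderOf (q : ZMod r) ≤ m ∧ m % orderOf (q : ZMod r) ≤ n % orderOf (q : ZMod r))))) := by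
  classical
  have hr := (Fact.out : r.Prime)
  subst hq
  obtain ⟨i, hi⟩ : ∃ i, i = orderOf ((Fintype.card F : ℕ) : ZMod r) := ⟨_, rfl⟩
  rw [← hi]
  have hmle : m ≤ n := by omega
  have heps : (r = 2 → Fintype.card F % 4 = 1) → ∃ e : F, e ^ r = (-1) ^ (r - 1) := fun h => by
    rcases hr.eq_two_or_odd' with h2 | ho
    · obtain ⟨e, he⟩ := FiniteField.isSquare_neg_one_iff.2 (by have := h h2; omega : Fintype.card F % 4 ≠ 3)
      exact ⟨e, by rw [h2, sq, ← he, pow_one]⟩
    · exact ⟨1, by rw [one_pow, (Nat.Odd.sub_odd ho odd_one).neg_one_pow]⟩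
  have hee : ((-1 : F) ^ (r - 1)) * (-1) ^ (r - 1) = 1 := by rw [← mul_pow, neg_one_mul, neg_neg, one_pow]
  have hparts : p = 2 → ((∀ μ : Multiset ℕ, (∀ a ∈ μ, 0 < a ∧ a ≤ p) → μ.sum = n → ∃ ν : Multiset ℕ, ν ≤ μ ∧ ν.sum = m) ↔
      (Odd n ∨ Even m)) := fun hp2 => by
    subst hp2
    constructor
    · intro h
      by_contra hne
      push Not at hne
      obtain ⟨hno, hme⟩ := hne
      obtain ⟨d, hd⟩ := Nat.not_odd_iff_even.1 hno
      obtain ⟨ν, hν, hνs⟩ := h (Multiset.replicate d 2) (fun a ha => by rw [Multiset.eq_of_mem_replicate ha]; omega)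
        (by rw [Multiset.sum_replicate, smul_eq_mul]; omega)
      have hall2 : ∀ a ∈ ν, a = 2 := fun a ha => Multiset.eq_of_mem_replicate (Multiset.mem_of_le hν ha)
      rw [Multiset.eq_replicate_card.2 hall2, Multiset.sum_replicate, smul_eq_mul] at hνs
      exact hme ⟨Multiset.card ν, by omega⟩
    · intro h μ hμ hsum
      obtain ⟨c₁, hc₁⟩ : ∃ c, c = μ.count 1 := ⟨_, rfl⟩
      obtain ⟨c₂, hc₂⟩ : ∃ c, c = μ.count 2 := ⟨_, rfl⟩
      have hμe : μ = Multiset.replicate c₁ 1 + Multiset.replicate c₂ 2 := by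
        refine Multiset.ext.2 fun a => ?_
        rw [Multiset.count_add, Multiset.count_replicate, Multiset.count_replicate]
        by_cases ha1 : 1 = a
        · subst ha1; simp [hc₁]
        by_cases ha2 : 2 = a
        · subst ha2; simp [hc₂]
        rw [if_neg ha1, if_neg ha2, Multiset.count_eq_zero.2 fun ha => by have := hμ a ha; omega]
      rw [hμe, Multiset.sum_add, Multiset.sum_replicate, Multiset.sum_replicate, smul_eq_mul, smul_eq_mul] at hsum
      obtain ⟨u, v, hu, hv, huv⟩ : ∃ u v, u ≤ c₁ ∧ v ≤ c₂ ∧ u + 2 * v = m := by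
        rcases le_or_gt c₂ (m / 2) with h2 | h2
        · exact ⟨m - 2 * c₂, c₂, by omega, le_rfl, by omega⟩
        · refine ⟨m % 2, m / 2, ?_, by omega, by omega⟩
          rcases h with h | h
          · rw [Nat.odd_iff] at h; omega
          · rw [Nat.even_iff] at h; omega
      refine ⟨Multiset.replicate u 1 + Multiset.replicate v 2, ?_, ?_⟩
      · rw [hμe]
        exact add_le_add ((Multiset.replicate_le_replicate 1).2 hu) ((Multiset.replicate_le_replicate 2).2 hv)
      · rw [Multiset.sum_add, Multiset.sum_replicate, Multiset.sum_replicate, smul_eq_mul, smul_eq_mul]; omega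
  constructor
  · intro hall
    by_contra hbad
    -- a derangement contradicts the assumption
    have hfin : ∀ T : (Fin n → F) →ₗ[F] (Fin n → F), LinearMap.det T = 1 → (∀ c : F, T ≠ c • LinearMap.id) →
        (∃ c : F, T ^ r = c • LinearMap.id) →
        (∀ U W : Submodule F (Fin n → F), IsCompl U W → (∀ u ∈ U, T u ∈ U) → (∀ u ∈ W, T u ∈ W) → Module.finrank F U = m →
          False) → False := by
      intro T hd hns ⟨c, hc⟩ hW
      obtain ⟨x, hx⟩ : ∃ x : Matrix.SpecialLinearGroup (Fin n) F, Matrix.toLin' (x : Matrix (Fin n) (Fin n) F) = T :=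
        ⟨⟨LinearMap.toMatrix' T, by rw [← LinearMap.det_toLin', Matrix.toLin'_toMatrix', hd]⟩, Matrix.toLin'_toMatrix' T⟩
      obtain ⟨U, W, hUW, hUm, hUi, hWi⟩ := hall x ⟨c, Matrix.toLin'.injective (by
        rw [Matrix.SpecialLinearGroup.coe_pow, Matrix.toLin'_pow, hx, hc, map_smul, Matrix.toLin'_one])⟩
        (fun c' hc' => hns c' (by rw [← hx, hc', map_smul, Matrix.toLin'_one]))
      rw [hx, Submodule.map_le_iff_le_comap] at hWi hUi
      exact hW U W hUW (fun u hu => hUi hu) (fun u hu => hWi hu) hUm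
    by_cases hrp : r = p
    · subst hrp
      have hpart : ∀ μ : Multiset ℕ, (∀ a ∈ μ, 0 < a ∧ a ≤ r) → μ.sum = n → ∃ ν : Multiset ℕ, ν ≤ μ ∧ ν.sum = m := by
        intro μ hμ hsum
        by_cases h1 : ∀ b ∈ μ, b = 1
        · rw [Multiset.eq_replicate_card.2 h1] at hsum ⊢
          rw [Multiset.sum_replicate, smul_eq_mul, mul_one] at hsum
          exact ⟨Multiset.replicate m 1, (Multiset.replicate_le_replicate 1).2 (by omega), by simp⟩
        obtain ⟨l, b, rfl⟩ : ∃ (l : ℕ) (b : Fin l → ℕ), μ = (Finset.univ : Finset (Fin l)).val.map b :=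
          ⟨_, fun i => μ.toList.get i, by rw [Fin.univ_val_map, List.ofFn_get, Multiset.coe_toList]⟩
        have hbp : ∀ i, 0 < b i ∧ b i ≤ r := fun i => hμ _ (Multiset.mem_map_of_mem b (Finset.mem_univ i))
        obtain ⟨N, hNp, hrank⟩ := CfsgLib.Perm.Elusive.exists_nilpotent_of_parts (F := F) (n := n) b hbp hsum
        obtain ⟨M, hM⟩ : ∃ M : Matrix (Fin n) (Fin n) F, M = LinearMap.toMatrixAlgEquiv' N := ⟨_, rfl⟩
        haveI : Nonempty (Fin n) := ⟨⟨0, by omega⟩⟩
        have hMp : (1 + M) ^ r = 1 := by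
          rw [add_pow_char_of_commute r (Commute.one_left M), one_pow, hM, ← map_pow, hNp, map_zero, add_zero]
        have hdet : (1 + M).det = 1 := frobenius_inj F r (by
          rw [frobenius_def, frobenius_def, one_pow, ← Matrix.det_pow, hMp, Matrix.det_one])
        have hTlin : Matrix.toLin' (1 + M) = 1 + N := by
          rw [map_add, Matrix.toLin'_one, hM]
          congr 1
          exact Matrix.toLinAlgEquiv'_toMatrixAlgEquiv' N
        by_contra hno
        push Not at hno
        refine hfin (1 + N) (by rw [← hTlin, LinearMap.det_toLin', hdet]) (fun c hc => ?_)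
          ⟨1, by rw [← hTlin, ← Matrix.toLin'_pow, hMp, Matrix.toLin'_one, one_smul]⟩ fun U W hUW hU hW hUm => ?_
        · have e1 : N = (c - 1) • LinearMap.id := by
            refine LinearMap.ext fun u => funext fun k => ?_
            have := congrFun (LinearMap.congr_fun hc u) k
            simp only [LinearMap.add_apply, Module.End.one_apply, LinearMap.smul_apply, LinearMap.id_coe, id_eq, Pi.add_apply, Pi.smul_apply, smul_eq_mul] at this ⊢
            linear_combination this
          have e2 : (c - 1) ^ r = 0 := by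
            have h := congrFun (LinearMap.congr_fun hNp (fun _ => 1)) ⟨0, by omega⟩
            rw [e1, smul_pow, ← Module.End.one_eq_id, one_pow] at h
            simpa using h
          rw [eq_zero_of_pow_eq_zero e2, zero_smul] at e1
          have hr1 := hrank 1
          rw [CfsgLib.Perm.Elusive.powRank, pow_one, e1, Submodule.map_zero, finrank_bot] at hr1
          refine h1 fun d hd => ?_
          obtain ⟨i, -, rfl⟩ := Multiset.mem_map.1 hd
          have := Finset.sum_eq_zero_iff.1 hr1.symm i (Finset.mem_univ i)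
          have := (hbp i).1
          omega
        · have hinv : ∀ S : Submodule F (Fin n → F), (∀ u ∈ S, (1 + N) u ∈ S) → S.map N ≤ S := by
            rintro S hS _ ⟨u, hu, rfl⟩
            have := S.sub_mem (hS u hu) hu
            simpa using this
          obtain ⟨ν, hν, hνs⟩ := CfsgLib.Perm.Elusive.exists_sub_parts b N hNp hrank (hinv U hU) (hinv W hW) hUW
          exact hno ν hν (by rw [hνs, hUm])
      rcases hr.eq_two_or_odd' with h2 | ho
      · exact hbad (Or.inr (Or.inl ⟨rfl, h2, (hparts h2).1 hpart⟩))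
      · exact hbad (Or.inl ⟨rfl, by have := hr.two_le; rcases ho with ⟨j, hj⟩; omega, hpart⟩)
    obtain ⟨j, hjm, hj⟩ : ∃ j, j < m ∧ i ∣ n - j := by
      haveI : Fintype {U : Submodule F (Fin n → F) // Module.finrank F U = m} := Fintype.ofFinite _
      rw [Nat.card_congr ({ toFun := fun P => ⟨⟨P.1.1, P.2.2⟩, ⟨P.1.2, P.2.1⟩⟩
                            invFun := fun S => ⟨(S.1.1, S.2.1), S.2.2, S.1.2⟩
                            left_inv := fun P => rfl
                            right_inv := fun S => rfl } :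
          {P : Submodule F (Fin n → F) × Submodule F (Fin n → F) // IsCompl P.1 P.2 ∧ Module.finrank F P.1 = m} ≃
          Σ U : {U : Submodule F (Fin n → F) // Module.finrank F U = m}, {W : Submodule F (Fin n → F) // IsCompl U.1 W}),
        Nat.card_sigma, Finset.sum_congr rfl (fun U _ => (CfsgLib.Perm.Elusive.card_complements U.1).trans (by
          rw [U.2, Module.finrank_fin_fun])), Finset.sum_const, Finset.card_univ, smul_eq_mul,
        ← Nat.card_eq_fintype_card (α := {U : Submodule F (Fin n → F) // Module.finrank F U = m})] at hrΩ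
      rcases hr.dvd_mul.1 hrΩ with h | h
      · obtain ⟨j, hjm, hj⟩ := CfsgLib.Perm.Elusive.exists_order_dvd hrp hmle h
        exact ⟨j, hjm, hi ▸ hj⟩
      · exact absurd ((ZMod.natCast_eq_zero_iff _ r).2 (hr.dvd_of_dvd_pow h)) (CfsgLib.Perm.Elusive.card_ne_zero_zmod hrp)
    have hipos : 0 < i := hi ▸ CfsgLib.Perm.Elusive.order_pos hrp
    by_cases hi1 : i = 1
    · have hq1 : r ∣ Fintype.card F - 1 := (CfsgLib.Perm.Elusive.order_one_iff hrp).1 (hi ▸ hi1)
      have hcond : ¬ r ∣ m ∧ ((r = 2 ∧ Even n ∧ Fintype.card F % 4 ≠ 1) ∨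
          ((r = 2 → Fintype.card F % 4 = 1) ∧ padicValNat r (Fintype.card F - 1) < padicValNat r n)) := by
        refine ⟨fun h => hbad (Or.inr (Or.inr ⟨hrp, Or.inl ⟨hi1, Or.inl h⟩⟩)), ?_⟩
        by_cases hA : r = 2 ∧ Even n ∧ Fintype.card F % 4 ≠ 1
        · exact Or.inl hA
        refine Or.inr ?_
        have hlt : padicValNat r (Fintype.card F - 1) < padicValNat r n := by
          by_contra hle
          push Not at hle
          exact hbad (Or.inr (Or.inr ⟨hrp, Or.inl ⟨hi1, Or.inr ⟨hle, fun h2 he => by_contra fun h4 => hA ⟨h2, he, h4⟩⟩⟩⟩))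
        refine ⟨fun h2 => by_contra fun h4 => hA ⟨h2, ?_, h4⟩, hlt⟩
        subst h2
        rw [even_iff_two_dvd]
        exact dvd_of_one_le_padicValNat (by omega)
      obtain ⟨hrm, hcase⟩ := hcond
      obtain ⟨k, z, hnk, hz, hzd⟩ : ∃ (k : ℕ) (z : F), n = k * r ∧ (∀ l : F, l ^ r ≠ z) ∧ ((-1) ^ (r - 1) * z) ^ k = 1 := by
        rcases hcase with ⟨h2, ⟨k, hk⟩, h4⟩ | ⟨h4, hv⟩
        · refine ⟨k, -1, by rw [h2, hk]; ring, fun l hl => ?_, by rw [h2]; simp⟩
          rw [h2, sq] at hl
          have := FiniteField.isSquare_neg_one_iff.1 ⟨l, hl.symm⟩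
          have : Fintype.card F % 2 = 1 := by
            have : 2 ∣ Fintype.card F - 1 := h2 ▸ hq1
            have := Fintype.one_lt_card (α := F)
            omega
          omega
        · obtain ⟨v, hv'⟩ : ∃ v, v = padicValNat r (Fintype.card F - 1) := ⟨_, rfl⟩
          obtain ⟨g, hg⟩ := IsCyclic.exists_ofOrder_eq_natCard (α := Fˣ)
          rw [Nat.card_units, Nat.card_eq_fintype_card] at hg
          have hvd : r ^ v ∣ Fintype.card F - 1 := hv' ▸ pow_padicValNat_dvd
          obtain ⟨u, hu⟩ : ∃ u : F, orderOf u = r ^ v :=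
            ⟨((g ^ ((Fintype.card F - 1) / r ^ v) : Fˣ) : F), by
              rw [orderOf_units]
              conv_lhs => rw [← hg]
              exact orderOf_pow_orderOf_div (orderOf_pos g).ne' (hg.symm ▸ hvd)⟩
          have hur : ∀ l : F, l ^ r ≠ u := fun l hl => by
            have h0 : u ≠ 0 := fun h => by
              rw [h, orderOf_zero] at hu
              exact (pow_pos hr.pos v).ne' hu.symm
            have hl0 : l ≠ 0 := fun h => h0 (by rw [← hl, h, zero_pow hr.ne_zero])
            have hlo : orderOf l = r ^ (v + 1) := by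
              refine orderOf_eq_prime_pow ?_ ?_
              · intro h
                rcases Nat.eq_zero_or_pos v with hv0 | hvp
                · have : 1 ≤ v := hv' ▸ one_le_padicValNat_of_dvd (by have := Fintype.one_lt_card (α := F); omega) hq1
                  omega
                · obtain ⟨w, rfl⟩ : ∃ w, v = w + 1 := ⟨v - 1, by omega⟩
                  rw [pow_succ', pow_mul, hl] at h
                  have := Nat.le_of_dvd (pow_pos hr.pos w) (hu ▸ orderOf_dvd_of_pow_eq_one h)
                  exact absurd this (not_le.2 (Nat.pow_lt_pow_right hr.one_lt (by omega)))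
              · rw [pow_succ', pow_mul, hl, ← hu, pow_orderOf_eq_one]
            have hdv : r ^ (v + 1) ∣ Fintype.card F - 1 :=
              hlo ▸ orderOf_dvd_of_pow_eq_one (FiniteField.pow_card_sub_one_eq_one l hl0)
            rw [padicValNat_dvd_iff_le (by have := Fintype.one_lt_card (α := F); omega), ← hv'] at hdv
            omega
          have hrn : r ∣ n := dvd_of_one_le_padicValNat (by omega)
          obtain ⟨k, hk⟩ := hrn
          have hk0 : k ≠ 0 := fun h => by rw [h, mul_zero] at hk; omega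
          refine ⟨k, (-1) ^ (r - 1) * u, by rw [hk, mul_comm], fun l hl => ?_, ?_⟩
          · obtain ⟨e, he⟩ := heps h4
            exact hur (l * e) (by rw [mul_pow, hl, he, mul_comm, ← mul_assoc, hee, one_mul])
          · rw [← mul_assoc, hee, one_mul]
            refine orderOf_dvd_iff_pow_eq_one.1 ?_
            rw [hu, padicValNat_dvd_iff_le hk0]
            rw [hk, padicValNat.mul hr.ne_zero hk0, padicValNat_self, ← hv'] at hv
            omega
      obtain ⟨T, hT⟩ := CfsgLib.Perm.Elusive.exists_block_element (F := F) (r := r) hnk z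
      obtain ⟨-, hdet⟩ := CfsgLib.Perm.Elusive.det_of_pow_eq_nonpower hr (CfsgLib.Perm.Elusive.natCast_ne_zero_of_ne hrp) T hT hz
      rw [Module.finrank_fin_fun, show n / r = k by rw [hnk, Nat.mul_div_cancel _ hr.pos], hzd] at hdet
      refine hfin T hdet (fun c hc => ?_) ⟨z, hT⟩ fun U W hUW hU hW hUm =>
        hrm (hUm ▸ (CfsgLib.Perm.Elusive.nonpower_invariant T hT hz).1 U hU)
      refine hz c ?_
      rw [hc, smul_pow, ← Module.End.one_eq_id, one_pow] at hT
      have h := congrFun (LinearMap.congr_fun hT (fun _ => 1)) ⟨0, by omega⟩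
      simpa using h
    have hcond : ¬ (i ≤ m ∧ m % i ≤ n % i) := fun h => hbad (Or.inr (Or.inr ⟨hrp, Or.inr ⟨by omega, h.1, h.2⟩⟩))
    have hin : i ≤ n := by
      rcases le_or_gt i m with h | h
      · omega
      · exact le_trans (Nat.le_of_dvd (by omega) hj) (Nat.sub_le n j)
    have hsmall : n % i < m ∨ i ≤ m := by
      by_cases h : i ≤ m
      · exact Or.inr h
      left
      obtain ⟨c, hc⟩ := hj
      rw [show n = j + i * c by omega, Nat.add_mul_mod_self_left]
      exact lt_of_le_of_lt (Nat.mod_le _ _) hjm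
    obtain ⟨T, hT, hker⟩ := CfsgLib.Perm.Elusive.exists_prime_element (F := F) (p := p) (r := r) hrp
      (n := n) (a := n % i) (b := n / i) (by rw [← hi]; exact (Nat.mod_add_div' n i).symm)
    refine hfin T ?_ (fun c hc => ?_) ⟨1, by rw [hT, one_smul]; rfl⟩ fun U W hUW hU hW hUm => ?_
    · have hd : LinearMap.det T ^ r = 1 := by rw [← map_pow, hT, map_one]
      have hg := pow_gcd_eq_one.2 ⟨hd, FiniteField.pow_card_sub_one_eq_one (LinearMap.det T) (fun h => by
        rw [h, zero_pow hr.ne_zero] at hd; exact zero_ne_one hd)⟩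
      rwa [Nat.Coprime.gcd_eq_one (hr.coprime_iff_not_dvd.2 fun h => hi1 (hi ▸ (CfsgLib.Perm.Elusive.order_one_iff hrp).2 h)),
        pow_one] at hg
    · have h1 : c ^ r = 1 := by
        have h := congrFun (LinearMap.congr_fun hT (fun _ => 1)) ⟨0, by omega⟩
        rw [hc, smul_pow, ← Module.End.one_eq_id, one_pow] at h
        simpa using h
      have hg := pow_gcd_eq_one.2 ⟨h1, FiniteField.pow_card_sub_one_eq_one c (fun h => by
        rw [h, zero_pow hr.ne_zero] at h1; exact zero_ne_one h1)⟩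
      rw [Nat.Coprime.gcd_eq_one (hr.coprime_iff_not_dvd.2 fun h => hi1 (hi ▸ (CfsgLib.Perm.Elusive.order_one_iff hrp).2 h)),
        pow_one] at hg
      rw [hc, hg, one_smul, ← Module.End.one_eq_id, sub_self, LinearMap.ker_zero, finrank_top, Module.finrank_fin_fun] at hker
      have := Nat.mod_lt n hipos
      omega
    · obtain ⟨a, k, ha', hk⟩ := CfsgLib.Perm.Elusive.finrank_invariant (p := p) hrp T hT hU
      rw [hker] at ha'
      rw [hUm, ← hi] at hk
      have hmod := Nat.mod_lt n hipos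
      have hmi : m % i = a := by rw [hk, Nat.add_mul_mod_self_right, Nat.mod_eq_of_lt (by omega)]
      refine hcond ⟨?_, by omega⟩
      by_contra hlt
      rw [Nat.mod_eq_of_lt (by omega : m < i)] at hmi
      omega
  intro hcases x ⟨z, hz⟩ hns
  obtain ⟨T, hT⟩ : ∃ T, T = Matrix.toLin' (x : Matrix (Fin n) (Fin n) F) := ⟨_, rfl⟩
  have hTr : T ^ r = z • LinearMap.id := by
    rw [hT, ← Matrix.toLin'_pow, ← Matrix.SpecialLinearGroup.coe_pow, hz, map_smul, Matrix.toLin'_one]
  have hTd : LinearMap.det T = 1 := by rw [hT, LinearMap.det_toLin', x.2]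
  have hz0 : z ≠ 0 := fun h => by
    rw [h, zero_smul] at hTr
    have h := congrArg LinearMap.det hTr
    haveI : Nonempty (Fin n) := ⟨⟨0, by omega⟩⟩
    rw [map_pow, hTd, one_pow, LinearMap.det_zero' (Pi.basisFun F (Fin n))] at h
    exact one_ne_zero h
  suffices h : ∃ U W : Submodule F (Fin n → F), IsCompl U W ∧ (∀ u ∈ U, T u ∈ U) ∧ (∀ u ∈ W, T u ∈ W) ∧
      Module.finrank F U = m by
    obtain ⟨U, W, hUW, hU, hW, hUm⟩ := h
    refine ⟨U, W, hUW, hUm, ?_, ?_⟩
    · rw [Submodule.map_le_iff_le_comap, ← hT]; exact hU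
    · rw [Submodule.map_le_iff_le_comap, ← hT]; exact hW
  have hunip : r = p → (∀ μ : Multiset ℕ, (∀ a ∈ μ, 0 < a ∧ a ≤ p) → μ.sum = n → ∃ ν : Multiset ℕ, ν ≤ μ ∧ ν.sum = m) →
      ∃ U W : Submodule F (Fin n → F), IsCompl U W ∧ (∀ u ∈ U, T u ∈ U) ∧ (∀ u ∈ W, T u ∈ W) ∧ Module.finrank F U = m := by
    intro hrp hpart
    subst hrp
    obtain ⟨l, hl⟩ : ∃ l : F, l ^ r = z := Finite.injective_iff_surjective.1 (frobenius_inj F r) z
    have hl0 : l ≠ 0 := fun h => hz0 (by rw [← hl, h, zero_pow hr.ne_zero])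
    haveI : Nonempty (Fin n) := ⟨⟨0, by omega⟩⟩
    obtain ⟨M, hM⟩ : ∃ M, M = l⁻¹ • (x : Matrix (Fin n) (Fin n) F) - 1 := ⟨_, rfl⟩
    have hMp : M ^ r = 0 := by
      rw [hM, sub_pow_char_of_commute r (Commute.one_right _), one_pow, smul_pow, ← Matrix.SpecialLinearGroup.coe_pow, hz,
        smul_smul, inv_pow, hl, inv_mul_cancel₀ hz0, one_smul, sub_self]
    obtain ⟨μ, hμ, hμs, hpairs⟩ := CfsgLib.Perm.Elusive.exists_parts_pairs (p := r) n (Matrix.toLinAlgEquiv' M)
      (by rw [← map_pow, hMp, map_zero]) (by rw [Module.finrank_fin_fun])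
    obtain ⟨ν, hν, hνs⟩ := hpart μ hμ (by rw [hμs, Module.finrank_fin_fun])
    obtain ⟨U, W, hUW, hU, hW, hUf⟩ := hpairs ν hν
    have hback : ∀ S : Submodule F (Fin n → F), S.map (Matrix.toLinAlgEquiv' M) ≤ S → ∀ u ∈ S, T u ∈ S := by
      intro S hS u hu
      have h1 : (Matrix.toLinAlgEquiv' M) u ∈ S := hS ⟨u, hu, rfl⟩
      have h2 := S.smul_mem l (S.add_mem h1 hu)
      have e : l • ((Matrix.toLinAlgEquiv' M) u + u) = T u := by
        rw [hT, Matrix.toLinAlgEquiv'_apply, Matrix.toLin'_apply, hM, Matrix.sub_mulVec, Matrix.smul_mulVec,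
          Matrix.one_mulVec, sub_add_cancel, smul_inv_smul₀ hl0]
      rwa [e] at h2
    exact ⟨U, W, hUW, hback U hU, hback W hW, hUf.trans hνs⟩
  rcases hcases with ⟨hrp, -, hpart⟩ | ⟨hrp, hp2, hpart⟩ | ⟨hrp, hcase⟩
  · exact hunip hrp hpart
  · exact hunip hrp ((hparts hp2).2 hpart)
  obtain ⟨U, W, hUW, hU, hW, hUm⟩ := CfsgLib.Perm.Elusive.exists_inv_pair (p := p) hrp T hz0 hTr (m := m)
    (by rw [Module.finrank_fin_fun]; omega) (fun _ => by
      rw [Module.finrank_fin_fun, ← hi]
      rcases hcase with ⟨hi1, -⟩ | ⟨-, -, hmod⟩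
      · simp [hi1, Nat.mod_one]
      · exact hmod) (fun hroot => by
      have hi1 : i = 1 := by_contra fun h => by
        obtain ⟨l, hl⟩ := CfsgLib.Perm.Elusive.exists_root_of_order_ne_one (F := F) (p := p) hrp (hi ▸ h) z
        exact hroot l hl
      obtain ⟨hdim, hdet⟩ := CfsgLib.Perm.Elusive.det_of_pow_eq_nonpower hr (CfsgLib.Perm.Elusive.natCast_ne_zero_of_ne hrp) T hTr hroot
      rw [Module.finrank_fin_fun] at hdim hdet
      rcases hcase with ⟨-, hrm | ⟨hv, h4⟩⟩ | ⟨hi2, -⟩
      · exact hrm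
      · exfalso
        obtain ⟨k, hk⟩ := hdim
        have hk0 : k ≠ 0 := fun h => by rw [h, mul_zero] at hk; omega
        rw [show n / r = k by rw [hk, Nat.mul_div_cancel_left _ hr.pos], hTd] at hdet
        rw [hk, padicValNat.mul hr.ne_zero hk0, padicValNat_self] at hv
        have hw0 : ((-1 : F) ^ (r - 1) * z) ≠ 0 := fun h => by
          rw [h, zero_pow hk0] at hdet
          exact one_ne_zero hdet
        obtain ⟨l, hl⟩ := CfsgLib.Perm.Elusive.exists_root_of_pow_eq_one (F := F) (r := r) hw0 hk0 hdet.symm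
          ((CfsgLib.Perm.Elusive.order_one_iff hrp).1 (hi ▸ hi1)) (by omega)
        obtain ⟨e, he⟩ := heps fun h2 => h4 h2 (by rw [hk, h2]; exact even_two_mul k)
        exact hroot (l * e) (by rw [mul_pow, hl, he, mul_comm, ← mul_assoc, hee, one_mul])
      · omega)
  exact ⟨U, W, hUW, hU, hW, hUm⟩


end Cfsg.Agent.S5950
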