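import Cfsg.Statements.S5952
import Mathlib


set_option autoImplicit false
open Cfsg

namespace Cfsg.Agent.S5952

/-- Which dimensions of invariant subspaces a semisimple linear map has. Let `V` be a finite-dimensional vector space over a field `F` and `f` an invertible semisimple linear map of `V`. Suppose `V` is the internal direct sum of the fixed space `C_V(f)` (the eigenspace for 1) and subspaces `U_1, …, U_s`, each `f`-invariant of dimension `a ≥ 1` on which `f` acts irreducibly (no `f`-invariant subspaces other than 0 and `U_j`). Let `0 < m < dim V` and `ℓ = m mod a`. Then `f` leaves some `m`-dimensional subspace invariant if and only if `dim C_V(f) ≥ m`, or `a ≤ m` and `dim C_V(f) ≥ ℓ`. -/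
theorem result {F V : Type*} [Field F] [AddCommGroup V] [Module F V]
    [FiniteDimensional F V] (f : V →ₗ[F] V) (hf : Function.Bijective f) (hss : Module.End.IsSemisimple f)
    {s a : ℕ} (ha : 1 ≤ a) (U : Fin s → Submodule F V)
    (hUinv : ∀ j, (U j).map f ≤ U j) (hUdim : ∀ j, Module.finrank F ↥(U j) = a)
    (hUirr : ∀ j, ∀ W : Submodule F V, W ≤ U j → W.map f ≤ W → W = ⊥ ∨ W = U j)
    (hdec : DirectSum.IsInternal (fun o : Option (Fin s) => o.elim (Module.End.eigenspace f 1) U))
    (m : ℕ) (hm : 0 < m) (hmV : m < Module.finrank F V) :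
    (∃ W : Submodule F V, Module.finrank F ↥W = m ∧ W.map f ≤ W) ↔
    (m ≤ Module.finrank F ↥(Module.End.eigenspace f 1) ∨
      (a ≤ m ∧ m % a ≤ Module.finrank F ↥(Module.End.eigenspace f 1))) := by
  classical
  obtain ⟨C, hC⟩ : ∃ C : Submodule F V, C = Module.End.eigenspace f 1 := ⟨_, rfl⟩
  rw [← hC]
  have hCfix : ∀ v ∈ C, f v = v := fun v hv => by
    rw [hC, Module.End.mem_eigenspace_iff, one_smul] at hv
    exact hv
  have hCinv : ∀ D ≤ C, D.map f ≤ D := by
    rintro D hD _ ⟨v, hv, rfl⟩
    rwa [hCfix v (hD hv)]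
  -- independent sums
  have hindep : ∀ (D : Submodule F V), D ≤ C → ∀ t : Finset (Fin s),
      Module.finrank F ↥(D ⊔ t.sup U) = Module.finrank F ↥D + t.card * a := by
    intro D hD t
    induction t using Finset.induction_on with
    | empty => rw [Finset.sup_empty, sup_bot_eq, Finset.card_empty, zero_mul, add_zero]
    | insert j t hj ih =>
      have hdis : U j ⊓ (D ⊔ t.sup U) = ⊥ := by
        rw [← disjoint_iff]
        refine Disjoint.mono_right ?_ (hdec.submodule_iSupIndep (some j))
        refine sup_le (hD.trans (hC ▸ le_iSup₂_of_le (none : Option (Fin s)) (by simp) le_rfl)) (Finset.sup_le fun i hi => ?_)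
        exact le_iSup₂_of_le (some i) (fun h => hj (Option.some.inj h ▸ hi)) le_rfl
      have h := Submodule.finrank_sup_add_finrank_inf_eq (U j) (D ⊔ t.sup U)
      rw [hdis, finrank_bot, add_zero, hUdim, ih] at h
      rw [Finset.sup_insert, sup_left_comm, h, Finset.card_insert_of_notMem hj]
      ring
  have htop : C ⊔ Finset.univ.sup U = ⊤ := by
    rw [eq_top_iff, ← hdec.submodule_iSup_eq_top]
    refine iSup_le fun o => ?_
    cases o with
    | none => exact hC ▸ le_sup_left
    | some j => exact (Finset.le_sup (Finset.mem_univ j)).trans le_sup_right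
  have hV : Module.finrank F V = Module.finrank F ↥C + s * a := by
    have h := hindep C le_rfl Finset.univ
    rw [htop, finrank_top, Finset.card_univ, Fintype.card_fin] at h
    exact h
  constructor
  · rintro ⟨W, hW, hWinv⟩
    have hstep : ∀ t : Finset (Fin s), ((W ⊔ C) ⊔ t.sup U).map f ≤ (W ⊔ C) ⊔ t.sup U ∧
        ∃ j ≤ t.card, Module.finrank F ↥((W ⊔ C) ⊔ t.sup U) = Module.finrank F ↥(W ⊔ C) + j * a := by
      intro t
      induction t using Finset.induction_on with
      | empty =>
        refine ⟨?_, 0, le_rfl, by rw [Finset.sup_empty, sup_bot_eq, zero_mul, add_zero]⟩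
        rw [Finset.sup_empty, sup_bot_eq, Submodule.map_sup]
        exact sup_le_sup hWinv (hCinv C le_rfl)
      | insert i t hi ih =>
        obtain ⟨hinv, j, hj, hdim⟩ := ih
        rw [Finset.sup_insert, sup_left_comm]
        refine ⟨?_, ?_⟩
        · rw [Submodule.map_sup]
          exact sup_le_sup (hUinv i) hinv
        · have h := Submodule.finrank_sup_add_finrank_inf_eq (U i) ((W ⊔ C) ⊔ t.sup U)
          rw [Finset.card_insert_of_notMem hi]
          rcases hUirr i (U i ⊓ ((W ⊔ C) ⊔ t.sup U)) inf_le_left
            ((Submodule.map_inf_le _).trans (inf_le_inf (hUinv i) hinv)) with h0 | h0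
          · rw [h0, finrank_bot, add_zero, hUdim, hdim] at h
            exact ⟨j + 1, by omega, by rw [h]; ring⟩
          · rw [inf_eq_left] at h0
            exact ⟨j, by omega, by rw [sup_eq_right.2 h0, hdim]⟩
    obtain ⟨-, j, hj, hjdim⟩ := hstep Finset.univ
    rw [Finset.card_univ, Fintype.card_fin] at hj
    have htop' : (W ⊔ C) ⊔ Finset.univ.sup U = ⊤ := by
      rw [eq_top_iff, ← htop]
      exact sup_le_sup_right le_sup_right _
    rw [htop', finrank_top, hV] at hjdim
    have h := Submodule.finrank_sup_add_finrank_inf_eq W C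
    rw [hW] at h
    have hd : Module.finrank F ↥(W ⊓ C) ≤ Module.finrank F ↥C := Submodule.finrank_mono inf_le_right
    obtain ⟨i, hi⟩ : ∃ i, s = j + i := ⟨s - j, by omega⟩
    subst hi
    rw [add_mul] at hjdim
    have hm' : m = i * a + Module.finrank F ↥(W ⊓ C) := by omega
    rcases Nat.eq_zero_or_pos i with rfl | hi0
    · left; omega
    · right
      refine ⟨by have := Nat.le_mul_of_pos_left a hi0; omega, ?_⟩
      rw [hm', Nat.mul_add_mod_self_right]
      exact (Nat.mod_le _ _).trans hd
  · intro h
    obtain ⟨k, hks, hka, hrest⟩ : ∃ k, k ≤ s ∧ k * a ≤ m ∧ m - k * a ≤ Module.finrank F ↥C := by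
      rcases h with h | ⟨_, h2⟩
      · exact ⟨0, by omega, by omega, by omega⟩
      · rcases le_total (m / a) s with h3 | h3
        · refine ⟨m / a, h3, Nat.div_mul_le_self m a, ?_⟩
          have := Nat.div_add_mod' m a
          omega
        · exact ⟨s, le_rfl, (Nat.mul_le_mul_right a h3).trans (Nat.div_mul_le_self m a), by omega⟩
    obtain ⟨D, hDC, hD⟩ : ∃ D ≤ C, Module.finrank F ↥D = m - k * a := by
      let b := Module.finBasis F ↥C
      refine ⟨Submodule.span F (Set.range fun i : Fin (m - k * a) => ((b (Fin.castLE hrest i) : ↥C) : V)), ?_, ?_⟩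
      · rw [Submodule.span_le]
        rintro _ ⟨i, rfl⟩
        exact (b _).2
      · rw [finrank_span_eq_card, Fintype.card_fin]
        exact ((b.linearIndependent.map' C.subtype C.ker_subtype).comp _ (Fin.castLE_injective hrest))
    obtain ⟨t, -, ht⟩ := Finset.exists_subset_card_eq (s := (Finset.univ : Finset (Fin s))) (n := k)
      (by rw [Finset.card_univ, Fintype.card_fin]; exact hks)
    refine ⟨D ⊔ t.sup U, ?_, ?_⟩
    · rw [hindep D hDC t, hD, ht]
      omega
    · rw [Submodule.map_sup]
      refine sup_le_sup (hCinv D hDC) ?_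
      rw [Finset.sup_eq_iSup, Submodule.map_iSup]
      refine iSup_mono fun i => ?_
      rw [Submodule.map_iSup]
      exact iSup_mono fun _ => hUinv i

end Cfsg.Agent.S5952
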