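import Cfsg.Statements.S5953
-- import your own Cfsg.Agent.* helpers here
import Mathlib
import Cfsg.Agent.Lib.Perm.Elusive.HermIso.Main

set_option autoImplicit false
set_option linter.all false
set_option maxHeartbeats 1000000
open scoped MatrixGroups
open Cfsg

namespace Cfsg.Agent.S5953

open CfsgLib.Perm.Elusive CfsgLib.Perm.Elusive.HermIso CfsgLib.SU

/-- an element of order `r` with bounded fixed totally isotropic subspaces -/
theorem class_elem {F : Type*} [Field F] [Fintype F] {p : ℕ} [Fact p.Prime] [CharP F p] {q : ℕ} (C : UCtx F q)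
    (hF : Fintype.card F = q ^ 2) {r : ℕ} [Fact r.Prime] (hrp : r ≠ p) (hr2 : r ≠ 2) {i b n m : ℕ}
    (hi : i = orderOf (q : ZMod r)) (hb : b = if Even i then i / 2 else i) (h4 : i % 4 = 2) (hn : 3 ≤ n) (hm : 1 ≤ m)
    (hbm : b ≤ m) (hmn : 2 * m ≤ n) (hfail : n / b < (r - 1) / b + 2 * (m / b)) :
    ∃ M : Matrix (Fin n) (Fin n) F, Iso C (Matrix.toLin' M) ∧ M.det = 1 ∧
      Polynomial.aeval (Matrix.toLin' M) (Polynomial.X ^ r - Polynomial.C (1 : F)) = 0 ∧
      ∀ W : Submodule F (Fin n → F), Inv (Matrix.toLin' M) W → Sing C W → Module.finrank F W ≠ m := by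
  have hr : r.Prime := Fact.out
  by_cases hi2 : i = 2
  · have hb1 : b = 1 := by rw [hi2, if_pos even_two] at hb; simpa using hb
    subst hb1
    simp only [Nat.div_one] at hfail
    obtain ⟨h, hh⟩ : ∃ h, h = if r - 1 ≤ n then (r - 1) / 2 else n / 2 := ⟨_, rfl⟩
    have hrodd := hr.eq_two_or_odd.resolve_left hr2
    have hhr : 2 * h ≤ r - 1 := by rw [hh]; split_ifs <;> omega
    have hhn : 2 * h ≤ n := by rw [hh]; split_ifs <;> omega
    have hlow : 2 * ((n - 2 * h) / 2) < 2 * m := by rw [hh]; split_ifs <;> omega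
    obtain ⟨l, hl⟩ : ∃ l : ℕ → ℕ, ∀ j, l j = if j % 2 = 0 then j / 2 + 1 else r - (j / 2 + 1) := ⟨_, fun j => rfl⟩
    obtain ⟨δ, -, hδ, hel⟩ := exists_classes C hF hrp hr2 hi hb h4 (n - 2 * h) (fun _ => 1) l
    have hlr : ∀ j < 2 * h, 0 < l j ∧ l j < r := fun j hj => by rw [hl]; split_ifs <;> omega
    have hq2 : ((q : ZMod r)) ^ 2 = 1 := by rw [← hi2, hi]; exact pow_orderOf_eq_one _
    obtain ⟨M, h1, h2, h3, h4'⟩ := hel (2 * h) n
      (fun j hj => ⟨odd_one, fun h0 => by
        have := Nat.le_of_dvd (hlr j hj).1 ((ZMod.natCast_eq_zero_iff _ r).1 h0)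
        have := (hlr j hj).2
        omega⟩)
      (fun j hj j' hj' hne a h0 => by
        rw [hq2, one_pow, mul_one, ZMod.natCast_eq_natCast_iff'] at h0
        rw [Nat.mod_eq_of_lt (hlr j hj).2, Nat.mod_eq_of_lt (hlr j' hj').2, hl, hl] at h0
        split_ifs at h0 <;> omega)
      (by simp only [Finset.sum_const, Finset.card_range, smul_eq_mul, mul_one]; omega)
    refine ⟨M, h1, ?_, h3, fun W hW hWs hWf => ?_⟩
    · rw [h2]
      have hsum : ∀ k, k ≤ h → ∑ j ∈ Finset.range (2 * k), l j * 1 = k * r := by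
        intro k
        induction k with
        | zero => simp
        | succ k ih =>
          intro hk
          rw [show 2 * (k + 1) = 2 * k + 1 + 1 by ring, Finset.sum_range_succ, Finset.sum_range_succ, ih (by omega), hl,
            if_pos (by omega), hl, if_neg (by omega), mul_one, mul_one, show 2 * k / 2 = k by omega,
            show (2 * k + 1) / 2 = k by omega, Nat.succ_mul]
          omega
      rw [hsum h le_rfl, mul_comm, pow_mul, hδ, one_pow]
    · have := h4' W hW hWs
      simp only [Nat.sub_self, zero_mul, Finset.sum_const_zero, add_zero, hWf] at this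
      omega
  · obtain ⟨hbo, -⟩ := factor_degree' (F := F) (p := p) hF hrp hi hb
    have hbpos : 0 < b := hbo ▸ order_pos (p := p) hrp
    obtain ⟨s, hs⟩ : ∃ s, s = (r - 1) / b := ⟨_, rfl⟩
    rw [← hs] at hfail
    have hdvd : b ∣ r - 1 := hbo ▸ orderOf_dvd_of_pow_eq_one
      (ZMod.pow_card_sub_one_eq_one (card_ne_zero_zmod (p := p) hrp))
    have hs1 : 1 ≤ s := by
      rw [hs]; exact (Nat.one_le_div_iff hbpos).2 (Nat.le_of_dvd (by have := hr.two_le; omega) hdvd)
    obtain ⟨n', hn'⟩ : ∃ n', n' = n / b := ⟨_, rfl⟩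
    obtain ⟨m', hm'⟩ : ∃ m', m' = m / b := ⟨_, rfl⟩
    rw [← hn', ← hm'] at hfail
    have hm1 : 1 ≤ m' := hm' ▸ (Nat.one_le_div_iff hbpos).2 hbm
    have hn1 : 2 * m' ≤ n' := by
      rw [hn', Nat.le_div_iff_mul_le hbpos, hm', mul_assoc]
      have := Nat.div_mul_le_self m b
      omega
    have hnd : n' * b + n % b = n := by rw [hn', mul_comm]; exact Nat.div_add_mod n b
    have hmd : m' * b ≤ m := hm' ▸ Nat.div_mul_le_self m b
    have hk : n % b < b := Nat.mod_lt _ hbpos
    obtain ⟨o, ho⟩ : ∃ o, o = if n' < s then n' else s := ⟨_, rfl⟩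
    obtain ⟨d, hd⟩ : ∃ d, d = (n' - o) % 2 := ⟨_, rfl⟩
    obtain ⟨E, hE⟩ : ∃ E, E = n' - o - d := ⟨_, rfl⟩
    have ho1 : 1 ≤ o := by rw [ho]; split_ifs <;> omega
    have hod : o ≤ n' ∧ o ≤ s := by rw [ho]; split_ifs <;> omega
    have hEev : E % 2 = 0 := by omega
    have hbound : E + d + 1 ≤ 2 * m' := by rw [ho] at hd hE; split_ifs at hd hE <;> omega
    obtain ⟨l, hl0, hl⟩ := exists_exponents (p := p) hF hrp hbo (o := o) (hs ▸ hod.2)
    obtain ⟨δ, hδ, -, hel⟩ := exists_classes C hF hrp hr2 hi hb h4 (n % b + d * b) (fun j => if j = 0 then E + 1 else 1) l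
    have hsum : ∑ j ∈ Finset.range o, (if j = 0 then E + 1 else 1) = E + o := by
      obtain ⟨o', rfl⟩ : ∃ o', o = o' + 1 := ⟨o - 1, by omega⟩
      rw [Finset.sum_range_succ', if_pos rfl]
      simp only [Nat.succ_ne_zero, if_false, Finset.sum_const, Finset.card_range, smul_eq_mul, mul_one]
      omega
    obtain ⟨M, h1, h2, h3, h4'⟩ := hel o n
      (fun j hj => ⟨by rw [Nat.odd_iff]; split_ifs <;> omega, hl0 j hj⟩) hl (by
        have : (d + (E + o)) * b = n' * b := by congr 1; omega
        rw [add_mul] at this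
        rw [hsum]; omega)
    refine ⟨M, h1, by rw [h2, hδ hi2, one_pow], h3, fun W hW hWs hWf => ?_⟩
    have h5 := h4' W hW hWs
    rw [hWf] at h5
    have hsum' : ∑ j ∈ Finset.range o, ((if j = 0 then E + 1 else 1) - 1) * b = E * b := by
      obtain ⟨o', rfl⟩ : ∃ o', o = o' + 1 := ⟨o - 1, by omega⟩
      rw [Finset.sum_range_succ', if_pos rfl]
      simp
    rw [hsum'] at h5
    have h6 : (E + d + 1) * b ≤ 2 * m' * b := Nat.mul_le_mul_right b hbound
    rw [add_mul, add_mul, one_mul, mul_assoc 2] at h6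
    omega


/-- Elements of prime order of PSU_n(q) with no fixed totally isotropic `m`-space. Here `T = PSU_n(q)` (`n ≥ 3`, `(n, q) ≠ (3, 2)`), realised through the matrices of determinant 1 over the field `F` with `q²` elements preserving the Hermitian form `h(u, v) = Σ u_i v_i^q`; an element of `T` of prime order `r` is such a matrix `x` with `x^r` scalar and `x` not scalar. For `r ≠ p` let `i` be the multiplicative order of `q` modulo `r`, `b = i/2` for `i` even and `b = i` for `i` odd, `c = i, i/2, 2i` according as `i ≡ 0, 2 (mod 4)` or `i` odd, and write `k = n mod c`, `ℓ = m mod b`, `ℓ' = m mod c`, `n' = ⌊n/b⌋`, `m' = ⌊m/b⌋`, `s = (r−1)/b`; `(a)_r` is the `r`-part of `a`. Let `1 ≤ m ≤ n/2` and let `r` be a prime dividing the number of totally isotropic `m`-spaces. Then every element of `T` of order `r` fixes a totally isotropic `m`-space if and only if either (i) `r = 2`, `p ≠ 2`, and (`m < n/2` or `(q+1)_2 ≤ (n)_2`); or (ii) `r ≠ p`, `r > 2`, `b ≤ m`, `k ≥ 2ℓ`, and either `i ≢ 2 (mod 4)`,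 or `i ≡ 2 (mod 4)`, `n' − 2m' ≥ s` and (`i > 2`, or `i = 2` and (`r ∣ m` or `(q+1)_r ≥ (n)_r`)). -/
theorem result {F : Type*} [Field F] [Fintype F] {p : ℕ} [Fact p.Prime] [CharP F p] {q : ℕ} (hq : Fintype.card F = q ^ 2)
    (n m : ℕ) (hn : 3 ≤ n) (hT : (n, q) ≠ (3, 2)) (hm : 1 ≤ m) (hmn : 2 * m ≤ n)
    (r : ℕ) [Fact r.Prime]
    (hrΩ : r ∣ Nat.card {W : Submodule F (Fin n → F) // Module.finrank F ↥W = m ∧ (∀ u ∈ W, ∀ v ∈ W, Cfsg.hermForm n F q u v = 0)})
    (i b c : ℕ) (hi : i = orderOf (q : ZMod r)) (hb : b = if Even i then i / 2 else i)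
    (hc : c = if i % 4 = 0 then i else if i % 4 = 2 then i / 2 else 2 * i) :
    (∀ x : Matrix.SpecialLinearGroup (Fin n) F, x ∈ Cfsg.SU n F q →
      (∃ z : F, ((x ^ r : Matrix.SpecialLinearGroup (Fin n) F) : Matrix (Fin n) (Fin n) F) = z • (1 : Matrix (Fin n) (Fin n) F)) →
      (∀ z : F, (x : Matrix (Fin n) (Fin n) F) ≠ z • (1 : Matrix (Fin n) (Fin n) F)) →
      ∃ W : Submodule F (Fin n → F), Module.finrank F ↥W = m ∧ (∀ u ∈ W, ∀ v ∈ W, Cfsg.hermForm n F q u v = 0) ∧
        W.map (Matrix.toLin' (x : Matrix (Fin n) (Fin n) F)) ≤ W) ↔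
    ((r = 2 ∧ p ≠ 2 ∧ (2 * m < n ∨ padicValNat 2 (q + 1) ≤ padicValNat 2 n)) ∨
     (r ≠ p ∧ 2 < r ∧ b ≤ m ∧ 2 * (m % b) ≤ n % c ∧
       (i % 4 ≠ 2 ∨ (i % 4 = 2 ∧ (r - 1) / b + 2 * (m / b) ≤ n / b ∧
         (2 < i ∨ (i = 2 ∧ (r ∣ m ∨ padicValNat r n ≤ padicValNat r (q + 1)))))))) := by
  classical
  obtain ⟨C⟩ := CfsgLib.Classical.uctx_exists hq
  rw [iso_count_eq C] at hrΩ
  obtain ⟨hrp, hcount⟩ := iso_count_prime (p := p) C hq hmn hrΩ
  have hr : r.Prime := Fact.out
  have hp : p.Prime := Fact.out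
  by_cases hr2 : r = 2
  · subst hr2
    have h2F : (2 : F) ≠ 0 := fun h => hrp ((Nat.prime_dvd_prime_iff_eq hp hr).1
      ((CharP.cast_eq_zero_iff F p 2).1 (by exact_mod_cast h))).symm
    constructor
    · intro hall
      refine Or.inl ⟨rfl, fun h => hrp h.symm, ?_⟩
      by_contra hno
      push Not at hno
      obtain ⟨hno1, hno2⟩ := hno
      obtain ⟨a, ha⟩ : ∃ a, a = padicValNat 2 n := ⟨_, rfl⟩
      rw [← ha] at hno2
      have hdq : 2 ^ (a + 1) ∣ q + 1 := (padicValNat_dvd_iff_le (by omega)).2 (by omega)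
      obtain ⟨w, hw⟩ := CfsgLib.Classical.HermTori.exists_of_order F (k := 2 ^ (a + 1)) (hdq.trans ⟨q - 1, by
        rw [hq, ← Nat.sq_sub_sq, one_pow]⟩)
      have hN : w * C.bar w = 1 := by
        rw [C.bar_eq, ← pow_succ']; exact orderOf_dvd_iff_pow_eq_one.1 (hw ▸ hdq)
      have hw0 : w ≠ 0 := fun h => by rw [h, zero_mul] at hN; exact zero_ne_one hN
      have hwa : w ^ 2 ^ a = -1 := by
        have h1 : (w ^ 2 ^ a) ^ 2 = 1 := by rw [← pow_mul, ← pow_succ, ← hw, pow_orderOf_eq_one]
        refine (sq_eq_one_iff.1 h1).resolve_left fun h => ?_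
        have := Nat.le_of_dvd (pow_pos two_pos a) (hw ▸ orderOf_dvd_of_pow_eq_one h)
        have := Nat.pow_lt_pow_right (by norm_num : 1 < 2) (Nat.lt_succ_self a)
        omega
      obtain ⟨u, hu⟩ : 2 ^ a ∣ n := ha ▸ pow_padicValNat_dvd
      have huodd : Odd u := by
        rcases Nat.even_or_odd u with ⟨u', hu'⟩ | h
        · exfalso
          have : 2 ^ (a + 1) ∣ n := ⟨u', by rw [hu, hu', pow_succ]; ring⟩
          rw [ha] at this
          exact pow_succ_padicValNat_not_dvd (p := 2) (by omega) this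
        · exact h
      have hwn : w ^ n = -1 := by rw [hu, pow_mul, hwa, huodd.neg_one_pow]
      obtain ⟨k, rfl⟩ : ∃ k, n = k + 1 := ⟨n - 1, by omega⟩
      obtain ⟨a1, a2⟩ := scalar_block (C := C) k hN
      obtain ⟨b1, b2⟩ := scalar_block (C := C) 1 (w := -w) (by rw [map_neg, neg_mul_neg, hN])
      have hkill : ∀ (l : ℕ) (v : F), v ^ 2 = w ^ 2 →
          Polynomial.aeval (Matrix.toLin' (v • (1 : Matrix (Fin l) (Fin l) F))) (Polynomial.X ^ 2 - Polynomial.C (w ^ 2)) = 0 := by
        intro l v hv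
        rw [map_sub, map_pow, Polynomial.aeval_X, Polynomial.aeval_C, map_smul, Matrix.toLin'_one, sub_eq_zero, smul_pow,
          hv]
        rw [show (LinearMap.id : (Fin l → F) →ₗ[F] (Fin l → F)) = 1 from rfl, one_pow]
        exact LinearMap.ext fun u => by simp [← map_pow, Module.algebraMap_end_apply]
      obtain ⟨x, hx, hxM, hx2⟩ := exists_su (C := C) (r := 2) (z := w ^ 2) (block_iso a1 b1) (by
        rw [CfsgLib.Classical.HermTori.det_blockMat, Matrix.det_smul, Matrix.det_smul, Matrix.det_one, Matrix.det_one,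
          Fintype.card_fin, Fintype.card_fin, mul_one, mul_one, pow_one, mul_neg, ← pow_succ, hwn, neg_neg])
        (block_kill (hkill k w rfl) (hkill 1 (-w) (neg_sq w)))
      have hBd := bd_block (C := C) (Polynomial.isCoprime_X_sub_C_of_isUnit_sub (IsUnit.mk0 (w - -w) (by
        rw [sub_neg_eq_add, ← two_mul]; exact mul_ne_zero h2F hw0))) a2 b2 (bd_scalar _) (bd_scalar _)
      obtain ⟨W, hWm, hWs, hWi⟩ := hall x hx ⟨_, hx2⟩ fun z hz => by
        obtain ⟨W, hW1, hW2⟩ := exists_sing C hq hmn
        have := hBd W (hxM ▸ inv_of_scalar hz W) hW1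
        omega
      have := hBd W (hxM ▸ map_le_iff_inv.1 hWi) (fun u hu v hv => hermForm_eq C u v ▸ hWs u hu v hv)
      omega
    · intro hcond x hx ⟨z, hz⟩ hns
      obtain ⟨-, -, hcase⟩ : 2 = 2 ∧ p ≠ 2 ∧ (2 * m < n ∨ padicValNat 2 (q + 1) ≤ padicValNat 2 n) :=
        hcond.resolve_right fun h => lt_irrefl _ h.2.1
      obtain ⟨hI, hT, hzn⟩ := elem_setup C (by omega) hx hz
      obtain ⟨w, A, B, hw, hw0, hAi, hBi, hA, hB, hsplit, hdim, hdet, hcases⟩ := involution hq h2F hI hT hzn
      have hfin : ∀ W : Submodule F (Fin n → F), Inv (Matrix.toLin' (x : Matrix (Fin n) (Fin n) F)) W → Sing C W →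
          Module.finrank F W = m → ∃ W : Submodule F (Fin n → F), Module.finrank F ↥W = m ∧
            (∀ u ∈ W, ∀ v ∈ W, Cfsg.hermForm n F q u v = 0) ∧
            W.map (Matrix.toLin' (x : Matrix (Fin n) (Fin n) F)) ≤ W := fun W h1 h2 h3 =>
        ⟨W, h3, fun u hu v hv => (hermForm_eq C u v).trans (h2 u hu v hv), map_le_iff_inv.2 h1⟩
      rcases hcases with ⟨hN, horth, hAn, hBn⟩ | ⟨hN, hAs, hBs⟩
      · obtain ⟨a, ha⟩ : ∃ a, a = Module.finrank F A := ⟨_, rfl⟩
        obtain ⟨b', hb'⟩ : ∃ b', b' = Module.finrank F B := ⟨_, rfl⟩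
        rw [← ha, ← hb'] at hdim hdet
        have hbad : m ≤ a / 2 + b' / 2 := by
          by_contra hlt
          have hao : a % 2 = 1 := by omega
          have hbo : b' % 2 = 1 := by omega
          rw [LinearMap.det_toLin', x.det_coe, Odd.neg_pow (Nat.odd_iff.2 hbo), mul_neg, ← pow_add, hdim] at hdet
          have hwn : w ^ n = -1 := by linear_combination hdet
          have hw1 : w ^ (q + 1) = 1 := by rw [pow_succ', ← C.bar_eq, hN]
          obtain ⟨u, hu⟩ : 2 ^ padicValNat 2 (q + 1) ∣ n :=
            (padicValNat_dvd_iff_le (by omega)).2 (hcase.resolve_left (by omega))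
          obtain ⟨t, ht⟩ : 2 ^ padicValNat 2 (q + 1) ∣ q + 1 := pow_padicValNat_dvd
          have htodd : Odd t := by
            rcases Nat.even_or_odd t with ⟨t', ht'⟩ | h
            · exfalso
              have : 2 ^ (padicValNat 2 (q + 1) + 1) ∣ q + 1 := ⟨t', by rw [pow_succ]; linear_combination ht + 2 ^ padicValNat 2 (q + 1) * ht'⟩
              exact pow_succ_padicValNat_not_dvd (p := 2) (by omega) this
            · exact h
          have h1 : w ^ (n * t) = -1 := by rw [pow_mul, hwn, htodd.neg_one_pow]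
          have h2 : n * t = (q + 1) * u := by linear_combination t * hu - u * ht
          rw [h2, pow_mul, hw1, one_pow] at h1
          exact h2F (by linear_combination h1)
        obtain ⟨W₁, hW₁, hW₁i, hW₁s, hW₁f⟩ := scalar_sing hq hA hAn (j := min m (a / 2)) (by omega)
        obtain ⟨W₂, hW₂, hW₂i, hW₂s, hW₂f⟩ := scalar_sing hq hB hBn (j := m - min m (a / 2)) (by omega)
        have ho : W₂ ≤ perp C W₁ := fun v hv u hu => C.form_swap_zero (horth u (hW₁ hu) v (hW₂ hv))
        refine hfin (W₁ ⊔ W₂) (inv_sup hW₁i hW₂i) (sing_sup hW₁s hW₂s ho) ?_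
        have h1 := Submodule.finrank_sup_add_finrank_inf_eq W₁ W₂
        have hd : W₁ ⊓ W₂ = ⊥ := le_bot_iff.1 fun u hu => (Submodule.mem_bot F).2
          (hAn u (hW₁ hu.1) fun v hv => C.form_swap_zero (horth v hv u (hW₂ hu.2)))
        rw [hd, finrank_bot, add_zero, hW₁f, hW₂f] at h1
        omega
      · have hA2 := sing_two_mul_le hAs
        have hB2 := sing_two_mul_le hBs
        obtain ⟨W, hW, hWf⟩ : ∃ W ≤ A, Module.finrank F W = m := by
          obtain ⟨f, hf⟩ := exists_linearIndependent_of_le_finrank (R := F) (M := A) (n := m) (by omega)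
          exact ⟨(Submodule.span F (Set.range f)).map A.subtype, Submodule.map_subtype_le A _,
            by rw [Submodule.finrank_map_subtype_eq, finrank_span_eq_card hf, Fintype.card_fin]⟩
        exact hfin W (fun u hu => hA u (hW hu) ▸ W.smul_mem w hu) (fun u hu v hv => hAs u (hW hu) v (hW hv)) hWf
  · have hr3 : 2 < r := lt_of_le_of_ne hr.two_le (Ne.symm hr2)
    obtain ⟨hbo, -⟩ := factor_degree' (F := F) (p := p) hq hrp hi hb
    have hbpos : 0 < b := hbo ▸ order_pos (p := p) hrp
    have hev : i % 2 = 0 → b = i / 2 := fun h => by rw [hb, if_pos (Nat.even_iff.2 h)]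
    have hod : i % 2 = 1 → b = i := fun h => by rw [hb, if_neg (by rw [Nat.even_iff]; omega)]
    have hc' : c = if i % 4 = 2 then b else 2 * b := by
      rw [hc]; split_ifs <;> omega
    have hcpos : 0 < c := by rw [hc']; split_ifs <;> omega
    obtain ⟨t, ht1, ht2, ht3⟩ := hcount hr2 i c hi hc
    have hki : n % c < 2 * m ∧ c ≤ n := by
      obtain ⟨t', ht'⟩ := ht3
      have h1 := Nat.mod_add_div n c
      have h2 : t' ≤ n / c := by rw [Nat.le_div_iff_mul_le hcpos, mul_comm]; omega
      have h3 : c * t' ≤ c * (n / c) := Nat.mul_le_mul_left c h2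
      have h4 : 1 ≤ t' := Nat.pos_of_ne_zero fun h => by rw [h, mul_zero] at ht'; omega
      have h5 : c * 1 ≤ c * t' := Nat.mul_le_mul_left c h4
      omega
    have hrq : ¬ r ∣ q + 1 ↔ i ≠ 2 := by
      haveI : Fact (2 < r) := ⟨hr3⟩
      rw [← ZMod.natCast_eq_zero_iff, Nat.cast_add, Nat.cast_one]
      constructor
      · intro h h2
        refine h ?_
        have h1 : (q : ZMod r) ^ 2 = 1 := by rw [← h2, hi]; exact pow_orderOf_eq_one _
        rcases sq_eq_one_iff.1 h1 with h3 | h3
        · rw [hi, h3, orderOf_one] at h2; omega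
        · rw [h3, neg_add_cancel]
      · intro h h0
        rw [add_eq_zero_iff_eq_neg] at h0
        exact h (hi.trans (orderOf_eq_prime (by rw [h0]; ring) (by rw [h0]; exact ZMod.neg_one_ne_one)))
    constructor
    · intro hall
      refine Or.inr ⟨hrp, hr3, ?_⟩
      have hder : ∀ (M : Matrix (Fin n) (Fin n) F) (z : F), Iso C (Matrix.toLin' M) → M.det = 1 →
          Polynomial.aeval (Matrix.toLin' M) (Polynomial.X ^ r - Polynomial.C z) = 0 →
          (∀ W : Submodule F (Fin n → F), Inv (Matrix.toLin' M) W → Sing C W → Module.finrank F W ≠ m) → False := by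
        intro M z h1 h2 h3 h4
        obtain ⟨x, hx, hxM, hxr⟩ := exists_su h1 h2 h3
        obtain ⟨W, hWm, hWs, hWi⟩ := hall x hx ⟨_, hxr⟩ fun z hz => by
          obtain ⟨W, hW1, hW2⟩ := exists_sing C hq hmn
          exact h4 W (hxM ▸ inv_of_scalar hz W) hW1 hW2
        exact h4 W (hxM ▸ map_le_iff_inv.1 hWi) (fun u hu v hv => hermForm_eq C u v ▸ hWs u hu v hv) hWm
      by_cases hA : b ≤ m ∧ 2 * (m % b) ≤ n % c
      · refine ⟨hA.1, hA.2, ?_⟩
        by_cases h4 : i % 4 = 2
        · refine Or.inr ⟨h4, ?_, ?_⟩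
          · by_contra hlt
            obtain ⟨M, h1, h2, h3, h4'⟩ := class_elem C hq hrp hr2 hi hb h4 hn hm hA.1 hmn (not_le.1 hlt)
            exact hder M 1 h1 h2 h3 h4'
          · rcases (show 2 ≤ i by omega).lt_or_eq with h | h
            · exact Or.inl h
            refine Or.inr ⟨h.symm, ?_⟩
            by_contra hno
            push Not at hno
            obtain ⟨hrm, hv⟩ := hno
            obtain ⟨v, hvdef⟩ : ∃ v, v = padicValNat r (q + 1) := ⟨_, rfl⟩
            rw [← hvdef] at hv
            have hq1 : r ∣ q + 1 := not_not.1 fun hh => hrq.1 hh h.symm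
            have hv1 : 1 ≤ v := hvdef ▸ (padicValNat_dvd_iff_le (by omega)).1 (by rwa [pow_one])
            have hvd : r ^ v ∣ q + 1 := hvdef ▸ pow_padicValNat_dvd
            obtain ⟨z, hz⟩ := CfsgLib.Classical.HermTori.exists_of_order F (k := r ^ v) (hvd.trans ⟨q - 1, by
              rw [hq, ← Nat.sq_sub_sq, one_pow]⟩)
            have hzq : z ^ (q + 1) = 1 := orderOf_dvd_iff_pow_eq_one.1 (hz ▸ hvd)
            have hznp : ∀ l : F, l ^ r ≠ z := by
              intro l hl
              have hl0 : l ≠ 0 := fun e => by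
                rw [e, zero_pow hr.ne_zero] at hl
                rw [← hl, zero_pow (Nat.succ_ne_zero q)] at hzq
                exact zero_ne_one hzq
              have hd : r ^ (v + 1) ∣ Fintype.card F - 1 := by
                have h1 : l ^ (r ^ v * r) = 1 := by rw [mul_comm, pow_mul, hl, ← hz, pow_orderOf_eq_one]
                have h2 : orderOf l = r ^ (v + 1) := by
                  obtain ⟨k, hk, hk'⟩ := (Nat.dvd_prime_pow hr).1 (orderOf_dvd_of_pow_eq_one (pow_succ r v ▸ h1))
                  rw [hk']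
                  congr 1
                  by_contra hne
                  have h3 : z ^ r ^ (v - 1) = 1 := by
                    rw [← hl, ← pow_mul, ← pow_succ', show v - 1 + 1 = v by omega]
                    exact orderOf_dvd_iff_pow_eq_one.1 (hk' ▸ pow_dvd_pow r (by omega))
                  have h4 := Nat.le_of_dvd (pow_pos hr.pos _) (hz ▸ orderOf_dvd_of_pow_eq_one h3)
                  have := Nat.pow_lt_pow_right hr.one_lt (show v - 1 < v by omega)
                  omega
                exact h2 ▸ orderOf_dvd_of_pow_eq_one (FiniteField.pow_card_sub_one_eq_one l hl0)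
              rw [hq, ← one_pow 2, Nat.sq_sub_sq] at hd
              have hco : (r ^ (v + 1)).Coprime (q - 1) := Nat.Coprime.pow_left _ ((hr.coprime_iff_not_dvd).2 fun hd' => hr2
                ((Nat.prime_dvd_prime_iff_eq hr Nat.prime_two).1 (by
                  have := Nat.dvd_sub hq1 hd'
                  rwa [show q + 1 - (q - 1) = 2 by have := CfsgLib.Classical.two_le_q hq; omega] at this)))
              have := (padicValNat_dvd_iff_le (show q + 1 ≠ 0 by omega)).1 (hco.dvd_of_dvd_mul_right hd)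
              omega
            obtain ⟨k, hk⟩ : r ^ (v + 1) ∣ n := (padicValNat_dvd_iff_le (by omega)).2 (by omega)
            obtain ⟨M, h1, h2, h3⟩ := exists_nonpower_elem C (n := n) (k := r ^ v * k) (m := r - 1)
              (by rw [show r - 1 + 1 = r by omega, hk, pow_succ]; ring)
              (z := z) (by rw [C.bar_eq, ← pow_succ']; exact hzq)
            rw [show r - 1 + 1 = r by omega] at h3
            refine hder M z h1 ?_ h3 fun W hW hWs hWm => hrm ?_
            · rw [h2, mul_pow, ← pow_mul, pow_mul z, ← hz, pow_orderOf_eq_one, one_pow, mul_one]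
              exact Even.neg_one_pow ((Nat.even_iff.2 (by have := hr.eq_two_or_odd; omega)).mul_right _)
            · rw [← hWm]
              refine (nonpower_sub hq hr2 h1 (natCast_ne_zero_of_ne (p := p) hrp) ?_ hznp hzq hq1).1 W hW
              rw [map_sub, map_pow, Polynomial.aeval_X, Polynomial.aeval_C, sub_eq_zero] at h3
              rw [h3]
              exact LinearMap.ext fun u => by simp [Module.algebraMap_end_apply]
        · exact Or.inl h4
      · exfalso
        have hi2 : i ≠ 2 := fun h => hA ⟨by rw [hev (by omega), h]; omega, by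
          rw [show b = 1 by rw [hev (by omega), h], Nat.mod_one, mul_zero]; exact Nat.zero_le _⟩
        obtain ⟨M, h1, h2, h3, h4⟩ := exists_fixed C hq hrp hr2 hi hb hc' (hrq.2 hi2) (K := n / c) (e := n % c)
          (n := n) (by rw [mul_comm]; exact (Nat.mod_add_div n c).symm)
        refine hder M 1 h1 h2 h3 fun W hW hWs hWm => hA ?_
        have hT : (Matrix.toLin' M : Module.End F (Fin n → F)) ^ r = 1 := by
          rw [map_sub, map_pow, Polynomial.aeval_X, Polynomial.aeval_C, map_one, sub_eq_zero] at h3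
          exact h3
        obtain ⟨e, K, -, he, -, hall'⟩ := sing_invariant hq hrp hr2 h1 hT hi hb hc'
        rw [h4] at he
        obtain ⟨a, j, ha, haj⟩ := hall' W hW hWs
        rw [hWm] at haj
        have hbm : b ≤ m := by
          rcases Nat.eq_zero_or_pos j with hj | hj
          · rw [hj, zero_mul, add_zero] at haj; omega
          · have := Nat.mul_le_mul_right b hj
            omega
        refine ⟨hbm, ?_⟩
        have : m % b = a % b := by rw [haj, Nat.add_mul_mod_self_right]
        have := Nat.mod_le a b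
        omega
    · intro hcond x hx ⟨z, hz⟩ hns
      obtain ⟨-, -, hbm, hlk, hcl⟩ := hcond.resolve_left fun h => hr2 h.1
      obtain ⟨hI, hT, hzn⟩ := elem_setup C (by omega) hx hz
      by_cases hpow : ∃ l : F, l ^ r = z
      swap
      · push Not at hpow
        have hi2 : i = 2 := by
          by_contra h
          obtain ⟨w, hw, -⟩ := exists_root C hq hr2 hzn (Or.inl (hrq.2 h))
          exact hpow w hw
        have hq1 : r ∣ q + 1 := not_not.1 fun hh => hrq.1 hh hi2
        have hrF := natCast_ne_zero_of_ne (F := F) (p := p) hrp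
        obtain ⟨hdiv, hsing, -⟩ := nonpower_sub hq hr2 hI hrF hT hpow hzn hq1
        have hrm : r ∣ m := by
          rcases hcl with h | ⟨-, -, h | ⟨-, h | h⟩⟩
          · omega
          · omega
          · exact h
          exfalso
          obtain ⟨hrn, hdet⟩ := det_of_pow_eq_nonpower hr hrF _ hT hpow
          rw [Module.finrank_fin_fun] at hrn hdet
          rw [LinearMap.det_toLin', x.det_coe, (Nat.even_iff.2 (by have := hr.eq_two_or_odd; omega)).neg_one_pow,
            one_mul] at hdet
          have hz0 : z ≠ 0 := fun e => hpow 0 (by rw [e, zero_pow hr.ne_zero])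
          have hd : r ∣ Fintype.card F - 1 := hq1.trans ⟨q - 1, by rw [hq, ← Nat.sq_sub_sq, one_pow]⟩
          obtain ⟨l, hl⟩ := exists_root_of_pow_eq_one hd hz0 (by
            have h1 : orderOf z ∣ Nat.gcd (q + 1) (n / r) :=
              Nat.dvd_gcd (orderOf_dvd_of_pow_eq_one hzn) (orderOf_dvd_of_pow_eq_one hdet.symm)
            refine orderOf_dvd_iff_pow_eq_one.1 (h1.trans ?_)
            have h2 : r * Nat.gcd (q + 1) (n / r) ∣ (q + 1) * (q - 1) := by
              rw [← Nat.gcd_mul_left, Nat.mul_div_cancel' hrn]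
              have hg0 : Nat.gcd (r * (q + 1)) n ≠ 0 := Nat.gcd_ne_zero_right (by omega)
              refine dvd_mul_of_dvd_left ?_ _
              by_contra hnd
              obtain ⟨s, k, hs, hsk, hns'⟩ : ∃ s k, s.Prime ∧ s ^ k ∣ Nat.gcd (r * (q + 1)) n ∧ ¬ s ^ k ∣ q + 1 := by
                by_contra hcon
                push Not at hcon
                exact hnd ((Nat.dvd_iff_prime_pow_dvd_dvd _ _).2 fun s k hs hsk => hcon s k hs hsk)
              have hk1 := hsk.trans (Nat.gcd_dvd_left _ _)
              by_cases hsr : s = r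
              · subst hsr
                have hk2 := (padicValNat_dvd_iff_le (show n ≠ 0 by omega)).1 (hsk.trans (Nat.gcd_dvd_right _ _))
                exact hns' ((padicValNat_dvd_iff_le (show q + 1 ≠ 0 by omega)).2 (hk2.trans h))
              · exact hns' ((Nat.Coprime.pow_left k ((Nat.coprime_primes hs hr).2 hsr)).dvd_of_dvd_mul_left hk1)
            rw [hq, ← one_pow 2, Nat.sq_sub_sq]
            obtain ⟨e, he⟩ := h2
            rw [he, mul_assoc, Nat.mul_div_cancel_left _ hr.pos]
            exact dvd_mul_right _ _)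
          exact hpow l hl
        obtain ⟨j, hj⟩ := hrm
        obtain ⟨W, h1, h2, h3⟩ := hsing j (by rw [mul_comm j r, ← hj]; exact hmn)
        exact ⟨W, by rw [h3, mul_comm, ← hj], fun u hu v hv => (hermForm_eq C u v).trans (h2 u hu v hv),
          map_le_iff_inv.2 h1⟩
      · obtain ⟨w, hw, hwN⟩ := exists_root C hq hr2 hzn (Or.inr hpow)
        obtain ⟨hI', hT', hinv⟩ := rescale hI hT hw hwN
        obtain ⟨e, K, hne, -, hex, -⟩ := sing_invariant hq hrp hr2 hI' hT' hi hb hc'
        have hek : n % c ≤ e := by rw [hne, Nat.add_mul_mod_self_right]; exact Nat.mod_le e c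
        obtain ⟨W, h1, h2, h3⟩ : ∃ W, Inv (w⁻¹ • Matrix.toLin' (x : Matrix (Fin n) (Fin n) F)) W ∧ Sing C W ∧
            Module.finrank F W = m := by
          by_cases h4 : i % 4 = 2
          · rw [if_pos h4] at hc'
            rcases hcl with h | ⟨-, hs, -⟩
            · exact absurd h4 h
            subst hc'
            obtain ⟨s, hsdef⟩ : ∃ s, s = (r - 1) / c := ⟨_, rfl⟩
            rw [← hsdef] at hs hex
            have hdiv : c ∣ r - 1 := hbo ▸ orderOf_dvd_of_pow_eq_one
              (ZMod.pow_card_sub_one_eq_one (card_ne_zero_zmod (p := p) hrp))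
            have hs1 : 1 ≤ s := hsdef ▸ (Nat.one_le_div_iff hbpos).2 (Nat.le_of_dvd (by omega) hdiv)
            have hKn : K ≤ n / c := by rw [Nat.le_div_iff_mul_le hbpos]; omega
            obtain ⟨j, hj⟩ : ∃ j, j = min (m / c) ((K + 1 - s) / 2) := ⟨_, rfl⟩
            obtain ⟨t, ht⟩ : ∃ t, n / c = K + t := ⟨n / c - K, by omega⟩
            have hed : e = n % c + t * c := by
              have := Nat.mod_add_div n c
              rw [ht, mul_comm c, add_mul] at this
              omega
            obtain ⟨δ, hδ⟩ : ∃ δ, m / c = j + δ := ⟨m / c - j, by omega⟩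
            have hδt : 2 * δ ≤ t := by omega
            have hma : m = m % c + δ * c + j * c := by
              have := Nat.mod_add_div m c
              rw [hδ, mul_comm c, add_mul] at this
              omega
            have h2δ : 2 * δ * c ≤ t * c := Nat.mul_le_mul_right c hδt
            rw [mul_assoc] at h2δ
            obtain ⟨W, h1, h2, h3⟩ := hex (m % c + δ * c) j (by omega) (by
              rw [if_pos h4]
              omega)
            exact ⟨W, h1, h2, h3.trans hma.symm⟩
          · rw [if_neg h4] at hc'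
            obtain ⟨j, hj⟩ : ∃ j, j = min (m / b) K := ⟨_, rfl⟩
            have hjb : j * b ≤ m := by
              have := Nat.mul_le_mul_right b (hj ▸ Nat.min_le_left (m / b) K)
              have := Nat.div_mul_le_self m b
              omega
            have ha : 2 * (m - j * b) ≤ e := by
              rcases Nat.le_total (m / b) K with h | h
              · rw [min_eq_left h] at hj
                have := Nat.mod_add_div m b
                rw [mul_comm, ← hj] at this
                omega
              · rw [min_eq_right h] at hj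
                subst hj
                have : j * c = 2 * (j * b) := by rw [hc']; ring
                omega
            obtain ⟨W, h1, h2, h3⟩ := hex (m - j * b) j ha (by rw [if_neg h4]; exact Or.inr (by omega))
            exact ⟨W, h1, h2, by omega⟩
        exact ⟨W, h3, fun u hu v hv => (hermForm_eq C u v).trans (h2 u hu v hv), map_le_iff_inv.2 (hinv W h1)⟩

end Cfsg.Agent.S5953
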