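import Cfsg.Statements.S5954
-- import your own Cfsg.Agent.* helpers here
import Mathlib
import Cfsg.Agent.Lib.Perm.Elusive.HermIso.Main
import Cfsg.Agent.Lib.Perm.Elusive.HermIso.JordanElem

set_option autoImplicit false
set_option linter.all false
set_option maxHeartbeats 1000000
open scoped MatrixGroups
open Cfsg

namespace Cfsg.Agent.S5954

open CfsgLib.Perm.Elusive CfsgLib.Perm.Elusive.HermIso CfsgLib.SU

/-- the property to be characterised -/
def Fixes {F : Type*} [Field F] [Fintype F] {q : ℕ} (C : UCtx F q) (n m r : ℕ) : Prop :=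
  ∀ x : Matrix.SpecialLinearGroup (Fin n) F, x ∈ Cfsg.SU n F q →
    (∃ z : F, ((x ^ r : Matrix.SpecialLinearGroup (Fin n) F) : Matrix (Fin n) (Fin n) F) = z • (1 : Matrix (Fin n) (Fin n) F)) →
    (∀ z : F, (x : Matrix (Fin n) (Fin n) F) ≠ z • (1 : Matrix (Fin n) (Fin n) F)) →
    ∃ W : Submodule F (Fin n → F), Module.finrank F W = m ∧ Nd C W ∧
      Inv (Matrix.toLin' (x : Matrix (Fin n) (Fin n) F)) W

/-- a derangement gives the failure of the property -/
theorem not_fixes {F : Type*} [Field F] [Fintype F] {q : ℕ} {C : UCtx F q} (hF : Fintype.card F = q ^ 2) {n m r : ℕ}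
    (hmn : m ≤ n) (h : Fixes C n m r) {M : Matrix (Fin n) (Fin n) F} (h1 : Iso C (Matrix.toLin' M)) (h2 : M.det = 1)
    {z : F} (h3 : Polynomial.aeval (Matrix.toLin' M) (Polynomial.X ^ r - Polynomial.C z) = 0)
    (h4 : ∀ W : Submodule F (Fin n → F), Inv (Matrix.toLin' M) W → Nd C W → Module.finrank F W ≠ m) : False := by
  obtain ⟨x, hx, hxM, hxr⟩ := exists_su h1 h2 h3
  obtain ⟨W, hWm, hWn, hWi⟩ := h x hx ⟨_, hxr⟩ fun z hz => by
    obtain ⟨W, hW1, hW2⟩ := exists_nd C hF hmn
    exact h4 W (hxM ▸ inv_of_scalar hz W) hW1 hW2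
  exact h4 W (hxM ▸ hWi) hWn hWm

/-- the case of unipotent elements -/
theorem fixes_char {F : Type*} [Field F] [Fintype F] {p : ℕ} [Fact p.Prime] [CharP F p] {q : ℕ} (C : UCtx F q)
    (hF : Fintype.card F = q ^ 2) {n m : ℕ} (hn : 3 ≤ n) (hmn : m ≤ n) :
    Fixes C n m p ↔ ∀ μ : Multiset ℕ, (∀ a ∈ μ, 0 < a ∧ a ≤ p) → μ.sum = n → ∃ ν : Multiset ℕ, ν ≤ μ ∧ ν.sum = m := by
  have hpow : (Polynomial.X - Polynomial.C (1 : F)) ^ p = Polynomial.X ^ p - Polynomial.C (1 : F) := by
    rw [sub_pow_char, ← map_pow, one_pow]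
  constructor
  · intro h μ hμ hsum
    by_contra hno
    push Not at hno
    obtain ⟨M, h1, h2, h3, h4⟩ := exists_unipotent C μ (fun a ha => (hμ a ha).1) n hsum.symm
    have hP := h3 p fun a ha => (hμ a ha).2
    refine not_fixes hF hmn h h1 h2 (z := 1) (by rw [← hpow]; exact hP) fun W hW hWn hWf => ?_
    obtain ⟨ν, hν, hνs⟩ := sub_partition h1 hP (fun a ha => (hμ a ha).1) h4 hW hWn
    exact hno ν hν (hνs.trans hWf)
  · intro h x hx ⟨z, hz⟩ _
    obtain ⟨hI, hT, hzn⟩ := elem_setup C (by omega) hx hz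
    obtain ⟨w, hw⟩ : ∃ w : F, w ^ p = z := ⟨(frobeniusEquiv F p).symm z, frobeniusEquiv_symm_pow_p F p z⟩
    have hN : w * C.bar w = 1 := by
      rw [C.bar_eq, ← pow_succ']
      refine (frobenius_inj F p) ?_
      rw [frobenius_def, frobenius_def, one_pow, ← pow_mul, mul_comm, pow_mul, hw, hzn]
    obtain ⟨hI', hT', hinv⟩ := rescale hI hT hw hN
    have hP : npow (w⁻¹ • Matrix.toLin' (x : Matrix (Fin n) (Fin n) F)) p = 0 := by
      rw [npow, hpow, map_sub, map_pow, Polynomial.aeval_X, Polynomial.aeval_C, map_one, hT', sub_self]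
    obtain ⟨μ, hμ, hsum, -, hsub⟩ := jordan_decomp hI' hP (inv_top _) (nd_top (C := C))
    rw [finrank_top, Module.finrank_fin_fun] at hsum
    obtain ⟨ν, hν, hνm⟩ := h μ hμ hsum
    obtain ⟨W, -, hW, hWn, hWf⟩ := hsub ν hν
    exact ⟨W, hWf.trans hνm, hWn, hinv W hW⟩

/-- partitions into ones and twos -/
theorem parts_two {n m : ℕ} (hmn : m ≤ n) :
    (∀ μ : Multiset ℕ, (∀ a ∈ μ, 0 < a ∧ a ≤ 2) → μ.sum = n → ∃ ν : Multiset ℕ, ν ≤ μ ∧ ν.sum = m) ↔
      (Odd n ∨ Even m) := by
  classical
  constructor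
  · intro h
    by_contra hno
    push Not at hno
    rw [Nat.not_odd_iff_even, Nat.not_even_iff_odd] at hno
    obtain ⟨⟨t, ht⟩, ⟨u, hu⟩⟩ := hno
    obtain ⟨ν, hν, hνm⟩ := h (Multiset.replicate t 2) (fun a ha => by
      rw [Multiset.eq_of_mem_replicate ha]; omega) (by rw [Multiset.sum_replicate, smul_eq_mul]; omega)
    have h2 : ν = Multiset.replicate (Multiset.card ν) 2 := Multiset.eq_replicate.2 ⟨rfl, fun a ha =>
      Multiset.eq_of_mem_replicate (Multiset.mem_of_le hν ha)⟩
    rw [h2, Multiset.sum_replicate, smul_eq_mul] at hνm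
    omega
  · intro h μ hμ hsum
    obtain ⟨t, ht⟩ : ∃ t, t = μ.count 2 := ⟨_, rfl⟩
    obtain ⟨o, ho⟩ : ∃ o, o = μ.count 1 := ⟨_, rfl⟩
    have he : μ = Multiset.replicate t 2 + Multiset.replicate o 1 := by
      refine Multiset.ext.2 fun a => ?_
      rw [Multiset.count_add, Multiset.count_replicate, Multiset.count_replicate]
      by_cases h2 : a = 2
      · subst h2; simp [ht]
      · by_cases h1 : a = 1
        · subst h1; simp [ho]
        · rw [if_neg (Ne.symm h2), if_neg (Ne.symm h1), add_zero, Multiset.count_eq_zero]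
          intro ha
          have := hμ a ha
          omega
    rw [he, Multiset.sum_add, Multiset.sum_replicate, Multiset.sum_replicate, smul_eq_mul, smul_eq_mul, mul_one] at hsum
    obtain ⟨u, hu⟩ : ∃ u, u = min (m / 2) t := ⟨_, rfl⟩
    refine ⟨Multiset.replicate u 2 + Multiset.replicate (m - 2 * u) 1, ?_, ?_⟩
    · rw [he]
      refine add_le_add (Multiset.replicate_le_replicate 2 |>.2 (by omega)) (Multiset.replicate_le_replicate 1 |>.2 ?_)
      rcases h with h | h
      · rw [Nat.odd_iff] at h; omega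
      · rw [Nat.even_iff] at h; omega
    · rw [Multiset.sum_add, Multiset.sum_replicate, Multiset.sum_replicate, smul_eq_mul, smul_eq_mul, mul_one]
      omega


/-- Elements of prime order of PSU_n(q) with no fixed nondegenerate `m`-space. Here `T = PSU_n(q)` (`n ≥ 3`, `(n, q) ≠ (3, 2)`), realised through the matrices of determinant 1 over the field `F` with `q²` elements preserving the Hermitian form `h(u, v) = Σ u_i v_i^q`; an element of `T` of prime order `r` is such a matrix `x` with `x^r` scalar and `x` not scalar. For `r ≠ p` let `i` be the multiplicative order of `q` modulo `r`, `b = i/2` for `i` even and `b = i` for `i` odd, `c = i, i/2, 2i` according as `i ≡ 0, 2 (mod 4)` or `i` odd, and write `k = n mod c`, `ℓ = m mod b`, `ℓ' = m mod c`, `n' = ⌊n/b⌋`, `m' = ⌊m/b⌋`, `s = (r−1)/b`; `(a)_r` is the `r`-part of `a`. Let `1 ≤ m < n/2` and let `r` be a prime dividing the number of nondegenerate `m`-spaces. Then every element of `T` of order `r` fixes a nondegenerate `m`-space if and only if one of: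 (i) `r = p > 2` and every partition of `n` into parts of size at most `p` contains (as a sub-multiset) a partition of `m`; (ii) `r = p = 2` and (`n` is odd or `m` is even); (iii) `r = 2 ≠ p` and (`n` is odd, or `m` is even, or `(q+1)_2 ≥ (n)_2` and `q ≡ 3 (mod 4)`); (iv) `r ≠ p`, `r > 2`, and either `i ≠ 2`, `c ≤ m` and `k ≥ ℓ'`, or `i = 2` and (`r ∣ m` or `(q+1)_r ≥ (n)_r`). -/
theorem result {F : Type*} [Field F] [Fintype F] {p : ℕ} [Fact p.Prime] [CharP F p] {q : ℕ} (hq : Fintype.card F = q ^ 2)
    (n m : ℕ) (hn : 3 ≤ n) (hT : (n, q) ≠ (3, 2)) (hm : 1 ≤ m) (hmn : 2 * m < n)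
    (r : ℕ) [Fact r.Prime]
    (hrΩ : r ∣ Nat.card {W : Submodule F (Fin n → F) // Module.finrank F ↥W = m ∧ (∀ u ∈ W, u ≠ 0 → ∃ v ∈ W, Cfsg.hermForm n F q u v ≠ 0)})
    (i b c : ℕ) (hi : i = orderOf (q : ZMod r)) (hb : b = if Even i then i / 2 else i)
    (hc : c = if i % 4 = 0 then i else if i % 4 = 2 then i / 2 else 2 * i) :
    (∀ x : Matrix.SpecialLinearGroup (Fin n) F, x ∈ Cfsg.SU n F q →
      (∃ z : F, ((x ^ r : Matrix.SpecialLinearGroup (Fin n) F) : Matrix (Fin n) (Fin n) F) = z • (1 : Matrix (Fin n) (Fin n) F)) →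
      (∀ z : F, (x : Matrix (Fin n) (Fin n) F) ≠ z • (1 : Matrix (Fin n) (Fin n) F)) →
      ∃ W : Submodule F (Fin n → F), Module.finrank F ↥W = m ∧ (∀ u ∈ W, u ≠ 0 → ∃ v ∈ W, Cfsg.hermForm n F q u v ≠ 0) ∧
        W.map (Matrix.toLin' (x : Matrix (Fin n) (Fin n) F)) ≤ W) ↔
    ((r = p ∧ 2 < p ∧ (∀ μ : Multiset ℕ, (∀ a ∈ μ, 0 < a ∧ a ≤ p) → μ.sum = n → ∃ ν : Multiset ℕ, ν ≤ μ ∧ ν.sum = m)) ∨
     (r = p ∧ p = 2 ∧ (Odd n ∨ Even m)) ∨
     (r = 2 ∧ p ≠ 2 ∧ (Odd n ∨ Even m ∨ (padicValNat 2 n ≤ padicValNat 2 (q + 1) ∧ q % 4 = 3))) ∨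
     (r ≠ p ∧ 2 < r ∧ ((i ≠ 2 ∧ c ≤ m ∧ m % c ≤ n % c) ∨ (i = 2 ∧ (r ∣ m ∨ padicValNat r n ≤ padicValNat r (q + 1)))))) := by
  classical
  obtain ⟨C⟩ := CfsgLib.Classical.uctx_exists hq
  have hndeq : ∀ W : Submodule F (Fin n → F), (∀ u ∈ W, u ≠ 0 → ∃ v ∈ W, Cfsg.hermForm n F q u v ≠ 0) ↔ Nd C W := fun W => by
    simp only [hermForm_eq C]
    exact (nd_iff W).symm
  rw [Nat.card_congr (Equiv.subtypeEquivRight (q := fun W : Submodule F (Fin n → F) => Module.finrank F W = m ∧ Nd C W)
    fun W => by rw [hndeq W])] at hrΩ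
  have key : Fixes C n m r ↔
      ((r = p ∧ 2 < p ∧ (∀ μ : Multiset ℕ, (∀ a ∈ μ, 0 < a ∧ a ≤ p) → μ.sum = n → ∃ ν : Multiset ℕ, ν ≤ μ ∧ ν.sum = m)) ∨
       (r = p ∧ p = 2 ∧ (Odd n ∨ Even m)) ∨
       (r = 2 ∧ p ≠ 2 ∧ (Odd n ∨ Even m ∨ (padicValNat 2 n ≤ padicValNat 2 (q + 1) ∧ q % 4 = 3))) ∨
       (r ≠ p ∧ 2 < r ∧ ((i ≠ 2 ∧ c ≤ m ∧ m % c ≤ n % c) ∨ (i = 2 ∧ (r ∣ m ∨ padicValNat r n ≤ padicValNat r (q + 1)))))) := by
    have hr : r.Prime := Fact.out
    have hp : p.Prime := Fact.out
    have hmn' : m ≤ n := by omega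
    by_cases hrp : r = p
    · subst hrp
      rw [fixes_char C hq hn hmn']
      rcases hp.two_le.lt_or_eq with h | h
      · exact ⟨fun h' => Or.inl ⟨rfl, h, h'⟩, fun h' => by
          rcases h' with ⟨-, -, h'⟩ | ⟨-, h', -⟩ | ⟨h', -⟩ | ⟨h', -⟩
          · exact h'
          · omega
          · omega
          · exact absurd rfl h'⟩
      · rw [← h, parts_two hmn']
        exact ⟨fun h' => Or.inr (Or.inl ⟨rfl, rfl, h'⟩), fun h' => by
          rcases h' with ⟨-, h', -⟩ | ⟨-, -, h'⟩ | ⟨-, h', -⟩ | ⟨-, h', -⟩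
          · omega
          · exact h'
          · exact absurd rfl h'
          · omega⟩
    by_cases hr2 : r = 2
    · subst hr2
      have h2F : (2 : F) ≠ 0 := fun h => hrp ((Nat.prime_dvd_prime_iff_eq hp hr).1
        ((CharP.cast_eq_zero_iff F p 2).1 (by exact_mod_cast h))).symm
      have h11 : (-1 : F) ≠ 1 := fun h => h2F (by linear_combination -h)
      have hq1 : 2 ∣ q + 1 := by
        obtain ⟨a, -, hqa⟩ := q_prime_power (F := F) (p := p) hq
        have : Odd q := hqa ▸ (hp.odd_of_ne_two (Ne.symm hrp)).pow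
        rw [Nat.odd_iff] at this; omega
      obtain ⟨v, hv⟩ : ∃ v, v = padicValNat 2 (q + 1) := ⟨_, rfl⟩
      have hv1 : 1 ≤ v := hv ▸ (padicValNat_dvd_iff_le (by omega)).1 (by rwa [pow_one])
      obtain ⟨t, ht⟩ : 2 ^ v ∣ q + 1 := hv ▸ pow_padicValNat_dvd
      have htodd : t % 2 = 1 := by
        by_contra h
        have : 2 ^ (v + 1) ∣ q + 1 := ⟨t / 2, by rw [ht, pow_succ, mul_assoc]; congr 1; omega⟩
        rw [hv] at this
        exact pow_succ_padicValNat_not_dvd (p := 2) (by omega) this
      rw [← hv]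
      constructor
      · intro hfix
        refine Or.inr (Or.inr (Or.inl ⟨rfl, fun h => hrp h.symm, ?_⟩))
        by_contra hno
        simp only [not_or, Nat.not_odd_iff_even, Nat.not_even_iff_odd] at hno
        obtain ⟨⟨h', hh'⟩, hmodd, hno⟩ := hno
        obtain ⟨z, hz⟩ := CfsgLib.Classical.HermTori.exists_of_order F (k := 2 ^ v) ((Dvd.intro t ht.symm).trans ⟨q - 1, by
          rw [hq, ← Nat.sq_sub_sq, one_pow]⟩)
        have hzq : z ^ (q + 1) = 1 := orderOf_dvd_iff_pow_eq_one.1 (hz ▸ Dvd.intro t ht.symm)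
        have hz1 : z ^ 2 ^ (v - 1) = -1 := by
          have h1 : (z ^ 2 ^ (v - 1)) ^ 2 = 1 := by
            rw [← pow_mul, ← pow_succ, show v - 1 + 1 = v by omega, ← hz, pow_orderOf_eq_one]
          refine (sq_eq_one_iff.1 h1).resolve_left fun h => ?_
          have := Nat.le_of_dvd (pow_pos two_pos _) (hz ▸ orderOf_dvd_of_pow_eq_one h)
          have := Nat.pow_lt_pow_right (by norm_num : 1 < 2) (show v - 1 < v by omega)
          omega
        obtain ⟨M, h1, h2, h3⟩ := exists_nonpower_elem C (n := n) (k := h') (m := 1) (by omega) (z := z)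
          (by rw [C.bar_eq, ← pow_succ']; exact hzq)
        have hdet : ((-1) ^ 1 * z) ^ h' = 1 := by
          rw [pow_one, mul_pow]
          by_cases hvn : v < padicValNat 2 n
          · obtain ⟨e, he⟩ : 2 ^ (v + 1) ∣ n := (padicValNat_dvd_iff_le (by omega)).2 (by omega)
            have hh : h' = 2 ^ v * e := by
              have : n = 2 * (2 ^ v * e) := by rw [he, pow_succ]; ring
              omega
            rw [hh, pow_mul z, ← hz, pow_orderOf_eq_one, one_pow, mul_one]
            have hev2 : Even (2 ^ v) := Nat.even_pow.2 ⟨even_two, by omega⟩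
            exact Even.neg_one_pow ((hz ▸ hev2 : Even (orderOf z)).mul_right _)
          · have h4 : q % 4 ≠ 3 := fun h => hno ⟨by omega, h⟩
            have hv2 : v = 1 := by
              by_contra hne
              have : 2 ^ 2 ∣ q + 1 := (pow_dvd_pow 2 (by omega)).trans (Dvd.intro t ht.symm)
              omega
            subst hv2
            rw [Nat.sub_self, pow_zero, pow_one] at hz1
            rw [hz1, ← mul_pow, neg_mul_neg, one_mul, one_pow]
        refine not_fixes hq hmn' hfix h1 (h2.trans hdet) h3 fun W hW hWn hWf => ?_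
        have hT : (Matrix.toLin' M : Module.End F (Fin n → F)) ^ 2 = z • LinearMap.id := by
          rw [map_sub, map_pow, Polynomial.aeval_X, Polynomial.aeval_C, sub_eq_zero] at h3
          rw [h3]
          exact LinearMap.ext fun u => by simp [Module.algebraMap_end_apply]
        obtain ⟨w, A, B, hw, hw0, -, -, -, -, hsplit, -, -, hcases⟩ := involution hq h2F h1 hT hzq
        rcases hcases with ⟨hN, -⟩ | ⟨-, hA, hB⟩
        · rw [C.bar_eq, ← pow_succ'] at hN
          refine h11 ?_
          rw [ht, show 2 ^ v * t = 2 * (2 ^ (v - 1) * t) by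
            rw [← mul_assoc, ← pow_succ', show v - 1 + 1 = v by omega], pow_mul, hw, pow_mul, hz1,
            (Nat.odd_iff.2 htodd).neg_one_pow] at hN
          exact hN
        · have ha := sing_in_nd hWn (inf_le_left : W ⊓ A ≤ W) (fun u hu v hv => hA u hu.2 v hv.2)
          have hb' := sing_in_nd hWn (inf_le_left : W ⊓ B ≤ W) (fun u hu v hv => hB u hu.2 v hv.2)
          have := (hsplit W hW).2
          rw [Nat.odd_iff] at hmodd
          omega
      · intro hcond x hx ⟨z, hz⟩ _
        obtain ⟨-, -, hcond⟩ : 2 = 2 ∧ p ≠ 2 ∧ (Odd n ∨ Even m ∨ v ≥ padicValNat 2 n ∧ q % 4 = 3) := by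
          rcases hcond with ⟨h, -⟩ | ⟨h, -⟩ | h | ⟨-, h, -⟩
          · exact absurd h hrp
          · exact absurd h hrp
          · exact h
          · omega
        obtain ⟨hI, hT, hzn⟩ := elem_setup C (by omega) hx hz
        obtain ⟨w, A, B, hw, hw0, hAi, hBi, hA, hB, hsplit, hdim, hdet, hcases⟩ := involution hq h2F hI hT hzn
        rcases hcases with ⟨hN, horth, hAn, hBn⟩ | ⟨hN, hAs, hBs⟩
        · obtain ⟨W₁, hW₁, hW₁i, hW₁n, hW₁f⟩ := scalar_nd hq hA hAn (j := min m (Module.finrank F A)) (by omega)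
          obtain ⟨W₂, hW₂, hW₂i, hW₂n, hW₂f⟩ := scalar_nd hq hB hBn (j := m - min m (Module.finrank F A)) (by omega)
          have ho : W₂ ≤ perp C W₁ := fun v hv u hu => C.form_swap_zero (horth u (hW₁ hu) v (hW₂ hv))
          refine ⟨W₁ ⊔ W₂, ?_, nd_sup hW₁n hW₂n ho, inv_sup hW₁i hW₂i⟩
          rw [finrank_sup_perp hW₁n ho, hW₁f, hW₂f]
          omega
        · have hA2 := sing_two_mul_le hAs
          have hB2 := sing_two_mul_le hBs
          have hme : Even m := by
            rcases hcond with h | h | ⟨h, h4⟩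
            · rw [Nat.odd_iff] at h; omega
            · exact h
            exfalso
            have he : Module.finrank F A = n / 2 := by omega
            have he' : Module.finrank F B = n / 2 := by omega
            rw [LinearMap.det_toLin', x.det_coe, he, he', neg_pow, mul_left_comm, ← pow_add,
              show n / 2 + n / 2 = n by omega] at hdet
            obtain ⟨a, ha⟩ : ∃ a, a = padicValNat 2 n := ⟨_, rfl⟩
            rw [← ha] at h
            obtain ⟨u, hu⟩ : 2 ^ a ∣ n := ha ▸ pow_padicValNat_dvd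
            have ha1 : 1 ≤ a := ha ▸ (padicValNat_dvd_iff_le (by omega)).1 (by rw [pow_one]; omega)
            have huo : u % 2 = 1 := by
              by_contra hne
              have : 2 ^ (a + 1) ∣ n := ⟨u / 2, by rw [hu, pow_succ, mul_assoc]; congr 1; omega⟩
              rw [ha] at this
              exact pow_succ_padicValNat_not_dvd (p := 2) (by omega) this
            obtain ⟨e, he2⟩ : ∃ e, e = 2 ^ (v - a) * t := ⟨_, rfl⟩
            have hne : n * e = (q + 1) * u := by
              have : 2 ^ v = 2 ^ a * 2 ^ (v - a) := by rw [← pow_add]; congr 1; omega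
              rw [hu, he2, ht, this]; ring
            have h1 : (w ^ n) ^ e = -1 := by
              rw [← pow_mul, hne, pow_mul, pow_succ', ← C.bar_eq, hN, (Nat.odd_iff.2 huo).neg_one_pow]
            have hwn : w ^ n = (-1) ^ (n / 2) := by
              rcases neg_one_pow_eq_or F (n / 2) with h5 | h5 <;> rw [h5] at hdet ⊢
              · linear_combination -hdet
              · linear_combination hdet
            have hev : Even (n / 2 * e) := by
              rcases ha1.lt_or_eq with h5 | h5
              · refine Even.mul_right (even_iff_two_dvd.2 ?_) _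
                have h6 : 2 ^ 2 ∣ n := (pow_dvd_pow 2 (show 2 ≤ a by omega)).trans (Dvd.intro u hu.symm)
                omega
              · refine Even.mul_left ?_ _
                rw [he2]
                refine Even.mul_right (Nat.even_pow.2 ⟨even_two, ?_⟩) _
                intro hva
                have hv2 : v = 1 := by omega
                subst hv2
                omega
            rw [hwn, ← pow_mul, hev.neg_one_pow] at h1
            exact h11 h1.symm
          obtain ⟨m', hm'⟩ := hme
          obtain ⟨K, hK, hex⟩ := block_chain hI two_pos (S₀ := ⊤) (fun S _ hS hnd hne => by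
            obtain ⟨u, hu, hu0⟩ : ∃ u ∈ S ⊓ A, u ≠ 0 := by
              by_contra hcon
              push Not at hcon
              refine hne ((Submodule.eq_bot_iff S).2 fun u hu => hnd u hu fun v hv => ?_)
              have hle : S ≤ B := by
                rw [(hsplit S hS).1, show S ⊓ A = ⊥ from (Submodule.eq_bot_iff _).2 hcon, bot_sup_eq]
                exact inf_le_right
              exact hBs u (hle hu) v (hle hv)
            obtain ⟨v', hv', huv⟩ : ∃ v' ∈ S ⊓ B, C.form u v' ≠ 0 := by
              by_contra hcon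
              push Not at hcon
              refine hu0 (hnd u hu.1 fun v hv => ?_)
              rw [(hsplit S hS).1] at hv
              obtain ⟨a, ha, b, hb, rfl⟩ := Submodule.mem_sup.1 hv
              rw [C.form_add_right, hAs u hu.2 a ha.2, hcon b hb, add_zero]
            have hv0 : v' ≠ 0 := fun e => huv (by rw [e, C.form_zero_right])
            refine ⟨Submodule.span F {u} ⊔ Submodule.span F {v'}, sup_le ((Submodule.span_singleton_le_iff_mem _ _).2 hu.1)
              ((Submodule.span_singleton_le_iff_mem _ _).2 hv'.1), inv_sup (fun a ha => ?_) (fun a ha => ?_), ?_, ?_⟩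
            · rw [hA a ((Submodule.span_singleton_le_iff_mem _ _).2 hu.2 ha)]
              exact Submodule.smul_mem _ _ ha
            · rw [hB a ((Submodule.span_singleton_le_iff_mem _ _).2 hv'.2 ha)]
              exact Submodule.smul_mem _ _ ha
            · intro y hy hyo
              obtain ⟨_, hy1, _, hy2, rfl⟩ := Submodule.mem_sup.1 hy
              obtain ⟨a, rfl⟩ := Submodule.mem_span_singleton.1 hy1
              obtain ⟨b, rfl⟩ := Submodule.mem_span_singleton.1 hy2
              have e1 := hyo v' (Submodule.mem_sup_right (Submodule.mem_span_singleton_self v'))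
              have e2 := hyo u (Submodule.mem_sup_left (Submodule.mem_span_singleton_self u))
              simp only [C.form_add_left, C.form_smul_left, hAs u hu.2 u hu.2, hBs v' hv'.2 v' hv'.2, mul_zero, add_zero,
                zero_add] at e1 e2
              have hvu : C.form v' u ≠ 0 := fun h => huv (C.form_swap_zero h)
              rw [(mul_eq_zero.1 e1).resolve_right huv, (mul_eq_zero.1 e2).resolve_right hvu, zero_smul, zero_smul,
                add_zero]
            · have h1 := Submodule.finrank_sup_add_finrank_inf_eq (Submodule.span F {u}) (Submodule.span F {v'})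
              have hd : Submodule.span F {u} ⊓ Submodule.span F {v'} = ⊥ := (Submodule.eq_bot_iff _).2 fun y hy => by
                obtain ⟨a, rfl⟩ := Submodule.mem_span_singleton.1 hy.1
                obtain ⟨b, hb⟩ := Submodule.mem_span_singleton.1 hy.2
                have e := congrArg (fun y => C.form y v') hb
                simp only [C.form_smul_left, hBs v' hv'.2 v' hv'.2, mul_zero] at e
                rw [(mul_eq_zero.1 e.symm).resolve_right huv, zero_smul]
              rw [hd, finrank_bot, add_zero, finrank_span_singleton hu0, finrank_span_singleton hv0] at h1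
              omega) le_rfl (inv_top _) nd_top
          rw [finrank_top, Module.finrank_fin_fun] at hK
          obtain ⟨W, -, hW, hWn, hWf⟩ := hex m' (by omega)
          exact ⟨W, by omega, hWn, hW⟩
    -- odd primes different from the characteristic
    have hr3 : 2 < r := lt_of_le_of_ne hr.two_le (Ne.symm hr2)
    obtain ⟨hbo, -⟩ := factor_degree' (F := F) (p := p) hq hrp hi hb
    have hbpos : 0 < b := hbo ▸ order_pos (p := p) hrp
    have hev : i % 2 = 0 → b = i / 2 := fun h => by rw [hb, if_pos (Nat.even_iff.2 h)]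
    have hod : i % 2 = 1 → b = i := fun h => by rw [hb, if_neg (by rw [Nat.even_iff]; omega)]
    have hc' : c = if i % 4 = 2 then b else 2 * b := by rw [hc]; split_ifs <;> omega
    have hcpos : 0 < c := by rw [hc']; split_ifs <;> omega
    have hkm : n % c < m := nd_count_prime C hq hmn' hrΩ hrp hr2 hi hc
    have hrq : ¬ r ∣ q + 1 ↔ i ≠ 2 := by
      haveI : Fact (2 < r) := ⟨hr3⟩
      rw [← ZMod.natCast_eq_zero_iff, Nat.cast_add, Nat.cast_one]
      constructor
      · intro h h2
        refine h ?_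
        have h1 : (q : ZMod r) ^ 2 = 1 := by rw [← h2, hi]; exact pow_orderOf_eq_one _
        rcases sq_eq_one_iff.1 h1 with h3 | h3
        · rw [hi, h3, orderOf_one] at h2; omega
        · rw [h3, neg_add_cancel]
      · intro h h0
        rw [add_eq_zero_iff_eq_neg] at h0
        exact h (hi.trans (orderOf_eq_prime (by rw [h0]; ring) (by rw [h0]; exact ZMod.neg_one_ne_one)))
    have hrF := natCast_ne_zero_of_ne (F := F) (p := p) hrp
    have hd : r ∣ q + 1 → r ∣ Fintype.card F - 1 := fun h => h.trans ⟨q - 1, by rw [hq, ← Nat.sq_sub_sq, one_pow]⟩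
    constructor
    · intro hfix
      refine Or.inr (Or.inr (Or.inr ⟨hrp, hr3, ?_⟩))
      by_cases hi2 : i = 2
      · refine Or.inr ⟨hi2, ?_⟩
        by_contra hno
        push Not at hno
        obtain ⟨hrm, hv⟩ := hno
        obtain ⟨v, hvdef⟩ : ∃ v, v = padicValNat r (q + 1) := ⟨_, rfl⟩
        rw [← hvdef] at hv
        have hq1 : r ∣ q + 1 := not_not.1 fun hh => hrq.1 hh hi2
        have hv1 : 1 ≤ v := hvdef ▸ (padicValNat_dvd_iff_le (by omega)).1 (by rwa [pow_one])
        have hvd : r ^ v ∣ q + 1 := hvdef ▸ pow_padicValNat_dvd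
        obtain ⟨z, hz⟩ := CfsgLib.Classical.HermTori.exists_of_order F (k := r ^ v) (hvd.trans ⟨q - 1, by
          rw [hq, ← Nat.sq_sub_sq, one_pow]⟩)
        have hzq : z ^ (q + 1) = 1 := orderOf_dvd_iff_pow_eq_one.1 (hz ▸ hvd)
        have hznp : ∀ l : F, l ^ r ≠ z := by
          intro l hl
          obtain ⟨w, hw, hwN⟩ := exists_root C hq hr2 hzq (Or.inr ⟨l, hl⟩)
          rw [C.bar_eq, ← pow_succ'] at hwN
          obtain ⟨t, ht⟩ := hvd
          have h1 : z ^ (r ^ (v - 1) * t) = 1 := by
            rw [← hw, ← pow_mul, ← mul_assoc, ← pow_succ', show v - 1 + 1 = v by omega, ← ht, hwN]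
          have h2 : r ^ v ∣ r ^ (v - 1) * t := hz ▸ orderOf_dvd_of_pow_eq_one h1
          rw [show v = v - 1 + 1 by omega, pow_succ, show v - 1 + 1 - 1 = v - 1 by omega] at h2
          obtain ⟨t', ht'⟩ := Nat.dvd_of_mul_dvd_mul_left (pow_pos hr.pos _) h2
          have h3 : r ^ (v + 1) ∣ q + 1 := ⟨t', by rw [ht, ht', pow_succ, mul_assoc]⟩
          have := (padicValNat_dvd_iff_le (show q + 1 ≠ 0 by omega)).1 h3
          omega
        obtain ⟨k, hk⟩ : r ^ (v + 1) ∣ n := (padicValNat_dvd_iff_le (by omega)).2 (by omega)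
        obtain ⟨M, h1, h2, h3⟩ := exists_nonpower_elem C (n := n) (k := r ^ v * k) (m := r - 1)
          (by rw [show r - 1 + 1 = r by omega, hk, pow_succ]; ring)
          (z := z) (by rw [C.bar_eq, ← pow_succ']; exact hzq)
        rw [show r - 1 + 1 = r by omega] at h3
        refine not_fixes hq hmn' hfix h1 ?_ h3 fun W hW hWn hWm => hrm ?_
        · rw [h2, mul_pow, ← pow_mul, pow_mul z, ← hz, pow_orderOf_eq_one, one_pow, mul_one]
          exact Even.neg_one_pow ((Nat.even_iff.2 (by have := hr.eq_two_or_odd; omega)).mul_right _)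
        · rw [← hWm]
          refine (nonpower_sub hq hr2 h1 hrF ?_ hznp hzq hq1).1 W hW
          rw [map_sub, map_pow, Polynomial.aeval_X, Polynomial.aeval_C, sub_eq_zero] at h3
          rw [h3]
          exact LinearMap.ext fun u => by simp [Module.algebraMap_end_apply]
      · refine Or.inl ⟨hi2, ?_⟩
        by_contra hno
        have hcn : c ≤ n := by
          by_contra hlt
          rw [Nat.mod_eq_of_lt (not_le.1 hlt)] at hkm
          omega
        obtain ⟨M, h1, h2, h3, h4⟩ := exists_fixed C hq hrp hr2 hi hb hc' (hrq.2 hi2) (K := n / c) (e := n % c)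
          (n := n) (by rw [mul_comm]; exact (Nat.mod_add_div n c).symm)
        refine not_fixes hq hmn' hfix h1 h2 h3 fun W hW hWn hWm => hno ?_
        have hT : (Matrix.toLin' M : Module.End F (Fin n → F)) ^ r = 1 := by
          rw [map_sub, map_pow, Polynomial.aeval_X, Polynomial.aeval_C, map_one, sub_eq_zero] at h3
          exact h3
        obtain ⟨e, K, -, he, -, hall'⟩ := nd_invariant hq hrp hr2 h1 hT hi hb hc'
        rw [h4] at he
        obtain ⟨a, j, ha, haj⟩ := hall' W hW hWn
        rw [hWm] at haj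
        refine ⟨?_, ?_⟩
        · rcases Nat.eq_zero_or_pos j with hj | hj
          · rw [hj, zero_mul, add_zero] at haj; omega
          · have := Nat.mul_le_mul_right c hj
            omega
        · have : m % c = a % c := by rw [haj, Nat.add_mul_mod_self_right]
          have := Nat.mod_le a c
          omega
    · intro hcond x hx ⟨z, hz⟩ _
      have hcase : (i ≠ 2 ∧ c ≤ m ∧ m % c ≤ n % c) ∨ (i = 2 ∧ (r ∣ m ∨ padicValNat r n ≤ padicValNat r (q + 1))) := by
        rcases hcond with ⟨h, -⟩ | ⟨h, -⟩ | ⟨h, -⟩ | ⟨-, -, h⟩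
        · exact absurd h hrp
        · exact absurd h hrp
        · exact absurd h hr2
        · exact h
      obtain ⟨hI, hT, hzn⟩ := elem_setup C (by omega) hx hz
      by_cases hpow : ∃ l : F, l ^ r = z
      swap
      · push Not at hpow
        have hi2 : i = 2 := by
          by_contra h
          obtain ⟨w, hw, -⟩ := exists_root C hq hr2 hzn (Or.inl (hrq.2 h))
          exact hpow w hw
        have hq1 : r ∣ q + 1 := not_not.1 fun hh => hrq.1 hh hi2
        obtain ⟨-, -, hnd⟩ := nonpower_sub hq hr2 hI hrF hT hpow hzn hq1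
        have hrm : r ∣ m := by
          rcases hcase with ⟨h, -⟩ | ⟨-, h | h⟩
          · exact absurd hi2 h
          · exact h
          exfalso
          obtain ⟨hrn, hdet⟩ := det_of_pow_eq_nonpower hr hrF _ hT hpow
          rw [Module.finrank_fin_fun] at hrn hdet
          rw [LinearMap.det_toLin', x.det_coe, (Nat.even_iff.2 (by have := hr.eq_two_or_odd; omega)).neg_one_pow,
            one_mul] at hdet
          have hz0 : z ≠ 0 := fun e => hpow 0 (by rw [e, zero_pow hr.ne_zero])
          obtain ⟨l, hl⟩ := exists_root_of_pow_eq_one (hd hq1) hz0 (by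
            refine orderOf_dvd_iff_pow_eq_one.1 ?_
            rw [Nat.dvd_div_iff_mul_dvd (hd hq1), hq, ← one_pow 2, Nat.sq_sub_sq]
            refine dvd_mul_of_dvd_left ?_ _
            have hn1 : r * orderOf z ∣ n := by
              have := mul_dvd_mul_left r (orderOf_dvd_of_pow_eq_one hdet.symm)
              rwa [Nat.mul_div_cancel' hrn] at this
            have hq' := orderOf_dvd_of_pow_eq_one hzn
            obtain ⟨k, u, hu, hku⟩ := Nat.exists_eq_pow_mul_and_not_dvd
              (show orderOf z ≠ 0 from fun h0 => by rw [h0, zero_dvd_iff] at hq'; omega) r hr.ne_one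
            rw [hku, ← mul_assoc, ← pow_succ']
            refine Nat.Coprime.mul_dvd_of_dvd_of_dvd (Nat.Coprime.pow_left _ ((hr.coprime_iff_not_dvd).2 hu)) ?_ ?_
            · refine (padicValNat_dvd_iff_le (show q + 1 ≠ 0 by omega)).2 (le_trans ?_ h)
              refine (padicValNat_dvd_iff_le (show n ≠ 0 by omega)).1 (Dvd.dvd.trans ?_ hn1)
              rw [hku, pow_succ']
              exact mul_dvd_mul_left r (dvd_mul_right _ _)
            · exact (Dvd.intro_left _ hku.symm).trans hq')
          exact hpow l hl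
        obtain ⟨j, hj⟩ := hrm
        obtain ⟨W, h1, h2, h3⟩ := hnd j (by rw [mul_comm j r, ← hj]; exact hmn')
        exact ⟨W, by rw [h3, mul_comm, ← hj], h2, h1⟩
      · obtain ⟨w, hw, hwN⟩ := exists_root C hq hr2 hzn (Or.inr hpow)
        obtain ⟨hI', hT', hinv⟩ := rescale hI hT hw hwN
        obtain ⟨e, K, hne, -, hex, -⟩ := nd_invariant hq hrp hr2 hI' hT' hi hb hc'
        have hek : n % c ≤ e := by rw [hne, Nat.add_mul_mod_self_right]; exact Nat.mod_le e c
        obtain ⟨j, hj⟩ : ∃ j, j = min (m / c) K := ⟨_, rfl⟩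
        have hle : j * c ≤ m ∧ m - j * c ≤ e := by
          have h0 := Nat.mod_add_div m c
          rw [mul_comm] at h0
          rcases Nat.le_total (m / c) K with h | h
          · rw [min_eq_left h] at hj
            rw [← hj] at h0
            refine ⟨by omega, ?_⟩
            rcases hcase with ⟨-, -, h'⟩ | ⟨hi2, -⟩
            · omega
            · have : c = 1 := by rw [hc', if_pos (by omega), hev (by omega), hi2]
              subst this
              omega
          · rw [min_eq_right h] at hj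
            subst hj
            have := Nat.mul_le_mul_right c h
            omega
        obtain ⟨W, h1, h2, h3⟩ := hex (m - j * c) j hle.2 (by omega)
        exact ⟨W, by omega, h2, hinv W h1⟩
  rw [← key]
  simp only [Fixes, hndeq, map_le_iff_inv]

end Cfsg.Agent.S5954
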