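import Cfsg.Statements.S5955
import Mathlib
import Cfsg.Agent.Lib.Perm.Elusive.SympClassElement

set_option autoImplicit false
set_option linter.all false
open scoped MatrixGroups
open Cfsg

namespace Cfsg.Agent.S5955

section Aux

variable {F : Type*} [Field F] {V : Type*} [AddCommGroup V] [Module F V] [FiniteDimensional F V]
variable {B : LinearMap.BilinForm F V}

theorem exists_sub_dim (S : Submodule F V) {m : ℕ} (hm : m ≤ Module.finrank F S) :
    ∃ W ≤ S, Module.finrank F W = m := by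
  obtain ⟨f, hf⟩ := exists_linearIndependent_of_le_finrank hm
  refine ⟨(Submodule.span F (Set.range f)).map S.subtype, Submodule.map_subtype_le _ _, ?_⟩
  rw [Submodule.finrank_map_subtype_eq, finrank_span_eq_card hf, Fintype.card_fin]

theorem glue (hR : B.IsRefl) (T : V →ₗ[F] V) {X Y : Submodule F V} (hX : ∀ u ∈ X, T u ∈ X) (hY : ∀ u ∈ Y, T u ∈ Y)
    (hXi : ∀ u ∈ X, ∀ v ∈ X, B u v = 0) (hYi : ∀ u ∈ Y, ∀ v ∈ Y, B u v = 0) (hXY : ∀ u ∈ X, ∀ v ∈ Y, B u v = 0)
    (hd : Disjoint X Y) :
    ∃ W : Submodule F V, (∀ u ∈ W, T u ∈ W) ∧ (∀ u ∈ W, ∀ v ∈ W, B u v = 0) ∧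
      Module.finrank F W = Module.finrank F X + Module.finrank F Y := by
  refine ⟨X ⊔ Y, ?_, ?_, ?_⟩
  · intro u hu
    obtain ⟨a, ha, b, hb, rfl⟩ := Submodule.mem_sup.1 hu
    rw [map_add]
    exact Submodule.add_mem_sup (hX a ha) (hY b hb)
  · intro u hu v hv
    obtain ⟨a, ha, b, hb, rfl⟩ := Submodule.mem_sup.1 hu
    obtain ⟨a', ha', b', hb', rfl⟩ := Submodule.mem_sup.1 hv
    simp only [map_add, LinearMap.add_apply, hXi a ha a' ha', hYi b hb b' hb', hXY a ha b' hb',
      hR _ _ (hXY a' ha' b hb), add_zero]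
  · have h := Submodule.finrank_sup_add_finrank_inf_eq X Y
    rwa [hd.eq_bot, finrank_bot, add_zero] at h

theorem scalar_iso (hA : B.IsAlt) (hN : B.Nondegenerate) (T : V →ₗ[F] V) (hI : ∀ u v, B (T u) (T v) = B u v)
    (hinj : Function.Injective T)
    (hss : ∀ W : Submodule F V, (∀ u ∈ W, T u ∈ W) → ∃ Q : Submodule F V, (∀ u ∈ Q, T u ∈ Q) ∧ IsCompl W Q)
    {S : Submodule F V} {c : F} (hS : ∀ u ∈ S, T u = c • u) {j : ℕ} (hj : j = 0 ∨ 2 * (j - 1) < Module.finrank F S) :
    ∃ W ≤ S, (∀ u ∈ W, T u ∈ W) ∧ (∀ u ∈ W, ∀ v ∈ W, B u v = 0) ∧ Module.finrank F W = j := by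
  obtain ⟨W, h1, h2, h3, h4⟩ := CfsgLib.Perm.Elusive.exists_iso_invariant hA.isRefl hN T hI hinj hss
    (fun u hu => hS u hu ▸ S.smul_mem c hu) (w₀ := 1) (c₀ := 0) (fun C hC _ hpos => by
      obtain ⟨v, hv, hv0⟩ := Submodule.exists_mem_ne_zero_of_ne_bot (fun h : C = ⊥ => by
        rw [h, finrank_bot] at hpos; exact lt_irrefl 0 hpos)
      refine ⟨Submodule.span F {v}, (Submodule.span_singleton_le_iff_mem _ _).2 hv, fun u hu => ?_, fun u hu w hw => ?_,
        finrank_span_singleton hv0⟩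
      · rw [hS u (hC ((Submodule.span_singleton_le_iff_mem _ _).2 hv hu))]
        exact Submodule.smul_mem _ c hu
      · obtain ⟨a, rfl⟩ := Submodule.mem_span_singleton.1 hu
        obtain ⟨b, rfl⟩ := Submodule.mem_span_singleton.1 hw
        simp [hA v]) j (by omega)
  exact ⟨W, h1, h2, h3, by rw [h4, mul_one]⟩

end Aux


/-- Elements of prime order of PSp_n(q) with no fixed totally isotropic `m`-space. Here `T = PSp_n(q)` with `n = 2d ≥ 4`, `(n, q) ≠ (4, 2)`, realised through the symplectic matrices over the field `F` with `q` elements (preserving the standard alternating form); an element of `T` of prime order `r` is such a matrix `x` with `x^r` scalar and `x` not scalar. For `r ≠ p` let `i` be the multiplicative order of `q` modulo `r`, `c = i` for `i` even and `c = 2i` for `i` odd, and write `k = n mod c`, `ℓ = m mod i`, `ℓ' = m mod c`, `n' = ⌊n/i⌋`, `m' = ⌊m/i⌋`, `t = (r−1)/i`. Let `1 ≤ m ≤ n/2` and let `r` be a prime dividing the number of totally isotropic `m`-spaces.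 Then every element of `T` of order `r` fixes a totally isotropic `m`-space if and only if either (i) `r = 2 ≠ p` and (`m` is even or `q ≡ 1 (mod 4)`); or (ii) `r ≠ p`, `r > 2`, `i ≤ m`, `k ≥ 2ℓ`, and (`i` is odd or `n' − 2m' ≥ t`). -/
theorem result {F : Type*} [Field F] [Fintype F] {p : ℕ} [Fact p.Prime] [CharP F p] {q : ℕ} (hq : Fintype.card F = q)
    (d m : ℕ) (hd : 2 ≤ d) (hT : (d, q) ≠ (2, 2)) (hm : 1 ≤ m) (hmd : m ≤ d)
    (r : ℕ) [Fact r.Prime]
    (hrΩ : r ∣ Nat.card {W : Submodule F (Fin d ⊕ Fin d → F) // Module.finrank F ↥W = m ∧ (∀ u ∈ W, ∀ v ∈ W, Cfsg.sympForm d F u v = 0)})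
    (i c : ℕ) (hi : i = orderOf (q : ZMod r)) (hc : c = if Even i then i else 2 * i) :
    (∀ x : ↥(Matrix.symplecticGroup (Fin d) F),
      (∃ z : F, ((x ^ r : ↥(Matrix.symplecticGroup (Fin d) F)) : Matrix (Fin d ⊕ Fin d) (Fin d ⊕ Fin d) F) = z • (1 : Matrix (Fin d ⊕ Fin d) (Fin d ⊕ Fin d) F)) →
      (∀ z : F, (x : Matrix (Fin d ⊕ Fin d) (Fin d ⊕ Fin d) F) ≠ z • (1 : Matrix (Fin d ⊕ Fin d) (Fin d ⊕ Fin d) F)) →
      ∃ W : Submodule F (Fin d ⊕ Fin d → F), Module.finrank F ↥W = m ∧ (∀ u ∈ W, ∀ v ∈ W, Cfsg.sympForm d F u v = 0) ∧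
        W.map (Matrix.toLin' (x : Matrix (Fin d ⊕ Fin d) (Fin d ⊕ Fin d) F)) ≤ W) ↔
    ((r = 2 ∧ p ≠ 2 ∧ (Even m ∨ q % 4 = 1)) ∨
     (r ≠ p ∧ 2 < r ∧ i ≤ m ∧ 2 * (m % i) ≤ (2 * d) % c ∧ (Odd i ∨ (r - 1) / i + 2 * (m / i) ≤ (2 * d) / i))) := by
  classical
  obtain ⟨hrp, j₀, hj₀, hdvd⟩ := CfsgLib.Perm.Elusive.iso_dvd_data (p := p) hmd hrΩ
  subst hq
  rw [← hi] at hdvd
  have hr : r.Prime := Fact.out
  have hA : (CfsgLib.Classical.SympCount.sB d F).IsAlt := CfsgLib.Classical.SympCount.sB_isAlt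
  have hR := hA.isRefl
  have hN : (CfsgLib.Classical.SympCount.sB d F).Nondegenerate := CfsgLib.Classical.SympCount.sB_nondegenerate
  have hV : Module.finrank F (Fin d ⊕ Fin d → F) = 2 * d := by
    rw [Module.finrank_fintype_fun_eq_card, Fintype.card_sum, Fintype.card_fin]; omega
  have hiso : ∀ x : ↥(Matrix.symplecticGroup (Fin d) F), ∀ u v,
      CfsgLib.Classical.SympCount.sB d F (Matrix.toLin' (x : Matrix (Fin d ⊕ Fin d) (Fin d ⊕ Fin d) F) u)
        (Matrix.toLin' (x : Matrix (Fin d ⊕ Fin d) (Fin d ⊕ Fin d) F) v) = CfsgLib.Classical.SympCount.sB d F u v := fun x u v => by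
    rw [Matrix.toLin'_apply, Matrix.toLin'_apply]
    exact CfsgLib.Sp.sf_sp x u v
  obtain ⟨u₀, v₀, huv⟩ : ∃ u v, CfsgLib.Classical.SympCount.sB d F u v ≠ 0 := by
    by_contra h0
    push Not at h0
    have h1 := hN.1 (fun _ => 1) (h0 _)
    exact one_ne_zero (congrFun h1 (Sum.inl ⟨0, by omega⟩))
  have hscal : ∀ (T : (Fin d ⊕ Fin d → F) →ₗ[F] (Fin d ⊕ Fin d → F)) (z : F),
      (∀ u v, CfsgLib.Classical.SympCount.sB d F (T u) (T v) = CfsgLib.Classical.SympCount.sB d F u v) →
      T = z • LinearMap.id → z * z = 1 := fun T z hI hT => by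
    have h := hI u₀ v₀
    rw [hT, LinearMap.smul_apply, LinearMap.smul_apply, LinearMap.id_apply, LinearMap.id_apply, map_smul, map_smul,
      LinearMap.smul_apply, smul_eq_mul, smul_eq_mul, ← mul_assoc] at h
    exact mul_right_cancel₀ huv (h.trans (one_mul _).symm)
  have hpowI : ∀ (T : (Fin d ⊕ Fin d → F) →ₗ[F] (Fin d ⊕ Fin d → F)),
      (∀ u v, CfsgLib.Classical.SympCount.sB d F (T u) (T v) = CfsgLib.Classical.SympCount.sB d F u v) →
      ∀ (j : ℕ) u v, CfsgLib.Classical.SympCount.sB d F ((T ^ j) u) ((T ^ j) v) =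
        CfsgLib.Classical.SympCount.sB d F u v := fun T hI j => by
    induction j with
    | zero => intro u v; simp
    | succ j ih => intro u v; rw [pow_succ', Module.End.mul_apply, Module.End.mul_apply, hI, ih]
  have hinjI : ∀ (T : (Fin d ⊕ Fin d → F) →ₗ[F] (Fin d ⊕ Fin d → F)),
      (∀ u v, CfsgLib.Classical.SympCount.sB d F (T u) (T v) = CfsgLib.Classical.SympCount.sB d F u v) →
      Function.Injective T := fun T hI u v h => sub_eq_zero.1 (hN.1 _ fun w => by
    rw [← hI, map_sub, h, sub_self, map_zero, LinearMap.zero_apply])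
  by_cases hr2 : r = 2
  · subst hr2
    have h2F : ((2 : ℕ) : F) ≠ 0 := CfsgLib.Perm.Elusive.natCast_ne_zero_of_ne hrp
    have h2F' : (2 : F) ≠ 0 := by simpa using h2F
    have hodd : Fintype.card F % 2 = 1 := FiniteField.odd_card_of_char_ne_two (by rw [ringChar.eq F p]; exact hrp.symm)
    have hsq4 := FiniteField.isSquare_neg_one_iff (F := F)
    constructor
    · intro hL
      refine Or.inl ⟨rfl, hrp.symm, ?_⟩
      by_contra hcon
      push Not at hcon
      obtain ⟨hmo, hq4⟩ := hcon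
      have hJ2 : (Matrix.J (Fin d) F) * Matrix.J (Fin d) F = -1 := Matrix.J_squared (Fin d) F
      obtain ⟨W, hWd, -, hWm⟩ := hL ⟨Matrix.J (Fin d) F, SymplecticGroup.J_mem _ _⟩ ⟨-1, by
          rw [SubmonoidClass.coe_pow, sq, hJ2, neg_smul, one_smul]⟩ (fun z hz => by
          have h1 := congrFun (congrFun hz (Sum.inl ⟨0, by omega⟩)) (Sum.inr ⟨0, by omega⟩)
          simp [Matrix.J] at h1)
      obtain ⟨T, hTdef⟩ : ∃ T, T = Matrix.toLin' (Matrix.J (Fin d) F) := ⟨_, rfl⟩
      have hinv : ∀ u ∈ W, T u ∈ W := fun u hu => hTdef ▸ hWm ⟨u, hu, rfl⟩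
      have hTT : (T.restrict hinv) * (T.restrict hinv) = (-1 : F) • LinearMap.id := by
        refine LinearMap.ext fun u => Subtype.ext ?_
        show T (T (u : Fin d ⊕ Fin d → F)) = _
        rw [hTdef, Matrix.toLin'_apply, Matrix.toLin'_apply, Matrix.mulVec_mulVec, hJ2]
        simp [Matrix.neg_mulVec]
      have hdet := congrArg LinearMap.det hTT
      rw [map_mul, LinearMap.det_smul, LinearMap.det_id, mul_one, hWd, (Nat.not_even_iff_odd.1 hmo).neg_one_pow] at hdet
      have h4 := hsq4.1 ⟨_, hdet.symm⟩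
      omega
    · intro hcond x hxz _
      obtain ⟨z, hxz⟩ := hxz
      replace hcond : Even m ∨ Fintype.card F % 4 = 1 := by
        rcases hcond with ⟨-, -, h⟩ | ⟨-, h, -⟩
        · exact h
        · omega
      obtain ⟨T, hTdef⟩ : ∃ T, T = Matrix.toLin' (x : Matrix (Fin d ⊕ Fin d) (Fin d ⊕ Fin d) F) := ⟨_, rfl⟩
      have hI := hiso x
      rw [← hTdef] at hI
      have hinj := hinjI T hI
      have hT : T ^ 2 = z • LinearMap.id := by
        rw [hTdef, ← Matrix.toLin'_pow, ← SubmonoidClass.coe_pow, hxz, map_smul, Matrix.toLin'_one]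
      have hTT : ∀ u, T (T u) = z • u := fun u => by
        have h := LinearMap.congr_fun hT u
        rwa [sq, Module.End.mul_apply, LinearMap.smul_apply, LinearMap.id_apply] at h
      have hz2 : z * z = 1 := hscal (T ^ 2) z (hpowI T hI 2) hT
      suffices hW : ∃ W : Submodule F (Fin d ⊕ Fin d → F), (∀ u ∈ W, T u ∈ W) ∧
          (∀ u ∈ W, ∀ v ∈ W, CfsgLib.Classical.SympCount.sB d F u v = 0) ∧ Module.finrank F W = m by
        obtain ⟨W, h1, h2, h3⟩ := hW
        exact ⟨W, h3, h2, by rw [← hTdef]; rintro _ ⟨u, hu, rfl⟩; exact h1 u hu⟩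
      have hsf : Squarefree (Polynomial.X ^ 2 - Polynomial.C z : Polynomial F) :=
        (Polynomial.separable_X_pow_sub_C z h2F (fun h => by simp [h] at hz2)).squarefree
      have hss := CfsgLib.Perm.Elusive.exists_invariant_complement T hsf (LinearMap.ext fun u => by
        simp [Module.algebraMap_end_apply, sq, hTT])
      rcases mul_self_eq_one_iff.1 hz2 with hz | hz
      · subst hz
        obtain ⟨P, hP⟩ : ∃ P, P = LinearMap.ker (T - 1) := ⟨_, rfl⟩
        obtain ⟨M, hM⟩ : ∃ M, M = LinearMap.ker (T + 1) := ⟨_, rfl⟩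
        have hPf : ∀ u ∈ P, T u = (1 : F) • u := fun u hu => by
          rw [hP] at hu; simpa [sub_eq_zero] using hu
        have hMf : ∀ u ∈ M, T u = (-1 : F) • u := fun u hu => by
          rw [hM] at hu; simpa [add_eq_zero_iff_eq_neg] using hu
        have hdis : Disjoint P M := Submodule.disjoint_def.2 fun u h1 h2 => by
          have h := (hPf u h1).symm.trans (hMf u h2)
          rw [one_smul, neg_one_smul, eq_neg_iff_add_eq_zero, ← two_smul F u, smul_eq_zero] at h
          exact h.resolve_left h2F'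
        have hsup : P ⊔ M = ⊤ := Submodule.eq_top_iff'.2 fun u => by
          refine Submodule.mem_sup.2 ⟨(2 : F)⁻¹ • (u + T u), ?_, (2 : F)⁻¹ • (u - T u), ?_, ?_⟩
          · rw [hP, LinearMap.mem_ker]; simp [hTT]; module
          · rw [hM, LinearMap.mem_ker]; simp [hTT]
          · rw [← smul_add, show u + T u + (u - T u) = (2 : F) • u by module, inv_smul_smul₀ h2F']
        have horth : ∀ u ∈ P, ∀ v ∈ M, CfsgLib.Classical.SympCount.sB d F u v = 0 := fun u hu v hv => by
          have h := hI u v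
          rw [hPf u hu, hMf v hv, one_smul, map_smul, smul_eq_mul, neg_one_mul] at h
          exact (mul_eq_zero.1 (show (2 : F) * CfsgLib.Classical.SympCount.sB d F u v = 0 by
            linear_combination -h)).resolve_left h2F'
        have hsum : Module.finrank F P + Module.finrank F M = 2 * d := by
          rw [← hV, Submodule.finrank_add_eq_of_isCompl ⟨hdis, codisjoint_iff.2 hsup⟩]
        obtain ⟨a, ha⟩ : ∃ a, a = min m ((Module.finrank F P + 1) / 2) := ⟨_, rfl⟩
        obtain ⟨X, hXP, hX, hXi, hXd⟩ := scalar_iso hA hN T hI hinj hss hPf (j := a) (by omega)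
        obtain ⟨Y, hYM, hY, hYi, hYd⟩ := scalar_iso hA hN T hI hinj hss hMf (j := m - a) (by omega)
        obtain ⟨W, h1, h2, h3⟩ := glue hR T hX hY hXi hYi (fun u hu v hv => horth u (hXP hu) v (hYM hv))
          (hdis.mono hXP hYM)
        exact ⟨W, h1, h2, by omega⟩
      · subst hz
        by_cases hs : IsSquare (-1 : F)
        · obtain ⟨s, hs⟩ := hs
          have hs0 : s ≠ 0 := fun h => by simp [h] at hs
          have hker : ∀ w : F, w * w = -1 → ∀ u ∈ LinearMap.ker (T - w • 1), ∀ v ∈ LinearMap.ker (T - w • 1),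
              T u = w • u ∧ CfsgLib.Classical.SympCount.sB d F u v = 0 := fun w hw u hu v hv => by
            have hu' : T u = w • u := by simpa [sub_eq_zero] using hu
            have hv' : T v = w • v := by simpa [sub_eq_zero] using hv
            have h := hI u v
            rw [hu', hv', map_smul, map_smul, LinearMap.smul_apply, smul_eq_mul, smul_eq_mul, ← mul_assoc, hw] at h
            exact ⟨hu', (mul_eq_zero.1 (show (2 : F) * CfsgLib.Classical.SympCount.sB d F u v = 0 by
              linear_combination -h)).resolve_left h2F'⟩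
          have hsup : LinearMap.ker (T - s • 1) ⊔ LinearMap.ker (T - (-s) • 1) = ⊤ := Submodule.eq_top_iff'.2 fun u => by
            refine Submodule.mem_sup.2 ⟨(2 * s)⁻¹ • (s • u + T u), ?_, (2 * s)⁻¹ • (s • u - T u), ?_, ?_⟩
            · rw [LinearMap.mem_ker]
              simp only [LinearMap.sub_apply, LinearMap.smul_apply, Module.End.one_apply, map_smul, map_add, hTT, hs]
              module
            · rw [LinearMap.mem_ker]
              simp only [LinearMap.sub_apply, LinearMap.smul_apply, Module.End.one_apply, map_smul, map_sub, hTT, hs]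
              module
            · rw [← smul_add, show s • u + T u + (s • u - T u) = (2 * s) • u by module,
                inv_smul_smul₀ (mul_ne_zero h2F' hs0)]
          have h := Submodule.finrank_add_le_finrank_add_finrank (LinearMap.ker (T - s • 1)) (LinearMap.ker (T - (-s) • 1))
          rw [hsup, finrank_top, hV] at h
          obtain ⟨w, hw, hwd⟩ : ∃ w : F, w * w = -1 ∧ m ≤ Module.finrank F (LinearMap.ker (T - w • 1)) := by
            rcases le_or_gt d (Module.finrank F (LinearMap.ker (T - s • 1))) with h' | h'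
            · exact ⟨s, hs.symm, hmd.trans h'⟩
            · exact ⟨-s, by rw [neg_mul_neg, hs], by omega⟩
          obtain ⟨W, hWle, hWd⟩ := exists_sub_dim _ hwd
          exact ⟨W, fun u hu => (hker w hw u (hWle hu) u (hWle hu)).1.symm ▸ W.smul_mem w hu,
            fun u hu v hv => (hker w hw u (hWle hu) v (hWle hv)).2, hWd⟩
        · obtain ⟨j, hj⟩ : Even m := hcond.resolve_right fun h => hs (hsq4.2 (by omega))
          have hirr : Irreducible (Polynomial.X ^ 2 - Polynomial.C (-1) : Polynomial F) :=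
            X_pow_sub_C_irreducible_of_prime Nat.prime_two fun b hb => hs ⟨b, by rw [← hb, sq]⟩
          obtain ⟨W, -, h1, h2, h3⟩ := CfsgLib.Perm.Elusive.exists_iso_invariant hR hN T hI hinj hss (S := ⊤)
            (fun u _ => Submodule.mem_top) (w₀ := 2) (c₀ := 2) (fun C _ hC hlt => by
              obtain ⟨W, hWC, hW, hWi, hpos, hle⟩ := CfsgLib.Perm.Elusive.exists_iso_cyclic hA T hI hinj (i := 2)
                (d₀ := 1) hirr.ne_zero Polynomial.natDegree_X_pow_sub_C two_pos (by omega) hC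
                (fun u _ => by simp [Module.algebraMap_end_apply, sq, hTT]) hlt
              refine ⟨W, hWC, hW, hWi, ?_⟩
              by_contra hne
              have h1 : Module.finrank F W = 1 := by omega
              obtain ⟨⟨v, hv⟩, hv0, hvs⟩ := finrank_eq_one_iff'.1 h1
              obtain ⟨l, hl⟩ := hvs ⟨T v, hW v hv⟩
              have hl' : l • v = T v := congrArg Subtype.val hl
              have hv0' : v ≠ 0 := fun e => hv0 (Subtype.ext e)
              have h := hTT v
              rw [← hl', map_smul, ← hl', smul_smul] at h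
              exact hs ⟨l, (smul_left_injective F hv0' h).symm⟩) j (by
                rcases Nat.eq_zero_or_pos j with h | h
                · exact Or.inl h
                · right; rw [finrank_top, hV]; omega)
          exact ⟨W, h1, h2, by omega⟩
  -- odd prime
  have hr3 : 2 < r := by have := hr.two_le; omega
  obtain ⟨t, ht⟩ : ∃ t, t = (r - 1) / i := ⟨_, rfl⟩
  rw [← ht]
  have hipos : 0 < i := hi ▸ CfsgLib.Perm.Elusive.order_pos hrp
  have hir : i ∣ r - 1 := hi ▸ ZMod.orderOf_dvd_card_sub_one (CfsgLib.Perm.Elusive.card_ne_zero_zmod hrp)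
  have hti : t * i = r - 1 := by rw [ht, Nat.div_mul_cancel hir]
  have hcpos : 0 < c := by split_ifs at hc <;> omega
  have hce : Even c := by
    rw [hc]; split_ifs with h
    · exact h
    · exact even_two_mul _
  have hcdvd : c ∣ 2 * (d - j₀) := by
    rw [hc]; split_ifs with h
    · exact hdvd
    · exact Nat.mul_dvd_mul_left 2 ((Nat.coprime_two_right.2 (Nat.not_even_iff_odd.1 h)).dvd_of_dvd_mul_left hdvd)
  have hic : c = if Even (orderOf ((Fintype.card F : ℕ) : ZMod r)) then orderOf ((Fintype.card F : ℕ) : ZMod r)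
      else 2 * orderOf ((Fintype.card F : ℕ) : ZMod r) := hi ▸ hc
  have hdiv_le : c ≤ 2 * d := (Nat.le_of_dvd (by omega) hcdvd).trans (by omega)
  have hEM : ∀ (T : (Fin d ⊕ Fin d → F) →ₗ[F] (Fin d ⊕ Fin d → F)),
      (∀ u v, CfsgLib.Classical.SympCount.sB d F (T u) (T v) = CfsgLib.Classical.SympCount.sB d F u v) → T ^ r = 1 →
      ∀ W : Submodule F (Fin d ⊕ Fin d → F), (∀ u ∈ W, T u ∈ W) →
      (∀ u ∈ W, ∀ v ∈ W, CfsgLib.Classical.SympCount.sB d F u v = 0) →
      ∃ a j, Module.finrank F W = a + j * i ∧ 2 * a ≤ Module.finrank F (LinearMap.ker (T - 1)) := by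
    intro T hI hT W hW hWi
    obtain ⟨hcm, ho⟩ := CfsgLib.Perm.Elusive.fixed_moved (p := p) hrp T hI hT
    obtain ⟨j, hj, -⟩ := CfsgLib.Perm.Elusive.exists_split (p := p) hrp (T.restrict hW) (LinearMap.ext fun u => Subtype.ext (by
      have h := CfsgLib.Perm.Elusive.restrict_aeval_coe T hW (Polynomial.X ^ r) u
      rw [map_pow, map_pow, Polynomial.aeval_X, Polynomial.aeval_X, hT] at h
      exact h))
    refine ⟨_, j, by rw [hi]; exact hj, ?_⟩
    obtain ⟨A, hAd⟩ : ∃ A, A = (LinearMap.ker (T.restrict hW - 1)).map W.subtype := ⟨_, rfl⟩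
    have hA' : ∀ u ∈ A, u ∈ W ∧ u ∈ LinearMap.ker (T - 1) := by
      rintro u hu
      rw [hAd] at hu
      obtain ⟨v, hv, rfl⟩ := hu
      rw [SetLike.mem_coe, LinearMap.mem_ker] at hv
      refine ⟨v.2, ?_⟩
      rw [LinearMap.mem_ker]
      have h := congrArg Subtype.val hv
      simpa using h
    have hb := CfsgLib.Perm.Elusive.finrank_iso_add_le hN (W := A)
      (fun u hu v hv => hWi u (hA' u hu).1 v (hA' v hv).1) (fun u hu v hv => ho u (hA' u hu).2 v hv)
      (hcm.disjoint.mono_left fun u hu => (hA' u hu).2)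
    rw [hAd, Submodule.finrank_map_subtype_eq, ← Submodule.finrank_add_eq_of_isCompl hcm] at hb
    omega
  constructor
  · intro hL
    have happ : ∀ x : ↥(Matrix.symplecticGroup (Fin d) F), (x : Matrix (Fin d ⊕ Fin d) (Fin d ⊕ Fin d) F) ^ r = 1 →
        Module.finrank F (LinearMap.ker (Matrix.toLin' (x : Matrix (Fin d ⊕ Fin d) (Fin d ⊕ Fin d) F) - 1)) < 2 * d →
        ∃ W : Submodule F (Fin d ⊕ Fin d → F), Module.finrank F W = m ∧
          (∀ u ∈ W, ∀ v ∈ W, CfsgLib.Classical.SympCount.sB d F u v = 0) ∧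
          ∀ u ∈ W, Matrix.toLin' (x : Matrix (Fin d ⊕ Fin d) (Fin d ⊕ Fin d) F) u ∈ W := by
      intro x hx hlt
      obtain ⟨W, h1, h2, h3⟩ := hL x ⟨1, by rw [one_smul]; exact (SubmonoidClass.coe_pow _ _).trans hx⟩ (by
        intro z hz
        have hTz : Matrix.toLin' (x : Matrix (Fin d ⊕ Fin d) (Fin d ⊕ Fin d) F) = z • LinearMap.id := by
          rw [hz, map_smul, Matrix.toLin'_one]
        have hz2 := hscal _ z (hiso x) hTz
        have hz1 : z = 1 := by
          obtain ⟨n, hn⟩ := hr.odd_of_ne_two hr2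
          have h : z ^ r = 1 := by
            rw [hz, _root_.smul_pow, one_pow] at hx
            have h := congrFun (congrFun hx (Sum.inl ⟨0, by omega⟩)) (Sum.inl ⟨0, by omega⟩)
            simpa using h
          rwa [hn, pow_succ, pow_mul, sq, hz2, one_pow, one_mul] at h
        rw [hTz, hz1, one_smul, ← Module.End.one_eq_id, sub_self, LinearMap.ker_zero, finrank_top, hV] at hlt
        exact lt_irrefl _ hlt)
      exact ⟨W, h1, h2, fun u hu => h3 ⟨u, hu, rfl⟩⟩
    have hρ : 2 * d % c = 2 * (2 * d % c / 2) := by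
      obtain ⟨c', hc'⟩ := hce
      rw [hc', ← two_mul, Nat.mul_mod_mul_left]
      omega
    obtain ⟨x, hx, hxe⟩ := CfsgLib.Perm.Elusive.exists_symp_element (p := p) hrp hr2 hic
      (d := d) (e := 2 * d % c / 2) (k := 2 * d / c) (by rw [← hρ]; exact (Nat.mod_add_div' _ _).symm)
    rw [← hρ] at hxe
    obtain ⟨W, hWd, hWi, hW⟩ := happ x hx (by rw [hxe]; exact lt_of_lt_of_le (Nat.mod_lt _ hcpos) hdiv_le)
    obtain ⟨a, j, haj, ha⟩ := hEM _ (hiso x) (by rw [← Matrix.toLin'_pow, hx, Matrix.toLin'_one]; rfl) W hW hWi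
    rw [hxe] at ha
    rw [hWd] at haj
    have him : i ≤ m := by
      by_contra hlt
      have hj0 : j = 0 := by
        rcases Nat.eq_zero_or_pos j with h | h
        · exact h
        · have := Nat.le_mul_of_pos_left i h; omega
      rw [hj0, zero_mul, add_zero] at haj
      have h1 : 2 * d % c = 2 * j₀ % c := by
        obtain ⟨u, hu⟩ := hcdvd
        rw [show 2 * d = 2 * j₀ + c * u by omega, Nat.add_mul_mod_self_left]
      have h2 := Nat.mod_le (2 * j₀) c
      omega
    refine Or.inr ⟨hrp, hr3, him, ?_, ?_⟩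
    · have : m % i ≤ a := by rw [haj, Nat.add_mul_mod_self_right]; exact Nat.mod_le _ _
      omega
    by_contra hcon
    push Not at hcon
    obtain ⟨hie, hcon⟩ := hcon
    rw [Nat.not_odd_iff_even] at hie
    rw [if_pos hie] at hc
    subst c
    obtain ⟨n', hn'⟩ : ∃ n', n' = 2 * d / i := ⟨_, rfl⟩
    obtain ⟨m', hm'⟩ : ∃ m', m' = m / i := ⟨_, rfl⟩
    rw [← hn', ← hm'] at hcon
    have hn1 : 1 ≤ n' := hn' ▸ Nat.div_pos hdiv_le hipos
    have ht1 : 1 ≤ t := ht ▸ Nat.div_pos (Nat.le_of_dvd (by omega) hir) hipos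
    have hm1 : 1 ≤ m' := hm' ▸ Nat.div_pos him hipos
    obtain ⟨k, s, hk1, hkn, hks, hst, hor⟩ : ∃ k s, 1 ≤ k ∧ k ≤ n' ∧ Odd (k - s) ∧ s + 1 ≤ t ∧
        (s + 1 = t ∨ s + 1 = n') := by
      rcases le_or_gt t n' with h | h
      · rcases Nat.even_or_odd (n' - t) with ⟨u, hu⟩ | ⟨u, hu⟩
        · exact ⟨n', t - 1, hn1, le_rfl, ⟨u, by omega⟩, by omega, by omega⟩
        · exact ⟨n' - 1, t - 1, by omega, by omega, ⟨u, by omega⟩, by omega, by omega⟩
      · exact ⟨n', n' - 1, hn1, le_rfl, ⟨0, by omega⟩, by omega, by omega⟩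
    have hki : k * i ≤ 2 * d := (Nat.mul_le_mul_right i hkn).trans (hn' ▸ Nat.div_mul_le_self _ _)
    obtain ⟨e, he⟩ : Even (2 * d - k * i) := (Nat.even_sub hki).2 (iff_of_true (even_two_mul d) (hie.mul_left k))
    obtain ⟨x, hx, hxe, hbound⟩ := CfsgLib.Perm.Elusive.exists_symp_class_element (p := p) hrp hr2 (d := d) (e := e) hi hie
      (by omega) hks (ht ▸ hst)
    obtain ⟨W, hWd, hWi, hW⟩ := happ x hx (by
      rw [hxe]
      have := Nat.le_mul_of_pos_left i hk1
      omega)
    have h := hbound W hW hWi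
    rw [hWd] at h
    have h2 : 2 * m' + (s + 1) ≤ n' := by
      rw [hn', Nat.le_div_iff_mul_le hipos, add_mul, mul_assoc]
      have : m' * i ≤ m := hm' ▸ Nat.div_mul_le_self _ _
      omega
    omega
  · intro hcond x hxz _
    obtain ⟨z, hxz⟩ := hxz
    obtain ⟨-, -, him, hl, hcnd⟩ := hcond.resolve_left fun h => hr2 h.1
    obtain ⟨T₀, hT₀def⟩ : ∃ T, T = Matrix.toLin' (x : Matrix (Fin d ⊕ Fin d) (Fin d ⊕ Fin d) F) := ⟨_, rfl⟩
    have hI₀ := hiso x
    rw [← hT₀def] at hI₀
    have hT₀ : T₀ ^ r = z • LinearMap.id := by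
      rw [hT₀def, ← Matrix.toLin'_pow, ← SubmonoidClass.coe_pow, hxz, map_smul, Matrix.toLin'_one]
    have hz2 : z * z = 1 := hscal _ z (hpowI T₀ hI₀ r) hT₀
    have hzr : z ^ r * z = 1 := by
      obtain ⟨n, hn⟩ := hr.odd_of_ne_two hr2
      rw [hn, pow_succ, pow_mul, sq, hz2, one_pow, one_mul, hz2]
    obtain ⟨T, hTd⟩ : ∃ T, T = z • T₀ := ⟨_, rfl⟩
    have hI : ∀ u v, CfsgLib.Classical.SympCount.sB d F (T u) (T v) = CfsgLib.Classical.SympCount.sB d F u v :=
      fun u v => by
        rw [hTd, LinearMap.smul_apply, LinearMap.smul_apply, map_smul, map_smul, LinearMap.smul_apply, smul_eq_mul,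
          smul_eq_mul, ← mul_assoc, hz2, one_mul, hI₀]
    have hT : T ^ r = 1 := by rw [hTd, _root_.smul_pow, hT₀, smul_smul, hzr, one_smul]; rfl
    suffices hW : ∃ W : Submodule F (Fin d ⊕ Fin d → F), (∀ u ∈ W, T u ∈ W) ∧
        (∀ u ∈ W, ∀ v ∈ W, CfsgLib.Classical.SympCount.sB d F u v = 0) ∧ Module.finrank F W = m by
      obtain ⟨W, h1, h2, h3⟩ := hW
      refine ⟨W, h3, h2, ?_⟩
      rw [← hT₀def]
      rintro _ ⟨u, hu, rfl⟩
      have h := W.smul_mem z (h1 u hu)
      rwa [hTd, LinearMap.smul_apply, smul_smul, hz2, one_smul] at h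
    have hinj := hinjI T hI
    obtain ⟨hcm, ho⟩ := CfsgLib.Perm.Elusive.fixed_moved (p := p) hrp T hI hT
    obtain ⟨E, hE⟩ : ∃ E, E = LinearMap.ker (T - 1) := ⟨_, rfl⟩
    obtain ⟨M, hM⟩ : ∃ M, M = LinearMap.ker (Polynomial.aeval T (Polynomial.cyclotomic r F)) := ⟨_, rfl⟩
    obtain ⟨-, kc, hkc, -⟩ := CfsgLib.Perm.Elusive.exists_symp_sub (p := p) hrp hr2 hA hN T hI hT hic
    rw [hV, ← hE] at hkc
    rw [← hE, ← hM] at hcm ho
    have hEMd : Module.finrank F E + Module.finrank F M = 2 * d := by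
      rw [← hV, Submodule.finrank_add_eq_of_isCompl hcm]
    have hEfix : ∀ u ∈ E, T u = (1 : F) • u := fun u hu => by
      rw [hE] at hu; simpa [sub_eq_zero] using hu
    have hMinv : ∀ u ∈ M, T u ∈ M := fun u hu => by
      rw [hM, LinearMap.mem_ker] at hu ⊢
      rw [show T u = Polynomial.aeval T (Polynomial.X : Polynomial F) u by rw [Polynomial.aeval_X],
        ← Module.End.mul_apply, ← map_mul, mul_comm, map_mul, Module.End.mul_apply, hu, map_zero]
    have hss := CfsgLib.Perm.Elusive.exists_invariant_complement T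
      (P := Polynomial.X ^ r - Polynomial.C 1)
      (Polynomial.separable_X_pow_sub_C (1 : F) (CfsgLib.Perm.Elusive.natCast_ne_zero_of_ne hrp) one_ne_zero).squarefree
      (by rw [map_sub, map_pow, Polynomial.aeval_X, map_one, map_one, hT, sub_self])
    have hmultM : ∀ U ≤ M, (∀ u ∈ U, T u ∈ U) → ∃ j, Module.finrank F U = j * i := by
      intro U hUM hU
      obtain ⟨j, hj, -⟩ := CfsgLib.Perm.Elusive.exists_split (p := p) hrp (T.restrict hU) (LinearMap.ext fun u => Subtype.ext (by
        have h := CfsgLib.Perm.Elusive.restrict_aeval_coe T hU (Polynomial.X ^ r) u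
        rw [map_pow, map_pow, Polynomial.aeval_X, Polynomial.aeval_X, hT] at h
        exact h))
      have hk0 : LinearMap.ker (T.restrict hU - 1) = ⊥ := by
        rw [Submodule.eq_bot_iff]
        intro u hu
        refine Subtype.ext (Submodule.disjoint_def.1 hcm.disjoint (u : Fin d ⊕ Fin d → F) ?_ (hUM u.2))
        rw [hE]
        have h := congrArg Subtype.val (LinearMap.mem_ker.1 hu)
        simpa [sub_eq_zero] using h
      rw [hk0, finrank_bot, zero_add, ← hi] at hj
      exact ⟨j, hj⟩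
    obtain ⟨c₀, mm, hc₀, hmm⟩ : ∃ c₀ mm, c₀ = t * mm ∧ mm = (if Even i then i else 0) := ⟨_, _, rfl, rfl⟩
    have hstep : ∀ C ≤ M, (∀ u ∈ C, T u ∈ C) → c₀ < Module.finrank F C →
        ∃ W ≤ C, (∀ u ∈ W, T u ∈ W) ∧ (∀ u ∈ W, ∀ v ∈ W, CfsgLib.Classical.SympCount.sB d F u v = 0) ∧
          Module.finrank F W = i := by
      intro C hCM hC hlt
      obtain ⟨g, hg, hgd, hgU⟩ := CfsgLib.Perm.Elusive.exists_large_component T
        (CfsgLib.Perm.Elusive.cyclotomic_squarefree' (p := p) hrp) (i := i) (t := t)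
        (fun g hg hgd => hi ▸ CfsgLib.Perm.Elusive.factor_degree (p := p) hrp hg hgd)
        (by rw [Polynomial.natDegree_cyclotomic, Nat.totient_prime hr, hti]) hC
        (fun u hu => LinearMap.mem_ker.1 (hM.le (hCM hu))) (hc₀ ▸ hlt) hipos
      obtain ⟨U, hUd⟩ : ∃ U, U = C ⊓ LinearMap.ker (Polynomial.aeval T g) := ⟨_, rfl⟩
      rw [← hUd] at hgU
      have hU : ∀ u ∈ U, T u ∈ U := by
        intro u hu
        rw [hUd] at hu ⊢
        refine ⟨hC u hu.1, ?_⟩
        have h := hu.2
        rw [SetLike.mem_coe, LinearMap.mem_ker] at h ⊢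
        rw [show T u = Polynomial.aeval T (Polynomial.X : Polynomial F) u by rw [Polynomial.aeval_X],
          ← Module.End.mul_apply, ← map_mul, mul_comm, map_mul, Module.End.mul_apply, h, map_zero]
      have hUC : U ≤ C := hUd ▸ inf_le_left
      have hlt2 : 2 * (i / 2) < Module.finrank F U := by
        by_cases hie : Even i
        · rw [hmm, if_pos hie] at hgU; omega
        · obtain ⟨j, hj⟩ := hmultM U (hUC.trans hCM) hU
          rw [hmm, if_neg hie, hj] at hgU
          have hj0 : 0 < j := pos_of_mul_pos_left hgU (Nat.zero_le _)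
          have := Nat.le_mul_of_pos_left i hj0
          have := Nat.odd_iff.1 (Nat.not_even_iff_odd.1 hie)
          omega
      obtain ⟨W, hWU, hW, hWi, hpos, hle⟩ := CfsgLib.Perm.Elusive.exists_iso_cyclic hA T hI hinj (i := i) (d₀ := i / 2)
        hg.ne_zero (hi ▸ CfsgLib.Perm.Elusive.factor_degree (p := p) hrp hg hgd) hipos (by omega) hU
        (fun u hu => LinearMap.mem_ker.1 (hUd.le hu).2) hlt2
      refine ⟨W, hWU.trans hUC, hW, hWi, ?_⟩
      obtain ⟨j, hj⟩ := hmultM W ((hWU.trans hUC).trans hCM) hW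
      rw [hj] at hpos hle ⊢
      have hj1 : j = 1 := le_antisymm (Nat.le_of_mul_le_mul_right (by rwa [one_mul]) hipos)
        (pos_of_mul_pos_left hpos (Nat.zero_le _))
      rw [hj1, one_mul]
    obtain ⟨j, hjm, hjM, hjE⟩ : ∃ j, j * i ≤ m ∧ (j = 0 ∨ 2 * i * (j - 1) + c₀ < Module.finrank F M) ∧
        2 * (m - j * i) ≤ Module.finrank F E := by
      have hm'i : m / i * i + m % i = m := Nat.div_add_mod' m i
      have hρE : 2 * d % c ≤ Module.finrank F E := by
        rw [hkc, Nat.add_mul_mod_self_right]; exact Nat.mod_le _ _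
      have hMd : Module.finrank F M = kc * c := by omega
      rcases Nat.even_or_odd i with hie | hio
      · rw [if_pos hie] at hc hmm
        subst c
        subst mm
        have hn := hcnd.resolve_left (Nat.not_odd_iff_even.2 hie)
        have hn2 := Nat.mul_le_mul_right i hn
        rw [add_mul, mul_assoc] at hn2
        have hd' : 2 * d / i * i + 2 * d % i = 2 * d := Nat.div_add_mod' _ i
        obtain ⟨j, hj⟩ : ∃ j, j = min (m / i) (if kc ≤ t then 0 else (kc - t + 1) / 2) := ⟨_, rfl⟩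
        refine ⟨j, (Nat.mul_le_mul_right i (hj ▸ min_le_left _ _)).trans (Nat.div_mul_le_self m i), ?_, ?_⟩
        · rcases Nat.eq_zero_or_pos j with h | h
          · exact Or.inl h
          · right
            have hjlt : 2 * (j - 1) + t < kc := by split_ifs at hj <;> omega
            have h3 := (Nat.mul_lt_mul_right hipos).2 hjlt
            rw [hMd, hc₀]
            calc 2 * i * (j - 1) + t * i = (2 * (j - 1) + t) * i := by ring
              _ < kc * i := h3
        · rcases (show j = m / i ∨ (kc ≤ 2 * j + t) by split_ifs at hj <;> omega) with h | h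
          · rw [h]; omega
          · have h3 := Nat.mul_le_mul_right i h
            rw [add_mul, mul_assoc] at h3
            omega
      · have hno : ¬ Even i := Nat.not_even_iff_odd.2 hio
        rw [if_neg hno] at hc hmm
        subst mm
        rw [hc, mul_left_comm] at hMd
        refine ⟨min (m / i) kc, (Nat.mul_le_mul_right i (min_le_left _ _)).trans (Nat.div_mul_le_self m i), ?_, ?_⟩
        · rcases Nat.eq_zero_or_pos (min (m / i) kc) with h | h
          · exact Or.inl h
          · right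
            rw [hc₀, mul_zero, add_zero, hMd, mul_assoc, mul_comm i]
            exact Nat.mul_lt_mul_of_pos_left ((Nat.mul_lt_mul_right hipos).2 (by omega)) two_pos
        · rcases min_choice (m / i) kc with h | h <;> rw [h] <;> omega
    obtain ⟨X, hXM, hX, hXi, hXd⟩ := CfsgLib.Perm.Elusive.exists_iso_invariant hR hN T hI hinj hss hMinv hstep j hjM
    obtain ⟨Y, hYE, hY, hYi, hYd⟩ := scalar_iso hA hN T hI hinj hss hEfix (j := m - j * i) (by omega)
    obtain ⟨W, h1, h2, h3⟩ := glue hR T hY hX hYi hXi (fun u hu v hv => ho u (hYE hu) v (hXM hv))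
      (hcm.disjoint.mono hYE hXM)
    exact ⟨W, h1, h2, by omega⟩

end Cfsg.Agent.S5955
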