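import Cfsg.Statements.S5956
-- import your own Cfsg.Agent.* helpers here
import Mathlib
import Cfsg.Agent.Lib.Perm.Elusive.SympNondeg
import Cfsg.Agent.Lib.Perm.Elusive.UnipotentBlocks
import Cfsg.Agent.Lib.Perm.Elusive.SympPrimeElement

set_option autoImplicit false
set_option linter.all false
open scoped MatrixGroups
open Cfsg

namespace Cfsg.Agent.S5956

/-- Elements of prime order of PSp_n(q) with no fixed nondegenerate `m`-space. Here `T = PSp_n(q)` with `n = 2d ≥ 4`, `(n, q) ≠ (4, 2)`, realised through the symplectic matrices over the field `F` with `q` elements (preserving the standard alternating form); an element of `T` of prime order `r` is such a matrix `x` with `x^r` scalar and `x` not scalar. For `r ≠ p` let `i` be the multiplicative order of `q` modulo `r`, `c = i` for `i` even and `c = 2i` for `i` odd, and write `k = n mod c`, `ℓ = m mod i`, `ℓ' = m mod c`, `n' = ⌊n/i⌋`, `m' = ⌊m/i⌋`, `t = (r−1)/i`. Let `m` be even with `2 ≤ m < n/2` and let `r` be a prime dividing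 the number of nondegenerate `m`-spaces. Then every element of `T` of order `r` fixes a nondegenerate `m`-space if and only if one of: (i) `r = p > 2` and every partition of `n` into parts of size at most `p` in which every odd part has even multiplicity contains (as a sub-multiset) a partition of `m` in which every odd part has even multiplicity; (ii) `r = p = 2` and (`n ≡ 2 (mod 4)` or `m ≡ 0 (mod 4)`); (iii) `r = 2 ≠ p`; (iv) `r ≠ p`, `r > 2`, `c ≤ m` and `k ≥ ℓ'`. -/
theorem result {F : Type*} [Field F] [Fintype F] {p : ℕ} [Fact p.Prime] [CharP F p] {q : ℕ} (hq : Fintype.card F = q)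
    (d m : ℕ) (hd : 2 ≤ d) (hT : (d, q) ≠ (2, 2)) (hm : 2 ≤ m) (hme : Even m) (hmd : m < d)
    (r : ℕ) [Fact r.Prime]
    (hrΩ : r ∣ Nat.card {W : Submodule F (Fin d ⊕ Fin d → F) // Module.finrank F ↥W = m ∧ (∀ u ∈ W, u ≠ 0 → ∃ v ∈ W, Cfsg.sympForm d F u v ≠ 0)})
    (i c : ℕ) (hi : i = orderOf (q : ZMod r)) (hc : c = if Even i then i else 2 * i) :
    (∀ x : ↥(Matrix.symplecticGroup (Fin d) F),
      (∃ z : F, ((x ^ r : ↥(Matrix.symplecticGroup (Fin d) F)) : Matrix (Fin d ⊕ Fin d) (Fin d ⊕ Fin d) F) = z • (1 : Matrix (Fin d ⊕ Fin d) (Fin d ⊕ Fin d) F)) →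
      (∀ z : F, (x : Matrix (Fin d ⊕ Fin d) (Fin d ⊕ Fin d) F) ≠ z • (1 : Matrix (Fin d ⊕ Fin d) (Fin d ⊕ Fin d) F)) →
      ∃ W : Submodule F (Fin d ⊕ Fin d → F), Module.finrank F ↥W = m ∧ (∀ u ∈ W, u ≠ 0 → ∃ v ∈ W, Cfsg.sympForm d F u v ≠ 0) ∧
        W.map (Matrix.toLin' (x : Matrix (Fin d ⊕ Fin d) (Fin d ⊕ Fin d) F)) ≤ W) ↔
    ((r = p ∧ 2 < p ∧ (∀ μ : Multiset ℕ, (∀ a ∈ μ, 0 < a ∧ a ≤ p) → (∀ a : ℕ, Odd a → Even (μ.count a)) → μ.sum = 2 * d →
        ∃ ν : Multiset ℕ, ν ≤ μ ∧ ν.sum = m ∧ ∀ a : ℕ, Odd a → Even (ν.count a))) ∨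
     (r = p ∧ p = 2 ∧ ((2 * d) % 4 = 2 ∨ m % 4 = 0)) ∨
     (r = 2 ∧ p ≠ 2) ∨
     (r ≠ p ∧ 2 < r ∧ c ≤ m ∧ m % c ≤ (2 * d) % c)) := by
  classical
  subst hq
  obtain ⟨m', hm'⟩ := id hme
  have hr : r.Prime := Fact.out
  have hp : p.Prime := Fact.out
  have hA : (CfsgLib.Classical.SympCount.sB d F).IsAlt := CfsgLib.Classical.SympCount.sB_isAlt
  have hR := hA.isRefl
  have hN : (CfsgLib.Classical.SympCount.sB d F).Nondegenerate := CfsgLib.Classical.SympCount.sB_nondegenerate
  have hV : Module.finrank F (Fin d ⊕ Fin d → F) = 2 * d := by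
    rw [Module.finrank_fintype_fun_eq_card, Fintype.card_sum, Fintype.card_fin]; omega
  have htop : Disjoint (⊤ : Submodule F (Fin d ⊕ Fin d → F)) ((CfsgLib.Classical.SympCount.sB d F).orthogonal ⊤) := by
    rw [LinearMap.BilinForm.orthogonal_top_eq_bot hN]; exact disjoint_bot_right
  have hsym : ∀ u v, CfsgLib.Classical.SympCount.sB d F u v = (-1) * CfsgLib.Classical.SympCount.sB d F v u := fun u v => by
    rw [neg_one_mul, LinearMap.IsAlt.neg hA v u]
  obtain ⟨u₀, v₀, huv⟩ : ∃ u v, CfsgLib.Classical.SympCount.sB d F u v ≠ 0 := by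
    by_contra h0
    push Not at h0
    exact one_ne_zero (congrFun (hN.1 (fun _ => 1) (h0 _)) (Sum.inl ⟨0, by omega⟩))
  have hsf : ∀ (W : Submodule F (Fin d ⊕ Fin d → F)),
      Disjoint W ((CfsgLib.Classical.SympCount.sB d F).orthogonal W) ↔
        ∀ u ∈ W, u ≠ 0 → ∃ v ∈ W, Cfsg.sympForm d F u v ≠ 0 := fun W =>
    CfsgLib.Perm.Elusive.disjoint_orth_iff hR W
  -- an element with scalar power rescaled
  have hnorm : ∀ (x : ↥(Matrix.symplecticGroup (Fin d) F)) (z : F) (n : ℕ), 0 < n →
      ((x ^ n : ↥(Matrix.symplecticGroup (Fin d) F)) : Matrix (Fin d ⊕ Fin d) (Fin d ⊕ Fin d) F) = z • 1 →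
      ∃ T : Module.End F (Fin d ⊕ Fin d → F), T = Matrix.toLin' (x : Matrix (Fin d ⊕ Fin d) (Fin d ⊕ Fin d) F) ∧
        (∀ u v, CfsgLib.Classical.SympCount.sB d F (T u) (T v) = CfsgLib.Classical.SympCount.sB d F u v) ∧
        T ^ n = z • 1 ∧ z * z = 1 := by
    intro x z n hn hx
    obtain ⟨T, hT⟩ : ∃ T, T = Matrix.toLin' (x : Matrix (Fin d ⊕ Fin d) (Fin d ⊕ Fin d) F) := ⟨_, rfl⟩
    have hI : ∀ u v, CfsgLib.Classical.SympCount.sB d F (T u) (T v) = CfsgLib.Classical.SympCount.sB d F u v := fun u v => by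
      rw [hT, Matrix.toLin'_apply, Matrix.toLin'_apply]
      exact CfsgLib.Sp.sf_sp x u v
    have hTn : T ^ n = z • 1 := by
      rw [hT, ← Matrix.toLin'_pow, ← SubmonoidClass.coe_pow, hx, map_smul, Matrix.toLin'_one]; rfl
    have hTj : ∀ (j : ℕ) u v, CfsgLib.Classical.SympCount.sB d F ((T ^ j) u) ((T ^ j) v) =
        CfsgLib.Classical.SympCount.sB d F u v := fun j => by
      induction j with
      | zero => intro u v; simp
      | succ j ih => intro u v; rw [pow_succ', Module.End.mul_apply, Module.End.mul_apply, hI, ih]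
    refine ⟨T, hT, hI, hTn, ?_⟩
    have h := hTj n u₀ v₀
    rw [hTn, LinearMap.smul_apply, LinearMap.smul_apply, Module.End.one_apply, Module.End.one_apply, map_smul, map_smul,
      LinearMap.smul_apply, smul_eq_mul, smul_eq_mul, ← mul_assoc] at h
    exact mul_right_cancel₀ huv (h.trans (one_mul _).symm)
  have hodd_pow : ∀ (T : Module.End F (Fin d ⊕ Fin d → F)) (z : F) (n : ℕ), z * z = 1 → Odd n → T ^ n = z • 1 →
      (∀ u v, CfsgLib.Classical.SympCount.sB d F (T u) (T v) = CfsgLib.Classical.SympCount.sB d F u v) →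
      (z • T) ^ n = 1 ∧
        (∀ u v, CfsgLib.Classical.SympCount.sB d F ((z • T) u) ((z • T) v) = CfsgLib.Classical.SympCount.sB d F u v) := by
    intro T z n hz hn hT hI
    obtain ⟨w, rfl⟩ := hn
    refine ⟨?_, fun u v => ?_⟩
    · rw [smul_pow, hT, smul_smul, ← pow_succ, show 2 * w + 1 + 1 = 2 * (w + 1) by ring, pow_mul, sq, hz, one_pow, one_smul]
    · rw [LinearMap.smul_apply, LinearMap.smul_apply, map_smul, map_smul, LinearMap.smul_apply, smul_eq_mul, smul_eq_mul,
        ← mul_assoc, hz, one_mul, hI]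
  have hback : ∀ (T : Module.End F (Fin d ⊕ Fin d → F)) (z : F) (W : Submodule F (Fin d ⊕ Fin d → F)), z * z = 1 →
      (∀ u ∈ W, (z • T) u ∈ W) → W.map T ≤ W := by
    rintro T z W hz h _ ⟨u, hu, rfl⟩
    have h1 := W.smul_mem z (h u hu)
    rwa [LinearMap.smul_apply, smul_smul, hz, one_smul] at h1
  have hmW : ∀ x : ↥(Matrix.symplecticGroup (Fin d) F), (∀ z : F, (x : Matrix (Fin d ⊕ Fin d) (Fin d ⊕ Fin d) F) ≠ z • 1) ∨
      ∃ z : F, (x : Matrix (Fin d ⊕ Fin d) (Fin d ⊕ Fin d) F) = z • 1 := fun x => by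
    by_cases h : ∃ z : F, (x : Matrix (Fin d ⊕ Fin d) (Fin d ⊕ Fin d) F) = z • 1
    · exact Or.inr h
    · push Not at h; exact Or.inl h
  have hscalar : ∀ (x : ↥(Matrix.symplecticGroup (Fin d) F)) (n : ℕ) (z : F), Odd n →
      (x : Matrix (Fin d ⊕ Fin d) (Fin d ⊕ Fin d) F) ^ n = 1 →
      (x : Matrix (Fin d ⊕ Fin d) (Fin d ⊕ Fin d) F) = z • 1 → z = 1 := by
    intro x n z hn hxn hz
    obtain ⟨T, hT, hI, hT1, hz1⟩ := hnorm x z 1 one_pos (by rw [pow_one, hz])
    obtain ⟨w, rfl⟩ := hn
    rw [hz, smul_pow, one_pow] at hxn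
    have h := congrFun (congrFun hxn (Sum.inl ⟨0, by omega⟩)) (Sum.inl ⟨0, by omega⟩)
    simp only [Matrix.smul_apply, Matrix.one_apply_eq, smul_eq_mul, mul_one, pow_succ, pow_mul, sq, hz1, one_pow, one_mul] at h
    exact h
  rcases eq_or_ne r p with hrp | hrp
  · subst hrp
    rcases hr.eq_two_or_odd with h2 | hodd
    · -- unipotent involutions
      subst h2
      have h2F : (2 : F) = 0 := by
        have := CharP.cast_eq_zero F 2
        simpa using this
      constructor
      · intro hL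
        refine Or.inr (Or.inl ⟨rfl, rfl, ?_⟩)
        by_contra hcon
        have hde : Even d := Nat.even_iff.2 (by omega)
        obtain ⟨x, hx, hxne, hW⟩ := CfsgLib.Perm.Elusive.exists_invol_derange (F := F) h2F hde (by omega)
        obtain ⟨W, hWd, hWn, hWm⟩ := hL x ⟨1, by rw [one_smul, SubmonoidClass.coe_pow, hx]⟩ hxne
        have h4 := hW W (fun u hu => by
          by_cases hu0 : u = 0
          · exact ⟨u, hu, fun h => absurd hu0 h⟩
          · obtain ⟨v, hv, h⟩ := hWn u hu hu0
            exact ⟨v, hv, fun _ => h⟩) hWm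
        omega
      · intro hcond x hxz _
        obtain ⟨z, hxz⟩ := hxz
        have hcond' : (2 * d) % 4 = 2 ∨ m % 4 = 0 := by
          rcases hcond with ⟨-, h, -⟩ | ⟨-, -, h⟩ | ⟨-, h⟩ | ⟨h, -⟩
          · omega
          · exact h
          · exact absurd rfl h
          · exact absurd rfl h
        obtain ⟨T, hT, hI, hT2, hz⟩ := hnorm x z 2 two_pos hxz
        have hz1 : z = 1 := by
          rcases mul_self_eq_one_iff.1 hz with h | h
          · exact h
          · linear_combination h - h2F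
        obtain ⟨W, -, hW, hWnd, hWd⟩ := CfsgLib.Perm.Elusive.exists_invol_sub h2F hA hN T hI (fun u => by
            have h := LinearMap.congr_fun hT2 u
            rwa [sq, Module.End.mul_apply, hz1, one_smul] at h) (2 * d) ⊤ (fun u _ => Submodule.mem_top) htop
          (by rw [finrank_top, hV]) m hme (by omega) hcond'
        exact ⟨W, hWd, (hsf W).1 hWnd, by rintro _ ⟨u, hu, rfl⟩; rw [← hT]; exact hW u hu⟩
    · -- unipotent elements of odd order
      have hp2 : 2 < r := by have := hr.two_le; omega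
      have hodd' : Odd r := Nat.odd_iff.2 hodd
      have h2F : (2 : F) ≠ 0 := Ring.two_ne_zero (by rw [ringChar.eq F r]; omega)
      constructor
      · intro hL
        refine Or.inl ⟨rfl, hp2, fun μ hμ hev hsum => ?_⟩
        by_cases hone : ∀ a ∈ μ, a = 1
        · have hμ' : μ = Multiset.replicate μ.card 1 := Multiset.eq_replicate.2 ⟨rfl, hone⟩
          refine ⟨Multiset.replicate m 1, ?_, by simp, fun a _ => ?_⟩
          · rw [hμ']
            refine (Multiset.replicate_le_replicate 1).2 ?_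
            rw [hμ', Multiset.sum_replicate, smul_eq_mul, mul_one] at hsum
            omega
          · rw [Multiset.count_replicate]
            split_ifs
            · exact hme
            · exact ⟨0, rfl⟩
        push Not at hone
        obtain ⟨x, hx, hx1, hW⟩ := CfsgLib.Perm.Elusive.exists_symp_jordan (p := r) h2F hμ hev hsum hone
        obtain ⟨W, hWd, hWn, hWm⟩ := hL x ⟨1, by rw [one_smul, SubmonoidClass.coe_pow, hx]⟩
          (fun z hz => hx1 (by rw [hz, hscalar x r z hodd' hx hz, one_smul]))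
        obtain ⟨ν, h1, h3, h4⟩ := hW W (fun u hu => by
          by_cases hu0 : u = 0
          · exact ⟨u, hu, fun h => absurd hu0 h⟩
          · obtain ⟨v, hv, h⟩ := hWn u hu hu0
            exact ⟨v, hv, fun _ => h⟩) hWm
        exact ⟨ν, h1, h3.trans hWd, h4⟩
      · intro hcond x hxz _
        obtain ⟨z, hxz⟩ := hxz
        have hpart : ∀ μ : Multiset ℕ, (∀ a ∈ μ, 0 < a ∧ a ≤ r) → (∀ a : ℕ, Odd a → Even (μ.count a)) → μ.sum = 2 * d →
            ∃ ν : Multiset ℕ, ν ≤ μ ∧ ν.sum = m ∧ ∀ a : ℕ, Odd a → Even (ν.count a) := by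
          rcases hcond with ⟨-, -, h⟩ | ⟨-, h, -⟩ | ⟨h, -⟩ | ⟨h, -⟩
          · exact h
          · omega
          · omega
          · exact absurd rfl h
        obtain ⟨T, hT, hI, hTr, hz⟩ := hnorm x z r hr.pos hxz
        obtain ⟨hUr, hUI⟩ := hodd_pow T z r hz hodd' hTr hI
        haveI : Nontrivial (Module.End F (Fin d ⊕ Fin d → F)) := by
          refine ⟨⟨1, 0, fun h => ?_⟩⟩
          have := LinearMap.congr_fun h u₀
          exact huv (by rw [show u₀ = 0 from this, map_zero, LinearMap.zero_apply])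
        haveI : CharP (Module.End F (Fin d ⊕ Fin d → F)) r :=
          charP_of_injective_algebraMap (algebraMap F (Module.End F (Fin d ⊕ Fin d → F))).injective r
        have hnil : (z • T - 1) ^ r = 0 := by
          rw [sub_pow_char_of_commute (p := r) (Commute.one_right _), hUr, one_pow, sub_self]
        obtain ⟨μ, hμ, hμs, hμe, hμW⟩ := CfsgLib.Perm.Elusive.exists_block_decomposition (2 * d) hsym h2F hN (z • T)
          hUI hnil hV
        have hbad : ∀ e : ℕ, 1 ≤ e → ((-1 : F) * (-1) ^ (e - 1) = -1 ↔ Odd e) := fun e he => by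
          rcases Nat.even_or_odd e with ⟨w, hw⟩ | ⟨w, hw⟩
          · rw [Odd.neg_one_pow ⟨w - 1, by omega⟩, neg_one_mul, neg_neg]
            exact iff_of_false (fun h => h2F (by linear_combination h)) (Nat.not_odd_iff_even.2 ⟨w, hw⟩)
          · rw [Even.neg_one_pow ⟨w, by omega⟩, mul_one]
            exact iff_of_true rfl ⟨w, hw⟩
        obtain ⟨ν, hν, hνs, hνe⟩ := hpart μ hμ (fun a ha => hμe a ((hbad a ha.pos).2 ha)) hμs
        obtain ⟨W, hW, hWnd, hWd⟩ := hμW ν hν (fun e he => by
          rcases Nat.eq_zero_or_pos e with rfl | he0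
          · rw [Multiset.count_eq_zero.2 fun h => absurd (hμ 0 (Multiset.mem_of_le hν h)).1 (lt_irrefl 0)]
            exact ⟨0, rfl⟩
          · exact hνe e ((hbad e he0).1 he))
        exact ⟨W, hWd.trans hνs, (hsf W).1 hWnd, by rw [← hT]; exact hback T z W hz hW⟩
  · have hcpos : 0 < c := by
      have := CfsgLib.Perm.Elusive.order_pos (F := F) (r := r) hrp
      rw [← hi] at this
      split_ifs at hc <;> omega
    have hc' : c = if Even (orderOf ((Fintype.card F : ℕ) : ZMod r)) then orderOf ((Fintype.card F : ℕ) : ZMod r)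
        else 2 * orderOf ((Fintype.card F : ℕ) : ZMod r) := by rw [hc, hi]
    rcases eq_or_ne r 2 with hr2 | hr2
    · -- semisimple involutions
      subst hr2
      have h2F : ((2 : ℕ) : F) ≠ 0 := CfsgLib.Perm.Elusive.natCast_ne_zero_of_ne hrp
      refine iff_of_true (fun x hxz _ => ?_) (Or.inr (Or.inr (Or.inl ⟨rfl, Ne.symm hrp⟩)))
      obtain ⟨z, hxz⟩ := hxz
      obtain ⟨T, hT, hI, hT2, hz⟩ := hnorm x z 2 two_pos hxz
      have hTT : ∀ u, T (T u) = z • u := fun u => by
        have h := LinearMap.congr_fun hT2 u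
        rwa [sq, Module.End.mul_apply] at h
      have hinj : Function.Injective T := fun u v h => sub_eq_zero.1 (hN.1 _ fun w => by
        rw [← hI, map_sub, h, sub_self, map_zero, LinearMap.zero_apply])
      obtain ⟨e, he, hex⟩ := CfsgLib.Perm.Elusive.block_chain (c := 2) hR hI hinj two_pos (S₀ := ⊤)
        (fun S _ hS hnd h0 => CfsgLib.Perm.Elusive.exists_square_plane (by simpa using h2F) hA T hI hz hTT hS hnd h0)
        (le_refl ⊤) (fun u _ => Submodule.mem_top) htop
      rw [finrank_top, hV] at he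
      obtain ⟨W, -, hW, hWnd, hWd⟩ := hex m' (by omega)
      exact ⟨W, by omega, (hsf W).1 hWnd, by rintro _ ⟨u, hu, rfl⟩; rw [← hT]; exact hW u hu⟩
    have hr3 : 2 < r := by have := hr.two_le; omega
    have hrodd : Odd r := hr.odd_of_ne_two hr2
    constructor
    · intro hL
      refine Or.inr (Or.inr (Or.inr ⟨hrp, hr3, ?_⟩))
      have hcount : ¬ (m ≤ (2 * d) % c) := fun hle => by
        refine CfsgLib.Perm.Elusive.not_dvd_card_nd (p := p) hrp hc' (d := d) (k := m') (by omega) ?_
        rw [show 2 * m' = m by omega]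
        exact hrΩ
      have hmod : m % c ≤ (2 * d) % c := by
        by_contra hcon
        push Not at hcon
        have hce : Even c := by
          rw [hc]; split_ifs with h
          · exact h
          · exact even_two_mul _
        have hEe : Even ((2 * d) % c) := by
          obtain ⟨c', hc''⟩ := hce
          rw [hc'', ← two_mul, Nat.mul_mod_mul_left]; exact even_two_mul _
        obtain ⟨e, he⟩ := hEe
        have hdiv := Nat.mod_add_div' (2 * d) c
        rcases Nat.eq_zero_or_pos (2 * d / c) with h0 | h0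
        · rw [h0, zero_mul, add_zero] at hdiv
          exact hcount (by omega)
        obtain ⟨x, hx, hxk⟩ := CfsgLib.Perm.Elusive.exists_symp_element (F := F) (p := p) hrp hr2 hc' (d := d) (e := e)
          (k := 2 * d / c) (by omega)
        have hkc : c ≤ 2 * d / c * c := Nat.le_mul_of_pos_left c h0
        have hxne : ∀ z : F, (x : Matrix (Fin d ⊕ Fin d) (Fin d ⊕ Fin d) F) ≠ z • 1 := fun z hz => by
          have hz1 := hscalar x r z hrodd hx hz
          rw [hz, hz1, one_smul, Matrix.toLin'_one, show (LinearMap.id : Module.End F (Fin d ⊕ Fin d → F)) - 1 = 0 from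
            sub_self _, LinearMap.ker_zero, finrank_top, hV] at hxk
          omega
        obtain ⟨W, hWd, hWn, hWm⟩ := hL x ⟨1, by rw [one_smul, SubmonoidClass.coe_pow, hx]⟩ hxne
        obtain ⟨T, hT, hI, hTr, -⟩ := hnorm x 1 r hr.pos (by rw [SubmonoidClass.coe_pow, hx, one_smul])
        rw [one_smul] at hTr
        have hWi : ∀ u ∈ W, T u ∈ W := fun u hu => hT ▸ hWm ⟨u, hu, rfl⟩
        have hWnd := (hsf W).2 hWn
        obtain ⟨-, k, hk, -⟩ := CfsgLib.Perm.Elusive.exists_symp_sub (p := p) hrp hr2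
          (B := (CfsgLib.Classical.SympCount.sB d F).restrict W) (fun u => hA (u : Fin d ⊕ Fin d → F))
          (LinearMap.BilinForm.nondegenerate_restrict_of_disjoint_orthogonal _ hR hWnd) (T.restrict hWi)
          (fun u v => hI u v) (LinearMap.ext fun u => Subtype.ext (by
            have h := CfsgLib.Perm.Elusive.restrict_aeval_coe T hWi (Polynomial.X ^ r) u
            rw [map_pow, map_pow, Polynomial.aeval_X, Polynomial.aeval_X, hTr] at h
            exact h)) hc'
        have hfix : Module.finrank F (LinearMap.ker (T.restrict hWi - 1)) ≤ 2 * d % c := by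
          rw [he, ← two_mul, ← hxk, ← hT, ← Submodule.finrank_map_subtype_eq W]
          refine Submodule.finrank_mono ?_
          rintro _ ⟨u, hu, rfl⟩
          rw [SetLike.mem_coe, LinearMap.mem_ker] at hu
          rw [LinearMap.mem_ker]
          exact congrArg Subtype.val hu
        rw [hWd] at hk
        rw [hk, Nat.add_mul_mod_self_right] at hcon
        exact absurd ((Nat.mod_le _ _).trans hfix) (not_le.2 hcon)
      refine ⟨?_, hmod⟩
      by_contra hcm
      push Not at hcm
      exact hcount (by rwa [Nat.mod_eq_of_lt hcm] at hmod)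
    · intro hcond x hxz _
      obtain ⟨z, hxz⟩ := hxz
      have hmod : m % c ≤ (2 * d) % c := by
        rcases hcond with ⟨h, -⟩ | ⟨h, -⟩ | ⟨h, -⟩ | ⟨-, -, -, h⟩
        · exact absurd h hrp
        · exact absurd h hrp
        · exact absurd h hr2
        · exact h
      obtain ⟨T, hT, hI, hTr, hz⟩ := hnorm x z r hr.pos hxz
      obtain ⟨hUr, hUI⟩ := hodd_pow T z r hz hrodd hTr hI
      obtain ⟨W, hW, hWnd, hWd⟩ := CfsgLib.Perm.Elusive.exists_symp_sub_dim (p := p) hrp hr2 hA hN (z • T) hUI hUr hc'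
        hme (by omega) (by rwa [hV])
      exact ⟨W, hWd, (hsf W).1 hWnd, by rw [← hT]; exact hback T z W hz hW⟩

end Cfsg.Agent.S5956
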