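import Cfsg.Statements.S5957
-- import your own Cfsg.Agent.* helpers here
import Mathlib
import Cfsg.Agent.Lib.Perm.Elusive.InvolDecomp

set_option autoImplicit false
set_option linter.all false
open scoped MatrixGroups
open Cfsg

namespace Cfsg.Agent.S5957

/-- Involutions of PSL_n(q) and imprimitive subgroups. Here `T = PSL_n(F)` for a field `F` with `q = p^f` elements (`n ≥ 2`, `(n, q) ≠ (2, 2), (2, 3)`), `n = a·t` with `t ≥ 2`, and Ω is the set of direct-sum decompositions of `F^n` into `t` subspaces of dimension `a` (unordered; their number is the number of ordered ones divided by `t!`), whose stabilizers are the imprimitive subgroups of type GL_a(q) ≀ S_t (maximal except in some small cases; maximality is not assumed); an element of `T` of prime order `r` (a matrix `x` of determinant 1 with `x^r` scalar, `x` not scalar) fixes a point of Ω when it permutes the summands of some such decomposition. If the number of such decompositions is even, then every involution of `T` stabilizes one of them (the action is 2-elusive).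 -/
theorem result {F : Type*} [Field F] [Fintype F] {p : ℕ} [Fact p.Prime] [CharP F p] {q : ℕ} (hq : Fintype.card F = q)
    (n a t : ℕ) (hn : 2 ≤ n) (hT : (n, q) ≠ (2, 2) ∧ (n, q) ≠ (2, 3)) (hat : n = a * t) (ha : 1 ≤ a) (ht : 2 ≤ t)
    (hΩ : 2 ∣ Nat.card {D : Fin t → Submodule F (Fin n → F) // Cfsg.Geo.IsMDecomposition a D} / Nat.factorial t)
    (x : Matrix.SpecialLinearGroup (Fin n) F)
    (hx1 : ∃ z : F, ((x ^ 2 : Matrix.SpecialLinearGroup (Fin n) F) : Matrix (Fin n) (Fin n) F) = z • (1 : Matrix (Fin n) (Fin n) F))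
    (hx2 : ∀ z : F, (x : Matrix (Fin n) (Fin n) F) ≠ z • (1 : Matrix (Fin n) (Fin n) F)) :
    ∃ D : Fin t → Submodule F (Fin n → F), Cfsg.Geo.IsMDecomposition a D ∧
        ∃ σ : Equiv.Perm (Fin t), ∀ j, (D j).map (Matrix.toLin' (x : Matrix (Fin n) (Fin n) F)) = D (σ j) := by
  obtain ⟨z, hz⟩ := hx1
  have hz0 : z ≠ 0 := by
    intro h0
    rw [h0, zero_smul] at hz
    have h1 : ((x ^ 2 : Matrix.SpecialLinearGroup (Fin n) F) : Matrix (Fin n) (Fin n) F).det = 1 := (x ^ 2).2
    haveI : Nonempty (Fin n) := ⟨⟨0, by omega⟩⟩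
    rw [hz, Matrix.det_zero] at h1
    exact zero_ne_one h1
  have hT : ∀ v, Matrix.toLin' (x : Matrix (Fin n) (Fin n) F) (Matrix.toLin' (x : Matrix (Fin n) (Fin n) F) v) = z • v := by
    intro v
    rw [Matrix.toLin'_apply, Matrix.toLin'_apply, Matrix.mulVec_mulVec]
    rw [Matrix.SpecialLinearGroup.coe_pow, sq] at hz
    rw [hz, Matrix.smul_mulVec, Matrix.one_mulVec]
  rcases CfsgLib.Perm.Elusive.exists_square_scalar_basis _ hz0 hT with
    ⟨ρ, hρ, -, k, l, b, h1, h2⟩ | ⟨ρ, k, l, b, h1, h2, h3, h4⟩
  · have hρ0 : ρ ≠ 0 := fun h => hz0 (by rw [← hρ, h, zero_mul])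
    refine CfsgLib.Perm.Elusive.exists_decomposition_of_monomial b _ 1 (fun _ => rfl)
      (Sum.elim (fun _ => ρ) fun _ => -ρ) (fun i => ?_) (fun i => ?_) (k := 0) (by omega) ht ?_
      (by simp [CfsgLib.Perm.Elusive.movedCount])
    · rcases i with i | i <;> simpa using hρ0
    · rcases i with i | i
      · exact h1 i
      · exact h2 i
    · rw [← Module.finrank_eq_card_basis b, Module.finrank_fin_fun, hat]
  · refine CfsgLib.Perm.Elusive.exists_decomposition_of_monomial b _ (Equiv.sumCongr (Equiv.sumComm _ _) (Equiv.refl _))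
      (fun i => ?_) (Sum.elim (Sum.elim (fun _ => 1) fun _ => z) fun _ => ρ) (fun i => ?_) (fun i => ?_) (k := k)
      (by omega) ht ?_ ?_
    · rcases i with (i | i) | i <;> rfl
    · rcases i with (i | i) | i
      · exact one_ne_zero
      · exact hz0
      · intro h
        rcases h4 with ⟨-, rfl⟩ | ⟨-, hρ⟩
        · exact i.elim0
        · exact hz0 (by rw [← hρ, show ρ = 0 from h, zero_mul])
    · rcases i with (i | i) | i
      · simpa using h1 i
      · exact h2 i
      · exact h3 i
    · rw [← Module.finrank_eq_card_basis b, Module.finrank_fin_fun, hat]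
    · simp [CfsgLib.Perm.Elusive.movedCount, Fintype.sum_sum_type, two_mul]

end Cfsg.Agent.S5957
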