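import Cfsg.Statements.S5958
-- import your own Cfsg.Agent.* helpers here
import Mathlib
import Cfsg.Agent.Lib.Perm.Elusive.DecompositionCount

set_option autoImplicit false
set_option linter.all false
open scoped MatrixGroups
open Cfsg

namespace Cfsg.Agent.S5958

/-- Elements of odd prime order of PSL_n(q) and imprimitive subgroups. Here `T = PSL_n(F)` for a field `F` with `q = p^f` elements (`n ≥ 2`, `(n, q) ≠ (2, 2), (2, 3)`), `n = a·t` with `t ≥ 2`, and Ω is the set of direct-sum decompositions of `F^n` into `t` subspaces of dimension `a` (unordered; their number is the number of ordered ones divided by `t!`), whose stabilizers are the imprimitive subgroups of type GL_a(q) ≀ S_t (maximal except in some small cases; maximality is not assumed); an element of `T` of prime order `r` (a matrix `x` of determinant 1 with `x^r` scalar, `x` not scalar) fixes a point of Ω when it permutes the summands of some such decomposition. Let `r ≠ p` be an odd prime dividing the number of such decompositions, let `c` be the multiplicative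 order of `q` modulo `r`, and write `k = n mod c`, `ℓ = a mod c`. Then every element of `T` of order `r` stabilizes such a decomposition if and only if either `a = 1`, `c = r − 1 > 1` and `n ≤ k·r`, or `c ≤ a` and `k = t·ℓ`. -/
theorem result {F : Type*} [Field F] [Fintype F] {p : ℕ} [Fact p.Prime] [CharP F p] {q : ℕ} (hq : Fintype.card F = q)
    (n a t : ℕ) (hn : 2 ≤ n) (hT : (n, q) ≠ (2, 2) ∧ (n, q) ≠ (2, 3)) (hat : n = a * t) (ha : 1 ≤ a) (ht : 2 ≤ t)
    (r : ℕ) [Fact r.Prime] (hr2 : r ≠ 2) (hrp : r ≠ p) (hΩ : r ∣ Nat.card {D : Fin t → Submodule F (Fin n → F) // Cfsg.Geo.IsMDecomposition a D} / Nat.factorial t)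
    (c : ℕ) (hc : c = orderOf (q : ZMod r)) :
    (∀ x : Matrix.SpecialLinearGroup (Fin n) F,
      (∃ z : F, ((x ^ r : Matrix.SpecialLinearGroup (Fin n) F) : Matrix (Fin n) (Fin n) F) = z • (1 : Matrix (Fin n) (Fin n) F)) →
      (∀ z : F, (x : Matrix (Fin n) (Fin n) F) ≠ z • (1 : Matrix (Fin n) (Fin n) F)) →
      ∃ D : Fin t → Submodule F (Fin n → F), Cfsg.Geo.IsMDecomposition a D ∧
        ∃ σ : Equiv.Perm (Fin t), ∀ j, (D j).map (Matrix.toLin' (x : Matrix (Fin n) (Fin n) F)) = D (σ j)) ↔
    ((a = 1 ∧ 1 < c ∧ c = r - 1 ∧ n ≤ (n % c) * r) ∨ (c ≤ a ∧ n % c = t * (a % c))) := by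
  classical
  have hfr : (Fintype.card F : ZMod r) = (q : ZMod r) := by rw [hq]
  rw [← hfr] at hc
  have hr : r.Prime := Fact.out
  have hcpos : 0 < c := hc ▸ CfsgLib.Perm.Elusive.order_pos hrp
  have hcr : c ≤ r - 1 := by
    rw [hc]
    exact Nat.le_of_dvd (by have := hr.two_le; omega) (ZMod.orderOf_dvd_card_sub_one (CfsgLib.Perm.Elusive.card_ne_zero_zmod hrp))
  constructor
  · intro hLHS
    by_contra hbad
    push Not at hbad
    obtain ⟨hb1, hb2⟩ := hbad
    have hc1 : 1 < c := by
      by_contra h
      obtain rfl : c = 1 := by omega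
      exact hb2 (by omega) (by rw [Nat.mod_one, Nat.mod_one, mul_zero])
    have hi1 : orderOf ((Fintype.card F : ℕ) : ZMod r) ≠ 1 := hc ▸ hc1.ne'
    have hcn : c ≤ n := hc ▸ CfsgLib.Perm.Elusive.order_le_of_dvd_decompositions hrp hat ha ht hΩ
    have key : ∀ s k, 1 ≤ k → n = s + k * c →
        ∃ (T : (Fin n → F) →ₗ[F] (Fin n → F)) (D : Fin t → Submodule F (Fin n → F)) (σ : Equiv.Perm (Fin t)),
          T ^ r = 1 ∧ Module.finrank F (LinearMap.ker (T - 1)) = s ∧ Cfsg.Geo.IsMDecomposition a D ∧
            ∀ j, (D j).map T = D (σ j) := by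
      intro s k hk hn'
      obtain ⟨T, hT, hs⟩ := CfsgLib.Perm.Elusive.exists_prime_element (F := F) (p := p) (r := r) hrp (a := s) (b := k)
        (n := n) (by rw [← hc]; exact hn')
      have hdet : (LinearMap.toMatrix' T).det = 1 := by
        rw [LinearMap.det_toMatrix']
        exact CfsgLib.Perm.Elusive.eq_one_of_pow_eq_one hrp hi1 (by rw [← map_pow, hT, map_one])
      have hr1 : (LinearMap.toMatrix' T) ^ r = 1 := by
        apply Matrix.toLin'.injective
        rw [Matrix.toLin'_pow, Matrix.toLin'_toMatrix', hT, Matrix.toLin'_one]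
        rfl
      obtain ⟨D, hD, σ, hσ⟩ := hLHS ⟨LinearMap.toMatrix' T, hdet⟩
        ⟨1, by rw [one_smul]; exact (Matrix.SpecialLinearGroup.coe_pow _ _).trans hr1⟩ (by
          intro z hz
          have hTz : T = z • LinearMap.id := by
            have h := congrArg Matrix.toLin' hz
            rwa [map_smul, Matrix.toLin'_toMatrix', Matrix.toLin'_one] at h
          haveI : Nonempty (Fin n) := ⟨⟨0, by omega⟩⟩
          have hz1 : z ^ r = 1 := by
            have h2 : (z • LinearMap.id : (Fin n → F) →ₗ[F] (Fin n → F)) ^ r = 1 := hTz ▸ hT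
            rw [← Module.End.one_eq_id, _root_.smul_pow, one_pow] at h2
            have h := congrFun (LinearMap.congr_fun h2 (fun _ => (1 : F))) ⟨0, by omega⟩
            simpa using h
          rw [CfsgLib.Perm.Elusive.eq_one_of_pow_eq_one hrp hi1 hz1, one_smul, ← Module.End.one_eq_id] at hTz
          rw [hTz, sub_self, LinearMap.ker_zero, finrank_top, Module.finrank_fin_fun] at hs
          have := Nat.mul_pos hk hcpos
          omega)
      exact ⟨T, D, σ, hT, hs, hD, fun j => by simpa using hσ j⟩
    by_cases hca : c ≤ a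
    · obtain ⟨T, D, σ, hT, hs, hD, hσ⟩ := key (n % c) (n / c) (Nat.div_pos hcn hcpos) (Nat.mod_add_div' n c).symm
      by_cases hmv : ∃ j, σ j ≠ j
      · obtain ⟨j, hj⟩ := hmv
        have h := (CfsgLib.Perm.Elusive.cycle_bounds (r := r) T hT hD.indep hD.pos hD.finrank_eq σ hσ hj).1
        rw [hs] at h
        have := Nat.mod_lt n hcpos
        omega
      · push Not at hmv
        have h := CfsgLib.Perm.Elusive.fixed_bound (p := p) hrp T hT hD.indep hD.finrank_eq (fun j => by rw [hσ, hmv])
        rw [hs, ← hc] at h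
        refine hb2 hca (le_antisymm ?_ h)
        rw [hat, mul_comm a t, Nat.mul_mod, Nat.mod_mul_mod]
        exact Nat.mod_le _ _
    · obtain ⟨T, D, σ, hT, hs, hD, hσ⟩ := key (n - c) 1 le_rfl (by omega)
      have hmv : ∃ j, σ j ≠ j := by
        by_contra hmv
        push Not at hmv
        have h := CfsgLib.Perm.Elusive.fixed_bound (p := p) hrp T hT hD.indep hD.finrank_eq (fun j => by rw [hσ, hmv])
        rw [hs, ← hc, Nat.mod_eq_of_lt (by omega : a < c), mul_comm, ← hat] at h
        omega
      obtain ⟨j, hj⟩ := hmv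
      have h := (CfsgLib.Perm.Elusive.cycle_bounds (r := r) T hT hD.indep hD.pos hD.finrank_eq σ hσ hj).2
      rw [hs, Module.finrank_fin_fun] at h
      have h1 : r - 1 ≤ a * (r - 1) := Nat.le_mul_of_pos_left _ hD.pos
      have hcr' : c = r - 1 := by omega
      have ha1 : a = 1 := by
        by_contra h2
        have : 2 * (r - 1) ≤ a * (r - 1) := Nat.mul_le_mul_right _ (by omega)
        omega
      obtain ⟨T₂, D₂, σ₂, hT₂, hs₂, hD₂, hσ₂⟩ := key (n % c) (n / c) (Nat.div_pos hcn hcpos) (Nat.mod_add_div' n c).symm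
      have hb := hb1 ha1 hc1 hcr'
      have hl := CfsgLib.Perm.Elusive.line_bound (p := p) hrp hi1 T₂ hT₂ hD₂.indep (fun j => (hD₂.finrank_eq j).trans ha1) σ₂ hσ₂
      rw [hs₂, mul_comm] at hl
      rw [ha1, one_mul] at hat
      omega
  · intro hcond x hxz hxns
    obtain ⟨z, hz⟩ := hxz
    obtain ⟨T, hTdef⟩ : ∃ T, T = Matrix.toLin' (x : Matrix (Fin n) (Fin n) F) := ⟨_, rfl⟩
    rw [← hTdef]
    have hT : T ^ r = z • LinearMap.id := by
      rw [hTdef, ← Matrix.toLin'_pow, ← Matrix.SpecialLinearGroup.coe_pow, hz, map_smul, Matrix.toLin'_one]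
    have hdet : LinearMap.det T = 1 := by rw [hTdef, LinearMap.det_toLin']; exact x.2
    have hz0 : z ≠ 0 := fun h => by
      have h2 := congrArg LinearMap.det hT
      rw [map_pow, hdet, one_pow, h, zero_smul, LinearMap.det_zero, Module.finrank_fin_fun, zero_pow (by omega)] at h2
      exact one_ne_zero h2
    have hTinj : Function.Injective T := by
      intro u v huv
      have h := congrArg (T ^ (r - 1)) huv
      rw [← Module.End.mul_apply, ← Module.End.mul_apply, ← pow_succ, Nat.sub_add_cancel hr.one_le, hT] at h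
      exact smul_right_injective _ hz0 h
    rcases hcond with ⟨rfl, hc1, hcr', hn'⟩ | ⟨hca, hmod⟩
    · obtain ⟨l, hl⟩ := CfsgLib.Perm.Elusive.exists_root_of_order_ne_one (r := r) hrp (hc ▸ hc1.ne') z
      have hl0 : l ≠ 0 := fun h => hz0 (by rw [← hl, h, zero_pow hr.ne_zero])
      obtain ⟨y, hy⟩ : ∃ y, y = l⁻¹ • T := ⟨_, rfl⟩
      have hyr : y ^ r = 1 := by
        rw [hy, _root_.smul_pow, hT, smul_smul, inv_pow, hl, inv_mul_cancel₀ hz0, one_smul]
        rfl
      obtain ⟨k, hk, -⟩ := CfsgLib.Perm.Elusive.exists_split (p := p) hrp y hyr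
      rw [Module.finrank_fin_fun, ← hc] at hk
      have hsn : n % c ≤ Module.finrank F (LinearMap.ker (y - 1)) := by
        conv_lhs => rw [hk, Nat.add_mul_mod_self_right]
        exact Nat.mod_le _ _
      obtain ⟨b, σ, hb⟩ := CfsgLib.Perm.Elusive.exists_perm_basis (p := p) hrp (hc ▸ hcr') y hyr (by
        rw [Module.finrank_fin_fun, mul_comm]
        exact hn'.trans (Nat.mul_le_mul_right r hsn))
      obtain ⟨bb, hbb⟩ : ∃ bb : Module.Basis (Fin (Module.finrank F (Fin n → F)) × Fin 1) F (Fin n → F),
          ∀ i u, bb (i, u) = b i := ⟨b.reindex (Equiv.prodUnique _ (Fin 1)).symm, fun i u => by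
            rw [Module.Basis.reindex_apply]; rfl⟩
      refine CfsgLib.Perm.Elusive.decomposition_of_basis ht Nat.one_pos bb
        (finCongr (by rw [Module.finrank_fin_fun, hat, one_mul])) (Equiv.refl _) T hTinj σ fun i u => ?_
      have h : T (bb (i, u)) = l • bb (σ i, u) := by
        rw [hbb, hbb, ← hb, hy, LinearMap.smul_apply, smul_inv_smul₀ hl0]
      rw [h]
      exact Submodule.smul_mem _ _ (Submodule.subset_span ⟨_, rfl, rfl⟩)
    · have hlt : t * (a % c) < c := hmod ▸ Nat.mod_lt _ hcpos
      by_cases hcyc : (∀ l : F, l ^ r ≠ z) ∧ ¬ r ∣ a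
      · obtain ⟨hz', hra⟩ := hcyc
        have hdiv := (CfsgLib.Perm.Elusive.nonpower_invariant T hT hz').1 ⊤ fun u _ => Submodule.mem_top
        rw [finrank_top, Module.finrank_fin_fun, hat] at hdiv
        obtain ⟨t', rfl⟩ : r ∣ t := (hr.dvd_mul.1 hdiv).resolve_left hra
        have hirr : Irreducible (Polynomial.X ^ r - Polynomial.C z : Polynomial F) := X_pow_sub_C_irreducible_of_prime hr hz'
        have hP : Polynomial.aeval T (Polynomial.X ^ r - Polynomial.C z : Polynomial F) = 0 := by
          rw [map_sub, map_pow, Polynomial.aeval_X, Polynomial.aeval_C, hT]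
          refine LinearMap.ext fun v => ?_
          simp [Module.algebraMap_end_apply]
        obtain ⟨k, v, b, hb, -⟩ := CfsgLib.Perm.Elusive.exists_chains T hP hirr.squarefree (d := r) fun g hg hgd => by
          rw [Polynomial.natDegree_eq_of_degree_eq (Polynomial.degree_eq_degree_of_associated (hg.associated_of_dvd hirr hgd)),
            Polynomial.natDegree_X_pow_sub_C]
        have hk : k = t' * a := by
          have h := Module.finrank_eq_card_basis b
          rw [Module.finrank_fin_fun, Fintype.card_prod, Fintype.card_fin, Fintype.card_fin, hat] at h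
          refine Nat.eq_of_mul_eq_mul_right hr.pos ?_
          rw [← h]; ring
        subst hk
        obtain ⟨bb, hbb⟩ : ∃ bb : Module.Basis ((Fin t' × Fin r) × Fin a) F (Fin n → F),
            ∀ l i u, bb ((l, i), u) = (T ^ (i : ℕ)) (v (finProdFinEquiv (l, u))) := by
          obtain ⟨e, he⟩ : ∃ e : Fin (t' * a) × Fin r ≃ (Fin t' × Fin r) × Fin a,
              ∀ l i u, e.symm ((l, i), u) = (finProdFinEquiv (l, u), i) :=
            ⟨{ toFun := fun x => (((finProdFinEquiv.symm x.1).1, x.2), (finProdFinEquiv.symm x.1).2)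
               invFun := fun x => (finProdFinEquiv (x.1.1, x.2), x.1.2)
               left_inv := fun x => by simp only [Prod.mk.eta, Equiv.apply_symm_apply]
               right_inv := fun x => by simp }, fun l i u => rfl⟩
          exact ⟨b.reindex e, fun l i u => by rw [Module.Basis.reindex_apply, he, hb]⟩
        haveI : NeZero r := ⟨hr.ne_zero⟩
        refine CfsgLib.Perm.Elusive.decomposition_of_basis ht ha bb (finProdFinEquiv.trans (finCongr (mul_comm t' r)))
          (Equiv.refl _) T hTinj (Equiv.prodCongrRight fun _ : Fin t' => Equiv.addRight (1 : Fin r)) ?_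
        rintro ⟨l, i⟩ u
        rw [hbb, ← Module.End.mul_apply, ← pow_succ']
        have hi := i.2
        by_cases hil : (i : ℕ) + 1 < r
        · refine Submodule.subset_span ⟨((l, i + 1), u), rfl, ?_⟩
          rw [hbb, Fin.val_add, Fin.val_one', Nat.add_mod_mod, Nat.mod_eq_of_lt hil]
        · rw [show (i : ℕ) + 1 = r by omega, hT, LinearMap.smul_apply, LinearMap.id_apply]
          refine Submodule.smul_mem _ _ (Submodule.subset_span ⟨((l, i + 1), u), rfl, ?_⟩)
          rw [hbb, Fin.val_add, Fin.val_one', Nat.add_mod_mod, show (i : ℕ) + 1 = r by omega, Nat.mod_self, pow_zero]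
          rfl
      · push Not at hcyc
        obtain ⟨b, hb⟩ := CfsgLib.Perm.Elusive.exists_fixed_basis (p := p) hrp hz0 t T hT (a := a)
          (by rw [Module.finrank_fin_fun, hat, mul_comm]) (hc ▸ hlt) fun h => hcyc h
        exact CfsgLib.Perm.Elusive.decomposition_of_basis ht ha b (Equiv.refl _) (Equiv.refl _) T hTinj (Equiv.refl _) hb

end Cfsg.Agent.S5958
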