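import Cfsg.Statements.S5959
-- import your own Cfsg.Agent.* helpers here
import Mathlib
import Cfsg.Agent.Lib.Perm.Elusive.JordanType

set_option autoImplicit false
set_option linter.all false
open scoped MatrixGroups
open Cfsg

namespace Cfsg.Agent.S5959

/-- Elements of order `p` of PSL_n(q) and imprimitive subgroups: a necessary condition. Here `T = PSL_n(F)` for a field `F` with `q = p^f` elements (`n ≥ 2`, `(n, q) ≠ (2, 2), (2, 3)`), `n = a·t` with `t ≥ 2`, and Ω is the set of direct-sum decompositions of `F^n` into `t` subspaces of dimension `a` (unordered; their number is the number of ordered ones divided by `t!`), whose stabilizers are the imprimitive subgroups of type GL_a(q) ≀ S_t (maximal except in some small cases; maximality is not assumed); an element of `T` of prime order `r` (a matrix `x` of determinant 1 with `x^r` scalar, `x` not scalar) fixes a point of Ω when it permutes the summands of some such decomposition. Suppose `p > 2` divides the number of such decompositions.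 If every element of `T` of order `p` stabilizes such a decomposition, then every partition of `n` into parts of size at most `p` in which the part `p` occurs fewer than `a` times contains (as a sub-multiset) a partition of `a`. -/
theorem result {F : Type*} [Field F] [Fintype F] {p : ℕ} [Fact p.Prime] [CharP F p] {q : ℕ} (hq : Fintype.card F = q)
    (n a t : ℕ) (hn : 2 ≤ n) (hT : (n, q) ≠ (2, 2) ∧ (n, q) ≠ (2, 3)) (hat : n = a * t) (ha : 1 ≤ a) (ht : 2 ≤ t)
    (hp : 2 < p) (hΩ : p ∣ Nat.card {D : Fin t → Submodule F (Fin n → F) // Cfsg.Geo.IsMDecomposition a D} / Nat.factorial t)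
    (h : ∀ x : Matrix.SpecialLinearGroup (Fin n) F,
      (∃ z : F, ((x ^ p : Matrix.SpecialLinearGroup (Fin n) F) : Matrix (Fin n) (Fin n) F) = z • (1 : Matrix (Fin n) (Fin n) F)) →
      (∀ z : F, (x : Matrix (Fin n) (Fin n) F) ≠ z • (1 : Matrix (Fin n) (Fin n) F)) →
      ∃ D : Fin t → Submodule F (Fin n → F), Cfsg.Geo.IsMDecomposition a D ∧
        ∃ σ : Equiv.Perm (Fin t), ∀ j, (D j).map (Matrix.toLin' (x : Matrix (Fin n) (Fin n) F)) = D (σ j)) :
    (∀ μ : Multiset ℕ, (∀ b ∈ μ, 0 < b ∧ b ≤ p) → μ.sum = n → μ.count p < a → ∃ ν : Multiset ℕ, ν ≤ μ ∧ ν.sum = a) := by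
  classical
  intro μ hμ hsum hcount
  by_cases h1 : ∀ b ∈ μ, b = 1
  · rw [Multiset.eq_replicate_card.2 h1] at hsum ⊢
    rw [Multiset.sum_replicate, smul_eq_mul, mul_one] at hsum
    refine ⟨Multiset.replicate a 1, (Multiset.replicate_le_replicate 1).2 ?_, by simp⟩
    rw [hsum, hat]
    exact Nat.le_mul_of_pos_right a (by omega)
  obtain ⟨l, b, rfl⟩ : ∃ (l : ℕ) (b : Fin l → ℕ), μ = (Finset.univ : Finset (Fin l)).val.map b :=
    ⟨_, fun i => μ.toList.get i, by rw [Fin.univ_val_map, List.ofFn_get, Multiset.coe_toList]⟩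
  have hbp : ∀ i, 0 < b i ∧ b i ≤ p := fun i => hμ _ (Multiset.mem_map_of_mem b (Finset.mem_univ i))
  have hsum' : ∑ i, b i = n := hsum
  obtain ⟨e⟩ : Nonempty ((Σ i : Fin l, Fin (b i)) ≃ Fin n) :=
    ⟨Fintype.equivFinOfCardEq (by rw [Fintype.card_sigma, ← hsum']; simp)⟩
  obtain ⟨Sh, hSh⟩ : ∃ Sh : ℕ → Module.End F (Fin n → F), ∀ (j : ℕ) (g : Fin n → F) (x : Σ i : Fin l, Fin (b i)),
      Sh j g (e x) = if j ≤ (x.2 : ℕ) then g (e ⟨x.1, ⟨x.2 - j, by omega⟩⟩) else 0 := by
    let G : ℕ → (Fin n → F) → (Σ i : Fin l, Fin (b i)) → F := fun j g x =>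
      if j ≤ (x.2 : ℕ) then g (e ⟨x.1, ⟨x.2 - j, by omega⟩⟩) else 0
    refine ⟨fun j => LinearMap.pi fun m =>
      ⟨⟨fun g => G j g (e.symm m), fun g g' => ?_⟩, fun c g => ?_⟩, fun j g x => ?_⟩
    · simp only [G]; split_ifs <;> simp
    · simp only [G]; split_ifs <;> simp
    · show G j g (e.symm (e x)) = G j g x
      rw [Equiv.symm_apply_apply]
  obtain ⟨N, hN⟩ : ∃ N, N = Sh 1 := ⟨_, rfl⟩
  have hext : ∀ g g' : Fin n → F, (∀ x, g (e x) = g' (e x)) → g = g' := fun g g' hg =>
    funext fun m => by simpa using hg (e.symm m)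
  have hpow : ∀ j, N ^ j = Sh j := fun j => by
    induction j with
    | zero => exact LinearMap.ext fun g => hext _ _ fun x => by simp [hSh]
    | succ j ih =>
      refine LinearMap.ext fun g => hext _ _ fun x => ?_
      rw [pow_succ, ih, hN, Module.End.mul_apply, hSh, hSh]
      by_cases hj : j ≤ (x.2 : ℕ)
      · rw [if_pos hj, hSh]
        by_cases hj' : j + 1 ≤ (x.2 : ℕ)
        · rw [if_pos hj', if_pos (show 1 ≤ (x.2 : ℕ) - j by omega)]
          refine congrArg g (congrArg e (Sigma.ext rfl (heq_of_eq ?_)))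
          exact Fin.ext (show (x.2 : ℕ) - j - 1 = (x.2 : ℕ) - (j + 1) by omega)
        · rw [if_neg hj', if_neg (show ¬ 1 ≤ (x.2 : ℕ) - j by omega)]
      · rw [if_neg hj, hSh, if_neg (by omega)]
  have hrank : ∀ j, CfsgLib.Perm.Elusive.powRank N ⊤ j = ∑ i, (b i - j) := fun j => by
    obtain ⟨E, hE⟩ : ∃ E : ((Σ i : Fin l, {k : Fin (b i) // j ≤ (k : ℕ)}) → F) →ₗ[F] (Fin n → F), ∀ g x,
        E g (e x) = if h : j ≤ (x.2 : ℕ) then g ⟨x.1, x.2, h⟩ else 0 := by
      let G : ((Σ i : Fin l, {k : Fin (b i) // j ≤ (k : ℕ)}) → F) → (Σ i : Fin l, Fin (b i)) → F := fun g x =>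
        if h : j ≤ (x.2 : ℕ) then g ⟨x.1, x.2, h⟩ else 0
      refine ⟨LinearMap.pi fun m => ⟨⟨fun g => G g (e.symm m), fun g g' => ?_⟩, fun c g => ?_⟩, fun g x => ?_⟩
      · simp only [G]; split_ifs <;> simp
      · simp only [G]; split_ifs <;> simp
      · show G g (e.symm (e x)) = G g x
        rw [Equiv.symm_apply_apply]
    have hEinj : Function.Injective E := fun g g' hg => funext fun y => by
      have := congrFun hg (e ⟨y.1, y.2.1⟩)
      rwa [hE, hE, dif_pos y.2.2, dif_pos y.2.2] at this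
    have hr : (⊤ : Submodule F (Fin n → F)).map (N ^ j) = LinearMap.range E := by
      rw [Submodule.map_top, hpow]
      refine le_antisymm ?_ ?_
      · rintro _ ⟨g, rfl⟩
        exact ⟨fun y => Sh j g (e ⟨y.1, y.2.1⟩), hext _ _ fun x => by
          rw [hE]
          split_ifs with hx
          · rfl
          · rw [hSh, if_neg hx]⟩
      · rintro _ ⟨g, rfl⟩
        refine ⟨fun m => if h : ((e.symm m).2 : ℕ) + j < b (e.symm m).1 then
            E g (e ⟨(e.symm m).1, ⟨((e.symm m).2 : ℕ) + j, h⟩⟩) else 0, hext _ _ fun x => ?_⟩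
        rw [hSh, hE]
        by_cases hx : j ≤ (x.2 : ℕ)
        · rw [if_pos hx, dif_pos hx]
          show (fun z : Σ i : Fin l, Fin (b i) => if h : (z.2 : ℕ) + j < b z.1 then
            E g (e ⟨z.1, ⟨(z.2 : ℕ) + j, h⟩⟩) else 0) (e.symm (e ⟨x.1, ⟨x.2 - j, by omega⟩⟩)) = g ⟨x.1, x.2, hx⟩
          rw [Equiv.symm_apply_apply]
          show (if h : (x.2 : ℕ) - j + j < b x.1 then E g (e ⟨x.1, ⟨(x.2 : ℕ) - j + j, h⟩⟩) else 0) = _
          rw [dif_pos (by omega), show (⟨(x.2 : ℕ) - j + j, by omega⟩ : Fin (b x.1)) = x.2 from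
            Fin.ext (Nat.sub_add_cancel hx), hE, dif_pos hx]
        · rw [if_neg hx, dif_neg hx]
    rw [CfsgLib.Perm.Elusive.powRank, hr, LinearMap.finrank_range_of_inj hEinj, Module.finrank_fintype_fun_eq_card,
      Fintype.card_sigma]
    refine Finset.sum_congr rfl fun i _ => ?_
    rw [Fintype.card_subtype]
    rw [show (Finset.univ.filter fun k : Fin (b i) => j ≤ (k : ℕ)).card =
      ((Finset.Ico j (b i)).card) from Finset.card_bij (fun k _ => (k : ℕ))
        (fun k hk => by simp at hk ⊢; omega) (fun k _ k' _ hkk => Fin.ext hkk)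
        (fun m hm => by simp at hm; exact ⟨⟨m, by omega⟩, by simp; omega, rfl⟩), Nat.card_Ico]
  have hNp : N ^ p = 0 := by
    have h0 : (⊤ : Submodule F (Fin n → F)).map (N ^ p) = ⊥ := Submodule.finrank_eq_zero.1 (by
      have h2 := hrank p
      rw [CfsgLib.Perm.Elusive.powRank] at h2
      rw [h2]
      exact Finset.sum_eq_zero fun i _ => Nat.sub_eq_zero_of_le (hbp i).2)
    rw [Submodule.map_top] at h0
    exact LinearMap.range_eq_bot.1 h0
  obtain ⟨M, hM⟩ : ∃ M : Matrix (Fin n) (Fin n) F, M = LinearMap.toMatrixAlgEquiv' N := ⟨_, rfl⟩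
  have hMp : (1 + M) ^ p = 1 := by
    haveI : Nonempty (Fin n) := ⟨⟨0, by omega⟩⟩
    rw [add_pow_char_of_commute p (Commute.one_left M), one_pow, hM, ← map_pow, hNp, map_zero, add_zero]
  have hdet : (1 + M).det = 1 := frobenius_inj F p (by
    rw [frobenius_def, frobenius_def, one_pow, ← Matrix.det_pow, hMp, Matrix.det_one])
  have hTlin : Matrix.toLin' (1 + M) = 1 + N := by
    rw [map_add, Matrix.toLin'_one, hM]
    congr 1
    exact Matrix.toLinAlgEquiv'_toMatrixAlgEquiv' N
  obtain ⟨D, hD, σ, hσ⟩ := h ⟨1 + M, hdet⟩ ⟨1, by rw [one_smul]; exact hMp⟩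
    (fun z hz => by
      change 1 + M = z • 1 at hz
      have e1 : M = (z - 1) • (1 : Matrix (Fin n) (Fin n) F) := by rw [sub_smul, one_smul, ← hz, add_sub_cancel_left]
      have e2 : M ^ p = 0 := by rw [hM, ← map_pow, hNp, map_zero]
      rw [e1, smul_pow, one_pow] at e2
      have e3 : (z - 1) ^ p = 0 := by simpa using congrFun (congrFun e2 ⟨0, by omega⟩) ⟨0, by omega⟩
      rw [eq_zero_of_pow_eq_zero e3, zero_smul] at e1
      have hN0 : N = 0 := LinearMap.toMatrixAlgEquiv'.injective (by rw [← hM, e1, map_zero])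
      have hr1 := hrank 1
      rw [CfsgLib.Perm.Elusive.powRank, pow_one, hN0, Submodule.map_zero, finrank_bot] at hr1
      refine h1 fun c hc => ?_
      obtain ⟨i, -, rfl⟩ := Multiset.mem_map.1 hc
      have := Finset.sum_eq_zero_iff.1 hr1.symm i (Finset.mem_univ i)
      have := (hbp i).1
      omega)
  change ∀ j, (D j).map (Matrix.toLin' (1 + M)) = D (σ j) at hσ
  rw [hTlin] at hσ
  have hDinj : Function.Injective D := fun i j hij => by
    by_contra hne
    have h2 := hD.indep.pairwiseDisjoint hne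
    rw [Function.onFun, hij, disjoint_self] at h2
    have := hD.finrank_eq j
    rw [h2, finrank_bot] at this
    omega
  have hmem : ∀ (i : ℕ) (j : Fin t), ∀ w ∈ D j, ((1 + N) ^ i) w ∈ D ((σ ^ i) j) := fun i => by
    induction i with
    | zero => intro j w hw; simpa using hw
    | succ i ih =>
      intro j w hw
      rw [pow_succ', pow_succ', Module.End.mul_apply, Equiv.Perm.mul_apply, ← hσ]
      exact Submodule.mem_map_of_mem (ih j w hw)
  have hTp : (1 + N) ^ p = 1 := LinearMap.toMatrixAlgEquiv'.injective (by rw [map_pow, map_add, map_one, ← hM, hMp])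
  have hfix : ∀ j, σ j = j := by
    intro j
    by_contra hne
    have hperp : (σ ^ p) j = j := by
      by_contra hne'
      obtain ⟨w, hw, hw0⟩ := Submodule.exists_mem_ne_zero_of_ne_bot (fun hb : D j = ⊥ => by
        have := hD.finrank_eq j; rw [hb, finrank_bot] at this; omega)
      have h2 := hmem p j w hw
      rw [hTp, Module.End.one_apply] at h2
      have hdis := hD.indep.pairwiseDisjoint hne'
      exact hw0 (Submodule.disjoint_def.1 hdis w h2 hw)
    have hper : ∀ i, 0 < i → i < p → (σ ^ i) j ≠ j := fun i hi hip hfix => hne (by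
      have hg := Function.IsPeriodicPt.gcd (f := ⇑σ) (m := i) (n := p) (x := j)
        (by rw [Function.IsPeriodicPt, Function.IsFixedPt, ← Equiv.Perm.coe_pow]; exact hfix)
        (by rw [Function.IsPeriodicPt, Function.IsFixedPt, ← Equiv.Perm.coe_pow]; exact hperp)
      have hco : Nat.gcd i p = 1 := Nat.Coprime.symm ((Nat.Prime.coprime_iff_not_dvd Fact.out).2 fun hd => by
        have := Nat.le_of_dvd hi hd; omega)
      rwa [hco, Function.IsPeriodicPt, Function.iterate_one] at hg)
    have hgeom : N ^ (p - 1) = ∑ i ∈ Finset.range p, (1 + N) ^ i := by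
      have e1 : (Polynomial.X - 1 : Polynomial F) ^ (p - 1) = ∑ i ∈ Finset.range p, Polynomial.X ^ i := by
        refine mul_right_cancel₀ (Polynomial.X_sub_C_ne_zero (1 : F)) ?_
        rw [map_one, geom_sum_mul, ← pow_succ, Nat.sub_add_cancel (by omega : 1 ≤ p), sub_pow_char, one_pow]
      have e2 := congrArg (Polynomial.aeval (1 + N)) e1
      simpa [map_sum] using e2
    have hinj : ∀ w ∈ D j, (N ^ (p - 1)) w = 0 → w = 0 := fun w hw hw0 => by
      rw [hgeom, LinearMap.sum_apply, ← Nat.sub_add_cancel (by omega : 1 ≤ p), Finset.sum_range_succ', pow_zero,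
        Module.End.one_apply] at hw0
      refine Submodule.disjoint_def.1 (hD.indep j) w hw ?_
      rw [eq_neg_of_add_eq_zero_right hw0]
      refine Submodule.neg_mem _ (Submodule.sum_mem _ fun i hi => ?_)
      exact Submodule.mem_iSup_of_mem ((σ ^ (i + 1)) j)
        (Submodule.mem_iSup_of_mem (hper (i + 1) (by omega) (by rw [Finset.mem_range] at hi; omega)) (hmem _ j w hw))
    have hle : a ≤ CfsgLib.Perm.Elusive.powRank N ⊤ (p - 1) := by
      rw [← hD.finrank_eq j, CfsgLib.Perm.Elusive.powRank]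
      refine le_trans (le_of_eq ?_) (Submodule.finrank_mono (Submodule.map_mono (le_top : D j ≤ ⊤)))
      have h3 := CfsgLib.Perm.Elusive.finrank_map_add_ker (N ^ (p - 1)) (D j)
      rw [show LinearMap.ker (N ^ (p - 1)) ⊓ D j = ⊥ from eq_bot_iff.2 fun w hw => hinj w hw.2 hw.1, finrank_bot,
        add_zero] at h3
      exact h3.symm
    have hcnt : ((Finset.univ : Finset (Fin l)).val.map b).count p = ∑ i, (b i - (p - 1)) := by
      rw [Multiset.count_map, ← Finset.filter_val, ← Finset.card_def, Finset.card_filter]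
      refine Finset.sum_congr rfl fun i _ => ?_
      have := (hbp i).2
      split_ifs <;> omega
    rw [hrank, ← hcnt] at hle
    omega
  obtain ⟨j₀, hj₀⟩ : ∃ j₀ : Fin t, j₀ = ⟨0, by omega⟩ := ⟨_, rfl⟩
  obtain ⟨B, hB⟩ : ∃ B, B = ⨆ j ≠ j₀, D j := ⟨_, rfl⟩
  have hinv : ∀ j, (D j).map N ≤ D j := fun j => by
    rintro _ ⟨w, hw, rfl⟩
    have h2 := Submodule.mem_map_of_mem (f := 1 + N) hw
    rw [hσ j, hfix j] at h2
    simpa using (D j).sub_mem h2 hw
  have hBinv : B.map N ≤ B := by
    rw [hB, Submodule.map_iSup]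
    refine iSup_le fun j => ?_
    rw [Submodule.map_iSup]
    exact iSup_le fun hj => (hinv j).trans (le_iSup₂_of_le j hj le_rfl)
  have hc : IsCompl (D j₀) B := hB ▸ ⟨hD.indep j₀, codisjoint_iff.2 (eq_top_iff.2 (hD.iSup_eq_top ▸ iSup_le fun j => by
    rcases eq_or_ne j j₀ with rfl | hj
    · exact le_sup_left
    · exact le_sup_of_le_right (le_iSup₂_of_le j hj le_rfl)))⟩
  obtain ⟨R, hR⟩ : ∃ R, R = CfsgLib.Perm.Elusive.powRank N (D j₀) := ⟨_, rfl⟩
  refine ⟨∑ i ∈ Finset.range p, Multiset.replicate (R i + R (i + 2) - 2 * R (i + 1)) (i + 1),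
    Multiset.le_iff_count.2 fun v => ?_, ?_⟩
  · rw [Multiset.count_sum']
    simp only [Multiset.count_replicate]
    rcases Nat.eq_zero_or_pos v with rfl | hv
    · simp
    obtain ⟨i, rfl⟩ : ∃ i, v = i + 1 := ⟨v - 1, by omega⟩
    rw [Finset.sum_eq_single i (fun m _ hm => if_neg (by omega)) (fun hi => by
      rw [if_pos rfl, hR]
      have hz : ∀ m, p ≤ m → CfsgLib.Perm.Elusive.powRank N (D j₀) m = 0 := fun m hm => by
        rw [CfsgLib.Perm.Elusive.powRank, pow_eq_zero_of_le hm hNp, Submodule.map_zero, finrank_bot]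
      rw [Finset.mem_range] at hi
      rw [hz i (by omega), hz (i + 2) (by omega)]
      simp), if_pos rfl, hR]
    have e1 := CfsgLib.Perm.Elusive.powRank_top_add N (hinv j₀) hBinv hc i
    have e2 := CfsgLib.Perm.Elusive.powRank_top_add N (hinv j₀) hBinv hc (i + 1)
    have e3 := CfsgLib.Perm.Elusive.powRank_top_add N (hinv j₀) hBinv hc (i + 2)
    have e4 := CfsgLib.Perm.Elusive.powRank_convex N hBinv i
    have hcnt : (∑ m, (b m - i)) + (∑ m, (b m - (i + 2))) =
        2 * (∑ m, (b m - (i + 1))) + ((Finset.univ : Finset (Fin l)).val.map b).count (i + 1) := by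
      rw [Multiset.count_map, ← Finset.filter_val, ← Finset.card_def, Finset.card_filter, Finset.mul_sum,
        ← Finset.sum_add_distrib, ← Finset.sum_add_distrib]
      refine Finset.sum_congr rfl fun m _ => ?_
      split_ifs <;> omega
    rw [← hrank, ← hrank, ← hrank] at hcnt
    omega
  · rw [Multiset.sum_sum]
    simp only [Multiset.sum_replicate, smul_eq_mul]
    have h4 := CfsgLib.Perm.Elusive.sum_weighted R (hR ▸ CfsgLib.Perm.Elusive.powRank_convex N (hinv j₀)) p
    have hz : ∀ m, p ≤ m → R m = 0 := fun m hm => by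
      rw [hR, CfsgLib.Perm.Elusive.powRank, pow_eq_zero_of_le hm hNp, Submodule.map_zero, finrank_bot]
    rw [hz p le_rfl, hz (p + 1) (by omega), mul_zero, mul_zero, add_zero, add_zero, hR,
      CfsgLib.Perm.Elusive.powRank_zero, hD.finrank_eq, ← hR] at h4
    rw [← h4]
    exact Finset.sum_congr rfl fun i _ => mul_comm _ _

end Cfsg.Agent.S5959
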