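import Cfsg.Statements.S5961
-- import your own Cfsg.Agent.* helpers here
import Mathlib
import Cfsg.Agent.Lib.Perm.Elusive.SympPrimeElement
import Cfsg.Agent.Lib.Perm.Elusive.SympDecompositionCount
import Cfsg.Agent.Lib.Perm.Elusive.ImprimitiveSemisimple

set_option autoImplicit false
set_option linter.all false
open scoped MatrixGroups
open Cfsg

namespace Cfsg.Agent.S5961

/-- Elements of odd prime order of PSp_n(q) and imprimitive subgroups. Here `T = PSp_n(q)`, `n = 2d ≥ 4`, `(n, q) ≠ (4, 2)`, realised through the symplectic matrices over the field `F` with `q` elements and the standard alternating form; `n = a·t` with `a` even and `t ≥ 2`, and Ω is the (nonempty) set of orthogonal decompositions of `F^n` into `t` nondegenerate subspaces of dimension `a` (unordered; counted as ordered ones divided by `t!`), whose stabilizers are the imprimitive subgroups of type Sp_a(q) ≀ S_t (maximality is not assumed); an element of `T` of prime order `r` (a symplectic matrix `x` with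 `x^r` scalar, `x` not scalar) fixes a point of Ω when it permutes the summands of some such decomposition. Let `r ≠ p` be an odd prime dividing the number of such decompositions, let `i` be the multiplicative order of `q` modulo `r`, `c = i` if `i` is even and `c = 2i` if `i` is odd, and write `k = n mod c`, `ℓ = a mod c`. Then every element of `T` of order `r` stabilizes such a decomposition if and only if `c ≤ a` and `k = t·ℓ`. -/
theorem result {F : Type*} [Field F] [Fintype F] {p : ℕ} [Fact p.Prime] [CharP F p] {q : ℕ} (hq : Fintype.card F = q)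
    (d : ℕ) (hd : 2 ≤ d) (hT : (d, q) ≠ (2, 2))
    (a t : ℕ) (hat : 2 * d = a * t) (ha : 2 ≤ a) (hae : Even a) (ht : 2 ≤ t)
    (r : ℕ) [Fact r.Prime] (hr2 : r ≠ 2) (hrp : r ≠ p) (hΩ : r ∣ Nat.card {D : Fin t → Submodule F (Fin d ⊕ Fin d → F) // (Cfsg.Geo.IsMDecomposition a D ∧ (∀ j, ∀ u ∈ D j, u ≠ 0 → ∃ v ∈ D j, Cfsg.sympForm d F u v ≠ 0) ∧
          (∀ j j', j ≠ j' → ∀ u ∈ D j, ∀ v ∈ D j', Cfsg.sympForm d F u v = 0))} / Nat.factorial t)
    (i c : ℕ) (hi : i = orderOf (q : ZMod r)) (hc : c = if Even i then i else 2 * i) :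
    (∀ x : ↥(Matrix.symplecticGroup (Fin d) F),
      (∃ z : F, ((x ^ r : ↥(Matrix.symplecticGroup (Fin d) F)) : Matrix (Fin d ⊕ Fin d) (Fin d ⊕ Fin d) F) = z • (1 : Matrix (Fin d ⊕ Fin d) (Fin d ⊕ Fin d) F)) →
      (∀ z : F, (x : Matrix (Fin d ⊕ Fin d) (Fin d ⊕ Fin d) F) ≠ z • (1 : Matrix (Fin d ⊕ Fin d) (Fin d ⊕ Fin d) F)) →
      ∃ D : Fin t → Submodule F (Fin d ⊕ Fin d → F), (Cfsg.Geo.IsMDecomposition a D ∧ (∀ j, ∀ u ∈ D j, u ≠ 0 → ∃ v ∈ D j, Cfsg.sympForm d F u v ≠ 0) ∧
          (∀ j j', j ≠ j' → ∀ u ∈ D j, ∀ v ∈ D j', Cfsg.sympForm d F u v = 0)) ∧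
        ∃ σ : Equiv.Perm (Fin t), ∀ j, (D j).map (Matrix.toLin' (x : Matrix (Fin d ⊕ Fin d) (Fin d ⊕ Fin d) F)) = D (σ j)) ↔
    (c ≤ a ∧ (2 * d) % c = t * (a % c)) := by
  classical
  have hr : r.Prime := Fact.out
  rw [← hq] at hi
  subst hi
  obtain ⟨i, hi⟩ : ∃ i, i = orderOf ((Fintype.card F : ℕ) : ZMod r) := ⟨_, rfl⟩
  have hipos : 0 < i := hi ▸ CfsgLib.Perm.Elusive.order_pos hrp
  have hir : i ≤ r - 1 := by
    rw [hi]
    exact Nat.le_of_dvd (by have := hr.two_le; omega) (ZMod.orderOf_dvd_card_sub_one (CfsgLib.Perm.Elusive.card_ne_zero_zmod hrp))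
  have hcpos : 0 < c := by rw [← hi] at hc; split_ifs at hc <;> omega
  have hcr : c ≤ r - 1 := by
    rw [← hi] at hc
    split_ifs at hc with hev
    · omega
    · have hodd := hr.odd_of_ne_two hr2
      have hdd : i ∣ r - 1 := hi ▸ ZMod.orderOf_dvd_card_sub_one (CfsgLib.Perm.Elusive.card_ne_zero_zmod hrp)
      obtain ⟨m, hm⟩ := hodd
      have h2 : i * 2 ∣ r - 1 :=
        Nat.Coprime.mul_dvd_of_dvd_of_dvd (Nat.coprime_two_right.2 (Nat.not_even_iff_odd.1 hev)) hdd ⟨m, by omega⟩
      have := Nat.le_of_dvd (by have := hr.two_le; omega) h2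
      omega
  have hce : Even c := by
    rw [hc]; split_ifs with h
    · exact h
    · exact even_two_mul _
  have hA : (CfsgLib.Classical.SympCount.sB d F).IsAlt := CfsgLib.Classical.SympCount.sB_isAlt
  have hN : (CfsgLib.Classical.SympCount.sB d F).Nondegenerate := CfsgLib.Classical.SympCount.sB_nondegenerate
  have hV : Module.finrank F (Fin d ⊕ Fin d → F) = 2 * d := by
    rw [Module.finrank_fintype_fun_eq_card, Fintype.card_sum, Fintype.card_fin]; omega
  have hiso : ∀ x : ↥(Matrix.symplecticGroup (Fin d) F), ∀ u v,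
      CfsgLib.Classical.SympCount.sB d F (Matrix.toLin' (x : Matrix (Fin d ⊕ Fin d) (Fin d ⊕ Fin d) F) u)
        (Matrix.toLin' (x : Matrix (Fin d ⊕ Fin d) (Fin d ⊕ Fin d) F) v) = CfsgLib.Classical.SympCount.sB d F u v := fun x u v => by
    rw [Matrix.toLin'_apply, Matrix.toLin'_apply]
    exact CfsgLib.Sp.sf_sp x u v
  have hblocks : ∀ T : (Fin d ⊕ Fin d → F) →ₗ[F] (Fin d ⊕ Fin d → F),
      (∀ u v, CfsgLib.Classical.SympCount.sB d F (T u) (T v) = CfsgLib.Classical.SympCount.sB d F u v) → T ^ r = 1 →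
      t * (a % c) < c → ∃ D : Fin t → Submodule F (Fin d ⊕ Fin d → F), (Cfsg.Geo.IsMDecomposition a D ∧
        (∀ j, ∀ u ∈ D j, u ≠ 0 → ∃ v ∈ D j, Cfsg.sympForm d F u v ≠ 0) ∧
        (∀ j j', j ≠ j' → ∀ u ∈ D j, ∀ v ∈ D j', Cfsg.sympForm d F u v = 0)) ∧ ∀ j, ∀ u ∈ D j, T u ∈ D j := by
    intro T hI hT hlt
    obtain ⟨D, hf, hDi, hn, ho⟩ := CfsgLib.Perm.Elusive.exists_symp_blocks (p := p) hrp hr2 hc hae t hA hN T hI hT
      (by rw [hV, hat, mul_comm]) hlt
    exact ⟨D, ⟨CfsgLib.Perm.Elusive.isMDecomposition_of_orth ht (by omega) (by rw [hat, mul_comm]) hf hn ho, hn, ho⟩, hDi⟩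
  constructor
  · intro hLHS
    have hcd : c ≤ 2 * d := by
      by_contra hlt
      obtain ⟨D₀, hD₀, -⟩ := hblocks LinearMap.id (fun u v => rfl) (by rw [← Module.End.one_eq_id, one_pow])
        (lt_of_le_of_lt (Nat.mul_le_mul_left t (Nat.mod_le a c)) (by rw [mul_comm, ← hat]; omega))
      exact hlt (CfsgLib.Perm.Elusive.symp_order_le_of_dvd hrp hat ha hae ht hc hD₀ hΩ)
    have key : ∀ e k, 1 ≤ k → 2 * d = 2 * e + k * c →
        ∃ (T : (Fin d ⊕ Fin d → F) →ₗ[F] (Fin d ⊕ Fin d → F)) (D : Fin t → Submodule F (Fin d ⊕ Fin d → F))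
          (σ : Equiv.Perm (Fin t)),
          (∀ u v, CfsgLib.Classical.SympCount.sB d F (T u) (T v) = CfsgLib.Classical.SympCount.sB d F u v) ∧ T ^ r = 1 ∧
          Module.finrank F (LinearMap.ker (T - 1)) = 2 * e ∧ Cfsg.Geo.IsMDecomposition a D ∧
          (∀ j, ∀ u ∈ D j, u ≠ 0 → ∃ v ∈ D j, Cfsg.sympForm d F u v ≠ 0) ∧ ∀ j, (D j).map T = D (σ j) := by
      intro e k hk he
      obtain ⟨x, hx, hxe⟩ := CfsgLib.Perm.Elusive.exists_symp_element (p := p) hrp hr2 hc he
      have hne : 2 * e < 2 * d := by have := Nat.mul_pos hk hcpos; omega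
      obtain ⟨D, ⟨hD, hn, -⟩, σ, hσ⟩ := hLHS x ⟨1, by rw [one_smul]; exact (SubmonoidClass.coe_pow _ _).trans hx⟩ (by
        intro z hz
        have hT1 : (Matrix.toLin' (x : Matrix (Fin d ⊕ Fin d) (Fin d ⊕ Fin d) F)) ^ r = 1 := by
          rw [← Matrix.toLin'_pow, hx, Matrix.toLin'_one]; rfl
        have hTz : Matrix.toLin' (x : Matrix (Fin d ⊕ Fin d) (Fin d ⊕ Fin d) F) = z • LinearMap.id := by
          rw [hz, map_smul, Matrix.toLin'_one]
        haveI : Nonempty (Fin d) := ⟨⟨0, by omega⟩⟩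
        have hz2 : z * z = 1 := by
          obtain ⟨u, v, huv⟩ : ∃ u v, CfsgLib.Classical.SympCount.sB d F u v ≠ 0 := by
            by_contra h0
            push Not at h0
            have h1 := hN.1 (fun _ => 1) (h0 _)
            exact one_ne_zero (congrFun h1 (Sum.inl ⟨0, by omega⟩))
          have h := hiso x u v
          rw [hTz, LinearMap.smul_apply, LinearMap.smul_apply, LinearMap.id_apply, LinearMap.id_apply, map_smul, map_smul,
            LinearMap.smul_apply, smul_eq_mul, smul_eq_mul, ← mul_assoc] at h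
          exact mul_right_cancel₀ huv (h.trans (one_mul _).symm)
        have hz1 : z = 1 := by
          obtain ⟨m, hm⟩ := hr.odd_of_ne_two hr2
          have h : z ^ r = 1 := by
            have h2 : (z • LinearMap.id : (Fin d ⊕ Fin d → F) →ₗ[F] (Fin d ⊕ Fin d → F)) ^ r = 1 := hTz ▸ hT1
            rw [← Module.End.one_eq_id, _root_.smul_pow, one_pow] at h2
            have h := congrFun (LinearMap.congr_fun h2 (fun _ => (1 : F))) (Sum.inl ⟨0, by omega⟩)
            simpa using h
          rwa [hm, pow_succ, pow_mul, sq, hz2, one_pow, one_mul] at h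
        rw [hTz, hz1, one_smul, ← Module.End.one_eq_id, sub_self, LinearMap.ker_zero, finrank_top, hV] at hxe
        omega)
      exact ⟨_, D, σ, hiso x, by rw [← Matrix.toLin'_pow, hx, Matrix.toLin'_one]; rfl, hxe, hD, hn, hσ⟩
    have hfixed : ∀ (T : (Fin d ⊕ Fin d → F) →ₗ[F] (Fin d ⊕ Fin d → F)) (D : Fin t → Submodule F (Fin d ⊕ Fin d → F)),
        (∀ u v, CfsgLib.Classical.SympCount.sB d F (T u) (T v) = CfsgLib.Classical.SympCount.sB d F u v) → T ^ r = 1 →
        Cfsg.Geo.IsMDecomposition a D → (∀ j, ∀ u ∈ D j, u ≠ 0 → ∃ v ∈ D j, Cfsg.sympForm d F u v ≠ 0) →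
        (∀ j, (D j).map T = D j) → t * (a % c) ≤ Module.finrank F (LinearMap.ker (T - 1)) := by
      intro T D hI hT hD hn hinv
      have hW : ∀ j, ∀ u ∈ D j, T u ∈ D j := fun j u hu => by
        have h : T u ∈ (D j).map T := ⟨u, hu, rfl⟩
        rwa [hinv] at h
      refine CfsgLib.Perm.Elusive.sum_fixed_le T hD.indep fun j => ?_
      have hnd := (CfsgLib.Perm.Elusive.disjoint_orth_iff hA.isRefl (D j)).2 (hn j)
      obtain ⟨-, k, hk, -⟩ := CfsgLib.Perm.Elusive.exists_symp_sub (p := p) hrp hr2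
        (B := (CfsgLib.Classical.SympCount.sB d F).restrict (D j)) (fun u => hA u)
        (LinearMap.BilinForm.nondegenerate_restrict_of_disjoint_orthogonal _ hA.isRefl hnd) (T.restrict (hW j))
        (fun u v => hI u v) (LinearMap.ext fun u => Subtype.ext (by
          have h := CfsgLib.Perm.Elusive.restrict_aeval_coe T (hW j) (Polynomial.X ^ r) u
          rw [map_pow, map_pow, Polynomial.aeval_X, Polynomial.aeval_X, hT] at h
          exact h)) hc
      rw [hD.finrank_eq] at hk
      calc a % c ≤ Module.finrank F (LinearMap.ker (T.restrict (hW j) - 1)) := by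
            conv_lhs => rw [hk, Nat.add_mul_mod_self_right]
            exact Nat.mod_le _ _
        _ = Module.finrank F ((LinearMap.ker (T.restrict (hW j) - 1)).map (D j).subtype) :=
            (Submodule.finrank_map_subtype_eq _ _).symm
        _ ≤ _ := Submodule.finrank_mono (by
            rintro _ ⟨u, hu, rfl⟩
            rw [SetLike.mem_coe, LinearMap.mem_ker] at hu
            refine Submodule.mem_inf.2 ⟨u.2, ?_⟩
            rw [LinearMap.mem_ker]
            have h := congrArg Subtype.val hu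
            simpa using h)
    have hca : c ≤ a := by
      by_contra hca
      obtain ⟨T, D, σ, hI, hT, he, hD, hn, hσ⟩ := key ((2 * d - c) / 2) 1 le_rfl (by
        obtain ⟨c', hc'⟩ := hce; omega)
      have he' : Module.finrank F (LinearMap.ker (T - 1)) = 2 * d - c := by
        rw [he]; obtain ⟨c', hc'⟩ := hce; omega
      by_cases hmv : ∃ j, σ j ≠ j
      · obtain ⟨j, hj⟩ := hmv
        have h := (CfsgLib.Perm.Elusive.cycle_bounds (r := r) T hT hD.indep hD.pos hD.finrank_eq σ hσ hj).2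
        rw [he', hV] at h
        have : 2 * (r - 1) ≤ a * (r - 1) := Nat.mul_le_mul_right _ ha
        omega
      · push Not at hmv
        have h := hfixed T D hI hT hD hn (fun j => by rw [hσ, hmv])
        rw [he', Nat.mod_eq_of_lt (by omega : a < c), mul_comm, ← hat] at h
        omega
    refine ⟨hca, le_antisymm ?_ ?_⟩
    · rw [hat, mul_comm a t, Nat.mul_mod, Nat.mod_mul_mod]
      exact Nat.mod_le _ _
    · have hm : 2 * d % c = 2 * (2 * d % c / 2) := by
        obtain ⟨c', hc'⟩ := hce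
        rw [hc', ← two_mul, Nat.mul_mod_mul_left]
        omega
      obtain ⟨T, D, σ, hI, hT, he, hD, hn, hσ⟩ := key (2 * d % c / 2) (2 * d / c) (Nat.div_pos hcd hcpos) (by
        rw [← hm]; exact (Nat.mod_add_div' _ _).symm)
      rw [← hm] at he
      by_cases hmv : ∃ j, σ j ≠ j
      · obtain ⟨j, hj⟩ := hmv
        have h := (CfsgLib.Perm.Elusive.cycle_bounds (r := r) T hT hD.indep hD.pos hD.finrank_eq σ hσ hj).1
        rw [he] at h
        have := Nat.mod_lt (2 * d) hcpos
        omega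
      · push Not at hmv
        have h := hfixed T D hI hT hD hn (fun j => by rw [hσ, hmv])
        rwa [he] at h
  · rintro ⟨-, hmod⟩ x ⟨z, hz⟩ -
    obtain ⟨T, hTdef⟩ : ∃ T, T = Matrix.toLin' (x : Matrix (Fin d ⊕ Fin d) (Fin d ⊕ Fin d) F) := ⟨_, rfl⟩
    have hI := hiso x
    rw [← hTdef] at hI ⊢
    have hT : T ^ r = z • LinearMap.id := by
      rw [hTdef, ← Matrix.toLin'_pow, ← SubmonoidClass.coe_pow, hz, map_smul, Matrix.toLin'_one]
    have hz2 : z * z = 1 := by
      obtain ⟨u, v, huv⟩ : ∃ u v, CfsgLib.Classical.SympCount.sB d F u v ≠ 0 := by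
        by_contra h0
        push Not at h0
        have h1 := hN.1 (fun _ => 1) (h0 _)
        exact one_ne_zero (congrFun h1 (Sum.inl ⟨0, by omega⟩))
      have hpow : ∀ (j : ℕ) u v, CfsgLib.Classical.SympCount.sB d F ((T ^ j) u) ((T ^ j) v) =
          CfsgLib.Classical.SympCount.sB d F u v := fun j => by
        induction j with
        | zero => intro u v; simp
        | succ j ih => intro u v; rw [pow_succ', Module.End.mul_apply, Module.End.mul_apply, hI, ih]
      have h := hpow r u v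
      rw [hT, LinearMap.smul_apply, LinearMap.smul_apply, LinearMap.id_apply, LinearMap.id_apply, map_smul, map_smul,
        LinearMap.smul_apply, smul_eq_mul, smul_eq_mul, ← mul_assoc] at h
      exact mul_right_cancel₀ huv (h.trans (one_mul _).symm)
    have hzr : z ^ r * z = 1 := by
      obtain ⟨m, hm⟩ := hr.odd_of_ne_two hr2
      rw [hm, pow_succ, pow_mul, sq, hz2, one_pow, one_mul, hz2]
    obtain ⟨D, hD, hDi⟩ := hblocks (z • T) (fun u v => by
        rw [LinearMap.smul_apply, LinearMap.smul_apply, map_smul, map_smul, LinearMap.smul_apply, smul_eq_mul,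
          smul_eq_mul, ← mul_assoc, hz2, one_mul, hI])
      (by rw [_root_.smul_pow, hT, smul_smul, hzr, one_smul]; rfl)
      (hmod ▸ Nat.mod_lt _ hcpos)
    refine ⟨D, hD, Equiv.refl _, fun j => Submodule.eq_of_le_of_finrank_eq ?_ ?_⟩
    · rintro _ ⟨u, hu, rfl⟩
      have h := (D j).smul_mem z (hDi j u hu)
      rwa [LinearMap.smul_apply, smul_smul, hz2, one_smul] at h
    · refine (Submodule.equivMapOfInjective T ?_ (D j)).finrank_eq.symm
      intro u v huv
      refine sub_eq_zero.1 (hN.1 _ fun w => ?_)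
      rw [← hI, map_sub, huv, sub_self, map_zero, LinearMap.zero_apply]

end Cfsg.Agent.S5961
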