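import Cfsg.Statements.S5962
-- import your own Cfsg.Agent.* helpers here
import Mathlib
import Cfsg.Agent.Lib.Perm.Elusive.InvolSymp

set_option autoImplicit false
set_option linter.all false
open scoped MatrixGroups
open Cfsg

namespace Cfsg.Agent.S5962
open Matrix

/-- Involutions of PSp_n(q), q odd, and the subgroups GL_{n/2}(q).2. Here `T = PSp_n(q)`, `n = 2d ≥ 4`, `q` odd, realised through the symplectic matrices over the field `F` with `q` elements; Ω is the set of unordered pairs `{U, W}` of complementary totally isotropic `d`-spaces (`F^n = U ⊕ W`), whose stabilizers are the subgroups of type GL_d(q).2 (maximal except in some small cases; maximality is not assumed); an element of `T` of prime order `r` (a symplectic matrix `x` with `x^r` scalar, `x` not scalar) fixes such a pair when it fixes or interchanges `U` and `W`. If the number of such pairs is even, every involution of `T` fixes one of them (the action is 2-elusive).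 -/
theorem result {F : Type*} [Field F] [Fintype F] {p : ℕ} [Fact p.Prime] [CharP F p] {q : ℕ} (hq : Fintype.card F = q)
    (d : ℕ) (hd : 2 ≤ d) (hT : (d, q) ≠ (2, 2)) (hodd : Odd q)
    (hΩ : 2 ∣ Nat.card {P : Submodule F (Fin d ⊕ Fin d → F) × Submodule F (Fin d ⊕ Fin d → F) // IsCompl P.1 P.2 ∧ (∀ u ∈ P.1, ∀ v ∈ P.1, Cfsg.sympForm d F u v = 0) ∧ (∀ u ∈ P.2, ∀ v ∈ P.2, Cfsg.sympForm d F u v = 0)} / 2)
    (x : ↥(Matrix.symplecticGroup (Fin d) F))
    (hx1 : ∃ z : F, ((x ^ 2 : ↥(Matrix.symplecticGroup (Fin d) F)) : Matrix (Fin d ⊕ Fin d) (Fin d ⊕ Fin d) F) = z • (1 : Matrix (Fin d ⊕ Fin d) (Fin d ⊕ Fin d) F))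
    (hx2 : ∀ z : F, (x : Matrix (Fin d ⊕ Fin d) (Fin d ⊕ Fin d) F) ≠ z • (1 : Matrix (Fin d ⊕ Fin d) (Fin d ⊕ Fin d) F)) :
    ∃ U W : Submodule F (Fin d ⊕ Fin d → F), IsCompl U W ∧ (∀ u ∈ U, ∀ v ∈ U, Cfsg.sympForm d F u v = 0) ∧ (∀ u ∈ W, ∀ v ∈ W, Cfsg.sympForm d F u v = 0) ∧
        ((U.map (Matrix.toLin' (x : Matrix (Fin d ⊕ Fin d) (Fin d ⊕ Fin d) F)) = U ∧ W.map (Matrix.toLin' (x : Matrix (Fin d ⊕ Fin d) (Fin d ⊕ Fin d) F)) = W) ∨
         (U.map (Matrix.toLin' (x : Matrix (Fin d ⊕ Fin d) (Fin d ⊕ Fin d) F)) = W ∧ W.map (Matrix.toLin' (x : Matrix (Fin d ⊕ Fin d) (Fin d ⊕ Fin d) F)) = U)) := by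
  classical
  obtain ⟨z, hz⟩ := hx1
  have h2 : (2 : F) ≠ 0 := fun h => by
    obtain ⟨c, hc', hc⟩ := FiniteField.card F p
    rw [hq, (Nat.prime_dvd_prime_iff_eq hc' Nat.prime_two).1 ((CharP.cast_eq_zero_iff F p 2).1 (by exact_mod_cast h))] at hc
    exact (Nat.not_even_iff_odd.2 hodd) (hc ▸ (even_two.pow_of_ne_zero (by positivity)))
  have hf : Cfsg.Geo.IsSymplecticForm (Cfsg.sympForm d F) := CfsgLib.Perm.Trans.Symp.isSymplecticForm_sympForm
  obtain ⟨T, hTdef⟩ : ∃ T, T = Matrix.toLin' (x : Matrix (Fin d ⊕ Fin d) (Fin d ⊕ Fin d) F) := ⟨_, rfl⟩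
  have hTx : ∀ a, T a = (x : Matrix (Fin d ⊕ Fin d) (Fin d ⊕ Fin d) F) *ᵥ a := fun a => by
    rw [hTdef, Matrix.toLin'_apply]
  have hiso : ∀ a b, Cfsg.sympForm d F (T a) (T b) = Cfsg.sympForm d F a b := fun a b => by
    have h1 := SymplecticGroup.mem_iff.1 (SymplecticGroup.transpose_mem x.2)
    rw [Matrix.transpose_transpose] at h1
    rw [hTx, hTx, Cfsg.sympForm, Cfsg.sympForm, Matrix.mulVec_mulVec, Matrix.dotProduct_mulVec, Matrix.vecMul_mulVec,
      ← Matrix.mul_assoc, h1, Matrix.dotProduct_mulVec]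
  have hT2 : ∀ a, T (T a) = z • a := fun a => by
    rw [sq, Submonoid.coe_mul] at hz
    rw [hTx, hTx, Matrix.mulVec_mulVec, hz, Matrix.smul_mulVec, Matrix.one_mulVec]
  obtain ⟨R, hR⟩ : ∃ R : (Fin d ⊕ Fin d → F) → (Fin d ⊕ Fin d → F) → (Fin d ⊕ Fin d → F) → (Fin d ⊕ Fin d → F) → Prop,
      R = fun a b a' b' => (z = 1 ∧ T a ∈ Submodule.span F {a'} ∧ T b ∈ Submodule.span F {b'}) ∨
        (z = -1 ∧ T a ∈ Submodule.span F {b'} ∧ T b ∈ Submodule.span F {a'}) := ⟨_, rfl⟩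
  obtain ⟨I, _, _, u, v, π, -, -, hfam, hspan, hrel⟩ := CfsgLib.Perm.Elusive.hasFam_of_step hf T hiso R
    (fun a b a' b' h => by
      have e1 : Submodule.span F ({a'} : Set (Fin d ⊕ Fin d → F)) ≤ Submodule.span F {a', b'} :=
        Submodule.span_mono (by simp)
      have e2 : Submodule.span F ({b'} : Set (Fin d ⊕ Fin d → F)) ≤ Submodule.span F {a', b'} :=
        Submodule.span_mono (by simp)
      rw [hR] at h
      rcases h with ⟨-, h1, h2⟩ | ⟨-, h1, h2⟩
      · exact ⟨e1 h1, e2 h2⟩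
      · exact ⟨e2 h1, e1 h2⟩)
    (fun W hW0 hW hWT => by
      rcases CfsgLib.Perm.Elusive.exists_invariant_pair hf h2 T hiso hT2 hW0 hW hWT with
        ⟨h1, a, ha, b, hb, hab, s, hsa, hsb⟩ | ⟨h1, a, ha, b, hb, hab, c, e, hca, heb⟩
      · refine CfsgLib.Perm.Elusive.one_plane hf ha hb hab ?_
        rw [hR]
        exact Or.inl ⟨h1, Submodule.mem_span_singleton.2 ⟨s, hsa.symm⟩, Submodule.mem_span_singleton.2 ⟨s, hsb.symm⟩⟩
      · refine CfsgLib.Perm.Elusive.one_plane hf ha hb hab ?_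
        rw [hR]
        exact Or.inr ⟨h1, Submodule.mem_span_singleton.2 ⟨c, hca.symm⟩, Submodule.mem_span_singleton.2 ⟨e, heb.symm⟩⟩)
  have hTI : ∀ s : Set (Fin d ⊕ Fin d → F), (∀ a ∈ s, ∀ b ∈ s, Cfsg.sympForm d F a b = 0) →
      ∀ a ∈ Submodule.span F s, ∀ b ∈ Submodule.span F s, Cfsg.sympForm d F a b = 0 := fun s hs a ha => by
    induction ha using Submodule.span_induction with
    | mem y hy =>
      intro b hb
      induction hb using Submodule.span_induction with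
      | mem w hw => exact hs y hy w hw
      | zero => exact CfsgLib.Perm.Trans.Symp.zero_right hf _
      | add _ _ _ _ e1 e2 => rw [hf.bilinear.add_right, e1, e2, add_zero]
      | smul c _ _ e1 => rw [hf.bilinear.smul_right, e1, mul_zero]
    | zero => exact fun b _ => CfsgLib.Perm.Trans.Symp.zero_left hf _
    | add _ _ _ _ e1 e2 => intro b hb; rw [hf.bilinear.add_left, e1 b hb, e2 b hb, add_zero]
    | smul c _ _ e1 => intro b hb; rw [hf.bilinear.smul_left, e1 b hb, mul_zero]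
  obtain ⟨U, hU⟩ : ∃ U, U = Submodule.span F (Set.range u) := ⟨_, rfl⟩
  obtain ⟨V, hV⟩ : ∃ V, V = Submodule.span F (Set.range v) := ⟨_, rfl⟩
  have hmap : ∀ A B : Submodule F (Fin d ⊕ Fin d → F), z ≠ 0 → A.map T ≤ B → B.map T ≤ A → A.map T = B :=
    fun A B hz0 h1 h3 => le_antisymm h1 fun b hb =>
      ⟨z⁻¹ • T b, A.smul_mem _ (h3 (Submodule.mem_map_of_mem hb)), by
        rw [map_smul, hT2, smul_smul, inv_mul_cancel₀ hz0, one_smul]⟩
  refine ⟨U, V, ⟨?_, ?_⟩, hU ▸ hTI _ (by rintro _ ⟨i, rfl⟩ _ ⟨j, rfl⟩; exact hfam.uu i j),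
    hV ▸ hTI _ (by rintro _ ⟨i, rfl⟩ _ ⟨j, rfl⟩; exact hfam.vv i j), ?_⟩
  · rw [hU, hV]
    exact (linearIndependent_sum.1 (hfam.linearIndependent hf)).2.2
  · rw [hU, hV, codisjoint_iff, ← Submodule.span_union, eq_top_iff]
    exact hspan
  rw [← hTdef]
  by_cases hz1 : z = 1
  · have hne : z ≠ -1 := fun h => h2 (by linear_combination h - hz1)
    have hr : ∀ i, T (u i) ∈ U ∧ T (v i) ∈ V := fun i => by
      have h := hrel i
      rw [hR] at h
      rcases h with ⟨-, h1, h3⟩ | ⟨h1, -⟩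
      · exact ⟨hU ▸ Submodule.span_mono (by simp) h1, hV ▸ Submodule.span_mono (by simp) h3⟩
      · exact absurd h1 hne
    refine Or.inl ⟨hmap U U (hz1 ▸ one_ne_zero) ?_ ?_, hmap V V (hz1 ▸ one_ne_zero) ?_ ?_⟩ <;>
      · first
        | (conv_lhs => rw [hU])
          rw [Submodule.map_span_le]; rintro _ ⟨i, rfl⟩; exact (hr i).1
        | (conv_lhs => rw [hV])
          rw [Submodule.map_span_le]; rintro _ ⟨i, rfl⟩; exact (hr i).2
  · have hr : ∀ i, z = -1 ∧ T (u i) ∈ V ∧ T (v i) ∈ U := fun i => by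
      have h := hrel i
      rw [hR] at h
      rcases h with ⟨h1, -⟩ | ⟨h0, h1, h3⟩
      · exact absurd h1 hz1
      · exact ⟨h0, hV ▸ Submodule.span_mono (by simp) h1, hU ▸ Submodule.span_mono (by simp) h3⟩
    have hUV : U.map T ≤ V := by
      conv_lhs => rw [hU]
      rw [Submodule.map_span_le]; rintro _ ⟨i, rfl⟩; exact (hr i).2.1
    have hVU : V.map T ≤ U := by
      conv_lhs => rw [hV]
      rw [Submodule.map_span_le]; rintro _ ⟨i, rfl⟩; exact (hr i).2.2
    have hz0 : z ≠ 0 := fun h => by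
      have hbot : ∀ a, T a = 0 := fun a => by
        by_contra hne
        obtain ⟨b, hb⟩ := (hf.nondegenerate (T a) hne).2
        refine hb ?_
        rw [← hiso, hT2, h, zero_smul, CfsgLib.Perm.Trans.Symp.zero_left hf]
      refine hx2 0 (Matrix.toLin'.injective (LinearMap.ext fun a => ?_))
      rw [← hTdef, hbot, zero_smul, map_zero, LinearMap.zero_apply]
    exact Or.inr ⟨hmap U V hz0 hUV hVU, hmap V U hz0 hVU hUV⟩

end Cfsg.Agent.S5962
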