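import Cfsg.Statements.S5963
-- import your own Cfsg.Agent.* helpers here
import Mathlib
import Cfsg.Agent.Lib.Perm.Elusive.PolarPairs
import Cfsg.Agent.Lib.Perm.Elusive.PolarDerange
import Cfsg.Agent.Lib.Classical.AdjacencyExist

set_option autoImplicit false
set_option linter.all false
open scoped MatrixGroups
open Cfsg

namespace Cfsg.Agent.S5963
open Matrix

/-- Derangements of odd prime order of PSp_n(q), q odd, on pairs of complementary totally isotropic subspaces. Here `T = PSp_n(q)`, `n = 2d ≥ 4`, `q` odd, realised through the symplectic matrices over the field `F` with `q` elements; Ω is the set of unordered pairs `{U, W}` of complementary totally isotropic `d`-spaces (`F^n = U ⊕ W`), whose stabilizers are the subgroups of type GL_d(q).2 (maximal except in some small cases; maximality is not assumed); an element of `T` of prime order `r` (a symplectic matrix `x` with `x^r` scalar, `x` not scalar) fixes such a pair when it fixes or interchanges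 `U` and `W`. For every odd prime `r ≠ p` dividing the number of such pairs, some element of `T` of order `r` fixes no such pair (the action is never `r`-elusive for odd `r ≠ p`). -/
theorem result {F : Type*} [Field F] [Fintype F] {p : ℕ} [Fact p.Prime] [CharP F p] {q : ℕ} (hq : Fintype.card F = q)
    (d : ℕ) (hd : 2 ≤ d) (hT : (d, q) ≠ (2, 2)) (hodd : Odd q)
    (r : ℕ) [Fact r.Prime] (hr2 : r ≠ 2) (hrp : r ≠ p) (hΩ : r ∣ Nat.card {P : Submodule F (Fin d ⊕ Fin d → F) × Submodule F (Fin d ⊕ Fin d → F) // IsCompl P.1 P.2 ∧ (∀ u ∈ P.1, ∀ v ∈ P.1, Cfsg.sympForm d F u v = 0) ∧ (∀ u ∈ P.2, ∀ v ∈ P.2, Cfsg.sympForm d F u v = 0)} / 2) :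
    ∃ x : ↥(Matrix.symplecticGroup (Fin d) F),
      (∃ z : F, ((x ^ r : ↥(Matrix.symplecticGroup (Fin d) F)) : Matrix (Fin d ⊕ Fin d) (Fin d ⊕ Fin d) F) = z • (1 : Matrix (Fin d ⊕ Fin d) (Fin d ⊕ Fin d) F)) ∧
      (∀ z : F, (x : Matrix (Fin d ⊕ Fin d) (Fin d ⊕ Fin d) F) ≠ z • (1 : Matrix (Fin d ⊕ Fin d) (Fin d ⊕ Fin d) F)) ∧
      ¬ (∃ U W : Submodule F (Fin d ⊕ Fin d → F), IsCompl U W ∧ (∀ u ∈ U, ∀ v ∈ U, Cfsg.sympForm d F u v = 0) ∧ (∀ u ∈ W, ∀ v ∈ W, Cfsg.sympForm d F u v = 0) ∧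
        ((U.map (Matrix.toLin' (x : Matrix (Fin d ⊕ Fin d) (Fin d ⊕ Fin d) F)) = U ∧ W.map (Matrix.toLin' (x : Matrix (Fin d ⊕ Fin d) (Fin d ⊕ Fin d) F)) = W) ∨
         (U.map (Matrix.toLin' (x : Matrix (Fin d ⊕ Fin d) (Fin d ⊕ Fin d) F)) = W ∧ W.map (Matrix.toLin' (x : Matrix (Fin d ⊕ Fin d) (Fin d ⊕ Fin d) F)) = U))) := by
  classical
  have hr : r.Prime := Fact.out
  obtain ⟨c0, hp', hcard⟩ := FiniteField.card F p
  have hrF : (r : F) ≠ 0 := fun h => hrp ((Nat.prime_dvd_prime_iff_eq hp' hr).1 ((CharP.cast_eq_zero_iff F p r).1 h)).symm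
  have hrq : ¬ r ∣ Fintype.card F := fun h => hrp ((Nat.prime_dvd_prime_iff_eq hr hp').1 (hr.dvd_of_dvd_pow (hcard ▸ h)))
  have hne : ∀ U W : Submodule F (Fin d ⊕ Fin d → F), IsCompl U W → U ≠ W := fun U W hc h => by
    subst h
    have h1 := hc.sup_eq_top
    rw [sup_idem] at h1
    have h2' := hc.disjoint.eq_bot
    rw [inf_idem, h1] at h2'
    exact absurd (congrArg (fun S : Submodule F (Fin d ⊕ Fin d → F) => Module.finrank F S) h2') (by simp; omega)
  have hcount := CfsgLib.Perm.Elusive.card_polarPair (F := F) (d := d)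
  obtain ⟨N, hN⟩ : ∃ N, N = Nat.card (CfsgLib.Perm.Elusive.PolarPair (F := F) d) := ⟨_, rfl⟩
  have heven : 2 ∣ N := by
    haveI : Finite (CfsgLib.Perm.Elusive.PolarPair (F := F) d) :=
      Finite.of_surjective _ CfsgLib.Perm.Elusive.polarImage_surjective
    haveI := Fintype.ofFinite (CfsgLib.Perm.Elusive.PolarPair (F := F) d)
    let sw : CfsgLib.Perm.Elusive.PolarPair (F := F) d → CfsgLib.Perm.Elusive.PolarPair (F := F) d :=
      fun P => ⟨(P.1.2, P.1.1), P.2.1.symm, P.2.2.2, P.2.2.1⟩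
    obtain ⟨π, hπ⟩ : ∃ π : Equiv.Perm (CfsgLib.Perm.Elusive.PolarPair (F := F) d), π = Function.Involutive.toPerm sw (fun P => rfl) :=
      ⟨_, rfl⟩
    have h1 : π.support = Finset.univ := Finset.eq_univ_of_forall fun P => by
      rw [Equiv.Perm.mem_support, hπ]
      exact fun h => hne _ _ P.2.1 (congrArg (fun Q => Q.1.1) h).symm
    rw [hN, Nat.card_eq_fintype_card, ← Finset.card_univ, ← h1]
    exact Equiv.Perm.two_dvd_card_support (Equiv.ext fun P => by rw [sq, hπ]; rfl)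
  have hrN : r ∣ N := by
    obtain ⟨m, hm⟩ := heven
    have hd' : r ∣ N / 2 := hN ▸ hΩ
    rw [hm, Nat.mul_div_cancel_left _ two_pos] at hd'
    exact hm ▸ dvd_mul_of_dvd_right hd' 2
  obtain ⟨j, hj, hrj⟩ : ∃ j, j < d ∧ r ∣ Fintype.card F ^ (j + 1) + 1 := by
    rw [← hN, Matrix.card_GL_field, CfsgLib.Classical.card_symplectic,
      Fin.prod_univ_eq_prod_range (fun i => Fintype.card F ^ d - Fintype.card F ^ i)] at hcount
    have e1 : ∏ i ∈ Finset.range d, (Fintype.card F ^ d - Fintype.card F ^ i) =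
        Fintype.card F ^ (∑ i ∈ Finset.range d, i) * ∏ i ∈ Finset.range d, (Fintype.card F ^ (i + 1) - 1) := by
      calc ∏ i ∈ Finset.range d, (Fintype.card F ^ d - Fintype.card F ^ i)
          = ∏ i ∈ Finset.range d, (Fintype.card F ^ i * (Fintype.card F ^ (d - i) - 1)) := Finset.prod_congr rfl fun i hi => by
            rw [Nat.mul_sub_one, ← pow_add, Nat.add_sub_cancel' (Finset.mem_range.1 hi).le]
        _ = _ := by
            rw [Finset.prod_mul_distrib, Finset.prod_pow_eq_pow_sum, ← Finset.prod_range_reflect (fun i => Fintype.card F ^ (i + 1) - 1)]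
            congr 1
            refine Finset.prod_congr rfl fun i hi => ?_
            rw [Finset.mem_range] at hi
            rw [show d - 1 - i + 1 = d - i by omega]
    have e2 : ∏ i ∈ Finset.range d, (Fintype.card F ^ (2 * (i + 1)) - 1) =
        (∏ i ∈ Finset.range d, (Fintype.card F ^ (i + 1) + 1)) * ∏ i ∈ Finset.range d, (Fintype.card F ^ (i + 1) - 1) := by
      rw [← Finset.prod_mul_distrib]
      refine Finset.prod_congr rfl fun i _ => ?_
      rw [← Nat.sq_sub_sq, one_pow, ← pow_mul, mul_comm 2]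
    rw [e1, e2, ← mul_assoc, ← mul_assoc] at hcount
    have hpos : 0 < ∏ i ∈ Finset.range d, (Fintype.card F ^ (i + 1) - 1) :=
      Finset.prod_pos fun i _ => Nat.sub_pos_of_lt (Nat.one_lt_pow (by omega) Fintype.one_lt_card)
    have hdvd : r ∣ Fintype.card F ^ (d ^ 2) * ∏ i ∈ Finset.range d, (Fintype.card F ^ (i + 1) + 1) :=
      Nat.eq_of_mul_eq_mul_right hpos hcount ▸ dvd_mul_of_dvd_left hrN _
    rcases hr.dvd_mul.1 hdvd with h | h
    · exact absurd (hr.dvd_of_dvd_pow h) hrq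
    · obtain ⟨i, hi, hri⟩ := (hr.prime.dvd_finsetProd_iff _).1 h
      exact ⟨i, Finset.mem_range.1 hi, hri⟩
  obtain ⟨i, hi⟩ : ∃ i, i = orderOf ((Fintype.card F : ℕ) : ZMod r) := ⟨_, rfl⟩
  have hpow : ∀ m, r ∣ Fintype.card F ^ m - 1 ↔ i ∣ m := fun m => by
    rw [hi]; exact CfsgLib.Classical.Adjacency.dvd_pow_sub_one_iff
  have h1 : i ∣ 2 * (j + 1) := (hpow _).1 (by
    have e : Fintype.card F ^ (2 * (j + 1)) - 1 = (Fintype.card F ^ (j + 1) + 1) * (Fintype.card F ^ (j + 1) - 1) := by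
      rw [← Nat.sq_sub_sq, one_pow, ← pow_mul, mul_comm 2]
    rw [e]
    exact dvd_mul_of_dvd_left hrj _)
  have h2 : ¬ i ∣ j + 1 := fun h => by
    have h' := (hpow _).2 h
    have h3 : r ∣ 2 := by
      have := Nat.dvd_sub hrj h'
      rwa [show Fintype.card F ^ (j + 1) + 1 - (Fintype.card F ^ (j + 1) - 1) = 2 by
        have : 0 < Fintype.card F ^ (j + 1) := by positivity
        omega] at this
    exact hr2 ((Nat.prime_dvd_prime_iff_eq hr Nat.prime_two).1 h3)
  obtain ⟨k, hk⟩ : 2 ∣ i := by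
    by_contra hodd'
    exact h2 (((Nat.prime_two.coprime_iff_not_dvd).2 hodd').symm.dvd_of_dvd_mul_left h1)
  have hk0 : 1 ≤ k := by
    have := Nat.pos_of_dvd_of_pos h1 (by omega)
    omega
  have hkd : k ≤ d := by
    have := Nat.le_of_dvd (by omega) h1
    omega
  obtain ⟨x₀, hx₀⟩ := exists_prime_orderOf_dvd_card' (G := Matrix.symplecticGroup (Fin k) F) r (by
    rw [CfsgLib.Classical.card_symplectic]
    refine dvd_mul_of_dvd_right (dvd_trans ?_ (Finset.dvd_prod_of_mem _ (Finset.mem_range.2 (show k - 1 < k by omega)))) _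
    exact (hpow _).2 (by rw [Nat.sub_add_cancel hk0, hk]))
  obtain ⟨ι', hι'⟩ : ∃ ι' : Fin k ⊕ Fin k → Fin d ⊕ Fin d, ι' = Sum.map (Fin.castLE hkd) (Fin.castLE hkd) := ⟨_, rfl⟩
  have hιinj : Function.Injective ι' := hι' ▸ (Fin.castLE_injective hkd).sumMap (Fin.castLE_injective hkd)
  obtain ⟨E, hE⟩ : ∃ E : Matrix (Fin d ⊕ Fin d) (Fin k ⊕ Fin k) F,
      E = (1 : Matrix (Fin d ⊕ Fin d) (Fin d ⊕ Fin d) F).submatrix id ι' := ⟨_, rfl⟩
  obtain ⟨E', hE'⟩ : ∃ E' : Matrix (Fin k ⊕ Fin k) (Fin d ⊕ Fin d) F,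
      E' = (1 : Matrix (Fin d ⊕ Fin d) (Fin d ⊕ Fin d) F).submatrix ι' id := ⟨_, rfl⟩
  have hEE : E' * E = 1 := by
    rw [hE, hE', ← Matrix.submatrix_mul _ _ _ id _ Function.bijective_id, one_mul, Matrix.submatrix_one _ hιinj]
  have hET : Eᵀ = E' := by rw [hE, hE', Matrix.transpose_submatrix, Matrix.transpose_one]
  have hE'T : E'ᵀ = E := by rw [← hET, Matrix.transpose_transpose]
  have hJE : Matrix.J (Fin d) F * E = E * Matrix.J (Fin k) F := by
    obtain ⟨e, he⟩ : ∃ e : Matrix (Fin d) (Fin k) F,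
        e = (1 : Matrix (Fin d) (Fin d) F).submatrix id (Fin.castLE hkd) := ⟨_, rfl⟩
    have hEb : E = Matrix.fromBlocks e 0 0 e := by
      ext a b
      rcases a with a | a <;> rcases b with b | b <;> simp [hE, he, hι', Matrix.one_apply]
    rw [hEb, Matrix.J, Matrix.J, Matrix.fromBlocks_multiply, Matrix.fromBlocks_multiply]
    simp
  have hEJ : E' * Matrix.J (Fin d) F = Matrix.J (Fin k) F * E' := by
    have h := congrArg Matrix.transpose hJE
    simp only [Matrix.transpose_mul, hET, Matrix.J_transpose, Matrix.mul_neg, Matrix.neg_mul] at h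
    exact neg_injective h
  obtain ⟨M, hM⟩ : ∃ M, M = E * (x₀.1 - 1) * E' := ⟨_, rfl⟩
  have hmem : 1 + M ∈ Matrix.symplecticGroup (Fin d) F := by
    have h := SymplecticGroup.mem_iff.1 x₀.2
    have e : (x₀.1 - 1) * Matrix.J (Fin k) F + Matrix.J (Fin k) F * (x₀.1 - 1)ᵀ +
        (x₀.1 - 1) * Matrix.J (Fin k) F * (x₀.1 - 1)ᵀ = 0 := by
      rw [Matrix.transpose_sub, Matrix.transpose_one]
      simp only [Matrix.sub_mul, Matrix.mul_sub, Matrix.one_mul, Matrix.mul_one, h]
      abel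
    rw [SymplecticGroup.mem_iff, hM, Matrix.transpose_add, Matrix.transpose_one]
    simp only [Matrix.transpose_mul, hET, hE'T, Matrix.add_mul, Matrix.mul_add, Matrix.one_mul, Matrix.mul_one]
    have a1 : E * (x₀.1 - 1) * E' * Matrix.J (Fin d) F = E * ((x₀.1 - 1) * Matrix.J (Fin k) F) * E' := by
      rw [Matrix.mul_assoc, hEJ]; simp only [Matrix.mul_assoc]
    have a2 : Matrix.J (Fin d) F * (E * ((x₀.1 - 1)ᵀ * E')) = E * (Matrix.J (Fin k) F * (x₀.1 - 1)ᵀ) * E' := by
      rw [← Matrix.mul_assoc, hJE]; simp only [Matrix.mul_assoc]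
    have a3 : E * (x₀.1 - 1) * E' * Matrix.J (Fin d) F * (E * ((x₀.1 - 1)ᵀ * E')) =
        E * ((x₀.1 - 1) * Matrix.J (Fin k) F * (x₀.1 - 1)ᵀ) * E' := by
      rw [a1]
      simp only [Matrix.mul_assoc]
      rw [← Matrix.mul_assoc E' E, hEE, Matrix.one_mul]
    rw [a3, a1, a2]
    have := congrArg (fun Z => E * Z * E') e
    simp only [Matrix.mul_add, Matrix.add_mul, Matrix.mul_zero, Matrix.zero_mul] at this
    linear_combination (norm := abel) this
  have hpw : ∀ m, (1 + M) ^ m = 1 + E * (x₀.1 ^ m - 1) * E' := fun m => by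
    induction m with
    | zero => simp
    | succ m ih =>
      rw [pow_succ, ih, hM]
      have e : E * (x₀.1 ^ m - 1) * E' * (E * (x₀.1 - 1) * E') = E * ((x₀.1 ^ m - 1) * (x₀.1 - 1)) * E' := by
        simp only [Matrix.mul_assoc]
        rw [← Matrix.mul_assoc E' E, hEE, Matrix.one_mul]
      rw [add_mul, mul_add, mul_add, one_mul, one_mul, mul_one, e, pow_succ]
      simp only [sub_mul, mul_sub, one_mul, mul_one, Matrix.mul_sub, Matrix.sub_mul]
      abel
  have hx₀r : x₀.1 ^ r = 1 := by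
    rw [← SubmonoidClass.coe_pow, ← hx₀, pow_orderOf_eq_one, Submonoid.coe_one]
  have hxr : (1 + M) ^ r = 1 := by rw [hpw, hx₀r, sub_self, Matrix.mul_zero, Matrix.zero_mul, add_zero]
  have hM0 : M ≠ 0 := fun h => by
    have e2 : E' * M * E = x₀.1 - 1 := by
      rw [hM]; simp only [Matrix.mul_assoc]
      rw [hEE, Matrix.mul_one, ← Matrix.mul_assoc, hEE, Matrix.one_mul]
    rw [h, Matrix.mul_zero, Matrix.zero_mul] at e2
    have : x₀ = 1 := Subtype.ext (sub_eq_zero.1 e2.symm)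
    rw [this, orderOf_one] at hx₀
    exact hr.ne_one hx₀.symm
  refine ⟨⟨1 + M, hmem⟩, ⟨1, by rw [one_smul, SubmonoidClass.coe_pow]; exact hxr⟩, fun z hz => ?_, ?_⟩
  · change 1 + M = z • 1 at hz
    have hzr : z ^ r = 1 := by
      have h := hxr
      rw [hz, smul_pow, one_pow] at h
      simpa using congrFun (congrFun h (Sum.inl ⟨0, by omega⟩)) (Sum.inl ⟨0, by omega⟩)
    have hz2 : z ^ 2 = 1 := by
      have h := SymplecticGroup.mem_iff.1 hmem
      rw [hz, Matrix.transpose_smul, Matrix.transpose_one, Matrix.smul_mul, Matrix.one_mul, Matrix.smul_mul,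
        Matrix.mul_smul, Matrix.mul_one, smul_smul] at h
      have := congrFun (congrFun h (Sum.inr ⟨0, by omega⟩)) (Sum.inl ⟨0, by omega⟩)
      simpa [Matrix.J, sq] using this
    have hz1 : z = 1 := by
      have := pow_gcd_eq_one.2 ⟨hzr, hz2⟩
      rwa [((Nat.coprime_primes hr Nat.prime_two).2 hr2).gcd_eq_one, pow_one] at this
    rw [hz1, one_smul, add_eq_left] at hz
    exact hM0 hz
  rintro ⟨U, W, hc, hU, hW, hmap⟩
  obtain ⟨T, hT⟩ : ∃ T, T = Matrix.toLin' (1 + M) := ⟨_, rfl⟩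
  change (U.map (Matrix.toLin' (1 + M)) = U ∧ W.map (Matrix.toLin' (1 + M)) = W) ∨
    (U.map (Matrix.toLin' (1 + M)) = W ∧ W.map (Matrix.toLin' (1 + M)) = U) at hmap
  rw [← hT] at hmap
  have hTr : T ^ r = 1 := by rw [hT, ← Matrix.toLin'_pow, hxr, Matrix.toLin'_one]; rfl
  rcases hmap with ⟨hUT, hWT⟩ | ⟨hUW, hWU⟩
  · have hTN : T - 1 = Matrix.toLin' M := by
      rw [hT, map_add, Matrix.toLin'_one]
      exact add_sub_cancel_left _ _
    refine CfsgLib.Perm.Elusive.false_of_fixed_pair CfsgLib.Perm.Trans.Symp.isSymplecticForm_sympForm T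
      (fun a b => ?_) hr hrF hTr ?_ (k := k) ?_ (fun e he hek hd' => ?_) hc hU hW hUT hWT
    · rw [hT, Matrix.toLin'_apply, Matrix.toLin'_apply]
      exact CfsgLib.Sp.sf_sp ⟨1 + M, hmem⟩ a b
    · intro h
      rw [h, sub_self] at hTN
      exact hM0 (Matrix.toLin'.injective (hTN.symm.trans (map_zero _).symm))
    · rw [hTN, hM, Matrix.mul_assoc, Matrix.toLin'_mul]
      refine le_trans (Submodule.finrank_mono (LinearMap.range_comp_le_range _ _)) ?_
      refine le_trans (LinearMap.finrank_range_le _) ?_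
      rw [Module.finrank_fintype_fun_eq_card, Fintype.card_sum, Fintype.card_fin, two_mul]
    · have := Nat.le_of_dvd he ((hpow e).1 hd')
      omega
  · have hpar : ∀ m, U.map (T ^ (2 * m)) = U := fun m => by
      induction m with
      | zero => rw [Nat.mul_zero, pow_zero, Module.End.one_eq_id, Submodule.map_id]
      | succ m ih =>
        rw [show 2 * (m + 1) = 2 * m + 1 + 1 from rfl, pow_succ', pow_succ', Module.End.mul_eq_comp,
          Module.End.mul_eq_comp, Submodule.map_comp, Submodule.map_comp, ih, hUW, hWU]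
    obtain ⟨m, hm⟩ := hr.odd_of_ne_two hr2
    have h := hpar m
    have h' : U.map (T ^ r) = W := by rw [hm, pow_succ', Module.End.mul_eq_comp, Submodule.map_comp, h, hUW]
    rw [hTr, Module.End.one_eq_id, Submodule.map_id] at h'
    exact hne U W hc h'

end Cfsg.Agent.S5963
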