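import Cfsg.Statements.S5964
-- import your own Cfsg.Agent.* helpers here
import Mathlib
import Cfsg.Agent.Lib.Perm.Elusive.SubfieldInvol
import Cfsg.Agent.Lib.Perm.Elusive.InvolBasis

set_option autoImplicit false
set_option linter.all false
open scoped MatrixGroups
open Cfsg

namespace Cfsg.Agent.S5964
open Matrix

/-- Involutions of PSL_n(q) and subfield subgroups. Here `T = PSL_n(F)` for a field `F` with `q = p^f` elements (`n ≥ 2`, `(n, q) ≠ (2, 2), (2, 3)`), `F₀` is the subfield with `q₀` elements where `q = q₀^k` for a prime `k`, and `H` is the subgroup of matrices of determinant 1 lying in the subfield group of `F₀` (invertible matrices over `F₀` times scalars) — a maximal subgroup of type GL_n(q₀) (the case `n = 2`, `q₀ = 2` is excluded); Ω is the set of `T`-conjugates of `H` (cosets of `H`), so an element of `T` of prime order `r` (a matrix `x` of determinant 1 with `x^r` scalar, `x` not scalar) fixes a point of Ω when some conjugate of `x`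 by a matrix of determinant 1 lies in `H`. Suppose the index of `H` is even. Then every involution of `T` is conjugate in `T` into `H` if and only if either `q` is even, or `k = 2` and `(n)_2 ≤ (q − 1)_2`. (For `q` odd and `k` odd the index of `H` is odd, so that case does not arise.) -/
theorem result {F : Type*} [Field F] [Fintype F] {p : ℕ} [Fact p.Prime] [CharP F p] {q : ℕ} (hq : Fintype.card F = q)
    (n : ℕ) (hn : 2 ≤ n) (hT : (n, q) ≠ (2, 2) ∧ (n, q) ≠ (2, 3))
    (F₀ : Subfield F) (k q₀ : ℕ) (hk : k.Prime) (hF₀ : Nat.card ↥F₀ = q₀) (hqk : q = q₀ ^ k) (hC5 : ¬ (n = 2 ∧ q₀ = 2)) (hΩ : 2 ∣ ((Cfsg.Geo.subfieldSubgroup F₀ 1).comap (Matrix.SpecialLinearGroup.toGL : Matrix.SpecialLinearGroup (Fin n) F →* GL (Fin n) F)).index) :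
    (∀ x : Matrix.SpecialLinearGroup (Fin n) F,
      (∃ z : F, ((x ^ 2 : Matrix.SpecialLinearGroup (Fin n) F) : Matrix (Fin n) (Fin n) F) = z • (1 : Matrix (Fin n) (Fin n) F)) →
      (∀ z : F, (x : Matrix (Fin n) (Fin n) F) ≠ z • (1 : Matrix (Fin n) (Fin n) F)) →
      ∃ P : Matrix.SpecialLinearGroup (Fin n) F, P⁻¹ * x * P ∈ ((Cfsg.Geo.subfieldSubgroup F₀ 1).comap (Matrix.SpecialLinearGroup.toGL : Matrix.SpecialLinearGroup (Fin n) F →* GL (Fin n) F))) ↔
    (Odd q → (k = 2 ∧ padicValNat 2 n ≤ padicValNat 2 (q - 1))) := by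
  classical
  haveI : Fact (Nat.Prime 2) := ⟨Nat.prime_two⟩
  obtain ⟨c0, hp', hcard⟩ := FiniteField.card F p
  have h2F : (2 : F) ≠ 0 ↔ Odd q := by
    refine ⟨fun h => ?_, fun h h0 => ?_⟩
    · rw [← hq, hcard]
      refine Odd.pow ((hp'.eq_two_or_odd').resolve_left fun h' => h ?_)
      subst h'
      exact_mod_cast CharP.cast_eq_zero F 2
    · rw [← hq, hcard, (Nat.prime_dvd_prime_iff_eq hp' Nat.prime_two).1 ((CharP.cast_eq_zero_iff F p 2).1 (by exact_mod_cast h0))] at h
      exact (Nat.not_even_iff_odd.2 h) (even_two.pow_of_ne_zero c0.pos.ne')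
  have hk2 : Odd q → k = 2 := fun hodd => by
    refine hk.eq_two_or_odd'.resolve_right fun hko => ?_
    have h1 := CfsgLib.Perm.Elusive.odd_index (n := n) (by omega) F₀ hF₀ (hq.trans hqk) hko (hq.symm ▸ hodd)
    exact (Nat.not_even_iff_odd.2 h1) (even_iff_two_dvd.2 hΩ)
  haveI : Fintype F₀ := Fintype.ofFinite _
  have hq₀c : Fintype.card F₀ = q₀ := by rw [← hF₀, Nat.card_eq_fintype_card]
  -- elements of the subfield are squares
  have hsqF₀ : Odd q → ∀ w : F, w ∈ F₀ → w ≠ 0 → IsSquare w := fun hodd w hw hw0 => by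
    have hch : ringChar F ≠ 2 := fun h => (h2F.2 hodd) (by
      have := ringChar.Nat.cast_ringChar (R := F)
      rw [h] at this; exact_mod_cast this)
    rw [FiniteField.isSquare_iff hch hw0, hq, hqk, hk2 hodd]
    have h0 : w ^ (q₀ - 1) = 1 := by
      have := FiniteField.pow_card_sub_one_eq_one (⟨w, hw⟩ : F₀) (fun h => hw0 (congrArg Subtype.val h))
      rw [hq₀c] at this
      exact congrArg Subtype.val this
    obtain ⟨m, hm⟩ : Odd q₀ := by
      have : Odd (q₀ ^ k) := hqk ▸ hodd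
      exact (Nat.odd_pow_iff hk.ne_zero).1 this
    rw [show q₀ ^ 2 / 2 = (q₀ - 1) * (m + 1) by
      rw [hm, Nat.add_sub_cancel]
      have : (2 * m + 1) ^ 2 = 2 * (2 * m * (m + 1)) + 1 := by ring
      omega]
    rw [pow_mul, h0, one_pow]
  have hdetblk : ∀ (m : ℕ) (z : F), (Matrix.blockDiagonal fun _ : Fin m => !![(0 : F), z; 1, 0]).det = (-z) ^ m :=
    fun m z => by rw [Matrix.det_blockDiagonal]; simp [Matrix.det_fin_two]
  constructor
  · -- necessity
    intro hall hodd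
    refine ⟨hk2 hodd, ?_⟩
    by_contra hv
    push Not at hv
    have h2 := h2F.2 hodd
    obtain ⟨m, rfl⟩ : 2 ∣ n := by
      by_contra hn2
      rw [padicValNat.eq_zero_of_not_dvd hn2] at hv
      omega
    have hvm : padicValNat 2 (q - 1) ≤ padicValNat 2 m := by
      rw [padicValNat.mul (by norm_num) (by omega : m ≠ 0), padicValNat.self (by norm_num)] at hv
      omega
    obtain ⟨g, hg⟩ := IsCyclic.exists_generator (α := Fˣ)
    have hord : orderOf g = q - 1 := by
      rw [orderOf_eq_card_of_forall_mem_zpowers hg, Nat.card_units, Nat.card_eq_fintype_card, hq]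
    have hq2 : 2 ≤ q := hq ▸ Fintype.one_lt_card
    obtain ⟨c, hc⟩ : 2 ^ padicValNat 2 (q - 1) ∣ q - 1 := pow_padicValNat_dvd
    obtain ⟨y, hy⟩ : ∃ y : F, y = (g : F) ^ c := ⟨_, rfl⟩
    have hyv : y ^ 2 ^ padicValNat 2 (q - 1) = 1 := by
      rw [hy, ← pow_mul, mul_comm, ← hc, ← hord, ← Units.val_pow_eq_pow_val, pow_orderOf_eq_one, Units.val_one]
    have hym : y ^ m = 1 := by
      obtain ⟨e, he⟩ := (Nat.pow_dvd_pow 2 hvm).trans (pow_padicValNat_dvd (p := 2) (n := m))
      rw [he, pow_mul, hyv, one_pow]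
    have hch : ringChar F ≠ 2 := fun h => h2 (by
      have := ringChar.Nat.cast_ringChar (R := F)
      rw [h] at this; exact_mod_cast this)
    have hy0 : y ≠ 0 := hy ▸ pow_ne_zero _ g.ne_zero
    have hyns : ¬ IsSquare y := by
      rw [FiniteField.isSquare_iff hch hy0, hy, ← pow_mul, hq, ← Units.val_pow_eq_pow_val, Units.val_eq_one,
        ← orderOf_dvd_iff_pow_eq_one, hord]
      intro h
      obtain ⟨e, he⟩ := hodd
      have hco : ¬ 2 ∣ c := fun ⟨c', hc'⟩ => by
        refine pow_succ_padicValNat_not_dvd (p := 2) (show q - 1 ≠ 0 by omega) ⟨c', ?_⟩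
        rw [pow_succ, mul_assoc, ← hc', ← hc]
      rw [show q / 2 = e by omega, show q - 1 = 2 * e by omega] at h
      obtain ⟨u, hu⟩ := h
      have he0 : 0 < e := by omega
      have : c = 2 * u := Nat.eq_of_mul_eq_mul_right he0 (by rw [hu]; ring)
      exact hco ⟨u, this⟩
    obtain ⟨z, hz⟩ : ∃ z : F, z = -y := ⟨_, rfl⟩
    obtain ⟨e, -⟩ : ∃ e : Fin 2 × Fin m ≃ Fin (2 * m), True := ⟨finProdFinEquiv, trivial⟩
    obtain ⟨x, hx⟩ : ∃ x : Matrix.SpecialLinearGroup (Fin (2 * m)) F, (x : Matrix (Fin (2 * m)) (Fin (2 * m)) F) =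
        Matrix.reindex e e (Matrix.blockDiagonal fun _ : Fin m => !![(0 : F), z; 1, 0]) :=
      ⟨⟨_, by rw [Matrix.det_reindex_self, hdetblk, hz, neg_neg, hym]⟩, rfl⟩
    have hx2 : ((x ^ 2 : Matrix.SpecialLinearGroup (Fin (2 * m)) F) : Matrix (Fin (2 * m)) (Fin (2 * m)) F) = z • 1 := by
      rw [Matrix.SpecialLinearGroup.coe_pow, sq, hx, Matrix.reindex_apply, Matrix.submatrix_mul_equiv,
        ← Matrix.blockDiagonal_mul]
      ext i j
      simp only [Matrix.submatrix_apply, Matrix.smul_apply, Matrix.blockDiagonal_apply]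
      have hij : (i = j) ↔ (e.symm i = e.symm j) := e.symm.injective.eq_iff.symm
      rcases hi : e.symm i with ⟨a, u⟩
      rcases hj : e.symm j with ⟨b, v⟩
      rw [Matrix.one_apply]
      simp only [hij, hi, hj, Prod.mk.injEq, Matrix.mul_apply, Fin.sum_univ_two]
      fin_cases a <;> fin_cases b <;> simp <;> split_ifs <;> simp_all
    have hxns : ∀ w : F, (x : Matrix (Fin (2 * m)) (Fin (2 * m)) F) ≠ w • 1 := fun w hw => by
      have := congrFun (congrFun hw (e (1, ⟨0, by omega⟩))) (e (0, ⟨0, by omega⟩))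
      rw [hx] at this
      simp [Matrix.blockDiagonal_apply] at this
    obtain ⟨P, hP⟩ := hall x ⟨z, hx2⟩ hxns
    rw [Subgroup.mem_comap, CfsgLib.Perm.Elusive.mem_subfield_one] at hP
    obtain ⟨lam, hlam, hent⟩ := hP
    obtain ⟨Y, hY⟩ : ∃ Y : Matrix (Fin (2 * m)) (Fin (2 * m)) F, Y = (P⁻¹ * x * P).1 := ⟨_, rfl⟩
    have hent' : ∀ i j, lam⁻¹ * Y i j ∈ F₀ := fun i j => hY ▸ hent i j
    have hY2 : Y * Y = z • 1 := by
      have : (P⁻¹ * x * P) * (P⁻¹ * x * P) = P⁻¹ * x ^ 2 * P := by simp only [sq, mul_assoc, mul_inv_cancel_left]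
      rw [hY, ← Matrix.SpecialLinearGroup.coe_mul, this, Matrix.SpecialLinearGroup.coe_mul,
        Matrix.SpecialLinearGroup.coe_mul, hx2, Matrix.mul_smul, Matrix.mul_one, Matrix.smul_mul,
        ← Matrix.SpecialLinearGroup.coe_mul, inv_mul_cancel, Matrix.SpecialLinearGroup.coe_one]
    have hw : z / (lam * lam) ∈ F₀ := by
      obtain ⟨i⟩ : Nonempty (Fin (2 * m)) := ⟨⟨0, by omega⟩⟩
      have h := congrFun (congrFun hY2 i) i
      rw [Matrix.mul_apply, Matrix.smul_apply, Matrix.one_apply_eq, smul_eq_mul, mul_one] at h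
      rw [← h, Finset.sum_div]
      refine F₀.sum_mem fun j _ => ?_
      rw [show Y i j * Y j i / (lam * lam) = (lam⁻¹ * Y i j) * (lam⁻¹ * Y j i) by field_simp]
      exact F₀.mul_mem (hent' i j) (hent' j i)
    have hz0 : z ≠ 0 := hz ▸ neg_ne_zero.2 hy0
    have hsq : IsSquare z := by
      have := (hsqF₀ hodd _ hw (div_ne_zero hz0 (mul_ne_zero hlam hlam))).mul (IsSquare.mul_self lam)
      rwa [div_mul_cancel₀ _ (mul_ne_zero hlam hlam)] at this
    refine hyns ?_
    have hm1 : IsSquare (-1 : F) := hsqF₀ hodd _ (F₀.neg_mem F₀.one_mem) (neg_ne_zero.2 one_ne_zero)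
    have := hm1.mul hsq
    rwa [hz, neg_one_mul, neg_neg] at this
  intro hcond x ⟨z, hz⟩ hns
  haveI : Nonempty (Fin n) := ⟨⟨0, by omega⟩⟩
  have hxx : (x : Matrix (Fin n) (Fin n) F) * (x : Matrix (Fin n) (Fin n) F) = z • 1 := by
    rw [← hz, Matrix.SpecialLinearGroup.coe_pow, sq]
  have hz0 : z ≠ 0 := fun h => by
    have := congrArg Matrix.det hxx
    rw [Matrix.det_mul, x.2, h, zero_smul, Matrix.det_zero, one_mul] at this
    exact one_ne_zero this
  have hT : ∀ v, Matrix.toLin' (x : Matrix (Fin n) (Fin n) F) (Matrix.toLin' (x : Matrix (Fin n) (Fin n) F) v) = z • v := by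
    intro v
    rw [Matrix.toLin'_apply, Matrix.toLin'_apply, Matrix.mulVec_mulVec, hxx, Matrix.smul_mulVec, Matrix.one_mulVec]
  have hfin : ∀ (R : Matrix (Fin n) (Fin n) F) (lam : F), lam ≠ 0 → (∀ i j, lam⁻¹ * R i j ∈ F₀) →
      ∀ b : Module.Basis (Fin n) F (Fin n → F),
      (∀ j, (x : Matrix (Fin n) (Fin n) F) *ᵥ b j = ∑ i, R i j • b i) →
      (∀ δ : F, δ ≠ 0 → ∃ C : Matrix (Fin n) (Fin n) F, C.det = δ ∧ C * R = R * C) →
      ∃ P : Matrix.SpecialLinearGroup (Fin n) F, P⁻¹ * x * P ∈ ((Cfsg.Geo.subfieldSubgroup F₀ 1).comap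
        (Matrix.SpecialLinearGroup.toGL : Matrix.SpecialLinearGroup (Fin n) F →* GL (Fin n) F)) := by
    intro R lam hlam hent b hR hC
    obtain ⟨P, hP⟩ := CfsgLib.Perm.Elusive.exists_sl_conj x b R hR hC
    refine ⟨P, ?_⟩
    rw [Subgroup.mem_comap, CfsgLib.Perm.Elusive.mem_subfield_one]
    exact ⟨lam, hlam, fun i j => by
      show lam⁻¹ * ((P⁻¹ * x * P : Matrix.SpecialLinearGroup (Fin n) F) : Matrix (Fin n) (Fin n) F) i j ∈ F₀
      rw [hP]; exact hent i j⟩
  rcases CfsgLib.Perm.Elusive.exists_square_scalar_basis _ hz0 hT with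
    ⟨ρ, hρ, -, m, l, b, h1, h2⟩ | ⟨ρ, m, l, b, h1, h2, h3, h4⟩
  · -- diagonalisable
    have hρ0 : ρ ≠ 0 := fun h => hz0 (by rw [← hρ, h, zero_mul])
    have hcd : Fintype.card (Fin m ⊕ Fin l) = n := by rw [← Module.finrank_eq_card_basis b, Module.finrank_fin_fun]
    obtain ⟨e, -⟩ : ∃ e : Fin m ⊕ Fin l ≃ Fin n, True := ⟨Fintype.equivFinOfCardEq hcd, trivial⟩
    obtain ⟨w, hw⟩ : ∃ w : Fin n → F, w = fun j => Sum.elim (fun _ => ρ) (fun _ => -ρ) (e.symm j) := ⟨_, rfl⟩
    refine hfin (Matrix.diagonal w) ρ hρ0 (fun i j => ?_) (b.reindex e) (fun j => ?_) (fun δ hδ => ?_)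
    · rcases eq_or_ne i j with rfl | hij
      · rw [Matrix.diagonal_apply_eq, hw]
        show ρ⁻¹ * Sum.elim (fun _ => ρ) (fun _ => -ρ) (e.symm i) ∈ F₀
        rcases e.symm i with a | a <;> simp [hρ0, F₀.one_mem, F₀.neg_mem F₀.one_mem]
      · rw [Matrix.diagonal_apply_ne _ hij, mul_zero]; exact F₀.zero_mem
    · rw [Finset.sum_eq_single j (fun i _ hi => by rw [Matrix.diagonal_apply_ne _ hi, zero_smul])
        (fun h => absurd (Finset.mem_univ j) h), Matrix.diagonal_apply_eq, Module.Basis.reindex_apply,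
        ← Matrix.toLin'_apply, hw]
      show _ = Sum.elim (fun _ => ρ) (fun _ => -ρ) (e.symm j) • _
      rcases e.symm j with a | a
      · exact h1 a
      · exact h2 a
    · refine ⟨Matrix.diagonal (Function.update 1 ⟨0, by omega⟩ δ), ?_, ?_⟩
      · rw [Matrix.det_diagonal, Finset.prod_update_of_mem (Finset.mem_univ _)]
        simp
      · rw [Matrix.diagonal_mul_diagonal, Matrix.diagonal_mul_diagonal]
        congr 1; funext i; exact mul_comm _ _
  have hcd : Fintype.card ((Fin m ⊕ Fin m) ⊕ Fin l) = n := by rw [← Module.finrank_eq_card_basis b, Module.finrank_fin_fun]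
  rcases h4 with ⟨hns', rfl⟩ | ⟨h20, hρ⟩
  · -- no eigenvalues: impossible
    exfalso
    have hodd : Odd q := h2F.1 fun h20 => by
      obtain ⟨s, hs⟩ := FiniteField.isSquare_of_char_two (F := F) (by
        have hd := (CharP.cast_eq_zero_iff F p 2).1 (by exact_mod_cast h20)
        rw [ringChar.eq F p]
        exact (Nat.prime_dvd_prime_iff_eq hp' Nat.prime_two).1 hd) z
      exact hns' s hs.symm
    obtain ⟨-, hv⟩ := hcond hodd
    have hnm : n = 2 * m := by rw [← hcd]; simp; ring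
    obtain ⟨π, hπ⟩ : ∃ π : (Fin m ⊕ Fin m) ⊕ Fin 0 ≃ Fin 2 × Fin m, ∀ i,
        π (Sum.inl (Sum.inl i)) = (0, i) ∧ π (Sum.inl (Sum.inr i)) = (1, i) := by
      refine ⟨⟨fun s => match s with
        | Sum.inl (Sum.inl i) => (0, i)
        | Sum.inl (Sum.inr i) => (1, i)
        | Sum.inr i => i.elim0, fun s => if s.1 = 0 then Sum.inl (Sum.inl s.2) else Sum.inl (Sum.inr s.2), ?_, ?_⟩,
        fun i => ⟨rfl, rfl⟩⟩
      · rintro ((i | i) | i)
        exacts [by simp, by simp, i.elim0]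
      · rintro ⟨a, i⟩
        fin_cases a <;> simp
    have hdet : (-z) ^ m = 1 := by
      rw [← hdetblk m z]
      have e1 : LinearMap.toMatrix (b.reindex π) (b.reindex π) (Matrix.toLin' (x : Matrix (Fin n) (Fin n) F)) =
          Matrix.blockDiagonal fun _ : Fin m => !![(0 : F), z; 1, 0] := by
        ext ⟨a, u⟩ ⟨c, v⟩
        rw [LinearMap.toMatrix_apply, Module.Basis.reindex_apply, Module.Basis.repr_reindex_apply,
          Matrix.blockDiagonal_apply]
        have e0 : ∀ i, π.symm (0, i) = Sum.inl (Sum.inl i) := fun i => by rw [Equiv.symm_apply_eq, (hπ i).1]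
        have e1 : ∀ i, π.symm (1, i) = Sum.inl (Sum.inr i) := fun i => by rw [Equiv.symm_apply_eq, (hπ i).2]
        fin_cases a <;> fin_cases c <;>
          simp [e0, e1, h1, h2, Finsupp.single_apply, eq_comm] <;> split_ifs <;> simp_all
      rw [← e1, LinearMap.det_toMatrix, LinearMap.det_toLin']
      exact x.2
    have hch : ringChar F ≠ 2 := fun h => (h2F.2 hodd) (by
      have := ringChar.Nat.cast_ringChar (R := F)
      rw [h] at this; exact_mod_cast this)
    have hz' : IsSquare (-z) := by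
      rw [FiniteField.isSquare_iff hch (neg_ne_zero.2 hz0), hq]
      have h1' : (-z) ^ (q - 1) = 1 := hq ▸ FiniteField.pow_card_sub_one_eq_one _ (neg_ne_zero.2 hz0)
      obtain ⟨g, hgd⟩ : ∃ g, g = Nat.gcd m (q - 1) := ⟨_, rfl⟩
      have hg1 : (-z) ^ g = 1 := hgd ▸ pow_gcd_eq_one.2 ⟨hdet, h1'⟩
      obtain ⟨c, hc⟩ : g ∣ q - 1 := hgd ▸ Nat.gcd_dvd_right _ _
      have hq2 : 2 ≤ q := hq ▸ Fintype.one_lt_card
      have hc2 : 2 ∣ c := by
        by_contra hcn
        have hg0 : g ≠ 0 := fun h => by rw [h, zero_mul] at hc; omega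
        have h5 : padicValNat 2 (q - 1) = padicValNat 2 g := by
          rw [hc, padicValNat.mul hg0 (fun h => hcn ⟨0, by rw [h]⟩), padicValNat.eq_zero_of_not_dvd hcn, add_zero]
        have h6 : padicValNat 2 g ≤ padicValNat 2 m :=
          (padicValNat_dvd_iff_le (p := 2) (by omega : m ≠ 0)).1
            (pow_padicValNat_dvd.trans (hgd ▸ Nat.gcd_dvd_left _ _))
        rw [hnm, padicValNat.mul (by norm_num) (by omega : m ≠ 0), padicValNat.self (by norm_num)] at hv
        omega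
      obtain ⟨c', rfl⟩ := hc2
      obtain ⟨e, he⟩ := hodd
      rw [show q / 2 = g * c' by rw [Nat.mul_left_comm] at hc; omega, pow_mul, hg1, one_pow]
    obtain ⟨s, hs⟩ := (hsqF₀ hodd (-1) (F₀.neg_mem F₀.one_mem) (neg_ne_zero.2 one_ne_zero)).mul hz'
    rw [neg_one_mul, neg_neg] at hs
    exact hns' s hs.symm
  -- characteristic two
  have hρ0 : ρ ≠ 0 := fun h => hz0 (by rw [← hρ, h, zero_mul])
  have hm0 : 0 < m := Nat.pos_of_ne_zero fun hm => hns ρ (by
    subst hm
    have hb : Matrix.toLin' (x : Matrix (Fin n) (Fin n) F) = ρ • LinearMap.id := b.ext fun s => by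
      rcases s with (i | i) | i
      exacts [i.elim0, i.elim0, h3 i]
    refine Matrix.toLin'.injective ?_
    rw [hb, map_smul, Matrix.toLin'_one])
  obtain ⟨e, -⟩ : ∃ e : (Fin m ⊕ Fin m) ⊕ Fin l ≃ Fin n, True := ⟨Fintype.equivFinOfCardEq hcd, trivial⟩
  obtain ⟨π, hπ⟩ : ∃ π : Equiv.Perm ((Fin m ⊕ Fin m) ⊕ Fin l), π = Equiv.sumCongr (Equiv.sumComm _ _) (Equiv.refl _) := ⟨_, rfl⟩
  obtain ⟨b', hb'⟩ : ∃ b' : Module.Basis ((Fin m ⊕ Fin m) ⊕ Fin l) F (Fin n → F),
      ∀ s, b' s = Sum.elim (Sum.elim (fun _ => (1 : F)) (fun _ => ρ⁻¹)) (fun _ => 1) s • b s := by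
    refine ⟨b.unitsSMul (Sum.elim (Sum.elim (fun _ => 1) (fun _ => (Units.mk0 ρ hρ0)⁻¹)) fun _ => 1), fun s => ?_⟩
    rw [Module.Basis.unitsSMul_apply]
    rcases s with (i | i) | i <;> simp [Units.smul_def]
  have hTb : ∀ s, (x : Matrix (Fin n) (Fin n) F) *ᵥ b' s = ρ • b' (π s) := fun s => by
    rw [← Matrix.toLin'_apply, hb', hb', map_smul, hπ]
    rcases s with (i | i) | i
    · simp [h1, smul_smul, hρ0]
    · simp [h2, smul_smul, ← hρ, hρ0]
    · simp [h3]
  refine hfin (Matrix.of fun i j => if i = e (π (e.symm j)) then ρ else 0) ρ hρ0 (fun i j => ?_) (b'.reindex e)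
    (fun j => ?_) (fun δ hδ => ?_)
  · rw [Matrix.of_apply]
    split_ifs
    · rw [inv_mul_cancel₀ hρ0]; exact F₀.one_mem
    · rw [mul_zero]; exact F₀.zero_mem
  · rw [Module.Basis.reindex_apply, hTb, Finset.sum_eq_single (e (π (e.symm j)))
      (fun i _ hi => by rw [Matrix.of_apply, if_neg hi, zero_smul]) (fun h => absurd (Finset.mem_univ _) h),
      Matrix.of_apply, if_pos rfl, Module.Basis.reindex_apply, Equiv.symm_apply_apply]
  · obtain ⟨s, hs⟩ := FiniteField.isSquare_of_char_two (F := F) (by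
      have hd := (CharP.cast_eq_zero_iff F p 2).1 (by exact_mod_cast h20)
      rw [ringChar.eq F p]
      exact (Nat.prime_dvd_prime_iff_eq hp' Nat.prime_two).1 hd) δ
    obtain ⟨w, hw⟩ : ∃ w : (Fin m ⊕ Fin m) ⊕ Fin l → F,
        w = Sum.elim (Sum.elim (fun i : Fin m => if (i : ℕ) = 0 then s else (1 : F)) (fun i : Fin m => if (i : ℕ) = 0 then s else (1 : F)))
          (fun _ => 1) := ⟨_, rfl⟩
    refine ⟨Matrix.diagonal fun j => w (e.symm j), ?_, ?_⟩
    · rw [Matrix.det_diagonal, Equiv.prod_comp e.symm w, hs, hw]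
      simp only [Fintype.prod_sum_type, Sum.elim_inl, Sum.elim_inr, Finset.prod_const_one, mul_one]
      have hp : (∏ i : Fin m, if (i : ℕ) = 0 then s else (1 : F)) = s := by
        rw [Finset.prod_eq_single (⟨0, hm0⟩ : Fin m) (fun i _ hi => if_neg fun h => hi (Fin.ext h))
          (fun h => absurd (Finset.mem_univ _) h), if_pos rfl]
      rw [hp]
    · ext i j
      rw [Matrix.diagonal_mul, Matrix.mul_diagonal, Matrix.of_apply]
      split_ifs with h
      · rw [h, Equiv.symm_apply_apply, hπ, mul_comm]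
        congr 1
        rcases e.symm j with (a | a) | a <;> simp [hw]
      · rw [mul_zero, zero_mul]

end Cfsg.Agent.S5964
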