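import Cfsg.Statements.S5965
import Mathlib
import Cfsg.Agent.Lib.Perm.Elusive.SubfieldPrime
import Cfsg.Agent.Lib.Perm.Elusive.SimilNormal
import Cfsg.Agent.Lib.Perm.Elusive.ImprimitiveSemisimple
import Cfsg.Agent.Lib.Classical.HermTori

set_option autoImplicit false
set_option linter.all false
open scoped MatrixGroups
open Cfsg

namespace Cfsg.Agent.S5965

/-- Elements of odd prime order r ≠ p of PSL_n(q) and subfield subgroups. Here `T = PSL_n(F)` for a field `F` with `q = p^f` elements (`n ≥ 2`, `(n, q) ≠ (2, 2), (2, 3)`), `F₀` is the subfield with `q₀` elements where `q = q₀^k` for a prime `k`, and `H` is the subgroup of matrices of determinant 1 lying in the subfield group of `F₀` (invertible matrices over `F₀` times scalars) — a maximal subgroup of type GL_n(q₀) (the case `n = 2`, `q₀ = 2` is excluded); Ω is the set of `T`-conjugates of `H` (cosets of `H`), so an element of `T` of prime order `r` (a matrix `x` of determinant 1 with `x^r` scalar, `x` not scalar)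 fixes a point of Ω when some conjugate of `x` by a matrix of determinant 1 lies in `H`. Let `r ≠ p` be an odd prime dividing the index of `H`, with `(n, r) ≠ (6, 3)` and, when `r = k` divides `q₀ − 1`, with `(n)_r ≤ (q − 1)_r`. Then every element of `T` of order `r` is conjugate in `T` into `H` if and only if `r = k`, or `k = 2`, `r = n ∈ {3, 5}` and `(q₀ + 1)_r = r`. The two excluded cases, `(n, r) = (6, 3)` and `r = k ∣ q₀ − 1` with `(n)_r > (q − 1)_r`, are ones where this criterion can fail, so they are left out. -/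
theorem result {F : Type*} [Field F] [Fintype F] {p : ℕ} [Fact p.Prime] [CharP F p] {q : ℕ} (hq : Fintype.card F = q)
    (n : ℕ) (hn : 2 ≤ n) (hT : (n, q) ≠ (2, 2) ∧ (n, q) ≠ (2, 3))
    (F₀ : Subfield F) (k q₀ : ℕ) (hk : k.Prime) (hF₀ : Nat.card ↥F₀ = q₀) (hqk : q = q₀ ^ k) (hC5 : ¬ (n = 2 ∧ q₀ = 2)) (r : ℕ) [Fact r.Prime] (hr2 : r ≠ 2) (hrp : r ≠ p) (hgap : ¬ (n = 6 ∧ r = 3)) (hgapk : r = k → r ∣ q₀ - 1 → padicValNat r n ≤ padicValNat r (q - 1)) (hΩ : r ∣ ((Cfsg.Geo.subfieldSubgroup F₀ 1).comap (Matrix.SpecialLinearGroup.toGL : Matrix.SpecialLinearGroup (Fin n) F →* GL (Fin n) F)).index) :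
    (∀ x : Matrix.SpecialLinearGroup (Fin n) F,
      (∃ z : F, ((x ^ r : Matrix.SpecialLinearGroup (Fin n) F) : Matrix (Fin n) (Fin n) F) = z • (1 : Matrix (Fin n) (Fin n) F)) →
      (∀ z : F, (x : Matrix (Fin n) (Fin n) F) ≠ z • (1 : Matrix (Fin n) (Fin n) F)) →
      ∃ P : Matrix.SpecialLinearGroup (Fin n) F, P⁻¹ * x * P ∈ ((Cfsg.Geo.subfieldSubgroup F₀ 1).comap (Matrix.SpecialLinearGroup.toGL : Matrix.SpecialLinearGroup (Fin n) F →* GL (Fin n) F))) ↔
    (r = k ∨ (k = 2 ∧ r = n ∧ (n = 3 ∨ n = 5) ∧ padicValNat r (q₀ + 1) = 1)) := by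
  classical
  subst hq
  have hr : r.Prime := Fact.out
  have hp : p.Prime := Fact.out
  haveI : Nonempty (Fin n) := ⟨⟨0, by omega⟩⟩
  have hr3 : 3 ≤ r := by
    have := hr.two_le
    omega
  have hrodd : Odd r := hr.odd_of_ne_two hr2
  have hrF : (r : F) ≠ 0 := CfsgLib.Perm.Elusive.natCast_ne_zero_of_ne (F := F) hrp
  have hrq : ¬ r ∣ Fintype.card F := fun h => by
    obtain ⟨a, -, ha⟩ := FiniteField.card F p
    exact hrp ((Nat.prime_dvd_prime_iff_eq hr hp).1 (hr.dvd_of_dvd_pow (ha ▸ h)))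
  obtain ⟨σ, hσ, hσfix⟩ := CfsgLib.Perm.Elusive.SubfieldPrime.exists_frob (p := p) F₀ hk.pos hF₀ hqk
  haveI : Fintype F₀ := Fintype.ofFinite _
  have hq2 : 2 ≤ q₀ := hF₀ ▸ Nat.card_eq_fintype_card (α := F₀) ▸ Fintype.one_lt_card
  obtain ⟨e, he⟩ : ∃ e, q₀ = p ^ e := by
    obtain ⟨a, -, ha⟩ := FiniteField.card F p
    obtain ⟨e, -, he⟩ := (Nat.dvd_prime_pow hp).1 (show q₀ ∣ p ^ (a : ℕ) from ha ▸ hqk ▸ dvd_pow_self q₀ hk.pos.ne')
    exact ⟨e, he⟩
  obtain ⟨u, hu⟩ : ∃ u : ZMod r, u = (q₀ : ZMod r) := ⟨_, rfl⟩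
  have hqu : ((Fintype.card F : ℕ) : ZMod r) = u ^ k := by rw [hqk, Nat.cast_pow, hu]
  have hdvd1 : ∀ m, 1 ≤ m → (r ∣ m - 1 ↔ (m : ZMod r) = 1) := fun m hm => by
    rw [← Nat.modEq_iff_dvd' hm, ← ZMod.natCast_eq_natCast_iff, Nat.cast_one, eq_comm]
  rcases eq_or_ne r k with hrk | hrk
  · refine iff_of_true ?_ (.inl hrk)
    intro x ⟨z, hz⟩ hns
    rw [Matrix.SpecialLinearGroup.coe_pow] at hz
    have hz0 : z ≠ 0 := fun h => by
      have h1 := congrArg Matrix.det hz
      rw [Matrix.det_pow, x.2, one_pow, h, zero_smul, Matrix.det_zero] at h1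
      exact one_ne_zero h1
    have huq : ((Fintype.card F : ℕ) : ZMod r) = u := by rw [hqu, ← hrk, ZMod.pow_card]
    obtain ⟨l, hl⟩ : ∃ l : F, l ^ r = z := by
      by_cases hi : orderOf ((Fintype.card F : ℕ) : ZMod r) = 1
      · by_contra hno
        push Not at hno
        obtain ⟨hrn, hd⟩ := CfsgLib.Perm.Elusive.det_of_pow_eq_nonpower hr hrF (Matrix.toLin' x.1) (z := z)
          (by rw [← Matrix.toLin'_pow, hz, map_smul, Matrix.toLin'_one]) hno
        rw [LinearMap.det_toLin', x.2, Module.finrank_fin_fun, (Nat.Odd.sub_odd hrodd odd_one).neg_one_pow, one_mul] at hd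
        rw [Module.finrank_fin_fun] at hrn
        have hq1 := (CfsgLib.Perm.Elusive.order_one_iff hrp).1 hi
        have hq01 : r ∣ q₀ - 1 := (hdvd1 q₀ (by omega)).2 (by
          rw [← hu, ← huq]
          exact orderOf_eq_one_iff.1 hi)
        have hv := hgapk hrk hq01
        have h1 := one_le_padicValNat_of_dvd (p := r) (by omega : n ≠ 0) hrn
        obtain ⟨l, hl⟩ := CfsgLib.Perm.Elusive.exists_root_of_pow_eq_one (r := r) hz0 (k := n / r)
          (Nat.div_pos (Nat.le_of_dvd (by omega) hrn) hr.pos).ne' hd.symm hq1 (by rw [padicValNat.div hrn]; omega)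
        exact hno l hl
      · exact CfsgLib.Perm.Elusive.exists_root_of_order_ne_one (F := F) hrp hi z
    have hl0 : l ≠ 0 := fun h => hz0 (by rw [← hl, h, zero_pow hr.ne_zero])
    obtain ⟨S, M, hS, hSM, hM⟩ := CfsgLib.Perm.Elusive.SubfieldPrime.exists_fixed_form (p := p) (σ := σ) hσ he (r := r)
      (by rw [← ZMod.natCast_eq_natCast_iff, huq, hu]) (l⁻¹ • x.1)
      (by rw [_root_.smul_pow, hz, smul_smul, inv_pow, hl, inv_mul_cancel₀ hz0, one_smul])
    refine CfsgLib.Perm.Elusive.SubfieldPrime.exists_conj_subfield (by omega) hrF x hz hS hl0 ?_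
      fun i j => (hσfix _).1 (congrFun (congrFun hM i) j)
    rw [Matrix.smul_mul, inv_smul_eq_iff₀ hl0] at hSM
    rw [hSM, Matrix.mul_smul]
  obtain ⟨j, hj2, hjn, hj1, hj0⟩ :=
    CfsgLib.Perm.Elusive.SubfieldPrime.subfield_index (by omega) F₀ hk hF₀ hqk hr hrk hrq hΩ
  rw [← hu] at hj1 hj0
  have hkb : k ∣ orderOf u := by
    by_contra h
    exact hj0 (orderOf_dvd_iff_pow_eq_one.1
      ((Nat.Coprime.symm (hk.coprime_iff_not_dvd.2 h)).dvd_of_dvd_mul_left (orderOf_dvd_of_pow_eq_one hj1)))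
  have key : ∀ X : Matrix (Fin n) (Fin n) F, X.det = 1 → ∀ z : F, X ^ r = z • (1 : Matrix (Fin n) (Fin n) F) →
      (∀ z : F, X ≠ z • (1 : Matrix (Fin n) (Fin n) F)) →
      (∀ (g M : Matrix (Fin n) (Fin n) F) (lam : F), g.det ≠ 0 → lam ≠ 0 → X * g = g * (lam • M) → M.map σ ≠ M) →
      ¬ (∀ x : Matrix.SpecialLinearGroup (Fin n) F,
        (∃ z : F, ((x ^ r : Matrix.SpecialLinearGroup (Fin n) F) : Matrix (Fin n) (Fin n) F) = z • (1 : Matrix (Fin n) (Fin n) F)) →
        (∀ z : F, (x : Matrix (Fin n) (Fin n) F) ≠ z • (1 : Matrix (Fin n) (Fin n) F)) →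
        ∃ P : Matrix.SpecialLinearGroup (Fin n) F, P⁻¹ * x * P ∈ ((Cfsg.Geo.subfieldSubgroup F₀ 1).comap
          (Matrix.SpecialLinearGroup.toGL : Matrix.SpecialLinearGroup (Fin n) F →* GL (Fin n) F))) := by
    intro X hd z hz hns hno hall
    obtain ⟨P, hP⟩ := hall ⟨X, hd⟩ ⟨z, (Matrix.SpecialLinearGroup.coe_pow _ _).trans hz⟩ hns
    obtain ⟨g, M, lam, hg, hlam, hxg, hM⟩ := CfsgLib.Perm.Elusive.SubfieldPrime.exists_semilinear (σ := σ) hσfix hP
    exact hno g M lam hg hlam hxg hM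
  by_cases hQ : r ∣ Fintype.card F - 1
  swap
  · refine iff_of_false ?_ ?_
    · obtain ⟨b, hb⟩ : ∃ b, b = orderOf ((Fintype.card F : ℕ) : ZMod r) := ⟨_, rfl⟩
      have hbn : b ≤ n := by
        refine (Nat.le_of_dvd (by omega) (hb ▸ orderOf_dvd_of_pow_eq_one (n := j) ?_)).trans hjn
        rw [hqu, ← pow_mul, hj1]
      have hrb : r ∣ Fintype.card F ^ b - 1 := by
        rw [hdvd1 _ (Nat.one_le_pow _ _ Fintype.card_pos), Nat.cast_pow, hb, pow_orderOf_eq_one]
      obtain ⟨X, hd, hX, hns, hno⟩ := CfsgLib.Perm.Elusive.SubfieldPrime.exists_torus_derange (p := p) (σ := σ)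
        (c := n - b) (by omega : n = b + (n - b)) (hb ▸ CfsgLib.Perm.Elusive.order_pos hrp) hr hrb hQ hk hqk
        (hu ▸ hkb) hσ
      exact key X hd 1 (by rw [one_smul]; exact hX) hns hno
    · rintro (h | ⟨rfl, -, -, hv⟩)
      · exact hrk h
      · refine hQ ?_
        have h1 : r ∣ q₀ + 1 := by
          by_contra h
          rw [padicValNat.eq_zero_of_not_dvd h] at hv
          omega
        rw [hqk, ← one_pow 2, Nat.sq_sub_sq]
        exact dvd_mul_of_dvd_left h1 _
  have huk : u ^ k = 1 := by rw [← hqu]; exact (hdvd1 _ Fintype.card_pos).1 hQ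
  have hord : orderOf u = k := Nat.dvd_antisymm (orderOf_dvd_of_pow_eq_one huk) hkb
  have hkr : k ∣ r - 1 := hord ▸ ZMod.orderOf_dvd_card_sub_one (fun h => by
    rw [h, zero_pow hk.pos.ne'] at huk
    exact zero_ne_one huk)
  have hkj : ¬ k ∣ j := fun h => hj0 (orderOf_dvd_iff_pow_eq_one.1 (hord ▸ h))
  have hq01 : ¬ r ∣ q₀ - 1 := fun h => by
    have h1 := (hdvd1 q₀ (by omega)).1 h
    rw [← hu] at h1
    rw [h1, orderOf_one] at hord
    exact hk.ne_one hord.symm
  have hplus : k = 2 → r ∣ q₀ + 1 := fun h => by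
    rw [← ZMod.natCast_eq_zero_iff, Nat.cast_add, Nat.cast_one, ← hu]
    rcases mul_self_eq_one_iff.1 (show u * u = 1 by rw [← sq, ← h, huk]) with h' | h'
    · exact absurd ((hdvd1 q₀ (by omega)).2 (hu ▸ h')) hq01
    · rw [h', neg_add_cancel]
  have ratio : ∀ (μ a b : F), μ ≠ 0 → b ≠ 0 → σ a / μ = a → σ b / μ = b → a ^ r = b ^ r → a = b := by
    intro μ a b hμ hb h1 h2 h3
    rw [div_eq_iff hμ] at h1 h2
    have h4 : σ (a / b) = a / b := by rw [map_div₀, h1, h2, mul_div_mul_right _ _ hμ]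
    have h5 : (a / b) ^ r = 1 := by rw [div_pow, h3, div_self (pow_ne_zero _ hb)]
    have h6 : a / b ≠ 0 := fun h => by rw [h, zero_pow hr.ne_zero] at h5; exact zero_ne_one h5
    have h7 : (a / b) ^ (q₀ - 1) = 1 := by
      refine mul_right_cancel₀ h6 ?_
      rw [← pow_succ, Nat.sub_add_cancel (by omega), ← hσ, h4, one_mul]
    have h8 := pow_gcd_eq_one.2 ⟨h5, h7⟩
    rw [(hr.coprime_iff_not_dvd.2 hq01).gcd_eq_one, pow_one] at h8
    rwa [div_eq_one_iff_eq hb] at h8
  have derange : ∀ d : Fin n → F, ∏ i, d i = 1 → ∀ z : F, (∀ i, d i ^ r = z) → (∃ i j, d i ≠ d j) →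
      (∀ μ : F, μ ≠ 0 → (∀ a : F, (Finset.univ.filter fun i => d i = a).card =
        (Finset.univ.filter fun i => d i = σ a / μ).card) → False) →
      ¬ (∀ x : Matrix.SpecialLinearGroup (Fin n) F,
        (∃ z : F, ((x ^ r : Matrix.SpecialLinearGroup (Fin n) F) : Matrix (Fin n) (Fin n) F) = z • (1 : Matrix (Fin n) (Fin n) F)) →
        (∀ z : F, (x : Matrix (Fin n) (Fin n) F) ≠ z • (1 : Matrix (Fin n) (Fin n) F)) →
        ∃ P : Matrix.SpecialLinearGroup (Fin n) F, P⁻¹ * x * P ∈ ((Cfsg.Geo.subfieldSubgroup F₀ 1).comap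
          (Matrix.SpecialLinearGroup.toGL : Matrix.SpecialLinearGroup (Fin n) F →* GL (Fin n) F))) := by
    intro d hd z hz ⟨i, j, hij⟩ hcnt
    refine key (Matrix.diagonal d) (by rw [Matrix.det_diagonal, hd]) z ?_ (fun c hc => hij ?_) ?_
    · rw [Matrix.diagonal_pow, Matrix.smul_one_eq_diagonal]
      exact congrArg _ (funext fun i => hz i)
    · rw [Matrix.smul_one_eq_diagonal] at hc
      rw [congrFun (Matrix.diagonal_injective hc) i, congrFun (Matrix.diagonal_injective hc) j]
    · intro g M lam hg hlam hxg hM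
      obtain ⟨μ, hμ, hc⟩ := CfsgLib.Perm.Elusive.SubfieldPrime.diag_counts (σ := σ) hg hlam hxg hM
      exact hcnt μ hμ hc
  have twoval : ∀ (m : ℕ), n = m + 1 → ∀ A B : F, B ≠ 0 → A ≠ B → A * B ^ m = 1 → A ^ r = B ^ r →
      (m = 1 → ∀ μ : F, μ ≠ 0 → σ A / μ = B → σ B / μ = A → False) →
      ¬ (∀ x : Matrix.SpecialLinearGroup (Fin n) F,
        (∃ z : F, ((x ^ r : Matrix.SpecialLinearGroup (Fin n) F) : Matrix (Fin n) (Fin n) F) = z • (1 : Matrix (Fin n) (Fin n) F)) →
        (∀ z : F, (x : Matrix (Fin n) (Fin n) F) ≠ z • (1 : Matrix (Fin n) (Fin n) F)) →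
        ∃ P : Matrix.SpecialLinearGroup (Fin n) F, P⁻¹ * x * P ∈ ((Cfsg.Geo.subfieldSubgroup F₀ 1).comap
          (Matrix.SpecialLinearGroup.toGL : Matrix.SpecialLinearGroup (Fin n) F →* GL (Fin n) F))) := by
    intro m hm A B hB hAB hprod hpw hswap
    subst hm
    have hm : 0 < m := by omega
    obtain ⟨d, hd⟩ : ∃ d : Fin (m + 1) → F, d = Fin.cons A (fun _ => B) := ⟨_, rfl⟩
    have hcnt : ∀ c, (Finset.univ.filter fun i => d i = c).card = (if A = c then 1 else 0) + (if B = c then m else 0) := by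
      intro c
      rw [hd, Fin.card_filter_univ_succ]
      simp only [Function.comp_def, Fin.cons_zero, Fin.cons_succ]
      by_cases h1 : A = c <;> by_cases h2 : B = c <;> simp [h1, h2] <;> omega
    refine derange d (by rw [hd, Fin.prod_cons, Finset.prod_const, Finset.card_univ, Fintype.card_fin, hprod]) (B ^ r)
      (fun i => ?_) ⟨0, Fin.succ ⟨0, hm⟩, by rw [hd, Fin.cons_zero, Fin.cons_succ]; exact hAB⟩ (fun μ hμ hc => ?_)
    · refine Fin.cases ?_ (fun i => ?_) i
      · simp [hd, hpw]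
      · simp [hd]
    · have hA := hc A
      have hB' := hc B
      rw [hcnt, hcnt, if_pos rfl, if_neg (Ne.symm hAB), add_zero] at hA
      rw [hcnt, hcnt, if_pos rfl, if_neg hAB, zero_add] at hB'
      by_cases hm1 : m = 1
      · have h1 : σ A / μ = A ∨ σ A / μ = B := by
          by_contra h
          push Not at h
          rw [if_neg (Ne.symm h.1), if_neg (Ne.symm h.2)] at hA
          omega
        have h2 : σ B / μ = A ∨ σ B / μ = B := by
          by_contra h
          push Not at h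
          rw [if_neg (Ne.symm h.1), if_neg (Ne.symm h.2)] at hB'
          omega
        have hinj : σ A / μ ≠ σ B / μ := fun h => hAB (σ.injective ((div_left_inj' hμ).1 h))
        rcases h1 with h1 | h1 <;> rcases h2 with h2 | h2
        · exact hinj (h1.trans h2.symm)
        · exact hAB (ratio μ A B hμ hB h1 h2 hpw)
        · exact hswap hm1 μ hμ h1 h2
        · exact hinj (h1.trans h2.symm)
      · have h1 : σ A / μ = A := by
          by_contra h
          rw [if_neg (Ne.symm h)] at hA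
          split_ifs at hA <;> omega
        have h2 : σ B / μ = B := by
          by_contra h
          rw [if_neg (Ne.symm h)] at hB'
          split_ifs at hB' <;> omega
        exact hAB (ratio μ A B hμ hB h1 h2 hpw)
  obtain ⟨w, hw⟩ := CfsgLib.Classical.HermTori.exists_of_order F hQ
  have hwr : w ^ r = 1 := hw ▸ pow_orderOf_eq_one w
  have hw0 : w ≠ 0 := fun h => by rw [h, zero_pow hr.ne_zero] at hwr; exact zero_ne_one hwr
  have hwdvd : ∀ t, w ^ t = 1 → r ∣ t := fun t h => hw ▸ orderOf_dvd_of_pow_eq_one h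
  by_cases hexc : k = 2 ∧ r = n ∧ (n = 3 ∨ n = 5) ∧ padicValNat r (q₀ + 1) = 1
  · refine iff_of_true ?_ (.inr hexc)
    obtain ⟨rfl, rfl, h35, hv⟩ := hexc
    intro x ⟨z, hz⟩ hns
    rw [Matrix.SpecialLinearGroup.coe_pow] at hz
    have hv' : padicValNat r (Fintype.card F - 1) = 1 := by
      rw [hqk, ← one_pow 2, Nat.sq_sub_sq, padicValNat.mul (by omega) (by omega), hv,
        padicValNat.eq_zero_of_not_dvd hq01]
      simp
    obtain ⟨S, d, π, μ, hS, hxS, hπ, hμ, hsim⟩ := CfsgLib.Perm.Elusive.Sim.exception_sim (σ := RingEquiv.refl F)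
      hr h35 (hw ▸ IsPrimitiveRoot.orderOf w) rfl hv' x.1 x.2 hz
    have hd2 : ∀ i, d i * d (π i) = μ := fun i => by
      have h := congrFun (congrFun hsim i) (π i)
      rw [Matrix.diagonal_transpose, RingEquiv.coe_refl, Matrix.map_id, Matrix.mul_diagonal, Matrix.diagonal_mul] at h
      simpa [CfsgLib.Perm.Elusive.Sim.permGram] using h
    have hpow : ∀ t : ℕ, x.1 ^ t * S = S * Matrix.diagonal d ^ t := fun t => by
      induction t with
      | zero => simp
      | succ t ih => rw [pow_succ, Matrix.mul_assoc, hxS, ← Matrix.mul_assoc, ih, Matrix.mul_assoc, ← pow_succ]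
    have hdr : ∀ i, d i ^ r = z := by
      have h1 := hpow r
      rw [hz, Matrix.smul_mul, Matrix.one_mul] at h1
      have h2 : S * (z • (1 : Matrix (Fin r) (Fin r) F)) = S * Matrix.diagonal d ^ r := by
        rw [← h1, Matrix.mul_smul, Matrix.mul_one]
      have h3 := congrArg (S⁻¹ * ·) h2
      simp only [← Matrix.mul_assoc, Matrix.nonsing_inv_mul _ (Ne.isUnit hS), Matrix.one_mul] at h3
      rw [Matrix.diagonal_pow, Matrix.smul_one_eq_diagonal] at h3
      exact fun i => (congrFun (Matrix.diagonal_injective h3) i).symm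
    obtain ⟨i₀, hi₀⟩ : ∃ i, π i = i := by
      refine Equiv.Perm.exists_fixed_point_of_prime (p := 2) (n := 1) ?_ ?_
      · rw [Fintype.card_fin]
        rcases h35 with h | h <;> omega
      · exact Equiv.ext fun i => hπ i
    have hd00 : d i₀ ≠ 0 := fun h => hμ (by rw [← hd2 i₀, h, zero_mul])
    obtain ⟨C⟩ := CfsgLib.Classical.uctx_exists hqk
    have hf : ∀ i, C.bar (d i / d i₀) = d (π i) / d i₀ := fun i => by
      have h1 : d i / d i₀ * (d (π i) / d i₀) = 1 := by
        rw [div_mul_div_comm, hd2, div_eq_one_iff_eq (mul_ne_zero hd00 hd00)]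
        have h0 := hd2 i₀
        rw [hi₀] at h0
        exact h0.symm
      have h2 : (d i / d i₀) ^ r = 1 := by rw [div_pow, hdr, hdr, div_self]; rw [← hdr i₀]; exact pow_ne_zero _ hd00
      obtain ⟨t, ht⟩ := hplus rfl
      have h3 : (d i / d i₀) ^ (q₀ + 1) = 1 := by rw [ht, pow_mul, h2, one_pow]
      rw [C.bar_eq]
      refine mul_left_cancel₀ (left_ne_zero_of_mul_eq_one h1) ?_
      rw [← pow_succ', h3, h1]
    obtain ⟨T, M, hT, hTM, hM⟩ := CfsgLib.Perm.Elusive.SubfieldPrime.exists_pair_form C π hπ (fun i => d i / d i₀) hf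
    refine CfsgLib.Perm.Elusive.SubfieldPrime.exists_conj_subfield (by omega) hrF x hz (S := S * T) (M := M)
      (by rw [Matrix.det_mul]; exact mul_ne_zero hS hT) hd00 ?_ fun a b => (hσfix _).1 (by
        rw [hσ, ← C.bar_eq]
        exact congrFun (congrFun hM a) b)
    have hdiag : Matrix.diagonal d = d i₀ • Matrix.diagonal fun i => d i / d i₀ := by
      rw [← Matrix.diagonal_smul]
      exact congrArg _ (funext fun i => by rw [Pi.smul_apply, smul_eq_mul, mul_div_cancel₀ _ hd00])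
    rw [← Matrix.mul_assoc, hxS, Matrix.mul_assoc, hdiag, Matrix.smul_mul, hTM, Matrix.mul_assoc, Matrix.mul_smul T]
  refine iff_of_false ?_ (by
    rintro (h | h)
    · exact hrk h
    · exact hexc h)
  by_cases hrn : r ∣ n
  · by_cases hn7 : 7 ≤ n
    · obtain ⟨m, rfl⟩ : ∃ m, n = m + 3 := ⟨n - 3, by omega⟩
      obtain ⟨b, hb⟩ : ∃ b, b = (w ^ 2)⁻¹ := ⟨_, rfl⟩
      have hw1 : w ≠ 1 := fun h => hr.ne_one (by rw [← hw, h, orderOf_one])
      have hb1 : b ≠ 1 := fun h => by
        rw [hb, inv_eq_one] at h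
        have := Nat.le_of_dvd two_pos (hwdvd 2 h)
        omega
      obtain ⟨d, hd⟩ : ∃ d : Fin (m + 3) → F, d = Fin.cons w (Fin.cons w (Fin.cons b fun _ => 1)) := ⟨_, rfl⟩
      have hcard : ∀ e, (Finset.univ.filter fun i => d i = e).card =
          (if w = e then 1 else 0) + ((if w = e then 1 else 0) + ((if b = e then 1 else 0) + (if 1 = e then m else 0))) := by
        intro e
        rw [hd, Fin.card_filter_univ_succ]
        simp only [Function.comp_def, Fin.cons_zero, Fin.cons_succ]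
        rw [Fin.card_filter_univ_succ]
        simp only [Function.comp_def, Fin.cons_zero, Fin.cons_succ]
        rw [Fin.card_filter_univ_succ]
        simp only [Function.comp_def, Fin.cons_zero, Fin.cons_succ]
        by_cases h1 : w = e <;> by_cases h2 : b = e <;> by_cases h3 : (1 : F) = e <;> simp [h1, h2, h3] <;> omega
      obtain ⟨l, hl⟩ : ∃ l, d l = 1 :=
        ⟨(⟨0, by omega⟩ : Fin m).succ.succ.succ, by simp only [hd, Fin.cons_succ]⟩
      refine derange d ?_ 1 (fun i => ?_) ⟨0, l, by rw [hl, hd, Fin.cons_zero]; exact hw1⟩ (fun μ hμ hc => ?_)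
      · rw [hd, Fin.prod_cons, Fin.prod_cons, Fin.prod_cons, Finset.prod_const_one, mul_one, hb]
        field_simp
      · rw [hd]
        refine Fin.cases (by simpa using hwr) (fun i => ?_) i
        refine Fin.cases (by simpa using hwr) (fun i => ?_) i
        refine Fin.cases ?_ (fun i => by simp) i
        simp only [Fin.cons_succ, Fin.cons_zero, hb]
        rw [inv_pow, ← pow_mul, mul_comm, pow_mul, hwr, one_pow, inv_one]
      · have h1 := hc 1
        have h2 := hc w
        rw [hcard, hcard, if_neg hw1, if_neg hb1, if_pos rfl] at h1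
        rw [hcard, hcard, if_pos rfl, if_neg (Ne.symm hw1)] at h2
        have e1 : σ 1 / μ = 1 := by
          by_contra h
          rw [if_neg (Ne.symm h)] at h1
          split_ifs at h1 <;> omega
        have e2 : σ w / μ = w := by
          by_contra h
          rw [if_neg (Ne.symm h)] at h2
          split_ifs at h2 <;> omega
        exact hw1 (ratio μ 1 w hμ hw0 e1 e2 (by rw [one_pow, hwr])).symm
    · obtain ⟨c, hc⟩ := hrn
      have hc0 : 0 < c := Nat.pos_of_ne_zero fun h => by rw [h, mul_zero] at hc; omega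
      have hc1 : c = 1 := by
        by_contra h
        have hmul : r * 2 ≤ r * c := Nat.mul_le_mul_left r (by omega)
        have hmul' : 3 * c ≤ r * c := Nat.mul_le_mul_right c hr3
        have : c = 2 ∧ r = 3 := by omega
        exact hgap ⟨by rw [hc, this.1, this.2], this.2⟩
      rw [hc1, mul_one] at hc
      subst hc
      have h35 : n = 3 ∨ n = 5 := by
        rcases hrodd with ⟨c, hc⟩
        omega
      have hk2 : k = 2 := by
        rcases h35 with rfl | rfl
        · exact (Nat.prime_dvd_prime_iff_eq hk Nat.prime_two).1 hkr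
        · exact (Nat.prime_dvd_prime_iff_eq hk Nat.prime_two).1 (hk.dvd_of_dvd_pow (show k ∣ 2 ^ 2 from hkr))
      have hv : 2 ≤ padicValNat n (q₀ + 1) := by
        have := one_le_padicValNat_of_dvd (p := n) (by omega : q₀ + 1 ≠ 0) (hplus hk2)
        by_contra h
        exact hexc ⟨hk2, rfl, h35, by omega⟩
      obtain ⟨a, ha⟩ := CfsgLib.Classical.HermTori.exists_of_order F (k := n ^ 2) (by
        rw [hqk, hk2, ← one_pow 2, Nat.sq_sub_sq]
        exact dvd_mul_of_dvd_left ((pow_dvd_pow n hv).trans pow_padicValNat_dvd) _)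
      have ha1 : a ^ n ^ 2 = 1 := ha ▸ pow_orderOf_eq_one a
      have ha0 : a ≠ 0 := fun h => by rw [h, zero_pow (by positivity)] at ha1; exact zero_ne_one ha1
      obtain ⟨m, hm⟩ : ∃ m, n = m + 1 := ⟨n - 1, by omega⟩
      refine twoval m hm (a ^ m)⁻¹ a ha0 (fun h => ?_) (inv_mul_cancel₀ (pow_ne_zero _ ha0)) ?_
        (fun hm1 => by omega)
      · replace h : a ^ n = 1 := by
          rw [hm, pow_succ]
          nth_rewrite 2 [← h]
          exact mul_inv_cancel₀ (pow_ne_zero _ ha0)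
        have h' := Nat.le_of_dvd (by omega) (orderOf_dvd_of_pow_eq_one h)
        rw [ha, sq] at h'
        have : 3 * n ≤ n * n := Nat.mul_le_mul_right n (by omega)
        omega
      · rw [inv_pow]
        refine inv_eq_of_mul_eq_one_right ?_
        rw [← pow_mul, ← pow_add, show m * n + n = n ^ 2 by rw [sq, hm]; ring, ha1]
  · obtain ⟨m, hm⟩ : ∃ m, n = m + 1 := ⟨n - 1, by omega⟩
    refine twoval m hm (w ^ m)⁻¹ w hw0 (fun h => ?_) (inv_mul_cancel₀ (pow_ne_zero _ hw0)) ?_ ?_
    · replace h : w ^ n = 1 := by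
        rw [hm, pow_succ]
        nth_rewrite 2 [← h]
        exact mul_inv_cancel₀ (pow_ne_zero _ hw0)
      exact hrn (hwdvd n h)
    · rw [inv_pow, ← pow_mul, mul_comm, pow_mul, hwr, one_pow, inv_one]
    · intro hm1 μ hμ h1 h2
      subst hm1
      rw [pow_one, map_inv₀, div_eq_iff hμ] at h1
      rw [pow_one, div_eq_iff hμ] at h2
      have hσw : σ w ≠ 0 := by simpa using hw0
      have h3 : σ w * σ w * (w * w) = 1 := by
        have h4 : σ w * σ w⁻¹ = 1 := by rw [← map_mul, mul_inv_cancel₀ hw0, map_one]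
        rw [map_inv₀, h1] at h4
        calc σ w * σ w * (w * w) = σ w * (w⁻¹ * μ) * (w * w) := by rw [h2]
          _ = σ w * (w * μ) * (w⁻¹ * w) := by ring
          _ = 1 := by rw [inv_mul_cancel₀ hw0, mul_one, h4]
      rw [hσ, ← pow_add, ← sq, ← pow_add] at h3
      have h4 : r ∣ 2 * (q₀ + 1) := hwdvd _ (by rw [← h3]; congr 1; ring)
      rcases hr.dvd_mul.1 h4 with h | h
      · have := Nat.le_of_dvd two_pos h
        omega
      · refine hkj ?_
        have hu1 : u = -1 := by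
          have h' := (ZMod.natCast_eq_zero_iff _ _).2 h
          push_cast at h'
          rw [hu]
          exact eq_neg_of_add_eq_zero_left h'
        have hk2 : k = 2 := (Nat.prime_dvd_prime_iff_eq hk Nat.prime_two).1
          (hord ▸ orderOf_dvd_of_pow_eq_one (by rw [hu1, neg_one_sq]))
        rw [hk2, show j = 2 by omega]

end Cfsg.Agent.S5965
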