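import Cfsg.Statements.S5966
-- import your own Cfsg.Agent.* helpers here
import Mathlib
import Cfsg.Agent.Lib.Perm.Elusive.NilpotentThree
import Cfsg.Agent.Lib.Perm.Elusive.SubfieldInvol

set_option autoImplicit false
set_option linter.all false
open scoped MatrixGroups
open Cfsg

namespace Cfsg.Agent.S5966
open Matrix

/-- Elements of order 3 of PSL_n(q) in characteristic 3 and subfield subgroups. Here `T = PSL_n(F)` for a field `F` with `q` elements, `q` a power of 3 (`n ≥ 2`, `(n, q) ≠ (2, 2), (2, 3)`), `F₀` is the subfield with `q₀` elements where `q = q₀^k` for a prime `k`, and `H` is the subgroup of matrices of determinant 1 lying in the subfield group of `F₀` (invertible matrices over `F₀` times scalars) — a maximal subgroup of type GL_n(q₀) (the case `n = 2`, `q₀ = 2` is excluded); Ω is the set of `T`-conjugates of `H` (cosets of `H`), so an element of `T` of prime order `r` (a matrix `x` of determinant 1 with `x^r` scalar, `x` not scalar) fixes a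 point of Ω when some conjugate of `x` by a matrix of determinant 1 lies in `H`. Suppose 3 divides the index of `H`. Then every element of `T` of order 3 is conjugate in `T` into `H` if and only if `n` is odd, or `n` is even and `k > 2`. -/
theorem result {F : Type*} [Field F] [Fintype F] [CharP F 3] {q : ℕ} (hq : Fintype.card F = q)
    (n : ℕ) (hn : 2 ≤ n) (hT : (n, q) ≠ (2, 3))
    (F₀ : Subfield F) (k q₀ : ℕ) (hk : k.Prime) (hF₀ : Nat.card ↥F₀ = q₀) (hqk : q = q₀ ^ k) (hC5 : ¬ (n = 2 ∧ q₀ = 2)) (hΩ : 3 ∣ ((Cfsg.Geo.subfieldSubgroup F₀ 1).comap (Matrix.SpecialLinearGroup.toGL : Matrix.SpecialLinearGroup (Fin n) F →* GL (Fin n) F)).index) :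
    (∀ x : Matrix.SpecialLinearGroup (Fin n) F,
      (∃ z : F, ((x ^ 3 : Matrix.SpecialLinearGroup (Fin n) F) : Matrix (Fin n) (Fin n) F) = z • (1 : Matrix (Fin n) (Fin n) F)) →
      (∀ z : F, (x : Matrix (Fin n) (Fin n) F) ≠ z • (1 : Matrix (Fin n) (Fin n) F)) →
      ∃ P : Matrix.SpecialLinearGroup (Fin n) F, P⁻¹ * x * P ∈ ((Cfsg.Geo.subfieldSubgroup F₀ 1).comap (Matrix.SpecialLinearGroup.toGL : Matrix.SpecialLinearGroup (Fin n) F →* GL (Fin n) F))) ↔
    (Odd n ∨ (Even n ∧ 2 < k)) := by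
  classical
  haveI : Fact (Nat.Prime 3) := ⟨Nat.prime_three⟩
  haveI : Fintype F₀ := Fintype.ofFinite _
  have h30 : (3 : F) = 0 := by exact_mod_cast CharP.cast_eq_zero F 3
  have h20 : (2 : F) ≠ 0 := fun h => one_ne_zero (α := F) (by linear_combination h30 - h)
  have hinj : ∀ a b : F, a * a * a = b * b * b → a = b := fun a b h => by
    have : (a - b) * ((a - b) * (a - b)) = 0 := by linear_combination h + (-a * a * b + a * b * b) * h30
    rcases mul_eq_zero.1 this with h' | h'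
    · exact sub_eq_zero.1 h'
    · exact sub_eq_zero.1 (mul_self_eq_zero.1 h')
  have hsurj : ∀ z : F, ∃ a : F, a * a * a = z := fun z => by
    have : Function.Injective (fun a : F => a * a * a) := fun a b h => hinj a b h
    exact Finite.injective_iff_surjective.1 this z
  have hsurj₀ : ∀ z ∈ F₀, ∃ a ∈ F₀, a * a * a = z := fun z hz => by
    have : Function.Injective (fun a : F₀ => a * a * a) := fun a b h =>
      Subtype.ext (hinj _ _ (by simpa using congrArg Subtype.val h))
    obtain ⟨a, ha⟩ := Finite.injective_iff_surjective.1 this ⟨z, hz⟩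
    exact ⟨a, a.2, by simpa using congrArg Subtype.val ha⟩
  have hq₀c : Fintype.card F₀ = q₀ := by rw [← hF₀, Nat.card_eq_fintype_card]
  have hFro : ∀ u ∈ F₀, u ^ q₀ = u := fun u hu => by
    have := congrArg Subtype.val (FiniteField.pow_card (⟨u, hu⟩ : F₀))
    rw [hq₀c] at this
    simpa using this
  have hq₀odd : Odd q₀ := by
    have h3 : q % 3 = 0 := by
      obtain ⟨c0, -, hcard⟩ := FiniteField.card F 3
      rw [← hq, hcard]
      exact Nat.mod_eq_zero_of_dvd (dvd_pow_self 3 c0.pos.ne')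
    obtain ⟨c0, -, hcard⟩ := FiniteField.card F 3
    have : Odd q := by rw [← hq, hcard]; exact Odd.pow (by decide)
    rw [hqk] at this
    exact Odd.of_dvd_nat this (dvd_pow_self _ hk.pos.ne')
  constructor
  · intro hall
    by_contra hbad
    push Not at hbad
    obtain ⟨hno, hk2⟩ := hbad
    have hne : Even n := Nat.not_odd_iff_even.1 hno
    have hk2' : k = 2 := le_antisymm (hk2 hne) hk.two_le
    subst hk2'
    obtain ⟨m, rfl⟩ := hne
    have hm : 0 < m := by omega
    have hsq : ∀ u ∈ F₀, IsSquare u := fun u hu => by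
      by_cases hu0 : u = 0
      · exact ⟨0, by rw [hu0, mul_zero]⟩
      rw [FiniteField.isSquare_iff (fun h => h20 (by
        haveI : CharP F 2 := h ▸ ringChar.charP F
        exact_mod_cast CharP.cast_eq_zero F 2)) hu0, hq, hqk]
      have h1 : u ^ (q₀ - 1) = 1 := by
        refine mul_left_cancel₀ hu0 ?_
        rw [mul_one, ← pow_succ', Nat.sub_add_cancel (by rcases hq₀odd with ⟨j, rfl⟩; omega)]
        exact hFro u hu
      obtain ⟨j, rfl⟩ := hq₀odd
      rw [show (2 * j + 1) ^ 2 / 2 = (2 * j + 1 - 1) * (j + 1) by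
        rw [show (2 * j + 1) ^ 2 = 1 + 2 * (2 * j * (j + 1)) by ring, Nat.add_mul_div_left _ _ (by norm_num),
          Nat.add_sub_cancel]
        simp, pow_mul, h1, one_pow]
    obtain ⟨ν, hν⟩ := FiniteField.exists_nonsquare (F := F) (fun h => h20 (by
        haveI : CharP F 2 := h ▸ ringChar.charP F
        exact_mod_cast CharP.cast_eq_zero F 2))
    have hν0 : ν ≠ 0 := fun h => hν ⟨0, by rw [h, mul_zero]⟩
    obtain ⟨W, hW⟩ : ∃ W : Matrix (Fin m) (Fin m) F, W = Matrix.diagonal (Function.update (fun _ => 1) ⟨0, hm⟩ ν) := ⟨_, rfl⟩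
    have hWd : W.det = ν := by
      rw [hW, Matrix.det_diagonal, Finset.prod_update_of_mem (Finset.mem_univ _)]
      simp
    obtain ⟨N₀, hN₀⟩ : ∃ N₀ : Matrix (Fin m ⊕ Fin m) (Fin m ⊕ Fin m) F,
        N₀ = Matrix.fromBlocks (0 : Matrix (Fin m) (Fin m) F) W (0 : Matrix (Fin m) (Fin m) F) (0 : Matrix (Fin m) (Fin m) F) := ⟨_, rfl⟩
    obtain ⟨e, -⟩ : ∃ e : Fin (m + m) ≃ Fin m ⊕ Fin m, True := ⟨finSumFinEquiv.symm, trivial⟩
    have hX1 : (1 + N₀).det = 1 := by
      simp [hN₀, ← Matrix.fromBlocks_one, Matrix.fromBlocks_add]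
    obtain ⟨x, hx⟩ : ∃ x : Matrix.SpecialLinearGroup (Fin (m + m)) F,
        (x : Matrix (Fin (m + m)) (Fin (m + m)) F) = (1 + N₀).submatrix e e :=
      ⟨⟨(1 + N₀).submatrix e e, by rw [Matrix.det_submatrix_equiv_self, hX1]⟩, rfl⟩
    have hN2 : N₀ * N₀ = 0 := by rw [hN₀, Matrix.fromBlocks_multiply]; simp
    have hX3 : (1 + N₀) * (1 + N₀) * (1 + N₀) = 1 := by
      rw [show (1 + N₀) * (1 + N₀) * (1 + N₀) = 1 + ((3 : F) • N₀ + ((3 : F) • (N₀ * N₀) + N₀ * (N₀ * N₀))) by
        simp only [show (3 : F) = ((3 : ℕ) : F) by norm_num, Nat.cast_smul_eq_nsmul]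
        noncomm_ring, h30, hN2]
      simp
    have hx3 : x.1 * x.1 * x.1 = 1 := by
      rw [hx, Matrix.submatrix_mul_equiv, Matrix.submatrix_mul_equiv, hX3, Matrix.submatrix_one_equiv]
    have hns : ∀ z : F, (x : Matrix (Fin (m + m)) (Fin (m + m)) F) ≠ z • 1 := fun z hz => by
      have h := congrFun (congrFun hz (e.symm (Sum.inl ⟨0, hm⟩))) (e.symm (Sum.inr ⟨0, hm⟩))
      rw [hx, Matrix.submatrix_apply, e.apply_symm_apply, e.apply_symm_apply, Matrix.add_apply, hN₀] at h
      simp [hW] at h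
      exact hν0 h
    obtain ⟨P, hP⟩ := hall x ⟨1, by rw [Matrix.SpecialLinearGroup.coe_pow, pow_succ, sq, hx3, one_smul]⟩ hns
    rw [Subgroup.mem_comap, CfsgLib.Perm.Elusive.mem_subfield_one] at hP
    obtain ⟨lam, hlam, hent⟩ := hP
    obtain ⟨y, hy⟩ : ∃ y, y = P⁻¹ * x * P := ⟨_, rfl⟩
    rw [← hy] at hent
    have hy3 : y.1 * y.1 * y.1 = 1 := by
      have hy' : y ^ 3 = 1 := by
        have h := conj_pow (i := 3) (a := P⁻¹) (b := x)
        rw [inv_inv] at h
        rw [hy, h, show x ^ 3 = 1 from Subtype.ext (by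
          rw [Matrix.SpecialLinearGroup.coe_pow, pow_succ, sq, hx3]; rfl)]
        group
      rw [← sq, ← pow_succ, ← Matrix.SpecialLinearGroup.coe_pow, hy']
      rfl
    have hlam3 : lam * lam * lam ∈ F₀ := by
      obtain ⟨M, hM⟩ : ∃ M : Matrix (Fin (m + m)) (Fin (m + m)) F₀, M.map (F₀.subtype : F₀ →+* F) = lam⁻¹ • y.1 :=
        ⟨Matrix.of fun i j => ⟨_, hent i j⟩, by ext i j; rfl⟩
      have hM3 : (M * M * M).map (F₀.subtype : F₀ →+* F) = (lam⁻¹ * lam⁻¹ * lam⁻¹) • 1 := by
        rw [Matrix.map_mul, Matrix.map_mul, hM]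
        simp only [Matrix.smul_mul, Matrix.mul_smul, smul_smul, hy3, mul_assoc]
      have h := congrFun (congrFun hM3 (⟨0, by omega⟩ : Fin (m + m))) (⟨0, by omega⟩ : Fin (m + m))
      simp only [Matrix.map_apply, Matrix.smul_apply, Matrix.one_apply_eq, smul_eq_mul, mul_one] at h
      have h' : lam⁻¹ * lam⁻¹ * lam⁻¹ ∈ F₀ := h ▸ ((M * M * M) _ _).2
      have h'' := inv_mem h'
      rwa [← mul_inv, ← mul_inv, inv_inv] at h''
    obtain ⟨a, ha, ha3⟩ := hsurj₀ _ hlam3
    have hla : lam ∈ F₀ := hinj a lam ha3 ▸ ha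
    refine hν (hWd ▸ CfsgLib.Perm.Elusive.isSquare_det_of_subfield F₀ hsq W (hWd ▸ hν0)
      (P.1.submatrix e.symm e.symm) ((P⁻¹).1.submatrix e.symm e.symm) ?_ ?_ fun i j => ?_)
    · rw [Matrix.submatrix_mul_equiv, show (P⁻¹).1 * P.1 = 1 from congrArg Subtype.val (inv_mul_cancel P),
        Matrix.submatrix_one_equiv]
    · rw [Matrix.det_submatrix_equiv_self]; exact P.2
    · rw [← hN₀, show (P⁻¹).1.submatrix e.symm e.symm * N₀ * P.1.submatrix e.symm e.symm =
          y.1.submatrix e.symm e.symm - 1 by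
        rw [hy, Matrix.SpecialLinearGroup.coe_mul, Matrix.SpecialLinearGroup.coe_mul, hx,
          ← Matrix.submatrix_mul_equiv _ _ _ e.symm, ← Matrix.submatrix_mul_equiv _ _ _ e.symm, Matrix.submatrix_submatrix,
          Equiv.self_comp_symm, Matrix.submatrix_id_id, mul_add, add_mul, Matrix.mul_one, Matrix.submatrix_mul_equiv,
          show (P⁻¹).1 * P.1 = 1 from congrArg Subtype.val (inv_mul_cancel P), Matrix.submatrix_one_equiv]
        abel]
      rw [Matrix.sub_apply, Matrix.submatrix_apply]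
      refine sub_mem ?_ ?_
      · have h := mul_mem hla (hent (e.symm i) (e.symm j))
        rw [← mul_assoc, mul_inv_cancel₀ hlam, one_mul] at h
        exact h
      · rw [Matrix.one_apply]
        split
        · exact one_mem _
        · exact zero_mem _
  intro hcase x ⟨z, hz⟩ hns
  obtain ⟨ζ, hζ⟩ := hsurj z
  rw [Matrix.SpecialLinearGroup.coe_pow, pow_succ, sq] at hz
  have hζ0 : ζ ≠ 0 := fun h => by
    rw [h, mul_zero] at hζ
    rw [← hζ, zero_smul] at hz
    have h := congrArg Matrix.det hz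
    haveI : Nonempty (Fin n) := ⟨⟨0, by omega⟩⟩
    rw [Matrix.det_mul, Matrix.det_mul, x.2, Matrix.det_zero] at h
    simp at h
  obtain ⟨N, hN⟩ : ∃ N, N = ζ⁻¹ • x.1 - 1 := ⟨_, rfl⟩
  have hN3 : N * N * N = 0 := by
    rw [hN]
    rw [show ∀ A : Matrix (Fin n) (Fin n) F, (A - 1) * (A - 1) * (A - 1) = A * A * A - 1 + (3 : F) • (A - A * A) from fun A => by
      simp only [show (3 : F) = ((3 : ℕ) : F) by norm_num, Nat.cast_smul_eq_nsmul]
      noncomm_ring, h30, zero_smul, add_zero]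
    simp only [Matrix.smul_mul, Matrix.mul_smul, smul_smul]
    rw [hz, smul_smul, ← hζ, show ζ⁻¹ * (ζ⁻¹ * ζ⁻¹) * (ζ * ζ * ζ) = 1 by field_simp, one_smul, sub_self]
  obtain ⟨a, b, c, B, h1, h2, h3, h4, h5, h6⟩ := CfsgLib.Perm.Elusive.exists_cube_zero_basis (Matrix.toLin' N)
    (fun v => by rw [Matrix.toLin'_apply, Matrix.toLin'_apply, Matrix.toLin'_apply, mulVec_mulVec, mulVec_mulVec, hN3, zero_mulVec])
  obtain ⟨succ, hsucc⟩ : ∃ succ : ((Fin a ⊕ Fin a ⊕ Fin a) ⊕ (Fin b ⊕ Fin b) ⊕ Fin c) →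
      Option ((Fin a ⊕ Fin a ⊕ Fin a) ⊕ (Fin b ⊕ Fin b) ⊕ Fin c), succ =
      Sum.elim (Sum.elim (fun i => some (Sum.inl (Sum.inr (Sum.inl i))))
        (Sum.elim (fun i => some (Sum.inl (Sum.inr (Sum.inr i)))) (fun _ => none)))
      (Sum.elim (Sum.elim (fun i => some (Sum.inr (Sum.inl (Sum.inr i)))) (fun _ => none)) (fun _ => none)) := ⟨_, rfl⟩
  have hNB : ∀ j, N *ᵥ B j = (succ j).elim 0 B := fun j => by
    rw [← Matrix.toLin'_apply, hsucc]
    rcases j with (i | i | i) | ((i | i) | i)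
    · exact h1 i
    · exact h2 i
    · exact h3 i
    · exact h4 i
    · exact h5 i
    · exact h6 i
  obtain ⟨e, -⟩ : ∃ e : Fin n ≃ ((Fin a ⊕ Fin a ⊕ Fin a) ⊕ (Fin b ⊕ Fin b) ⊕ Fin c), True :=
    ⟨(Pi.basisFun F (Fin n)).indexEquiv B, trivial⟩
  obtain ⟨Bm, hBm⟩ : ∃ Bm : Matrix (Fin n) (Fin n) F, Bm = Matrix.of fun i j => B (e j) i := ⟨_, rfl⟩
  have hBd : Bm.det ≠ 0 := by
    refine ((Matrix.isUnit_iff_isUnit_det _).1 (Matrix.linearIndependent_cols_iff_isUnit.1 ?_)).ne_zero
    have := B.linearIndependent.comp e e.injective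
    rw [hBm]
    exact this
  suffices hw : ∃ w : ((Fin a ⊕ Fin a ⊕ Fin a) ⊕ (Fin b ⊕ Fin b) ⊕ Fin c) → F, (∀ i, w i ≠ 0) ∧
      (∀ i j, succ j = some i → w j / w i ∈ F₀) ∧ Bm.det * ∏ i, w i = 1 by
    obtain ⟨w, hw0, hwF, hwd⟩ := hw
    obtain ⟨P, hP⟩ : ∃ P : Matrix.SpecialLinearGroup (Fin n) F, P.1 = Bm * Matrix.diagonal (fun j => w (e j)) :=
      ⟨⟨_, by rw [Matrix.det_mul, Matrix.det_diagonal, Equiv.prod_comp e w, hwd]⟩, rfl⟩
    refine ⟨P, ?_⟩
    rw [Subgroup.mem_comap, CfsgLib.Perm.Elusive.mem_subfield_one]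
    obtain ⟨M, hM⟩ : ∃ M : Matrix (Fin n) (Fin n) F, M = Matrix.of fun i j =>
        (if i = j then 1 else 0) + (if succ (e j) = some (e i) then w (e j) / w (e i) else 0) := ⟨_, rfl⟩
    have hxP : x.1 * P.1 = P.1 * (ζ • M) := by
      have hxA : x.1 = ζ • (N + 1) := by rw [hN, sub_add_cancel, smul_inv_smul₀ hζ0]
      rw [hxA, Matrix.smul_mul, Matrix.mul_smul]
      congr 1
      rw [add_mul, Matrix.one_mul, hP]
      ext i j
      have hcol : (N * (Bm * Matrix.diagonal fun j => w (e j))) i j = w (e j) * (succ (e j)).elim 0 B i := by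
        rw [← Matrix.mul_assoc, Matrix.mul_diagonal, mul_comm]
        congr 1
        rw [← hNB, hBm]
        rfl
      rw [Matrix.add_apply, hcol, Matrix.mul_diagonal, Matrix.mul_apply]
      simp only [Matrix.mul_diagonal, hM, Matrix.of_apply, mul_add, mul_ite, mul_one, mul_zero, Finset.sum_add_distrib,
        Finset.sum_ite_eq', Finset.mem_univ, if_true]
      rw [add_comm]
      congr 1
      cases hs : succ (e j) with
      | none => simp
      | some t =>
        rw [Finset.sum_eq_single (e.symm t) (fun l _ hl => if_neg fun h => hl (by rw [Option.some.inj h, e.symm_apply_apply]))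
          (fun h => absurd (Finset.mem_univ _) h), e.apply_symm_apply, if_pos rfl, Option.elim_some, hBm, Matrix.of_apply,
          e.apply_symm_apply]
        field_simp [hw0 t]
    refine ⟨ζ, hζ0, fun i j => ?_⟩
    have hval : (P⁻¹).1 * x.1 * P.1 = ζ • M := by
      rw [Matrix.mul_assoc, hxP, ← Matrix.mul_assoc, show (P⁻¹).1 * P.1 = 1 from congrArg Subtype.val (inv_mul_cancel P),
        Matrix.one_mul]
    rw [show ((Matrix.SpecialLinearGroup.toGL (P⁻¹ * x * P) : GL (Fin n) F) : Matrix (Fin n) (Fin n) F) = ζ • M from hval,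
      Matrix.smul_apply, smul_eq_mul, inv_mul_cancel_left₀ hζ0, hM, Matrix.of_apply]
    refine add_mem ?_ ?_
    · split
      · exact one_mem _
      · exact zero_mem _
    · split
      · next h => exact hwF _ _ h
      · exact zero_mem _
  obtain ⟨δ, hδ⟩ : ∃ δ, δ = Bm.det⁻¹ := ⟨_, rfl⟩
  have hδ0 : δ ≠ 0 := hδ ▸ inv_ne_zero hBd
  have hprod : ∀ (k' : ℕ) (h : 0 < k') (v : F), ∏ i, Function.update (fun _ : Fin k' => (1 : F)) ⟨0, h⟩ v i = v := fun k' h v => by
    rw [Finset.prod_update_of_mem (Finset.mem_univ _)]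
    simp
  have hupd : ∀ (k' : ℕ) (h : 0 < k') (v : F), v ≠ 0 → ∀ i, Function.update (fun _ : Fin k' => (1 : F)) ⟨0, h⟩ v i ≠ 0 :=
    fun k' h v hv i => by
      rw [Function.update_apply]
      split
      · exact hv
      · exact one_ne_zero
  by_cases hc : 0 < c
  · refine ⟨Sum.elim (fun _ => 1) (Sum.elim (fun _ => 1) (Function.update (fun _ => 1) ⟨0, hc⟩ δ)), ?_, ?_, ?_⟩
    · rintro ((i | i | i) | ((i | i) | i)) <;> simp only [Sum.elim_inl, Sum.elim_inr] <;>
        first | exact one_ne_zero | exact hupd c hc δ hδ0 i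
    · rintro i ((j | j | j) | ((j | j) | j)) h <;> simp [hsucc] at h <;> subst h <;> simp [one_mem]
    · simp only [Fintype.prod_sum_type, Sum.elim_inl, Sum.elim_inr, Finset.prod_const_one, one_mul, hprod]
      rw [hδ, mul_inv_cancel₀ hBd]
  by_cases ha : 0 < a
  · obtain ⟨s, hs⟩ := hsurj δ
    have hs0 : s ≠ 0 := fun h => hδ0 (by rw [← hs, h, mul_zero])
    refine ⟨Sum.elim (Sum.elim (Function.update (fun _ => 1) ⟨0, ha⟩ s) (Sum.elim (Function.update (fun _ => 1) ⟨0, ha⟩ s)
      (Function.update (fun _ => 1) ⟨0, ha⟩ s))) (fun _ => 1), ?_, ?_, ?_⟩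
    · rintro ((i | i | i) | ((i | i) | i)) <;> simp only [Sum.elim_inl, Sum.elim_inr] <;>
        first | exact one_ne_zero | exact hupd a ha s hs0 i
    · rintro i ((j | j | j) | ((j | j) | j)) h <;> simp [hsucc] at h <;> subst h <;>
        simp only [Sum.elim_inl, Sum.elim_inr, div_one, div_self (hupd a ha s hs0 _), one_mem]
    · simp only [Fintype.prod_sum_type, Sum.elim_inl, Sum.elim_inr, Finset.prod_const_one, mul_one, hprod]
      rw [← mul_assoc s, hs, hδ, mul_inv_cancel₀ hBd]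
  have hn' : n = b + b := by
    have := Fintype.card_congr e
    simp at this
    omega
  have hb : 0 < b := by omega
  have hk2 : 2 < k := by
    rcases hcase with h | h
    · exact absurd h (Nat.not_odd_iff_even.2 ⟨b, hn'⟩)
    · exact h.2
  obtain ⟨u, hu, s, hus⟩ : ∃ u ∈ F₀, ∃ s : F, s * u * s = δ := by
    by_cases hsqδ : IsSquare δ
    · obtain ⟨s, hs⟩ := hsqδ
      exact ⟨1, one_mem _, s, by rw [mul_one, hs]⟩
    obtain ⟨u, hu⟩ := FiniteField.exists_nonsquare (F := F₀) (by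
      intro h
      haveI : CharP F₀ 2 := h ▸ ringChar.charP F₀
      exact h20 ((map_ofNat (F₀.subtype : F₀ →+* F) 2).symm.trans (by rw [show (2 : F₀) = ((2 : ℕ) : F₀) by norm_num, CharP.cast_eq_zero, map_zero])))
    have hu0 : u ≠ 0 := fun h => hu ⟨0, by rw [h, mul_zero]⟩
    have hum : u ^ (q₀ / 2) = -1 := by
      have hchar : ringChar F₀ ≠ 2 := fun h => by
        haveI : CharP F₀ 2 := h ▸ ringChar.charP F₀
        exact h20 ((map_ofNat (F₀.subtype : F₀ →+* F) 2).symm.trans (by rw [show (2 : F₀) = ((2 : ℕ) : F₀) by norm_num, CharP.cast_eq_zero, map_zero]))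
      rcases FiniteField.pow_dichotomy hchar hu0 with h | h
      · exact absurd ((FiniteField.isSquare_iff hchar hu0).2 h) hu
      · rwa [hq₀c] at h
    have huns : ¬ IsSquare (u : F) := by
      rintro ⟨w, hw⟩
      have hw1 : w ^ q₀ = -w := by
        obtain ⟨j, hj⟩ := hq₀odd
        rw [show q₀ = q₀ / 2 + q₀ / 2 + 1 by omega, pow_succ, pow_add, ← mul_pow, ← hw]
        have := congrArg Subtype.val hum
        simp at this
        rw [this, neg_one_mul]
      have hw2 : ∀ j, w ^ q₀ ^ j = (-1) ^ j * w := fun j => by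
        induction j with
        | zero => simp
        | succ j ih =>
          rw [pow_succ, pow_mul, ih, mul_pow, hw1, ← pow_mul, mul_comm j, pow_mul, Odd.neg_one_pow hq₀odd, pow_succ]
          ring
      have hko : Odd k := hk.odd_of_ne_two (by omega)
      have := hw2 k
      rw [← hqk, ← hq, FiniteField.pow_card, hko.neg_one_pow] at this
      have h2w : (2 : F) * w = 0 := by linear_combination this
      rw [(mul_eq_zero.1 h2w).resolve_left h20, mul_zero] at hw
      exact hu0 (Subtype.ext hw)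
    obtain ⟨s, hs⟩ : IsSquare (δ / (u : F)) := by
      have hFc : ringChar F ≠ 2 := fun h => h20 (by
        haveI : CharP F 2 := h ▸ ringChar.charP F
        exact_mod_cast CharP.cast_eq_zero F 2)
      have hu0' : (u : F) ≠ 0 := fun h => hu0 (Subtype.ext h)
      have hd1 := (FiniteField.pow_dichotomy hFc hδ0).resolve_left (fun h => hsqδ ((FiniteField.isSquare_iff hFc hδ0).2 h))
      have hd2 := (FiniteField.pow_dichotomy hFc hu0').resolve_left (fun h => huns ((FiniteField.isSquare_iff hFc hu0').2 h))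
      rw [FiniteField.isSquare_iff hFc (div_ne_zero hδ0 hu0'), div_pow, hd1, hd2, div_self (neg_ne_zero.2 one_ne_zero)]
    refine ⟨u, u.2, s, ?_⟩
    rw [mul_comm s, mul_assoc, ← hs, mul_div_cancel₀]
    exact fun h => hu0 (Subtype.ext h)
  have hsu : s * u ≠ 0 ∧ s ≠ 0 := ⟨fun h => hδ0 (by rw [← hus, h, zero_mul]), fun h => hδ0 (by rw [← hus, h]; ring)⟩
  refine ⟨Sum.elim (fun _ => 1) (Sum.elim (Sum.elim (Function.update (fun _ => 1) ⟨0, hb⟩ (s * u))
    (Function.update (fun _ => 1) ⟨0, hb⟩ s)) (fun _ => 1)), ?_, ?_, ?_⟩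
  · rintro ((i | i | i) | ((i | i) | i)) <;> simp only [Sum.elim_inl, Sum.elim_inr] <;>
      first | exact one_ne_zero | exact hupd b hb _ hsu.1 i | exact hupd b hb _ hsu.2 i
  · rintro i ((j | j | j) | ((j | j) | j)) h <;> simp [hsucc] at h <;> subst h
    · simp [one_mem]
    · simp [one_mem]
    · simp only [Sum.elim_inl, Sum.elim_inr, Function.update_apply]
      split
      · rw [mul_div_assoc, mul_comm, div_mul_cancel₀ _ hsu.2]; exact hu
      · simp [one_mem]
  · simp only [Fintype.prod_sum_type, Sum.elim_inl, Sum.elim_inr, Finset.prod_const_one, one_mul, mul_one, hprod]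
    rw [hus, hδ, mul_inv_cancel₀ hBd]

end Cfsg.Agent.S5966
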