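import Cfsg.Statements.S5967
-- import your own Cfsg.Agent.* helpers here
import Mathlib
import Cfsg.Agent.Lib.Perm.Elusive.TwoPart
import Cfsg.Agent.Lib.Perm.Elusive.SympPairs
import Cfsg.Agent.Lib.Perm.Asch.Forms.SpLemmas

set_option autoImplicit false
set_option linter.all false
open scoped MatrixGroups
open Cfsg

namespace Cfsg.Agent.S5967
open Matrix

/-- Involutions of PSL_n(q) and the symplectic-type subgroups. Here `T = PSL_n(F)` for a field `F` with `q` elements, `n ≥ 4` even, `f` is a nondegenerate alternating form on `F^n`, and `H` is the subgroup of matrices of determinant 1 preserving `f` up to a scalar — a maximal subgroup of type Sp_n(q); Ω is the set of `T`-conjugates of `H` (cosets of `H`), so an element of `T` of prime order `r` (a matrix `x` of determinant 1 with `x^r` scalar, `x` not scalar) fixes a point of Ω when some conjugate of `x` by a matrix of determinant 1 preserves `f` up to a scalar. Suppose the index of `H` is even. Then every involution of `T` is conjugate in `T`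 into `H` if and only if `(q − 1)_2 ≤ (n)_2`. -/
theorem result {F : Type*} [Field F] [Fintype F] {p : ℕ} [Fact p.Prime] [CharP F p] {q : ℕ} (hq : Fintype.card F = q)
    (n : ℕ) (hn : 4 ≤ n) (he : Even n) (f : (Fin n → F) → (Fin n → F) → F) (hf : Cfsg.Geo.IsSymplecticForm f)
    (hΩ : 2 ∣ ((Cfsg.Geo.similarityGroup f).comap (Matrix.SpecialLinearGroup.toGL : Matrix.SpecialLinearGroup (Fin n) F →* GL (Fin n) F)).index) :
    (∀ x : Matrix.SpecialLinearGroup (Fin n) F,
      (∃ z : F, ((x ^ 2 : Matrix.SpecialLinearGroup (Fin n) F) : Matrix (Fin n) (Fin n) F) = z • (1 : Matrix (Fin n) (Fin n) F)) →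
      (∀ z : F, (x : Matrix (Fin n) (Fin n) F) ≠ z • (1 : Matrix (Fin n) (Fin n) F)) →
      ∃ P : Matrix.SpecialLinearGroup (Fin n) F, P⁻¹ * x * P ∈ ((Cfsg.Geo.similarityGroup f).comap (Matrix.SpecialLinearGroup.toGL : Matrix.SpecialLinearGroup (Fin n) F →* GL (Fin n) F))) ↔
    padicValNat 2 (q - 1) ≤ padicValNat 2 n := by
  classical
  constructor
  · -- necessity
    intro hall
    by_contra hv
    push Not at hv
    have h2 : (2 : F) ≠ 0 := fun h => by
      have h2q : ¬ 2 ∣ q - 1 := by
        obtain ⟨c, hc', hc⟩ := FiniteField.card F p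
        rw [hq, (Nat.prime_dvd_prime_iff_eq hc' Nat.prime_two).1 ((CharP.cast_eq_zero_iff F p 2).1 (by exact_mod_cast h))] at hc
        have h1 : 2 ∣ q := hc ▸ dvd_pow_self 2 (by positivity)
        have h3 : 1 ≤ q := hc ▸ Nat.one_le_two_pow
        omega
      rw [padicValNat.eq_zero_of_not_dvd h2q] at hv
      omega
    obtain ⟨ρ, hρ⟩ := CfsgLib.Perm.Elusive.exists_pow_neg_one h2 (show n ≠ 0 by omega) (hq ▸ hv)
    have hρ0 : ρ ≠ 0 := fun h => by
      rw [h, zero_pow (by omega)] at hρ
      exact one_ne_zero (neg_eq_zero.1 hρ.symm)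
    obtain ⟨i₀, hi₀⟩ : ∃ i₀ : Fin n, i₀ = ⟨0, by omega⟩ := ⟨_, rfl⟩
    obtain ⟨w, hw⟩ : ∃ w : Fin n → F, w = Function.update (fun _ => ρ) i₀ (-ρ) := ⟨_, rfl⟩
    have hdet : (Matrix.diagonal w).det = 1 := by
      rw [Matrix.det_diagonal, hw, Finset.prod_update_of_mem (Finset.mem_univ i₀), Finset.prod_const,
        Finset.card_sdiff, Finset.card_univ, Fintype.card_fin]
      rw [show ({i₀} ∩ Finset.univ : Finset (Fin n)).card = 1 by simp, neg_mul, ← pow_succ', show n - 1 + 1 = n by omega,
        hρ, neg_neg]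
    have hw0 : w i₀ = -ρ := by rw [hw, Function.update_self]
    have hwi : ∀ i, i ≠ i₀ → w i = ρ := fun i hi => by rw [hw, Function.update_of_ne hi]
    obtain ⟨x, hx⟩ : ∃ x : Matrix.SpecialLinearGroup (Fin n) F, (x : Matrix (Fin n) (Fin n) F) = Matrix.diagonal w :=
      ⟨⟨Matrix.diagonal w, hdet⟩, rfl⟩
    obtain ⟨P, c, hP⟩ := hall x ⟨ρ * ρ, by
        rw [Matrix.SpecialLinearGroup.coe_pow, hx, sq, Matrix.diagonal_mul_diagonal, Matrix.smul_one_eq_diagonal]
        congr 1
        funext i
        rcases eq_or_ne i i₀ with rfl | hi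
        · rw [hw0, neg_mul_neg]
        · rw [hwi i hi]⟩
      (fun z hz => by
        have h0 := congrFun (congrFun hz i₀) i₀
        obtain ⟨i₁, hi₁⟩ : ∃ i : Fin n, i ≠ i₀ := ⟨⟨1, by omega⟩, by rw [hi₀]; simp⟩
        have h1 := congrFun (congrFun hz i₁) i₁
        rw [hx, Matrix.smul_one_eq_diagonal, Matrix.diagonal_apply_eq, Matrix.diagonal_apply_eq, hw0] at h0
        rw [hx, Matrix.smul_one_eq_diagonal, Matrix.diagonal_apply_eq, Matrix.diagonal_apply_eq, hwi _ hi₁, ← h0] at h1
        exact mul_ne_zero h2 hρ0 (by linear_combination h1))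
    -- eigenvectors of the conjugate
    obtain ⟨v, hv'⟩ : ∃ v : Fin n → (Fin n → F),
        ∀ i, v i = ((P⁻¹ : Matrix.SpecialLinearGroup (Fin n) F) : Matrix (Fin n) (Fin n) F) *ᵥ Pi.single i 1 :=
      ⟨_, fun i => rfl⟩
    have heig : ∀ i, ((P⁻¹ * x * P : Matrix.SpecialLinearGroup (Fin n) F) : Matrix (Fin n) (Fin n) F) *ᵥ v i =
        w i • v i := fun i => by
      rw [hv', Matrix.mulVec_mulVec, ← Matrix.SpecialLinearGroup.coe_mul, mul_inv_cancel_right,
        Matrix.SpecialLinearGroup.coe_mul, ← Matrix.mulVec_mulVec, hx,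
        show Matrix.diagonal w *ᵥ Pi.single i (1 : F) = w i • Pi.single i 1 by
          funext j
          rw [Matrix.mulVec_diagonal, Pi.smul_apply, smul_eq_mul]
          rcases eq_or_ne j i with rfl | hji
          · rfl
          · rw [Pi.single_eq_of_ne hji, mul_zero, mul_zero],
        Matrix.mulVec_smul]
    have hpair : ∀ i j, (w i * w j - c) * f (v i) (v j) = 0 := fun i j => by
      have h : f (((P⁻¹ * x * P : Matrix.SpecialLinearGroup (Fin n) F) : Matrix (Fin n) (Fin n) F) *ᵥ v i)
          (((P⁻¹ * x * P : Matrix.SpecialLinearGroup (Fin n) F) : Matrix (Fin n) (Fin n) F) *ᵥ v j) =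
          c * f (v i) (v j) := hP (v i) (v j)
      rw [heig, heig, hf.bilinear.smul_left, hf.bilinear.smul_right] at h
      linear_combination h
    have horth : ∀ u, (∀ j, f u (v j) = 0) → u = 0 := by
      intro u hu
      by_contra hu0
      obtain ⟨y, hy⟩ := (hf.nondegenerate u hu0).2
      refine hy ?_
      have hspan : ∀ y, f u (((P⁻¹ : Matrix.SpecialLinearGroup (Fin n) F) : Matrix (Fin n) (Fin n) F) *ᵥ y) = 0 := by
        intro y
        rw [pi_eq_sum_univ' y, Matrix.mulVec_sum, CfsgLib.Perm.Asch.bilin_sum_right hf.bilinear]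
        refine Finset.sum_eq_zero fun j _ => ?_
        rw [Matrix.mulVec_smul, ← hv', hf.bilinear.smul_right, hu, mul_zero]
      have := hspan ((P : Matrix (Fin n) (Fin n) F) *ᵥ y)
      rwa [Matrix.mulVec_mulVec, ← Matrix.SpecialLinearGroup.coe_mul, inv_mul_cancel, Matrix.SpecialLinearGroup.coe_one,
        Matrix.one_mulVec] at this
    have hvne : ∀ i, v i ≠ 0 := fun i h => by
      rw [hv'] at h
      have h1 := congrArg (fun y => (P : Matrix (Fin n) (Fin n) F) *ᵥ y) h
      simp only [Matrix.mulVec_zero] at h1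
      rw [Matrix.mulVec_mulVec, ← Matrix.SpecialLinearGroup.coe_mul, mul_inv_cancel, Matrix.SpecialLinearGroup.coe_one,
        Matrix.one_mulVec] at h1
      simpa using congrFun h1 i
    -- the multiplier is `-ρ²`
    have hc : (c : F) = -(ρ * ρ) := by
      by_contra hne
      refine hvne i₀ (horth _ fun j => ?_)
      rcases eq_or_ne j i₀ with rfl | hj
      · exact hf.alternating _
      · refine (mul_eq_zero.1 (hpair i₀ j)).resolve_left fun h => hne ?_
        rw [hw0, hwi j hj] at h
        linear_combination -h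
    obtain ⟨i₁, hi₁⟩ : ∃ i : Fin n, i ≠ i₀ := ⟨⟨1, by omega⟩, by rw [hi₀]; simp⟩
    obtain ⟨i₂, hi₂, hi₂₁⟩ : ∃ i : Fin n, i ≠ i₀ ∧ i ≠ i₁ := by
      by_contra hcon
      push Not at hcon
      have hsub : (Finset.univ : Finset (Fin n)) ⊆ {i₀, i₁} := fun i _ => by
        rcases eq_or_ne i i₀ with h | h
        · simp [h]
        · simp [hcon i h]
      have := (Finset.card_le_card hsub).trans Finset.card_le_two
      simp at this
      omega
    have hzero : ∀ i j, i ≠ i₀ → j ≠ i₀ → f (v i) (v j) = 0 := fun i j hi hj => by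
      refine (mul_eq_zero.1 (hpair i j)).resolve_left fun h => mul_ne_zero h2 (mul_ne_zero hρ0 hρ0) ?_
      rw [hwi i hi, hwi j hj, hc] at h
      linear_combination h
    have hu : f (v i₂) (v i₀) • v i₁ - f (v i₁) (v i₀) • v i₂ = 0 := horth _ fun j => by
      rw [sub_eq_add_neg, ← neg_smul, hf.bilinear.add_left, hf.bilinear.smul_left, hf.bilinear.smul_left]
      rcases eq_or_ne j i₀ with rfl | hj
      · ring
      · rw [hzero i₁ j hi₁ hj, hzero i₂ j hi₂ hj]; ring
    have h1 := congrArg (fun y => (P : Matrix (Fin n) (Fin n) F) *ᵥ y) hu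
    simp only [hv', Matrix.mulVec_sub, Matrix.mulVec_smul, Matrix.mulVec_mulVec, ← Matrix.SpecialLinearGroup.coe_mul,
      mul_inv_cancel, Matrix.SpecialLinearGroup.coe_one, Matrix.one_mulVec, Matrix.mulVec_zero] at h1
    have h3 := congrFun h1 i₁
    simp [hi₂₁.symm] at h3
    refine hvne i₂ (horth _ fun j => ?_)
    rcases eq_or_ne j i₀ with rfl | hj
    · simpa [hv'] using h3
    · exact hzero i₂ j hi₂ hj
  · -- sufficiency
    intro hv x hx1 hx2
    obtain ⟨z, hz⟩ := hx1
    have hz0 : z ≠ 0 := by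
      intro h0
      rw [h0, zero_smul] at hz
      have h1 : ((x ^ 2 : Matrix.SpecialLinearGroup (Fin n) F) : Matrix (Fin n) (Fin n) F).det = 1 := (x ^ 2).2
      haveI : Nonempty (Fin n) := ⟨⟨0, by omega⟩⟩
      rw [hz, Matrix.det_zero] at h1
      exact zero_ne_one h1
    have hT : ∀ v, Matrix.toLin' (x : Matrix (Fin n) (Fin n) F) (Matrix.toLin' (x : Matrix (Fin n) (Fin n) F) v) = z • v := by
      intro v
      rw [Matrix.toLin'_apply, Matrix.toLin'_apply, Matrix.mulVec_mulVec]
      rw [Matrix.SpecialLinearGroup.coe_pow, sq] at hz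
      rw [hz, Matrix.smul_mulVec, Matrix.one_mulVec]
    have hcardE : ∀ {I : Type} [Fintype I] (b : Module.Basis I F (Fin n → F)), Fintype.card I = n := fun b => by
      rw [← Module.finrank_eq_card_basis b, Module.finrank_fin_fun]
    rcases CfsgLib.Perm.Elusive.exists_square_scalar_basis _ hz0 hT with
      ⟨ρ, hρ, h2, k, l, b, h1, h1'⟩ | ⟨ρ, k, l, b, h1, h1', h3, h4⟩
    · have hρ0 : ρ ≠ 0 := fun h => hz0 (by rw [← hρ, h, zero_mul])
      have hkl := hcardE b
      simp at hkl
      -- the determinant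
      have hdet : ρ ^ k * (-ρ) ^ l = 1 := by
        have e1 := b.det_comp (Matrix.toLin' (x : Matrix (Fin n) (Fin n) F)) b
        rw [b.det_self, mul_one, LinearMap.det_toLin', x.2, show (Matrix.toLin' (x : Matrix (Fin n) (Fin n) F)) ∘ ⇑b =
          fun i => Sum.elim (fun _ => ρ) (fun _ => -ρ) i • b i from funext fun i => by
            rcases i with i | i
            · exact h1 i
            · exact h1' i, AlternatingMap.map_smul_univ] at e1
        simp only [AlternatingMap.coe_multilinearMap, b.det_self, smul_eq_mul, mul_one, Fintype.prod_sum_type,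
          Sum.elim_inl, Sum.elim_inr, Finset.prod_const, Finset.card_univ, Fintype.card_fin] at e1
        exact e1
      by_cases hkk : k = l
      · subst hkk
        exact CfsgLib.Perm.Elusive.exists_sl_conj_similitude hf x (d := k) (by omega)
          (finSumFinEquiv.trans (finCongr hkl)).symm b (fun _ => ρ) 0 0 (fun _ => -ρ)
          (neg_ne_zero.2 (mul_ne_zero hρ0 hρ0)) (fun i => by simp [mul_comm])
          (fun i => by rw [← Matrix.toLin'_apply, h1]; simp) (fun i => by rw [← Matrix.toLin'_apply, h1']; simp)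
      have hk : Even k := by
        by_contra hk
        have hl : Odd l := by
          rcases Nat.even_or_odd l with h | h
          · exfalso
            exact hk ((Nat.even_add.1 (hkl ▸ he)).2 h)
          · exact h
        refine CfsgLib.Perm.Elusive.neg_one_not_pow h2 (show n ≠ 0 by omega) (hq ▸ hv) ρ ?_
        rw [← hkl, pow_add, hl.neg_pow, mul_neg] at *
        linear_combination -hdet
      obtain ⟨k', rfl⟩ := hk
      obtain ⟨l', rfl⟩ : Even l := (Nat.even_add.1 (hkl ▸ he)).1 ⟨k', rfl⟩
      obtain ⟨E, hE⟩ : ∃ E : (Fin (k' + k') ⊕ Fin (l' + l')) ≃ (Fin k' ⊕ Fin l') ⊕ (Fin k' ⊕ Fin l'),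
          E = (Equiv.sumCongr finSumFinEquiv.symm finSumFinEquiv.symm).trans (Equiv.sumSumSumComm _ _ _ _) := ⟨_, rfl⟩
      obtain ⟨d, hd⟩ : ∃ d, d = k' + l' := ⟨_, rfl⟩
      obtain ⟨E', hE'⟩ : ∃ E' : (Fin (k' + k') ⊕ Fin (l' + l')) ≃ Fin d ⊕ Fin d,
          E' = E.trans (Equiv.sumCongr (finSumFinEquiv.trans (finCongr hd.symm)) (finSumFinEquiv.trans (finCongr hd.symm))) :=
        ⟨_, rfl⟩
      obtain ⟨sg, hsg⟩ : ∃ sg : Fin d → F, sg = fun i =>
          Sum.elim (fun _ => ρ) (fun _ => -ρ) ((finSumFinEquiv.trans (finCongr hd.symm)).symm i) := ⟨_, rfl⟩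
      refine CfsgLib.Perm.Elusive.exists_sl_conj_similitude hf x (d := d) (by omega)
        ((finSumFinEquiv.trans (finCongr hkl)).symm.trans E') (b.reindex E') sg 0 0 sg
        (μ := ρ * ρ) (mul_ne_zero hρ0 hρ0) (fun i => ?_) (fun i => ?_) (fun i => ?_)
      · obtain ⟨j, rfl⟩ := (finSumFinEquiv.trans (finCongr hd.symm)).surjective i
        simp only [hsg, Equiv.symm_apply_apply]
        rcases j with j | j <;> simp
      · rw [← Matrix.toLin'_apply, Module.Basis.reindex_apply, hsg]
        obtain ⟨j, rfl⟩ := (finSumFinEquiv.trans (finCongr hd.symm)).surjective i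
        rcases j with j | j
        · rw [show E'.symm (Sum.inl ((finSumFinEquiv.trans (finCongr hd.symm)) (Sum.inl j))) =
              Sum.inl (finSumFinEquiv (Sum.inl j)) by rw [Equiv.symm_apply_eq, hE', hE]; simp [Equiv.sumSumSumComm, -finSumFinEquiv_apply_left, -finSumFinEquiv_apply_right], h1]
          simp
        · rw [show E'.symm (Sum.inl ((finSumFinEquiv.trans (finCongr hd.symm)) (Sum.inr j))) =
              Sum.inr (finSumFinEquiv (Sum.inl j)) by rw [Equiv.symm_apply_eq, hE', hE]; simp [Equiv.sumSumSumComm, -finSumFinEquiv_apply_left, -finSumFinEquiv_apply_right], h1']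
          simp
      · rw [← Matrix.toLin'_apply, Module.Basis.reindex_apply, hsg]
        obtain ⟨j, rfl⟩ := (finSumFinEquiv.trans (finCongr hd.symm)).surjective i
        rcases j with j | j
        · rw [show E'.symm (Sum.inr ((finSumFinEquiv.trans (finCongr hd.symm)) (Sum.inl j))) =
              Sum.inl (finSumFinEquiv (Sum.inr j)) by rw [Equiv.symm_apply_eq, hE', hE]; simp [Equiv.sumSumSumComm, -finSumFinEquiv_apply_left, -finSumFinEquiv_apply_right], h1]
          simp
        · rw [show E'.symm (Sum.inr ((finSumFinEquiv.trans (finCongr hd.symm)) (Sum.inr j))) =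
              Sum.inr (finSumFinEquiv (Sum.inr j)) by rw [Equiv.symm_apply_eq, hE', hE]; simp [Equiv.sumSumSumComm, -finSumFinEquiv_apply_left, -finSumFinEquiv_apply_right], h1']
          simp
    · have hkl := hcardE b
      simp at hkl
      have hl : Even l := by
        obtain ⟨m, hm⟩ := he
        exact ⟨m - k, by omega⟩
      obtain ⟨l', rfl⟩ := hl
      have hl4 : l' = 0 ∨ ((2 : F) = 0 ∧ ρ * ρ = z) := by
        rcases h4 with ⟨-, h⟩ | h
        · exact Or.inl (by omega)
        · exact Or.inr h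
      obtain ⟨d, hd⟩ : ∃ d, d = k + l' := ⟨_, rfl⟩
      obtain ⟨E', hE'⟩ : ∃ E' : ((Fin k ⊕ Fin k) ⊕ Fin (l' + l')) ≃ Fin d ⊕ Fin d,
          E' = ((Equiv.sumCongr (Equiv.refl _) finSumFinEquiv.symm).trans (Equiv.sumSumSumComm _ _ _ _)).trans
            (Equiv.sumCongr (finSumFinEquiv.trans (finCongr hd.symm)) (finSumFinEquiv.trans (finCongr hd.symm))) :=
        ⟨_, rfl⟩
      obtain ⟨N, hN⟩ : ∃ N : Fin d ≃ Fin k ⊕ Fin l', N = (finSumFinEquiv.trans (finCongr hd.symm)).symm := ⟨_, rfl⟩
      obtain ⟨e₀⟩ : Nonempty (Fin n ≃ Fin d ⊕ Fin d) := ⟨Fintype.equivOfCardEq (by simp; omega)⟩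
      refine CfsgLib.Perm.Elusive.exists_sl_conj_similitude hf x (d := d) (by omega) e₀ (b.reindex E')
        (fun i => Sum.elim (fun _ => (0 : F)) (fun _ => ρ) (N i)) (fun i => Sum.elim (fun _ => z) (fun _ => 0) (N i))
        (fun i => Sum.elim (fun _ => (1 : F)) (fun _ => 0) (N i)) (fun i => Sum.elim (fun _ => (0 : F)) (fun _ => ρ) (N i))
        (μ := -z) (neg_ne_zero.2 hz0) (fun i => ?_) (fun i => ?_) (fun i => ?_)
      · rcases N i with j | j
        · simp
        · rcases hl4 with rfl | ⟨h2, hρ⟩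
          · exact j.elim0
          · simp only [Sum.elim_inr, mul_zero, sub_zero, hρ]
            linear_combination z * h2
      · rw [← Matrix.toLin'_apply, Module.Basis.reindex_apply, Module.Basis.reindex_apply]
        obtain ⟨j, rfl⟩ := N.symm.surjective i
        rw [Equiv.apply_symm_apply, hN, Equiv.symm_symm]
        rcases j with j | j
        · rw [show E'.symm (Sum.inl ((finSumFinEquiv.trans (finCongr hd.symm)) (Sum.inl j))) =
              Sum.inl (Sum.inl j) by rw [Equiv.symm_apply_eq, hE']; simp [Equiv.sumSumSumComm, -finSumFinEquiv_apply_left, -finSumFinEquiv_apply_right],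
            show E'.symm (Sum.inr ((finSumFinEquiv.trans (finCongr hd.symm)) (Sum.inl j))) =
              Sum.inl (Sum.inr j) by rw [Equiv.symm_apply_eq, hE']; simp [Equiv.sumSumSumComm, -finSumFinEquiv_apply_left, -finSumFinEquiv_apply_right], h1]
          simp
        · rw [show E'.symm (Sum.inl ((finSumFinEquiv.trans (finCongr hd.symm)) (Sum.inr j))) =
              Sum.inr (finSumFinEquiv (Sum.inl j)) by rw [Equiv.symm_apply_eq, hE']; simp [Equiv.sumSumSumComm, -finSumFinEquiv_apply_left, -finSumFinEquiv_apply_right], h3]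
          simp
      · rw [← Matrix.toLin'_apply, Module.Basis.reindex_apply, Module.Basis.reindex_apply]
        obtain ⟨j, rfl⟩ := N.symm.surjective i
        rw [Equiv.apply_symm_apply, hN, Equiv.symm_symm]
        rcases j with j | j
        · rw [show E'.symm (Sum.inl ((finSumFinEquiv.trans (finCongr hd.symm)) (Sum.inl j))) =
              Sum.inl (Sum.inl j) by rw [Equiv.symm_apply_eq, hE']; simp [Equiv.sumSumSumComm, -finSumFinEquiv_apply_left, -finSumFinEquiv_apply_right],
            show E'.symm (Sum.inr ((finSumFinEquiv.trans (finCongr hd.symm)) (Sum.inl j))) =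
              Sum.inl (Sum.inr j) by rw [Equiv.symm_apply_eq, hE']; simp [Equiv.sumSumSumComm, -finSumFinEquiv_apply_left, -finSumFinEquiv_apply_right], h1']
          simp
        · rw [show E'.symm (Sum.inr ((finSumFinEquiv.trans (finCongr hd.symm)) (Sum.inr j))) =
              Sum.inr (finSumFinEquiv (Sum.inr j)) by rw [Equiv.symm_apply_eq, hE']; simp [Equiv.sumSumSumComm, -finSumFinEquiv_apply_left, -finSumFinEquiv_apply_right], h3]
          simp

end Cfsg.Agent.S5967
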