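import Cfsg.Statements.S5968
-- import your own Cfsg.Agent.* helpers here
import Mathlib
import Cfsg.Agent.Lib.Perm.Elusive.SympDerange
import Cfsg.Agent.Lib.Perm.Elusive.SympIndex

set_option autoImplicit false
set_option linter.all false
open scoped MatrixGroups
open Cfsg

namespace Cfsg.Agent.S5968
open Matrix

/-- Derangements of odd prime order of PSL_n(q) on the cosets of a symplectic-type subgroup. Here `T = PSL_n(F)` for a field `F` with `q` elements, `n ≥ 4` even, `f` is a nondegenerate alternating form on `F^n`, and `H` is the subgroup of matrices of determinant 1 preserving `f` up to a scalar — a maximal subgroup of type Sp_n(q); Ω is the set of `T`-conjugates of `H` (cosets of `H`), so an element of `T` of prime order `r` (a matrix `x` of determinant 1 with `x^r` scalar, `x` not scalar) fixes a point of Ω when some conjugate of `x` by a matrix of determinant 1 preserves `f` up to a scalar. For every odd prime `r` dividing the index of `H`, with `(n, r) ≠ (6, 3)`, there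 is an element of `T` of order `r` with no conjugate in `H`. (For `n = 6`, `r = 3` this can fail: when `(q − 1)_3 = 3` every element of order 3 is conjugate into `H`.) -/
theorem result {F : Type*} [Field F] [Fintype F] {p : ℕ} [Fact p.Prime] [CharP F p] {q : ℕ} (hq : Fintype.card F = q)
    (n : ℕ) (hn : 4 ≤ n) (he : Even n) (f : (Fin n → F) → (Fin n → F) → F) (hf : Cfsg.Geo.IsSymplecticForm f)
    (r : ℕ) [Fact r.Prime] (hr2 : r ≠ 2) (hgap : ¬ (n = 6 ∧ r = 3)) (hΩ : r ∣ ((Cfsg.Geo.similarityGroup f).comap (Matrix.SpecialLinearGroup.toGL : Matrix.SpecialLinearGroup (Fin n) F →* GL (Fin n) F)).index) :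
    ∃ x : Matrix.SpecialLinearGroup (Fin n) F,
      (∃ z : F, ((x ^ r : Matrix.SpecialLinearGroup (Fin n) F) : Matrix (Fin n) (Fin n) F) = z • (1 : Matrix (Fin n) (Fin n) F)) ∧
      (∀ z : F, (x : Matrix (Fin n) (Fin n) F) ≠ z • (1 : Matrix (Fin n) (Fin n) F)) ∧
      ∀ P : Matrix.SpecialLinearGroup (Fin n) F, P⁻¹ * x * P ∉ ((Cfsg.Geo.similarityGroup f).comap (Matrix.SpecialLinearGroup.toGL : Matrix.SpecialLinearGroup (Fin n) F →* GL (Fin n) F)) := by
  classical
  obtain ⟨c0, hp', hcard⟩ := FiniteField.card F p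
  have hr : r.Prime := Fact.out
  have key : ∀ X : Matrix.SpecialLinearGroup (Fin n) F, (X : Matrix (Fin n) (Fin n) F) ^ r = 1 →
      ∀ P : Matrix.SpecialLinearGroup (Fin n) F, P⁻¹ * X * P ∈ ((Cfsg.Geo.similarityGroup f).comap
        (Matrix.SpecialLinearGroup.toGL : Matrix.SpecialLinearGroup (Fin n) F →* GL (Fin n) F)) →
      ∃ (Qi Pm : Matrix (Fin n) (Fin n) F) (c : F), Qi.det = 1 ∧ Qi * Pm = 1 ∧ Pm * Qi = 1 ∧ c ≠ 0 ∧ c ^ r = 1 ∧
        ∀ u v, f ((Qi * X.1 * Pm) *ᵥ u) ((Qi * X.1 * Pm) *ᵥ v) = c * f u v := by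
    intro X hX P hP
    obtain ⟨c, hc⟩ := hP
    have h1 : (P⁻¹).1 * P.1 = 1 := congrArg Subtype.val (inv_mul_cancel P)
    have h3 : P.1 * (P⁻¹).1 = 1 := congrArg Subtype.val (mul_inv_cancel P)
    have hy : ∀ u v, f (((P⁻¹).1 * X.1 * P.1) *ᵥ u) (((P⁻¹).1 * X.1 * P.1) *ᵥ v) = (c : F) * f u v := hc
    refine ⟨(P⁻¹).1, P.1, c, (P⁻¹).2, h1, h3, c.ne_zero, CfsgLib.Perm.Elusive.multiplier_pow hf (by omega) hy ?_, hy⟩
    have hm : ∀ m, ((P⁻¹).1 * X.1 * P.1) ^ m = (P⁻¹).1 * X.1 ^ m * P.1 := fun m => by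
      induction m with
      | zero => rw [pow_zero, pow_zero, mul_one, h1]
      | succ m ih =>
        rw [pow_succ, pow_succ, ih]
        simp only [mul_assoc]
        rw [← mul_assoc P.1 (P⁻¹).1, h3, one_mul]
    rw [hm, hX, mul_one, h1]
  have hcnt : ∀ a b : ℕ, b ≤ n → (Finset.univ.filter fun i : Fin n => a ≤ (i : ℕ) ∧ (i : ℕ) < b).card = b - a := by
    intro a b hb
    rw [← Nat.card_Ico]
    exact Finset.card_bij (fun i _ => (i : ℕ)) (fun i hi => by simpa using hi) (fun i _ j _ h => Fin.ext h)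
      (fun m hm => ⟨⟨m, by simp at hm; omega⟩, by simpa using hm, rfl⟩)
  by_cases hrp : r = p
  · -- a Jordan block of size three
    subst hrp
    have h2 : (2 : F) ≠ 0 := fun h => hr2 ((Nat.prime_dvd_prime_iff_eq hr Nat.prime_two).1
      ((CharP.cast_eq_zero_iff F r 2).1 (by exact_mod_cast h)))
    obtain ⟨i0, i1, i2, h01, h12, h02⟩ : ∃ i0 i1 i2 : Fin n, i0 ≠ i1 ∧ i1 ≠ i2 ∧ i0 ≠ i2 :=
      ⟨⟨0, by omega⟩, ⟨1, by omega⟩, ⟨2, by omega⟩, by simp, by simp, by simp⟩
    obtain ⟨M, hM⟩ : ∃ M : Matrix (Fin n) (Fin n) F, M = Matrix.single i1 i0 1 + Matrix.single i2 i1 1 := ⟨_, rfl⟩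
    have hM2 : M * M = Matrix.single i2 i0 1 := by
      rw [hM]
      simp [add_mul, mul_add, h01, h12, h02, h01.symm, h12.symm, h02.symm]
    have hM3 : M * M * M = 0 := by
      rw [hM2, hM]
      simp [mul_add, h01, h12, h02, h01.symm, h12.symm, h02.symm]
    have hMr : M ^ r = 0 := pow_eq_zero_of_le (by have := hr.two_le; omega : 3 ≤ r) (by rw [pow_succ, sq, hM3])
    haveI : Nonempty (Fin n) := ⟨i0⟩
    have hXr : (1 + M) ^ r = 1 := by
      rw [add_pow_char_of_commute r (Commute.one_left M), one_pow, hMr, add_zero]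
    have hdet : (1 + M).det = 1 := frobenius_inj F r (by
      rw [frobenius_def, frobenius_def, one_pow, ← Matrix.det_pow, hXr, Matrix.det_one])
    refine ⟨⟨1 + M, hdet⟩, ⟨1, by rw [one_smul]; exact hXr⟩, fun z hz => ?_, fun P hP => ?_⟩
    · have := congrFun (congrFun hz i1) i0
      simp [hM, h01, h12, h02, h01.symm, h12.symm, h02.symm] at this
    · obtain ⟨Qi, Pm, c, -, hl, hl', -, hc, hy⟩ := key ⟨1 + M, hdet⟩ hXr P hP
      change ∀ u v, f ((Qi * (1 + M) * Pm) *ᵥ u) ((Qi * (1 + M) * Pm) *ᵥ v) = c * f u v at hy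
      have hc1 : c = 1 := frobenius_inj F r (by rw [frobenius_def, frobenius_def, one_pow, hc])
      have hmul : ∀ A B : Matrix (Fin n) (Fin n) F, Qi * A * Pm * (Qi * B * Pm) = Qi * (A * B) * Pm := fun A B => by
        simp only [mul_assoc]; rw [← mul_assoc Pm Qi, hl', one_mul]
      refine CfsgLib.Perm.Elusive.false_of_square_rank_one hf h2 (y := Qi * (1 + M) * Pm) (N := Qi * M * Pm)
        (by rw [mul_add, mul_one, add_mul, hl]) (fun u v => by rw [hy, hc1, one_mul])
        (by rw [hmul, hmul, hM3, mul_zero, zero_mul]) (fun a => (Pm *ᵥ a) i0) (Qi *ᵥ Pi.single i2 1) ?_ (fun a => ?_)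
        (Qi *ᵥ Pi.single i0 1) ?_
      · intro h
        have := congrArg (fun v => Pm *ᵥ v) h
        simp only [mulVec_mulVec, hl', one_mulVec, mulVec_zero] at this
        simpa using congrFun this i2
      · rw [hmul, hM2, ← mulVec_mulVec, ← mulVec_mulVec, ← Matrix.mulVec_smul]
        congr 1
        rw [Matrix.single_mulVec]
        funext j
        simp [Function.update, Pi.single_apply]
      · show (Pm *ᵥ (Qi *ᵥ Pi.single i0 1)) i0 = 1
        rw [mulVec_mulVec, hl', one_mulVec, Pi.single_eq_same]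
  have hrq : ¬ r ∣ Fintype.card F := fun h => hrp ((Nat.prime_dvd_prime_iff_eq hr hp').1 (hr.dvd_of_dvd_pow (hcard ▸ h)))
  by_cases hq1 : r ∣ Fintype.card F - 1
  · -- diagonal elements
    obtain ⟨u, hu⟩ := exists_prime_orderOf_dvd_card' (G := Fˣ) r (by rwa [Nat.card_units, Nat.card_eq_fintype_card])
    obtain ⟨om, hom⟩ : ∃ om : F, om = (u : F) := ⟨_, rfl⟩
    have hpow : ∀ m, om ^ m = 1 ↔ r ∣ m := fun m => by
      rw [hom, ← Units.val_pow_eq_pow_val, Units.val_eq_one, ← hu, orderOf_dvd_iff_pow_eq_one]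
    have hom0 : om ≠ 0 := hom ▸ u.ne_zero
    have hd1 : ¬ r ∣ 1 := fun h => hr.ne_one (Nat.dvd_one.1 h)
    have hd2 : ¬ r ∣ 2 := fun h => hr2 ((Nat.prime_dvd_prime_iff_eq hr Nat.prime_two).1 h)
    have hom1 : om ≠ 1 := fun h => hd1 ((hpow 1).1 (by rw [h, one_pow]))
    obtain ⟨eta, heta, heta3⟩ : ∃ eta : F, eta ^ r = 1 ∧ (if r = 3 then eta = om else eta = (om * om)⁻¹) := by
      by_cases h3 : r = 3
      · exact ⟨om, (hpow r).2 dvd_rfl, by rw [if_pos h3]⟩
      · exact ⟨(om * om)⁻¹, by rw [inv_pow, mul_pow, (hpow r).2 dvd_rfl, one_mul, inv_one], by rw [if_neg h3]⟩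
    obtain ⟨W, hW⟩ : ∃ W : ℕ → F, ∀ i, W i = if i < 2 then om else if i < 3 then eta else 1 := ⟨_, fun i => rfl⟩
    have hdet : (Matrix.diagonal fun i : Fin n => W i).det = 1 := by
      rw [Matrix.det_diagonal, Fin.prod_univ_eq_prod_range W, show n = 3 + (n - 3) by omega, Finset.prod_range_add,
        Finset.prod_eq_one (s := Finset.range (n - 3)) (fun i _ => by rw [hW, if_neg (by omega), if_neg (by omega)]),
        mul_one]
      simp only [Finset.prod_range_succ, Finset.prod_range_zero, one_mul, hW]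
      norm_num
      split_ifs at heta3 with h3
      · rw [heta3]
        have := (hpow 3).2 (h3 ▸ dvd_rfl)
        linear_combination this
      · rw [heta3, mul_inv_cancel₀ (mul_ne_zero hom0 hom0)]
    obtain ⟨x, hx⟩ : ∃ x : Matrix.SpecialLinearGroup (Fin n) F,
        (x : Matrix (Fin n) (Fin n) F) = Matrix.diagonal fun i : Fin n => W i := ⟨⟨_, hdet⟩, rfl⟩
    have hxr : (x : Matrix (Fin n) (Fin n) F) ^ r = 1 := by
      rw [hx, Matrix.diagonal_pow, ← Matrix.diagonal_one]
      congr 1
      funext i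
      rw [Pi.pow_apply, hW]
      split_ifs
      exacts [(hpow r).2 dvd_rfl, heta, one_pow r]
    refine ⟨x, ⟨1, by rw [one_smul, Matrix.SpecialLinearGroup.coe_pow]; exact hxr⟩, fun z hz => ?_, fun P hP => ?_⟩
    · have h0 := congrFun (congrFun hz ⟨0, by omega⟩) ⟨0, by omega⟩
      have h3 := congrFun (congrFun hz ⟨3, by omega⟩) ⟨3, by omega⟩
      simp [hx, hW] at h0 h3
      exact hom1 (h0.trans h3.symm)
    obtain ⟨Qi, Pm, c, hPi, hl, hl', hc0, hc, hy⟩ := key x hxr P hP
    have hmult := CfsgLib.Perm.Elusive.mult_paired hf (Q := Qi) (by rw [hPi]; exact isUnit_one) hc0 hy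
      (w := fun i : Fin n => W i) (by rw [mul_assoc, hl', mul_one, hx])
    have hone : ∀ i : Fin n, ¬ (i : ℕ) < 3 → W i = 1 := fun i h => by
      rw [hW, if_neg (fun h' => h (by omega)), if_neg h]
    split_ifs at heta3 with h3
    · -- `r = 3`
      subst h3
      rw [heta3] at hW
      have hWv : ∀ i : ℕ, W i = if i < 3 then om else 1 := fun i => by rw [hW]; split_ifs <;> first | rfl | omega
      have hcom : (Finset.univ.filter fun i : Fin n => W i = om).card = 3 := by
        refine Eq.trans ?_ (hcnt 0 3 (by omega))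
        congr 1
        ext i
        simp only [Finset.mem_filter, Finset.mem_univ, true_and, hWv, zero_le]
        split_ifs with h <;> simp [h, hom1, hom1.symm]
      obtain ⟨e1, e2⟩ := hmult om (c / om) (mul_div_cancel₀ _ hom0)
      rw [hcom] at e1 e2
      have h6 : n ≠ 6 := fun h => hgap ⟨h, rfl⟩
      by_cases hmu : c / om = om
      · exact absurd (e2 hmu.symm) (by decide)
      by_cases hmu1 : c / om = 1
      · have : (Finset.univ.filter fun i : Fin n => W i = c / om).card = n - 3 := by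
          refine Eq.trans ?_ (hcnt 3 n le_rfl)
          rw [hmu1]
          congr 1
          ext i
          simp only [Finset.mem_filter, Finset.mem_univ, true_and, hWv, i.2, and_true]
          split_ifs with h <;> simp [h, hom1] <;> omega
        omega
      · have : (Finset.univ.filter fun i : Fin n => W i = c / om).card = 0 := by
          rw [Finset.card_eq_zero, Finset.filter_eq_empty_iff]
          intro i _
          rw [hWv]
          split_ifs
          exacts [Ne.symm hmu, Ne.symm hmu1]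
        omega
    · -- `r ≥ 5`
      have hd3 : ¬ r ∣ 3 := fun h => h3 ((Nat.prime_dvd_prime_iff_eq hr Nat.prime_three).1 h)
      have hd4 : ¬ r ∣ 4 := fun h => hd2 ((hr.dvd_mul.1 (show r ∣ 2 * 2 from h)).elim id id)
      have heo : eta ≠ om := fun h => hd3 ((hpow 3).1 (by
        rw [heta3] at h; field_simp at h; linear_combination -h))
      have he1 : eta ≠ 1 := fun h => hd2 ((hpow 2).1 (by
        rw [heta3, inv_eq_one] at h; linear_combination h))
      have hWc : ∀ lam : F, (Finset.univ.filter fun i : Fin n => W i = lam).card =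
          (if lam = om then 2 else 0) + (if lam = eta then 1 else 0) + (if lam = 1 then n - 3 else 0) := by
        intro lam
        have e : ∀ i : Fin n, (W i = lam) ↔ ((0 ≤ (i : ℕ) ∧ (i : ℕ) < 2 ∧ lam = om) ∨
            (2 ≤ (i : ℕ) ∧ (i : ℕ) < 3 ∧ lam = eta) ∨ (3 ≤ (i : ℕ) ∧ (i : ℕ) < n ∧ lam = 1)) := fun i => by
          have hi := i.2
          rw [hW]
          split_ifs with h h' <;> constructor
          · exact fun he => Or.inl ⟨Nat.zero_le _, h, he.symm⟩
          · rintro (⟨-, -, e⟩ | ⟨g, -, -⟩ | ⟨g, -, -⟩) <;> first | omega | exact e.symm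
          · exact fun he => Or.inr (Or.inl ⟨by omega, h', he.symm⟩)
          · rintro (⟨-, g, -⟩ | ⟨-, -, e⟩ | ⟨g, -, -⟩) <;> first | omega | exact e.symm
          · exact fun he => Or.inr (Or.inr ⟨by omega, hi, he.symm⟩)
          · rintro (⟨-, g, -⟩ | ⟨-, g, -⟩ | ⟨-, -, e⟩) <;> first | omega | exact e.symm
        simp only [e]
        by_cases a1 : lam = om
        · rw [if_pos a1, if_neg (a1 ▸ heo.symm), if_neg (a1 ▸ hom1)]
          simpa [a1, heo.symm, hom1] using hcnt 0 2 (by omega)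
        by_cases a2 : lam = eta
        · rw [if_neg a1, if_pos a2, if_neg (a2 ▸ he1)]
          simpa [a2, heo, he1] using hcnt 2 3 (by omega)
        by_cases a3 : lam = 1
        · rw [if_neg a1, if_neg a2, if_pos a3]
          simpa [a3, hom1.symm, he1.symm] using hcnt 3 n le_rfl
        · rw [if_neg a1, if_neg a2, if_neg a3]
          simp [a1, a2, a3]
      obtain ⟨e1, e2⟩ := hmult eta (c / eta) (mul_div_cancel₀ _ (by rw [heta3]; simp [hom0]))
      rw [hWc, hWc, if_neg heo, if_pos rfl, if_neg he1] at e1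
      rw [hWc, if_neg heo, if_pos rfl, if_neg he1] at e2
      by_cases hmu : c / eta = eta
      · exact absurd (e2 hmu.symm) (by decide)
      have h4 : n = 4 ∧ c = eta := by
        rw [if_neg hmu] at e1
        split_ifs at e1 with a1 a3 a3 <;> first
          | omega
          | exact ⟨by omega, by rwa [div_eq_one_iff_eq (by rw [heta3]; simp [hom0])] at a3⟩
      obtain ⟨f1, f2⟩ := hmult om (c / om) (mul_div_cancel₀ _ hom0)
      rw [hWc, hWc, if_pos rfl, if_neg heo.symm, if_neg hom1] at f1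
      obtain ⟨rfl, hceta⟩ := h4
      have g1 : c / om ≠ om := fun h => hd4 ((hpow 4).1 (by
        rw [hceta, heta3] at h
        field_simp at h
        linear_combination -h))
      rw [if_neg g1] at f1
      split_ifs at f1 with b1 b2 b2 <;> first
        | omega
        | exact he1 (b1.symm.trans b2)
  · -- a fixed point free element on an odd-dimensional block
    obtain ⟨j, hjo, hjn, hj⟩ := CfsgLib.Perm.Elusive.exists_odd_dvd (by omega) he hf hr hrq hΩ
    obtain ⟨A, hA, hAr, hA1⟩ := CfsgLib.Perm.Elusive.exists_fpf (F := F) (p := p) (Nat.pos_of_ne_zero fun h => by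
      rw [h] at hjo; exact (Nat.not_odd_iff_even.2 Even.zero) hjo) hr hj hq1
    obtain ⟨E, hE⟩ : ∃ E : Matrix (Fin n) (Fin j) F, E = (1 : Matrix (Fin n) (Fin n) F).submatrix id (Fin.castLE hjn.le) :=
      ⟨_, rfl⟩
    obtain ⟨E', hE'⟩ : ∃ E' : Matrix (Fin j) (Fin n) F,
        E' = (1 : Matrix (Fin n) (Fin n) F).submatrix (Fin.castLE hjn.le) id := ⟨_, rfl⟩
    have hEE : E' * E = 1 := by
      rw [hE, hE', ← Matrix.submatrix_mul _ _ _ id _ Function.bijective_id, one_mul,
        Matrix.submatrix_one _ (Fin.castLE_injective _)]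
    obtain ⟨M, hM⟩ : ∃ M, M = E * (A - 1) * E' := ⟨_, rfl⟩
    have hdet : (1 + M).det = 1 := by
      rw [hM, Matrix.mul_assoc, Matrix.det_one_add_mul_comm, Matrix.mul_assoc, hEE, Matrix.mul_one, add_sub_cancel, hA]
    have hpw : ∀ m, (1 + M) ^ m = 1 + E * (A ^ m - 1) * E' := fun m => by
      induction m with
      | zero => simp
      | succ m ih =>
        rw [pow_succ, ih, hM]
        have e : E * (A ^ m - 1) * E' * (E * (A - 1) * E') = E * ((A ^ m - 1) * (A - 1)) * E' := by
          simp only [Matrix.mul_assoc]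
          rw [← Matrix.mul_assoc E' E, hEE, Matrix.one_mul]
        rw [add_mul, mul_add, mul_add, one_mul, one_mul, mul_one, e, pow_succ]
        simp only [sub_mul, mul_sub, one_mul, mul_one, Matrix.mul_sub, Matrix.sub_mul]
        abel
    obtain ⟨x, hx⟩ : ∃ x : Matrix.SpecialLinearGroup (Fin n) F, (x : Matrix (Fin n) (Fin n) F) = 1 + M :=
      ⟨⟨_, hdet⟩, rfl⟩
    have hxr : (x : Matrix (Fin n) (Fin n) F) ^ r = 1 := by
      rw [hx, hpw, hAr, sub_self, Matrix.mul_zero, Matrix.zero_mul, add_zero]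
    refine ⟨x, ⟨1, by rw [one_smul, Matrix.SpecialLinearGroup.coe_pow]; exact hxr⟩, fun z hz => ?_, fun P hP => ?_⟩
    · obtain ⟨m, hm⟩ : ∃ m : Fin n, ∀ i, Fin.castLE hjn.le i ≠ m := ⟨⟨j, hjn⟩, fun i h => by
        have := congrArg Fin.val h; simp at this; omega⟩
      have hEm : E' *ᵥ Pi.single m 1 = 0 := funext fun i => by
        rw [hE', Matrix.mulVec_single_one]
        show (1 : Matrix (Fin n) (Fin n) F) (Fin.castLE hjn.le i) m = 0
        exact Matrix.one_apply_ne (hm i)
      have hz1 := congrArg (fun Y : Matrix (Fin n) (Fin n) F => Y *ᵥ Pi.single m 1) hz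
      simp only [hx, add_mulVec, one_mulVec, hM, ← mulVec_mulVec, hEm, mulVec_zero, add_zero, smul_mulVec] at hz1
      have hz0 : z = 1 := by simpa using (congrFun hz1 m).symm
      rw [hx, hz0, one_smul, add_eq_left, hM] at hz
      have e2 : E' * (E * (A - 1) * E') * E = A - 1 := by
        simp only [Matrix.mul_assoc]
        rw [hEE, Matrix.mul_one, ← Matrix.mul_assoc, hEE, Matrix.one_mul]
      rw [hz, Matrix.mul_zero, Matrix.zero_mul] at e2
      haveI : Nonempty (Fin j) := ⟨⟨0, by rcases hjo with ⟨k, rfl⟩; omega⟩⟩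
      exact not_isUnit_zero (e2 ▸ hA1)
    obtain ⟨Qi, Pm, c, hPi, hl, hl', hc0, hc, hy⟩ := key x hxr P hP
    have hc1 : c = 1 := by
      have := pow_gcd_eq_one.2 ⟨hc, FiniteField.pow_card_sub_one_eq_one c hc0⟩
      rwa [(hr.coprime_iff_not_dvd.2 hq1).gcd_eq_one, pow_one] at this
    refine CfsgLib.Perm.Elusive.false_of_odd_moved hf (y := Qi * x.1 * Pm) (N := Qi * M * Pm)
      (by rw [hx, mul_add, mul_one, add_mul, hl]) (fun u v => by rw [hy, hc1, one_mul]) (fun v hv => ?_) ?_
    · rw [mulVec_mulVec] at hv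
      have e : Qi * M * Pm * (Qi * M * Pm) = Qi * (E * ((A - 1) * (A - 1)) * E') * Pm := by
        rw [hM]
        simp only [Matrix.mul_assoc]
        rw [← Matrix.mul_assoc Pm Qi, hl', Matrix.one_mul, ← Matrix.mul_assoc E' E, hEE, Matrix.one_mul]
      rw [e] at hv
      have h1 := congrArg (fun w => (E' * Pm) *ᵥ w) hv
      simp only [mulVec_mulVec, mulVec_zero] at h1
      rw [show E' * Pm * (Qi * (E * ((A - 1) * (A - 1)) * E') * Pm) = (A - 1) * ((A - 1) * (E' * Pm)) by
        simp only [Matrix.mul_assoc]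
        rw [← Matrix.mul_assoc Pm Qi, hl', Matrix.one_mul, ← Matrix.mul_assoc E' E, hEE, Matrix.one_mul],
        ← mulVec_mulVec] at h1
      have h2' := Matrix.mulVec_injective_iff_isUnit.2 hA1 (h1.trans (mulVec_zero _).symm)
      rw [hM, show Qi * (E * (A - 1) * E') * Pm = (Qi * E) * ((A - 1) * (E' * Pm)) by simp only [Matrix.mul_assoc],
        ← mulVec_mulVec, h2', mulVec_zero]
    · have hle : (Qi * M * Pm).rank ≤ j := by
        rw [hM, show Qi * (E * (A - 1) * E') * Pm = (Qi * E) * ((A - 1) * (E' * Pm)) by simp only [Matrix.mul_assoc]]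
        exact ((Matrix.rank_mul_le_left _ _).trans (Matrix.rank_le_card_width _)).trans (Fintype.card_fin j).le
      have hge : j ≤ (Qi * M * Pm).rank := by
        have h1 : (A - 1).rank = j := by rw [Matrix.rank_of_isUnit _ hA1, Fintype.card_fin]
        calc j = ((E' * Pm) * (Qi * M * Pm) * (Qi * E)).rank := by
              rw [show (E' * Pm) * (Qi * M * Pm) * (Qi * E) = A - 1 by
                rw [hM]
                calc (E' * Pm) * (Qi * (E * (A - 1) * E') * Pm) * (Qi * E)
                    = E' * (Pm * Qi) * E * (A - 1) * (E' * (Pm * Qi) * E) := by simp only [Matrix.mul_assoc]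
                  _ = A - 1 := by rw [hl', Matrix.mul_one, hEE, Matrix.one_mul, Matrix.mul_one], h1]
          _ ≤ ((E' * Pm) * (Qi * M * Pm)).rank := Matrix.rank_mul_le_left _ _
          _ ≤ _ := Matrix.rank_mul_le_right _ _
      rw [le_antisymm hle hge]
      exact hjo

end Cfsg.Agent.S5968
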