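import Cfsg.Statements.S5969
-- import your own Cfsg.Agent.* helpers here
import Mathlib
import Cfsg.Agent.Lib.Perm.Elusive.ExtFieldInvol
import Cfsg.Agent.Lib.Perm.Elusive.InvolBasis
import Cfsg.Agent.Lib.Perm.Elusive.TwoPart

set_option autoImplicit false
set_option linter.all false
open scoped MatrixGroups
open Cfsg

namespace Cfsg.Agent.S5969
open Matrix

/-- Involutions of PSL_n(q) and extension-field subgroups of degree 2. Here `T = PSL_n(F)` for a field `F` with `q = p^f` elements (`n ≥ 2`, `(n, q) ≠ (2, 2), (2, 3)`), `k` is a prime dividing `n`, `K` is a subalgebra of the `n × n` matrices that is a field of degree `k` over `F` (an extension-field structure F_{q^k} on `F^n`), and `H` is the subgroup of matrices of determinant 1 normalizing `K` — a subgroup of type GL_{n/k}(q^k) (maximal except in some small cases; maximality is not assumed); Ω is the set of cosets of `H` in `T`, so an element of `T` of prime order `r` (a matrix `x` of determinant 1 with `x^r` scalar, `x` not scalar)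 fixes a point of Ω when some conjugate of `x` by a matrix of determinant 1 normalizes `K`. Take `k = 2` and suppose the index of `H` is even. Then every involution of `T` is conjugate in `T` into `H` if and only if `n = 2`, or `q` is odd and `(q − 1)_2 ≤ (n)_2`. -/
theorem result {F : Type*} [Field F] [Fintype F] {p : ℕ} [Fact p.Prime] [CharP F p] {q : ℕ} (hq : Fintype.card F = q)
    (n : ℕ) (hn : 2 ≤ n) (hT : (n, q) ≠ (2, 2) ∧ (n, q) ≠ (2, 3))
    (k : ℕ) (hk : k.Prime) (hkn : k ∣ n) (K : Subalgebra F (Matrix (Fin n) (Fin n) F)) (hK : Cfsg.Geo.IsFieldSubalgebra k K) (hk2 : k = 2) (hΩ : 2 ∣ ((Cfsg.Geo.subalgebraNormalizer K).comap (Matrix.SpecialLinearGroup.toGL : Matrix.SpecialLinearGroup (Fin n) F →* GL (Fin n) F)).index) :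
    (∀ x : Matrix.SpecialLinearGroup (Fin n) F,
      (∃ z : F, ((x ^ 2 : Matrix.SpecialLinearGroup (Fin n) F) : Matrix (Fin n) (Fin n) F) = z • (1 : Matrix (Fin n) (Fin n) F)) →
      (∀ z : F, (x : Matrix (Fin n) (Fin n) F) ≠ z • (1 : Matrix (Fin n) (Fin n) F)) →
      ∃ P : Matrix.SpecialLinearGroup (Fin n) F, P⁻¹ * x * P ∈ ((Cfsg.Geo.subalgebraNormalizer K).comap (Matrix.SpecialLinearGroup.toGL : Matrix.SpecialLinearGroup (Fin n) F →* GL (Fin n) F))) ↔
    (n = 2 ∨ (Odd q ∧ padicValNat 2 (q - 1) ≤ padicValNat 2 n)) := by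
  classical
  subst hk2
  obtain ⟨c0, hp', hcard⟩ := FiniteField.card F p
  have hchar : ringChar F = p := ringChar.eq F p
  have h2F : (2 : F) ≠ 0 ↔ Odd q := by
    refine ⟨fun h => ?_, fun h h0 => ?_⟩
    · rw [← hq, hcard]
      refine Odd.pow ((hp'.eq_two_or_odd').resolve_left fun h' => h ?_)
      subst h'
      exact_mod_cast CharP.cast_eq_zero F 2
    · rw [← hq, hcard, (Nat.prime_dvd_prime_iff_eq hp' Nat.prime_two).1 ((CharP.cast_eq_zero_iff F p 2).1 (by exact_mod_cast h0))] at h
      exact (Nat.not_even_iff_odd.2 h) (even_two.pow_of_ne_zero c0.pos.ne')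
  have hsq2 : (2 : F) = 0 → ∀ u : F, IsSquare u := fun h0 u => FiniteField.isSquare_of_char_two (by
    rw [hchar]
    exact (Nat.prime_dvd_prime_iff_eq hp' Nat.prime_two).1 ((CharP.cast_eq_zero_iff F p 2).1 (by exact_mod_cast h0))) u
  haveI : Nonempty (Fin n) := ⟨⟨0, by omega⟩⟩
  obtain ⟨κ, t, d, hκ, hκκ, hirr, hspan⟩ := CfsgLib.Perm.Elusive.exists_generator (by omega) hK
  obtain ⟨mm, hn2⟩ := hkn
  constructor
  · intro hall
    by_contra hcon
    push Not at hcon
    obtain ⟨hne2, hcon⟩ := hcon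
    have hn4 : 4 ≤ n := by omega
    obtain ⟨i0, hi0⟩ : ∃ i : Fin n, i = ⟨0, by omega⟩ := ⟨_, rfl⟩
    obtain ⟨i1, hi1⟩ : ∃ i : Fin n, i = ⟨1, by omega⟩ := ⟨_, rfl⟩
    obtain ⟨i2, hi2⟩ : ∃ i : Fin n, i = ⟨2, by omega⟩ := ⟨_, rfl⟩
    obtain ⟨i3, hi3⟩ : ∃ i : Fin n, i = ⟨3, by omega⟩ := ⟨_, rfl⟩
    have h01 : i0 ≠ i1 := by simp [hi0, hi1]
    have h02 : i0 ≠ i2 := by simp [hi0, hi2]
    have h12 : i1 ≠ i2 := by simp [hi1, hi2]
    have h03 : i0 ≠ i3 := by simp [hi0, hi3]
    have h23 : i2 ≠ i3 := by simp [hi2, hi3]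
    have hget : ∀ x : Matrix.SpecialLinearGroup (Fin n) F,
        (∃ z : F, ((x ^ 2 : Matrix.SpecialLinearGroup (Fin n) F) : Matrix (Fin n) (Fin n) F) = z • 1) →
        (∀ z : F, (x : Matrix (Fin n) (Fin n) F) ≠ z • 1) →
        ∃ k1 : Matrix (Fin n) (Fin n) F, k1 * k1 = t • k1 - d • 1 ∧
          (x.1 * k1 = k1 * x.1 ∨ x.1 * k1 = (t • 1 - k1) * x.1) := by
      intro x h1 h2
      obtain ⟨P, hP⟩ := hall x h1 h2
      have hl : (P⁻¹).1 * P.1 = 1 := congrArg Subtype.val (inv_mul_cancel P)
      have hr : P.1 * (P⁻¹).1 = 1 := congrArg Subtype.val (mul_inv_cancel P)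
      refine ⟨P.1 * κ * (P⁻¹).1, ?_, ?_⟩
      · calc P.1 * κ * (P⁻¹).1 * (P.1 * κ * (P⁻¹).1) = P.1 * κ * ((P⁻¹).1 * P.1) * κ * (P⁻¹).1 := by
              simp only [Matrix.mul_assoc]
          _ = P.1 * (κ * κ) * (P⁻¹).1 := by rw [hl, Matrix.mul_one]; simp only [Matrix.mul_assoc]
          _ = _ := by
              rw [hκκ]
              simp only [Matrix.mul_sub, Matrix.sub_mul, Matrix.mul_smul, Matrix.smul_mul, Matrix.mul_one, hr]
      rcases CfsgLib.Perm.Elusive.normalizer_cases hK hκ hκκ hP with h | h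
      · left
        change (P⁻¹).1 * x.1 * P.1 * κ = κ * ((P⁻¹).1 * x.1 * P.1) at h
        have h' := congrArg (fun Z => P.1 * Z * (P⁻¹).1) h
        simp only [Matrix.mul_assoc, hr, Matrix.mul_one] at h' ⊢
        rwa [← Matrix.mul_assoc P.1 (P⁻¹).1, hr, Matrix.one_mul] at h'
      · right
        change (P⁻¹).1 * x.1 * P.1 * κ = (t • 1 - κ) * ((P⁻¹).1 * x.1 * P.1) at h
        have h' := congrArg (fun Z => P.1 * Z * (P⁻¹).1) h
        simp only [Matrix.mul_assoc, Matrix.sub_mul, Matrix.mul_sub, Matrix.smul_mul, Matrix.mul_smul, Matrix.one_mul,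
          hr, Matrix.mul_one] at h' ⊢
        rwa [← Matrix.mul_assoc P.1 (P⁻¹).1, hr, Matrix.one_mul, ← Matrix.mul_assoc P.1 (P⁻¹).1, hr,
          Matrix.one_mul] at h'
    by_cases hodd : Odd q
    · have h2 := h2F.2 hodd
      obtain ⟨ρ, hρ⟩ := CfsgLib.Perm.Elusive.exists_pow_neg_one h2 (show n ≠ 0 by omega) (hq.symm ▸ hcon hodd)
      have hρ0 : ρ ≠ 0 := fun h => by
        rw [h, zero_pow (by omega)] at hρ
        exact one_ne_zero (neg_eq_zero.1 hρ.symm)
      obtain ⟨w, hw⟩ : ∃ w : Fin n → F, w = Function.update (fun _ => ρ) i0 (-ρ) := ⟨_, rfl⟩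
      have hw0 : w i0 = -ρ := by rw [hw, Function.update_self]
      have hwi : ∀ i, i ≠ i0 → w i = ρ := fun i hi => by rw [hw, Function.update_of_ne hi]
      have hdet : (Matrix.diagonal w).det = 1 := by
        rw [Matrix.det_diagonal, hw, Finset.prod_update_of_mem (Finset.mem_univ i0), Finset.prod_const,
          Finset.card_sdiff, Finset.card_univ, Fintype.card_fin]
        rw [show ({i0} ∩ Finset.univ : Finset (Fin n)).card = 1 by simp, neg_mul, ← pow_succ', show n - 1 + 1 = n by omega,
          hρ, neg_neg]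
      obtain ⟨x, hx⟩ : ∃ x : Matrix.SpecialLinearGroup (Fin n) F, (x : Matrix (Fin n) (Fin n) F) = Matrix.diagonal w :=
        ⟨⟨Matrix.diagonal w, hdet⟩, rfl⟩
      obtain ⟨k1, hk1, hrel⟩ := hget x ⟨ρ * ρ, by
          rw [Matrix.SpecialLinearGroup.coe_pow, hx, sq, Matrix.diagonal_mul_diagonal, Matrix.smul_one_eq_diagonal]
          congr 1
          funext i
          rcases eq_or_ne i i0 with rfl | hi
          · rw [hw0, neg_mul_neg]
          · rw [hwi i hi]⟩ (fun z hz => by
          have e0 := congrFun (congrFun hz i0) i0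
          have e1 := congrFun (congrFun hz i1) i1
          rw [hx, Matrix.smul_one_eq_diagonal, Matrix.diagonal_apply_eq, Matrix.diagonal_apply_eq] at e0 e1
          rw [hw0, ← e1, hwi _ h01.symm] at e0
          exact mul_ne_zero h2 hρ0 (by linear_combination -e0))
      rw [hx] at hrel
      have hsq : ∀ i j, ∑ l, k1 i l * k1 l j = t * k1 i j - d * (if i = j then 1 else 0) := fun i j => by
        have := congrFun (congrFun hk1 i) j
        rw [Matrix.mul_apply, Matrix.sub_apply, Matrix.smul_apply, Matrix.smul_apply, Matrix.one_apply] at this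
        simpa using this
      rcases hrel with h | h
      · have hz : ∀ j, j ≠ i0 → k1 i0 j = 0 := fun j hj => by
          have := congrFun (congrFun h i0) j
          rw [Matrix.diagonal_mul, Matrix.mul_diagonal, hw0, hwi j hj] at this
          exact (mul_eq_zero.1 (show (2 * ρ) * k1 i0 j = 0 by linear_combination -this)).resolve_left (mul_ne_zero h2 hρ0)
        have := hsq i0 i0
        rw [Finset.sum_eq_single i0 (fun l _ hl => by rw [hz l hl, zero_mul]) (fun hh => absurd (Finset.mem_univ _) hh),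
          if_pos rfl] at this
        exact hirr (k1 i0 i0) (by linear_combination this)
      · have hz : ∀ i j, i ≠ i0 → j ≠ i0 → 2 * k1 i j = t * (if i = j then 1 else 0) := fun i j hi hj => by
          have := congrFun (congrFun h i) j
          rw [Matrix.diagonal_mul, Matrix.mul_diagonal, Matrix.sub_apply, Matrix.smul_apply, Matrix.one_apply,
            hwi i hi, hwi j hj, smul_eq_mul] at this
          exact mul_left_cancel₀ hρ0 (by linear_combination this)
        have hzero : ∀ i j, i ≠ i0 → j ≠ i0 → i ≠ j → k1 i j = 0 := fun i j hi hj hij => by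
          have := hz i j hi hj
          rw [if_neg hij, mul_zero] at this
          exact (mul_eq_zero.1 this).resolve_left h2
        have hsum : ∀ i j, i ≠ i0 → ∑ l, k1 i l * k1 l j = k1 i i0 * k1 i0 j + k1 i i * k1 i j := fun i j hi => by
          rw [Finset.sum_eq_add i0 i hi.symm (fun l _ ⟨hl, hl'⟩ => by rw [hzero i l hi hl hl'.symm, zero_mul])
            (fun hh => absurd (Finset.mem_univ _) hh) (fun hh => absurd (Finset.mem_univ _) hh)]
        have e32 := hsq i3 i2
        rw [hsum i3 i2 h03.symm, hzero i3 i2 h03.symm h02.symm h23.symm, if_neg h23.symm] at e32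
        have hroot : ∀ i, i ≠ i0 → k1 i i0 * k1 i0 i = 0 → False := fun i hi h0 => by
          have := hsq i i
          rw [hsum i i hi, h0, if_pos rfl] at this
          exact hirr (k1 i i) (by linear_combination this)
        rcases mul_eq_zero.1 (show k1 i3 i0 * k1 i0 i2 = 0 by linear_combination e32) with h0 | h0
        · exact hroot i3 h03.symm (by rw [h0, zero_mul])
        · exact hroot i2 h02.symm (by rw [h0, mul_zero])
    · have h20 : (2 : F) = 0 := not_not.1 fun h => hodd (h2F.1 h)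
      have ht0 : t ≠ 0 := fun h => by
        obtain ⟨s, hs⟩ := hsq2 h20 d
        exact hirr s (by rw [h]; linear_combination (-1 : F) * hs + d * h20)
      obtain ⟨x, hx⟩ : ∃ x : Matrix.SpecialLinearGroup (Fin n) F,
          (x : Matrix (Fin n) (Fin n) F) = Matrix.transvection i0 i1 (1 : F) :=
        ⟨⟨_, Matrix.det_transvection_of_ne i0 i1 h01 1⟩, rfl⟩
      obtain ⟨k1, hk1, hrel⟩ := hget x ⟨1, by
          rw [Matrix.SpecialLinearGroup.coe_pow, hx, sq, Matrix.transvection_mul_transvection_same _ _ h01, one_smul,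
            show (1 : F) + 1 = 0 by linear_combination h20, Matrix.transvection_zero]⟩ (fun z hz => by
          have := congrFun (congrFun hz i0) i1
          rw [hx] at this
          simp [Matrix.transvection, h01] at this)
      rw [hx] at hrel
      simp only [Matrix.transvection, Matrix.add_mul, Matrix.mul_add, Matrix.one_mul, Matrix.mul_one] at hrel
      rcases hrel with h | h
      · rw [add_right_inj] at h
        have hz : ∀ i, i ≠ i0 → k1 i i0 = 0 := fun i hi => by
          have := congrFun (congrFun h i) i1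
          rw [Matrix.single_mul_apply_of_ne _ _ _ _ _ hi, Matrix.mul_single_apply_same] at this
          simpa using this.symm
        have := congrFun (congrFun hk1 i0) i0
        rw [Matrix.mul_apply, Finset.sum_eq_single i0 (fun l _ hl => by rw [hz l hl, mul_zero])
          (fun hh => absurd (Finset.mem_univ _) hh), Matrix.sub_apply, Matrix.smul_apply, Matrix.smul_apply,
          Matrix.one_apply_eq] at this
        exact hirr (k1 i0 i0) (by simp only [smul_eq_mul] at this; linear_combination this)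
      · have := congrFun (congrFun h i2) i2
        simp [Matrix.single_mul_apply_of_ne, Matrix.mul_single_apply_of_ne, h02.symm, h12.symm, Matrix.one_apply] at this
        exact ht0 (by linear_combination -this + (k1 i2 i2) * h20)
  intro hcond x ⟨z, hz⟩ hns
  have hxx : (x : Matrix (Fin n) (Fin n) F) * (x : Matrix (Fin n) (Fin n) F) = z • 1 := by
    rw [← hz, Matrix.SpecialLinearGroup.coe_pow, sq]
  have hz0 : z ≠ 0 := fun h => by
    have := congrArg Matrix.det hxx
    rw [Matrix.det_mul, x.2, h, zero_smul, Matrix.det_zero, one_mul] at this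
    exact one_ne_zero this
  suffices H : ∃ k' : Matrix (Fin n) (Fin n) F, k' * k' = t • k' - d • 1 ∧
      (x.1 * k' = k' * x.1 ∨ x.1 * k' = (t • 1 - k') * x.1) by
    obtain ⟨k', hk', hrel⟩ := H
    obtain ⟨P, hP⟩ := CfsgLib.Perm.Elusive.exists_sl_conj_quad (by omega) hirr hκκ hk'
    have hl : (P⁻¹).1 * P.1 = 1 := congrArg Subtype.val (inv_mul_cancel P)
    have hr : P.1 * (P⁻¹).1 = 1 := congrArg Subtype.val (mul_inv_cancel P)
    have hinv : (P⁻¹).1 * k' = κ * (P⁻¹).1 := by
      calc (P⁻¹).1 * k' = (P⁻¹).1 * (k' * P.1) * (P⁻¹).1 := by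
            rw [Matrix.mul_assoc, Matrix.mul_assoc, hr, Matrix.mul_one]
        _ = _ := by rw [hP, ← Matrix.mul_assoc, hl, Matrix.one_mul]
    refine ⟨P, Subgroup.mem_comap.2 (CfsgLib.Perm.Elusive.mem_normalizer_of_conj (t := t) hκ hspan ?_)⟩
    show (P⁻¹).1 * x.1 * P.1 * κ = κ * ((P⁻¹).1 * x.1 * P.1) ∨
      (P⁻¹).1 * x.1 * P.1 * κ = (t • 1 - κ) * ((P⁻¹).1 * x.1 * P.1)
    have e1 : (P⁻¹).1 * x.1 * P.1 * κ = (P⁻¹).1 * (x.1 * k') * P.1 := by
      rw [Matrix.mul_assoc _ P.1, ← hP]; simp only [Matrix.mul_assoc]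
    rcases hrel with h | h
    · left
      rw [e1, h, ← Matrix.mul_assoc (P⁻¹).1, hinv]
      simp only [Matrix.mul_assoc]
    · right
      rw [e1, h, ← Matrix.mul_assoc (P⁻¹).1, Matrix.mul_sub, hinv, Matrix.mul_smul, Matrix.mul_one]
      simp only [Matrix.sub_mul, Matrix.smul_mul, Matrix.one_mul, Matrix.mul_assoc]
  by_cases hzsq : IsSquare z
  swap
  · -- no eigenvalue: the field generated by `x`
    have h2 : (2 : F) ≠ 0 := fun h => hzsq (hsq2 h z)
    have hodd := h2F.1 h2
    have hch : ringChar F ≠ 2 := fun h => h2 (by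
      have := ringChar.Nat.cast_ringChar (R := F)
      rw [h] at this; exact_mod_cast this)
    obtain ⟨c, hc⟩ : ∃ c : F, 2 * c = t := ⟨t / 2, by field_simp⟩
    have hD : ¬ IsSquare (c * c - d) := fun ⟨s, hs⟩ => hirr (c + s) (by rw [← hc]; linear_combination -hs)
    have hD0 : c * c - d ≠ 0 := fun h => hD (h ▸ IsSquare.zero)
    have hsq : IsSquare ((c * c - d) / z) := by
      rw [FiniteField.isSquare_iff hch (div_ne_zero hD0 hz0), div_pow]
      rw [(FiniteField.pow_dichotomy hch hz0).resolve_left (fun h => hzsq ((FiniteField.isSquare_iff hch hz0).2 h)),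
        (FiniteField.pow_dichotomy hch hD0).resolve_left (fun h => hD ((FiniteField.isSquare_iff hch hD0).2 h)),
        div_self (neg_ne_zero.2 one_ne_zero)]
    obtain ⟨s, hs⟩ := hsq
    refine ⟨c • 1 + s • x.1, ?_, Or.inl ?_⟩
    · simp only [Matrix.add_mul, Matrix.mul_add, Matrix.smul_mul, Matrix.mul_smul, Matrix.one_mul, Matrix.mul_one, hxx,
        ← hc]
      have hs' : s * s * z = c * c - d := by rw [← hs, div_mul_cancel₀ _ hz0]
      match_scalars
      · linear_combination hs'
      · ring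
    · simp only [Matrix.add_mul, Matrix.mul_add, Matrix.smul_mul, Matrix.mul_smul, Matrix.one_mul, Matrix.mul_one]
  have hT : ∀ v, Matrix.toLin' (x : Matrix (Fin n) (Fin n) F) (Matrix.toLin' (x : Matrix (Fin n) (Fin n) F) v) = z • v := by
    intro v
    rw [Matrix.toLin'_apply, Matrix.toLin'_apply, Matrix.mulVec_mulVec, hxx, Matrix.smul_mulVec, Matrix.one_mulVec]
  rcases CfsgLib.Perm.Elusive.exists_square_scalar_basis _ hz0 hT with
    ⟨ρ, hρ, h2, m, l, b, h1, h1'⟩ | ⟨ρ, m, l, b, h1, h1', h3, h4⟩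
  · -- diagonalisable
    have hρ0 : ρ ≠ 0 := fun h => hz0 (by rw [← hρ, h, zero_mul])
    have hml : m + l = n := by
      have := Module.finrank_eq_card_basis b
      rw [Module.finrank_fin_fun, Fintype.card_sum, Fintype.card_fin, Fintype.card_fin] at this
      exact this.symm
    obtain ⟨Φ, hΦ⟩ : ∃ Φ : Matrix (Fin n) (Fin n) F ≃ₐ[F] Matrix (Fin m ⊕ Fin l) (Fin m ⊕ Fin l) F,
        Φ = Matrix.toLinAlgEquiv'.trans (LinearMap.toMatrixAlgEquiv b) := ⟨_, rfl⟩
    have hX : Φ x.1 = Matrix.fromBlocks (ρ • 1) 0 0 (-ρ • 1) := by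
      rw [hΦ]
      ext u v
      show LinearMap.toMatrix b b (Matrix.toLin' x.1) u v = _
      rw [LinearMap.toMatrix_apply]
      rcases v with v | v <;> rcases u with u | u <;>
        simp [h1, h1', Finsupp.single_apply, Matrix.one_apply, eq_comm] <;> split_ifs <;> simp_all
    have hlift : ∀ M, M * M = t • M - d • 1 → (Φ x.1 * M = M * Φ x.1 ∨ Φ x.1 * M = (t • 1 - M) * Φ x.1) →
        ∃ k' : Matrix (Fin n) (Fin n) F, k' * k' = t • k' - d • 1 ∧
          (x.1 * k' = k' * x.1 ∨ x.1 * k' = (t • 1 - k') * x.1) := fun M hM hrel => by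
      refine ⟨Φ.symm M, Φ.injective ?_, hrel.imp (fun h => Φ.injective ?_) (fun h => Φ.injective ?_)⟩
      · simp only [map_mul, map_sub, map_smul, map_one, AlgEquiv.apply_symm_apply, hM]
      · simp only [map_mul, AlgEquiv.apply_symm_apply, h]
      · simp only [map_mul, map_sub, map_smul, map_one, AlgEquiv.apply_symm_apply, h]
    by_cases hl : Even l
    · obtain ⟨l', hl'⟩ := hl
      obtain ⟨m', hm'⟩ : ∃ m', m = 2 * m' := ⟨mm - l', by omega⟩
      have hC : ∀ j : ℕ, CfsgLib.Perm.Elusive.pairMat t d j * CfsgLib.Perm.Elusive.pairMat t d j =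
          t • CfsgLib.Perm.Elusive.pairMat t d j - d • 1 := fun j => by
        rw [CfsgLib.Perm.Elusive.pairMat, ← Matrix.blockDiagonal_mul, ← Matrix.blockDiagonal_one,
          ← Matrix.blockDiagonal_smul, ← Matrix.blockDiagonal_smul, ← Matrix.blockDiagonal_sub]
        congr 1
        funext i
        ext a c
        fin_cases a <;> fin_cases c <;> simp [Matrix.mul_apply, Fin.sum_univ_two]
        all_goals ring
      have hre : ∀ (j i : ℕ), i = 2 * j → ∃ M : Matrix (Fin i) (Fin i) F, M * M = t • M - d • 1 := by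
        rintro j i rfl
        exact ⟨Matrix.reindexAlgEquiv F F finProdFinEquiv (CfsgLib.Perm.Elusive.pairMat t d j), by
          rw [← map_mul, hC, map_sub, map_smul, map_smul, map_one]⟩
      obtain ⟨A, hA⟩ := hre m' m hm'
      obtain ⟨B, hB⟩ := hre l' l (by omega)
      refine hlift (Matrix.fromBlocks A 0 0 B) ?_ (Or.inl ?_)
      · rw [Matrix.fromBlocks_multiply, ← Matrix.fromBlocks_one, Matrix.fromBlocks_smul, Matrix.fromBlocks_smul,
          sub_eq_add_neg, Matrix.fromBlocks_neg, Matrix.fromBlocks_add]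
        simp [hA, hB, sub_eq_add_neg]
      · rw [hX, Matrix.fromBlocks_multiply, Matrix.fromBlocks_multiply]
        simp
    · have hl1 : m = 1 ∧ l = 1 := by
        rcases hcond with h | ⟨hodd, hv⟩
        · rcases Nat.not_even_iff_odd.1 hl with ⟨u, hu⟩
          omega
        · exfalso
          refine CfsgLib.Perm.Elusive.neg_one_not_pow h2 (show n ≠ 0 by omega) (hq.symm ▸ hv) ρ ?_
          have hd1 : (Φ x.1).det = 1 := by
            rw [hΦ]
            show (LinearMap.toMatrix b b (Matrix.toLin' x.1)).det = 1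
            rw [LinearMap.det_toMatrix, LinearMap.det_toLin']
            exact x.2
          rw [hX, Matrix.det_fromBlocks_zero₂₁, Matrix.det_smul, Matrix.det_smul, Matrix.det_one, Matrix.det_one,
            mul_one, mul_one, Fintype.card_fin, Fintype.card_fin, neg_pow,
            Odd.neg_one_pow (Nat.not_even_iff_odd.1 hl)] at hd1
          rw [← hml, pow_add]
          linear_combination -hd1
      obtain ⟨rfl, rfl⟩ := hl1
      obtain ⟨c, hc⟩ : ∃ c : F, 2 * c = t := ⟨t / 2, by field_simp⟩
      refine hlift (Matrix.fromBlocks (c • 1) ((c * c - d) • 1) 1 (c • 1)) ?_ (Or.inr ?_)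
      · rw [← Matrix.fromBlocks_one]
        simp only [Matrix.fromBlocks_multiply, Matrix.fromBlocks_smul, CfsgLib.Perm.Elusive.fromBlocks_sub_fromBlocks,
          Matrix.smul_mul, Matrix.mul_smul, Matrix.mul_one, Matrix.one_mul, smul_smul, smul_zero, sub_zero, ← hc]
        congr 1 <;> module
      · rw [hX, ← Matrix.fromBlocks_one]
        simp only [Matrix.fromBlocks_multiply, Matrix.fromBlocks_smul, CfsgLib.Perm.Elusive.fromBlocks_sub_fromBlocks,
          Matrix.sub_mul, Matrix.smul_mul, Matrix.mul_smul, Matrix.mul_one, Matrix.one_mul, smul_smul, smul_zero, sub_zero,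
          zero_sub, add_zero, zero_add, Matrix.zero_mul, Matrix.mul_zero, smul_sub, ← hc]
        congr 1 <;> module
  rcases h4 with ⟨hnsq, -⟩ | ⟨h20, hρ⟩
  · obtain ⟨s, hs⟩ := hzsq
    exact absurd hs.symm (hnsq s)
  -- characteristic two, dimension two
  have hn_eq : n = 2 := hcond.resolve_right fun h => h2F.2 h.1 h20
  have hcd := Module.finrank_eq_card_basis b
  rw [Module.finrank_fin_fun, Fintype.card_sum, Fintype.card_sum, Fintype.card_fin, Fintype.card_fin] at hcd
  have hm1 : m = 1 := by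
    by_contra hm
    have hm0 : m = 0 := by omega
    subst hm0
    refine hns ρ (Matrix.toLin'.injective ?_)
    rw [map_smul, Matrix.toLin'_one]
    exact b.ext fun s => by
      rcases s with (i | i) | i
      exacts [i.elim0, i.elim0, h3 i]
  have hl0 : l = 0 := by omega
  subst hl0
  obtain ⟨Φ, hΦ⟩ : ∃ Φ : Matrix (Fin n) (Fin n) F ≃ₐ[F] Matrix ((Fin m ⊕ Fin m) ⊕ Fin 0) ((Fin m ⊕ Fin m) ⊕ Fin 0) F,
      Φ = Matrix.toLinAlgEquiv'.trans (LinearMap.toMatrixAlgEquiv b) := ⟨_, rfl⟩
  have hX : Φ x.1 = Matrix.fromBlocks (Matrix.fromBlocks 0 (z • 1) 1 0) 0 0 0 := by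
    rw [hΦ]
    ext u v
    show LinearMap.toMatrix b b (Matrix.toLin' x.1) u v = _
    rw [LinearMap.toMatrix_apply]
    rcases v with (v | v) | v <;> rcases u with (u | u) | u <;>
      first
      | exact v.elim0
      | exact u.elim0
      | (simp [h1, h1', Finsupp.single_apply, Matrix.one_apply, eq_comm]; try (split_ifs <;> simp_all))
  obtain ⟨g, hg⟩ := hsq2 h20 (d / z)
  have hg' : g * g * z = d := by rw [← hg, div_mul_cancel₀ _ hz0]
  obtain ⟨M, hM⟩ : ∃ M : Matrix ((Fin m ⊕ Fin m) ⊕ Fin 0) ((Fin m ⊕ Fin m) ⊕ Fin 0) F,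
      M = Matrix.fromBlocks (Matrix.fromBlocks 0 ((z * g) • 1) (g • 1) (t • 1)) 0 0 0 := ⟨_, rfl⟩
  have h0 : ∀ Z W : Matrix (Fin 0) (Fin 0) F, Z = W := fun Z W => Subsingleton.elim _ _
  refine ⟨Φ.symm M, Φ.injective ?_, Or.inr (Φ.injective ?_)⟩
  · simp only [map_mul, map_sub, map_smul, map_one, AlgEquiv.apply_symm_apply]
    rw [hM, ← Matrix.fromBlocks_one (l := Fin m ⊕ Fin m), ← Matrix.fromBlocks_one]
    simp only [Matrix.fromBlocks_multiply, Matrix.fromBlocks_smul, CfsgLib.Perm.Elusive.fromBlocks_sub_fromBlocks,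
      Matrix.smul_mul, Matrix.mul_smul, Matrix.mul_one, Matrix.one_mul, smul_smul, smul_zero, sub_zero, add_zero,
      zero_add, Matrix.zero_mul, Matrix.mul_zero]
    congr 1
    · congr 1
      all_goals match_scalars
      all_goals first
        | linear_combination (0 : F) * h20
        | linear_combination hg' + d * h20
    · exact h0 _ _
  · simp only [map_mul, map_sub, map_smul, map_one, AlgEquiv.apply_symm_apply]
    rw [hX, hM, ← Matrix.fromBlocks_one (l := Fin m ⊕ Fin m), ← Matrix.fromBlocks_one]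
    simp only [Matrix.fromBlocks_multiply, Matrix.fromBlocks_smul, CfsgLib.Perm.Elusive.fromBlocks_sub_fromBlocks,
      Matrix.sub_mul, Matrix.smul_mul, Matrix.mul_smul, Matrix.mul_one, Matrix.one_mul, smul_smul, smul_zero, sub_zero,
      zero_sub, add_zero, zero_add, Matrix.zero_mul, Matrix.mul_zero, smul_sub, Matrix.neg_mul, smul_neg]
    congr 1
    congr 1
    · match_scalars
      linear_combination (z * g) * h20
    · match_scalars
      linear_combination (0 : F) * h20
    · ext i j
      simp [Matrix.one_apply]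
    · match_scalars
      linear_combination (z * g) * h20

end Cfsg.Agent.S5969
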