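import Cfsg.Statements.S5970
-- import your own Cfsg.Agent.* helpers here
import Mathlib
import Cfsg.Agent.Lib.Perm.Elusive.SingerPrime
import Cfsg.Agent.Lib.Perm.Elusive.SympDerange
import Cfsg.Agent.Lib.Classical.AdjacencyExist

set_option autoImplicit false
set_option linter.all false
open scoped MatrixGroups
open Cfsg

namespace Cfsg.Agent.S5970
open Matrix

/-- Elements of order `n` of PSL_n(q), `n` prime, and the normalizer of a Singer cycle. Here `T = PSL_n(F)` for a field `F` with `q = p^f` elements (`n ≥ 2`, `(n, q) ≠ (2, 2), (2, 3)`), `k` is a prime dividing `n`, `K` is a subalgebra of the `n × n` matrices that is a field of degree `k` over `F` (an extension-field structure F_{q^k} on `F^n`), and `H` is the subgroup of matrices of determinant 1 normalizing `K` — a subgroup of type GL_{n/k}(q^k) (maximal except in some small cases; maximality is not assumed); Ω is the set of cosets of `H` in `T`, so an element of `T` of prime order `r` (a matrix `x` of determinant 1 with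 `x^r` scalar, `x` not scalar) fixes a point of Ω when some conjugate of `x` by a matrix of determinant 1 normalizes `K`. Take `k = n > 3` prime with `n ≠ p` (so `H` is the normalizer of a Singer cycle), and suppose `n` divides the index of `H`. Then every element of `T` of order `n` is conjugate in `T` into `H` if and only if the multiplicative order of `q` modulo `n` is `n − 1`. -/
theorem result {F : Type*} [Field F] [Fintype F] {p : ℕ} [Fact p.Prime] [CharP F p] {q : ℕ} (hq : Fintype.card F = q)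
    (n : ℕ) (hn : 2 ≤ n) (hT : (n, q) ≠ (2, 2) ∧ (n, q) ≠ (2, 3))
    (k : ℕ) (hk : k.Prime) (hkn : k ∣ n) (K : Subalgebra F (Matrix (Fin n) (Fin n) F)) (hK : Cfsg.Geo.IsFieldSubalgebra k K) (hkn' : k = n) (hn3 : 3 < n) (hnp : n ≠ p) (hΩ : n ∣ ((Cfsg.Geo.subalgebraNormalizer K).comap (Matrix.SpecialLinearGroup.toGL : Matrix.SpecialLinearGroup (Fin n) F →* GL (Fin n) F)).index) :
    (∀ x : Matrix.SpecialLinearGroup (Fin n) F,
      (∃ z : F, ((x ^ n : Matrix.SpecialLinearGroup (Fin n) F) : Matrix (Fin n) (Fin n) F) = z • (1 : Matrix (Fin n) (Fin n) F)) →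
      (∀ z : F, (x : Matrix (Fin n) (Fin n) F) ≠ z • (1 : Matrix (Fin n) (Fin n) F)) →
      ∃ P : Matrix.SpecialLinearGroup (Fin n) F, P⁻¹ * x * P ∈ ((Cfsg.Geo.subalgebraNormalizer K).comap (Matrix.SpecialLinearGroup.toGL : Matrix.SpecialLinearGroup (Fin n) F →* GL (Fin n) F))) ↔
    orderOf (q : ZMod n) = n - 1 := by
  classical
  subst hkn'
  haveI : NeZero k := ⟨hk.ne_zero⟩
  haveI : Fact k.Prime := ⟨hk⟩
  obtain ⟨c0, hp', hcard⟩ := FiniteField.card F p
  have hnF : (k : F) ≠ 0 := fun h => hnp ((Nat.prime_dvd_prime_iff_eq hp' hk).1 ((CharP.cast_eq_zero_iff F p k).1 h)).symm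
  have hnq : ¬ k ∣ q := fun h => hnp ((Nat.prime_dvd_prime_iff_eq hk hp').1 (hk.dvd_of_dvd_pow (show k ∣ p ^ (c0 : ℕ) by rw [← hcard, hq]; exact h)))
  have hqz : (q : ZMod k) ≠ 0 := fun h => hnq ((ZMod.natCast_eq_zero_iff q k).1 h)
  obtain ⟨c, hc⟩ : ∃ c, c = orderOf (q : ZMod k) := ⟨_, rfl⟩
  have hcd : c ∣ k - 1 := hc ▸ orderOf_dvd_of_pow_eq_one (ZMod.pow_card_sub_one_eq_one hqz)
  have hdvd : ∀ j, k ∣ q ^ j - 1 ↔ c ∣ j := fun j => by
    subst hq; rw [hc]; exact CfsgLib.Classical.Adjacency.dvd_pow_sub_one_iff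
  have hk1 : 0 < k - 1 := by omega
  have hc0 : 0 < c := Nat.pos_of_dvd_of_pos hcd hk1
  constructor
  · intro hall
    rw [← hc]
    by_contra hne
    have hclt : c < k - 1 := lt_of_le_of_ne (Nat.le_of_dvd hk1 hcd) hne
    suffices H : ∃ (x : Matrix.SpecialLinearGroup (Fin k) F) (a b : Fin k), a ≠ b ∧
        (x : Matrix (Fin k) (Fin k) F) ^ k = 1 ∧ (∀ z : F, (x : Matrix (Fin k) (Fin k) F) ≠ z • 1) ∧
        (x : Matrix (Fin k) (Fin k) F) *ᵥ Pi.single a 1 = Pi.single a 1 ∧
        (x : Matrix (Fin k) (Fin k) F) *ᵥ Pi.single b 1 = Pi.single b 1 by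
      obtain ⟨x, a, b, hab, hxk, hns, hxa, hxb⟩ := H
      obtain ⟨P, hP⟩ := hall x ⟨1, by rw [one_smul, Matrix.SpecialLinearGroup.coe_pow]; exact hxk⟩ hns
      have hl : (P⁻¹).1 * P.1 = 1 := congrArg Subtype.val (inv_mul_cancel P)
      have hr : P.1 * (P⁻¹).1 = 1 := congrArg Subtype.val (mul_inv_cancel P)
      have hfix : ∀ v : Fin k → F, x.1 *ᵥ v = v →
          ((P⁻¹).1 * x.1 * P.1) *ᵥ ((P⁻¹).1 *ᵥ v) = (1 : F) • ((P⁻¹).1 *ᵥ v) := fun v hv => by
        rw [mulVec_mulVec, Matrix.mul_assoc _ P.1, hr, Matrix.mul_one, ← mulVec_mulVec, hv, one_smul]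
      obtain ⟨t, ht⟩ := CfsgLib.Perm.Elusive.eigen_le_one hk hK hP (fun z hz => by
        change (P⁻¹).1 * x.1 * P.1 = z • 1 at hz
        refine hns z ?_
        have h := congrArg (fun Z => P.1 * Z * (P⁻¹).1) hz
        simp only [Matrix.mul_assoc, hr, Matrix.mul_one, Matrix.mul_smul, Matrix.smul_mul] at h
        rwa [← Matrix.mul_assoc, hr, Matrix.one_mul] at h) 1 (hfix _ hxa) (hfix _ hxb) (fun h => by
        have := congrArg (fun v => P.1 *ᵥ v) h
        simp only [mulVec_mulVec, hr, one_mulVec, mulVec_zero] at this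
        simpa using congrFun this a)
      have := congrFun (congrArg (fun v => P.1 *ᵥ v) ht) b
      simp only [mulVec_mulVec, hr, one_mulVec, mulVec_smul, Pi.smul_apply, Pi.single_eq_same,
        Pi.single_eq_of_ne hab.symm, smul_zero] at this
      exact one_ne_zero this
    rcases eq_or_lt_of_le (show 1 ≤ c from hc0) with h1 | h1
    · obtain ⟨u, hu⟩ := exists_prime_orderOf_dvd_card' (G := Fˣ) k (by
        rw [Nat.card_units, Nat.card_eq_fintype_card, hq]
        simpa using (hdvd 1).2 (h1 ▸ dvd_rfl))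
      obtain ⟨om, hom⟩ : ∃ om : F, om = (u : F) := ⟨_, rfl⟩
      have homk : om ^ k = 1 := by
        rw [hom, ← Units.val_pow_eq_pow_val, ← hu, pow_orderOf_eq_one, Units.val_one]
      have hom1 : om ≠ 1 := fun h => by
        rw [hom, Units.val_eq_one] at h
        rw [h, orderOf_one] at hu
        exact hk.ne_one hu.symm
      have hom0 : om ≠ 0 := hom ▸ u.ne_zero
      obtain ⟨i0, hi0⟩ : ∃ i : Fin k, i = ⟨0, by omega⟩ := ⟨_, rfl⟩
      obtain ⟨i1, hi1⟩ : ∃ i : Fin k, i = ⟨1, by omega⟩ := ⟨_, rfl⟩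
      have h01 : i0 ≠ i1 := by simp [hi0, hi1]
      obtain ⟨w, hw⟩ : ∃ w : Fin k → F, w = Function.update (Function.update (fun _ => (1 : F)) i1 om⁻¹) i0 om := ⟨_, rfl⟩
      have hdet : (Matrix.diagonal w).det = 1 := by
        rw [Matrix.det_diagonal, hw, Finset.prod_update_of_mem (Finset.mem_univ _),
          Finset.prod_update_of_mem (by simp [h01.symm])]
        simp [hom0]
      have hwk : ∀ i, w i ^ k = 1 := fun i => by
        rw [hw]
        rcases eq_or_ne i i0 with rfl | h0
        · rw [Function.update_self, homk]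
        rw [Function.update_of_ne h0]
        rcases eq_or_ne i i1 with rfl | h1'
        · rw [Function.update_self, inv_pow, homk, inv_one]
        · rw [Function.update_of_ne h1', one_pow]
      have hfix : ∀ i : Fin k, i ≠ i0 → i ≠ i1 → Matrix.diagonal w *ᵥ Pi.single i (1 : F) = Pi.single i 1 :=
        fun i h0 h1' => by
          funext j
          rw [Matrix.mulVec_diagonal]
          rcases eq_or_ne j i with rfl | hji
          · rw [hw, Function.update_of_ne h0, Function.update_of_ne h1', one_mul]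
          · rw [Pi.single_eq_of_ne hji, mul_zero]
      refine ⟨⟨Matrix.diagonal w, hdet⟩, ⟨2, by omega⟩, ⟨3, by omega⟩, by simp, ?_, fun z hz => ?_,
        hfix _ (by simp [hi0]) (by simp [hi1]), hfix _ (by simp [hi0]) (by simp [hi1])⟩
      · show Matrix.diagonal w ^ k = 1
        rw [Matrix.diagonal_pow, ← Matrix.diagonal_one]
        congr 1; funext i; exact hwk i
      · have e0 := congrFun (congrFun hz i0) i0
        have e2 := congrFun (congrFun hz ⟨2, by omega⟩) ⟨2, by omega⟩
        simp [hw] at e0 e2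
        rw [Function.update_of_ne (by simp [hi0]), Function.update_of_ne (by simp [hi1])] at e2
        exact hom1 (e0.trans e2.symm)
    · obtain ⟨A, hA, hAk, hA1⟩ := CfsgLib.Perm.Elusive.exists_fpf (F := F) (p := p) (d := c) (r := k) hc0 hk
        (hq ▸ (hdvd c).2 dvd_rfl) (fun h => by
          have := Nat.le_of_dvd Nat.one_pos ((hdvd 1).1 (by simpa [hq] using h))
          omega)
      have hck : c ≤ k := by omega
      obtain ⟨E, hE⟩ : ∃ E : Matrix (Fin k) (Fin c) F, E = (1 : Matrix (Fin k) (Fin k) F).submatrix id (Fin.castLE hck) :=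
        ⟨_, rfl⟩
      obtain ⟨E', hE'⟩ : ∃ E' : Matrix (Fin c) (Fin k) F,
          E' = (1 : Matrix (Fin k) (Fin k) F).submatrix (Fin.castLE hck) id := ⟨_, rfl⟩
      have hEE : E' * E = 1 := by
        rw [hE, hE', ← Matrix.submatrix_mul _ _ _ id _ Function.bijective_id, one_mul,
          Matrix.submatrix_one _ (Fin.castLE_injective _)]
      obtain ⟨M, hM⟩ : ∃ M, M = E * (A - 1) * E' := ⟨_, rfl⟩
      have hdet : (1 + M).det = 1 := by
        rw [hM, Matrix.mul_assoc, Matrix.det_one_add_mul_comm, Matrix.mul_assoc, hEE, Matrix.mul_one, add_sub_cancel, hA]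
      have hpw : ∀ m, (1 + M) ^ m = 1 + E * (A ^ m - 1) * E' := fun m => by
        induction m with
        | zero => simp
        | succ m ih =>
          rw [pow_succ, ih, hM]
          have e : E * (A ^ m - 1) * E' * (E * (A - 1) * E') = E * ((A ^ m - 1) * (A - 1)) * E' := by
            simp only [Matrix.mul_assoc]
            rw [← Matrix.mul_assoc E' E, hEE, Matrix.one_mul]
          rw [add_mul, mul_add, mul_add, one_mul, one_mul, mul_one, e, pow_succ]
          simp only [sub_mul, mul_sub, one_mul, mul_one, Matrix.mul_sub, Matrix.sub_mul]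
          abel
      have hfix : ∀ i : Fin k, c ≤ (i : ℕ) → (1 + M) *ᵥ Pi.single i (1 : F) = Pi.single i 1 := fun i hi => by
        have hz : E' *ᵥ Pi.single i 1 = 0 := funext fun j => by
          rw [hE', Matrix.mulVec_single_one]
          show (1 : Matrix (Fin k) (Fin k) F) (Fin.castLE hck j) i = 0
          refine Matrix.one_apply_ne fun h => ?_
          have := congrArg Fin.val h
          simp at this
          omega
        rw [add_mulVec, one_mulVec, hM, ← mulVec_mulVec, hz, mulVec_zero, add_zero]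
      refine ⟨⟨1 + M, hdet⟩, ⟨c, by omega⟩, ⟨c + 1, by omega⟩, by simp, ?_, fun z hz => ?_, hfix _ le_rfl, hfix _ (Nat.le_succ c)⟩
      · show (1 + M) ^ k = 1
        rw [hpw, hAk, sub_self, Matrix.mul_zero, Matrix.zero_mul, add_zero]
      · change 1 + M = z • 1 at hz
        have e := congrFun (congrArg (fun Y : Matrix (Fin k) (Fin k) F => Y *ᵥ Pi.single (⟨c, by omega⟩ : Fin k) 1) hz) ⟨c, by omega⟩
        simp only [hfix ⟨c, by omega⟩ le_rfl, smul_mulVec, one_mulVec, Pi.smul_apply, Pi.single_eq_same, smul_eq_mul,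
          mul_one] at e
        rw [← e, one_smul, add_eq_left, hM] at hz
        have e2 : E' * (E * (A - 1) * E') * E = A - 1 := by
          simp only [Matrix.mul_assoc]
          rw [hEE, Matrix.mul_one, ← Matrix.mul_assoc, hEE, Matrix.one_mul]
        rw [hz, Matrix.mul_zero, Matrix.zero_mul] at e2
        haveI : Nonempty (Fin c) := ⟨⟨0, hc0⟩⟩
        exact not_isUnit_zero (e2 ▸ hA1)
  intro hord x ⟨z, hz⟩ hns
  have hkq : ¬ k ∣ q - 1 := fun h => by
    have h1 := Nat.le_of_dvd Nat.one_pos ((hdvd 1).1 (by simpa using h))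
    omega
  have hco : (Fintype.card F - 1).Coprime k := (hk.coprime_iff_not_dvd.2 (hq.symm ▸ hkq)).symm
  have hxz : (x : Matrix (Fin k) (Fin k) F) ^ k = z • 1 := by rw [← hz, Matrix.SpecialLinearGroup.coe_pow]
  have hz1 : z = 1 := by
    have h := congrArg Matrix.det hxz
    rw [Matrix.det_pow, x.2, one_pow, Matrix.det_smul, Matrix.det_one, mul_one, Fintype.card_fin] at h
    have hz0 : z ≠ 0 := fun h' => by rw [h', zero_pow hk.ne_zero] at h; exact one_ne_zero h
    have := pow_gcd_eq_one.2 ⟨h.symm, FiniteField.pow_card_sub_one_eq_one z hz0⟩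
    rwa [hco.symm.gcd_eq_one, pow_one] at this
  rw [hz1, one_smul] at hxz
  have hirr : Irreducible (Polynomial.cyclotomic k F) := by
    have hpk : p.Coprime k := (Nat.coprime_primes hp' hk).2 (Ne.symm hnp)
    refine Polynomial.irreducible_of_dvd_cyclotomic_of_natDegree (p := p) (f := (c0 : ℕ)) hcard hpk dvd_rfl ?_
    rw [Polynomial.natDegree_cyclotomic, Nat.totient_prime hk, ← orderOf_units, ZMod.coe_unitOfCoprime, ← hord,
      ← hq, hcard]
  have hshift : ∀ y : Matrix (Fin k) (Fin k) F, y ^ k = 1 → y ≠ 1 →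
      ∃ b : Module.Basis (Fin k) F (Fin k → F), ∀ i, Matrix.toLin' y (b i) = b (i + 1) := fun y hy hy1 => by
    refine CfsgLib.Perm.Elusive.exists_shift_basis hk (by omega) hirr hnF (by simp) (Matrix.toLin' y) ?_ ?_
    · rw [← Matrix.toLin'_pow, hy, Matrix.toLin'_one]; rfl
    · exact fun h => hy1 (Matrix.toLin'.injective (h.trans Matrix.toLin'_one.symm))
  obtain ⟨bx, hbx⟩ := hshift x.1 hxz (fun h => hns 1 (by rw [one_smul, h]))
  obtain ⟨g, hgN, hgk, hg1, -⟩ := CfsgLib.Perm.Elusive.exists_frobenius (p := p) hk hK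
  obtain ⟨bg, hbg⟩ := hshift g.1 (by rw [← Units.val_pow_eq_pow_val, hgk, Units.val_one]) (fun h => hg1 (Units.ext h))
  obtain ⟨P, hP⟩ := CfsgLib.Perm.Elusive.exists_sl_conj_shift hco bx bg hbx hbg
  refine ⟨P, ?_⟩
  rw [Subgroup.mem_comap]
  convert hgN using 1
  refine Units.ext ?_
  show (P⁻¹).1 * x.1 * P.1 = g.1
  rw [Matrix.mul_assoc, hP, ← Matrix.mul_assoc,
    show (P⁻¹).1 * P.1 = 1 from congrArg Subtype.val (inv_mul_cancel P), Matrix.one_mul]

end Cfsg.Agent.S5970
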