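import Cfsg.Statements.S5971
-- import your own Cfsg.Agent.* helpers here
import Mathlib
import Cfsg.Agent.Lib.Perm.Elusive.SingerPrime
import Cfsg.Agent.Lib.Perm.Elusive.OrderThree
import Cfsg.Agent.Lib.Perm.Elusive.SubfieldInvol

set_option autoImplicit false
set_option linter.all false
open scoped MatrixGroups
open Cfsg

namespace Cfsg.Agent.S5971
open Matrix

/-- Elements of order 3 of PSL_3(q) and the normalizer of a Singer cycle. Here `T = PSL_n(F)` for a field `F` with `q = p^f` elements (`n ≥ 2`, `(n, q) ≠ (2, 2), (2, 3)`), `k` is a prime dividing `n`, `K` is a subalgebra of the `n × n` matrices that is a field of degree `k` over `F` (an extension-field structure F_{q^k} on `F^n`), and `H` is the subgroup of matrices of determinant 1 normalizing `K` — a subgroup of type GL_{n/k}(q^k) (maximal except in some small cases; maximality is not assumed); Ω is the set of cosets of `H` in `T`, so an element of `T` of prime order `r` (a matrix `x` of determinant 1 with `x^r`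 scalar, `x` not scalar) fixes a point of Ω when some conjugate of `x` by a matrix of determinant 1 normalizes `K`. Take `n = k = 3` and suppose 3 divides the index of `H`. Then every element of `T` of order 3 is conjugate in `T` into `H` if and only if `q ≡ 4, 7` or `8 (mod 9)`. -/
theorem result {F : Type*} [Field F] [Fintype F] {p : ℕ} [Fact p.Prime] [CharP F p] {q : ℕ} (hq : Fintype.card F = q)
    (n : ℕ) (hn : n = 3) (k : ℕ) (hk : k.Prime) (hkn : k ∣ n) (K : Subalgebra F (Matrix (Fin n) (Fin n) F)) (hK : Cfsg.Geo.IsFieldSubalgebra k K) (hk3 : k = 3) (hΩ : 3 ∣ ((Cfsg.Geo.subalgebraNormalizer K).comap (Matrix.SpecialLinearGroup.toGL : Matrix.SpecialLinearGroup (Fin n) F →* GL (Fin n) F)).index) :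
    (∀ x : Matrix.SpecialLinearGroup (Fin n) F,
      (∃ z : F, ((x ^ 3 : Matrix.SpecialLinearGroup (Fin n) F) : Matrix (Fin n) (Fin n) F) = z • (1 : Matrix (Fin n) (Fin n) F)) →
      (∀ z : F, (x : Matrix (Fin n) (Fin n) F) ≠ z • (1 : Matrix (Fin n) (Fin n) F)) →
      ∃ P : Matrix.SpecialLinearGroup (Fin n) F, P⁻¹ * x * P ∈ ((Cfsg.Geo.subalgebraNormalizer K).comap (Matrix.SpecialLinearGroup.toGL : Matrix.SpecialLinearGroup (Fin n) F →* GL (Fin n) F))) ↔
    (q % 9 = 4 ∨ q % 9 = 7 ∨ q % 9 = 8) := by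
  classical
  subst hk3
  subst hn
  haveI : Fact (Nat.Prime 3) := ⟨Nat.prime_three⟩
  haveI : NeZero 3 := ⟨by norm_num⟩
  obtain ⟨c0, hp', hcard⟩ := FiniteField.card F p
  have hq2 : 2 ≤ q := hq ▸ Fintype.one_lt_card
  have hq3 : q % 3 = 0 ↔ (3 : F) = 0 := by
    rw [← hq, hcard]
    constructor
    · intro h
      have h' : (3 : ℕ) ∣ p ^ (c0 : ℕ) := Nat.dvd_of_mod_eq_zero h
      have h3p := (Nat.prime_dvd_prime_iff_eq Nat.prime_three hp').1 (Nat.prime_three.dvd_of_dvd_pow h')
      subst h3p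
      exact_mod_cast CharP.cast_eq_zero F 3
    · intro h
      have h3p := (Nat.prime_dvd_prime_iff_eq hp' Nat.prime_three).1 ((CharP.cast_eq_zero_iff F p 3).1 (by exact_mod_cast h))
      rw [h3p]
      exact Nat.mod_eq_zero_of_dvd (dvd_pow_self 3 c0.pos.ne')
  have hroot : ∀ d : ℕ, d ∣ q - 1 → 1 < d → ∃ u : F, orderOf u = d := fun d hd hd1 => by
    obtain ⟨g, hg⟩ := IsCyclic.exists_ofOrder_eq_natCard (α := Fˣ)
    rw [Nat.card_units, Nat.card_eq_fintype_card, hq] at hg
    refine ⟨((g ^ ((q - 1) / d) : Fˣ) : F), ?_⟩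
    rw [orderOf_units, ← hg]
    exact orderOf_pow_orderOf_div (orderOf_pos g).ne' (hg.symm ▸ hd)
  obtain ⟨g, hgN, hg3, hg1, hgns'⟩ := CfsgLib.Perm.Elusive.exists_frobenius (p := p) hk hK
  have hg3' : g.1 * g.1 * g.1 = 1 := by
    rw [← Units.val_mul, ← Units.val_mul, ← pow_two, ← pow_succ, hg3, Units.val_one]
  -- a repeated eigenvalue gives a derangement
  have hderange : ∀ x : Matrix.SpecialLinearGroup (Fin 3) F, (∀ z : F, (x : Matrix (Fin 3) (Fin 3) F) ≠ z • 1) →
      ∀ (μ : F) (a b : Fin 3 → F), LinearIndependent F ![a, b] → x.1 *ᵥ a = μ • a → x.1 *ᵥ b = μ • b →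
      ∀ P : Matrix.SpecialLinearGroup (Fin 3) F, P⁻¹ * x * P ∉ ((Cfsg.Geo.subalgebraNormalizer K).comap
        (Matrix.SpecialLinearGroup.toGL : Matrix.SpecialLinearGroup (Fin 3) F →* GL (Fin 3) F)) := by
    intro x hns μ a b hab hxa hxb P hP
    have hl : (P⁻¹).1 * P.1 = 1 := congrArg Subtype.val (inv_mul_cancel P)
    have hr : P.1 * (P⁻¹).1 = 1 := congrArg Subtype.val (mul_inv_cancel P)
    have hfix : ∀ v : Fin 3 → F, x.1 *ᵥ v = μ • v →
        ((P⁻¹).1 * x.1 * P.1) *ᵥ ((P⁻¹).1 *ᵥ v) = μ • ((P⁻¹).1 *ᵥ v) := fun v hv => by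
      rw [mulVec_mulVec, Matrix.mul_assoc _ P.1, hr, Matrix.mul_one, ← mulVec_mulVec, hv, mulVec_smul]
    have ha0 : (P⁻¹).1 *ᵥ a ≠ 0 := fun h => by
      have := congrArg (fun v => P.1 *ᵥ v) h
      simp only [mulVec_mulVec, hr, one_mulVec, mulVec_zero] at this
      exact (hab.ne_zero 0) this
    obtain ⟨t, ht⟩ := CfsgLib.Perm.Elusive.eigen_le_one hk hK hP (fun z hz => by
      change (P⁻¹).1 * x.1 * P.1 = z • 1 at hz
      refine hns z ?_
      have h := congrArg (fun Z => P.1 * Z * (P⁻¹).1) hz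
      simp only [Matrix.mul_assoc, hr, Matrix.mul_one, Matrix.mul_smul, Matrix.smul_mul] at h
      rwa [← Matrix.mul_assoc, hr, Matrix.one_mul] at h) μ (hfix a hxa) (hfix b hxb) ha0
    have hb' := congrArg (fun v => P.1 *ᵥ v) ht
    simp only [mulVec_mulVec, hr, one_mulVec, mulVec_smul] at hb'
    have := (LinearIndependent.pair_iff.1 hab) t (-1) (by rw [hb']; simp)
    exact one_ne_zero (neg_eq_zero.1 this.2)
  have hgns : ∀ μ : F, ∀ v w, g.1 *ᵥ v = μ • v → g.1 *ᵥ w = μ • w → ¬ LinearIndependent F ![v, w] :=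
    fun μ v w hv hw hli => by
      obtain ⟨t, ht⟩ := CfsgLib.Perm.Elusive.eigen_le_one hk hK hgN hgns' μ hv hw (hli.ne_zero 0)
      have := (LinearIndependent.pair_iff.1 hli) t (-1) (by rw [ht]; simp)
      exact one_ne_zero (neg_eq_zero.1 this.2)
  constructor
  · intro hall
    by_contra hbad
    push Not at hbad
    by_cases h30 : (3 : F) = 0
    · -- transvection
      obtain ⟨x, hx⟩ : ∃ x : Matrix.SpecialLinearGroup (Fin 3) F,
          (x : Matrix (Fin 3) (Fin 3) F) = Matrix.transvection 0 1 (1 : F) :=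
        ⟨⟨_, Matrix.det_transvection_of_ne 0 1 (by simp) 1⟩, rfl⟩
      have hns : ∀ z : F, (x : Matrix (Fin 3) (Fin 3) F) ≠ z • 1 := fun z hz => by
        have := congrFun (congrFun hz 0) 1
        rw [hx] at this
        simp [Matrix.transvection] at this
      obtain ⟨P, hP⟩ := hall x ⟨1, by
        rw [Matrix.SpecialLinearGroup.coe_pow, hx, pow_succ, sq, Matrix.transvection_mul_transvection_same _ _ (by simp),
          Matrix.transvection_mul_transvection_same _ _ (by simp), show (1 : F) + 1 + 1 = 0 by linear_combination h30,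
          Matrix.transvection_zero, one_smul]⟩ hns
      refine hderange x hns 1 (Pi.single 0 1) (Pi.single 2 1) ?_ ?_ ?_ P hP
      · rw [LinearIndependent.pair_iff]
        intro s t h
        exact ⟨by simpa using congrFun h 0, by simpa using congrFun h 2⟩
      · rw [hx, one_smul]; funext i; fin_cases i <;> simp [Matrix.transvection, add_mulVec, Matrix.single_mulVec, Function.update]
      · rw [hx, one_smul]; funext i; fin_cases i <;> simp [Matrix.transvection, add_mulVec, Matrix.single_mulVec, Function.update]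
    have hm3 : q % 3 ≠ 0 := fun h => h30 (hq3.1 h)
    by_cases h91 : q % 9 = 1
    · obtain ⟨u, hu⟩ := hroot 9 (Nat.dvd_of_mod_eq_zero (by omega)) (by norm_num)
      have hu9 : u ^ 9 = 1 := hu ▸ pow_orderOf_eq_one u
      have hu0 : u ≠ 0 := fun h => by rw [h] at hu9; simp at hu9
      have hu3 : u ^ 3 ≠ 1 := fun h => by
        have := Nat.le_of_dvd (by norm_num) (hu ▸ orderOf_dvd_of_pow_eq_one h)
        omega
      have hu7 : u * u * u ^ 7 = 1 := by linear_combination hu9
      obtain ⟨x, hx⟩ : ∃ x : Matrix.SpecialLinearGroup (Fin 3) F,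
          (x : Matrix (Fin 3) (Fin 3) F) = Matrix.diagonal ![u, u, u ^ 7] :=
        ⟨⟨Matrix.diagonal ![u, u, u ^ 7], by rw [Matrix.det_diagonal, Fin.prod_univ_three]; simpa using hu7⟩, rfl⟩
      have hns : ∀ z : F, (x : Matrix (Fin 3) (Fin 3) F) ≠ z • 1 := fun z hz => by
        have e0 := congrFun (congrFun hz 0) 0
        have e2 := congrFun (congrFun hz 2) 2
        rw [hx] at e0 e2
        simp at e0 e2
        refine hu3 ?_
        have : u ^ 7 = u := e2.trans e0.symm
        linear_combination hu9 - (u ^ 2) * this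
      obtain ⟨P, hP⟩ := hall x ⟨u ^ 3, by
        rw [Matrix.SpecialLinearGroup.coe_pow, hx, Matrix.diagonal_pow, Matrix.smul_one_eq_diagonal]
        congr 1
        funext i
        fin_cases i <;> simp
        linear_combination (u ^ 12 + u ^ 3) * hu9⟩ hns
      refine hderange x hns u (Pi.single 0 1) (Pi.single 1 1) ?_ ?_ ?_ P hP
      · rw [LinearIndependent.pair_iff]
        intro s t h
        exact ⟨by simpa using congrFun h 0, by simpa using congrFun h 1⟩
      · rw [hx]; funext i; fin_cases i <;> simp [Matrix.mulVec_diagonal]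
      · rw [hx]; funext i; fin_cases i <;> simp [Matrix.mulVec_diagonal]
    -- the index is not divisible by three
    have h25 : q % 9 = 2 ∨ q % 9 = 5 := by omega
    obtain ⟨G, hG⟩ : ∃ G : Matrix.SpecialLinearGroup (Fin 3) F, (G : Matrix (Fin 3) (Fin 3) F) = g.1 := by
      refine ⟨⟨g.1, ?_⟩, rfl⟩
      have hd : g.1.det ^ 3 = 1 := by rw [← Matrix.det_pow, pow_succ, sq, hg3', Matrix.det_one]
      have hco : Nat.gcd 3 (q - 1) = 1 := (Nat.prime_three.coprime_iff_not_dvd).2 fun h => by omega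
      have := pow_gcd_eq_one.2 ⟨hd, FiniteField.pow_card_sub_one_eq_one g.1.det (fun h => by rw [h] at hd; simp at hd)⟩
      rwa [hq, hco, pow_one] at this
    obtain ⟨H, hH⟩ : ∃ H, H = (Cfsg.Geo.subalgebraNormalizer K).comap
      (Matrix.SpecialLinearGroup.toGL : Matrix.SpecialLinearGroup (Fin 3) F →* GL (Fin 3) F) := ⟨_, rfl⟩
    have hGo : orderOf G = 3 := orderOf_eq_prime (Subtype.ext (by
      rw [Matrix.SpecialLinearGroup.coe_pow, hG, pow_succ, sq, hg3']; rfl)) (fun h => hg1 (Units.ext (by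
      rw [← hG, h]; rfl)))
    have hGH : G ∈ H := by
      rw [hH, Subgroup.mem_comap, show Matrix.SpecialLinearGroup.toGL G = g from Units.ext hG]
      exact hgN
    have h3H : 3 ∣ Nat.card H := by
      exact (dvd_of_eq hGo.symm).trans ((dvd_of_eq (Nat.card_zpowers G).symm).trans
        (Subgroup.card_dvd_of_le (Subgroup.zpowers_le.2 hGH)))
    rw [← hH] at hΩ
    have h9 : 9 ∣ Nat.card (Matrix.SpecialLinearGroup (Fin 3) F) := by
      rw [← H.index_mul_card]
      exact Nat.mul_dvd_mul hΩ h3H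
    have h9' : 9 ∣ Nat.card (GL (Fin 3) F) := CfsgLib.Perm.Elusive.card_sl_mul (n := 3) F (by norm_num) ▸ dvd_mul_of_dvd_left h9 _
    rw [Matrix.card_GL_field, Fin.prod_univ_three, hq] at h9'
    have key : ∀ u : ZMod 9, u = 2 ∨ u = 5 → (u ^ 3 - u ^ 0) * (u ^ 3 - u ^ 1) * (u ^ 3 - u ^ 2) ≠ 0 := by decide
    refine key (q : ZMod 9) ?_ ?_
    · rcases h25 with h | h
      · left; rw [← ZMod.natCast_mod, h]; rfl
      · right; rw [← ZMod.natCast_mod, h]; rfl
    · have := (ZMod.natCast_eq_zero_iff _ 9).2 h9'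
      rw [Nat.cast_mul, Nat.cast_mul] at this
      rw [Nat.cast_sub (Nat.pow_le_pow_right (by omega) (by norm_num)), Nat.cast_sub (Nat.pow_le_pow_right (by omega) (by norm_num)),
        Nat.cast_sub (Nat.pow_le_pow_right (by omega) (by norm_num))] at this
      simpa using this
  intro hq9 x ⟨z, hz⟩ hns
  have h30 : (3 : F) ≠ 0 := fun h => by have := hq3.2 h; omega
  have hxz : x.1 * x.1 * x.1 = z • 1 := by rw [← hz, Matrix.SpecialLinearGroup.coe_pow, pow_succ, sq]
  have hz3 : z * z * z = 1 := by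
    have h := congrArg Matrix.det hxz
    rw [Matrix.det_mul, Matrix.det_mul, x.2, Matrix.det_smul, Matrix.det_one, Fintype.card_fin] at h
    linear_combination -h
  have hz1 : z = 1 := by
    by_contra hne
    have h3q : 3 ∣ q - 1 := by
      have ho : orderOf z = 3 := orderOf_eq_prime (by rw [pow_succ, sq, hz3]) hne
      rw [← ho]
      exact orderOf_dvd_of_pow_eq_one (hq ▸ FiniteField.pow_card_sub_one_eq_one z (fun h => by rw [h] at hz3; simp at hz3))
    by_cases hcube : ∃ l : F, l * l * l = z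
    · obtain ⟨l, hl⟩ := hcube
      have ho : orderOf l = 3 ^ (1 + 1) := orderOf_eq_prime_pow (fun h => hne (by rw [← hl]; linear_combination h))
        (by rw [show (3 : ℕ) ^ (1 + 1) = 9 by norm_num]; linear_combination (l * l * l * (l * l * l) + l * l * l * z + z * z) * hl + hz3)
      have h9 : 9 ∣ q - 1 := by
        rw [show (9 : ℕ) = 3 ^ (1 + 1) by norm_num, ← ho]
        exact orderOf_dvd_of_pow_eq_one (hq ▸ FiniteField.pow_card_sub_one_eq_one l (fun h => by
          rw [h] at hl; rw [← hl] at hz3; simp at hz3))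
      omega
    · push Not at hcube
      exact hne ((CfsgLib.Perm.Elusive.det_eq_of_no_root hxz hcube).symm.trans x.2)
  rw [hz1, one_smul] at hxz
  by_cases hq31 : q % 3 = 1
  · obtain ⟨om, hom⟩ := hroot 3 (Nat.dvd_of_mod_eq_zero (by omega)) (by norm_num)
    have hom3 : om ^ 3 = 1 := hom ▸ pow_orderOf_eq_one om
    have hom1 : om ≠ 1 := fun h => by rw [h, orderOf_one] at hom; omega
    have homq : om * om + om + 1 = 0 :=
      (mul_eq_zero.1 (show (om - 1) * (om * om + om + 1) = 0 by linear_combination hom3)).resolve_left (sub_ne_zero.2 hom1)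
    obtain ⟨bx, hbx⟩ := CfsgLib.Perm.Elusive.exists_eigenbasis_three h30 homq hxz (fun μ v w hv hw hli =>
      hns μ (CfsgLib.Perm.Elusive.eigen_single h30 x.2 hxz hv hw hli))
    obtain ⟨bg, hbg⟩ := CfsgLib.Perm.Elusive.exists_eigenbasis_three h30 homq hg3' hgns
    have hgd : g.1.det = 1 := by
      have h : (LinearMap.toMatrix bg bg (Matrix.toLin' g.1)).det = g.1.det := by
        rw [LinearMap.det_toMatrix, LinearMap.det_toLin']
      rw [← h, show LinearMap.toMatrix bg bg (Matrix.toLin' g.1) = Matrix.diagonal fun i : Fin 3 => om ^ (i : ℕ) by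
        ext i j
        rw [LinearMap.toMatrix_apply, Matrix.toLin'_apply, hbg, map_smul, Module.Basis.repr_self, Finsupp.smul_apply,
          Finsupp.single_apply, Matrix.diagonal_apply]
        by_cases hij : j = i
        · subst hij; simp
        · rw [if_neg hij, if_neg (Ne.symm hij), smul_zero], Matrix.det_diagonal, Fin.prod_univ_three]
      simp only [Fin.val_zero, Fin.val_one, Fin.val_two]
      linear_combination hom3
    obtain ⟨G, hG⟩ : ∃ G : Matrix.SpecialLinearGroup (Fin 3) F, (G : Matrix (Fin 3) (Fin 3) F) = g.1 := ⟨⟨g.1, hgd⟩, rfl⟩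
    have hR : ∀ (y : Matrix (Fin 3) (Fin 3) F) (b : Module.Basis (Fin 3) F (Fin 3 → F)),
        (∀ i, y *ᵥ b i = om ^ (i : ℕ) • b i) → ∀ j, y *ᵥ b j =
          ∑ i, (Matrix.diagonal fun i : Fin 3 => om ^ (i : ℕ)) i j • b i := fun y b hb j => by
      rw [Finset.sum_eq_single j (fun i _ hi => by rw [Matrix.diagonal_apply_ne _ hi, zero_smul])
        (fun h => absurd (Finset.mem_univ _) h), Matrix.diagonal_apply_eq, hb]
    have hC : ∀ δ : F, δ ≠ 0 → ∃ C : Matrix (Fin 3) (Fin 3) F, C.det = δ ∧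
        C * (Matrix.diagonal fun i : Fin 3 => om ^ (i : ℕ)) = (Matrix.diagonal fun i : Fin 3 => om ^ (i : ℕ)) * C :=
      fun δ hδ => ⟨Matrix.diagonal ![δ, 1, 1], by rw [Matrix.det_diagonal, Fin.prod_univ_three]; simp, by
        rw [Matrix.diagonal_mul_diagonal, Matrix.diagonal_mul_diagonal]
        congr 1; funext i; exact mul_comm _ _⟩
    obtain ⟨P, hP⟩ := CfsgLib.Perm.Elusive.exists_sl_conj x bx _ (hR _ _ hbx) hC
    obtain ⟨Q, hQ⟩ := CfsgLib.Perm.Elusive.exists_sl_conj G bg _ (hR _ _ (fun i => hG.symm ▸ hbg i)) hC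
    refine ⟨P * Q⁻¹, ?_⟩
    have e : (P * Q⁻¹)⁻¹ * x * (P * Q⁻¹) = G := by
      have h1 : P⁻¹ * x * P = Q⁻¹ * G * Q := Subtype.ext (hP.trans hQ.symm)
      calc (P * Q⁻¹)⁻¹ * x * (P * Q⁻¹) = Q * (P⁻¹ * x * P) * Q⁻¹ := by group
        _ = G := by rw [h1]; group
    rw [Subgroup.mem_comap, e, show Matrix.SpecialLinearGroup.toGL G = g from Units.ext hG]
    exact hgN
  · have h32 : q % 3 = 2 := by
      have : q % 3 ≠ 0 := fun h => h30 (hq3.1 h)
      omega
    have hnF : ((3 : ℕ) : F) ≠ 0 := by exact_mod_cast h30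
    have hpk : p.Coprime 3 := (Nat.coprime_primes hp' Nat.prime_three).2 (fun h => hnF (by subst h; exact CharP.cast_eq_zero F 3))
    have hirr : Irreducible (Polynomial.cyclotomic 3 F) := by
      refine Polynomial.irreducible_of_dvd_cyclotomic_of_natDegree (p := p) (f := (c0 : ℕ)) hcard hpk dvd_rfl ?_
      rw [Polynomial.natDegree_cyclotomic, Nat.totient_prime Nat.prime_three, ← orderOf_units, ZMod.coe_unitOfCoprime,
        ← hcard, hq]
      refine (orderOf_eq_prime (p := 2) ?_ ?_).symm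
      · rw [← ZMod.natCast_mod, h32]; decide
      · rw [← ZMod.natCast_mod, h32]; decide
    have hco : (Fintype.card F - 1).Coprime 3 :=
      (Nat.prime_three.coprime_iff_not_dvd.2 (by rw [hq]; omega)).symm
    have hshift : ∀ y : Matrix (Fin 3) (Fin 3) F, y * y * y = 1 → y ≠ 1 →
        ∃ b : Module.Basis (Fin 3) F (Fin 3 → F), ∀ i, Matrix.toLin' y (b i) = b (i + 1) := fun y hy hy1 => by
      refine CfsgLib.Perm.Elusive.exists_shift_basis Nat.prime_three (by norm_num) hirr hnF (by simp) (Matrix.toLin' y) ?_ ?_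
      · rw [← Matrix.toLin'_pow, pow_succ, sq, hy, Matrix.toLin'_one]; rfl
      · exact fun h => hy1 (Matrix.toLin'.injective (h.trans Matrix.toLin'_one.symm))
    obtain ⟨bx, hbx⟩ := hshift x.1 hxz (fun h => hns 1 (by rw [one_smul, h]))
    obtain ⟨bg, hbg⟩ := hshift g.1 hg3' (fun h => hg1 (Units.ext h))
    obtain ⟨P, hP⟩ := CfsgLib.Perm.Elusive.exists_sl_conj_shift hco bx bg hbx hbg
    refine ⟨P, ?_⟩
    rw [Subgroup.mem_comap]
    convert hgN using 1
    refine Units.ext ?_
    show (P⁻¹).1 * x.1 * P.1 = g.1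
    rw [Matrix.mul_assoc, hP, ← Matrix.mul_assoc,
      show (P⁻¹).1 * P.1 = 1 from congrArg Subtype.val (inv_mul_cancel P), Matrix.one_mul]

end Cfsg.Agent.S5971
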