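import Cfsg.Statements.S5972
-- import your own Cfsg.Agent.* helpers here
import Mathlib
import Cfsg.Agent.Lib.Perm.Elusive.OrthSingularTwo
import Cfsg.Agent.Lib.Perm.Elusive.OrthSingularFinal
import Cfsg.Agent.Lib.Perm.Elusive.OrthSingularCount
import Cfsg.Agent.Lib.Perm.Elusive.OrthStd

set_option autoImplicit false
set_option linter.all false
open scoped MatrixGroups
open Cfsg

namespace Cfsg.Agent.S5972

/-- Elements of prime order of Ω_n(q), n = 2d+1 ≥ 7, q odd, with no fixed totally singular `m`-space. Here `T = Ω_n(q)` is realised as the commutator subgroup of the isometry group of the quadratic form `x₀² + Σ xᵢyᵢ` over the field `F` with `q` elements (it has trivial centre, so its elements of prime order `r` are used directly); let `1 ≤ m ≤ d` and let `r` be a prime dividing the number of totally singular `m`-spaces. For `r ≠ p` let `i` be the multiplicative order of `q` modulo `r`, `c = i` for `i` even and `c = 2i` for `i` odd,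 and write `k = n mod c`, `ℓ = m mod i`, `n' = ⌊n/i⌋`, `m' = ⌊m/i⌋`, `t = (r−1)/i`. Then every element of `T` of order `r` fixes some totally singular `m`-space if and only if either (i) `r = 2` and (`m < (n−1)/2` or `q ≡ 1 (mod 4)`); or (ii) `r ≠ p` is odd, `i ≤ m`, `k > 2ℓ`, and (`i` is odd or `n' − 2m' ≥ t`). -/
theorem result {F : Type*} [Field F] [Fintype F] {p : ℕ} [Fact p.Prime] [CharP F p] {q : ℕ} (hq : Fintype.card F = q) (hqodd : Odd q)
    (d m : ℕ) (hd : 3 ≤ d) (hm : 1 ≤ m) (hmd : m ≤ d)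
    (r : ℕ) [Fact r.Prime]
    (hrΩ : r ∣ Nat.card {W : Submodule F (Unit ⊕ (Fin d ⊕ Fin d) → F) // Module.finrank F ↥W = m ∧ (∀ w ∈ W, Cfsg.quadFormOdd d F w = 0)})
    (i c : ℕ) (hi : i = orderOf (q : ZMod r)) (hc : c = if Even i then i else 2 * i) :
    (∀ x : GL (Unit ⊕ (Fin d ⊕ Fin d)) F, x ∈ Cfsg.Geo.omegaGL (Cfsg.quadFormOdd d F) → orderOf x = r →
      ∃ W : Submodule F (Unit ⊕ (Fin d ⊕ Fin d) → F), Module.finrank F ↥W = m ∧ (∀ w ∈ W, Cfsg.quadFormOdd d F w = 0) ∧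
        W.map (Matrix.toLin' (x : Matrix (Unit ⊕ (Fin d ⊕ Fin d)) (Unit ⊕ (Fin d ⊕ Fin d)) F)) ≤ W) ↔
    ((r = 2 ∧ (m < d ∨ q % 4 = 1)) ∨
     (r ≠ p ∧ 2 < r ∧ i ≤ m ∧ 2 * (m % i) < (2 * d + 1) % c ∧ (Odd i ∨ (r - 1) / i + 2 * (m / i) ≤ (2 * d + 1) / i))) := by
  classical
  subst hq
  have h2 : (2 : F) ≠ 0 := CfsgLib.Orth.two_ne_zero_of_odd hqodd
  obtain ⟨hs1, -⟩ := CfsgLib.Perm.Elusive.square_congr (F := F) hqodd
  obtain ⟨Q, hQdef⟩ : ∃ Q, Q = CfsgLib.Classical.oddQ d F := ⟨_, rfl⟩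
  have hQc : Cfsg.quadFormOdd d F = ⇑Q := by rw [hQdef, CfsgLib.Classical.oddQ_coe]
  have hQ : (QuadraticMap.polarBilin Q).Nondegenerate := hQdef ▸ CfsgLib.Classical.oddQ_nondeg h2 d
  have hcard : Fintype.card (Unit ⊕ (Fin d ⊕ Fin d)) = 2 * d + 1 := by
    rw [Fintype.card_sum, Fintype.card_sum, Fintype.card_fin, Fintype.card_unit]; omega
  have hV : Module.finrank F (Unit ⊕ (Fin d ⊕ Fin d) → F) = 2 * d + 1 := by
    rw [Module.finrank_fintype_fun_eq_card, hcard]
  rw [hQc] at hrΩ ⊢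
  have hrp : r ≠ p := fun h => CfsgLib.Perm.Elusive.ts_not_dvd (p := p) hQ hV (by omega) (h ▸ hrΩ)
  have hand : ∀ (x : GL (Unit ⊕ (Fin d ⊕ Fin d)) F) (W : Submodule F (Unit ⊕ (Fin d ⊕ Fin d) → F)),
      (Module.finrank F ↥W = m ∧ (∀ w ∈ W, Q w = 0) ∧
        W.map (Matrix.toLin' (x : Matrix (Unit ⊕ (Fin d ⊕ Fin d)) (Unit ⊕ (Fin d ⊕ Fin d)) F)) ≤ W) ↔
      ((Module.finrank F ↥W = m ∧ ∀ w ∈ W, Q w = 0) ∧
        W.map (Matrix.toLin' (x : Matrix (Unit ⊕ (Fin d ⊕ Fin d)) (Unit ⊕ (Fin d ⊕ Fin d)) F)) ≤ W) :=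
    fun x W => and_assoc.symm
  simp only [hand]
  by_cases hr2 : r = 2
  · subst hr2
    constructor
    · intro hL
      refine Or.inl ⟨rfl, ?_⟩
      by_contra hno
      push Not at hno
      obtain ⟨hdm, hq4⟩ := hno
      obtain ⟨x, hx, hx2, hTT, hBd, han⟩ := CfsgLib.Perm.Elusive.exists_elliptic_invol h2 hQ (by omega) (fun h => hq4 (hs1.1 h))
      have hx1 : x ≠ 1 := fun h => by
        rw [h, Units.val_one, Matrix.toLin'_one, show LinearMap.ker ((LinearMap.id : (Unit ⊕ (Fin d ⊕ Fin d) → F) →ₗ[F] _) + 1) = ⊥ from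
          LinearMap.ker_eq_bot'.2 fun v hv => by
            rw [LinearMap.add_apply, LinearMap.id_apply, Module.End.one_apply, ← two_smul F, smul_eq_zero] at hv
            exact hv.resolve_left h2, finrank_bot] at hBd
        omega
      obtain ⟨W, ⟨hWd, hW0⟩, hW⟩ := hL x hx (orderOf_eq_prime hx2 hx1)
      have hI : ∀ v, Q (Matrix.toLin' (x : Matrix _ _ F) v) = Q v := fun v => by
        rw [Matrix.toLin'_apply]
        exact CfsgLib.Classical.mem_isometryGroup_iff.1 (CfsgLib.Perm.Elusive.mem_iso_of_omega hx) v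
      obtain ⟨hle, -⟩ := CfsgLib.Perm.Elusive.invol_aniso_bound h2 hQ hI hTT han hW0 (fun u hu => hW ⟨u, hu, rfl⟩)
      have hsum := Submodule.finrank_add_eq_of_isCompl (CfsgLib.Perm.Elusive.invol_parts h2 hQ hI hTT).1
      rw [hBd, hV] at hsum
      omega
    · intro hR x hx hxo
      obtain ⟨T, hT⟩ : ∃ T, T = Matrix.toLin' (x : Matrix (Unit ⊕ (Fin d ⊕ Fin d)) (Unit ⊕ (Fin d ⊕ Fin d)) F) := ⟨_, rfl⟩
      have hx2 : x * x = 1 := by rw [← sq, ← hxo, pow_orderOf_eq_one]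
      have hTT : ∀ v, T (T v) = v := fun v => by
        rw [hT, Matrix.toLin'_apply, Matrix.toLin'_apply, Matrix.mulVec_mulVec, ← Units.val_mul, hx2, Units.val_one,
          Matrix.one_mulVec]
      have hI : ∀ v, Q (T v) = Q v := fun v => by
        rw [hT, Matrix.toLin'_apply]
        exact CfsgLib.Classical.mem_isometryGroup_iff.1 (CfsgLib.Perm.Elusive.mem_iso_of_omega hx) v
      obtain ⟨b, hb, hab, hplus, hb1, -, -⟩ := CfsgLib.Perm.Elusive.omega_invol_split h2 hQ (by omega) hx hT hTT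
      have hb1' : 1 ≤ b := hb1 fun h => by
        rw [one_smul] at h
        rw [show x = 1 from Units.ext h, orderOf_one] at hxo
        omega
      suffices h : ∃ b', b' ≤ m ∧ 2 * b' ≤ 2 * b ∧ (b' = b → IsSquare (-1 : F)) ∧ 2 * (m - b') ≤ 2 * (d - b) by
        obtain ⟨b', h1, h3, h4, h5⟩ := h
        obtain ⟨W, ⟨hWd, hW0⟩, hW⟩ := CfsgLib.Perm.Elusive.invol_singular h2 hQ hI hTT (a := m - b') (b := b')
          (by omega) (fun h => absurd h (by omega)) (by omega) (fun h => hplus (h4 (by omega)))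
        exact ⟨W, ⟨by omega, hW0⟩, by rintro _ ⟨u, hu, rfl⟩; rw [← hT]; exact hW u hu⟩
      rcases hR with ⟨-, hR | hR⟩ | ⟨-, h', -⟩
      · exact ⟨min m (b - 1), min_le_left _ _, by omega, fun h => absurd h (by omega), by omega⟩
      · exact ⟨min m b, min_le_left _ _, by omega, fun _ => hs1.2 hR, by omega⟩
      · omega
  have hr3 : 2 < r := by have := (Fact.out : r.Prime).two_le; omega
  rw [CfsgLib.Perm.Elusive.elusive_order_iff hr2 hQ (by omega) fun W => Module.finrank F ↥W = m ∧ ∀ w ∈ W, Q w = 0,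
    CfsgLib.Perm.Elusive.singular_iff (p := p) hrp hr2 hQ hV hi hc hm hmd
      (fun a => ⟨fun h => by omega, fun h => ⟨by omega, fun h' => absurd h' (by omega)⟩⟩) hrΩ]
  obtain ⟨hipos, -, -, -⟩ := CfsgLib.Perm.Elusive.block_power (F := F) (p := p) hrp hr2 hi hc
  have hn : Odd (2 * d + 1) := ⟨d, rfl⟩
  rcases Nat.even_or_odd i with hev | ho
  · rw [if_pos hev] at hc
    subst hc
    have hpar : (2 * d + 1) % c % 2 = 1 := by rw [Nat.mod_mod_of_dvd _ (even_iff_two_dvd.1 hev)]; omega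
    have hno : ¬ Odd c := Nat.not_odd_iff_even.2 hev
    simp only [hn, true_or, not_true, false_and, or_false, true_and, hno, false_or, hev]
    constructor
    · rintro ⟨him, hle, ⟨h0, -⟩ | h'⟩
      · omega
      · exact Or.inr ⟨hrp, hr3, him, by omega, hle⟩
    · rintro (⟨h', -⟩ | ⟨-, -, him, hl, hle⟩)
      · omega
      · exact ⟨him, hle, Or.inr (by omega)⟩
  · have hne : ¬ Even i := Nat.not_even_iff_odd.2 ho
    rw [if_neg hne] at hc
    subst hc
    have hmod : (2 * d + 1) % (2 * i) = 2 * (d % i) + 1 := by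
      have e := Nat.div_add_mod d i
      have l := Nat.mod_lt d hipos
      rw [show 2 * d + 1 = 2 * (d % i) + 1 + 2 * i * (d / i) by rw [mul_assoc]; omega, Nat.add_mul_mod_self_left,
        Nat.mod_eq_of_lt (by omega)]
    rw [hmod]
    simp only [ho, hne, true_and, false_and, or_false, true_or, and_true]
    constructor
    · rintro ⟨him, h'⟩
      exact Or.inr ⟨hrp, hr3, him, by omega⟩
    · rintro (⟨h', -⟩ | ⟨-, -, him, hl⟩)
      · omega
      · exact ⟨him, by omega⟩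

end Cfsg.Agent.S5972
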