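import Cfsg.Statements.S5973
-- import your own Cfsg.Agent.* helpers here
import Mathlib
import Cfsg.Agent.Lib.Perm.Elusive.OrthSingularTwo
import Cfsg.Agent.Lib.Perm.Elusive.OrthSingularFinal
import Cfsg.Agent.Lib.Perm.Elusive.OrthSingularCount
import Cfsg.Agent.Lib.Perm.Elusive.OrthStd

set_option autoImplicit false
set_option linter.all false
open scoped MatrixGroups
open Cfsg

namespace Cfsg.Agent.S5973

/-- Elements of prime order of PΩ⁺_n(q), n = 2d ≥ 8, with no fixed totally singular `m`-space, `m < n/2`. Here `T = PΩ⁺_n(q)` is realised through `Ω⁺_n(q)`, the commutator subgroup of the isometry group of the quadratic form `Σ xᵢyᵢ` over the field `F` with `q` elements; an element of `T` of prime order `r` is an element `x` of `Ω⁺_n(q)` with `x^r` scalar and `x` not scalar. Let `1 ≤ m < d` and let `r` be a prime dividing the number of totally singular `m`-spaces. For `r ≠ p` let `i` be the multiplicative order of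 `q` modulo `r`, `c = i` for `i` even and `c = 2i` for `i` odd, and write `k = n mod c`, `ℓ = m mod i`, `n' = ⌊n/i⌋`, `m' = ⌊m/i⌋`, `t = (r−1)/i`. Then every element of `T` of order `r` fixes some totally singular `m`-space if and only if one of: (i) `r = 2 ≠ p` and either `q ≡ 1 (mod 4)`, or `q ≡ 3 (mod 4)`, `m ≤ n/2 − 2` and (`m` even or `n ≡ 2 (mod 4)`); (ii) `r ≠ p` odd, `i` odd, `i ≤ m` and `k ≥ 2ℓ`; (iii) `r ≠ p` odd, `i` even, `i ≤ m`, `n' − 2m' ≥ t`, and one of: `i ≥ 2ℓ`, `k = 0`, `n/i` odd and `n' − 2m' > t`; or `k ≥ 2ℓ` and `n'` even; or `k > 2ℓ` and `n'` odd. -/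
theorem result {F : Type*} [Field F] [Fintype F] {p : ℕ} [Fact p.Prime] [CharP F p] {q : ℕ} (hq : Fintype.card F = q)
    (d m : ℕ) (hd : 4 ≤ d) (hm : 1 ≤ m) (hmd : m < d)
    (r : ℕ) [Fact r.Prime]
    (hrΩ : r ∣ Nat.card {W : Submodule F (Fin d ⊕ Fin d → F) // Module.finrank F ↥W = m ∧ (∀ w ∈ W, Cfsg.quadFormPlus d F w = 0)})
    (i c : ℕ) (hi : i = orderOf (q : ZMod r)) (hc : c = if Even i then i else 2 * i) :
    (∀ x : GL (Fin d ⊕ Fin d) F, x ∈ Cfsg.Geo.omegaGL (Cfsg.quadFormPlus d F) →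
      (∃ z : F, ((x ^ r : GL (Fin d ⊕ Fin d) F) : Matrix (Fin d ⊕ Fin d) (Fin d ⊕ Fin d) F) = z • (1 : Matrix (Fin d ⊕ Fin d) (Fin d ⊕ Fin d) F)) →
      (∀ z : F, (x : Matrix (Fin d ⊕ Fin d) (Fin d ⊕ Fin d) F) ≠ z • (1 : Matrix (Fin d ⊕ Fin d) (Fin d ⊕ Fin d) F)) →
      ∃ W : Submodule F (Fin d ⊕ Fin d → F), Module.finrank F ↥W = m ∧ (∀ w ∈ W, Cfsg.quadFormPlus d F w = 0) ∧
        W.map (Matrix.toLin' (x : Matrix (Fin d ⊕ Fin d) (Fin d ⊕ Fin d) F)) ≤ W) ↔
    ((r = 2 ∧ p ≠ 2 ∧ (q % 4 = 1 ∨ (q % 4 = 3 ∧ m + 2 ≤ d ∧ (Even m ∨ (2 * d) % 4 = 2)))) ∨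
     (r ≠ p ∧ 2 < r ∧ Odd i ∧ i ≤ m ∧ 2 * (m % i) ≤ (2 * d) % c) ∨
     (r ≠ p ∧ 2 < r ∧ Even i ∧ i ≤ m ∧ (r - 1) / i + 2 * (m / i) ≤ (2 * d) / i ∧
       ((2 * (m % i) ≤ i ∧ (2 * d) % c = 0 ∧ Odd ((2 * d) / i) ∧ (r - 1) / i + 2 * (m / i) < (2 * d) / i) ∨
        (2 * (m % i) ≤ (2 * d) % c ∧ Even ((2 * d) / i)) ∨
        (2 * (m % i) < (2 * d) % c ∧ Odd ((2 * d) / i))))) := by
  classical
  subst hq
  obtain ⟨Q, hQdef⟩ : ∃ Q, Q = CfsgLib.Classical.plusQ d F := ⟨_, rfl⟩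
  have hQc : Cfsg.quadFormPlus d F = ⇑Q := by rw [hQdef, CfsgLib.Classical.plusQ_coe]
  have hQ : (QuadraticMap.polarBilin Q).Nondegenerate := hQdef ▸ CfsgLib.Classical.plusQ_nondeg d
  have htp : CfsgLib.Perm.Elusive.QPlus Q ⊤ := hQdef ▸ CfsgLib.Perm.Elusive.qplus_top_plusQ d
  have hcard : Fintype.card (Fin d ⊕ Fin d) = 2 * d := by
    simp only [Fintype.card_sum, Fintype.card_fin]; omega
  haveI : Nonempty (Fin d ⊕ Fin d) := Fintype.card_pos_iff.1 (by omega)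
  have hV : Module.finrank F ((Fin d ⊕ Fin d) → F) = 2 * d := by
    rw [Module.finrank_fintype_fun_eq_card, hcard]
  rw [hQc] at hrΩ ⊢
  
  have hrp : r ≠ p := fun h => CfsgLib.Perm.Elusive.ts_not_dvd (p := p) hQ hV (by omega) (h ▸ hrΩ)
  have hand : ∀ (x : GL (Fin d ⊕ Fin d) F) (W : Submodule F (Fin d ⊕ Fin d → F)),
      (Module.finrank F ↥W = m ∧ (∀ w ∈ W, Q w = 0) ∧
        W.map (Matrix.toLin' (x : Matrix (Fin d ⊕ Fin d) (Fin d ⊕ Fin d) F)) ≤ W) ↔
      ((Module.finrank F ↥W = m ∧ ∀ w ∈ W, Q w = 0) ∧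
        W.map (Matrix.toLin' (x : Matrix (Fin d ⊕ Fin d) (Fin d ⊕ Fin d) F)) ≤ W) :=
    fun x W => and_assoc.symm
  simp only [hand]
  by_cases hr2 : r = 2
  · subst hr2
    have hp2 : p ≠ 2 := fun h => hrp h.symm
    have hodd : Odd (Fintype.card F) := by
      obtain ⟨n, hp', hn⟩ := FiniteField.card F p
      rw [hn]
      exact (hp'.odd_of_ne_two hp2).pow
    have h2 : (2 : F) ≠ 0 := CfsgLib.Orth.two_ne_zero_of_odd hodd
    have hqo := Nat.odd_iff.1 hodd
    obtain ⟨hs1, hs2⟩ := CfsgLib.Perm.Elusive.square_congr (F := F) hodd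
    have hneg : ∀ (T : ((Fin d ⊕ Fin d) → F) →ₗ[F] ((Fin d ⊕ Fin d) → F)), (∀ v, Q (T v) = Q v) → (∀ v, T (T v) = -v) →
        (IsSquare (-1 : F) ∨ Even m) → ∃ W : Submodule F ((Fin d ⊕ Fin d) → F), (Module.finrank F ↥W = m ∧ ∀ w ∈ W, Q w = 0) ∧ ∀ u ∈ W, T u ∈ W := by
      intro T hI hT h
      rcases h with h | ⟨e, he⟩
      · exact CfsgLib.Perm.Elusive.negsq_singular_split h2 hQ hI hT h (by omega)
      · obtain ⟨W, ⟨hWd, hW0⟩, hW⟩ := CfsgLib.Perm.Elusive.negsq_singular_even h2 hQ hI hT (e := e) (by omega)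
        exact ⟨W, ⟨by omega, hW0⟩, hW⟩
    constructor
    · intro hL
      refine Or.inl ⟨rfl, hp2, ?_⟩
      by_contra hno
      push Not at hno
      obtain ⟨hq1, hq3⟩ := hno
      have hns : ¬ IsSquare (-1 : F) := fun h => hq1 (hs1.1 h)
      by_cases hmd2 : m + 2 ≤ d
      · obtain ⟨hm2, hd4⟩ := hq3 (by omega) hmd2
        have hde : Even d := Nat.even_iff.2 (by omega)
        have hiff : CfsgLib.Perm.Elusive.QPlus Q ⊤ ↔ IsSquare (-1 : F) ∨ Even d := iff_of_true htp (Or.inr hde)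
        have h2d : Even d ∨ IsSquare (2 : F) := Or.inl hde
        obtain ⟨d', hd'⟩ : ∃ d', d = d' + 1 := ⟨d - 1, by omega⟩
        obtain ⟨T, hI, hT⟩ := CfsgLib.Perm.Elusive.negsq_exists h2 hQ (d := d') (by rw [hV, hd']) (hd' ▸ hiff)
        have hT4 : T ^ 4 = 1 := LinearMap.ext fun v => by simp [pow_succ, Module.End.mul_apply, hT]
        obtain ⟨x, -, hxv⟩ := CfsgLib.Perm.Elusive.exists_gl_of_pow (by norm_num : (4 : ℕ) ≠ 0) hT4
        have hmem := (CfsgLib.Perm.Elusive.negsq_omega_iff h2 hQ hcard (by omega) (g := x)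
          (CfsgLib.Classical.mem_isometryGroup_iff.2 fun v => by rw [hxv]; exact hI v)
          (fun v => by rw [hxv, hxv]; exact hT v)).2 h2d
        obtain ⟨W, ⟨hWd, -⟩, hW⟩ := hL x hmem ⟨-1, Matrix.ext_iff_mulVec.2 fun v => by
            rw [sq, Units.val_mul, ← Matrix.mulVec_mulVec, hxv, hxv, hT, neg_one_smul, Matrix.neg_mulVec, Matrix.one_mulVec]⟩
          (fun z hz => by
            refine hns ⟨z, ?_⟩
            obtain ⟨v, hv⟩ := exists_ne (0 : (Fin d ⊕ Fin d) → F)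
            have h := hT v
            rw [← hxv, ← hxv, hz, Matrix.smul_mulVec, Matrix.one_mulVec, Matrix.smul_mulVec, Matrix.one_mulVec, smul_smul,
              ← neg_one_smul F v] at h
            exact (smul_left_injective F hv h).symm)
        have hev := CfsgLib.Perm.Elusive.negsq_even_dim hT hns (W := W)
          (fun u hu => by rw [← hxv, ← Matrix.toLin'_apply]; exact hW ⟨u, hu, rfl⟩)
        rw [hWd] at hev
        exact hm2 hev
      obtain ⟨x, hx, hx2, hTT, hBd, han⟩ := CfsgLib.Perm.Elusive.exists_elliptic_invol h2 hQ (by omega) hns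
      have hI : ∀ v, Q (Matrix.toLin' (x : Matrix (Fin d ⊕ Fin d) (Fin d ⊕ Fin d) F) v) = Q v := fun v => by
        rw [Matrix.toLin'_apply]
        exact CfsgLib.Classical.mem_isometryGroup_iff.1 (CfsgLib.Perm.Elusive.mem_iso_of_omega hx) v
      obtain ⟨hc', hAn, hBn, ho', -⟩ := CfsgLib.Perm.Elusive.invol_parts h2 hQ hI hTT
      have hsum := Submodule.finrank_add_eq_of_isCompl hc'
      rw [hBd, hV] at hsum
      obtain ⟨W, ⟨hWd, hW0⟩, hW⟩ := hL x hx ⟨1, by rw [hx2, Units.val_one, one_smul]⟩ (fun z hz => by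
        have hb : ∀ v, Matrix.toLin' (x : Matrix (Fin d ⊕ Fin d) (Fin d ⊕ Fin d) F) v = z • v := fun v => by
          rw [Matrix.toLin'_apply, hz, Matrix.smul_mulVec, Matrix.one_mulVec]
        by_cases hz1 : z + 1 = 0
        · have h0 : LinearMap.ker (Matrix.toLin' (x : Matrix (Fin d ⊕ Fin d) (Fin d ⊕ Fin d) F) + 1) = ⊤ :=
            LinearMap.ker_eq_top.2 (LinearMap.ext fun v => by
              rw [LinearMap.add_apply, hb, Module.End.one_apply, show z • v + v = (z + 1) • v by module, hz1, zero_smul]; rfl)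
          rw [h0, finrank_top, hV] at hBd
          omega
        · have h0 : LinearMap.ker (Matrix.toLin' (x : Matrix (Fin d ⊕ Fin d) (Fin d ⊕ Fin d) F) + 1) = ⊥ :=
            LinearMap.ker_eq_bot'.2 fun v hv => by
              rw [LinearMap.add_apply, hb, Module.End.one_apply, show z • v + v = (z + 1) • v by module, smul_eq_zero] at hv
              exact hv.resolve_left hz1
          rw [h0, finrank_bot] at hBd
          omega)
      obtain ⟨hle, heq⟩ := CfsgLib.Perm.Elusive.invol_aniso_bound h2 hQ hI hTT han hW0 (fun u hu => hW ⟨u, hu, rfl⟩)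
      have hAp := heq (by omega)
      have hp := CfsgLib.Perm.Elusive.qplus_sup_iff hAn hBn ho' (h := d - 1) (h' := 1) (by omega) (by omega)
      rw [hc'.sup_eq_top] at hp
      obtain ⟨U, hU, hU0, hUd⟩ := (hp.1 htp).1 hAp
      obtain ⟨u, hu, hu0⟩ := Submodule.exists_mem_ne_zero_of_ne_bot (p := U) (fun h => by rw [h, finrank_bot] at hUd; omega)
      exact hu0 (han u (hU hu) (hU0 u hu))
    · intro hR x hx ⟨z, hxz⟩ hns
      obtain ⟨hcase, hI⟩ := CfsgLib.Perm.Elusive.two_scalar_cases hQ (by omega) hx hxz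
      suffices h : ∃ W : Submodule F ((Fin d ⊕ Fin d) → F), (Module.finrank F ↥W = m ∧ ∀ w ∈ W, Q w = 0) ∧
          ∀ u ∈ W, Matrix.toLin' (x : Matrix (Fin d ⊕ Fin d) (Fin d ⊕ Fin d) F) u ∈ W by
        obtain ⟨W, hW, hWi⟩ := h
        exact ⟨W, hW, by rintro _ ⟨u, hu, rfl⟩; exact hWi u hu⟩
      rcases hcase with hTT | hTT
      · obtain ⟨b, hb, hab, hplus, hb1, ha1, htype⟩ :=
          CfsgLib.Perm.Elusive.omega_invol_split h2 hQ (by omega) hx rfl hTT
        have hb1' : 1 ≤ b := hb1 (hns 1)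
        have ha1' := ha1 (hns (-1))
        have htype' := htype (d - b) (by omega)
        suffices h : ∃ b', b' ≤ m ∧ 2 * b' ≤ 2 * b ∧ 2 * (m - b') ≤ 2 * (d - b) ∧
            (b' = b → CfsgLib.Perm.Elusive.QPlus Q (LinearMap.ker (Matrix.toLin' (x : Matrix (Fin d ⊕ Fin d) (Fin d ⊕ Fin d) F) + 1))) ∧
            (m - b' = d - b → CfsgLib.Perm.Elusive.QPlus Q (LinearMap.ker (Matrix.toLin' (x : Matrix (Fin d ⊕ Fin d) (Fin d ⊕ Fin d) F) - 1))) by
          obtain ⟨b', h1, h3, h4, h5, h6⟩ := h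
          obtain ⟨W, ⟨hWd, hW0⟩, hW⟩ := CfsgLib.Perm.Elusive.invol_singular h2 hQ hI hTT (a := m - b') (b := b')
            (by omega) (fun h => h6 (by omega)) (by omega) (fun h => h5 (by omega))
          exact ⟨W, ⟨by omega, hW0⟩, hW⟩
        rcases hR with ⟨-, -, hR⟩ | ⟨-, h', -⟩ | ⟨-, h', -⟩
        · by_cases hsq : IsSquare (-1 : F)
          · exact ⟨min m b, min_le_left _ _, by omega, by omega, fun _ => hplus hsq, fun _ => (htype'.1 htp).2 (hplus hsq)⟩
          · rcases hR with hR | ⟨-, hR, -⟩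
            · exact absurd (hs1.2 hR) hsq
            · exact ⟨min m (b - 1), min_le_left _ _, by omega, by omega, fun h => absurd h (by omega), fun h => absurd h (by omega)⟩
        · omega
        · omega
      · refine hneg _ hI hTT ?_
        obtain ⟨k, hk, hkp, -, -⟩ := CfsgLib.Perm.Elusive.negsq_sub h2 hI hTT (fun _ _ => Submodule.mem_top)
          (CfsgLib.Perm.Elusive.qnd_top hQ)
        rw [finrank_top, hV] at hk
        obtain rfl : k = d := by omega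
        have h2d := (CfsgLib.Perm.Elusive.negsq_omega_iff h2 hQ hcard (by omega) (CfsgLib.Perm.Elusive.mem_iso_of_omega hx)
          fun v => by have := hTT v; rwa [Matrix.toLin'_apply, Matrix.toLin'_apply] at this).1 hx
        rcases hR with ⟨-, -, hR | ⟨-, -, hR | hR⟩⟩ | ⟨-, h', -⟩ | ⟨-, h', -⟩
        · exact Or.inl (hs1.2 hR)
        · exact Or.inr hR
        · exact Or.inl ((hkp.1 htp).resolve_right fun h => by have := Nat.even_iff.1 h; omega)
        · omega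
        · omega
  have hr3 : 2 < r := by have := (Fact.out : r.Prime).two_le; omega
  rw [CfsgLib.Perm.Elusive.elusive_scalar_iff hr2 hQ (by omega) fun W => Module.finrank F ↥W = m ∧ ∀ w ∈ W, Q w = 0,
    CfsgLib.Perm.Elusive.singular_iff (p := p) hrp hr2 hQ hV hi hc (D := d) hm (by omega) (fun a => ⟨fun h => by omega, fun h => ⟨by omega, fun _ => htp⟩⟩) hrΩ]
  obtain ⟨hipos, -, -, -⟩ := CfsgLib.Perm.Elusive.block_power (F := F) (p := p) hrp hr2 hi hc
  have hn : ¬ Odd (2 * d) := Nat.not_odd_iff_even.2 (even_two_mul d)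
  rcases Nat.even_or_odd i with hev | ho
  · rw [if_pos hev] at hc
    subst hc
    have hno : ¬ Odd c := Nat.not_odd_iff_even.2 hev
    simp only [hn, false_or, htp, true_iff, hno, false_and, Nat.not_even_iff_odd, hev, true_and]
    constructor
    · rintro ⟨him, hle, ⟨h0, h1, h2, h3⟩ | ⟨h1, h2⟩ | ⟨h1, h2⟩⟩
      · exact Or.inr (Or.inr ⟨hrp, hr3, him, hle, Or.inl ⟨h2, h0, h1, h3⟩⟩)
      · exact Or.inr (Or.inr ⟨hrp, hr3, him, hle, Or.inr (Or.inl ⟨h2, h1⟩)⟩)
      · exact Or.inr (Or.inr ⟨hrp, hr3, him, hle, Or.inr (Or.inr ⟨h2, h1⟩)⟩)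
    · rintro (⟨h', -⟩ | h' | ⟨-, -, him, hle, ⟨h2, h0, h1, h3⟩ | ⟨h2, h1⟩ | ⟨h2, h1⟩⟩)
      · omega
      · exact absurd h'.2.2 id
      · exact ⟨him, hle, Or.inl ⟨h0, h1, h2, h3⟩⟩
      · exact ⟨him, hle, Or.inr (Or.inl ⟨h1, h2⟩)⟩
      · exact ⟨him, hle, Or.inr (Or.inr ⟨h1, h2⟩)⟩
  · have hne : ¬ Even i := Nat.not_even_iff_odd.2 ho
    rw [if_neg hne] at hc
    subst hc
    rw [Nat.mul_mod_mul_left 2 d i]
    simp only [ho, hne, true_and, false_and, and_false, or_false]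
    constructor
    · rintro ⟨him, h'⟩
      exact Or.inr ⟨hrp, hr3, him, by omega⟩
    · rintro (⟨h', -⟩ | ⟨-, -, him, hl⟩)
      · omega
      · exact ⟨him, by omega⟩

end Cfsg.Agent.S5973
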