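import Cfsg.Statements.S5974
-- import your own Cfsg.Agent.* helpers here
import Mathlib
import Cfsg.Agent.Lib.Perm.Elusive.OrthTwoElements

set_option autoImplicit false
set_option linter.all false
open scoped MatrixGroups
open Cfsg

namespace Cfsg.Agent.S5974

/-- Elements of prime order of PΩ⁺_n(q), n = 2d ≥ 8, with no fixed nondegenerate hyperbolic `m`-space. Here `T = PΩ⁺_n(q)` is realised through `Ω⁺_n(q)`, the commutator subgroup of the isometry group of `Q = Σ xᵢyᵢ` over the field `F` with `q` elements; an element of `T` of prime order `r` is an element `x` of `Ω⁺_n(q)` with `x^r` scalar and `x` not scalar. A hyperbolic `m`-space is a subspace `W` of even dimension `m` on which the polar form of `Q` is nondegenerate and which contains a totally singular subspace of dimension `m/2`. Let `m` be even with `2 ≤ m < n/2`, and let `r` be a prime dividing the number of hyperbolic `m`-spaces, with `r = 2` or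 `r ≠ p`. For `r ≠ p` let `i` be the multiplicative order of `q` modulo `r`, `c = i` for `i` even and `c = 2i` for `i` odd, and write `k = n mod c`, `ℓ' = m mod c`. Then every element of `T` of order `r` fixes some hyperbolic `m`-space if and only if one of: (i) `r = 2` and (`n ≡ 2 (mod 4)`, or `m ≡ 0 (mod 4)`, or `q ≡ 1 (mod 4)`); (ii) `r ≠ p` odd, `i` odd, `c ≤ m` and `k ≥ ℓ'`; (iii) `r ≠ p` odd, `i` even, and either `k = 0` and (`n/i` odd, or `ℓ' = 0` and `m/i` even), or `i ≤ m` and (`k > ℓ' > 0`, or `k = ℓ' > 0` and `(n + m − 2k)/i` even, or `k > ℓ' = 0` and `m/i` even). -/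
theorem result {F : Type*} [Field F] [Fintype F] {p : ℕ} [Fact p.Prime] [CharP F p] {q : ℕ} (hq : Fintype.card F = q)
    (d m : ℕ) (hd : 4 ≤ d) (hm : 2 ≤ m) (hme : Even m) (hmd : m < d)
    (r : ℕ) [Fact r.Prime] (hr : r = 2 ∨ r ≠ p)
    (hrΩ : r ∣ Nat.card {W : Submodule F (Fin d ⊕ Fin d → F) // (Module.finrank F ↥W = m ∧ (∀ u ∈ W, u ≠ 0 → ∃ v ∈ W, QuadraticMap.polar (Cfsg.quadFormPlus d F) u v ≠ 0) ∧
          ∃ U : Submodule F (Fin d ⊕ Fin d → F), U ≤ W ∧ 2 * Module.finrank F ↥U = m ∧ ∀ u ∈ U, Cfsg.quadFormPlus d F u = 0)})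
    (i c : ℕ) (hi : i = orderOf (q : ZMod r)) (hc : c = if Even i then i else 2 * i) :
    (∀ x : GL (Fin d ⊕ Fin d) F, x ∈ Cfsg.Geo.omegaGL (Cfsg.quadFormPlus d F) →
      (∃ z : F, ((x ^ r : GL (Fin d ⊕ Fin d) F) : Matrix (Fin d ⊕ Fin d) (Fin d ⊕ Fin d) F) = z • (1 : Matrix (Fin d ⊕ Fin d) (Fin d ⊕ Fin d) F)) →
      (∀ z : F, (x : Matrix (Fin d ⊕ Fin d) (Fin d ⊕ Fin d) F) ≠ z • (1 : Matrix (Fin d ⊕ Fin d) (Fin d ⊕ Fin d) F)) →
      ∃ W : Submodule F (Fin d ⊕ Fin d → F), (Module.finrank F ↥W = m ∧ (∀ u ∈ W, u ≠ 0 → ∃ v ∈ W, QuadraticMap.polar (Cfsg.quadFormPlus d F) u v ≠ 0) ∧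
          ∃ U : Submodule F (Fin d ⊕ Fin d → F), U ≤ W ∧ 2 * Module.finrank F ↥U = m ∧ ∀ u ∈ U, Cfsg.quadFormPlus d F u = 0) ∧
        W.map (Matrix.toLin' (x : Matrix (Fin d ⊕ Fin d) (Fin d ⊕ Fin d) F)) ≤ W) ↔
    ((r = 2 ∧ ((2 * d) % 4 = 2 ∨ m % 4 = 0 ∨ q % 4 = 1)) ∨
     (r ≠ p ∧ 2 < r ∧ Odd i ∧ c ≤ m ∧ m % c ≤ (2 * d) % c) ∨
     (r ≠ p ∧ 2 < r ∧ Even i ∧
       (((2 * d) % c = 0 ∧ (Odd ((2 * d) / i) ∨ (m % c = 0 ∧ Even (m / i)))) ∨
        (i ≤ m ∧ ((m % c < (2 * d) % c ∧ 0 < m % c) ∨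
                  ((2 * d) % c = m % c ∧ 0 < m % c ∧ Even ((2 * d + m - 2 * ((2 * d) % c)) / i)) ∨
                  (0 < (2 * d) % c ∧ m % c = 0 ∧ Even (m / i))))))) := by
  classical
  subst hq
  obtain ⟨Q, hQdef⟩ : ∃ Q, Q = CfsgLib.Classical.plusQ d F := ⟨_, rfl⟩
  have hQc : Cfsg.quadFormPlus d F = ⇑Q := by rw [hQdef, CfsgLib.Classical.plusQ_coe]
  have hQ : (QuadraticMap.polarBilin Q).Nondegenerate := hQdef ▸ CfsgLib.Classical.plusQ_nondeg d
  have htp : CfsgLib.Perm.Elusive.QPlus Q ⊤ := hQdef ▸ CfsgLib.Perm.Elusive.qplus_top_plusQ d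
  have hcard : Fintype.card (Fin d ⊕ Fin d) = 2 * d := by rw [Fintype.card_sum, Fintype.card_fin]; omega
  have hV : Module.finrank F (Fin d ⊕ Fin d → F) = 2 * d := by rw [Module.finrank_fintype_fun_eq_card, hcard]
  obtain ⟨P, hPdef⟩ : ∃ P : Submodule F (Fin d ⊕ Fin d → F) → Prop, ∀ W, P W ↔
      (Module.finrank F ↥W = m ∧ CfsgLib.Perm.Elusive.QNd Q W ∧ (CfsgLib.Perm.Elusive.QPlus Q W ↔ True)) :=
    ⟨_, fun W => Iff.rfl⟩
  have hP : ∀ W : Submodule F (Fin d ⊕ Fin d → F), (Module.finrank F ↥W = m ∧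
      (∀ u ∈ W, u ≠ 0 → ∃ v ∈ W, QuadraticMap.polar (⇑Q) u v ≠ 0) ∧
      ∃ U : Submodule F (Fin d ⊕ Fin d → F), U ≤ W ∧ 2 * Module.finrank F ↥U = m ∧ ∀ u ∈ U, Q u = 0) ↔ P W := fun W => by
    rw [hPdef, CfsgLib.Perm.Elusive.qnd_iff, iff_true]
    constructor
    · rintro ⟨h1, h2, U, hU, hUd, hU0⟩
      exact ⟨h1, h2, U, hU, hU0, h1 ▸ hUd⟩
    · rintro ⟨h1, h2, U, hU, hU0, hUd⟩
      exact ⟨h1, h2, U, hU, h1 ▸ hUd, hU0⟩
  rw [hQc] at hrΩ ⊢
  simp only [hP] at hrΩ ⊢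
  obtain ⟨h, hh⟩ := id hme
  by_cases hr2 : r = 2
  · subst hr2
    by_cases hp2 : p = 2
    · subst hp2
      have h20 : (2 : F) = 0 := CharTwo.two_eq_zero
      obtain ⟨n, -, hn⟩ := FiniteField.card F 2
      have hq2 : Fintype.card F % 2 = 0 := by
        rw [hn]; exact Nat.mod_eq_zero_of_dvd (dvd_pow_self 2 n.pos.ne')
      rw [CfsgLib.Perm.Elusive.two_char_iff h20 hQ (by omega) P]
      constructor
      · intro hL
        refine Or.inl ⟨rfl, ?_⟩
        by_contra hno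
        push Not at hno
        obtain ⟨T, hI, hTT, hev, hT1, hall⟩ :=
          CfsgLib.Perm.Elusive.exists_invol_plus_obstruction (F := F) (d := d) (Nat.even_iff.2 (by omega)) (by omega)
        rw [← hQdef] at hI hall
        obtain ⟨W, hW, hWi⟩ := hL T hI hTT hev hT1
        obtain ⟨h1, h2, -⟩ := (hPdef W).1 hW
        obtain ⟨s, hs⟩ := hall W hWi h2 h (by omega)
        omega
      · intro hR T hI hTT hev hT1
        obtain ⟨W, h1, h2, h3, h4⟩ := CfsgLib.Perm.Elusive.exists_invol_plus h20 hQ hI hTT hev hV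
          (g := h) (by omega) (by omega) (by
            rcases hR with ⟨-, h' | h' | h'⟩ | h' | h'
            · exact Or.inr (iff_of_true htp (Nat.odd_iff.2 (by omega)))
            · exact Or.inl (Nat.even_iff.2 (by omega))
            · omega
            · omega
            · omega)
        exact ⟨W, (hPdef W).2 ⟨by omega, h2, iff_of_true h4 trivial⟩, h1⟩
    have hodd : Odd (Fintype.card F) := by
      obtain ⟨n, hp', hn⟩ := FiniteField.card F p
      rw [hn]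
      exact (hp'.odd_of_ne_two hp2).pow
    have h2 : (2 : F) ≠ 0 := CfsgLib.Orth.two_ne_zero_of_odd hodd
    obtain ⟨hs1, -⟩ := CfsgLib.Perm.Elusive.square_congr (F := F) hodd
    obtain ⟨W₀, -, hW₀n, hW₀f, hW₀p⟩ := CfsgLib.Perm.Elusive.exists_sub_type (CfsgLib.Perm.Elusive.qnd_top hQ) (h := h)
      (by omega) (by rw [finrank_top, hV]; omega) True
    rw [CfsgLib.Perm.Elusive.two_elusive_iff h2 hQ hcard (by omega) P]
    swap
    · intro T hI hT hT1 hT2
      obtain ⟨W, hW, hWn, hWf, e, he⟩ := CfsgLib.Perm.Elusive.invol_fixed h2 hQ hI hT hT1 hT2 (by omega) hW₀n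
        (by omega) (by omega)
      exact ⟨W, (hPdef W).2 ⟨by omega, hWn, iff_of_true
        ((CfsgLib.Perm.Elusive.qplus_iso_iff e he).2 (hW₀p.2 trivial)) trivial⟩, hW⟩
    constructor
    · intro hL
      refine Or.inl ⟨rfl, ?_⟩
      by_contra hno
      push Not at hno
      have hde : Even d := Nat.even_iff.2 (by omega)
      obtain ⟨d', hd'⟩ : ∃ d', d = d' + 1 := ⟨d - 1, by omega⟩
      obtain ⟨T, hI, hT⟩ := CfsgLib.Perm.Elusive.negsq_exists h2 hQ (d := d') (by rw [hV, hd'])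
        (iff_of_true htp (Or.inr (hd' ▸ hde)))
      obtain ⟨W, hW, hWi⟩ := hL ⟨iff_of_true htp (Or.inr hde), Or.inl hde⟩ T hI hT
      obtain ⟨h1, h2', h3⟩ := (hPdef W).1 hW
      obtain ⟨k, hk, hkp, -⟩ := CfsgLib.Perm.Elusive.negsq_sub h2 hI hT hWi h2'
      rcases hkp.1 (h3.2 trivial) with h' | ⟨k', hk'⟩
      · have := hs1.1 h'; omega
      · omega
    · intro hR hex T hI hT
      obtain ⟨k, hk, -, hall, -⟩ := CfsgLib.Perm.Elusive.negsq_sub h2 hI hT (S := ⊤)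
        (fun _ _ => Submodule.mem_top) (CfsgLib.Perm.Elusive.qnd_top hQ)
      rw [finrank_top, hV] at hk
      obtain ⟨W, -, hWi, hWn, hWd⟩ := hall h (by omega)
      obtain ⟨k₀, hk₀, hkp, -⟩ := CfsgLib.Perm.Elusive.negsq_sub h2 hI hT hWi hWn
      refine ⟨W, (hPdef W).2 ⟨by omega, hWn, iff_of_true (hkp.2 ?_) trivial⟩, hWi⟩
      obtain rfl : k₀ = h := by omega
      rcases hR with ⟨-, h' | h' | h'⟩ | h' | h'
      · exact Or.inl ((hex.1.1 htp).resolve_right fun ⟨t, ht⟩ => by omega)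
      · exact Or.inr (Nat.even_iff.2 (by omega))
      · exact Or.inl (hs1.2 h')
      · omega
      · omega
  have hr3 : 2 < r := by have := (Fact.out : r.Prime).two_le; omega
  have hrp : r ≠ p := hr.resolve_left hr2
  rw [CfsgLib.Perm.Elusive.elusive_scalar_iff hr2 hQ (by omega) P]
  simp only [hPdef] at hrΩ ⊢
  rw [CfsgLib.Perm.Elusive.even_elusive_iff (p := p) hrp hr2 hQ hi hc True hV hme (by omega) (by omega) hrΩ]
  obtain ⟨-, hcpos, -, -⟩ := CfsgLib.Perm.Elusive.block_power (F := F) (p := p) hrp hr2 hi hc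
  by_cases hev : Even i
  · rw [if_pos hev] at hc
    subst hc
    have hno : ¬ Odd c := Nat.not_odd_iff_even.2 hev
    simp only [hno, false_or, htp, true_iff, Nat.not_even_iff_odd]
    have hdiv : m % c = (2 * d) % c → (2 * d + m - 2 * ((2 * d) % c)) / c = (2 * d) / c + m / c := fun he => by
      have e1 := Nat.div_add_mod (2 * d) c
      have e2 := Nat.div_add_mod m c
      rw [show 2 * d + m - 2 * (2 * d % c) = c * (2 * d / c + m / c) by rw [Nat.mul_add]; omega]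
      exact Nat.mul_div_cancel_left _ hcpos
    constructor
    · rintro (⟨hρ, hcm, ⟨hlt, h0⟩ | ⟨he, hb⟩⟩ | ⟨h0, h'⟩)
      · refine Or.inr (Or.inr ⟨hrp, hr3, hev, Or.inr ⟨hcm, ?_⟩⟩)
        rcases Nat.eq_zero_or_pos (m % c) with h' | h'
        · exact Or.inr (Or.inr ⟨hρ, h', h0 h'⟩)
        · exact Or.inl ⟨hlt, h'⟩
      · refine Or.inr (Or.inr ⟨hrp, hr3, hev, Or.inr ⟨hcm, Or.inr (Or.inl ⟨he.symm, by omega, ?_⟩)⟩⟩)
        rw [hdiv he, Nat.even_add]
        exact hb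
      · exact Or.inr (Or.inr ⟨hrp, hr3, hev, Or.inl ⟨h0, h'⟩⟩)
    · rintro (h' | ⟨-, -, ho, -⟩ | ⟨-, -, -, ⟨h0, h'⟩ | ⟨hcm, h'⟩⟩)
      · omega
      · exact ho.elim
      · exact Or.inr ⟨h0, h'⟩
      · rcases h' with ⟨hlt, hp0⟩ | ⟨he, hp0, hsum⟩ | ⟨hρ, h0, hM⟩
        · exact Or.inl ⟨by omega, hcm, Or.inl ⟨hlt, fun h'' => by omega⟩⟩
        · refine Or.inl ⟨by omega, hcm, Or.inr ⟨he.symm, ?_⟩⟩
          rw [hdiv he.symm, Nat.even_add] at hsum
          exact hsum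
        · exact Or.inl ⟨hρ, hcm, Or.inl ⟨by omega, fun _ => hM⟩⟩
  · have ho := Nat.not_even_iff_odd.1 hev
    simp only [ho, true_or, htp, iff_true, not_true, false_or, imp_true_iff, and_true]
    constructor
    · rintro (⟨hρ, hcm, hl⟩ | ⟨hρ, hl⟩)
      · exact Or.inr (Or.inl ⟨hrp, hr3, trivial, hcm, by rcases hl with hl | hl <;> omega⟩)
      · exact Or.inr (Or.inl ⟨hrp, hr3, trivial, Nat.le_of_dvd (by omega) (Nat.dvd_of_mod_eq_zero hl), by omega⟩)
    · rintro (h' | ⟨-, -, -, hcm, hl⟩ | ⟨-, -, he, -⟩)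
      · omega
      · rcases Nat.eq_zero_or_pos (2 * d % c) with h' | h'
        · exact Or.inr ⟨h', by omega⟩
        · exact Or.inl ⟨h', hcm, hl.lt_or_eq⟩
      · exact absurd he hev

end Cfsg.Agent.S5974
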