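import Cfsg.Statements.S5975
-- import your own Cfsg.Agent.* helpers here
import Mathlib
import Cfsg.Agent.Lib.Perm.Elusive.OverFieldSymp
import Cfsg.Agent.Lib.Perm.Elusive.OverFieldElements
import Cfsg.Agent.Lib.Perm.Elusive.OrthElusive

set_option autoImplicit false
set_option linter.all false
open scoped MatrixGroups Matrix
open scoped Matrix
open Cfsg

namespace Cfsg.Agent.S5975

/-- Elements of prime order of PSp_n(q) and the field-extension subgroups of type Sp_{n/k}(q^k). Here `T = PSp_{2d}(F)` for a field `F` with `q` elements (`d ≥ 2`, `(d, q) ≠ (2, 2)`), realised through the matrices preserving the standard alternating form `f`; `k` is a prime and `K` is a subalgebra of the `2d × 2d` matrices that is a field of degree `k` over `F` whose elements are self-adjoint for `f` and satisfy `f(a v, v) = 0` (so `F^{2d}` becomes a vector space over `K ≅ F_{q^k}` on which `f` is the trace of a `K`-bilinear alternating form); `H` is the subgroup of `T` normalizing `K`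 — the symplectic maps that are `K`-linear or `K`-semilinear, a subgroup of type Sp_{2d/k}(q^k) (maximality is not assumed). Ω is the set of cosets of `H` in `T`, so an element of `T` of prime order `r` (`x ∈ T` with `x^r` scalar, `x` not scalar) fixes a point of Ω exactly when some `T`-conjugate of `x` normalizes `K`. Let `r` be a prime dividing the index of `H`. Then every element of `T` of order `r` fixes a point of Ω if and only if `r = 2`, `d = 2`, `k = 2` and `q` is odd. -/
theorem result {F : Type*} [Field F] [Fintype F] {p : ℕ} [Fact p.Prime] [CharP F p] {q : ℕ} (hq : Fintype.card F = q)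
    (d : ℕ) (hd : 2 ≤ d) (hT : (d, q) ≠ (2, 2)) (k : ℕ) (hk : k.Prime)
    (K : Subalgebra F (Matrix (Fin d ⊕ Fin d) (Fin d ⊕ Fin d) F)) (hK : Cfsg.Geo.IsFieldSubalgebra k K)
    (hKf : Cfsg.Geo.IsSelfAdjointFor (Cfsg.sympForm d F) K) (hKalt : ∀ a ∈ K, ∀ v : Fin d ⊕ Fin d → F, Cfsg.sympForm d F (a *ᵥ v) v = 0)
    (r : ℕ) [Fact r.Prime]
    (hΩ : r ∣ (Cfsg.Geo.subalgebraNormalizer K).relIndex (Cfsg.spGL d F)) :
    (∀ x ∈ Cfsg.spGL d F, (∃ z : F, ((x ^ r : GL (Fin d ⊕ Fin d) F) : Matrix (Fin d ⊕ Fin d) (Fin d ⊕ Fin d) F) = z • (1 : Matrix (Fin d ⊕ Fin d) (Fin d ⊕ Fin d) F)) →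
      (∀ z : F, (x : Matrix (Fin d ⊕ Fin d) (Fin d ⊕ Fin d) F) ≠ z • (1 : Matrix (Fin d ⊕ Fin d) (Fin d ⊕ Fin d) F)) →
      ∃ g ∈ Cfsg.spGL d F, g⁻¹ * x * g ∈ Cfsg.Geo.subalgebraNormalizer K) ↔
    (r = 2 ∧ d = 2 ∧ k = 2 ∧ Odd q) := by
  classical
  subst hq
  have hk2 := hk.two_le
  haveI : Nonempty (Fin d ⊕ Fin d) := ⟨.inl ⟨0, by omega⟩⟩
  obtain ⟨B, hB⟩ : ∃ B, B = CfsgLib.Classical.SympCount.sB d F := ⟨_, rfl⟩
  have hBf : ∀ u v, B u v = Cfsg.sympForm d F u v := fun u v => by rw [hB]; rfl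
  have hA : B.IsAlt := hB ▸ CfsgLib.Classical.SympCount.sB_isAlt
  have hN : B.Nondegenerate := hB ▸ CfsgLib.Classical.SympCount.sB_nondegenerate
  obtain ⟨e, hde, hdvd⟩ := CfsgLib.Perm.Elusive.OverField.symp_descent (by omega) hK hKf hKalt
  have he1 : 0 < e := Nat.pos_of_ne_zero fun h => by rw [h, mul_zero] at hde; omega
  have hkd : k ≤ d := hde ▸ Nat.le_mul_of_pos_right k he1
  have hV : Module.finrank F (Fin d ⊕ Fin d → F) = 2 * d := CfsgLib.Perm.Elusive.OverField.finrank_std
  obtain ⟨ρ, hρ⟩ : ∃ ρ : K → Module.End F (Fin d ⊕ Fin d → F), ∀ a v, ρ a v = a.1 *ᵥ v :=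
    ⟨fun a => Matrix.toLin' a.1, fun a v => Matrix.toLin'_apply a.1 v⟩
  -- conjugates of an element and their eigenspaces
  have hcase : ∀ (x g : GL (Fin d ⊕ Fin d) F) (n : ℕ), n.Prime → x ^ n = 1 → x ∈ Cfsg.spGL d F → g ∈ Cfsg.spGL d F →
      g⁻¹ * x * g ∈ Cfsg.Geo.subalgebraNormalizer K → ∀ D, D = Module.finrank F (LinearMap.ker
        (Matrix.toLin' (x : Matrix (Fin d ⊕ Fin d) (Fin d ⊕ Fin d) F) - 1)) →
      (k ∣ D ∧ (n = 2 → (2 : F) ≠ 0 → D = 2 → False)) ∨ (n = k ∧ D * k ≤ 2 * d ∧ Module.finrank F (LinearMap.ker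
        (Matrix.toLin' (x : Matrix (Fin d ⊕ Fin d) (Fin d ⊕ Fin d) F) + 1)) * k ≤ 2 * d) := by
    intro x g n hn hxn hx hg hgx D hD
    letI : Field K := (CfsgLib.Perm.Elusive.OverField.isField_sub hK).toField
    haveI : Finite K := Subtype.finite
    haveI : FiniteDimensional F K := Module.Finite.of_finite
    obtain ⟨τ, hτ⟩ : ∃ τ : K →ₐ[F] Module.End F (Fin d ⊕ Fin d → F), ∀ a v, τ a v = a.1 *ᵥ v :=
      ⟨(Matrix.toLinAlgEquiv' : Matrix (Fin d ⊕ Fin d) (Fin d ⊕ Fin d) F ≃ₐ[F] _).toAlgHom.comp K.val,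
        fun a v => Matrix.toLin'_apply a.1 v⟩
    obtain ⟨y, hy⟩ : ∃ y, y = g⁻¹ * x * g := ⟨_, rfl⟩
    rw [← hy] at hgx
    have hyn : y ^ n = 1 := by
      rw [hy, show (g⁻¹ * x * g) ^ n = g⁻¹ * x ^ n * g by simpa using conj_pow (a := g⁻¹) (b := x) (i := n), hxn,
        mul_one, inv_mul_cancel]
    obtain ⟨T, hT⟩ : ∃ T, T = Matrix.toLin' (y : Matrix (Fin d ⊕ Fin d) (Fin d ⊕ Fin d) F) := ⟨_, rfl⟩
    have hys : y ∈ Cfsg.spGL d F :=
      hy ▸ (Cfsg.spGL d F).mul_mem ((Cfsg.spGL d F).mul_mem ((Cfsg.spGL d F).inv_mem hg) hx) hg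
    have hTD : Module.finrank F (LinearMap.ker (T - 1)) = D := by
      have h := CfsgLib.Perm.Elusive.OverField.finrank_ker_conj g x (Polynomial.X - 1 : Polynomial F)
      rw [map_sub, map_sub, Polynomial.aeval_X, Polynomial.aeval_X, map_one, map_one] at h
      rw [hT, hy, h, hD]
    have hTE : Module.finrank F (LinearMap.ker (T + 1)) = Module.finrank F (LinearMap.ker
        (Matrix.toLin' (x : Matrix (Fin d ⊕ Fin d) (Fin d ⊕ Fin d) F) + 1)) := by
      have h := CfsgLib.Perm.Elusive.OverField.finrank_ker_conj g x (Polynomial.X + 1 : Polynomial F)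
      rw [map_add, map_add, Polynomial.aeval_X, Polynomial.aeval_X, map_one, map_one] at h
      rw [hT, hy, h]
    rcases CfsgLib.Perm.Elusive.OverField.normalizer_dichotomy hk hK hgx hn hyn with hlin | ⟨hnk, σ, hσ, hsemi⟩
    · have hcomm : ∀ a v, T (τ a v) = τ a (T v) := fun a v => by
        rw [hτ, hτ, hT, Matrix.toLin'_apply, Matrix.toLin'_apply, Matrix.mulVec_mulVec, Matrix.mulVec_mulVec, hlin _ a.2]
      have hst : ∀ a, ∀ v ∈ LinearMap.ker (T - 1), τ a v ∈ LinearMap.ker (T - 1) := fun a v hv => by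
        rw [LinearMap.mem_ker, LinearMap.sub_apply, Module.End.one_apply, sub_eq_zero] at hv ⊢
        rw [hcomm, hv]
      have hdiv : k ∣ D := by
        rw [← hTD, ← hK.finrank_eq]
        exact CfsgLib.Perm.Elusive.OverField.finrank_dvd τ hst
      by_cases h2 : n = 2
      · refine Or.inl ⟨hdiv, fun _ h20 hD2 => ?_⟩
        have hTT : ∀ v, T (T v) = v := fun v => by
          rw [hT, Matrix.toLin'_apply, Matrix.toLin'_apply, Matrix.mulVec_mulVec, ← Units.val_mul, ← sq, ← h2, hyn,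
            Units.val_one, Matrix.one_mulVec]
        obtain ⟨-, -, hAn, -⟩ := CfsgLib.Perm.Elusive.OverField.invol_eigen h20 hA hN (T := T)
          (fun u v => by rw [hBf, hBf, hT, Matrix.toLin'_apply, Matrix.toLin'_apply]; exact hys u v) hTT
        obtain ⟨u, hu, hu0⟩ := Submodule.exists_mem_ne_zero_of_ne_bot (p := LinearMap.ker (T - 1)) fun h => by
          rw [h, finrank_bot] at hTD; omega
        obtain ⟨a, ha⟩ : ∃ a : K, ∀ c : F, a ≠ algebraMap F K c := by
          by_contra hno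
          push Not at hno
          have h := LinearMap.finrank_le_finrank_of_injective (f := (LinearMap.id : K →ₗ[F] K)) Function.injective_id
          have h1 : Module.finrank F K ≤ 1 := finrank_le_one (1 : K) fun w => by
            obtain ⟨c, hc⟩ := hno w
            exact ⟨c, by rw [hc, Algebra.algebraMap_eq_smul_one]⟩
          rw [hK.finrank_eq] at h1
          omega
        have hli : LinearIndependent F ![u, τ a u] := LinearIndependent.pair_iff.2 fun s t h => by
          by_cases ht : t = 0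
          · rw [ht, zero_smul, add_zero, smul_eq_zero] at h
            exact ⟨h.resolve_right hu0, ht⟩
          · exfalso
            refine ha (-(s / t)) ?_
            by_contra hne
            have hz : τ (a - algebraMap F K (-(s / t))) u = 0 := by
              rw [map_sub, LinearMap.sub_apply, AlgHom.commutes, Module.algebraMap_end_apply, neg_smul, sub_neg_eq_add]
              have : t • (τ a u + (s / t) • u) = 0 := by
                rw [smul_add, smul_smul, mul_div_cancel₀ _ ht, add_comm]; exact h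
              exact (smul_eq_zero.1 this).resolve_left ht
            have h3 := congrArg (τ (a - algebraMap F K (-(s / t)))⁻¹) hz
            rw [← Module.End.mul_apply, ← map_mul, inv_mul_cancel₀ (sub_ne_zero.2 hne), map_one, map_zero,
              Module.End.one_apply] at h3
            exact hu0 h3
        have hspan : Submodule.span F (Set.range ![u, τ a u]) = LinearMap.ker (T - 1) := by
          refine Submodule.eq_of_le_of_finrank_eq (Submodule.span_le.2 ?_) (by
            rw [finrank_span_eq_card hli, hTD, hD2, Fintype.card_fin])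
          rintro _ ⟨j, rfl⟩
          fin_cases j
          · exact hu
          · exact hst a u hu
        refine hu0 (Submodule.disjoint_def.1 hAn u hu fun w hw => ?_)
        obtain ⟨c, rfl⟩ := (Submodule.mem_span_range_iff_exists_fun F).1 (hspan.ge hw)
        show B (∑ j, c j • ![u, τ a u] j) u = 0
        simp only [Fin.sum_univ_two, Matrix.cons_val_zero, Matrix.cons_val_one, map_add, map_smul, LinearMap.add_apply,
          LinearMap.smul_apply, hA u, hBf, hτ, hKalt _ a.2 u, smul_zero, add_zero]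
      · exact Or.inl ⟨hdiv, fun h => absurd h h2⟩
    · refine Or.inr ⟨hnk, ?_, ?_⟩
      · have h := CfsgLib.Perm.Elusive.OverField.finrank_fixed_semilinear τ (T := T) σ hσ fun a v => by
          rw [hτ, hτ, hT, Matrix.toLin'_apply, Matrix.toLin'_apply, Matrix.mulVec_mulVec, Matrix.mulVec_mulVec, hsemi]
        rwa [hK.finrank_eq, hV, hTD] at h
      · have h := CfsgLib.Perm.Elusive.OverField.finrank_fixed_semilinear τ (T := -T) σ hσ fun a v => by
          rw [LinearMap.neg_apply, LinearMap.neg_apply, map_neg, hτ, hτ, hT, Matrix.toLin'_apply, Matrix.toLin'_apply,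
            Matrix.mulVec_mulVec, Matrix.mulVec_mulVec, hsemi]
        rw [show LinearMap.ker (-T - 1) = LinearMap.ker (T + 1) by
          rw [show -T - 1 = -(T + 1) by abel, LinearMap.ker_neg]] at h
        rwa [hK.finrank_eq, hV, hTE] at h
  have hsp : ∀ {x g : GL (Fin d ⊕ Fin d) F}, x ∈ Cfsg.spGL d F → g ∈ Cfsg.spGL d F → g⁻¹ * x * g ∈ Cfsg.spGL d F :=
    fun hx hg => (Cfsg.spGL d F).mul_mem ((Cfsg.spGL d F).mul_mem ((Cfsg.spGL d F).inv_mem hg) hx) hg
  have hnotscalar : ∀ (x : GL (Fin d ⊕ Fin d) F) (D : ℕ),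
      D = Module.finrank F (LinearMap.ker (Matrix.toLin' (x : Matrix (Fin d ⊕ Fin d) (Fin d ⊕ Fin d) F) - 1)) →
      0 < D → D < 2 * d → ∀ z : F, (x : Matrix (Fin d ⊕ Fin d) (Fin d ⊕ Fin d) F) ≠ z • 1 := by
    intro x D hD hD0 hD1 z hz
    have hb : ∀ v, (Matrix.toLin' (x : Matrix (Fin d ⊕ Fin d) (Fin d ⊕ Fin d) F) - 1) v = (z - 1) • v := fun v => by
      rw [LinearMap.sub_apply, Matrix.toLin'_apply, hz, Matrix.smul_mulVec, Matrix.one_mulVec, Module.End.one_apply]
      module
    by_cases hz1 : z - 1 = 0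
    · rw [show LinearMap.ker (Matrix.toLin' (x : Matrix (Fin d ⊕ Fin d) (Fin d ⊕ Fin d) F) - 1) = ⊤ from
        eq_top_iff.2 fun v _ => LinearMap.mem_ker.2 (by rw [hb, hz1, zero_smul]), finrank_top, hV] at hD
      omega
    · rw [show LinearMap.ker (Matrix.toLin' (x : Matrix (Fin d ⊕ Fin d) (Fin d ⊕ Fin d) F) - 1) = ⊥ from
        LinearMap.ker_eq_bot'.2 fun v hv => (smul_eq_zero.1 ((hb v).symm.trans hv)).resolve_left hz1, finrank_bot] at hD
      omega
  by_cases hrp : r = p
  · subst hrp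
    refine iff_of_false (fun hL => ?_) ?_
    swap
    · rintro ⟨h, -, -, hodd⟩
      subst h
      obtain ⟨n, -, hn⟩ := FiniteField.card F 2
      rw [hn] at hodd
      exact Nat.not_even_iff_odd.2 hodd ((Nat.even_pow' n.pos.ne').2 even_two)
    obtain ⟨x, hx, hxr, hxd⟩ := CfsgLib.Perm.Elusive.OverField.exists_transvection (F := F) (d := d) (by omega) r
    obtain ⟨g, hg, hgx⟩ := hL x hx ⟨1, by rw [hxr, Units.val_one, one_smul]⟩ (hnotscalar x _ rfl (by omega) (by omega))
    obtain ⟨D, hD⟩ : ∃ D, D = Module.finrank F (LinearMap.ker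
        (Matrix.toLin' (x : Matrix (Fin d ⊕ Fin d) (Fin d ⊕ Fin d) F) - 1)) := ⟨_, rfl⟩
    rw [← hD] at hxd
    rcases hcase x g r Fact.out hxr hx hg hgx D hD with ⟨hdv, -⟩ | ⟨-, hle, -⟩
    · have h2 : k ∣ D + 1 := by rw [hxd, hde]; exact (dvd_mul_right k e).mul_left 2
      have h1 := (Nat.dvd_add_right hdv).1 h2
      have := Nat.le_of_dvd one_pos h1
      omega
    · have h2 := Nat.mul_le_mul_left D hk2
      omega
  by_cases hr2 : r = 2
  · subst hr2
    have hodd : Odd (Fintype.card F) := by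
      obtain ⟨n, hp', hn⟩ := FiniteField.card F p
      rw [hn]
      exact (hp'.odd_of_ne_two (Ne.symm hrp)).pow
    have h2 : (2 : F) ≠ 0 := CfsgLib.Orth.two_ne_zero_of_odd hodd
    by_cases hd2 : d = 2
    swap
    · refine iff_of_false (fun hL => ?_) fun h => hd2 h.2.1
      obtain ⟨x, hx, hx2, hxA, hxB⟩ := CfsgLib.Perm.Elusive.OverField.exists_invol_one h2 hd
      obtain ⟨g, hg, hgx⟩ := hL x hx ⟨1, by rw [hx2, Units.val_one, one_smul]⟩ (hnotscalar x 2 hxA.symm two_pos (by omega))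
      rcases hcase x g 2 Nat.prime_two hx2 hx hg hgx 2 hxA.symm with ⟨-, h⟩ | ⟨hk', -, hle⟩
      · exact h rfl h2 rfl
      · rw [← hk'] at hle
        omega
    subst hd2
    have hk' : k = 2 := by omega
    subst hk'
    refine iff_of_true ?_ ⟨rfl, rfl, rfl, hodd⟩
    -- a generator of the overfield
    letI : Field K := (CfsgLib.Perm.Elusive.OverField.isField_sub hK).toField
    haveI : Finite K := Subtype.finite
    letI : Fintype K := Fintype.ofFinite K
    have hrc : ringChar F ≠ 2 := fun h => h2 (by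
      haveI : CharP F 2 := ringChar.of_eq h
      exact CharTwo.two_eq_zero)
    obtain ⟨δ, hδ⟩ := FiniteField.exists_nonsquare hrc
    have hδ0 : δ ≠ 0 := fun h => hδ (h ▸ IsSquare.zero)
    obtain ⟨E₀, hE₀⟩ : IsSquare (algebraMap F K δ) := by
      haveI : CharP K p := charP_of_injective_algebraMap (algebraMap F K).injective p
      have hKc : Fintype.card K = Fintype.card F ^ 2 := by rw [Module.card_eq_pow_finrank (K := F), hK.finrank_eq]
      rw [FiniteField.isSquare_iff (by rw [ringChar.eq K p]; exact Ne.symm hrp) ((map_ne_zero _).2 hδ0), hKc, ← map_pow]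
      obtain ⟨t, ht⟩ := hodd
      rw [show Fintype.card F ^ 2 / 2 = (Fintype.card F - 1) * (t + 1) by
        rw [ht, show 2 * t + 1 - 1 = 2 * t by omega, show (2 * t + 1) ^ 2 = 2 * (2 * t * (t + 1)) + 1 by ring]; omega,
        pow_mul, FiniteField.pow_card_sub_one_eq_one δ hδ0, one_pow, map_one]
    obtain ⟨E, hEdef⟩ : ∃ E, E = E₀.1 := ⟨_, rfl⟩
    have hEK : E ∈ K := hEdef ▸ E₀.2
    have hEE : E * E = δ • (1 : Matrix (Fin 2 ⊕ Fin 2) (Fin 2 ⊕ Fin 2) F) := by
      rw [hEdef, ← Algebra.algebraMap_eq_smul_one]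
      exact congrArg Subtype.val hE₀.symm
    have hE1 : ∀ c : F, E₀ ≠ algebraMap F K c := fun c hc => hδ ⟨c, (algebraMap F K).injective (by
      rw [hE₀, hc, ← map_mul])⟩
    have hspan : ∀ a ∈ K, ∃ s t : F, a = s • 1 + t • E := by
      have hli : LinearIndependent F ![(1 : K), E₀] := LinearIndependent.pair_iff.2 fun s t h => by
        by_cases ht : t = 0
        · rw [ht, zero_smul, add_zero, smul_eq_zero] at h
          exact ⟨h.resolve_right one_ne_zero, ht⟩
        · exfalso
          refine hE1 (-(s / t)) ?_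
          rw [Algebra.algebraMap_eq_smul_one, neg_smul, eq_neg_iff_add_eq_zero]
          have : t • (E₀ + (s / t) • (1 : K)) = 0 := by
            rw [smul_add, smul_smul, mul_div_cancel₀ _ ht, add_comm]; exact h
          exact (smul_eq_zero.1 this).resolve_left ht
      have htop := hli.span_eq_top_of_card_eq_finrank (by rw [Fintype.card_fin, hK.finrank_eq])
      intro a ha
      obtain ⟨c, hc⟩ := (Submodule.mem_span_range_iff_exists_fun F).1 (htop.ge (Submodule.mem_top (x := (⟨a, ha⟩ : K))))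
      refine ⟨c 0, c 1, ?_⟩
      have h := congrArg Subtype.val hc
      simpa [Fin.sum_univ_two, hEdef] using h.symm
    obtain ⟨J, hJ⟩ : ∃ J, J = Matrix.toLin' E := ⟨_, rfl⟩
    have hJJ : ∀ v, J (J v) = δ • v := fun v => by
      rw [hJ, Matrix.toLin'_apply, Matrix.toLin'_apply, Matrix.mulVec_mulVec, hEE, Matrix.smul_mulVec, Matrix.one_mulVec]
    have hJs : ∀ u v, B (J u) v = B u (J v) := fun u v => by
      rw [hBf, hBf, hJ, Matrix.toLin'_apply, Matrix.toLin'_apply]; exact hKf E hEK u v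
    have hJa : ∀ v, B (J v) v = 0 := fun v => by rw [hBf, hJ, Matrix.toLin'_apply]; exact hKalt E hEK v
    have hJa' : ∀ v, B v (J v) = 0 := fun v => by rw [← hJs]; exact hJa v
    obtain ⟨u, hu⟩ := exists_ne (0 : Fin 2 ⊕ Fin 2 → F)
    obtain ⟨v₀, hv₀⟩ : ∃ v₀, B u v₀ = 1 := by
      obtain ⟨w, hw⟩ := not_forall.1 fun h => hu (hN.1 u h)
      exact ⟨(B u w)⁻¹ • w, by rw [map_smul, smul_eq_mul, inv_mul_cancel₀ hw]⟩
    obtain ⟨s, hs⟩ : ∃ s, s = B (J u) v₀ := ⟨_, rfl⟩
    have hs' : δ - s * s ≠ 0 := fun h => hδ ⟨s, by linear_combination h⟩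
    obtain ⟨v, huv, hJuv⟩ : ∃ v, B u v = 1 ∧ B (J u) v = 0 := by
      refine ⟨(δ / (δ - s * s)) • v₀ + (-(s / (δ - s * s))) • J v₀, ?_, ?_⟩
      · rw [map_add, map_smul, map_smul, hv₀, ← hJs, ← hs, smul_eq_mul, smul_eq_mul, div_eq_mul_inv, div_eq_mul_inv]
        linear_combination mul_inv_cancel₀ hs'
      · rw [map_add, map_smul, map_smul, ← hs, hJs u (J v₀), hJJ, map_smul, hv₀, smul_eq_mul, smul_eq_mul, smul_eq_mul]
        field_simp
        ring
    have huJv : B u (J v) = 0 := by rw [← hJs]; exact hJuv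
    have hJuJv : B (J u) (J v) = δ := by rw [hJs, hJJ, map_smul, huv, smul_eq_mul, mul_one]
    obtain ⟨c, hc⟩ : ∃ c : Fin 1 ⊕ Fin 1 → F, c = Sum.elim (fun _ => 1) (fun _ => δ) := ⟨_, rfl⟩
    have hc0 : ∀ j, c j ≠ 0 := fun j => by rcases j with j | j <;> simp [hc, hδ0]
    have hsk : ∀ a b, B a b = -B b a := fun a b => (LinearMap.IsAlt.neg hA b a).symm
    have hmk : ∀ a b a' b', B a b = 1 → B a' b' = δ → B a a' = 0 → B a b' = 0 → B b a' = 0 → B b b' = 0 →
        CfsgLib.Perm.Elusive.OverField.IsPairs B c (Sum.elim (fun _ : Fin 1 => a) (fun _ : Fin 1 => a'))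
          (Sum.elim (fun _ : Fin 1 => b) (fun _ : Fin 1 => b')) := fun a b a' b' h1 h3 h4 h5 h6 h7 => by
      refine ⟨fun j => ?_, fun j l => ?_, fun j l => ?_, fun j l hjl => ?_⟩
      · rcases j with j | j <;> simp [hc, h1, h3]
      · rcases j with j | j <;> rcases l with l | l <;> simp [hA a, hA a', h4, hsk a' a]
      · rcases j with j | j <;> rcases l with l | l <;> simp [hA b, hA b', h7, hsk b' b]
      · rcases j with j | j <;> rcases l with l | l
        · exact absurd (congrArg Sum.inl (Subsingleton.elim j l)) hjl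
        · simp [h5]
        · simp [hsk a' b, h6]
        · exact absurd (congrArg Sum.inr (Subsingleton.elim j l)) hjl
    have hH := hmk u v (J u) (J v) huv hJuJv (hJa' u) huJv (by rw [hsk, hJuv, neg_zero]) (hJa' v)
    have hcard : Module.finrank F (Fin 2 ⊕ Fin 2 → F) = 2 * Fintype.card (Fin 1 ⊕ Fin 1) := by
      rw [hV, Fintype.card_sum, Fintype.card_fin]
    -- it suffices to find a normalizing element with the same behaviour on a frame
    have hfin : ∀ (x : GL (Fin 2 ⊕ Fin 2) F) (T : (Fin 2 ⊕ Fin 2 → F) →ₗ[F] (Fin 2 ⊕ Fin 2 → F)),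
        (∃ ε : F, (ε = 1 ∨ ε = -1) ∧ ∀ w, T (J w) = ε • J (T w)) →
        ∀ a b a' b', B a b = 1 → B a' b' = δ → B a a' = 0 → B a b' = 0 → B b a' = 0 → B b b' = 0 →
        (∀ G : (Fin 2 ⊕ Fin 2 → F) ≃ₗ[F] (Fin 2 ⊕ Fin 2 → F), G u = a → G v = b → G (J u) = a' → G (J v) = b' →
          G (T u) = Matrix.toLin' x.1 a ∧ G (T v) = Matrix.toLin' x.1 b ∧ G (T (J u)) = Matrix.toLin' x.1 a' ∧
            G (T (J v)) = Matrix.toLin' x.1 b') →
        ∃ g ∈ Cfsg.spGL 2 F, g⁻¹ * x * g ∈ Cfsg.Geo.subalgebraNormalizer K := by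
      rintro x T ⟨ε, hε, hTJ⟩ a b a' b' h1 h3 h4 h5 h6 h7 hG
      obtain ⟨G, hGB, hGu, hGv⟩ := CfsgLib.Perm.Elusive.OverField.exists_frame_map hA hc0 hH (hmk a b a' b' h1 h3 h4 h5 h6 h7) hcard
      obtain ⟨g, hg, hgv⟩ := CfsgLib.Perm.Elusive.OverField.exists_sp_of_equiv G (hB ▸ hGB)
      obtain ⟨e1, e2, e3, e4⟩ := hG G (hGu (.inl 0)) (hGv (.inl 0)) (hGu (.inr 0)) (hGv (.inr 0))
      have heq : G.toLinearMap.comp T = (Matrix.toLin' x.1).comp G.toLinearMap :=
        CfsgLib.Perm.Elusive.OverField.frame_ext hA hc0 hH hcard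
          (fun j => by
            rcases j with j | j
            · simpa [show G u = a from hGu (.inl 0)] using e1
            · simpa [show G (J u) = a' from hGu (.inr 0)] using e3)
          (fun j => by
            rcases j with j | j
            · simpa [show G v = b from hGv (.inl 0)] using e2
            · simpa [show G (J v) = b' from hGv (.inr 0)] using e4)
      refine ⟨g, hg, CfsgLib.Perm.Elusive.OverField.mem_normalizer_pm hEK hspan ?_⟩
      have hy : ∀ w, (g⁻¹ * x * g : GL (Fin 2 ⊕ Fin 2) F).1 *ᵥ w = T w := fun w => by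
        refine Matrix.mulVec_injective_iff_isUnit.2 (Units.isUnit g) ?_
        rw [Matrix.mulVec_mulVec, ← Units.val_mul, ← mul_assoc, mul_inv_cancel_left, Units.val_mul,
          ← Matrix.mulVec_mulVec, hgv, hgv]
        exact ((LinearMap.congr_fun heq w).trans (show Matrix.toLin' x.1 (G w) = _ from Matrix.toLin'_apply _ _)).symm
      have hJv : ∀ w, J w = E *ᵥ w := fun w => by rw [hJ, Matrix.toLin'_apply]
      rcases hε with h | h <;> subst h
      · refine Or.inl (Matrix.ext_iff_mulVec.2 fun w => ?_)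
        rw [← Matrix.mulVec_mulVec, ← Matrix.mulVec_mulVec, hy, hy, ← hJv, ← hJv, hTJ, one_smul]
      · refine Or.inr (Matrix.ext_iff_mulVec.2 fun w => ?_)
        rw [Matrix.neg_mulVec, ← Matrix.mulVec_mulVec, ← Matrix.mulVec_mulVec, hy, hy, ← hJv, ← hJv, hTJ, neg_one_smul]
    rintro x hx ⟨z, hz⟩ hns
    obtain ⟨X, hX⟩ : ∃ X, X = Matrix.toLin' (x : Matrix (Fin 2 ⊕ Fin 2) (Fin 2 ⊕ Fin 2) F) := ⟨_, rfl⟩
    have hXI : ∀ a b, B (X a) (X b) = B a b := fun a b => by
      rw [hBf, hBf, hX, Matrix.toLin'_apply, Matrix.toLin'_apply]; exact hx a b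
    have hXX : ∀ a, X (X a) = z • a := fun a => by
      rw [hX, Matrix.toLin'_apply, Matrix.toLin'_apply, Matrix.mulVec_mulVec, ← Units.val_mul, ← sq, hz, Matrix.smul_mulVec,
        Matrix.one_mulVec]
    have hzz : z * z = 1 := by
      have h := hXI (X u) (X v)
      rw [hXX, hXX, hXI, map_smul, map_smul, LinearMap.smul_apply, huv, smul_eq_mul, smul_eq_mul] at h
      linear_combination h
    -- maps given on the standard frame
    have hTdef : ∀ a b a' b', B a b = 1 → B a' b' = δ → B a a' = 0 → B a b' = 0 → B b a' = 0 → B b b' = 0 →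
        ∃ T : (Fin 2 ⊕ Fin 2 → F) →ₗ[F] (Fin 2 ⊕ Fin 2 → F), T u = a ∧ T v = b ∧ T (J u) = a' ∧ T (J v) = b' := by
      intro a b a' b' h1 h3 h4 h5 h6 h7
      obtain ⟨G, -, hGu, hGv⟩ := CfsgLib.Perm.Elusive.OverField.exists_frame_map hA hc0 hH (hmk a b a' b' h1 h3 h4 h5 h6 h7) hcard
      exact ⟨G.toLinearMap, hGu (.inl 0), hGv (.inl 0), hGu (.inr 0), hGv (.inr 0)⟩
    have hsign : ∀ (T : (Fin 2 ⊕ Fin 2 → F) →ₗ[F] (Fin 2 ⊕ Fin 2 → F)) (ε : F), T (J u) = ε • J (T u) → T (J v) = ε • J (T v) →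
        T (δ • u) = ε • J (T (J u)) → T (δ • v) = ε • J (T (J v)) → ∀ w, T (J w) = ε • J (T w) := by
      intro T ε h1 h3 h4 h5 w
      refine LinearMap.congr_fun (f := T.comp J) (g := ε • J.comp T)
        (CfsgLib.Perm.Elusive.OverField.frame_ext hA hc0 hH hcard ?_ ?_) w
      · rintro (j | j)
        · simpa using h1
        · simpa [hJJ] using h4
      · rintro (j | j)
        · simpa using h3
        · simpa [hJJ] using h5
    rcases mul_self_eq_one_iff.1 hzz with rfl | rfl
    · have hXT : ∀ a, X (X a) = a := fun a => by rw [hXX, one_smul]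
      obtain ⟨hcm, ho, hAn, hBn⟩ := CfsgLib.Perm.Elusive.OverField.invol_eigen h2 hA hN hXI hXT
      obtain ⟨kA, ua, va, hkA, hpa, hma⟩ := CfsgLib.Perm.Elusive.OverField.exists_symp_pairs hA (c := (1 : F)) one_ne_zero hAn
      obtain ⟨kB, ub, vb, hkB, hpb, hmb⟩ := CfsgLib.Perm.Elusive.OverField.exists_symp_pairs hA hδ0 hBn
      have hsum := Submodule.finrank_add_eq_of_isCompl hcm
      rw [hV, hkA, hkB] at hsum
      have hA0 : kA ≠ 0 := fun h => by
        subst h
        refine hns (-1) (Matrix.ext_iff_mulVec.2 fun w => ?_)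
        have hb : LinearMap.ker (X + 1) = ⊤ := Submodule.eq_top_of_finrank_eq (by rw [hkB, hV]; omega)
        have := LinearMap.mem_ker.1 (hb.ge (Submodule.mem_top (x := w)))
        rw [LinearMap.add_apply, Module.End.one_apply, hX, Matrix.toLin'_apply] at this
        rw [Matrix.smul_mulVec, Matrix.one_mulVec, neg_one_smul]
        exact eq_neg_of_add_eq_zero_left this
      have hB0 : kB ≠ 0 := fun h => by
        subst h
        refine hns 1 (Matrix.ext_iff_mulVec.2 fun w => ?_)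
        have hb : LinearMap.ker (X - 1) = ⊤ := Submodule.eq_top_of_finrank_eq (by rw [hkA, hV]; omega)
        have := LinearMap.mem_ker.1 (hb.ge (Submodule.mem_top (x := w)))
        rw [LinearMap.sub_apply, Module.End.one_apply, hX, Matrix.toLin'_apply, sub_eq_zero] at this
        rw [Matrix.smul_mulVec, Matrix.one_mulVec, one_smul]
        exact this
      obtain ⟨ja⟩ : Nonempty (Fin kA) := ⟨⟨0, by omega⟩⟩
      obtain ⟨jb⟩ : Nonempty (Fin kB) := ⟨⟨0, by omega⟩⟩
      have hfa : ∀ w ∈ LinearMap.ker (X - 1), X w = w := fun w hw => sub_eq_zero.1 (LinearMap.mem_ker.1 hw)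
      have hfb : ∀ w ∈ LinearMap.ker (X + 1), X w = -w := fun w hw => eq_neg_of_add_eq_zero_left (LinearMap.mem_ker.1 hw)
      obtain ⟨T, hTu, hTv, hTJu, hTJv⟩ := hTdef u v (-J u) (-J v) huv
        (by rw [map_neg, map_neg, LinearMap.neg_apply, neg_neg, hJuJv]) (by rw [map_neg, hJa', neg_zero])
        (by rw [map_neg, huJv, neg_zero]) (by rw [map_neg, hsk v, hJuv, neg_zero, neg_zero]) (by rw [map_neg, hJa', neg_zero])
      refine hfin x T ⟨-1, Or.inr rfl, hsign T (-1) ?_ ?_ ?_ ?_⟩ (ua ja) (va ja) (ub jb) (vb jb) (hpa.val ja) (hpb.val jb)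
        (ho _ (hma ja).1 _ (hmb jb).1) (ho _ (hma ja).1 _ (hmb jb).2) (ho _ (hma ja).2 _ (hmb jb).1)
        (ho _ (hma ja).2 _ (hmb jb).2) fun G h1 h3 h4 h5 => ?_
      · rw [hTJu, hTu, neg_one_smul]
      · rw [hTJv, hTv, neg_one_smul]
      · rw [map_smul, hTu, hTJu, map_neg, hJJ, neg_one_smul, neg_neg]
      · rw [map_smul, hTv, hTJv, map_neg, hJJ, neg_one_smul, neg_neg]
      · rw [← hX, hfa _ (hma ja).1, hfa _ (hma ja).2, hfb _ (hmb jb).1, hfb _ (hmb jb).2, hTu, hTv, hTJu, hTJv, map_neg, map_neg,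
          h1, h3, h4, h5]
        exact ⟨rfl, rfl, rfl, rfl⟩
    · have hXT : ∀ a, X (X a) = -a := fun a => by rw [hXX, neg_one_smul]
      obtain ⟨m, w, hm, hpw⟩ := CfsgLib.Perm.Elusive.OverField.exists_negsq_pairs h2 hA hN hXI hXT
      rw [hV] at hm
      obtain rfl : m = 2 := by omega
      obtain ⟨a, b, hab⟩ : ∃ a b : F, a ^ 2 + b ^ 2 = δ := by
        obtain ⟨a, b, hab⟩ := FiniteField.exists_root_sum_quadratic (f := (Polynomial.X ^ 2 : Polynomial F)) (g := Polynomial.X ^ 2 - Polynomial.C δ)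
          (by simp) (by rw [Polynomial.degree_X_pow_sub_C two_pos]; rfl) (FiniteField.odd_card_of_char_ne_two hrc)
        simp at hab
        exact ⟨a, b, by linear_combination hab⟩
      have h00 : B (X (w 0)) (w 1) = 0 := by rw [hsk]; rw [hpw.uv 1 0 (by decide), neg_zero]
      obtain ⟨T, hTu, hTv, hTJu, hTJv⟩ := hTdef v (-u) (J v) (-J u) (by rw [map_neg, hsk, huv, neg_neg])
        (by rw [map_neg, hsk, hJuJv, neg_neg]) (hJa' v) (by rw [map_neg, hsk, hJuv, neg_zero, neg_zero])
        (by rw [map_neg, LinearMap.neg_apply, huJv, neg_zero]) (by rw [map_neg, map_neg, LinearMap.neg_apply, neg_neg, hJa'])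
      have hw1 : B (a • w 1 + b • X (w 1)) (X (a • w 1 + b • X (w 1))) = δ := by
        simp only [map_add, map_smul, hXT, LinearMap.add_apply, LinearMap.smul_apply, map_neg, hA (w 1), hA (X (w 1)),
          smul_eq_mul, hpw.val 1, hsk (X (w 1)) (w 1)]
        linear_combination hab
      refine hfin x T ⟨1, Or.inl rfl, hsign T 1 ?_ ?_ ?_ ?_⟩ (w 0) (X (w 0)) (a • w 1 + b • X (w 1))
        (X (a • w 1 + b • X (w 1))) (hpw.val 0) hw1 ?_ ?_ ?_ ?_ fun G h1 h3 h4 h5 => ?_
      · rw [hTJu, hTu, one_smul]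
      · rw [hTJv, hTv, one_smul, map_neg]
      · rw [map_smul, hTu, hTJu, hJJ, one_smul]
      · rw [map_smul, hTv, hTJv, map_neg, hJJ, one_smul, smul_neg]
      · simp [hpw.uu, hpw.uv 0 1 (by decide)]
      · simp [hpw.uu, hpw.uv 0 1 (by decide), hXT]
      · simp [h00, hpw.vv]
      · simp [h00, hpw.vv, hXT]
      · rw [← hX, hTu, hTv, hTJu, hTJv, map_neg, map_neg, h1, h3, h4, h5, hXT, hXT]
        exact ⟨rfl, rfl, rfl, rfl⟩
  · refine iff_of_false (fun hL => ?_) fun h => hr2 h.1
    have hr : r.Prime := Fact.out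
    obtain ⟨i, hi⟩ : ∃ i, i = orderOf ((Fintype.card F : ℕ) : ZMod r) := ⟨_, rfl⟩
    obtain ⟨c, hc⟩ : ∃ c, c = if Even i then i else 2 * i := ⟨_, rfl⟩
    have hipos : 0 < i := hi ▸ CfsgLib.Perm.Elusive.order_pos hrp
    -- some `q ^ (2 j) - 1` with `k ∤ j` is divisible by `r`
    obtain ⟨j, hjd, hkj, hrj⟩ : ∃ j, j ≤ d ∧ ¬ k ∣ j ∧ r ∣ Fintype.card F ^ (2 * j) - 1 := by
      obtain ⟨S, hS⟩ : ∃ S, S = (Finset.range d).filter (fun j => k ∣ j + 1) := ⟨_, rfl⟩
      have hP : ∏ l ∈ Finset.range e, ((Fintype.card F ^ k) ^ (2 * (l + 1)) - 1) =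
          ∏ j ∈ S, (Fintype.card F ^ (2 * (j + 1)) - 1) := by
        refine Finset.prod_nbij (fun l => k * (l + 1) - 1) ?_ ?_ ?_ ?_
        · intro l hl
          have h1 := Finset.mem_range.1 hl
          have h3 : k * (l + 1) ≤ k * e := Nat.mul_le_mul_left k h1
          have h4 : 0 < k * (l + 1) := Nat.mul_pos (by omega) l.succ_pos
          rw [hS, Finset.mem_filter, Finset.mem_range]
          exact ⟨by omega, by rw [Nat.sub_add_cancel h4]; exact dvd_mul_right _ _⟩
        · intro l _ l' _ h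
          have h4 : ∀ t, 0 < k * (t + 1) := fun t => Nat.mul_pos (by omega) t.succ_pos
          have h5 : k * (l + 1) = k * (l' + 1) := by
            have := h4 l; have := h4 l'; simp only at h; omega
          have := Nat.eq_of_mul_eq_mul_left (by omega) h5
          omega
        · intro t ht
          rw [Finset.mem_coe, hS, Finset.mem_filter, Finset.mem_range] at ht
          obtain ⟨s, hs⟩ := ht.2
          have hs0 : 0 < s := Nat.pos_of_ne_zero fun h => by rw [h, mul_zero] at hs; omega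
          refine ⟨s - 1, Finset.mem_range.2 ?_, ?_⟩
          · have : k * s ≤ k * e := by omega
            have := Nat.le_of_mul_le_mul_left this (by omega)
            omega
          · show k * (s - 1 + 1) - 1 = t
            rw [Nat.sub_add_cancel hs0]; omega
        · intro l _
          have h4 : 0 < k * (l + 1) := Nat.mul_pos (by omega) l.succ_pos
          rw [Nat.sub_add_cancel h4, ← pow_mul, mul_left_comm]
      obtain ⟨R, hR⟩ : ∃ R, R = ∏ j ∈ (Finset.range d).filter (fun j => ¬ k ∣ j + 1), (Fintype.card F ^ (2 * (j + 1)) - 1) :=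
        ⟨_, rfl⟩
      have hG : Nat.card (Cfsg.spGL d F) = Fintype.card F ^ (d ^ 2) * ((∏ j ∈ S, (Fintype.card F ^ (2 * (j + 1)) - 1)) * R) := by
        rw [CfsgLib.Perm.Elusive.card_spGL, CfsgLib.Classical.card_symplectic, hS, hR, Finset.prod_filter_mul_prod_filter_not]
      have hidx : (Cfsg.Geo.subalgebraNormalizer K).relIndex (Cfsg.spGL d F) *
          Nat.card (Cfsg.Geo.subalgebraNormalizer K ⊓ Cfsg.spGL d F : Subgroup (GL (Fin d ⊕ Fin d) F)) =
          Nat.card (Cfsg.spGL d F) := by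
        rw [← Subgroup.inf_relIndex_right, ← Nat.card_congr (Subgroup.subgroupOfEquivOfLe
          (inf_le_right : Cfsg.Geo.subalgebraNormalizer K ⊓ Cfsg.spGL d F ≤ Cfsg.spGL d F)).toEquiv]
        exact Subgroup.index_mul_card _
      have h := mul_dvd_mul hΩ hdvd
      rw [hidx, hG, hP, ← mul_assoc r, mul_left_comm (Fintype.card F ^ d ^ 2), mul_comm (r * _)] at h
      have hpos : 0 < ∏ j ∈ S, (Fintype.card F ^ (2 * (j + 1)) - 1) := Finset.prod_pos fun j _ =>
        Nat.sub_pos_of_lt (Nat.one_lt_pow (by omega) Fintype.one_lt_card)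
      have h' := dvd_trans (dvd_mul_right r _) (Nat.dvd_of_mul_dvd_mul_left hpos h)
      rcases hr.dvd_mul.1 h' with h1 | h1
      · exfalso
        obtain ⟨n, hp', hn⟩ := FiniteField.card F p
        rw [hn, ← pow_mul] at h1
        exact hrp ((Nat.prime_dvd_prime_iff_eq hr hp').1 (hr.dvd_of_dvd_pow h1))
      · rw [hR, hr.prime.dvd_finsetProd_iff] at h1
        obtain ⟨j, hj, hj'⟩ := h1
        rw [Finset.mem_filter, Finset.mem_range] at hj
        exact ⟨j + 1, hj.1, hj.2, hj'⟩
    have hij : i ∣ 2 * j := by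
      rw [hi, orderOf_dvd_iff_pow_eq_one, ← sub_eq_zero]
      have h := (ZMod.natCast_eq_zero_iff _ r).2 hrj
      rwa [Nat.cast_sub (Nat.one_le_pow _ _ Fintype.card_pos), Nat.cast_pow, Nat.cast_one] at h
    have hj0 : 0 < j := Nat.pos_of_ne_zero fun h => hkj (h ▸ dvd_zero k)
    have hcj : c ∣ 2 * j := by
      rw [hc]
      split_ifs with hev
      · exact hij
      · exact Nat.mul_dvd_mul_left 2 ((Nat.coprime_two_right.2 (Nat.not_even_iff_odd.1 hev)).dvd_of_dvd_mul_left hij)
    have hc2 : c ≤ 2 * d := (Nat.le_of_dvd (by omega) hcj).trans (by omega)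
    obtain ⟨c', hc'⟩ : ∃ c', c = 2 * c' := by
      rw [hc]; split_ifs with hev
      · exact hev.two_dvd
      · exact ⟨i, rfl⟩
    obtain ⟨x₀, hx₀r, hx₀d⟩ := CfsgLib.Perm.Elusive.exists_symp_element (p := p) hrp hr2 (c := c) (d := d) (e := d - c') (k := 1)
      (by rw [hc, hi]) (by omega)
    obtain ⟨T₀, hT₀⟩ : ∃ T₀, T₀ = Matrix.toLin' (x₀ : Matrix (Fin d ⊕ Fin d) (Fin d ⊕ Fin d) F) := ⟨_, rfl⟩
    have hT₀r : T₀ ^ r = 1 := by rw [hT₀, ← Matrix.toLin'_pow, hx₀r, Matrix.toLin'_one]; rfl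
    obtain ⟨x, hxr, hxv⟩ := CfsgLib.Perm.Elusive.exists_gl_of_pow hr.ne_zero hT₀r
    have hxm : (x : Matrix (Fin d ⊕ Fin d) (Fin d ⊕ Fin d) F) = (x₀ : Matrix (Fin d ⊕ Fin d) (Fin d ⊕ Fin d) F) :=
      Matrix.ext_iff_mulVec.2 fun v => by rw [hxv, hT₀, Matrix.toLin'_apply]
    have hx : x ∈ Cfsg.spGL d F := fun a b => by
      show Cfsg.sympForm d F (x.1 *ᵥ a) (x.1 *ᵥ b) = Cfsg.sympForm d F a b
      rw [hxm]; exact CfsgLib.Sp.sf_sp x₀ a b
    have hxd : Module.finrank F (LinearMap.ker (Matrix.toLin' (x : Matrix (Fin d ⊕ Fin d) (Fin d ⊕ Fin d) F) - 1)) + c = 2 * d := by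
      rw [hxm, hx₀d]; omega
    have hns : ∀ z : F, (x : Matrix (Fin d ⊕ Fin d) (Fin d ⊕ Fin d) F) ≠ z • 1 := fun z hz => by
      by_cases hc2' : c = 2 * d
      · have h0 : LinearMap.ker (Matrix.toLin' (x : Matrix (Fin d ⊕ Fin d) (Fin d ⊕ Fin d) F) - 1) = ⊥ :=
          Submodule.finrank_eq_zero.1 (by omega)
        obtain ⟨w, hw⟩ := exists_ne (0 : Fin d ⊕ Fin d → F)
        have h1 := hx w
        obtain ⟨w', hw'⟩ := not_forall.1 fun h => hw (hN.1 w h)
        have h3 : Cfsg.sympForm d F (x.1 *ᵥ w) (x.1 *ᵥ w') = Cfsg.sympForm d F w w' := hx w w'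
        rw [hz, Matrix.smul_mulVec, Matrix.one_mulVec, Matrix.smul_mulVec, Matrix.one_mulVec, ← hBf, ← hBf, map_smul,
          map_smul, LinearMap.smul_apply, smul_eq_mul, smul_eq_mul] at h3
        have hzz : z * z = 1 := mul_right_cancel₀ hw' (by linear_combination h3)
        have hzr : z ^ r = 1 := by
          have h4 := congrArg Units.val hxr
          rw [Units.val_pow_eq_pow_val, hz, smul_pow, one_pow, Units.val_one] at h4
          have h5 := congrFun (congrFun h4 (.inl ⟨0, by omega⟩)) (.inl ⟨0, by omega⟩)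
          simpa using h5
        have hz1 : z = 1 := by
          obtain ⟨t, ht⟩ := hr.odd_of_ne_two hr2
          rw [ht, pow_succ, pow_mul, sq, hzz, one_pow, one_mul] at hzr
          exact hzr
        exact hw ((Submodule.mem_bot F).1 (h0.le (LinearMap.mem_ker.2 (by
          rw [LinearMap.sub_apply, Matrix.toLin'_apply, hz, hz1, one_smul, Matrix.one_mulVec]; simp))))
      · exact hnotscalar x _ rfl (by omega) (by rcases Nat.eq_zero_or_pos c with h | h; · (rw [hc] at h; split_ifs at h <;> omega)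
                                                · omega) z hz
    obtain ⟨g, hg, hgx⟩ := hL x hx ⟨1, by rw [hxr, Units.val_one, one_smul]⟩ hns
    obtain ⟨hki, M, hM0, hMK, hMn, hadj⟩ := CfsgLib.Perm.Elusive.OverField.block_of_normalizer (p := p) hrp hr2 hk hkd hK hi hc hx hxr hxd hg hgx
    rcases Nat.even_or_odd i with ⟨h, hh⟩ | ho
    · have hhj : h ∣ j := by
        obtain ⟨t, ht⟩ := hij
        exact ⟨t, by rw [hh, ← two_mul, mul_assoc] at ht; omega⟩
      have hkh : ¬ k ∣ h := fun hh' => hkj (hh'.trans hhj)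
      have hk' : k = 2 := by
        rcases hk.eq_two_or_odd with h' | h'
        · exact h'
        · exact absurd ((Nat.coprime_two_right.2 (Nat.odd_iff.2 h')).dvd_of_dvd_mul_left (by rw [two_mul, ← hh]; exact hki)) hkh
      have ho : Odd h := Nat.not_even_iff_odd.1 fun he => hkh (hk' ▸ he.two_dvd)
      -- the `q ^ h`-th power is the nontrivial automorphism of the quadratic extension
      letI : Field K := (CfsgLib.Perm.Elusive.OverField.isField_sub hK).toField
      haveI : Finite K := Subtype.finite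
      letI : Fintype K := Fintype.ofFinite K
      have hKc : Fintype.card K = Fintype.card F ^ 2 := by rw [Module.card_eq_pow_finrank (K := F), hK.finrank_eq, hk']
      obtain ⟨a, ha⟩ : ∃ a : K, a ^ Fintype.card F ≠ a := by
        by_contra hno
        push Not at hno
        have hq := Fintype.one_lt_card (α := F)
        have h1 := Polynomial.card_le_degree_of_subset_roots (p := (Polynomial.X ^ Fintype.card F - Polynomial.X : Polynomial K))
          (Z := Finset.univ) (fun x _ => by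
            rw [Polynomial.mem_roots (FiniteField.X_pow_card_sub_X_ne_zero K hq)]
            simp [Polynomial.IsRoot, hno x])
        rw [FiniteField.X_pow_card_sub_X_natDegree_eq K hq, Finset.card_univ, hKc] at h1
        have : Fintype.card F * 2 ≤ Fintype.card F ^ 2 := by rw [sq]; exact Nat.mul_le_mul_left _ hq
        omega
      have hah : a ^ Fintype.card F ^ h = a ^ Fintype.card F := by
        obtain ⟨t, rfl⟩ := ho
        have hper : ∀ t, a ^ (Fintype.card F ^ 2) ^ t = a := fun t => by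
          induction t with
          | zero => simp
          | succ t ih => rw [pow_succ, pow_mul, ih, ← hKc, FiniteField.pow_card]
        rw [pow_succ, pow_mul, pow_mul, hper]
      obtain ⟨u, hu, hu0⟩ := Submodule.exists_mem_ne_zero_of_ne_bot hM0
      obtain ⟨v, hv, huv⟩ := hMn u hu hu0
      have hMa : ∀ u ∈ M, ∀ v ∈ M, B u ((a ^ Fintype.card F - a).1 *ᵥ v) = 0 := fun u hu v hv => by
        have h1 := hadj h (by omega) a.1 a.2 u hu v hv
        rw [hKf a.1 a.2, ← hBf, ← hBf, show a.1 ^ Fintype.card F ^ h = (a ^ Fintype.card F ^ h : K).1 from rfl, hah] at h1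
        show B u (((a ^ Fintype.card F : K).1 - a.1) *ᵥ v) = 0
        rw [Matrix.sub_mulVec, map_sub, h1, sub_self]
      obtain ⟨b, hb⟩ : ∃ b : K, b * (a ^ Fintype.card F - a) = 1 := ⟨_, inv_mul_cancel₀ (sub_ne_zero.2 ha)⟩
      refine huv ?_
      rw [← hBf]
      -- move the inverse across the form
      have hbv : Cfsg.sympForm d F u v = B (b.1 *ᵥ u) ((a ^ Fintype.card F - a).1 *ᵥ v) := by
        rw [hBf, hKf b.1 b.2, Matrix.mulVec_mulVec, show b.1 * (a ^ Fintype.card F - a).1 = (b * (a ^ Fintype.card F - a)).1 from rfl,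
          hb, OneMemClass.coe_one, Matrix.one_mulVec]
      rw [hBf, hbv]
      exact hMa _ (hMK b.1 b.2 u hu) v hv
    · exact hkj (hki.trans ((Nat.coprime_two_right.2 ho).dvd_of_dvd_mul_left hij))

end Cfsg.Agent.S5975
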