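import Cfsg.Statements.S5976
-- import your own Cfsg.Agent.* helpers here
import Mathlib
import Cfsg.Agent.Lib.Perm.Elusive.OverFieldHerm
import Cfsg.Agent.Lib.Perm.Elusive.OverFieldNormal
import Cfsg.Agent.Lib.Perm.Elusive.OrthElusive

set_option autoImplicit false
set_option linter.all false
open scoped MatrixGroups Matrix
open Cfsg

namespace Cfsg.Agent.S5976

/-- Elements of prime order of PSp_n(q), q odd, and the subgroups of type GU_{n/2}(q). Here `T = PSp_{2d}(F)` for a field `F` with `q` elements, `q` odd, `d ≥ 2`, realised through the matrices preserving the standard alternating form `f`; `K` is a subalgebra of the `2d × 2d` matrices that is a field of degree 2 over `F`, closed under taking adjoints for `f` but not consisting of self-adjoint elements (so `F^{2d}` becomes a `d`-dimensional space over `K ≅ F_{q²}` on which `f` is the trace of a multiple of a non-degenerate hermitian form); `H` is the subgroup of `T` normalizing `K` — the symplectic maps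 that are `K`-linear or `K`-semilinear, a subgroup of type GU_d(q) (maximality is not assumed). Ω is the set of cosets of `H` in `T`, so an element of `T` of prime order `r` (`x ∈ T` with `x^r` scalar, `x` not scalar) fixes a point of Ω exactly when some `T`-conjugate of `x` normalizes `K`. Let `r` be a prime dividing the index of `H`. Then every element of `T` of order `r` fixes a point of Ω if and only if `r = 2`. -/
theorem result {F : Type*} [Field F] [Fintype F] {p : ℕ} [Fact p.Prime] [CharP F p] {q : ℕ} (hq : Fintype.card F = q)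
    (hodd : Odd q) (d : ℕ) (hd : 2 ≤ d)
    (K : Subalgebra F (Matrix (Fin d ⊕ Fin d) (Fin d ⊕ Fin d) F)) (hK : Cfsg.Geo.IsFieldSubalgebra 2 K)
    (hKf : Cfsg.Geo.IsAdjointClosedFor (Cfsg.sympForm d F) K) (hKns : ¬ Cfsg.Geo.IsSelfAdjointFor (Cfsg.sympForm d F) K)
    (r : ℕ) [Fact r.Prime]
    (hΩ : r ∣ (Cfsg.Geo.subalgebraNormalizer K).relIndex (Cfsg.spGL d F)) :
    (∀ x ∈ Cfsg.spGL d F, (∃ z : F, ((x ^ r : GL (Fin d ⊕ Fin d) F) : Matrix (Fin d ⊕ Fin d) (Fin d ⊕ Fin d) F) = z • (1 : Matrix (Fin d ⊕ Fin d) (Fin d ⊕ Fin d) F)) →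
      (∀ z : F, (x : Matrix (Fin d ⊕ Fin d) (Fin d ⊕ Fin d) F) ≠ z • (1 : Matrix (Fin d ⊕ Fin d) (Fin d ⊕ Fin d) F)) →
      ∃ g ∈ Cfsg.spGL d F, g⁻¹ * x * g ∈ Cfsg.Geo.subalgebraNormalizer K) ↔ r = 2 := by
  classical
  subst hq
  haveI : Nonempty (Fin d ⊕ Fin d) := ⟨.inl ⟨0, by omega⟩⟩
  have h2 : (2 : F) ≠ 0 := CfsgLib.Orth.two_ne_zero_of_odd hodd
  have hrc : ringChar F ≠ 2 := fun h => h2 (by
    haveI : CharP F 2 := ringChar.of_eq h
    exact CharTwo.two_eq_zero)
  have hp2 : p ≠ 2 := fun h => hrc (by rw [ringChar.eq F p, h])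
  obtain ⟨E, δ, hEK, hδ, hEE, hEskew, hspan⟩ :=
    CfsgLib.Perm.Elusive.OverField.exists_skew_generator h2 (by omega) hK hKf hKns
  have hδ0 : δ ≠ 0 := fun h => hδ (h ▸ IsSquare.zero)
  obtain ⟨B, hB⟩ : ∃ B, B = CfsgLib.Classical.SympCount.sB d F := ⟨_, rfl⟩
  have hBf : ∀ u v, B u v = Cfsg.sympForm d F u v := fun u v => by rw [hB]; rfl
  have hA : B.IsAlt := hB ▸ CfsgLib.Classical.SympCount.sB_isAlt
  have hN : B.Nondegenerate := hB ▸ CfsgLib.Classical.SympCount.sB_nondegenerate
  have hV : Module.finrank F (Fin d ⊕ Fin d → F) = 2 * d := CfsgLib.Perm.Elusive.OverField.finrank_std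
  obtain ⟨J, hJ⟩ : ∃ J, J = Matrix.toLin' E := ⟨_, rfl⟩
  have hJv : ∀ v, J v = E *ᵥ v := fun v => by rw [hJ, Matrix.toLin'_apply]
  have hJJ : ∀ v, J (J v) = δ • v := fun v => by
    rw [hJv, hJv, Matrix.mulVec_mulVec, hEE, Matrix.smul_mulVec, Matrix.one_mulVec]
  have hJskew : ∀ u v, B (J u) v = -B u (J v) := fun u v => by rw [hBf, hBf, hJv, hJv]; exact hEskew u v
  obtain ⟨m, w, hm, hw⟩ := CfsgLib.Perm.Elusive.OverField.exists_skew_pairs h2 hA hN hδ0 hJskew hJJ
  rw [hV] at hm
  obtain rfl : d = m := by omega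
  have hnotscalar : ∀ (x : GL (Fin d ⊕ Fin d) F) (D : ℕ),
      D = Module.finrank F (LinearMap.ker (Matrix.toLin' (x : Matrix (Fin d ⊕ Fin d) (Fin d ⊕ Fin d) F) - 1)) →
      (∃ r : ℕ, Odd r ∧ x ^ r = 1) → x ∈ Cfsg.spGL d F → D < 2 * d → ∀ z : F,
        (x : Matrix (Fin d ⊕ Fin d) (Fin d ⊕ Fin d) F) ≠ z • 1 := by
    rintro x D hD ⟨s, hs, hxs⟩ hx hD1 z hz
    obtain ⟨u, hu⟩ := exists_ne (0 : Fin d ⊕ Fin d → F)
    obtain ⟨v, hv⟩ := not_forall.1 fun h => hu (hN.1 u h)
    have h3 : Cfsg.sympForm d F (x.1 *ᵥ u) (x.1 *ᵥ v) = Cfsg.sympForm d F u v := hx u v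
    rw [hz, Matrix.smul_mulVec, Matrix.one_mulVec, Matrix.smul_mulVec, Matrix.one_mulVec, ← hBf, ← hBf, map_smul,
      map_smul, LinearMap.smul_apply, smul_eq_mul, smul_eq_mul] at h3
    have hzz : z * z = 1 := mul_right_cancel₀ hv (by linear_combination h3)
    have h4 := congrArg Units.val hxs
    rw [Units.val_pow_eq_pow_val, hz, smul_pow, one_pow, Units.val_one] at h4
    have h5 := congrFun (congrFun h4 (.inl ⟨0, by omega⟩)) (.inl ⟨0, by omega⟩)
    simp at h5
    obtain ⟨t, ht⟩ := hs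
    rw [ht, pow_succ, pow_mul, sq, hzz, one_pow, one_mul] at h5
    rw [show LinearMap.ker (Matrix.toLin' (x : Matrix (Fin d ⊕ Fin d) (Fin d ⊕ Fin d) F) - 1) = ⊤ from
      eq_top_iff.2 fun v _ => LinearMap.mem_ker.2 (by
        rw [LinearMap.sub_apply, Matrix.toLin'_apply, hz, h5, one_smul, Matrix.one_mulVec]; simp), finrank_top, hV] at hD
    omega
  by_cases hr2 : r = 2
  · subst hr2
    refine iff_of_true ?_ rfl
    rintro x hx ⟨z, hz⟩ hns
    obtain ⟨X, hX⟩ : ∃ X, X = Matrix.toLin' (x : Matrix (Fin d ⊕ Fin d) (Fin d ⊕ Fin d) F) := ⟨_, rfl⟩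
    have hXI : ∀ a b, B (X a) (X b) = B a b := fun a b => by
      rw [hBf, hBf, hX, Matrix.toLin'_apply, Matrix.toLin'_apply]; exact hx a b
    have hXX : ∀ a, X (X a) = z • a := fun a => by
      rw [hX, Matrix.toLin'_apply, Matrix.toLin'_apply, Matrix.mulVec_mulVec, ← Units.val_mul, ← sq, hz, Matrix.smul_mulVec,
        Matrix.one_mulVec]
    have hzz : z * z = 1 := by
      obtain ⟨u, hu⟩ := exists_ne (0 : Fin d ⊕ Fin d → F)
      obtain ⟨v, hv⟩ := not_forall.1 fun h => hu (hN.1 u h)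
      have h := hXI (X u) (X v)
      rw [hXX, hXX, hXI, map_smul, map_smul, LinearMap.smul_apply, smul_eq_mul, smul_eq_mul] at h
      exact mul_right_cancel₀ hv (by linear_combination h)
    -- it suffices to find an equivariant isometry from a normalizing map
    have hfin : ∀ T : (Fin d ⊕ Fin d → F) →ₗ[F] (Fin d ⊕ Fin d → F),
        ((∀ a, T (J a) = J (T a)) ∨ (∀ a, T (J a) = -J (T a))) →
        ∀ G : (Fin d ⊕ Fin d → F) ≃ₗ[F] (Fin d ⊕ Fin d → F), (∀ a b, B (G a) (G b) = B a b) →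
        G.toLinearMap.comp T = X.comp G.toLinearMap →
        ∃ g ∈ Cfsg.spGL d F, g⁻¹ * x * g ∈ Cfsg.Geo.subalgebraNormalizer K := by
      intro T hTJ G hGB heq
      obtain ⟨g, hg, hgv⟩ := CfsgLib.Perm.Elusive.OverField.exists_sp_of_equiv G (hB ▸ hGB)
      refine ⟨g, hg, CfsgLib.Perm.Elusive.OverField.mem_normalizer_pm hEK hspan ?_⟩
      have hy : ∀ a, (g⁻¹ * x * g : GL (Fin d ⊕ Fin d) F).1 *ᵥ a = T a := fun a => by
        refine Matrix.mulVec_injective_iff_isUnit.2 (Units.isUnit g) ?_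
        rw [Matrix.mulVec_mulVec, ← Units.val_mul, ← mul_assoc, mul_inv_cancel_left, Units.val_mul,
          ← Matrix.mulVec_mulVec, hgv, hgv]
        refine ((LinearMap.congr_fun heq a).trans ?_).symm
        show X (G a) = _
        rw [hX, Matrix.toLin'_apply]
      rcases hTJ with h | h
      · refine Or.inl (Matrix.ext_iff_mulVec.2 fun a => ?_)
        rw [← Matrix.mulVec_mulVec, ← Matrix.mulVec_mulVec, hy, hy, ← hJv, ← hJv, h]
      · refine Or.inr (Matrix.ext_iff_mulVec.2 fun a => ?_)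
        rw [Matrix.neg_mulVec, ← Matrix.mulVec_mulVec, ← Matrix.mulVec_mulVec, hy, hy, ← hJv, ← hJv, h]
    have hc1 : ∀ j : Fin d, (fun _ : Fin d => (1 : F)) j ≠ 0 := fun _ => one_ne_zero
    have hcard : Module.finrank F (Fin d ⊕ Fin d → F) = 2 * Fintype.card (Fin d) := by rw [hV, Fintype.card_fin]
    rcases mul_self_eq_one_iff.1 hzz with rfl | rfl
    · have hXT : ∀ a, X (X a) = a := fun a => by rw [hXX, one_smul]
      obtain ⟨hcm, ho, hAn, hBn⟩ := CfsgLib.Perm.Elusive.OverField.invol_eigen h2 hA hN hXI hXT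
      obtain ⟨kA, ua, va, hkA, hpa, hma⟩ := CfsgLib.Perm.Elusive.OverField.exists_symp_pairs hA (c := (1 : F)) one_ne_zero hAn
      obtain ⟨kB, ub, vb, hkB, hpb, hmb⟩ := CfsgLib.Perm.Elusive.OverField.exists_symp_pairs hA (c := (1 : F)) one_ne_zero hBn
      have hsum := Submodule.finrank_add_eq_of_isCompl hcm
      rw [hV, hkA, hkB] at hsum
      have hkd : kA + kB = d := by omega
      obtain ⟨e, -⟩ : ∃ e : Fin d ≃ Fin kA ⊕ Fin kB, True := ⟨(finCongr hkd.symm).trans finSumFinEquiv.symm, trivial⟩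
      have hp0 := hpa.combine hA hpb (S := LinearMap.ker (X - 1)) (S' := LinearMap.ker (X + 1)) (fun j => (hma j).1)
        (fun j => (hma j).2) (fun j => (hmb j).1) (fun j => (hmb j).2) ho
      obtain ⟨ut, hut⟩ : ∃ ut, ut = fun j => Sum.elim ua ub (e j) := ⟨_, rfl⟩
      obtain ⟨vt, hvt⟩ : ∃ vt, vt = fun j => Sum.elim va vb (e j) := ⟨_, rfl⟩
      have hpt : CfsgLib.Perm.Elusive.OverField.IsPairs B (fun _ : Fin d => (1 : F)) ut vt := by
        have h := hp0.reindex e e.injective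
        rw [show (fun j => Sum.elim (fun _ => (1 : F)) (fun _ => (1 : F)) (e j)) = fun _ : Fin d => (1 : F) from
          funext fun j => by rcases e j with t | t <;> rfl, ← hut, ← hvt] at h
        exact h
      obtain ⟨s, hs⟩ : ∃ s : Fin d → F, ∀ j, s j = Sum.elim (fun _ => (1 : F)) (fun _ => (-1 : F)) (e j) := ⟨_, fun j => rfl⟩
      have hss : ∀ j, s j * s j = 1 := fun j => by rw [hs]; rcases e j with t | t <;> simp
      have hXu : ∀ j, X (ut j) = s j • ut j ∧ X (vt j) = s j • vt j := fun j => by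
        rw [hut, hvt, hs]
        show X (Sum.elim ua ub (e j)) = _ • Sum.elim ua ub (e j) ∧ X (Sum.elim va vb (e j)) = _ • Sum.elim va vb (e j)
        rcases e j with t | t
        · simp only [Sum.elim_inl, one_smul]
          exact ⟨sub_eq_zero.1 (LinearMap.mem_ker.1 (hma t).1), sub_eq_zero.1 (LinearMap.mem_ker.1 (hma t).2)⟩
        · simp only [Sum.elim_inr, neg_one_smul]
          exact ⟨eq_neg_of_add_eq_zero_left (LinearMap.mem_ker.1 (hmb t).1),
            eq_neg_of_add_eq_zero_left (LinearMap.mem_ker.1 (hmb t).2)⟩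
      have hps : CfsgLib.Perm.Elusive.OverField.IsPairs B (fun _ : Fin d => (1 : F)) (fun j => s j • w j) (fun j => s j • J (w j)) := by
        constructor <;> intros <;> simp only [map_smul, LinearMap.smul_apply, smul_eq_mul]
        · rw [hw.val, mul_one, hss]
        · rw [hw.uu, mul_zero, mul_zero]
        · rw [hw.vv, mul_zero, mul_zero]
        · rw [hw.uv _ _ ‹_›, mul_zero, mul_zero]
      obtain ⟨T, -, hTu, hTv⟩ := CfsgLib.Perm.Elusive.OverField.exists_frame_map hA hc1 hw hps hcard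
      obtain ⟨G, hGB, hGu, hGv⟩ := CfsgLib.Perm.Elusive.OverField.exists_frame_map hA hc1 hw hpt hcard
      refine hfin T.toLinearMap (Or.inl fun a => LinearMap.congr_fun (f := T.toLinearMap.comp J) (g := J.comp T.toLinearMap)
        (CfsgLib.Perm.Elusive.OverField.frame_ext hA hc1 hw hcard (fun j => ?_) (fun j => ?_)) a) G hGB
        (CfsgLib.Perm.Elusive.OverField.frame_ext hA hc1 hw hcard (fun j => ?_) (fun j => ?_))
      · simp [hTu, hTv]
      · simp [hTu, hTv, hJJ, smul_smul, mul_comm]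
      · simp [hTu, hGu, (hXu j).1]
      · simp [hTv, hGv, (hXu j).2]
    · have hXT : ∀ a, X (X a) = (-1 : F) • a := fun a => hXX a
      have hXs : ∀ a b, B (X a) b = -B a (X b) := fun a b => by
        have h := hXI a (X b)
        rw [hXT, map_smul, smul_eq_mul] at h
        linear_combination -h
      obtain ⟨mx, ux, hmx, hpx⟩ := CfsgLib.Perm.Elusive.OverField.exists_skew_pairs h2 hA hN (neg_ne_zero.2 one_ne_zero) hXs hXT
      rw [hV] at hmx
      obtain rfl : d = mx := by omega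
      obtain ⟨a, b, hab⟩ : ∃ a b : F, a * a - δ * (b * b) = -1 := by
        obtain ⟨a, b, hab⟩ := FiniteField.exists_root_sum_quadratic (f := (Polynomial.X ^ 2 : Polynomial F))
          (g := Polynomial.C (-δ) * Polynomial.X ^ 2 - Polynomial.C (-1))
          (by simp) (by
            rw [Polynomial.degree_sub_C (by rw [Polynomial.degree_C_mul_X_pow _ (neg_ne_zero.2 hδ0)]; norm_num),
              Polynomial.degree_C_mul_X_pow _ (neg_ne_zero.2 hδ0)]; rfl)
          (FiniteField.odd_card_of_char_ne_two hrc)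
        simp at hab
        exact ⟨a, b, by linear_combination hab⟩
      have hJw : ∀ j, B (J (w j)) (w j) = -1 := fun j => by rw [← LinearMap.IsAlt.neg hA, hw.val]
      have hpT : CfsgLib.Perm.Elusive.OverField.IsPairs B (fun _ : Fin d => (1 : F)) (fun j => a • w j + b • J (w j))
          (fun j => -(a • J (w j) + (b * δ) • w j)) := by
        refine ⟨fun j => ?_, fun j l => ?_, fun j l => ?_, fun j l hjl => ?_⟩ <;>
          simp only [map_add, map_neg, map_smul, LinearMap.add_apply, LinearMap.neg_apply, LinearMap.smul_apply, smul_eq_mul]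
        · rw [hw.val, hJw, hA (w j), hA (J (w j))]
          linear_combination (-1 : F) * hab
        · rw [hw.uu, hw.vv]
          rcases eq_or_ne j l with rfl | hjl
          · rw [hw.val, hJw]; ring
          · rw [hw.uv j l hjl, hA.isRefl _ _ (hw.uv l j hjl.symm)]; ring
        · rw [hw.uu, hw.vv]
          rcases eq_or_ne j l with rfl | hjl
          · rw [hw.val, hJw]; ring
          · rw [hw.uv j l hjl, hA.isRefl _ _ (hw.uv l j hjl.symm)]; ring
        · rw [hw.uu, hw.vv, hw.uv j l hjl, hA.isRefl _ _ (hw.uv l j hjl.symm)]; ring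
      obtain ⟨T, hTI, hTu, hTv⟩ := CfsgLib.Perm.Elusive.OverField.exists_frame_map hA hc1 hw hpT hcard
      have hTJ : T.toLinearMap.comp J = -(J.comp T.toLinearMap) :=
        CfsgLib.Perm.Elusive.OverField.frame_ext hA hc1 hw hcard
          (fun j => by simp [hTu, hTv, hJJ, smul_smul] <;> module)
          (fun j => by simp [hTu, hTv, hJJ, smul_smul] <;> module)
      have hTT : ∀ c, T (T c) = (-1 : F) • c := fun c => LinearMap.congr_fun (f := T.toLinearMap.comp T.toLinearMap)
        (g := (-1 : F) • LinearMap.id)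
        (CfsgLib.Perm.Elusive.OverField.frame_ext hA hc1 hw hcard
          (fun j => by
            simp only [LinearMap.comp_apply, LinearEquiv.coe_coe, hTu, map_add, map_smul, hTv, LinearMap.smul_apply, LinearMap.id_apply]
            match_scalars <;> first | linear_combination hab | linear_combination -hab | ring)
          (fun j => by
            simp only [LinearMap.comp_apply, LinearEquiv.coe_coe, hTv, map_add, map_smul, map_neg, hTu, LinearMap.smul_apply, LinearMap.id_apply]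
            match_scalars <;> first | linear_combination hab | linear_combination -hab | ring)) c
      obtain ⟨mt, ut, hmt, hpt⟩ := CfsgLib.Perm.Elusive.OverField.exists_skew_pairs h2 hA hN (J := T.toLinearMap)
        (neg_ne_zero.2 one_ne_zero) (fun a b => by
          have h := hTI a (T b)
          rw [hTT, map_smul, smul_eq_mul] at h
          show B (T a) b = -B a (T b)
          linear_combination -h) hTT
      rw [hV] at hmt
      obtain rfl : d = mt := by omega
      obtain ⟨G, hGB, hGu, hGv⟩ := CfsgLib.Perm.Elusive.OverField.exists_frame_map hA hc1 hpt hpx hcard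
      refine hfin T.toLinearMap (Or.inr fun c => LinearMap.congr_fun hTJ c) G hGB
        (CfsgLib.Perm.Elusive.OverField.frame_ext hA hc1 hpt hcard (fun j => ?_) (fun j => ?_))
      · have := hGv j; simp at this ⊢; rw [this, hGu]
      · have := hGv j; simp at this ⊢; rw [this, hTT, map_smul, hXT, hGu]
  refine iff_of_false (fun hL => ?_) hr2
  have hr : r.Prime := Fact.out
  by_cases hrp : r = p
  · subst hrp
    obtain ⟨x, hx, hxr, hxd⟩ := CfsgLib.Perm.Elusive.OverField.exists_transvection (F := F) (d := d) (by omega) r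
    obtain ⟨g, hg, hgx⟩ := hL x hx ⟨1, by rw [hxr, Units.val_one, one_smul]⟩
      (hnotscalar x _ rfl ⟨r, hr.odd_of_ne_two hr2, hxr⟩ hx (by omega))
    letI : Field K := (CfsgLib.Perm.Elusive.OverField.isField_sub hK).toField
    haveI : Finite K := Subtype.finite
    haveI : FiniteDimensional F K := Module.Finite.of_finite
    obtain ⟨τ, hτ⟩ : ∃ τ : K →ₐ[F] Module.End F (Fin d ⊕ Fin d → F), ∀ a v, τ a v = a.1 *ᵥ v :=
      ⟨(Matrix.toLinAlgEquiv' : Matrix (Fin d ⊕ Fin d) (Fin d ⊕ Fin d) F ≃ₐ[F] _).toAlgHom.comp K.val,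
        fun a v => Matrix.toLin'_apply a.1 v⟩
    obtain ⟨y, hy⟩ : ∃ y, y = g⁻¹ * x * g := ⟨_, rfl⟩
    rw [← hy] at hgx
    have hyn : y ^ r = 1 := by
      rw [hy, show (g⁻¹ * x * g) ^ r = g⁻¹ * x ^ r * g by simpa using conj_pow (a := g⁻¹) (b := x) (i := r), hxr,
        mul_one, inv_mul_cancel]
    rcases CfsgLib.Perm.Elusive.OverField.normalizer_dichotomy Nat.prime_two hK hgx hr hyn with hlin | ⟨h, -⟩
    swap
    · exact hr2 h
    obtain ⟨T, hT⟩ : ∃ T, T = Matrix.toLin' (y : Matrix (Fin d ⊕ Fin d) (Fin d ⊕ Fin d) F) := ⟨_, rfl⟩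
    have hdiv : 2 ∣ Module.finrank F (LinearMap.ker (T - 1)) := by
      rw [← hK.finrank_eq]
      refine CfsgLib.Perm.Elusive.OverField.finrank_dvd τ fun a v hv => ?_
      rw [LinearMap.mem_ker, LinearMap.sub_apply, Module.End.one_apply, sub_eq_zero, hT, Matrix.toLin'_apply] at hv ⊢
      rw [hτ, Matrix.mulVec_mulVec, hlin _ a.2, ← Matrix.mulVec_mulVec, hv]
    have h := CfsgLib.Perm.Elusive.OverField.finrank_ker_conj g x (Polynomial.X - 1 : Polynomial F)
    rw [map_sub, map_sub, Polynomial.aeval_X, Polynomial.aeval_X, map_one, map_one, ← hy, ← hT] at h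
    rw [h] at hdiv
    omega
  obtain ⟨i, hi⟩ : ∃ i, i = orderOf ((Fintype.card F : ℕ) : ZMod r) := ⟨_, rfl⟩
  obtain ⟨c, hc⟩ : ∃ c, c = if Even i then i else 2 * i := ⟨_, rfl⟩
  have hipos : 0 < i := hi ▸ CfsgLib.Perm.Elusive.order_pos hrp
  have hq1 : 1 < Fintype.card F := Fintype.one_lt_card
  have hw' : CfsgLib.Perm.Elusive.OverField.IsPairs (CfsgLib.Classical.SympCount.sB d F) (fun _ => (1 : F)) w (fun j => E *ᵥ w j) := by
    rw [← hB]
    simpa only [hJv] using hw
  have hdvd := CfsgLib.Perm.Elusive.OverField.gu_descent h2 (by omega) hK hEK hδ hEE hspan hw'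
  have hG : Nat.card (Cfsg.spGL d F) = Fintype.card F ^ (d ^ 2) *
      ((∏ j ∈ Finset.range d, (if Even j then Fintype.card F ^ (j + 1) + 1 else Fintype.card F ^ (j + 1) - 1)) *
        ∏ j ∈ Finset.range d, (if Even j then Fintype.card F ^ (j + 1) - 1 else Fintype.card F ^ (j + 1) + 1)) := by
    rw [CfsgLib.Perm.Elusive.card_spGL, CfsgLib.Classical.card_symplectic, ← Finset.prod_mul_distrib]
    refine congrArg _ (Finset.prod_congr rfl fun j _ => ?_)
    have hsq : Fintype.card F ^ (2 * (j + 1)) - 1 = (Fintype.card F ^ (j + 1) + 1) * (Fintype.card F ^ (j + 1) - 1) := by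
      rw [mul_comm 2, pow_mul, ← Nat.sq_sub_sq, one_pow]
    rw [hsq]
    split_ifs
    · rfl
    · exact mul_comm _ _
  have hidx : (Cfsg.Geo.subalgebraNormalizer K).relIndex (Cfsg.spGL d F) *
      Nat.card (Cfsg.Geo.subalgebraNormalizer K ⊓ Cfsg.spGL d F : Subgroup (GL (Fin d ⊕ Fin d) F)) =
      Nat.card (Cfsg.spGL d F) := by
    rw [← Subgroup.inf_relIndex_right, ← Nat.card_congr (Subgroup.subgroupOfEquivOfLe
      (inf_le_right : Cfsg.Geo.subalgebraNormalizer K ⊓ Cfsg.spGL d F ≤ Cfsg.spGL d F)).toEquiv]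
    exact Subgroup.index_mul_card _
  have h := mul_dvd_mul hΩ hdvd
  rw [hidx, hG, ← mul_assoc r, mul_left_comm (Fintype.card F ^ d ^ 2), mul_comm (r * _)] at h
  have hpos : 0 < ∏ j ∈ Finset.range d, (if Even j then Fintype.card F ^ (j + 1) + 1 else Fintype.card F ^ (j + 1) - 1) :=
    Finset.prod_pos fun j _ => by
      split_ifs
      · omega
      · exact Nat.sub_pos_of_lt (Nat.one_lt_pow (by omega) hq1)
  have h' := dvd_trans (dvd_mul_right r _) (Nat.dvd_of_mul_dvd_mul_left hpos h)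
  obtain ⟨hc2, hgood⟩ : c ≤ 2 * d ∧ (Odd i ∨ ∃ t, i = 2 * t ∧ Even t) := by
    rcases hr.dvd_mul.1 h' with h1 | h1
    · exfalso
      obtain ⟨n, hp', hn⟩ := FiniteField.card F p
      rw [hn, ← pow_mul] at h1
      exact hrp ((Nat.prime_dvd_prime_iff_eq hr hp').1 (hr.dvd_of_dvd_pow h1))
    rw [hr.prime.dvd_finsetProd_iff] at h1
    obtain ⟨j, hj, hj'⟩ := h1
    rw [Finset.mem_range] at hj
    split_ifs at hj' with hje
    · have hij : i ∣ j + 1 := by
        rw [hi, orderOf_dvd_iff_pow_eq_one, ← sub_eq_zero]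
        have h := (ZMod.natCast_eq_zero_iff _ r).2 hj'
        rwa [Nat.cast_sub (Nat.one_le_pow _ _ Fintype.card_pos), Nat.cast_pow, Nat.cast_one] at h
      have hio : Odd i := Odd.of_dvd_nat hje.add_one hij
      have := Nat.le_of_dvd (by omega) hij
      exact ⟨by rw [hc, if_neg (Nat.not_even_iff_odd.2 hio)]; omega, Or.inl hio⟩
    · have hneg : (Fintype.card F : ZMod r) ^ (j + 1) = -1 := by
        have h := (ZMod.natCast_eq_zero_iff _ r).2 hj'
        rw [Nat.cast_add, Nat.cast_pow, Nat.cast_one] at h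
        exact eq_neg_of_add_eq_zero_left h
      have hij : i ∣ 2 * (j + 1) := by
        rw [hi, orderOf_dvd_iff_pow_eq_one, mul_comm, pow_mul, hneg, neg_one_sq]
      have hnot : ¬ i ∣ j + 1 := fun h => by
        rw [hi, orderOf_dvd_iff_pow_eq_one, hneg] at h
        exact CfsgLib.Perm.Elusive.one_ne_neg_one_zmod hr2 h.symm
      rcases Nat.even_or_odd i with hev | ho
      swap
      · exact absurd ((Nat.coprime_two_right.2 ho).dvd_of_dvd_mul_left hij) hnot
      obtain ⟨t, ht⟩ := hev.two_dvd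
      subst ht
      have htj : t ∣ j + 1 := Nat.dvd_of_mul_dvd_mul_left two_pos hij
      have hte : Even t := by
        by_contra hto
        have he : Even (j + 1) := Nat.even_add_one.2 hje
        exact hnot ((Nat.coprime_two_left.2 (Nat.not_even_iff_odd.1 hto)).mul_dvd_of_dvd_of_dvd he.two_dvd htj)
      have := Nat.le_of_dvd (by omega) htj
      exact ⟨by rw [hc, if_pos (even_two_mul t)]; omega, Or.inr ⟨t, rfl, hte⟩⟩
  obtain ⟨c', hc'⟩ : ∃ c', c = 2 * c' := by
    rw [hc]; split_ifs with hev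
    · exact hev.two_dvd
    · exact ⟨i, rfl⟩
  obtain ⟨x₀, hx₀r, hx₀d⟩ := CfsgLib.Perm.Elusive.exists_symp_element (p := p) hrp hr2 (c := c) (d := d) (e := d - c') (k := 1)
    (by rw [hc, hi]) (by omega)
  obtain ⟨T₀, hT₀⟩ : ∃ T₀, T₀ = Matrix.toLin' (x₀ : Matrix (Fin d ⊕ Fin d) (Fin d ⊕ Fin d) F) := ⟨_, rfl⟩
  have hT₀r : T₀ ^ r = 1 := by rw [hT₀, ← Matrix.toLin'_pow, hx₀r, Matrix.toLin'_one]; rfl
  obtain ⟨x, hxr, hxv⟩ := CfsgLib.Perm.Elusive.exists_gl_of_pow hr.ne_zero hT₀r
  have hxm : (x : Matrix (Fin d ⊕ Fin d) (Fin d ⊕ Fin d) F) = (x₀ : Matrix (Fin d ⊕ Fin d) (Fin d ⊕ Fin d) F) :=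
    Matrix.ext_iff_mulVec.2 fun v => by rw [hxv, hT₀, Matrix.toLin'_apply]
  have hx : x ∈ Cfsg.spGL d F := fun a b => by
    show Cfsg.sympForm d F (x.1 *ᵥ a) (x.1 *ᵥ b) = Cfsg.sympForm d F a b
    rw [hxm]; exact CfsgLib.Sp.sf_sp x₀ a b
  have hxd : Module.finrank F (LinearMap.ker (Matrix.toLin' (x : Matrix (Fin d ⊕ Fin d) (Fin d ⊕ Fin d) F) - 1)) + c = 2 * d := by
    rw [hxm, hx₀d]; omega
  have hc0 : 0 < c := by rw [hc]; split_ifs <;> omega
  obtain ⟨g, hg, hgx⟩ := hL x hx ⟨1, by rw [hxr, Units.val_one, one_smul]⟩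
    (hnotscalar x _ rfl ⟨r, hr.odd_of_ne_two hr2, hxr⟩ hx (by omega))
  obtain ⟨hki, M, hM0, hMK, hMn, hadj⟩ :=
    CfsgLib.Perm.Elusive.OverField.block_of_normalizer (p := p) hrp hr2 Nat.prime_two hd hK hi hc hx hxr hxd hg hgx
  rcases hgood with ho | ⟨t, ht, hte⟩
  · exact Nat.not_even_iff_odd.2 ho (even_iff_two_dvd.2 hki)
  · obtain ⟨s, hs⟩ := hte
    letI : Field K := (CfsgLib.Perm.Elusive.OverField.isField_sub hK).toField
    haveI : Finite K := Subtype.finite
    letI : Fintype K := Fintype.ofFinite K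
    have hKc : Fintype.card K = Fintype.card F ^ 2 := by rw [Module.card_eq_pow_finrank (K := F), hK.finrank_eq]
    have hpow : E ^ Fintype.card F ^ t = E := by
      have hper : ∀ n, (⟨E, hEK⟩ : K) ^ (Fintype.card F ^ 2) ^ n = ⟨E, hEK⟩ := fun n => by
        induction n with
        | zero => simp
        | succ n ih => rw [pow_succ, pow_mul, ih, ← hKc, FiniteField.pow_card]
      have h := congrArg Subtype.val (hper s)
      rw [← pow_mul, show 2 * s = t by omega] at h
      exact h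
    have hzero : ∀ a ∈ M, ∀ b ∈ M, B a (E *ᵥ b) = 0 := fun a ha b hb => by
      have h1 := hadj t ht E hEK a ha b hb
      rw [hpow, hEskew, ← hBf] at h1
      exact (mul_eq_zero.1 (show (2 : F) * B a (E *ᵥ b) = 0 by linear_combination -h1)).resolve_left h2
    obtain ⟨u, hu, hu0⟩ := Submodule.exists_mem_ne_zero_of_ne_bot hM0
    obtain ⟨v, hv, huv⟩ := hMn u hu hu0
    refine huv ?_
    have h := hzero u hu (δ⁻¹ • (E *ᵥ v)) (M.smul_mem _ (hMK E hEK v hv))
    rw [Matrix.mulVec_smul, Matrix.mulVec_mulVec, hEE, Matrix.smul_mulVec, Matrix.one_mulVec, inv_smul_smul₀ hδ0] at h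
    rw [← hBf]; exact h

end Cfsg.Agent.S5976
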