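import Cfsg.Statements.S5979
-- import your own Cfsg.Agent.* helpers here
import Mathlib
import Cfsg.Agent.Lib.Perm.Elusive.TensorRank
import Cfsg.Agent.Lib.Perm.Elusive.ImprimitiveSemisimple

set_option autoImplicit false
set_option linter.all false
open scoped MatrixGroups
open Cfsg

namespace Cfsg.Agent.S5979
open Matrix
open scoped Kronecker

/-- Elements of prime order of PSL_n(q) and the stabilizers of tensor decompositions with factors of different dimensions. Here `T = PSL_n(F)` for a field `F` with `q` elements and `n = a·b` with `2 ≤ a < b`; a tensor decomposition `F^n ≅ F^a ⊗ F^b` is given by a bijection `e` of index sets and a change of basis `P`, and `H` is the subgroup of matrices of determinant 1 in its stabilizer (the conjugate by `P` of the group of Kronecker products `g₁ ⊗ g₂`) — a subgroup of type GL_a(q) ⊗ GL_b(q) (maximality is not assumed); Ω is the set of cosets of `H` in `T`, so an element of `T` of prime order `r` (a matrix `x` of determinant 1 with `x^r` scalar, `x`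 not scalar) fixes a point of Ω exactly when some conjugate of `x` by a matrix of determinant 1 lies in `H`. Let `r` be a prime dividing the index of `H`. Then every element of `T` of order `r` fixes a point of Ω if and only if `r = 2`, `a = 2`, `q` is odd and `(q − 1)_2 ≤ (n)_2` (2-parts). -/
theorem result {F : Type*} [Field F] [Fintype F] {p : ℕ} [Fact p.Prime] [CharP F p] {q : ℕ} (hq : Fintype.card F = q)
    (n a b : ℕ) (hab : n = a * b) (ha : 2 ≤ a) (hlt : a < b) (e : Fin n ≃ Fin a × Fin b) (P : GL (Fin n) F)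
    (r : ℕ) [Fact r.Prime]
    (hΩ : r ∣ (Cfsg.Geo.tensorProductSubgroup a b e P).relIndex (Cfsg.Geo.specialLinear (Fin n) F)) :
    (∀ x ∈ Cfsg.Geo.specialLinear (Fin n) F, (∃ z : F, ((x ^ r : GL (Fin n) F) : Matrix (Fin n) (Fin n) F) = z • (1 : Matrix (Fin n) (Fin n) F)) →
      (∀ z : F, (x : Matrix (Fin n) (Fin n) F) ≠ z • (1 : Matrix (Fin n) (Fin n) F)) →
      ∃ g ∈ Cfsg.Geo.specialLinear (Fin n) F, g⁻¹ * x * g ∈ Cfsg.Geo.tensorProductSubgroup a b e P) ↔
    (r = 2 ∧ a = 2 ∧ Odd q ∧ padicValNat 2 (q - 1) ≤ padicValNat 2 n) := by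
  classical
  subst hq
  have hr : r.Prime := Fact.out
  have hp : p.Prime := Fact.out
  have ha0 : 0 < a := by omega
  have hn : 6 ≤ n := by
    have h1 : 2 * 3 ≤ a * b := Nat.mul_le_mul ha (by omega)
    omega
  constructor
  · intro hLHS
    by_contra hbad
    have key : ∀ (X : Matrix (Fin n) (Fin n) F), X.det = 1 → ∀ z : F, X ^ r = z • 1 → (∀ z : F, X ≠ z • 1) →
        ∃ (A : GL (Fin a) F) (B : GL (Fin b) F),
          (∀ l : F, (X - l • 1).rank = ((A : Matrix (Fin a) (Fin a) F) ⊗ₖ (B : Matrix (Fin b) (Fin b) F) -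
            l • (1 : Matrix (Fin a × Fin b) (Fin a × Fin b) F)).rank) ∧
          ((A : Matrix (Fin a) (Fin a) F) ⊗ₖ (B : Matrix (Fin b) (Fin b) F)) ^ r = z • (1 : Matrix (Fin a × Fin b) (Fin a × Fin b) F) := by
      intro X hd z hz hns
      obtain ⟨g, -, hg⟩ := hLHS (Matrix.GeneralLinearGroup.mkOfDetNeZero X (hd ▸ one_ne_zero))
        (MonoidHom.mem_ker.2 (Units.ext (by simpa using hd))) ⟨z, by rw [Units.val_pow_eq_pow_val]; simpa using hz⟩
        (fun z' => by simpa using hns z')
      obtain ⟨A, B, h1, h2⟩ := CfsgLib.Perm.Elusive.exists_tensor_of_conj hg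
      exact ⟨A, B, fun l => by simpa using h1 l, h2 r z (by simpa using hz)⟩
    have hscal : ∀ (A : GL (Fin a) F) (B : GL (Fin b) F) (α : F), (A : Matrix (Fin a) (Fin a) F) = α • 1 → ∀ l : F,
        ((A : Matrix (Fin a) (Fin a) F) ⊗ₖ (B : Matrix (Fin b) (Fin b) F) -
          l • (1 : Matrix (Fin a × Fin b) (Fin a × Fin b) F)).rank = a * (α • (B : Matrix (Fin b) (Fin b) F) - l • 1).rank := by
      intro A B α hA l
      rw [← CfsgLib.Perm.Elusive.rank_one_kronecker, hA]
      congr 1
      ext x y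
      simp [Matrix.kroneckerMap_apply, Matrix.one_apply, Prod.ext_iff]
      split_ifs <;> simp_all
    have hAscal : ∀ (A : GL (Fin a) F) (B : GL (Fin b) F) (l : F) (R : ℕ), R < b →
        ((A : Matrix (Fin a) (Fin a) F) ⊗ₖ (B : Matrix (Fin b) (Fin b) F) -
          l • (1 : Matrix (Fin a × Fin b) (Fin a × Fin b) F)).rank = R → ∃ α : F, (A : Matrix (Fin a) (Fin a) F) = α • 1 := by
      intro A B l R hR hrank
      by_contra hA
      push Not at hA
      have := CfsgLib.Perm.Elusive.rank_ge_of_nonscalar hA ((Matrix.isUnit_iff_isUnit_det _).1 B.isUnit) l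
      omega
    obtain ⟨i₀, hi₀⟩ : ∃ i₀ : Fin n, i₀ = ⟨0, by omega⟩ := ⟨_, rfl⟩
    obtain ⟨i₁, hi₁⟩ : ∃ i₁ : Fin n, i₁ = ⟨1, by omega⟩ := ⟨_, rfl⟩
    obtain ⟨i₂, hi₂⟩ : ∃ i₂ : Fin n, i₂ = ⟨2, by omega⟩ := ⟨_, rfl⟩
    have h01 : i₀ ≠ i₁ := by rw [hi₀, hi₁]; simp
    have h02 : i₀ ≠ i₂ := by rw [hi₀, hi₂]; simp
    have h12 : i₁ ≠ i₂ := by rw [hi₁, hi₂]; simp
    by_cases hrp : r = p
    · subst hrp
      obtain ⟨N, hN⟩ : ∃ N : Matrix (Fin n) (Fin n) F, N = Matrix.single i₀ i₁ 1 := ⟨_, rfl⟩
      have hNp : N ^ r = 0 := by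
        obtain ⟨k, hk⟩ : ∃ k, r = k + 2 := ⟨r - 2, by have := hr.two_le; omega⟩
        rw [hk, pow_add, sq, hN, Matrix.single_mul_single_of_ne _ _ _ _ h01.symm, mul_zero]
      have hXp : (1 + N) ^ r = 1 := by
        haveI : Nonempty (Fin n) := ⟨i₀⟩
        rw [add_pow_char_of_commute r (Commute.one_left N), one_pow, hNp, add_zero]
      obtain ⟨A, B, hrk, -⟩ := key (1 + N) (by rw [hN]; exact Matrix.det_transvection_of_ne i₀ i₁ h01 1) 1
        (by rw [one_smul]; exact hXp) (fun z hz => by
          have h := congrFun (congrFun hz i₀) i₁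
          simp [hN, Matrix.one_apply_ne h01] at h)
      have hr1 : ((1 + N) - (1 : F) • 1).rank = 1 := by
        rw [one_smul, add_sub_cancel_left]
        refine le_antisymm ?_ (Nat.one_le_iff_ne_zero.2 fun h0 => ?_)
        · rw [Matrix.rank]
          refine (Submodule.finrank_mono (t := Submodule.span F {Pi.single i₀ 1}) ?_).trans
            (le_of_eq (finrank_span_singleton (by simp)))
          rintro _ ⟨w, rfl⟩
          refine Submodule.mem_span_singleton.2 ⟨w i₁, ?_⟩
          rw [Matrix.mulVecLin_apply, hN]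
          funext i
          simp only [Matrix.mulVec, dotProduct, Pi.smul_apply, Pi.single_apply, Matrix.single_apply, smul_eq_mul]
          by_cases hi : i = i₀
          · subst hi; simp
          · simp [hi, Ne.symm hi]
        · rw [Matrix.rank, Submodule.finrank_eq_zero, LinearMap.range_eq_bot, hN] at h0
          have h := congrFun (LinearMap.congr_fun h0 (Pi.single i₁ 1)) i₀
          simp [Matrix.mulVec_single_one] at h
      rw [hrk] at hr1
      obtain ⟨α, hα⟩ := hAscal A B 1 1 (by omega) hr1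
      rw [hscal A B α hα] at hr1
      have := Nat.dvd_one.1 ⟨_, hr1.symm⟩
      omega
    obtain ⟨c, hc⟩ : ∃ c, c = orderOf ((Fintype.card F : ℕ) : ZMod r) := ⟨_, rfl⟩
    have hcpos : 0 < c := hc ▸ CfsgLib.Perm.Elusive.order_pos hrp
    by_cases hc1 : c = 1
    · have hq1 : r ∣ Fintype.card F - 1 := (CfsgLib.Perm.Elusive.order_one_iff hrp).1 (hc ▸ hc1)
      by_cases hr2a : r = 2 ∧ a = 2
      · obtain ⟨rfl, rfl⟩ := hr2a
        have hodd : Odd (Fintype.card F) := by
          have := Fintype.card_pos (α := F)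
          obtain ⟨k, hk⟩ := hq1
          exact ⟨k, by omega⟩
        have hv : padicValNat 2 n < padicValNat 2 (Fintype.card F - 1) := by
          by_contra h
          exact hbad ⟨rfl, rfl, hodd, by omega⟩
        obtain ⟨g, hg⟩ := IsCyclic.exists_ofOrder_eq_natCard (α := Fˣ)
        rw [Nat.card_units, Nat.card_eq_fintype_card] at hg
        have hdvd : 2 ^ (padicValNat 2 n + 1) ∣ Fintype.card F - 1 :=
          (pow_dvd_pow 2 hv).trans pow_padicValNat_dvd
        obtain ⟨ξ, hξ⟩ : ∃ ξ : Fˣ, orderOf ξ = 2 ^ (padicValNat 2 n + 1) :=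
          ⟨_, orderOf_pow_orderOf_div (orderOf_pos g).ne' (hg ▸ hdvd)⟩
        obtain ⟨m, hm⟩ : 2 ^ padicValNat 2 n ∣ n := pow_padicValNat_dvd
        have hmodd : Odd m := by
          rw [← Nat.not_even_iff_odd]
          intro he
          have h1 : 2 ^ (padicValNat 2 n + 1) ∣ n := by
            conv_rhs => rw [hm]
            rw [pow_succ]
            exact Nat.mul_dvd_mul_left _ he.two_dvd
          rw [padicValNat_dvd_iff_le (by omega)] at h1
          omega
        obtain ⟨w, hw⟩ : ∃ w : F, w = (ξ : F) := ⟨_, rfl⟩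
        have hhalf : w ^ 2 ^ padicValNat 2 n = -1 := by
          have h1 : (w ^ 2 ^ padicValNat 2 n) * (w ^ 2 ^ padicValNat 2 n) = 1 := by
            rw [← pow_add, ← two_mul, ← pow_succ', hw, ← Units.val_pow_eq_pow_val, ← hξ, pow_orderOf_eq_one, Units.val_one]
          rcases mul_self_eq_one_iff.1 h1 with h | h
          · exfalso
            have h2 : ξ ^ 2 ^ padicValNat 2 n = 1 := Units.ext (by rw [Units.val_pow_eq_pow_val, ← hw, h, Units.val_one])
            have h3 := orderOf_dvd_of_pow_eq_one h2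
            rw [hξ, Nat.pow_dvd_pow_iff_le_right (by norm_num)] at h3
            omega
          · exact h
        have hwn : w ^ n = -1 := by rw [hm, pow_mul, hhalf, hmodd.neg_one_pow]
        have hw0 : w ≠ 0 := hw ▸ ξ.ne_zero
        have h2 : (2 : F) ≠ 0 := fun h => hrp ((Nat.prime_dvd_prime_iff_eq hp Nat.prime_two).1
          ((CharP.cast_eq_zero_iff F p 2).1 (by exact_mod_cast h))).symm
        have hww : -w ≠ w := fun h => hw0 (by
          have h3 : (2 : F) * w = 0 := by linear_combination -h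
          exact (mul_eq_zero.1 h3).resolve_left h2)
        obtain ⟨d, hd⟩ : ∃ d : Fin n → F, ∀ i, d i = if i = i₀ then -w else w := ⟨_, fun i => rfl⟩
        obtain ⟨A, B, hrk, -⟩ := key (Matrix.diagonal d) (by
            rw [Matrix.det_diagonal]
            have e1 : ∀ i, d i = w * (if i = i₀ then (-1 : F) else 1) := fun i => by rw [hd]; split_ifs <;> ring
            rw [Finset.prod_congr rfl (fun i _ => e1 i), Finset.prod_mul_distrib, Finset.prod_const, Finset.card_univ,
              Fintype.card_fin, hwn, Finset.prod_ite_eq' Finset.univ i₀ (fun _ => (-1 : F))]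
            simp) (w * w) (by
            rw [Matrix.diagonal_pow, Matrix.smul_one_eq_diagonal]
            congr 1
            funext i
            rw [Pi.pow_apply, hd]
            split_ifs <;> ring) (fun z hz => by
            have e0 := congrFun (congrFun hz i₀) i₀
            have e1 := congrFun (congrFun hz i₁) i₁
            simp [hd, h01.symm] at e0 e1
            exact hww (e0.trans e1.symm))
        have hr1 : (Matrix.diagonal d - w • (1 : Matrix (Fin n) (Fin n) F)).rank = 1 := by
          rw [Matrix.smul_one_eq_diagonal, Matrix.diagonal_sub, Matrix.rank_diagonal, Fintype.card_subtype,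
            show (Finset.univ.filter fun i => d i - w ≠ 0) = {i₀} from ?_, Finset.card_singleton]
          ext i
          simp only [Finset.mem_filter, Finset.mem_univ, true_and, Finset.mem_singleton, hd, sub_ne_zero]
          split_ifs with hi <;> simp [hi, hww]
        rw [hrk] at hr1
        obtain ⟨α, hα⟩ := hAscal A B w 1 (by omega) hr1
        rw [hscal A B α hα] at hr1
        have := Nat.dvd_one.1 ⟨_, hr1.symm⟩
        omega
      obtain ⟨g, hg⟩ := IsCyclic.exists_ofOrder_eq_natCard (α := Fˣ)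
      rw [Nat.card_units, Nat.card_eq_fintype_card] at hg
      obtain ⟨u, hu⟩ : ∃ u : Fˣ, orderOf u = r := ⟨_, orderOf_pow_orderOf_div (orderOf_pos g).ne' (hg ▸ hq1)⟩
      have hur : (u : F) ^ r = 1 := by rw [← Units.val_pow_eq_pow_val, ← hu, pow_orderOf_eq_one, Units.val_one]
      have hu1 : (u : F) ≠ 1 := fun h => hr.ne_one (by rw [← hu, orderOf_eq_one_iff]; exact Units.ext h)
      have hu1' : ((u⁻¹ : Fˣ) : F) ≠ 1 := fun h => hu1 (by
        rw [show u = 1 from inv_eq_one.1 (Units.ext h), Units.val_one])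
      obtain ⟨d, hd⟩ : ∃ d : Fin n → F, ∀ i, d i = if i = i₀ then (u : F) else if i = i₁ then ((u⁻¹ : Fˣ) : F) else 1 :=
        ⟨_, fun i => rfl⟩
      obtain ⟨A, B, hrk, -⟩ := key (Matrix.diagonal d) (by
          rw [Matrix.det_diagonal, Finset.prod_eq_mul i₀ i₁ h01]
          · rw [hd, hd, if_pos rfl, if_neg h01.symm, if_pos rfl, ← Units.val_mul, mul_inv_cancel, Units.val_one]
          · intro i _ hi; rw [hd, if_neg hi.1, if_neg hi.2]
          · exact fun h => absurd (Finset.mem_univ _) h
          · exact fun h => absurd (Finset.mem_univ _) h) 1 (by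
          rw [Matrix.diagonal_pow, one_smul, ← Matrix.diagonal_one]
          congr 1
          funext i
          rw [Pi.pow_apply, hd]
          split_ifs
          · exact hur
          · rw [← Units.val_pow_eq_pow_val, inv_pow, ← hu, pow_orderOf_eq_one, inv_one, Units.val_one]
          · exact one_pow r) (fun z hz => by
          have e0 := congrFun (congrFun hz i₀) i₀
          have e2 := congrFun (congrFun hz i₂) i₂
          simp [hd, h02.symm, h12.symm] at e0 e2
          exact hu1 (e0.trans e2.symm))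
      have hr1 : (Matrix.diagonal d - (1 : F) • (1 : Matrix (Fin n) (Fin n) F)).rank = 2 := by
        rw [Matrix.smul_one_eq_diagonal, Matrix.diagonal_sub, Matrix.rank_diagonal, Fintype.card_subtype,
          show (Finset.univ.filter fun i => d i - 1 ≠ 0) = {i₀, i₁} from ?_, Finset.card_pair h01]
        ext i
        simp only [Finset.mem_filter, Finset.mem_univ, true_and, Finset.mem_insert, Finset.mem_singleton, hd, sub_ne_zero]
        split_ifs with h1 h2
        · exact iff_of_true hu1 (Or.inl h1)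
        · exact iff_of_true hu1' (Or.inr h2)
        · exact iff_of_false (fun h => h rfl) (by rintro (h | h); exacts [h1 h, h2 h])
      rw [hrk] at hr1
      obtain ⟨α, hα⟩ := hAscal A B 1 2 (by omega) hr1
      rw [hscal A B α hα] at hr1
      have ha2 : a = 2 := le_antisymm (Nat.le_of_dvd two_pos ⟨_, hr1.symm⟩) ha
      have hr2 : r ≠ 2 := fun h => hr2a ⟨h, ha2⟩
      have huu : ((u⁻¹ : Fˣ) : F) ≠ (u : F) := fun h => by
        have h2 : u * u = 1 := inv_eq_iff_mul_eq_one.1 (Units.ext h)
        have h3 := orderOf_dvd_of_pow_eq_one (x := u) (n := 2) (by rw [sq, h2])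
        rw [hu] at h3
        exact hr2 ((Nat.prime_dvd_prime_iff_eq hr Nat.prime_two).1 h3)
      have hr3 : (Matrix.diagonal d - (u : F) • (1 : Matrix (Fin n) (Fin n) F)).rank = n - 1 := by
        rw [Matrix.smul_one_eq_diagonal, Matrix.diagonal_sub, Matrix.rank_diagonal, Fintype.card_subtype,
          show (Finset.univ.filter fun i => d i - (u : F) ≠ 0) = Finset.univ.erase i₀ from ?_, Finset.card_erase_of_mem
            (Finset.mem_univ _), Finset.card_univ, Fintype.card_fin]
        ext i
        simp only [Finset.mem_filter, Finset.mem_univ, true_and, Finset.mem_erase, and_true, hd, sub_ne_zero]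
        split_ifs with h1 h2
        · exact iff_of_false (fun h => h rfl) (fun h => h h1)
        · exact iff_of_true huu h1
        · exact iff_of_true (Ne.symm hu1) h1
      rw [hrk, hscal A B α hα, ha2] at hr3
      rw [hab, ha2] at hr3
      omega
    have hc2 : 2 ≤ c := by omega
    have hcn : c ≤ n := by
      have h1 : r ∣ Nat.card (GL (Fin n) F) :=
        hΩ.trans ((Subgroup.index_dvd_card _).trans (Subgroup.card_subgroup_dvd_card _))
      rw [Matrix.card_GL_field] at h1
      obtain ⟨i, -, hi⟩ := (hr.prime.dvd_finsetProd_iff _).1 h1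
      have hz := CfsgLib.Perm.Elusive.card_ne_zero_zmod (F := F) hrp
      rw [← (ZMod.natCast_eq_zero_iff _ r), Nat.cast_sub (Nat.pow_le_pow_right Fintype.card_pos i.2.le), sub_eq_zero,
        Nat.cast_pow, Nat.cast_pow] at hi
      have h2 : orderOf ((Fintype.card F : ℕ) : ZMod r) ∣ n - i :=
        orderOf_dvd_of_pow_eq_one (mul_right_cancel₀ (pow_ne_zero (i : ℕ) hz)
          (by rw [← pow_add, Nat.sub_add_cancel i.2.le, one_mul, hi]))
      rw [← hc] at h2
      have := Nat.le_of_dvd (by omega) h2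
      omega
    have hi1 : orderOf ((Fintype.card F : ℕ) : ZMod r) ≠ 1 := hc ▸ hc1
    obtain ⟨T, hT, hTs⟩ := CfsgLib.Perm.Elusive.exists_prime_element (F := F) (p := p) (r := r) hrp (a := n - c) (b := 1)
      (n := n) (by rw [← hc]; omega)
    have hTr : ∀ m (Y : Matrix (Fin m) (Fin m) F) (s : ℕ), Module.finrank F (LinearMap.ker (Matrix.toLin' Y - 1)) = s →
        (Y - (1 : F) • 1).rank = m - s := by
      intro m Y s hs
      rw [one_smul, Matrix.rank, ← Matrix.toLin'_apply']
      have h := LinearMap.finrank_range_add_finrank_ker (Matrix.toLin' (Y - 1))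
      rw [Module.finrank_fin_fun] at h
      rw [map_sub, Matrix.toLin'_one, ← Module.End.one_eq_id] at h ⊢
      omega
    have hX1 : (LinearMap.toMatrix' T) ^ r = 1 := by
      apply Matrix.toLin'.injective
      rw [Matrix.toLin'_pow, Matrix.toLin'_toMatrix', hT, Matrix.toLin'_one]
      rfl
    obtain ⟨A, B, hrk, hpow⟩ := key (LinearMap.toMatrix' T) (by
        rw [LinearMap.det_toMatrix']
        exact CfsgLib.Perm.Elusive.eq_one_of_pow_eq_one hrp hi1 (by rw [← map_pow, hT, map_one])) 1
      (by rw [one_smul]; exact hX1) (fun z hz => by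
        have hTz : T = z • LinearMap.id := by
          have h := congrArg Matrix.toLin' hz
          rwa [map_smul, Matrix.toLin'_toMatrix', Matrix.toLin'_one] at h
        haveI : Nonempty (Fin n) := ⟨i₀⟩
        have hz1 : z ^ r = 1 := by
          have h2 : (z • LinearMap.id : (Fin n → F) →ₗ[F] (Fin n → F)) ^ r = 1 := hTz ▸ hT
          rw [← Module.End.one_eq_id, _root_.smul_pow, one_pow] at h2
          have h := congrFun (LinearMap.congr_fun h2 (fun _ => (1 : F))) i₀
          simpa using h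
        rw [CfsgLib.Perm.Elusive.eq_one_of_pow_eq_one hrp hi1 hz1, one_smul, ← Module.End.one_eq_id] at hTz
        rw [hTz, sub_self, LinearMap.ker_zero, finrank_top, Module.finrank_fin_fun] at hTs
        omega)
    have hrc : (LinearMap.toMatrix' T - (1 : F) • (1 : Matrix (Fin n) (Fin n) F)).rank = c := by
      rw [hTr n _ (n - c) (by rw [Matrix.toLin'_toMatrix']; exact hTs)]
      omega
    rw [hrk] at hrc
    rw [one_smul] at hpow
    have hkr : ∀ j : ℕ, ((A : Matrix (Fin a) (Fin a) F) ⊗ₖ (B : Matrix (Fin b) (Fin b) F)) ^ j =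
        ((A : Matrix (Fin a) (Fin a) F) ^ j) ⊗ₖ ((B : Matrix (Fin b) (Fin b) F) ^ j) := fun j => by
      induction j with
      | zero => simp
      | succ j ih => rw [pow_succ, ih, pow_succ, pow_succ, Matrix.mul_kronecker_mul]
    rw [hkr] at hpow
    obtain ⟨α, hα⟩ : ∃ α : F, (A : Matrix (Fin a) (Fin a) F) = α • 1 := by
      by_cases hcb : c < b
      · exact hAscal A B 1 c hcb hrc
      obtain ⟨j, hj⟩ : ∃ j : Fin b, j = ⟨0, by omega⟩ := ⟨_, rfl⟩
      have hent : ∀ i i', ((A : Matrix (Fin a) (Fin a) F) ^ r) i i' * ((B : Matrix (Fin b) (Fin b) F) ^ r) j j =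
          if i = i' then 1 else 0 := fun i i' => by
        have h := congrFun (congrFun hpow (i, j)) (i', j)
        rw [Matrix.kroneckerMap_apply, Matrix.one_apply] at h
        rw [h]
        simp
      obtain ⟨z', hz'⟩ : ∃ z', z' = (((B : Matrix (Fin b) (Fin b) F) ^ r) j j)⁻¹ := ⟨_, rfl⟩
      have hb0 : ((B : Matrix (Fin b) (Fin b) F) ^ r) j j ≠ 0 := fun h => by
        have h2 := hent ⟨0, ha0⟩ ⟨0, ha0⟩
        rw [h, mul_zero, if_pos rfl] at h2
        exact zero_ne_one h2
      have hAr : (A : Matrix (Fin a) (Fin a) F) ^ r = z' • 1 := by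
        ext i i'
        rw [Matrix.smul_apply, Matrix.one_apply, smul_eq_mul, ← hent i i', hz']
        field_simp
      obtain ⟨l, hl⟩ := CfsgLib.Perm.Elusive.exists_root_of_order_ne_one (r := r) hrp hi1 z'
      have hz0 : z' ≠ 0 := hz' ▸ inv_ne_zero hb0
      have hl0 : l ≠ 0 := fun h => hz0 (by rw [← hl, h, zero_pow hr.ne_zero])
      obtain ⟨y, hy⟩ : ∃ y, y = l⁻¹ • Matrix.toLin' (A : Matrix (Fin a) (Fin a) F) := ⟨_, rfl⟩
      have hyr : y ^ r = 1 := by
        rw [hy, _root_.smul_pow, ← Matrix.toLin'_pow, hAr, map_smul, smul_smul, inv_pow, hl, inv_mul_cancel₀ hz0, one_smul,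
          Matrix.toLin'_one]
        rfl
      obtain ⟨k, hk, -⟩ := CfsgLib.Perm.Elusive.exists_split (p := p) hrp y hyr
      rw [Module.finrank_fin_fun, ← hc] at hk
      have hk0 : k = 0 := by
        by_contra h
        have : c ≤ k * c := Nat.le_mul_of_pos_left _ (Nat.pos_of_ne_zero h)
        omega
      have hker : LinearMap.ker (y - 1) = ⊤ := by
        refine Submodule.eq_top_of_finrank_eq ?_
        rw [Module.finrank_fin_fun]
        rw [hk0, zero_mul, add_zero] at hk
        exact hk.symm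
      rw [LinearMap.ker_eq_top, sub_eq_zero, hy, inv_smul_eq_iff₀ hl0] at hker
      refine ⟨l, Matrix.toLin'.injective ?_⟩
      rw [hker, map_smul, Matrix.toLin'_one]
      rfl
    rw [hscal A B α hα] at hrc
    have hBr : (α • (B : Matrix (Fin b) (Fin b) F)) ^ r = 1 := by
      ext j j'
      have h := congrFun (congrFun hpow ((⟨0, ha0⟩ : Fin a), j)) ((⟨0, ha0⟩ : Fin a), j')
      rw [Matrix.kroneckerMap_apply, hα, _root_.smul_pow, one_pow, Matrix.smul_apply, Matrix.one_apply_eq, smul_eq_mul,
        mul_one, Matrix.one_apply] at h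
      rw [_root_.smul_pow, Matrix.smul_apply, smul_eq_mul, h, Matrix.one_apply]
      simp
    obtain ⟨k, hk, -⟩ := CfsgLib.Perm.Elusive.exists_split (p := p) hrp
      (Matrix.toLin' (α • (B : Matrix (Fin b) (Fin b) F))) (by
        rw [← Matrix.toLin'_pow, hBr, Matrix.toLin'_one]; rfl)
    rw [Module.finrank_fin_fun, ← hc] at hk
    have hkc : (α • (B : Matrix (Fin b) (Fin b) F) - (1 : F) • 1).rank = k * c := by
      rw [hTr b _ _ rfl]
      omega
    rw [hkc] at hrc
    rcases Nat.eq_zero_or_pos k with hk0 | hk0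
    · rw [hk0, zero_mul, mul_zero] at hrc; omega
    · have h1 : 2 * c ≤ a * (k * c) := Nat.mul_le_mul ha (Nat.le_mul_of_pos_left _ hk0)
      omega
  · rintro ⟨rfl, rfl, hodd, hv⟩ x hx ⟨z, hz⟩ hns
    haveI : Nonempty (Fin n) := ⟨⟨0, by omega⟩⟩
    have h2 : (2 : F) ≠ 0 := by
      intro h
      have hp2 : p = 2 := (Nat.prime_dvd_prime_iff_eq hp Nat.prime_two).1 ((CharP.cast_eq_zero_iff F p 2).1 (by exact_mod_cast h))
      obtain ⟨k, hp', hcard⟩ := FiniteField.card F p
      rw [hcard, hp2] at hodd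
      exact (Nat.not_even_iff_odd.2 hodd) ((even_two).pow_of_ne_zero k.pos.ne')
    have hdet : (x : Matrix (Fin n) (Fin n) F).det = 1 := by
      have h := congrArg Units.val (MonoidHom.mem_ker.1 hx)
      rwa [Matrix.GeneralLinearGroup.val_det_apply, Units.val_one] at h
    obtain ⟨T, hTdef⟩ : ∃ T, T = Matrix.toLin' (x : Matrix (Fin n) (Fin n) F) := ⟨_, rfl⟩
    have hT : ∀ v, T (T v) = z • v := fun v => by
      rw [hTdef, ← LinearMap.comp_apply, ← Matrix.toLin'_mul, ← sq, ← Units.val_pow_eq_pow_val, hz, map_smul,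
        Matrix.toLin'_one]
      rfl
    have finish : ∀ (A₀ : Matrix (Fin 2) (Fin 2) F) (B₀ : Matrix (Fin b) (Fin b) F), IsUnit A₀.det → IsUnit B₀.det →
        ∀ (bb : Module.Basis (Fin 2 × Fin b) F (Fin n → F)),
          (∀ j, T (bb j) = ∑ i, (A₀ ⊗ₖ B₀) i j • bb i) →
          (∀ δ : F, δ ≠ 0 → ∃ C : Matrix (Fin 2 × Fin b) (Fin 2 × Fin b) F, C.det = δ ∧ C * (A₀ ⊗ₖ B₀) = (A₀ ⊗ₖ B₀) * C) →
          ∃ g ∈ Cfsg.Geo.specialLinear (Fin n) F, g⁻¹ * x * g ∈ Cfsg.Geo.tensorProductSubgroup 2 b e P := by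
      intro A₀ B₀ hA₀ hB₀ bb hbb hC
      obtain ⟨A, hA⟩ : ∃ A : GL (Fin 2) F, (A : Matrix (Fin 2) (Fin 2) F) = A₀ :=
        ⟨Matrix.GeneralLinearGroup.mkOfDetNeZero A₀ hA₀.ne_zero, rfl⟩
      obtain ⟨B, hB⟩ : ∃ B : GL (Fin b) F, (B : Matrix (Fin b) (Fin b) F) = B₀ :=
        ⟨Matrix.GeneralLinearGroup.mkOfDetNeZero B₀ hB₀.ne_zero, rfl⟩
      obtain ⟨K, hK⟩ : ∃ K : GL (Fin 2 × Fin b) F, (K : Matrix (Fin 2 × Fin b) (Fin 2 × Fin b) F) = A₀ ⊗ₖ B₀ :=
        ⟨Matrix.GeneralLinearGroup.mkOfDetNeZero (A₀ ⊗ₖ B₀) (by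
          rw [Matrix.det_kronecker]; exact mul_ne_zero (pow_ne_zero _ hA₀.ne_zero) (pow_ne_zero _ hB₀.ne_zero)), rfl⟩
      obtain ⟨Bm, hBm⟩ : ∃ Bm : Matrix (Fin n) (Fin n) F, ∀ i j, Bm i j = bb (e j) i := ⟨Matrix.of fun i j => bb (e j) i, fun i j => rfl⟩
      obtain ⟨R, hR⟩ : ∃ R : Matrix (Fin n) (Fin n) F, R = Matrix.reindex e.symm e.symm (A₀ ⊗ₖ B₀) := ⟨_, rfl⟩
      have hxB : (x : Matrix (Fin n) (Fin n) F) * Bm = Bm * R := by
        ext i j
        have h := congrFun (hbb (e j)) i
        rw [hTdef, Matrix.toLin'_apply] at h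
        simp only [Matrix.mulVec, dotProduct, Finset.sum_apply, Pi.smul_apply, smul_eq_mul] at h
        simp only [Matrix.mul_apply, hBm, hR, Matrix.reindex_apply, Equiv.symm_symm, Matrix.submatrix_apply]
        rw [h, ← e.sum_comp]
        exact Finset.sum_congr rfl fun m _ => mul_comm _ _
      have hBdet : Bm.det ≠ 0 := by
        have := (Pi.basisFun F (Fin n)).invertibleToMatrix (bb.reindex e.symm)
        have e1 : Bm = (Pi.basisFun F (Fin n)).toMatrix (bb.reindex e.symm) := by
          ext i j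
          simp [hBm, Module.Basis.toMatrix_apply]
        rw [e1]
        exact (Matrix.isUnit_det_of_invertible _).ne_zero
      obtain ⟨C, hCd, hCR⟩ := hC ((P : Matrix (Fin n) (Fin n) F).det / Bm.det)
        (div_ne_zero ((Matrix.isUnit_iff_isUnit_det _).1 P.isUnit).ne_zero hBdet)
      obtain ⟨C', hC'⟩ : ∃ C' : Matrix (Fin n) (Fin n) F, C' = Matrix.reindex e.symm e.symm C := ⟨_, rfl⟩
      have hC'R : C' * R = R * C' := by
        rw [hC', hR]
        have h := congrArg (Matrix.reindexAlgEquiv F F e.symm) hCR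
        rwa [map_mul, map_mul] at h
      have hC'd : C'.det = (P : Matrix (Fin n) (Fin n) F).det / Bm.det := by rw [hC', Matrix.det_reindex_self, hCd]
      have hgdet : (Bm * C' * ((P⁻¹ : GL (Fin n) F) : Matrix (Fin n) (Fin n) F)).det = 1 := by
        have hPP : (P : Matrix (Fin n) (Fin n) F).det * ((P⁻¹ : GL (Fin n) F) : Matrix (Fin n) (Fin n) F).det = 1 := by
          rw [← Matrix.det_mul, ← Units.val_mul, mul_inv_cancel, Units.val_one, Matrix.det_one]
        rw [Matrix.det_mul, Matrix.det_mul, hC'd, mul_div_cancel₀ _ hBdet, hPP]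
      obtain ⟨g, hg⟩ : ∃ g : GL (Fin n) F, (g : Matrix (Fin n) (Fin n) F) = Bm * C' * ((P⁻¹ : GL (Fin n) F) : Matrix (Fin n) (Fin n) F) :=
        ⟨Matrix.GeneralLinearGroup.mkOfDetNeZero _ (by rw [hgdet]; exact one_ne_zero), rfl⟩
      obtain ⟨Y, hY⟩ : ∃ Y : GL (Fin n) F, Y = P * Cfsg.Geo.glReindex e.symm K * P⁻¹ := ⟨_, rfl⟩
      refine ⟨g, MonoidHom.mem_ker.2 (Units.ext (by
        rw [Matrix.GeneralLinearGroup.val_det_apply, hg, hgdet, Units.val_one])), ?_⟩
      have heq : x * g = g * Y := Units.ext (by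
        have hYv : (Y : Matrix (Fin n) (Fin n) F) = (P : Matrix (Fin n) (Fin n) F) * R * ((P⁻¹ : GL (Fin n) F) : Matrix (Fin n) (Fin n) F) := by
          rw [hY, hR, ← hK]; rfl
        rw [Units.val_mul, Units.val_mul, hg, hYv]
        calc (x : Matrix (Fin n) (Fin n) F) * (Bm * C' * ((P⁻¹ : GL (Fin n) F) : Matrix (Fin n) (Fin n) F))
            = (x : Matrix (Fin n) (Fin n) F) * Bm * C' * ((P⁻¹ : GL (Fin n) F) : Matrix (Fin n) (Fin n) F) := by simp only [mul_assoc]
          _ = Bm * (R * C') * ((P⁻¹ : GL (Fin n) F) : Matrix (Fin n) (Fin n) F) := by rw [hxB]; simp only [mul_assoc]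
          _ = Bm * C' * (((P⁻¹ : GL (Fin n) F) : Matrix (Fin n) (Fin n) F) * (P : Matrix (Fin n) (Fin n) F)) * R *
                ((P⁻¹ : GL (Fin n) F) : Matrix (Fin n) (Fin n) F) := by
              rw [← hC'R, ← Units.val_mul, inv_mul_cancel, Units.val_one, mul_one]; simp only [mul_assoc]
          _ = _ := by simp only [mul_assoc])
      rw [show g⁻¹ * x * g = Y by rw [mul_assoc, heq, inv_mul_cancel_left], hY]
      exact ⟨_, ⟨K, ⟨A, B, by rw [hK, hA, hB]⟩, rfl⟩, rfl⟩
    by_cases hsq : ∃ w : F, w * w = z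
    · obtain ⟨w, hw⟩ := hsq
      have hz0 : z ≠ 0 := fun h => by
        have h2 := congrArg Matrix.det hz
        rw [Units.val_pow_eq_pow_val, Matrix.det_pow, hdet, h, zero_smul, one_pow, Matrix.det_zero] at h2
        exact one_ne_zero h2
      have hw0 : w ≠ 0 := fun h => hz0 (by rw [← hw, h, mul_zero])
      obtain ⟨E₁, hE₁⟩ : ∃ E₁, E₁ = LinearMap.ker (T - w • LinearMap.id) := ⟨_, rfl⟩
      obtain ⟨E₂, hE₂⟩ : ∃ E₂, E₂ = LinearMap.ker (T + w • LinearMap.id) := ⟨_, rfl⟩
      have hm1 : ∀ u, u ∈ E₁ ↔ T u = w • u := fun u => by rw [hE₁, LinearMap.mem_ker]; simp [sub_eq_zero]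
      have hm2 : ∀ u, u ∈ E₂ ↔ T u = -(w • u) := fun u => by rw [hE₂, LinearMap.mem_ker]; simp [add_eq_zero_iff_eq_neg]
      have hcompl : IsCompl E₁ E₂ := by
        constructor
        · rw [Submodule.disjoint_def]
          intro u h1 h3
          rw [hm1] at h1
          rw [hm2, h1, eq_neg_iff_add_eq_zero, ← two_smul F, smul_smul, smul_eq_zero] at h3
          exact h3.resolve_left (mul_ne_zero h2 hw0)
        · rw [codisjoint_iff, eq_top_iff]
          intro u _
          refine Submodule.mem_sup.2 ⟨(2 * w)⁻¹ • (w • u + T u), ?_, (2 * w)⁻¹ • (w • u - T u), ?_, ?_⟩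
          · rw [hm1, map_smul, map_add, map_smul, hT, ← hw]
            module
          · rw [hm2, map_smul, map_sub, map_smul, hT, ← hw]
            module
          · rw [← smul_add, show (w • u + T u) + (w • u - T u) = (2 * w) • u by module, inv_smul_smul₀ (mul_ne_zero h2 hw0)]
      obtain ⟨s, hs⟩ : ∃ s, s = Module.finrank F E₁ := ⟨_, rfl⟩
      obtain ⟨t, ht⟩ : ∃ t, t = Module.finrank F E₂ := ⟨_, rfl⟩
      have hst : s + t = n := by
        rw [hs, ht, Submodule.finrank_add_eq_of_isCompl hcompl, Module.finrank_fin_fun]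
      have hneg : (-1 : F) ≠ 1 := fun h => h2 (by linear_combination -h)
      have hteven : Even t := by
        obtain ⟨b₀, hb₀⟩ : ∃ b₀ : Module.Basis (Fin s ⊕ Fin t) F (Fin n → F), b₀ =
            ((Module.finBasisOfFinrankEq F E₁ hs.symm).prod (Module.finBasisOfFinrankEq F E₂ ht.symm)).map
              (Submodule.prodEquivOfIsCompl E₁ E₂ hcompl) := ⟨_, rfl⟩
        have hact : ∀ i, T (b₀ i) = (Sum.elim (fun _ : Fin s => w) (fun _ : Fin t => -w) i) • b₀ (Equiv.refl _ i) := by
          rintro (i | i)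
          · simp only [Equiv.refl_apply, Sum.elim_inl]
            rw [hb₀]
            simpa using (hm1 _).1 (Module.finBasisOfFinrankEq F E₁ hs.symm i).2
          · simp only [Equiv.refl_apply, Sum.elim_inr]
            rw [hb₀]
            simpa [neg_smul] using (hm2 _).1 (Module.finBasisOfFinrankEq F E₂ ht.symm i).2
        have hd := CfsgLib.Perm.Elusive.det_of_monomial b₀ T (Equiv.refl _) _ hact
        rw [hTdef, LinearMap.det_toLin', hdet, Equiv.Perm.sign_refl, Fintype.prod_sum_type] at hd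
        simp only [Sum.elim_inl, Sum.elim_inr, Finset.prod_const, Finset.card_univ, Fintype.card_fin, Units.val_one,
          Int.cast_one, one_mul] at hd
        by_contra hto
        rw [Nat.not_even_iff_odd] at hto
        have hwn : w ^ n = -1 := by
          rw [neg_pow w t, hto.neg_one_pow] at hd
          rw [← hst, pow_add]
          linear_combination hd
        obtain ⟨u, hu⟩ : 2 ^ padicValNat 2 (Fintype.card F - 1) ∣ Fintype.card F - 1 := pow_padicValNat_dvd
        have huodd : Odd u := by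
          rw [← Nat.not_even_iff_odd]
          intro he
          have h1 : 2 ^ (padicValNat 2 (Fintype.card F - 1) + 1) ∣ Fintype.card F - 1 := by
            conv_rhs => rw [hu]
            rw [pow_succ]
            exact Nat.mul_dvd_mul_left _ he.two_dvd
          rw [padicValNat_dvd_iff_le (by have := Fintype.one_lt_card (α := F); omega)] at h1
          omega
        obtain ⟨m, hm⟩ : 2 ^ padicValNat 2 (Fintype.card F - 1) ∣ n := (pow_dvd_pow 2 hv).trans pow_padicValNat_dvd
        have h1 : w ^ (n * u) = 1 := by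
          rw [hm, show 2 ^ padicValNat 2 (Fintype.card F - 1) * m * u = (2 ^ padicValNat 2 (Fintype.card F - 1) * u) * m by ring,
            ← hu, pow_mul, FiniteField.pow_card_sub_one_eq_one w hw0, one_pow]
        rw [pow_mul, hwn, huodd.neg_one_pow] at h1
        exact hneg h1
      obtain ⟨t', ht'⟩ := hteven
      obtain ⟨s', hs'⟩ : ∃ s', s = s' + s' := ⟨s / 2, by omega⟩
      have hb' : b = s' + t' := by omega
      obtain ⟨ε, hε⟩ : ∃ ε : Fin b → F, ∀ j, ε j = Sum.elim (fun _ : Fin s' => w) (fun _ : Fin t' => -w)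
          (finSumFinEquiv.symm (Fin.cast hb' j)) := ⟨_, fun j => rfl⟩
      have hε0 : ∀ j, ε j ≠ 0 := fun j => by
        rw [hε]
        rcases finSumFinEquiv.symm (Fin.cast hb' j) with i | i <;> simp [hw0]
      obtain ⟨bb, hbb⟩ : ∃ bb : Module.Basis (Fin 2 × Fin b) F (Fin n → F), ∀ x, T (bb x) = ε x.2 • bb x := by
        obtain ⟨bE, -⟩ : ∃ bE : Module.Basis (Fin 2 × Fin s') F E₁, bE = (Module.finBasisOfFinrankEq F E₁
          (show Module.finrank F E₁ = 2 * s' by omega)).reindex finProdFinEquiv.symm := ⟨_, rfl⟩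
        obtain ⟨bF, -⟩ : ∃ bF : Module.Basis (Fin 2 × Fin t') F E₂, bF = (Module.finBasisOfFinrankEq F E₂
          (show Module.finrank F E₂ = 2 * t' by omega)).reindex finProdFinEquiv.symm := ⟨_, rfl⟩
        obtain ⟨φ, hφ⟩ : ∃ φ : (Fin 2 × Fin s') ⊕ (Fin 2 × Fin t') ≃ Fin 2 × Fin b,
            φ = (Equiv.prodSumDistrib (Fin 2) (Fin s') (Fin t')).symm.trans
              (Equiv.prodCongr (Equiv.refl _) (finSumFinEquiv.trans (finCongr hb'.symm))) := ⟨_, rfl⟩
        refine ⟨((bE.prod bF).map (Submodule.prodEquivOfIsCompl E₁ E₂ hcompl)).reindex φ, fun x => ?_⟩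
        obtain ⟨y, rfl⟩ := φ.surjective x
        rw [Module.Basis.reindex_apply, Equiv.symm_apply_apply, hε]
        rcases y with ⟨i, j⟩ | ⟨i, j⟩
        · have e1 : finSumFinEquiv.symm (Fin.cast hb' (φ (Sum.inl (i, j))).2) = Sum.inl j := by
            rw [hφ]; simp [Equiv.symm_apply_eq]
          rw [e1]
          simpa using (hm1 _).1 (bE (i, j)).2
        · have e1 : finSumFinEquiv.symm (Fin.cast hb' (φ (Sum.inr (i, j))).2) = Sum.inr j := by
            rw [hφ]; simp [Equiv.symm_apply_eq]
          rw [e1]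
          simpa [neg_smul] using (hm2 _).1 (bF (i, j)).2
      have hR0 : (1 : Matrix (Fin 2) (Fin 2) F) ⊗ₖ Matrix.diagonal ε = Matrix.diagonal fun x : Fin 2 × Fin b => ε x.2 := by
        rw [← Matrix.diagonal_one, Matrix.diagonal_kronecker_diagonal]
        simp
      refine finish 1 (Matrix.diagonal ε) (by rw [Matrix.det_one]; exact isUnit_one)
        (by rw [Matrix.det_diagonal]; exact (Finset.prod_ne_zero_iff.2 fun j _ => hε0 j).isUnit) bb (fun j => ?_) (fun δ hδ => ?_)
      · rw [hR0, hbb, Finset.sum_eq_single j (fun i _ hi => by rw [Matrix.diagonal_apply_ne _ hi, zero_smul])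
          (fun h => absurd (Finset.mem_univ _) h), Matrix.diagonal_apply_eq]
      · refine ⟨Matrix.diagonal fun x : Fin 2 × Fin b => if x = (0, ⟨0, by omega⟩) then δ else 1, ?_, ?_⟩
        · rw [Matrix.det_diagonal, Finset.prod_ite_eq' Finset.univ ((0, ⟨0, by omega⟩) : Fin 2 × Fin b) (fun _ => δ)]
          simp
        · rw [hR0, Matrix.diagonal_mul_diagonal, Matrix.diagonal_mul_diagonal]
          congr 1
          funext i
          exact mul_comm _ _
    · push Not at hsq
      have hT2 : T ^ 2 = z • LinearMap.id := LinearMap.ext fun v => by rw [sq, Module.End.mul_apply, hT]; rfl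
      have hz' : ∀ l : F, l ^ 2 ≠ z := fun l h => hsq l (by rw [← h, sq])
      have hirr : Irreducible (Polynomial.X ^ 2 - Polynomial.C z : Polynomial F) := X_pow_sub_C_irreducible_of_prime Nat.prime_two hz'
      have hP : Polynomial.aeval T (Polynomial.X ^ 2 - Polynomial.C z : Polynomial F) = 0 := by
        rw [map_sub, map_pow, Polynomial.aeval_X, Polynomial.aeval_C, hT2]
        refine LinearMap.ext fun v => ?_
        simp [Module.algebraMap_end_apply]
      obtain ⟨k, v, b₁, hb₁, -⟩ := CfsgLib.Perm.Elusive.exists_chains T hP hirr.squarefree (d := 2) fun g hg hgd => by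
        rw [Polynomial.natDegree_eq_of_degree_eq (Polynomial.degree_eq_degree_of_associated (hg.associated_of_dvd hirr hgd)),
          Polynomial.natDegree_X_pow_sub_C]
      obtain rfl : k = b := by
        have h := Module.finrank_eq_card_basis b₁
        rw [Module.finrank_fin_fun, Fintype.card_prod, Fintype.card_fin, Fintype.card_fin] at h
        omega
      have hz0 : z ≠ 0 := fun h => hsq 0 (by rw [h, mul_zero])
      refine finish !![0, z; 1, 0] 1 (by rw [Matrix.det_fin_two]; simpa using hz0) (by rw [Matrix.det_one]; exact isUnit_one)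
        (b₁.reindex (Equiv.prodComm _ _)) ?_ (fun δ hδ => ?_)
      · rintro ⟨i, j⟩
        rw [Fintype.sum_prod_type, Fin.sum_univ_two]
        simp only [Module.Basis.reindex_apply, Equiv.prodComm_symm, Equiv.prodComm_apply, Prod.swap_prod_mk,
          Matrix.kroneckerMap_apply, Matrix.one_apply, mul_ite, mul_one, mul_zero, ite_smul, zero_smul,
          Finset.sum_ite_eq', Finset.mem_univ, if_true, hb₁]
        fin_cases i
        · simp
        · simp [hT]
      · obtain ⟨α, β, hab'⟩ : ∃ α β : F, α ^ 2 - z * β ^ 2 = δ := by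
          obtain ⟨α, β, h⟩ := FiniteField.exists_root_sum_quadratic
            (f := (Polynomial.X ^ 2 - Polynomial.C δ : Polynomial F)) (g := (Polynomial.C (-z) * Polynomial.X ^ 2 : Polynomial F))
            (Polynomial.degree_X_pow_sub_C two_pos δ) (Polynomial.degree_C_mul_X_pow 2 (neg_ne_zero.2 hz0))
            (Nat.odd_iff.1 hodd)
          refine ⟨α, β, ?_⟩
          simp at h
          linear_combination h
        obtain ⟨D, hD⟩ : ∃ D : Matrix (Fin 2) (Fin 2) F, D = !![α, z * β; β, α] := ⟨_, rfl⟩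
        refine ⟨Matrix.blockDiagonal fun j : Fin k => if j = (⟨0, by omega⟩ : Fin k) then D else 1, ?_, ?_⟩
        · rw [Matrix.det_blockDiagonal, Finset.prod_eq_single (⟨0, by omega⟩ : Fin k)
            (fun j _ hj => by rw [if_neg hj, Matrix.det_one]) (fun h => absurd (Finset.mem_univ _) h), if_pos rfl, hD,
            Matrix.det_fin_two]
          simp
          linear_combination hab'
        · rw [Matrix.kronecker_one, ← Matrix.blockDiagonal_mul, ← Matrix.blockDiagonal_mul]
          congr 1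
          funext j
          split_ifs
          · rw [hD]; ext i l; fin_cases i <;> fin_cases l <;> simp [Matrix.mul_apply, Fin.sum_univ_two] <;> ring
          · simp

end Cfsg.Agent.S5979
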