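import Cfsg.Statements.S5980
-- import your own Cfsg.Agent.* helpers here
import Mathlib
import Cfsg.Agent.Lib.Perm.Elusive.TensorSymp
import Cfsg.Agent.Lib.Perm.Elusive.ImprimitiveSemisimple
import Cfsg.Agent.Lib.Perm.Elusive.SympPrimeElement
import Cfsg.Agent.Lib.Perm.Elusive.InvolSymp
import Cfsg.Agent.Lib.Classical.LargePrimeSylow
import Cfsg.Agent.Lib.Classical.SympCount

set_option autoImplicit false
set_option linter.all false
open scoped MatrixGroups
open Cfsg

namespace Cfsg.Agent.S5980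
open Matrix
open scoped Kronecker

/-- Elements of prime order of PSp_n(q), q odd, and the stabilizers of tensor decompositions Sp_a(q) ⊗ O_b(q). Here `T = PSp_{2d}(F)` for a field `F` with `q` elements, `q` odd, `d ≥ 2`, realised through the matrices preserving the standard alternating form `f`; `2d = a·b` with `a` even, `b ≥ 3`, and the bijection `e` and change of basis `P` exhibit `f` as a non-zero scalar multiple of the tensor product of a non-degenerate alternating form `f₁` on `F^a` and a non-degenerate symmetric bilinear form `f₂` on `F^b`; `H` is the subgroup of `T` stabilizing this tensor decomposition (the elements of `T` in the conjugate by `P` of the group of Kronecker products) — a subgroup of type Sp_a(q) ⊗ O^ε_b(q) (maximality is not assumed). Ω is the set of cosets of `H` in `T`, so an element of `T` of prime order `r` (`x ∈ T` with `x^r` scalar, `x` not scalar) fixes a point of Ω exactly when some `T`-conjugate of `x` lies in `H`. Let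 `r` be a prime dividing the index of `H`. Then every element of `T` of order `r` fixes a point of Ω if and only if `r = 2` and `a = 2`. -/
theorem result {F : Type*} [Field F] [Fintype F] {p : ℕ} [Fact p.Prime] [CharP F p] {q : ℕ} (hq : Fintype.card F = q)
    (hodd : Odd q) (d : ℕ) (hd : 2 ≤ d) (a b : ℕ) (hab : 2 * d = a * b) (ha : Even a) (ha2 : 2 ≤ a) (hb : 3 ≤ b)
    (e : (Fin d ⊕ Fin d) ≃ Fin a × Fin b) (P : GL (Fin d ⊕ Fin d) F)
    (f₁ : (Fin a → F) → (Fin a → F) → F) (f₂ : (Fin b → F) → (Fin b → F) → F)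
    (hf₁ : Cfsg.Geo.IsSymplecticForm f₁) (hf₂ : Cfsg.Geo.IsSymmetricForm f₂)
    (hS : Cfsg.Geo.IsTensorFormStructure id (Cfsg.sympForm d F) f₁ f₂ e P)
    (r : ℕ) [Fact r.Prime]
    (hΩ : r ∣ (Cfsg.Geo.tensorProductSubgroup a b e P).relIndex (Cfsg.spGL d F)) :
    (∀ x ∈ Cfsg.spGL d F, (∃ z : F, ((x ^ r : GL (Fin d ⊕ Fin d) F) : Matrix (Fin d ⊕ Fin d) (Fin d ⊕ Fin d) F) = z • (1 : Matrix (Fin d ⊕ Fin d) (Fin d ⊕ Fin d) F)) →
      (∀ z : F, (x : Matrix (Fin d ⊕ Fin d) (Fin d ⊕ Fin d) F) ≠ z • (1 : Matrix (Fin d ⊕ Fin d) (Fin d ⊕ Fin d) F)) →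
      ∃ g ∈ Cfsg.spGL d F, g⁻¹ * x * g ∈ Cfsg.Geo.tensorProductSubgroup a b e P) ↔ (r = 2 ∧ a = 2) := by
  classical
  subst hq
  have hr : r.Prime := Fact.out
  have hp : p.Prime := Fact.out
  have h2 : (2 : F) ≠ 0 := by
    intro h
    have hp2 : p = 2 := (Nat.prime_dvd_prime_iff_eq hp Nat.prime_two).1 ((CharP.cast_eq_zero_iff F p 2).1 (by exact_mod_cast h))
    obtain ⟨k, -, hcard⟩ := FiniteField.card F p
    rw [hcard, hp2] at hodd
    exact (Nat.not_even_iff_odd.2 hodd) ((even_two).pow_of_ne_zero k.pos.ne')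
  have ha0 : 0 < a := by omega
  obtain ⟨i₀, hi₀⟩ : ∃ i₀ : Fin d, i₀ = ⟨0, by omega⟩ := ⟨_, rfl⟩
  obtain ⟨G₁, hG₁⟩ : ∃ G₁, G₁ = Cfsg.Geo.gramMatrix f₁ := ⟨_, rfl⟩
  obtain ⟨G₂, hG₂⟩ : ∃ G₂, G₂ = Cfsg.Geo.gramMatrix f₂ := ⟨_, rfl⟩
  have hG₁d : G₁.det ≠ 0 := hG₁ ▸ CfsgLib.Perm.Elusive.gram_det_ne_zero hf₁.bilinear hf₁.nondegenerate
  have hG₂d : G₂.det ≠ 0 := hG₂ ▸ CfsgLib.Perm.Elusive.gram_det_ne_zero hf₂.bilinear hf₂.nondegenerate
  have hG₁0 : G₁ ≠ 0 := fun h => by
    haveI : Nonempty (Fin a) := ⟨⟨0, ha0⟩⟩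
    exact hG₁d (by rw [h, Matrix.det_zero])
  have hG₂0 : G₂ ≠ 0 := fun h => by
    haveI : Nonempty (Fin b) := ⟨⟨0, by omega⟩⟩
    exact hG₂d (by rw [h, Matrix.det_zero])
  have hG₂t : G₂ᵀ = G₂ := by rw [hG₂]; ext i j; exact hf₂.symm _ _
  constructor
  · intro hLHS
    by_contra hbad
    have key : ∀ (X : Matrix (Fin d ⊕ Fin d) (Fin d ⊕ Fin d) F), Xᵀ * Matrix.J (Fin d) F * X = Matrix.J (Fin d) F →
        ∀ z : F, X ^ r = z • 1 → (∀ z : F, X ≠ z • 1) →
        ∃ (A : GL (Fin a) F) (B : GL (Fin b) F),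
          (∀ l : F, (X - l • 1).rank = ((A : Matrix (Fin a) (Fin a) F) ⊗ₖ (B : Matrix (Fin b) (Fin b) F) -
            l • (1 : Matrix (Fin a × Fin b) (Fin a × Fin b) F)).rank) ∧
          ((A : Matrix (Fin a) (Fin a) F) ⊗ₖ (B : Matrix (Fin b) (Fin b) F)) ^ r = z • (1 : Matrix (Fin a × Fin b) (Fin a × Fin b) F) ∧
          ((A : Matrix (Fin a) (Fin a) F) ⊗ₖ (B : Matrix (Fin b) (Fin b) F))ᵀ * (G₁ ⊗ₖ G₂) *
            ((A : Matrix (Fin a) (Fin a) F) ⊗ₖ (B : Matrix (Fin b) (Fin b) F)) = G₁ ⊗ₖ G₂ := by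
      intro X hX z hz hns
      obtain ⟨x, hx⟩ : ∃ x : GL (Fin d ⊕ Fin d) F, (x : Matrix (Fin d ⊕ Fin d) (Fin d ⊕ Fin d) F) = X :=
        ⟨Matrix.GeneralLinearGroup.mkOfDetNeZero X (SymplecticGroup.symplectic_det (SymplecticGroup.mem_iff'.2 hX)).ne_zero,
          rfl⟩
      subst hx
      have hxm := CfsgLib.Perm.Elusive.mem_spGL_iff.2 hX
      obtain ⟨g, hgm, hg⟩ := hLHS x hxm ⟨z, by rw [Units.val_pow_eq_pow_val]; exact hz⟩ hns
      obtain ⟨A, B, e1, e2, e3⟩ := CfsgLib.Perm.Elusive.exists_tensor_gram hS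
        (mul_mem (mul_mem (inv_mem hgm) hxm) hgm) hg
      exact ⟨A, B, e1, e2 r z hz, by rw [hG₁, hG₂]; exact e3⟩
    have hscal : ∀ (A : GL (Fin a) F) (B : GL (Fin b) F) (α : F), (A : Matrix (Fin a) (Fin a) F) = α • 1 → ∀ l : F,
        ((A : Matrix (Fin a) (Fin a) F) ⊗ₖ (B : Matrix (Fin b) (Fin b) F) -
          l • (1 : Matrix (Fin a × Fin b) (Fin a × Fin b) F)).rank = a * (α • (B : Matrix (Fin b) (Fin b) F) - l • 1).rank := by
      intro A B α hA l
      rw [← CfsgLib.Perm.Elusive.rank_one_kronecker, hA]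
      congr 1
      ext x y
      simp [Matrix.kroneckerMap_apply, Matrix.one_apply, Prod.ext_iff]
      split_ifs <;> simp_all
    have hAscal : ∀ (A : GL (Fin a) F) (B : GL (Fin b) F) (l : F) (R : ℕ), R < b →
        ((A : Matrix (Fin a) (Fin a) F) ⊗ₖ (B : Matrix (Fin b) (Fin b) F) -
          l • (1 : Matrix (Fin a × Fin b) (Fin a × Fin b) F)).rank = R → ∃ α : F, (A : Matrix (Fin a) (Fin a) F) = α • 1 := by
      intro A B l R hR hrank
      by_contra hA
      push Not at hA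
      have := CfsgLib.Perm.Elusive.rank_ge_of_nonscalar hA ((Matrix.isUnit_iff_isUnit_det _).1 B.isUnit) l
      omega
    by_cases hrp : r = p
    · subst hrp
      obtain ⟨N, hN⟩ : ∃ N : Matrix (Fin d ⊕ Fin d) (Fin d ⊕ Fin d) F, N = Matrix.single (Sum.inl i₀) (Sum.inr i₀) 1 := ⟨_, rfl⟩
      have hX : 1 + N = Matrix.fromBlocks 1 (Matrix.single i₀ i₀ 1) 0 1 := by
        rw [hN]
        ext (i | i) (j | j) <;> simp [Matrix.single_apply, Matrix.one_apply]
      have hNp : N ^ r = 0 := by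
        obtain ⟨k, hk⟩ : ∃ k, r = k + 2 := ⟨r - 2, by have := hr.two_le; omega⟩
        rw [hk, pow_add, sq, hN, Matrix.single_mul_single_of_ne _ _ _ _ (by simp), mul_zero]
      have hXp : (1 + N) ^ r = 1 := by
        haveI : Nonempty (Fin d ⊕ Fin d) := ⟨Sum.inl i₀⟩
        rw [add_pow_char_of_commute r (Commute.one_left N), one_pow, hNp, add_zero]
      obtain ⟨A, B, hrk, -, -⟩ := key (1 + N) (by
          rw [hX, Matrix.fromBlocks_transpose, Matrix.transpose_single]
          unfold Matrix.J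
          rw [Matrix.fromBlocks_multiply, Matrix.fromBlocks_multiply]
          simp) 1 (by rw [one_smul]; exact hXp) (fun z hz => by
          have h := congrFun (congrFun hz (Sum.inl i₀)) (Sum.inr i₀)
          simp [hN] at h)
      have hr1 : ((1 + N) - (1 : F) • 1).rank = 1 := by
        rw [one_smul, add_sub_cancel_left]
        refine le_antisymm ?_ (Nat.one_le_iff_ne_zero.2 fun h0 => ?_)
        · rw [Matrix.rank]
          refine (Submodule.finrank_mono (t := Submodule.span F {Pi.single (Sum.inl i₀) 1}) ?_).trans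
            (le_of_eq (finrank_span_singleton (by simp)))
          rintro _ ⟨w, rfl⟩
          refine Submodule.mem_span_singleton.2 ⟨w (Sum.inr i₀), ?_⟩
          rw [Matrix.mulVecLin_apply, hN]
          funext i
          simp only [Matrix.mulVec, dotProduct, Pi.smul_apply, Pi.single_apply, Matrix.single_apply, smul_eq_mul]
          by_cases hi : i = Sum.inl i₀
          · subst hi; simp
          · simp [hi, Ne.symm hi]
        · rw [Matrix.rank, Submodule.finrank_eq_zero, LinearMap.range_eq_bot, hN] at h0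
          have h := congrFun (LinearMap.congr_fun h0 (Pi.single (Sum.inr i₀) 1)) (Sum.inl i₀)
          simp [Matrix.mulVec_single_one] at h
      rw [hrk] at hr1
      obtain ⟨α, hα⟩ := hAscal A B 1 1 (by omega) hr1
      rw [hscal A B α hα] at hr1
      have := Nat.dvd_one.1 ⟨_, hr1.symm⟩
      omega
    by_cases hr2 : r = 2
    · subst hr2
      have ha4 : a ≠ 2 := fun h => hbad ⟨rfl, h⟩
      obtain ⟨D, hD⟩ : ∃ D : Fin d → F, ∀ i, D i = if i = i₀ then -1 else 1 := ⟨_, fun i => rfl⟩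
      have hDD : ∀ i, D i * D i = 1 := fun i => by rw [hD]; split_ifs <;> simp
      have hne1 : (-1 : F) ≠ 1 := fun h => h2 (by linear_combination -h)
      obtain ⟨A, B, hrk, -, -⟩ := key (Matrix.diagonal (Sum.elim D D)) (by
          rw [Matrix.diagonal_transpose]
          ext i j
          rw [Matrix.mul_diagonal, Matrix.diagonal_mul]
          rcases i with i | i <;> rcases j with j | j <;> simp [Matrix.J, Matrix.one_apply] <;>
            (split_ifs with h <;> first | (subst h; exact hDD _) | rfl)) 1 (by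
          rw [Matrix.diagonal_pow, one_smul, ← Matrix.diagonal_one]
          congr 1
          funext i
          rcases i with i | i <;> simp [sq, hDD]) (fun z hz => by
          have e0 := congrFun (congrFun hz (Sum.inl i₀)) (Sum.inl i₀)
          have h1 : (⟨1, by omega⟩ : Fin d) ≠ i₀ := by simp [hi₀]
          have e1 := congrFun (congrFun hz (Sum.inl ⟨1, by omega⟩)) (Sum.inl ⟨1, by omega⟩)
          simp [hD, h1] at e0 e1
          exact hne1 (e0.trans e1.symm))
      have hr1 : (Matrix.diagonal (Sum.elim D D) - (1 : F) • (1 : Matrix (Fin d ⊕ Fin d) (Fin d ⊕ Fin d) F)).rank = 2 := by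
        rw [Matrix.smul_one_eq_diagonal, Matrix.diagonal_sub, Matrix.rank_diagonal, Fintype.card_subtype,
          show (Finset.univ.filter fun i => Sum.elim D D i - 1 ≠ 0) = {Sum.inl i₀, Sum.inr i₀} from ?_,
          Finset.card_pair (by simp)]
        ext i
        simp only [Finset.mem_filter, Finset.mem_univ, true_and, Finset.mem_insert, Finset.mem_singleton, sub_ne_zero]
        rcases i with i | i <;> simp only [Sum.elim_inl, Sum.elim_inr, hD] <;> split_ifs with hi <;> simp [hi, hne1]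
      rw [hrk] at hr1
      obtain ⟨α, hα⟩ := hAscal A B 1 2 (by omega) hr1
      rw [hscal A B α hα] at hr1
      exact ha4 (le_antisymm (Nat.le_of_dvd two_pos ⟨_, hr1.symm⟩) ha2)
    obtain ⟨i, hi⟩ : ∃ i, i = orderOf ((Fintype.card F : ℕ) : ZMod r) := ⟨_, rfl⟩
    have hipos : 0 < i := hi ▸ CfsgLib.Perm.Elusive.order_pos hrp
    obtain ⟨c, hc⟩ : ∃ c, c = if Even i then i else 2 * i := ⟨_, rfl⟩
    have hcev : Even c ∧ 2 ≤ c ∧ c ≤ 2 * i := by
      rw [hc]
      split_ifs with hev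
      · obtain ⟨m, hm⟩ := hev
        exact ⟨⟨m, hm⟩, by omega, by omega⟩
      · exact ⟨even_two_mul i, by omega, le_rfl⟩
    have hcd : c ≤ 2 * d := by
      have h1 : r ∣ Nat.card (Matrix.symplecticGroup (Fin d) F) := by
        rw [← CfsgLib.Perm.Elusive.card_spGL]
        exact hΩ.trans (Subgroup.index_dvd_card _)
      obtain ⟨m, hm⟩ := CfsgLib.Classical.LargePrime.card_sp_eq (F := F) d
      rw [hm] at h1
      rcases hr.dvd_mul.1 h1 with h | h
      · exact absurd ((ZMod.natCast_eq_zero_iff _ r).2 (hr.dvd_of_dvd_pow h)) (CfsgLib.Perm.Elusive.card_ne_zero_zmod hrp)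
      · obtain ⟨j, hj, hjd⟩ := (hr.prime.dvd_finsetProd_iff _).1 h
        rw [Finset.mem_Icc] at hj
        rw [← (ZMod.natCast_eq_zero_iff _ r), Nat.cast_sub (Nat.one_le_pow _ _ Fintype.card_pos), Nat.cast_one,
          sub_eq_zero, Nat.cast_pow, ← orderOf_dvd_iff_pow_eq_one, ← hi] at hjd
        rw [hc]
        split_ifs with hev
        · exact le_trans (Nat.le_of_dvd (by omega) hjd) (by omega)
        · have hco : i.Coprime 2 := Nat.coprime_two_right.2 (Nat.not_even_iff_odd.1 hev)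
          have := Nat.le_of_dvd (by omega) (hco.dvd_of_dvd_mul_left hjd)
          omega
    obtain ⟨c', hc'⟩ := hcev.1
    obtain ⟨X, hXr, hXk⟩ := CfsgLib.Perm.Elusive.exists_symp_element (F := F) (p := p) (r := r) hrp hr2 (c := c) (d := d)
      (e := d - c') (k := 1) (by rw [← hi]; exact hc) (by omega)
    have hrc : ((X : Matrix (Fin d ⊕ Fin d) (Fin d ⊕ Fin d) F) - (1 : F) • 1).rank = c := by
      rw [one_smul, Matrix.rank, ← Matrix.toLin'_apply']
      have h := LinearMap.finrank_range_add_finrank_ker (Matrix.toLin' ((X : Matrix (Fin d ⊕ Fin d) (Fin d ⊕ Fin d) F) - 1))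
      rw [Module.finrank_fintype_fun_eq_card, Fintype.card_sum, Fintype.card_fin] at h
      rw [map_sub, Matrix.toLin'_one, ← Module.End.one_eq_id] at h ⊢
      omega
    obtain ⟨A, B, hrk, hpow, hgram⟩ := key X (SymplecticGroup.mem_iff'.1 X.2) 1 (by rw [one_smul]; exact hXr)
      (fun z hz => by
        haveI : Nonempty (Fin d ⊕ Fin d) := ⟨Sum.inl i₀⟩
        rw [hz, ← sub_smul] at hrc
        by_cases hz1 : z = 1
        · rw [hz1, sub_self, zero_smul, Matrix.rank_zero] at hrc; omega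
        have hzr : z ^ r = 1 := by
          have h := congrFun (congrFun hXr (Sum.inl i₀)) (Sum.inl i₀)
          rw [hz, _root_.smul_pow, one_pow, Matrix.smul_apply, Matrix.one_apply_eq, smul_eq_mul, mul_one] at h
          exact h
        have hi1 : i = 1 := by
          by_contra h
          exact hz1 (CfsgLib.Perm.Elusive.eq_one_of_pow_eq_one hrp (hi ▸ h) hzr)
        rw [Matrix.rank_smul_of_mem_nonZeroDivisors _ (mem_nonZeroDivisors_of_ne_zero (sub_ne_zero.2 hz1)), Matrix.rank_one,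
          Fintype.card_sum, Fintype.card_fin] at hrc
        rw [hi1] at hcev
        omega)
    rw [hrk] at hrc
    rw [one_smul] at hpow
    have hkp : ∀ m : ℕ, ((A : Matrix (Fin a) (Fin a) F) ^ m) ⊗ₖ ((B : Matrix (Fin b) (Fin b) F) ^ m) =
        ((A : Matrix (Fin a) (Fin a) F) ⊗ₖ (B : Matrix (Fin b) (Fin b) F)) ^ m := fun m => by
      induction m with
      | zero => simp
      | succ j ih => rw [pow_succ, pow_succ, Matrix.mul_kronecker_mul, ih, pow_succ]
    have hkr := (hkp r).trans hpow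
    have hent : ∀ (x x' : Fin a) (y y' : Fin b), ((A : Matrix (Fin a) (Fin a) F) ^ r) x x' *
        ((B : Matrix (Fin b) (Fin b) F) ^ r) y y' = if x = x' ∧ y = y' then 1 else 0 := fun x x' y y' => by
      have h := congrFun (congrFun hkr (x, y)) (x', y')
      rw [Matrix.kroneckerMap_apply, Matrix.one_apply] at h
      simpa [Prod.ext_iff] using h
    have hfix : ∀ {m : ℕ} (C : Matrix (Fin m) (Fin m) F), C ^ r = 1 → ∃ k, (C - (1 : F) • 1).rank = k * i := by
      intro m C hC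
      obtain ⟨k, hk, -⟩ := CfsgLib.Perm.Elusive.exists_split (p := p) hrp (Matrix.toLin' C) (by
        rw [← Matrix.toLin'_pow, hC, Matrix.toLin'_one]; rfl)
      rw [Module.finrank_fin_fun, ← hi] at hk
      refine ⟨k, ?_⟩
      rw [one_smul, Matrix.rank, ← Matrix.toLin'_apply']
      have h := LinearMap.finrank_range_add_finrank_ker (Matrix.toLin' (C - 1))
      rw [Module.finrank_fin_fun] at h
      rw [map_sub, Matrix.toLin'_one, ← Module.End.one_eq_id] at h ⊢
      omega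
    have hrodd : Odd r := hr.odd_of_ne_two hr2
    have heven : ∀ C : Matrix (Fin b) (Fin b) F, C ^ r = 1 → Cᵀ * G₂ * C = G₂ → Even (C - (1 : F) • 1).rank :=
      fun C hC hCg => CfsgLib.Perm.Elusive.even_rank_orth h2 hG₂t (Ne.isUnit hG₂d) hCg
        (CfsgLib.Perm.Elusive.isUnit_add_one h2 hrodd hC)
    obtain ⟨⟨μ, hμ⟩, hsc⟩ := CfsgLib.Perm.Elusive.factor_gram hG₁0 hG₂0 hgram
    by_cases hA : ∃ α : F, (A : Matrix (Fin a) (Fin a) F) = α • 1
    · obtain ⟨α, hα⟩ := hA
      have hCr : (α • (B : Matrix (Fin b) (Fin b) F)) ^ r = 1 := by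
        ext y y'
        have h := hent ⟨0, ha0⟩ ⟨0, ha0⟩ y y'
        rw [hα, _root_.smul_pow, one_pow, Matrix.smul_apply, Matrix.one_apply_eq, smul_eq_mul, mul_one] at h
        rw [_root_.smul_pow, Matrix.smul_apply, smul_eq_mul, h, Matrix.one_apply]
        simp
      rw [hscal A B α hα] at hrc
      obtain ⟨k, hk⟩ := hfix _ hCr
      have hev := heven _ hCr (hsc α hα)
      rw [hk] at hev hrc
      by_cases hie : Even i
      · rw [if_pos hie] at hc
        rw [hc, ← mul_assoc] at hrc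
        have := (Nat.mul_eq_right hipos.ne').1 hrc
        have : 2 ≤ a * k := le_trans ha2 (Nat.le_mul_of_pos_right _ (Nat.pos_of_ne_zero fun h => by simp [h] at this))
        omega
      · rw [if_neg hie] at hc
        rw [hc, ← mul_assoc] at hrc
        have hak := Nat.eq_of_mul_eq_mul_right hipos hrc
        have hk1 : k = 1 := by
          rcases Nat.eq_zero_or_pos k with h | h
          · simp [h] at hak
          · by_contra hne
            have : 2 * 2 ≤ a * k := Nat.mul_le_mul ha2 (by omega)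
            omega
        rw [hk1, one_mul] at hev
        exact hie hev
    push Not at hA
    have hAu : IsUnit (A : Matrix (Fin a) (Fin a) F).det := (Matrix.isUnit_iff_isUnit_det _).1 A.isUnit
    have hBu : IsUnit (B : Matrix (Fin b) (Fin b) F).det := (Matrix.isUnit_iff_isUnit_det _).1 B.isUnit
    have hbc : b ≤ c := hrc ▸ CfsgLib.Perm.Elusive.rank_ge_of_nonscalar hA hBu 1
    have hi1 : i ≠ 1 := fun h => by
      rw [h] at hc
      simp at hc
      omega
    by_cases hB : ∃ β : F, (B : Matrix (Fin b) (Fin b) F) = β • 1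
    · obtain ⟨β, hβ⟩ := hB
      have hCr : (β • (A : Matrix (Fin a) (Fin a) F)) ^ r = 1 := by
        ext x x'
        have h := hent x x' ⟨0, by omega⟩ ⟨0, by omega⟩
        rw [hβ, _root_.smul_pow, one_pow, Matrix.smul_apply, Matrix.one_apply_eq, smul_eq_mul, mul_one, mul_comm] at h
        rw [_root_.smul_pow, Matrix.smul_apply, smul_eq_mul, h, Matrix.one_apply]
        simp
      obtain ⟨k, hk⟩ := hfix _ hCr
      have hre : (A : Matrix (Fin a) (Fin a) F) ⊗ₖ (B : Matrix (Fin b) (Fin b) F) -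
          (1 : F) • (1 : Matrix (Fin a × Fin b) (Fin a × Fin b) F) =
          (β • (A : Matrix (Fin a) (Fin a) F) - (1 : F) • 1) ⊗ₖ (1 : Matrix (Fin b) (Fin b) F) := by
        ext x y
        simp [hβ, Matrix.kroneckerMap_apply, Matrix.one_apply, Prod.ext_iff]
        split_ifs <;> simp_all [mul_comm]
      rw [hre, CfsgLib.Perm.Elusive.rank_kronecker_one, hk] at hrc
      rcases Nat.eq_zero_or_pos k with hk0 | hk0
      · rw [hk0] at hrc; simp at hrc; omega
      · have h1 : 3 * i ≤ b * (k * i) := Nat.mul_le_mul hb (Nat.le_mul_of_pos_left _ hk0)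
        omega
    push Not at hB
    obtain ⟨z', hz'⟩ : ∃ z', z' = (((A : Matrix (Fin a) (Fin a) F) ^ r) ⟨0, ha0⟩ ⟨0, ha0⟩)⁻¹ := ⟨_, rfl⟩
    have hA0 : ((A : Matrix (Fin a) (Fin a) F) ^ r) ⟨0, ha0⟩ ⟨0, ha0⟩ ≠ 0 := fun h => by
      have h3 := hent ⟨0, ha0⟩ ⟨0, ha0⟩ ⟨0, by omega⟩ ⟨0, by omega⟩
      rw [h, zero_mul] at h3
      simp at h3
    have hBr : (B : Matrix (Fin b) (Fin b) F) ^ r = z' • 1 := by
      ext y y'
      have h3 := hent ⟨0, ha0⟩ ⟨0, ha0⟩ y y'
      rw [Matrix.smul_apply, Matrix.one_apply, smul_eq_mul, hz']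
      field_simp
      simpa [mul_comm] using h3
    obtain ⟨l, hl⟩ := CfsgLib.Perm.Elusive.exists_root_of_order_ne_one (r := r) hrp (hi ▸ hi1) z'
    have hz0 : z' ≠ 0 := hz' ▸ inv_ne_zero hA0
    have hl0 : l ≠ 0 := fun h => hz0 (by rw [← hl, h, zero_pow hr.ne_zero])
    obtain ⟨C, hC⟩ : ∃ C, C = l⁻¹ • (B : Matrix (Fin b) (Fin b) F) := ⟨_, rfl⟩
    have hCr : C ^ r = 1 := by
      rw [hC, _root_.smul_pow, hBr, smul_smul, inv_pow, hl, inv_mul_cancel₀ hz0, one_smul]
    obtain ⟨ν, hν⟩ : ∃ ν, ν = l⁻¹ * l⁻¹ * μ := ⟨_, rfl⟩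
    have hCν : Cᵀ * G₂ * C = ν • G₂ := by
      rw [hC, hν, Matrix.transpose_smul, Matrix.smul_mul, Matrix.smul_mul, Matrix.mul_smul, hμ, smul_smul, smul_smul]
    have hCj : ∀ j : ℕ, (C ^ j)ᵀ * G₂ * C ^ j = ν ^ j • G₂ := fun j => by
      induction j with
      | zero => simp
      | succ j ih =>
        rw [pow_succ, Matrix.transpose_mul, show Cᵀ * (C ^ j)ᵀ * G₂ * (C ^ j * C) = Cᵀ * ((C ^ j)ᵀ * G₂ * C ^ j) * C by
          simp only [mul_assoc], ih, Matrix.mul_smul, Matrix.smul_mul, hCν, smul_smul, pow_succ]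
    have hν1 : ν = 1 := by
      refine CfsgLib.Perm.Elusive.eq_one_of_pow_eq_one hrp (hi ▸ hi1) ?_
      have h := hCj r
      rw [hCr, Matrix.transpose_one, one_mul, mul_one] at h
      exact ((smul_left_injective F hG₂0 (show (1 : F) • G₂ = ν ^ r • G₂ by rw [one_smul]; exact h))).symm
    rw [hν1, one_smul] at hCν
    obtain ⟨k, hk⟩ := hfix C hCr
    have hev := heven C hCr hCν
    rw [hk] at hev
    have hk0 : k ≠ 0 := fun h => by
      rw [h, zero_mul, Matrix.rank, Submodule.finrank_eq_zero, LinearMap.range_eq_bot, one_smul] at hk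
      refine hB l ?_
      have h3 : C = 1 := sub_eq_zero.1 (Matrix.toLin'.injective (by rw [map_zero, Matrix.toLin'_apply']; exact hk))
      rwa [hC, inv_smul_eq_iff₀ hl0] at h3
    have hcb : c ≤ b := by
      have hle : k * i ≤ b := hk ▸ (Matrix.rank_le_height _).trans le_rfl
      rw [hc]
      split_ifs with hie
      · exact le_trans (Nat.le_mul_of_pos_left _ (Nat.pos_of_ne_zero hk0)) hle
      · have hk2 : 2 ≤ k := by
          by_contra h
          rw [show k = 1 by omega, one_mul] at hev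
          exact hie hev
        exact le_trans (Nat.mul_le_mul_right i hk2) hle
    rcases Nat.lt_or_ge a 3 with ha3 | ha3
    · have ha' : a = 2 := by omega
      obtain ⟨A', hA'⟩ : ∃ A', A' = l • (A : Matrix (Fin a) (Fin a) F) := ⟨_, rfl⟩
      have hA'r : A' ^ r = 1 := by
        ext x x'
        have h3 := hent x x' ⟨0, by omega⟩ ⟨0, by omega⟩
        rw [hBr, Matrix.smul_apply, Matrix.one_apply_eq, smul_eq_mul, mul_one, mul_comm] at h3
        rw [hA', _root_.smul_pow, hl, Matrix.smul_apply, smul_eq_mul, h3, Matrix.one_apply]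
        simp
      obtain ⟨k', hk'⟩ := hfix A' hA'r
      have hk'0 : k' ≠ 0 := fun h => by
        rw [h, zero_mul, Matrix.rank, Submodule.finrank_eq_zero, LinearMap.range_eq_bot, one_smul] at hk'
        refine hA l⁻¹ ?_
        have h3 : A' = 1 := sub_eq_zero.1 (Matrix.toLin'.injective (by rw [map_zero, Matrix.toLin'_apply']; exact hk'))
        rw [hA'] at h3
        exact (eq_inv_smul_iff₀ hl0).2 h3
      have h4 : k' * i ≤ a := hk' ▸ Matrix.rank_le_height _
      have h5 : i ≤ k' * i := Nat.le_mul_of_pos_left _ (Nat.pos_of_ne_zero hk'0)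
      have hi2 : i = 2 := by omega
      rw [hi2] at hc
      simp at hc
      omega
    · have := CfsgLib.Perm.Elusive.rank_gt_of_nonscalar hA hAu hB hBu ha3 1
      omega
  · rintro ⟨rfl, rfl⟩ x hx ⟨z, hz⟩ hns
    haveI : Invertible (2 : F) := invertibleOfNonzero h2
    obtain rfl : d = b := by omega
    obtain ⟨c, hc0, hP⟩ := CfsgLib.Perm.Elusive.gram_structure hS
    rw [← hG₁, ← hG₂] at hP
    have hsf : Cfsg.Geo.IsSymplecticForm (Cfsg.sympForm d F) := CfsgLib.Perm.Trans.Symp.isSymplecticForm_sympForm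
    obtain ⟨T, hTdef⟩ : ∃ T, T = Matrix.toLin' (x : Matrix (Fin d ⊕ Fin d) (Fin d ⊕ Fin d) F) := ⟨_, rfl⟩
    have hT : ∀ u v, Cfsg.sympForm d F (T u) (T v) = Cfsg.sympForm d F u v := fun u v => by
      rw [hTdef, Matrix.toLin'_apply, Matrix.toLin'_apply]
      exact hx u v
    have hT2 : ∀ v, T (T v) = z • v := fun v => by
      rw [hTdef, ← LinearMap.comp_apply, ← Matrix.toLin'_mul, ← sq, ← Units.val_pow_eq_pow_val, hz, map_smul,
        Matrix.toLin'_one]
      rfl
    obtain ⟨B₂, hB₂⟩ : ∃ B₂ : LinearMap.BilinForm F (Fin d → F), ∀ u v, B₂ u v = f₂ u v :=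
      ⟨LinearMap.mk₂ F f₂ hf₂.bilinear.add_left hf₂.bilinear.smul_left hf₂.bilinear.add_right hf₂.bilinear.smul_right,
        fun u v => rfl⟩
    obtain ⟨w₀, hw₀⟩ := LinearMap.BilinForm.exists_orthogonal_basis (B := B₂)
      ⟨fun u v => by rw [RingHom.id_apply, hB₂, hB₂, hf₂.symm]⟩
    obtain ⟨W, hW⟩ : ∃ W : Matrix (Fin d) (Fin d) F,
        ∀ i j, W i j = w₀ (finCongr (Module.finrank_fin_fun F).symm j) i := ⟨Matrix.of fun i j => _, fun i j => rfl⟩
    obtain ⟨dd, hdd⟩ : ∃ dd, dd = fun j => (Wᵀ * G₂ * W) j j := ⟨_, rfl⟩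
    have hWG : Wᵀ * G₂ * W = Matrix.diagonal dd := by
      ext i j
      rw [Matrix.diagonal_apply]
      split_ifs with hij
      · subst hij; rw [hdd]
      have h : f₂ (W *ᵥ Pi.single i 1) (W *ᵥ Pi.single j 1) = 0 := by
        rw [show W *ᵥ Pi.single i 1 = w₀ (finCongr (Module.finrank_fin_fun F).symm i) from funext fun k => by
            rw [Matrix.mulVec_single_one, Matrix.col_apply, hW],
          show W *ᵥ Pi.single j 1 = w₀ (finCongr (Module.finrank_fin_fun F).symm j) from funext fun k => by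
            rw [Matrix.mulVec_single_one, Matrix.col_apply, hW], ← hB₂]
        exact hw₀ fun h => hij ((finCongr (Module.finrank_fin_fun F).symm).injective h)
      rw [CfsgLib.Perm.Elusive.bilinear_eq_dot hf₂.bilinear, ← hG₂, CfsgLib.Perm.Elusive.sandwich] at h
      simpa [single_dotProduct, Matrix.mulVec_single_one] using h
    have hWd : W.det ≠ 0 := by
      have := (Pi.basisFun F (Fin d)).invertibleToMatrix (w₀.reindex (finCongr (Module.finrank_fin_fun F).symm).symm)
      rw [show W = (Pi.basisFun F (Fin d)).toMatrix (w₀.reindex (finCongr (Module.finrank_fin_fun F).symm).symm) by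
        ext i j
        simp [hW, Module.Basis.toMatrix_apply]]
      exact (Matrix.isUnit_det_of_invertible _).ne_zero
    have hdd0 : ∀ j, dd j ≠ 0 := by
      have h := congrArg Matrix.det hWG
      rw [Matrix.det_mul, Matrix.det_mul, Matrix.det_transpose, Matrix.det_diagonal] at h
      exact fun j => Finset.prod_ne_zero_iff.1 (h ▸ mul_ne_zero (mul_ne_zero hWd hG₂d) hWd) j (Finset.mem_univ j)
    obtain ⟨κ, hκ⟩ : ∃ κ, κ = G₁ 0 1 := ⟨_, rfl⟩
    have hG₁v : G₁ 0 0 = 0 ∧ G₁ 1 1 = 0 ∧ G₁ 1 0 = -κ := by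
      rw [hκ, hG₁]
      exact ⟨hf₁.alternating _, hf₁.alternating _, hf₁.skew _ _⟩
    have hκ0 : κ ≠ 0 := fun h => hG₁d (by rw [Matrix.det_fin_two, hG₁v.1, ← hκ, h]; ring)
    obtain ⟨t, ht⟩ : ∃ t : Fin d → F, ∀ j, t j = c * κ * dd j := ⟨_, fun j => rfl⟩
    have ht0 : ∀ j, t j ≠ 0 := fun j => by rw [ht]; exact mul_ne_zero (mul_ne_zero hc0 hκ0) (hdd0 j)
    have finish : ∀ (A₀ : Matrix (Fin 2) (Fin 2) F) (ev : Fin d → F), IsUnit A₀.det → (∀ j, ev j ≠ 0) →
        ∀ (bb : Fin 2 × Fin d → (Fin d ⊕ Fin d → F)),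
          (∀ p p', Cfsg.sympForm d F (bb p) (bb p') = c * (G₁ p.1 p'.1 * Matrix.diagonal dd p.2 p'.2)) →
          (∀ p, T (bb p) = (A₀ 0 p.1 * ev p.2) • bb (0, p.2) + (A₀ 1 p.1 * ev p.2) • bb (1, p.2)) →
          ∃ g ∈ Cfsg.spGL d F, g⁻¹ * x * g ∈ Cfsg.Geo.tensorProductSubgroup 2 d e P := by
      intro A₀ ev hA₀ hev bb hgr hact
      obtain ⟨kW, hkW⟩ : ∃ kW : GL (Fin 2 × Fin d) F, (kW : Matrix (Fin 2 × Fin d) (Fin 2 × Fin d) F) = 1 ⊗ₖ W ∧
          ((kW⁻¹ : GL (Fin 2 × Fin d) F) : Matrix (Fin 2 × Fin d) (Fin 2 × Fin d) F) = 1 ⊗ₖ W⁻¹ :=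
        ⟨⟨1 ⊗ₖ W, 1 ⊗ₖ W⁻¹, by rw [← Matrix.mul_kronecker_mul, Matrix.mul_nonsing_inv _ (Ne.isUnit hWd), mul_one,
            Matrix.one_kronecker_one], by rw [← Matrix.mul_kronecker_mul, Matrix.nonsing_inv_mul _ (Ne.isUnit hWd),
            mul_one, Matrix.one_kronecker_one]⟩, rfl, rfl⟩
      obtain ⟨Dv, hDv⟩ : ∃ Dv : GL (Fin d) F, (Dv : Matrix (Fin d) (Fin d) F) = W * Matrix.diagonal ev * W⁻¹ :=
        ⟨Matrix.GeneralLinearGroup.mkOfDetNeZero _ (by
          rw [Matrix.det_mul, Matrix.det_mul, Matrix.det_diagonal, Matrix.det_nonsing_inv, Ring.inverse_eq_inv']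
          exact mul_ne_zero (mul_ne_zero hWd (Finset.prod_ne_zero_iff.2 fun j _ => hev j)) (inv_ne_zero hWd)), rfl⟩
      obtain ⟨K₀, hK₀⟩ : ∃ K₀ : GL (Fin 2 × Fin d) F,
          (K₀ : Matrix (Fin 2 × Fin d) (Fin 2 × Fin d) F) = A₀ ⊗ₖ Matrix.diagonal ev :=
        ⟨Matrix.GeneralLinearGroup.mkOfDetNeZero (A₀ ⊗ₖ Matrix.diagonal ev) (by
          rw [Matrix.det_kronecker, Matrix.det_diagonal]
          exact mul_ne_zero (pow_ne_zero _ hA₀.ne_zero) (pow_ne_zero _ (Finset.prod_ne_zero_iff.2 fun j _ => hev j))), rfl⟩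
      obtain ⟨Mu, hMu⟩ : ∃ Mu : GL (Fin d ⊕ Fin d) F, Mu = P * Cfsg.Geo.glReindex e.symm kW := ⟨_, rfl⟩
      have hMuv : (Mu : Matrix (Fin d ⊕ Fin d) (Fin d ⊕ Fin d) F) =
          (P : Matrix (Fin d ⊕ Fin d) (Fin d ⊕ Fin d) F) * Matrix.reindex e.symm e.symm ((1 : Matrix (Fin 2) (Fin 2) F) ⊗ₖ W) := by
        rw [hMu, ← hkW.1]; rfl
      have hMg : (Mu : Matrix (Fin d ⊕ Fin d) (Fin d ⊕ Fin d) F)ᵀ * Matrix.J (Fin d) F *
          (Mu : Matrix (Fin d ⊕ Fin d) (Fin d ⊕ Fin d) F) =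
          Matrix.reindex e.symm e.symm (c • (G₁ ⊗ₖ Matrix.diagonal dd)) := by
        rw [hMuv, Matrix.transpose_mul]
        simp only [mul_assoc]
        rw [← mul_assoc (Matrix.J (Fin d) F), ← mul_assoc (P : Matrix (Fin d ⊕ Fin d) (Fin d ⊕ Fin d) F)ᵀ,
          ← mul_assoc (P : Matrix (Fin d ⊕ Fin d) (Fin d ⊕ Fin d) F)ᵀ, hP, Matrix.transpose_reindex, ← mul_assoc]
        have h := congrArg (Matrix.reindexAlgEquiv F F e.symm) (show ((1 : Matrix (Fin 2) (Fin 2) F) ⊗ₖ W)ᵀ *
            (c • (G₁ ⊗ₖ G₂)) * ((1 : Matrix (Fin 2) (Fin 2) F) ⊗ₖ W) = c • (G₁ ⊗ₖ Matrix.diagonal dd) by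
          rw [Matrix.mul_smul, Matrix.smul_mul, ← Matrix.kroneckerMap_transpose, ← Matrix.mul_kronecker_mul,
            ← Matrix.mul_kronecker_mul, Matrix.transpose_one, one_mul, mul_one, hWG])
        rwa [map_mul, map_mul] at h
      obtain ⟨Bm, hBm⟩ : ∃ Bm : Matrix (Fin d ⊕ Fin d) (Fin d ⊕ Fin d) F, ∀ i j, Bm i j = bb (e j) i :=
        ⟨Matrix.of fun i j => bb (e j) i, fun i j => rfl⟩
      have hBg : Bmᵀ * Matrix.J (Fin d) F * Bm = Matrix.reindex e.symm e.symm (c • (G₁ ⊗ₖ Matrix.diagonal dd)) := by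
        ext i j
        have h1 := hgr (e i) (e j)
        rw [show bb (e i) = Bm *ᵥ Pi.single i 1 from funext fun k => by rw [Matrix.mulVec_single_one, Matrix.col_apply, hBm],
          show bb (e j) = Bm *ᵥ Pi.single j 1 from funext fun k => by rw [Matrix.mulVec_single_one, Matrix.col_apply, hBm]] at h1
        simp only [Cfsg.sympForm] at h1
        rw [CfsgLib.Perm.Elusive.sandwich] at h1
        simpa [single_dotProduct, Matrix.mulVec_single_one] using h1
      have hBd : Bm.det ≠ 0 := fun h0 => by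
        have h := congrArg Matrix.det (hBg.trans hMg.symm)
        rw [Matrix.det_mul, h0, mul_zero, Matrix.det_mul, Matrix.det_mul, Matrix.det_transpose] at h
        exact mul_ne_zero (mul_ne_zero ((Matrix.isUnit_iff_isUnit_det _).1 Mu.isUnit).ne_zero
          (Matrix.isUnit_det_J (Fin d) F).ne_zero) ((Matrix.isUnit_iff_isUnit_det _).1 Mu.isUnit).ne_zero h.symm
      obtain ⟨Bu, hBu⟩ : ∃ Bu : GL (Fin d ⊕ Fin d) F, (Bu : Matrix (Fin d ⊕ Fin d) (Fin d ⊕ Fin d) F) = Bm :=
        ⟨Matrix.GeneralLinearGroup.mkOfDetNeZero Bm hBd, rfl⟩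
      have hxB : x * Bu = Bu * Cfsg.Geo.glReindex e.symm K₀ := Units.ext (by
        rw [Units.val_mul, Units.val_mul, hBu,
          show ((Cfsg.Geo.glReindex e.symm K₀ : GL (Fin d ⊕ Fin d) F) : Matrix (Fin d ⊕ Fin d) (Fin d ⊕ Fin d) F) =
            Matrix.reindex e.symm e.symm (A₀ ⊗ₖ Matrix.diagonal ev) by rw [← hK₀]; rfl]
        ext i j
        have h := congrFun (hact (e j)) i
        rw [hTdef, Matrix.toLin'_apply] at h
        simp only [Matrix.mulVec, dotProduct, Pi.add_apply, Pi.smul_apply, smul_eq_mul] at h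
        simp only [Matrix.mul_apply, hBm, Matrix.reindex_apply, Equiv.symm_symm, Matrix.submatrix_apply]
        rw [h, e.sum_comp (fun q => bb q i * (A₀ ⊗ₖ Matrix.diagonal ev) q (e j)), Fintype.sum_prod_type, Fin.sum_univ_two]
        simp [Matrix.kroneckerMap_apply, Matrix.diagonal_apply, mul_comm, mul_assoc, mul_left_comm])
      refine ⟨Bu * Mu⁻¹, CfsgLib.Perm.Elusive.mem_spGL_iff.2 ?_, ?_⟩
      · have hMM : (Mu : Matrix (Fin d ⊕ Fin d) (Fin d ⊕ Fin d) F) *
            ((Mu⁻¹ : GL (Fin d ⊕ Fin d) F) : Matrix (Fin d ⊕ Fin d) (Fin d ⊕ Fin d) F) = 1 := Units.mul_inv Mu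
        calc ((Bu * Mu⁻¹ : GL (Fin d ⊕ Fin d) F) : Matrix (Fin d ⊕ Fin d) (Fin d ⊕ Fin d) F)ᵀ * Matrix.J (Fin d) F *
              ((Bu * Mu⁻¹ : GL (Fin d ⊕ Fin d) F) : Matrix (Fin d ⊕ Fin d) (Fin d ⊕ Fin d) F)
            = ((Mu⁻¹ : GL (Fin d ⊕ Fin d) F) : Matrix (Fin d ⊕ Fin d) (Fin d ⊕ Fin d) F)ᵀ * (Bmᵀ * Matrix.J (Fin d) F * Bm) *
              ((Mu⁻¹ : GL (Fin d ⊕ Fin d) F) : Matrix (Fin d ⊕ Fin d) (Fin d ⊕ Fin d) F) := by
              rw [Units.val_mul, hBu, Matrix.transpose_mul]; simp only [mul_assoc]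
          _ = ((Mu : Matrix (Fin d ⊕ Fin d) (Fin d ⊕ Fin d) F) *
                ((Mu⁻¹ : GL (Fin d ⊕ Fin d) F) : Matrix (Fin d ⊕ Fin d) (Fin d ⊕ Fin d) F))ᵀ * Matrix.J (Fin d) F *
              ((Mu : Matrix (Fin d ⊕ Fin d) (Fin d ⊕ Fin d) F) *
                ((Mu⁻¹ : GL (Fin d ⊕ Fin d) F) : Matrix (Fin d ⊕ Fin d) (Fin d ⊕ Fin d) F)) := by
              rw [hBg, ← hMg, Matrix.transpose_mul]; simp only [mul_assoc]
          _ = _ := by rw [hMM, Matrix.transpose_one, one_mul, mul_one]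
      · refine ⟨Cfsg.Geo.glReindex e.symm (kW * K₀ * kW⁻¹), ⟨kW * K₀ * kW⁻¹,
          ⟨Matrix.GeneralLinearGroup.mkOfDetNeZero A₀ hA₀.ne_zero, Dv, ?_⟩, rfl⟩, ?_⟩
        · rw [Units.val_mul, Units.val_mul, hkW.1, hkW.2, hK₀, ← Matrix.mul_kronecker_mul, ← Matrix.mul_kronecker_mul,
            one_mul, mul_one, hDv]
          rfl
        · show P * Cfsg.Geo.glReindex e.symm (kW * K₀ * kW⁻¹) * P⁻¹ = _
          rw [map_mul, map_mul, map_inv, show (Bu * Mu⁻¹)⁻¹ * x * (Bu * Mu⁻¹) = Mu * (Bu⁻¹ * (x * Bu)) * Mu⁻¹ by group,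
            hxB, inv_mul_cancel_left, hMu]
          group
    have hz1 : z = 1 ∨ z = -1 := by
      obtain ⟨y, hy⟩ := (hsf.nondegenerate (Pi.single (Sum.inl i₀) 1) (by simp)).2
      have e1 : Cfsg.sympForm d F (T (T (Pi.single (Sum.inl i₀) 1))) (T (T y)) =
          Cfsg.sympForm d F (Pi.single (Sum.inl i₀) 1) y := by rw [hT, hT]
      rw [hT2, hT2, hsf.bilinear.smul_left, hsf.bilinear.smul_right, ← mul_assoc] at e1
      exact mul_self_eq_one_iff.1 (mul_right_cancel₀ hy (e1.trans (one_mul _).symm))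
    have hfam : ∀ R : (Fin d ⊕ Fin d → F) → (Fin d ⊕ Fin d → F) → (Fin d ⊕ Fin d → F) → (Fin d ⊕ Fin d → F) → Prop,
        CfsgLib.Perm.Elusive.HasFam (Cfsg.sympForm d F) R ⊤ →
        ∃ u v : Fin d → (Fin d ⊕ Fin d → F), CfsgLib.Perm.Elusive.HypFam (Cfsg.sympForm d F) u v ∧
          ∀ j, ∃ j', R (u j) (v j) (u j') (v j') := by
      rintro R ⟨I, _, _, u, v, π, -, -, hF, hsp, hrel⟩
      have h1 := (hF.linearIndependent hsf).fintype_card_le_finrank
      have h3 := finrank_range_le_card (R := F) (Sum.elim u v)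
      rw [Set.finrank, Set.Sum.elim_range, (eq_top_iff.2 hsp), finrank_top] at h3
      rw [Module.finrank_fintype_fun_eq_card, Fintype.card_sum, Fintype.card_sum, Fintype.card_fin] at h1 h3
      obtain ⟨ε⟩ : Nonempty (Fin d ≃ I) := ⟨(finCongr (by omega : d = Fintype.card I)).trans (Fintype.equivFin I).symm⟩
      exact ⟨u ∘ ε, v ∘ ε, ⟨fun i j => hF.uu _ _, fun i j => hF.vv _ _, fun i j => by
        simp [hF.uv, ε.injective.eq_iff]⟩, fun j => ⟨ε.symm (π (ε j)), by simpa using hrel (ε j)⟩⟩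
    rcases hz1 with rfl | rfl
    · obtain ⟨u, v, hF, hrel⟩ := hfam _
        (CfsgLib.Perm.Elusive.hasFam_of_step hsf T hT (fun u v u' v' => u' = u ∧ v' = v ∧ ∃ s : F, T u = s • u ∧ T v = s • v) (by
          rintro a b a' b' ⟨rfl, rfl, s, h1, h3⟩
          exact ⟨h1 ▸ Submodule.smul_mem _ s (Submodule.subset_span (by simp)),
            h3 ▸ Submodule.smul_mem _ s (Submodule.subset_span (by simp))⟩) (fun V hV0 hV hVT => by
          rcases CfsgLib.Perm.Elusive.exists_invariant_pair hsf h2 T hT hT2 hV0 hV hVT with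
            ⟨-, a, ha, b, hb, hab, s, h1, h3⟩ | ⟨h, -⟩
          · exact CfsgLib.Perm.Elusive.one_plane hsf (R := fun u v u' v' => u' = u ∧ v' = v ∧ ∃ s : F, T u = s • u ∧ T v = s • v)
              ha hb hab ⟨rfl, rfl, s, h1, h3⟩
          · exact absurd h.symm (fun h' => h2 (by linear_combination -h'))))
      choose j' hj' hj'' ev hev1 hev2 using hrel
      have hev : ∀ j, ev j ≠ 0 := fun j h => by
        have h3 := hT (u j) (v j)
        rw [hev1, h, zero_smul, CfsgLib.Perm.Trans.Symp.zero_left hsf, hF.uv, if_pos rfl] at h3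
        exact zero_ne_one h3
      refine finish 1 ev (by simp) hev (fun p => if p.1 = 0 then t p.2 • u p.2 else v p.2) ?_ ?_
      · have hvu : ∀ i k, Cfsg.sympForm d F (v i) (u k) = -(if k = i then 1 else 0) := fun i k => by
          rw [hsf.skew, hF.uv]
        rintro ⟨i, j⟩ ⟨i', j''⟩
        rcases (show i = 0 ∨ i = 1 by omega) with rfl | rfl <;> rcases (show i' = 0 ∨ i' = 1 by omega) with rfl | rfl <;>
          simp only [one_ne_zero, if_true, if_false, Matrix.diagonal_apply]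
        · rw [hsf.bilinear.smul_left, hsf.bilinear.smul_right, hF.uu, hG₁v.1]; ring
        · rw [hsf.bilinear.smul_left, hF.uv, ← hκ]
          split_ifs with h
          · rw [ht]; ring
          · ring
        · rw [hsf.bilinear.smul_right, hvu, hG₁v.2.2]
          by_cases h : j = j''
          · subst h; rw [if_pos rfl, if_pos rfl, ht]; ring
          · rw [if_neg (Ne.symm h), if_neg h]; ring
        · rw [hF.vv, hG₁v.2.1]; ring
      · rintro ⟨i, j⟩
        rcases (show i = 0 ∨ i = 1 by omega) with rfl | rfl <;> simp [hev1, hev2, smul_smul, mul_comm]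
    · obtain ⟨u, v, hF, hrel⟩ := hfam _
        (CfsgLib.Perm.Elusive.hasFam_of_step hsf T hT (fun u v u' v' => u' = u ∧ v' = v ∧ ∃ s s' : F, T u = s • v ∧ T v = s' • u) (by
          rintro a b a' b' ⟨rfl, rfl, s, s', h1, h3⟩
          exact ⟨h1 ▸ Submodule.smul_mem _ s (Submodule.subset_span (by simp)),
            h3 ▸ Submodule.smul_mem _ s' (Submodule.subset_span (by simp))⟩) (fun V hV0 hV hVT => by
          rcases CfsgLib.Perm.Elusive.exists_invariant_pair hsf h2 T hT hT2 hV0 hV hVT with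
            ⟨h, -⟩ | ⟨-, a, ha, b, hb, hab, s, s', h1, h3⟩
          · exact absurd h (fun h' => h2 (by linear_combination -h'))
          · exact CfsgLib.Perm.Elusive.one_plane hsf (R := fun u v u' v' => u' = u ∧ v' = v ∧ ∃ s s' : F, T u = s • v ∧ T v = s' • u)
              ha hb hab ⟨rfl, rfl, s, s', h1, h3⟩))
      choose j' hj' hj'' sv sv' hs hs' using hrel
      have hss : ∀ j, sv' j * sv j = -1 := fun j => by
        have h3 := hT2 (u j)
        rw [hs, map_smul, hs', smul_smul, mul_comm] at h3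
        exact smul_left_injective F (fun h0 => by
          have := hF.uv j j
          rw [h0, CfsgLib.Perm.Trans.Symp.zero_left hsf, if_pos rfl] at this
          exact zero_ne_one this) h3
      have hxy : ∀ j, ∃ y : F × F, (y.1 * y.1 + y.2 * y.2) * sv j = t j := fun j => by
        have hs0 : sv j ≠ 0 := fun h => by
          have := hss j
          rw [h, mul_zero] at this
          exact one_ne_zero (show (1 : F) = 0 by linear_combination this)
        obtain ⟨y₁, y₂, hy⟩ := FiniteField.exists_root_sum_quadratic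
          (f := (Polynomial.X ^ 2 : Polynomial F)) (g := Polynomial.X ^ 2 - Polynomial.C (t j / sv j))
          (Polynomial.degree_X_pow 2) (Polynomial.degree_X_pow_sub_C (by decide) _) (Nat.odd_iff.1 hodd)
        refine ⟨(y₁, y₂), ?_⟩
        simp only [Polynomial.eval_pow, Polynomial.eval_X, Polynomial.eval_sub, Polynomial.eval_C] at hy
        field_simp at hy
        linear_combination hy
      choose y hy using hxy
      obtain ⟨U, hU⟩ : ∃ U : Fin d → (Fin d ⊕ Fin d → F), ∀ j, U j = (y j).1 • u j + ((y j).2 * sv j) • v j :=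
        ⟨_, fun j => rfl⟩
      obtain ⟨V, hV⟩ : ∃ V : Fin d → (Fin d ⊕ Fin d → F), ∀ j, V j = (-(y j).2) • u j + ((y j).1 * sv j) • v j :=
        ⟨_, fun j => rfl⟩
      have hTU : ∀ j, T (U j) = V j := fun j => by
        rw [hU, hV, map_add, map_smul, map_smul, hs, hs', smul_smul, smul_smul, add_comm]
        congr 1
        rw [mul_assoc, mul_comm (sv j), hss, mul_neg_one]
      have hTV : ∀ j, T (V j) = -U j := fun j => by rw [← hTU, hT2, neg_one_smul]
      refine finish !![0, -1; 1, 0] (fun _ => 1) (by simp [Matrix.det_fin_two]) (fun _ => one_ne_zero)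
        (fun p => if p.1 = 0 then U p.2 else V p.2) ?_ ?_
      · have hpair : ∀ (a b a' b' : F) (i k : Fin d), Cfsg.sympForm d F (a • u i + b • v i) (a' • u k + b' • v k) =
            if i = k then a * b' - b * a' else 0 := fun a b a' b' i k => by
          simp only [hsf.bilinear.smul_left, hsf.bilinear.smul_right, hsf.bilinear.add_left, hsf.bilinear.add_right,
            hF.uu, hF.vv, hF.uv, hsf.skew (v i) (u k)]
          by_cases h : i = k
          · subst h; simp; ring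
          · simp [h, Ne.symm h]
        rintro ⟨i, j⟩ ⟨i', j''⟩
        rcases (show i = 0 ∨ i = 1 by omega) with rfl | rfl <;> rcases (show i' = 0 ∨ i' = 1 by omega) with rfl | rfl <;>
          simp only [one_ne_zero, if_true, if_false, hU, hV, hpair, Matrix.diagonal_apply, hG₁v, ← hκ] <;>
          split_ifs with h <;> first
            | (subst h; linear_combination (hy j).trans (ht j))
            | (subst h; linear_combination -((hy j).trans (ht j)))
            | (subst h; ring)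
            | ring
      · rintro ⟨i, j⟩
        rcases (show i = 0 ∨ i = 1 by omega) with rfl | rfl <;> simp [hTU, hTV]

end Cfsg.Agent.S5980
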