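import Cfsg.Statements.S5981
import Mathlib
import Cfsg.Agent.Lib.Perm.Elusive.SimilOrth
import Cfsg.Agent.Lib.Perm.Elusive.ImprimitiveSemisimple
import Cfsg.Agent.Lib.Perm.Elusive.OrthSemisimple
import Cfsg.Agent.Lib.Classical.HermTori

set_option autoImplicit false
set_option linter.all false
open scoped MatrixGroups Matrix
open Cfsg

namespace Cfsg.Agent.S5981

/-- Elements of prime order of PSL_n(q), q odd, and the subgroups of orthogonal type. Here `T = PSL_n(F)` for a field `F` with `q` elements, `q` odd, `n ≥ 3`; `Q` is a non-degenerate quadratic form on `F^n` (of either type when `n` is even) and `H` is the subgroup of matrices of determinant 1 that preserve `Q` up to a scalar — a subgroup of type O^ε_n(q) (maximality is not assumed); Ω is the set of cosets of `H` in `T`, so an element of `T` of prime order `r` (a matrix `x` of determinant 1 with `x^r` scalar, `x` not scalar) fixes a point of Ω exactly when some conjugate of `x` by a matrix of determinant 1 preserves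 `Q` up to a scalar. Let `r` be a prime dividing the index of `H`, with `(n, r) ≠ (6, 3)`. Then every element of `T` of order `r` fixes a point of Ω if and only if `r = 2`, or `r ∈ {3, 5}`, `n = r` and `(q − 1)_r = r` (the `r`-part of `q − 1` is exactly `r`). The case `(n, r) = (6, 3)` is not covered by this statement. -/
theorem result {F : Type*} [Field F] [Fintype F] {p : ℕ} [Fact p.Prime] [CharP F p] {q : ℕ} (hq : Fintype.card F = q)
    (hodd : Odd q) (n : ℕ) (hn : 3 ≤ n) (Q : (Fin n → F) → F) (hQ : Cfsg.Geo.IsNondegenerateQuadraticForm Q)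
    (r : ℕ) [Fact r.Prime] (hgap : ¬ (n = 6 ∧ r = 3))
    (hΩ : r ∣ (Cfsg.Geo.quadSimilarityGroup Q).relIndex (Cfsg.Geo.specialLinear (Fin n) F)) :
    (∀ x ∈ Cfsg.Geo.specialLinear (Fin n) F, (∃ z : F, ((x ^ r : GL (Fin n) F) : Matrix (Fin n) (Fin n) F) = z • (1 : Matrix (Fin n) (Fin n) F)) →
      (∀ z : F, (x : Matrix (Fin n) (Fin n) F) ≠ z • (1 : Matrix (Fin n) (Fin n) F)) →
      ∃ g ∈ Cfsg.Geo.specialLinear (Fin n) F, g⁻¹ * x * g ∈ Cfsg.Geo.quadSimilarityGroup Q) ↔
    (r = 2 ∨ ((r = 3 ∨ r = 5) ∧ n = r ∧ padicValNat r (q - 1) = 1)) := by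
  classical
  subst hq
  have hr' : r.Prime := Fact.out
  have hpp : p.Prime := Fact.out
  haveI : Nonempty (Fin n) := ⟨⟨0, by omega⟩⟩
  obtain ⟨a, hk, ha⟩ := FiniteField.card F p
  have hp2 : p ≠ 2 := fun h => by
    rw [ha, h] at hodd
    exact Nat.not_even_iff_odd.2 hodd ((even_two).pow_of_ne_zero a.pos.ne')
  have h2 : (2 : F) ≠ 0 := fun h => hp2 ((Nat.prime_dvd_prime_iff_eq hpp Nat.prime_two).1
    ((CharP.cast_eq_zero_iff F p 2).1 (by exact_mod_cast h)))
  obtain ⟨QF, hQF, hN, hmem⟩ := CfsgLib.Perm.Elusive.Sim.orth_gram h2 hQ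
  subst hQF
  obtain ⟨G, hGdef⟩ : ∃ G, G = CfsgLib.Classical.polarGram QF := ⟨_, rfl⟩
  rw [← hGdef] at hmem
  have hG : G.det ≠ 0 := hGdef ▸ CfsgLib.Classical.det_polarGram_ne_zero _ hN
  have hGs : G.transpose = G := hGdef ▸ CfsgLib.FormCl.polarGram_symm QF
  have key : ∀ X : Matrix (Fin n) (Fin n) F, X.det = 1 → ∀ z : F, X ^ r = z • (1 : Matrix (Fin n) (Fin n) F) →
      (∀ z : F, X ≠ z • (1 : Matrix (Fin n) (Fin n) F)) →
      (∀ M : Matrix (Fin n) (Fin n) F, M.det ≠ 0 → M.transpose = M → ∀ c,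
        ¬ CfsgLib.Perm.Elusive.Sim.IsSim (RingEquiv.refl F) M X c) →
      ¬ (∀ x ∈ Cfsg.Geo.specialLinear (Fin n) F, (∃ z : F, ((x ^ r : GL (Fin n) F) : Matrix (Fin n) (Fin n) F) = z • (1 : Matrix (Fin n) (Fin n) F)) →
        (∀ z : F, (x : Matrix (Fin n) (Fin n) F) ≠ z • (1 : Matrix (Fin n) (Fin n) F)) →
        ∃ g ∈ Cfsg.Geo.specialLinear (Fin n) F, g⁻¹ * x * g ∈ Cfsg.Geo.quadSimilarityGroup ⇑QF) := by
    intro X hd z hz hns hno hall
    obtain ⟨g, -, hg⟩ := hall (Matrix.GeneralLinearGroup.mkOfDetNeZero X (hd ▸ one_ne_zero))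
      (MonoidHom.mem_ker.2 (Units.ext (by simpa using hd))) ⟨z, by rw [Units.val_pow_eq_pow_val]; simpa using hz⟩
      (fun z' => by simpa using hns z')
    obtain ⟨c, -, hc⟩ := (hmem _).1 hg
    obtain ⟨M, hM, hMs, hMc⟩ := CfsgLib.Perm.Elusive.Sim.sim_of_conj hG hc
    exact hno M hM (hMs hGs rfl) c (by simpa using hMc)
  rcases eq_or_ne r 2 with rfl | hr2
  · refine iff_of_true ?_ (.inl rfl)
    intro x hx ⟨z, hz⟩ hns
    rw [Units.val_pow_eq_pow_val] at hz
    obtain ⟨g, hg, c, hc0, hc⟩ := CfsgLib.Perm.Elusive.Sim.sym_invol_sim h2 (by omega) hGs hG hz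
    exact ⟨g, hg, (hmem _).2 ⟨c, hc0, hc⟩⟩
  have hrodd : Odd r := hr'.odd_of_ne_two hr2
  have hr3 : 3 ≤ r := by
    have := hr'.two_le
    omega
  rcases eq_or_ne r p with rfl | hrp
  · refine iff_of_false ?_ ?_
    · obtain ⟨i, hi⟩ : ∃ i : Fin n, i = ⟨0, by omega⟩ := ⟨_, rfl⟩
      obtain ⟨j, hj⟩ : ∃ j : Fin n, j = ⟨1, by omega⟩ := ⟨_, rfl⟩
      have hij : i ≠ j := by rw [hi, hj]; simp
      have hX : Matrix.transvection i j (1 : F) ^ r = (1 : F) • (1 : Matrix (Fin n) (Fin n) F) := by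
        obtain ⟨k, hk'⟩ : ∃ k, r = k + 2 := ⟨r - 2, by omega⟩
        have hN0 : (Matrix.single i j (1 : F)) ^ r = 0 := by
          rw [hk', pow_add, sq, Matrix.single_mul_single_of_ne _ _ _ _ hij.symm, mul_zero]
        rw [Matrix.transvection, add_pow_char_of_commute r (Commute.one_left _), one_pow, hN0, add_zero, one_smul]
      refine key _ (Matrix.det_transvection_of_ne i j hij 1) 1 hX (fun z hz => ?_) fun M hM hMs c =>
        CfsgLib.Perm.Elusive.Sim.transvection_not_sim (p := r) hij hM hMs h2 c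
      have h := congrFun (congrFun hz i) j
      simp [Matrix.transvection, Matrix.one_apply_ne hij] at h
    · rintro (h | ⟨-, -, hv⟩)
      · exact hr2 h
      · refine absurd hv ?_
        rw [padicValNat.eq_zero_of_not_dvd fun h => ?_]
        · exact zero_ne_one
        · have h1 : r ∣ Fintype.card F := ha ▸ dvd_pow_self r a.pos.ne'
          have h2' := Nat.dvd_sub h1 h
          rw [Nat.sub_sub_self Fintype.card_pos, Nat.dvd_one] at h2'
          exact hr'.ne_one h2'
  have hrF : (r : F) ≠ 0 := CfsgLib.Perm.Elusive.natCast_ne_zero_of_ne (F := F) hrp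
  have hrq : ¬ r ∣ Fintype.card F := fun h =>
    hrp ((Nat.prime_dvd_prime_iff_eq hr' hpp).1 (hr'.dvd_of_dvd_pow (ha ▸ h)))
  obtain ⟨hbn, hbev⟩ := CfsgLib.Perm.Elusive.Sim.orth_index h2 hn hN hr' hrodd hrq hΩ
  obtain ⟨b, hb⟩ : ∃ b, b = orderOf ((Fintype.card F : ℕ) : ZMod r) := ⟨_, rfl⟩
  rw [← hb] at hbn hbev
  haveI : Fact (2 < r) := ⟨by omega⟩
  by_cases hQ : r ∣ Fintype.card F - 1
  swap
  · refine iff_of_false ?_ ?_
    · have hb1 : b ≠ 1 := fun h => hQ ((CfsgLib.Perm.Elusive.order_one_iff hrp).1 (hb ▸ h))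
      rcases Nat.even_or_odd b with hev | hbo
      · obtain ⟨m, rfl, hm⟩ := hbev hev
        have hbm : b ∣ 2 * m := hb ▸ orderOf_dvd_of_pow_eq_one (by
          rw [mul_comm, pow_mul]
          rcases hm with ⟨-, h⟩ | ⟨-, h⟩ <;> rw [h] <;> simp)
        obtain ⟨T, hT, hTs⟩ := CfsgLib.Perm.Elusive.exists_prime_element (F := F) (p := p) (r := r) hrp (a := 0)
          (b := 2 * m / b) (n := 2 * m) (by rw [← hb, zero_add, Nat.div_mul_cancel hbm])
        have hker : LinearMap.ker (T - 1) = ⊥ := Submodule.finrank_eq_zero.1 hTs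
        have hdet : LinearMap.det T = 1 :=
          CfsgLib.Perm.Elusive.eq_one_of_pow_eq_one hrp (hb ▸ hb1) (by rw [← map_pow, hT, map_one])
        have hX1 : (LinearMap.toMatrix' T) ^ r = 1 := by
          apply Matrix.toLin'.injective
          rw [Matrix.toLin'_pow, Matrix.toLin'_toMatrix', hT, Matrix.toLin'_one]
          rfl
        intro hall
        obtain ⟨y, hy⟩ : ∃ y : GL (Fin (2 * m)) F, y.1 = LinearMap.toMatrix' T :=
          ⟨Matrix.GeneralLinearGroup.mkOfDetNeZero _ (by rw [LinearMap.det_toMatrix', hdet]; exact one_ne_zero), rfl⟩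
        obtain ⟨g, -, hg⟩ := hall y
          (MonoidHom.mem_ker.2 (Units.ext (by
            rw [Matrix.GeneralLinearGroup.val_det_apply, hy, LinearMap.det_toMatrix', hdet, Units.val_one])))
          ⟨1, by rw [Units.val_pow_eq_pow_val, hy, hX1, one_smul]⟩
          (fun z hz => by
            rw [hy] at hz
            have hz1 : z = 1 := CfsgLib.Perm.Elusive.eq_one_of_pow_eq_one hrp (hb ▸ hb1) (by
              rw [hz, _root_.smul_pow, one_pow] at hX1
              simpa using congrFun (congrFun hX1 ⟨0, by omega⟩) ⟨0, by omega⟩)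
            have hT1 : T = 1 := by
              apply LinearMap.toMatrix'.injective
              rw [hz, hz1, one_smul]
              exact LinearMap.toMatrix'_one.symm
            rw [hT1, sub_self, LinearMap.ker_zero] at hker
            exact top_ne_bot hker)
        obtain ⟨c, hc0, hc⟩ := (hmem _).1 hg
        obtain ⟨w, hw⟩ : ∃ w, w = (g⁻¹ * y * g).1 := ⟨_, rfl⟩
        have hwr : w ^ r = 1 := by
          have hy1 : y ^ r = 1 := Units.ext (by rw [Units.val_pow_eq_pow_val, hy, hX1, Units.val_one])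
          have h3 : (g⁻¹ * y * g) ^ r = 1 := by
            have h4 := conj_pow (i := r) (a := g⁻¹) (b := y)
            rw [inv_inv] at h4
            rw [h4, hy1, mul_one, inv_mul_cancel]
          rw [hw, ← Units.val_pow_eq_pow_val, h3, Units.val_one]
        rw [← hw] at hc
        have hc1 : c = 1 := by
          refine CfsgLib.Perm.Elusive.eq_one_of_pow_eq_one hrp (hb ▸ hb1) ?_
          have := hc.multiplier_pow hG (z := 1) (by rw [hwr, one_smul])
          simpa using this
        have hI : ∀ v, QF (Matrix.toLin' w v) = QF v := fun v => by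
          have h := (CfsgLib.FormCl.mult_polarGram_iff h2 QF (g⁻¹ * y * g) (Units.mk0 c hc0)).1
            (CfsgLib.Perm.Elusive.Sim.mult_iff_isSim.2 (by rw [← hw, ← hGdef]; exact hc)) v
          rw [← hw, Units.val_mk0, hc1, one_mul] at h
          rw [Matrix.toLin'_apply]
          exact h
        obtain ⟨hplus, hminus⟩ := CfsgLib.Perm.Elusive.fpf_type_dvd (p := p) (r := r) hrp hr2 (Q := QF)
          (T := Matrix.toLin' w) hI (by rw [← Matrix.toLin'_pow, hwr, Matrix.toLin'_one]; rfl)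
          (S := ⊤) (fun _ _ => Submodule.mem_top) (CfsgLib.Perm.Elusive.qnd_top hN)
          (fun u _ hu => by
            rw [Matrix.toLin'_apply, hw] at hu
            have hgu : T (g.1 *ᵥ u) = g.1 *ᵥ u := by
              rw [← Matrix.toLin'_toMatrix' T, Matrix.toLin'_apply, ← hy, Matrix.mulVec_mulVec,
                show y.1 * g.1 = g.1 * (g⁻¹ * y * g).1 by
                  rw [← Units.val_mul, ← Units.val_mul, mul_assoc g⁻¹, mul_inv_cancel_left],
                ← Matrix.mulVec_mulVec, hu]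
            have hk0 : g.1 *ᵥ u ∈ LinearMap.ker (T - 1) := by
              rw [LinearMap.mem_ker, LinearMap.sub_apply, Module.End.one_apply, hgu, sub_self]
            rw [hker, Submodule.mem_bot] at hk0
            calc u = ((g⁻¹ : GL (Fin (2 * m)) F).1 * g.1) *ᵥ u := by
                  rw [← Units.val_mul, inv_mul_cancel, Units.val_one, Matrix.one_mulVec]
              _ = 0 := by rw [← Matrix.mulVec_mulVec, hk0, Matrix.mulVec_zero])
          (h := m) (by rw [finrank_top, Module.finrank_fin_fun]) (by omega)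
        rcases hm with ⟨hp, h⟩ | ⟨hp, h⟩
        · exact CfsgLib.Perm.Elusive.one_ne_neg_one_zmod (r := r) hr2 ((hplus hp).symm.trans h)
        · exact CfsgLib.Perm.Elusive.one_ne_neg_one_zmod (r := r) hr2 (h.symm.trans (hminus hp))
      · have hrb : r ∣ Fintype.card F ^ b - 1 := by
          rw [← Nat.modEq_iff_dvd' (Nat.one_le_pow _ _ Fintype.card_pos), ← ZMod.natCast_eq_natCast_iff, Nat.cast_one,
            Nat.cast_pow, hb, pow_orderOf_eq_one]
        obtain ⟨X, hd, hX, hns, hnsim⟩ := CfsgLib.Perm.Elusive.Sim.exists_torus_not_sim (p := p) (k := n - b)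
          (by omega : n = b + (n - b)) (hb ▸ CfsgLib.Perm.Elusive.order_pos hrp) hr' hrb hQ
          (σ := RingEquiv.refl F) (e := 0) (fun x => by simp) (fun j h => by
            rw [pow_zero, one_mul] at h
            have h1 := (ZMod.natCast_eq_zero_iff _ _).2 h
            push_cast at h1
            have h1' := eq_neg_of_add_eq_zero_left h1
            refine ZMod.neg_one_ne_one (n := r) ?_
            calc (-1 : ZMod r) = (-1) ^ b := hbo.neg_one_pow.symm
              _ = ((Fintype.card F : ZMod r) ^ j) ^ b := by rw [h1']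
              _ = 1 := by rw [← pow_mul, mul_comm, pow_mul, hb, pow_orderOf_eq_one, one_pow])
        exact key X hd 1 (by rw [one_smul]; exact hX) hns fun M hM _ => hnsim M hM
    · rintro (h | ⟨-, -, hv⟩)
      · exact hr2 h
      · refine hQ ?_
        by_contra h
        rw [padicValNat.eq_zero_of_not_dvd h] at hv
        omega
  have hroot : ∀ k, k ∣ Fintype.card F - 1 → ∃ w : F, orderOf w = k := fun k hk =>
    CfsgLib.Classical.HermTori.exists_of_order F hk
  obtain ⟨w, hw⟩ := hroot r hQ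
  have hwr : w ^ r = 1 := hw ▸ pow_orderOf_eq_one w
  have derange : ∀ d : Fin n → F, ∏ i, d i = 1 → ∀ z : F, (∀ i, d i ^ r = z) → (∃ i j, d i ≠ d j) →
      (∀ M : Matrix (Fin n) (Fin n) F, M.det ≠ 0 → ∀ c,
        ¬ CfsgLib.Perm.Elusive.Sim.IsSim (RingEquiv.refl F) M (Matrix.diagonal d) c) →
      ¬ (∀ x ∈ Cfsg.Geo.specialLinear (Fin n) F, (∃ z : F, ((x ^ r : GL (Fin n) F) : Matrix (Fin n) (Fin n) F) = z • (1 : Matrix (Fin n) (Fin n) F)) →
        (∀ z : F, (x : Matrix (Fin n) (Fin n) F) ≠ z • (1 : Matrix (Fin n) (Fin n) F)) →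
        ∃ g ∈ Cfsg.Geo.specialLinear (Fin n) F, g⁻¹ * x * g ∈ Cfsg.Geo.quadSimilarityGroup ⇑QF) := by
    intro d hd z hz ⟨i, j, hij⟩ hns
    refine key (Matrix.diagonal d) (by rw [Matrix.det_diagonal, hd]) z ?_ (fun c hc => hij ?_)
      fun M hM _ => hns M hM
    · rw [Matrix.diagonal_pow, Matrix.smul_one_eq_diagonal]
      exact congrArg _ (funext fun i => hz i)
    · rw [Matrix.smul_one_eq_diagonal] at hc
      rw [congrFun (Matrix.diagonal_injective hc) i, congrFun (Matrix.diagonal_injective hc) j]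
  by_cases hexc : (r = 3 ∨ r = 5) ∧ n = r ∧ padicValNat r (Fintype.card F - 1) = 1
  · refine iff_of_true ?_ (.inr hexc)
    obtain ⟨h35, rfl, hv⟩ := hexc
    intro x hx ⟨z, hz⟩ hns
    rw [Units.val_pow_eq_pow_val] at hz
    have hdet : x.1.det = 1 := by
      have h := congrArg Units.val (MonoidHom.mem_ker.1 hx)
      rwa [Matrix.GeneralLinearGroup.val_det_apply, Units.val_one] at h
    have hw' : IsPrimitiveRoot w n := hw ▸ IsPrimitiveRoot.orderOf w
    obtain ⟨S, d, π, μ, hS, hxS, hπ, hμ, hsim⟩ :=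
      CfsgLib.Perm.Elusive.Sim.exception_sim (σ := RingEquiv.refl F) hr' h35 hw' rfl hv x.1 hdet hz
    obtain ⟨P, lam, hP, hlam, hPM⟩ := CfsgLib.Perm.Elusive.Sim.sym_congr h2 (by omega) hGs hG
      (M := CfsgLib.Perm.Elusive.Sim.permGram F π) (CfsgLib.Perm.Elusive.Sim.permGram_symm π hπ)
      (CfsgLib.Perm.Elusive.Sim.permGram_det π) (.inl hrodd)
    obtain ⟨g, hg, h⟩ := CfsgLib.Perm.Elusive.Sim.exists_sl_conj_of_frame hS hxS hsim hP hlam
      hPM fun δ _ => CfsgLib.Perm.Elusive.Sim.diag_cent (by omega) d δ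
    exact ⟨g, hg, (hmem _).2 ⟨μ, hμ, h⟩⟩
  refine iff_of_false ?_ (by
    rintro (h | h)
    · exact hr2 h
    · exact hexc h)
  by_cases hrn : r ∣ n
  · by_cases hn7 : 7 ≤ n
    · obtain ⟨d, hd, hdr, hne', hns⟩ :=
        CfsgLib.Perm.Elusive.Sim.diag_recipe_two (σ := RingEquiv.refl F) hn7 hr' hrodd hw rfl
      exact derange d hd 1 hdr hne' hns
    · obtain ⟨k, hk'⟩ := hrn
      have hk0 : 0 < k := Nat.pos_of_ne_zero fun h => by rw [h, mul_zero] at hk'; omega
      have hk1 : k = 1 := by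
        by_contra h
        have hmul : r * 2 ≤ r * k := Nat.mul_le_mul_left r (by omega)
        have hmul' : 3 * k ≤ r * k := Nat.mul_le_mul_right k hr3
        have : k = 2 ∧ r = 3 := by omega
        exact hgap ⟨by rw [hk', this.1, this.2], this.2⟩
      rw [hk1, mul_one] at hk'
      subst hk'
      have h35 : n = 3 ∨ n = 5 := by
        rcases hrodd with ⟨c, hc⟩
        omega
      have hq1 : Fintype.card F - 1 ≠ 0 := by have := Fintype.one_lt_card (α := F); omega
      have hv1 : 2 ≤ padicValNat n (Fintype.card F - 1) := by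
        have := one_le_padicValNat_of_dvd (p := n) hq1 hQ
        by_contra h
        exact hexc ⟨h35, rfl, by omega⟩
      obtain ⟨a', ha'⟩ := hroot (n ^ 2) ((pow_dvd_pow n hv1).trans pow_padicValNat_dvd)
      obtain ⟨d, hd, hdr, hne', hns⟩ := CfsgLib.Perm.Elusive.Sim.diag_recipe_one (σ := RingEquiv.refl F) (a := a') hn
        (r := n) (by omega) rfl (by rw [← sq, ← ha', pow_orderOf_eq_one]) (fun h => by
          have h' := Nat.le_of_dvd (by omega) (orderOf_dvd_of_pow_eq_one h)
          rw [ha', sq] at h'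
          have : 3 * n ≤ n * n := Nat.mul_le_mul_right n (by omega)
          omega)
      exact derange d hd _ hdr hne' hns
  · obtain ⟨d, hd, hdr, hne', hns⟩ := CfsgLib.Perm.Elusive.Sim.diag_recipe_one (σ := RingEquiv.refl F) (a := w) hn
      (r := r) (by omega) rfl (by rw [mul_comm, pow_mul, hwr, one_pow]) (fun h => by
        rcases (Nat.Prime.dvd_mul hr').1 (hw ▸ orderOf_dvd_of_pow_eq_one h) with h | h
        · have := Nat.le_of_dvd two_pos h
          omega
        · exact hrn h)
    exact derange d hd _ hdr hne' hns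

end Cfsg.Agent.S5981
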