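import Cfsg.Statements.S5982
import Mathlib
import Cfsg.Agent.Lib.Perm.Elusive.SimilUnitary
import Cfsg.Agent.Lib.Classical.HermTori

set_option autoImplicit false
set_option linter.all false
open scoped MatrixGroups
open Cfsg

namespace Cfsg.Agent.S5982

/-- Elements of prime order of PSL_n(q), q = q₀², and the subgroups of unitary type. Here `T = PSL_n(F)` for a field `F` with `q = q₀²` elements (`n ≥ 3`), `f` is a non-degenerate unitary form on `F^n` for the involutory automorphism `x ↦ x^{q₀}`, and `H` is the subgroup of matrices of determinant 1 that preserve `f` up to a scalar — a subgroup of type GU_n(q₀) (maximality is not assumed); Ω is the set of cosets of `H` in `T`, so an element of `T` of prime order `r` (a matrix `x` of determinant 1 with `x^r` scalar, `x` not scalar) fixes a point of Ω exactly when some conjugate of `x` by a matrix of determinant 1 preserves `f` up to a scalar. Let `r` be a prime dividing the index of `H`, with `r = 2` or `r` different from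 the characteristic `p`, and with `(n, r) ≠ (6, 3)`. Then every element of `T` of order `r` fixes a point of Ω if and only if either `r = 2` and (`p = 2` or `(n)_2 ≤ (q − 1)_2`), or `r ∈ {3, 5}`, `n = r` and `(q₀ − 1)_r = r`. (Odd `r = p` and the case `(n, r) = (6, 3)` are not covered by this statement.) -/
theorem result {F : Type*} [Field F] [Fintype F] {p : ℕ} [Fact p.Prime] [CharP F p] {q : ℕ} (hq : Fintype.card F = q)
    (q₀ : ℕ) (hq₀ : q = q₀ ^ 2) (n : ℕ) (hn : 3 ≤ n) (f : (Fin n → F) → (Fin n → F) → F) (hf : Cfsg.Geo.IsUnitaryFormPow q₀ f)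
    (r : ℕ) [Fact r.Prime] (hr : r = 2 ∨ r ≠ p) (hgap : ¬ (n = 6 ∧ r = 3))
    (hΩ : r ∣ (Cfsg.Geo.similarityGroup f).relIndex (Cfsg.Geo.specialLinear (Fin n) F)) :
    (∀ x ∈ Cfsg.Geo.specialLinear (Fin n) F, (∃ z : F, ((x ^ r : GL (Fin n) F) : Matrix (Fin n) (Fin n) F) = z • (1 : Matrix (Fin n) (Fin n) F)) →
      (∀ z : F, (x : Matrix (Fin n) (Fin n) F) ≠ z • (1 : Matrix (Fin n) (Fin n) F)) →
      ∃ g ∈ Cfsg.Geo.specialLinear (Fin n) F, g⁻¹ * x * g ∈ Cfsg.Geo.similarityGroup f) ↔
    ((r = 2 ∧ (p = 2 ∨ padicValNat 2 n ≤ padicValNat 2 (q - 1))) ∨ ((r = 3 ∨ r = 5) ∧ n = r ∧ padicValNat r (q₀ - 1) = 1)) := by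
  classical
  subst hq
  obtain ⟨C⟩ := CfsgLib.Classical.uctx_exists hq₀
  have hr' : r.Prime := Fact.out
  have hpp : p.Prime := Fact.out
  haveI : Nonempty (Fin n) := ⟨⟨0, by omega⟩⟩
  have hq2 := CfsgLib.Classical.two_le_q hq₀
  obtain ⟨a, ha⟩ : ∃ a, q₀ = p ^ a := by
    obtain ⟨k, -, hk⟩ := FiniteField.card F p
    obtain ⟨j, -, hj⟩ := (Nat.dvd_prime_pow hpp).1 (hk ▸ hq₀ ▸ dvd_pow_self q₀ two_ne_zero)
    exact ⟨j, hj⟩
  have hsq : Fintype.card F - 1 = (q₀ + 1) * (q₀ - 1) := by rw [hq₀, ← Nat.sq_sub_sq, one_pow]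
  obtain ⟨G, hGs, hG, hmem⟩ := CfsgLib.Perm.Elusive.Sim.unitary_gram C hf
  have hne := CfsgLib.Perm.Elusive.Sim.bar_ne_refl C
  have key : ∀ X : Matrix (Fin n) (Fin n) F, X.det = 1 → ∀ z : F, X ^ r = z • (1 : Matrix (Fin n) (Fin n) F) →
      (∀ z : F, X ≠ z • (1 : Matrix (Fin n) (Fin n) F)) →
      (∀ M : Matrix (Fin n) (Fin n) F, M.det ≠ 0 → ∀ c, ¬ CfsgLib.Perm.Elusive.Sim.IsSim C.bar M X c) →
      ¬ (∀ x ∈ Cfsg.Geo.specialLinear (Fin n) F, (∃ z : F, ((x ^ r : GL (Fin n) F) : Matrix (Fin n) (Fin n) F) = z • (1 : Matrix (Fin n) (Fin n) F)) →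
        (∀ z : F, (x : Matrix (Fin n) (Fin n) F) ≠ z • (1 : Matrix (Fin n) (Fin n) F)) →
        ∃ g ∈ Cfsg.Geo.specialLinear (Fin n) F, g⁻¹ * x * g ∈ Cfsg.Geo.similarityGroup f) := by
    intro X hd z hz hns hno hall
    obtain ⟨g, -, hg⟩ := hall (Matrix.GeneralLinearGroup.mkOfDetNeZero X (hd ▸ one_ne_zero))
      (MonoidHom.mem_ker.2 (Units.ext (by simpa using hd))) ⟨z, by rw [Units.val_pow_eq_pow_val]; simpa using hz⟩
      (fun z' => by simpa using hns z')
    obtain ⟨c, -, hc⟩ := (hmem _).1 hg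
    obtain ⟨M, hM, -, hMc⟩ := CfsgLib.Perm.Elusive.Sim.sim_of_conj hG hc
    exact hno M hM c (by simpa using hMc)
  rcases hr'.eq_two_or_odd' with rfl | hrodd
  · have hrhs : ((2 = 2 ∧ (p = 2 ∨ padicValNat 2 n ≤ padicValNat 2 (Fintype.card F - 1))) ∨
        ((2 = 3 ∨ 2 = 5) ∧ n = 2 ∧ padicValNat 2 (q₀ - 1) = 1)) ↔
        (p = 2 ∨ padicValNat 2 n ≤ padicValNat 2 (Fintype.card F - 1)) :=
      ⟨fun h => h.elim (·.2) (fun h => by omega), fun h => .inl ⟨rfl, h⟩⟩
    rw [hrhs]
    have h2ne : p ≠ 2 → (2 : F) ≠ 0 := fun hp2 h => hp2 ((Nat.prime_dvd_prime_iff_eq hpp Nat.prime_two).1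
      ((CharP.cast_eq_zero_iff F p 2).1 (by exact_mod_cast h)))
    have hodd : p ≠ 2 → Odd q₀ := fun hp2 => ha ▸ (hpp.odd_of_ne_two hp2).pow
    have hneg : IsSquare (-1 : F) := FiniteField.isSquare_neg_one_iff.2 (by
      rw [hq₀]
      rcases Nat.even_or_odd q₀ with ⟨t, rfl⟩ | ⟨t, rfl⟩ <;> ring_nf <;> omega)
    constructor
    · intro hall
      by_contra hbad
      push Not at hbad
      obtain ⟨hp2, hlt⟩ := hbad
      have h2 := h2ne hp2
      obtain ⟨t, ht⟩ := hodd hp2
      have hchar : ringChar F ≠ 2 := by rw [ringChar.eq F p]; exact hp2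
      obtain ⟨k, hk⟩ : 2 ∣ n := by
        by_contra h
        rw [padicValNat.eq_zero_of_not_dvd h] at hlt
        omega
      obtain ⟨g, hg⟩ := IsCyclic.exists_ofOrder_eq_natCard (α := Fˣ)
      rw [Nat.card_units, Nat.card_eq_fintype_card] at hg
      obtain ⟨m, hm⟩ : 2 ^ padicValNat 2 (Fintype.card F - 1) ∣ Fintype.card F - 1 := pow_padicValNat_dvd
      have hq1 : Fintype.card F - 1 ≠ 0 := by have := Fintype.one_lt_card (α := F); omega
      have hmodd : Odd m := by
        rw [← Nat.not_even_iff_odd]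
        intro he
        refine pow_succ_padicValNat_not_dvd (p := 2) hq1 ?_
        obtain ⟨d, hd⟩ := he.two_dvd
        refine ⟨d, hm.trans ?_⟩
        rw [hd]
        ring
      have hghalf : (g : F) ^ (Fintype.card F / 2) = -1 := by
        refine (FiniteField.pow_dichotomy hchar g.ne_zero).resolve_left fun h => ?_
        have h' : g ^ (Fintype.card F / 2) = 1 := Units.ext (by rw [Units.val_pow_eq_pow_val, h, Units.val_one])
        have h2' := Nat.le_of_dvd (by have := Fintype.one_lt_card (α := F); omega) (orderOf_dvd_of_pow_eq_one h')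
        rw [hg] at h2'
        have : 2 * 2 ≤ Fintype.card F := by rw [hq₀, sq]; exact Nat.mul_le_mul hq2 hq2
        omega
      obtain ⟨u, hu⟩ : ∃ u : F, u = (g : F) ^ m := ⟨_, rfl⟩
      have hu0 : u ≠ 0 := hu ▸ pow_ne_zero _ g.ne_zero
      have huns : ¬ IsSquare u := by
        rw [FiniteField.isSquare_iff hchar hu0, hu, ← pow_mul, mul_comm, pow_mul, hghalf, hmodd.neg_one_pow]
        intro h
        exact h2 (by linear_combination -h)
      have huk : u ^ k = 1 := by
        have hv : padicValNat 2 (Fintype.card F - 1) ≤ padicValNat 2 k := by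
          rw [hk, padicValNat.mul two_ne_zero (by omega), padicValNat.self (by norm_num)] at hlt
          omega
        obtain ⟨d, hd⟩ : 2 ^ padicValNat 2 (Fintype.card F - 1) ∣ k := (pow_dvd_pow 2 hv).trans pow_padicValNat_dvd
        rw [hd, pow_mul, hu, ← pow_mul (g : F), mul_comm m, ← hm,
          FiniteField.pow_card_sub_one_eq_one _ g.ne_zero, one_pow]
      have hzns : ∀ l : F, l ^ 2 ≠ -u := fun l hl => by
        obtain ⟨i, hi⟩ := hneg
        exact huns ⟨i * l, by linear_combination -(i * i) * hl - u * hi⟩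
      obtain ⟨T, hT⟩ := CfsgLib.Perm.Elusive.exists_block_element (r := 2) (n := n) (k := k) (by omega) (-u)
      obtain ⟨hd2, hdet⟩ := CfsgLib.Perm.Elusive.det_of_pow_eq_nonpower Nat.prime_two (by exact_mod_cast h2) T hT hzns
      rw [Module.finrank_fin_fun, show n / 2 = k by omega, Nat.add_one_sub_one, pow_one, neg_one_mul,
        neg_neg, huk] at hdet
      have hX2 : (LinearMap.toMatrix' T) ^ 2 = (-u) • (1 : Matrix (Fin n) (Fin n) F) := by
        apply Matrix.toLin'.injective
        rw [Matrix.toLin'_pow, Matrix.toLin'_toMatrix', hT, map_smul, Matrix.toLin'_one]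
      obtain ⟨h, -, hh⟩ := hall (Matrix.GeneralLinearGroup.mkOfDetNeZero (LinearMap.toMatrix' T)
          (by rw [LinearMap.det_toMatrix', hdet]; exact one_ne_zero))
        (MonoidHom.mem_ker.2 (Units.ext (by simp [hdet])))
        ⟨-u, by rw [Units.val_pow_eq_pow_val]; simpa using hX2⟩
        (fun z' hz' => by
          have h' : LinearMap.toMatrix' T = z' • (1 : Matrix (Fin n) (Fin n) F) := by simpa using hz'
          rw [h', _root_.smul_pow, one_pow] at hX2
          have := congrFun (congrFun hX2 ⟨0, by omega⟩) ⟨0, by omega⟩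
          simp at this
          exact hzns z' this)
      obtain ⟨c, hc0, hc⟩ := (hmem _).1 hh
      have hσc := CfsgLib.Perm.Elusive.Sim.multiplier_fixed C.bar_bar hGs hG hc
      have hpow : (h⁻¹ * Matrix.GeneralLinearGroup.mkOfDetNeZero (LinearMap.toMatrix' T)
          (by rw [LinearMap.det_toMatrix', hdet]; exact one_ne_zero) * h).1 ^ 2 = (-u) • (1 : Matrix (Fin n) (Fin n) F) := by
        have e : ∀ (A : GL (Fin n) F), (h⁻¹ * A * h) ^ 2 = h⁻¹ * A ^ 2 * h := fun A => by rw [sq, sq]; group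
        rw [← Units.val_pow_eq_pow_val, e, Units.val_mul, Units.val_mul, Units.val_pow_eq_pow_val]
        simp [hX2, ← Units.val_mul]
      have hcc := hc.multiplier_pow hG hpow
      rw [C.bar_eq, ← pow_succ'] at hcc
      rw [C.bar_eq] at hσc
      have hc1 : c ^ (q₀ - 1) = 1 := by
        refine mul_right_cancel₀ hc0 ?_
        rw [← pow_succ, Nat.sub_add_cancel (by omega), hσc, one_mul]
      have hu2 : ¬ IsSquare (-u) := fun ⟨l, hl⟩ => hzns l (by rw [sq, hl])
      refine hu2 ((FiniteField.isSquare_iff hchar (neg_ne_zero.2 hu0)).2 ?_)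
      rw [show Fintype.card F / 2 = (q₀ + 1) * t by
          rw [hq₀, ht, show (2 * t + 1) ^ 2 = (2 * t + 1 + 1) * t * 2 + 1 by ring]
          generalize (2 * t + 1 + 1) * t = s
          omega,
        pow_mul, ← hcc, ← pow_mul, show 2 * t = q₀ - 1 by omega, hc1]
    · intro hRHS x hx ⟨z, hz⟩ hns
      rw [Units.val_pow_eq_pow_val] at hz
      have hdet : x.1.det = 1 := by
        have h := congrArg Units.val (MonoidHom.mem_ker.1 hx)
        rwa [Matrix.GeneralLinearGroup.val_det_apply, Units.val_one] at h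
      obtain ⟨ρ, hρ⟩ : ∃ ρ : F, ρ * ρ = z := by
        by_cases hp2 : p = 2
        · obtain ⟨ρ, hρ⟩ := FiniteField.isSquare_of_char_two (F := F) (by rw [ringChar.eq F p]; exact hp2) z
          exact ⟨ρ, hρ.symm⟩
        by_contra hno
        push Not at hno
        obtain ⟨hd2, hd⟩ := CfsgLib.Perm.Elusive.det_of_pow_eq_nonpower Nat.prime_two (by exact_mod_cast h2ne hp2)
          (Matrix.toLin' x.1) (z := z) (by rw [← Matrix.toLin'_pow, hz, map_smul, Matrix.toLin'_one])
          (fun l hl => hno l (by rw [← sq, hl]))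
        rw [LinearMap.det_toLin', hdet, Module.finrank_fin_fun, Nat.add_one_sub_one, pow_one, neg_one_mul] at hd
        rw [Module.finrank_fin_fun] at hd2
        have hz0 : z ≠ 0 := fun h => by
          rw [h, neg_zero, zero_pow (by omega)] at hd
          exact one_ne_zero hd
        obtain ⟨t, ht⟩ := hodd hp2
        obtain ⟨l, hl⟩ := CfsgLib.Perm.Elusive.exists_root_of_pow_eq_one (r := 2) (neg_ne_zero.2 hz0) (k := n / 2)
          (by omega) hd.symm (by rw [hsq, ht]; exact dvd_mul_of_dvd_right ⟨t, by omega⟩ _) (by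
            rw [padicValNat.div hd2]
            have := one_le_padicValNat_of_dvd (p := 2) (by omega : n ≠ 0) hd2
            have := hRHS.resolve_left hp2
            omega)
        obtain ⟨i, hi⟩ := hneg
        exact hno (i * l) (by linear_combination (i * i) * hl + z * hi)
      obtain ⟨g, hg, c, hc0, hc⟩ := CfsgLib.Perm.Elusive.Sim.herm_invol_sim hne C.bar_bar hGs hG (by omega) hρ hz hns
      exact ⟨g, hg, (hmem _).2 ⟨c, hc0, hc⟩⟩
  · have hrp : r ≠ p := by
      rcases hr with rfl | h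
      · exact absurd hrodd (by decide)
      · exact h
    have hr3 : 3 ≤ r := by
      have := hr'.two_le
      rcases hrodd with ⟨c, hc⟩
      omega
    have hrF : (r : F) ≠ 0 := CfsgLib.Perm.Elusive.natCast_ne_zero_of_ne (F := F) hrp
    have hrq : ¬ r ∣ q₀ := fun h => hrp ((Nat.prime_dvd_prime_iff_eq hr' hpp).1 (hr'.dvd_of_dvd_pow (ha ▸ h)))
    obtain ⟨hbn, hno⟩ := CfsgLib.Perm.Elusive.Sim.unitary_index C hq₀ (by omega) hf hr' hrodd hrq hΩ
    by_cases hQ : r ∣ Fintype.card F - 1
    swap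
    · refine iff_of_false ?_ ?_
      · obtain ⟨b, hb⟩ : ∃ b, b = orderOf ((Fintype.card F : ℕ) : ZMod r) := ⟨_, rfl⟩
        have hrb : r ∣ Fintype.card F ^ b - 1 := by
          rw [← Nat.modEq_iff_dvd' (Nat.one_le_pow _ _ Fintype.card_pos), ← ZMod.natCast_eq_natCast_iff, Nat.cast_one,
            Nat.cast_pow, hb, pow_orderOf_eq_one]
        obtain ⟨X, hd, hX, hns, hnsim⟩ := CfsgLib.Perm.Elusive.Sim.exists_torus_not_sim (p := p) (k := n - b)
          (by omega : n = b + (n - b)) (hb ▸ CfsgLib.Perm.Elusive.order_pos hrp) hr' hrb hQ (σ := C.bar) (e := a)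
          (fun x => by rw [C.bar_eq, ha]) (fun j => by
            rw [← ha, hq₀, ← pow_mul, ← pow_succ']
            exact hno j)
        exact key X hd 1 (by rw [one_smul]; exact hX) hns hnsim
      · rintro (⟨rfl, -⟩ | ⟨-, -, hv⟩)
        · omega
        · refine hQ (hsq ▸ dvd_mul_of_dvd_right ?_ _)
          by_contra h
          rw [padicValNat.eq_zero_of_not_dvd h] at hv
          omega
    have hr1 : ¬ r ∣ q₀ + 1 := by simpa using hno 0
    have hr0 : r ∣ q₀ - 1 := ((Nat.Prime.dvd_mul hr').1 (hsq ▸ hQ)).resolve_left hr1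
    have hroot : ∀ k, k ∣ q₀ - 1 → ∃ w : F, orderOf w = k ∧ C.bar w = w := fun k hk => by
      obtain ⟨w, hw⟩ := CfsgLib.Classical.HermTori.exists_of_order F (k := k) (hsq ▸ dvd_mul_of_dvd_right hk _)
      refine ⟨w, hw, ?_⟩
      rw [C.bar_eq]
      nth_rewrite 1 [show q₀ = q₀ - 1 + 1 by omega]
      rw [pow_succ, orderOf_dvd_iff_pow_eq_one.1 (hw ▸ hk), one_mul]
    obtain ⟨w, hw, hwσ⟩ := hroot r hr0
    have hwr : w ^ r = 1 := hw ▸ pow_orderOf_eq_one w
    have derange : ∀ d : Fin n → F, ∏ i, d i = 1 → ∀ z : F, (∀ i, d i ^ r = z) → (∃ i j, d i ≠ d j) →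
        (∀ M : Matrix (Fin n) (Fin n) F, M.det ≠ 0 → ∀ c, ¬ CfsgLib.Perm.Elusive.Sim.IsSim C.bar M (Matrix.diagonal d) c) →
        ¬ (∀ x ∈ Cfsg.Geo.specialLinear (Fin n) F, (∃ z : F, ((x ^ r : GL (Fin n) F) : Matrix (Fin n) (Fin n) F) = z • (1 : Matrix (Fin n) (Fin n) F)) →
          (∀ z : F, (x : Matrix (Fin n) (Fin n) F) ≠ z • (1 : Matrix (Fin n) (Fin n) F)) →
          ∃ g ∈ Cfsg.Geo.specialLinear (Fin n) F, g⁻¹ * x * g ∈ Cfsg.Geo.similarityGroup f) := by
      intro d hd z hz ⟨i, j, hij⟩ hns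
      refine key (Matrix.diagonal d) (by rw [Matrix.det_diagonal, hd]) z ?_ (fun c hc => hij ?_) hns
      · rw [Matrix.diagonal_pow, Matrix.smul_one_eq_diagonal]
        exact congrArg _ (funext fun i => hz i)
      · rw [Matrix.smul_one_eq_diagonal] at hc
        rw [congrFun (Matrix.diagonal_injective hc) i, congrFun (Matrix.diagonal_injective hc) j]
    by_cases hexc : (r = 3 ∨ r = 5) ∧ n = r ∧ padicValNat r (q₀ - 1) = 1
    · refine iff_of_true ?_ (.inr hexc)
      obtain ⟨h35, rfl, hv⟩ := hexc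
      intro x hx ⟨z, hz⟩ hns
      rw [Units.val_pow_eq_pow_val] at hz
      have hdet : x.1.det = 1 := by
        have h := congrArg Units.val (MonoidHom.mem_ker.1 hx)
        rwa [Matrix.GeneralLinearGroup.val_det_apply, Units.val_one] at h
      have hw' : IsPrimitiveRoot w n := hw ▸ IsPrimitiveRoot.orderOf w
      have hv' : padicValNat n (Fintype.card F - 1) = 1 := by
        rw [hsq, padicValNat.mul (by omega) (by omega), padicValNat.eq_zero_of_not_dvd hr1, hv]
      obtain ⟨S, d, π, μ, hS, hxS, hπ, hμ, hsim⟩ :=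
        CfsgLib.Perm.Elusive.Sim.exception_sim hr' h35 hw' hwσ hv' x.1 hdet hz
      obtain ⟨P, hP, hPM⟩ := CfsgLib.Perm.Elusive.Sim.herm_congr hne C.bar_bar hGs hG
        (M := CfsgLib.Perm.Elusive.Sim.permGram F π)
        (by rw [CfsgLib.Perm.Elusive.Sim.permGram_map, CfsgLib.Perm.Elusive.Sim.permGram_symm π hπ])
        (CfsgLib.Perm.Elusive.Sim.permGram_det π)
      obtain ⟨g, hg, h⟩ := CfsgLib.Perm.Elusive.Sim.exists_sl_conj_of_frame hS hxS hsim hP one_ne_zero
        (by rw [one_smul]; exact hPM) fun δ _ => CfsgLib.Perm.Elusive.Sim.diag_cent (by omega) d δ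
      exact ⟨g, hg, (hmem _).2 ⟨μ, hμ, h⟩⟩
    refine iff_of_false ?_ (by
      rintro (⟨rfl, -⟩ | h)
      · omega
      · exact hexc h)
    by_cases hrn : r ∣ n
    · by_cases hn7 : 7 ≤ n
      · obtain ⟨d, hd, hdr, hne', hns⟩ := CfsgLib.Perm.Elusive.Sim.diag_recipe_two (σ := C.bar) hn7 hr' hrodd hw hwσ
        exact derange d hd 1 hdr hne' hns
      · obtain ⟨k, hk⟩ := hrn
        have hk0 : 0 < k := Nat.pos_of_ne_zero fun h => by rw [h, mul_zero] at hk; omega
        have hk1 : k = 1 := by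
          by_contra h
          have hmul : r * 2 ≤ r * k := Nat.mul_le_mul_left r (by omega)
          have hmul' : 3 * k ≤ r * k := Nat.mul_le_mul_right k hr3
          have : k = 2 ∧ r = 3 := by omega
          exact hgap ⟨by rw [hk, this.1, this.2], this.2⟩
        rw [hk1, mul_one] at hk
        subst hk
        have h35 : n = 3 ∨ n = 5 := by
          rcases hrodd with ⟨c, hc⟩
          omega
        have hv1 : 2 ≤ padicValNat n (q₀ - 1) := by
          have := one_le_padicValNat_of_dvd (p := n) (by omega : q₀ - 1 ≠ 0) hr0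
          by_contra h
          exact hexc ⟨h35, rfl, by omega⟩
        obtain ⟨a', ha', haσ⟩ := hroot (n ^ 2) ((pow_dvd_pow n hv1).trans pow_padicValNat_dvd)
        obtain ⟨d, hd, hdr, hne', hns⟩ := CfsgLib.Perm.Elusive.Sim.diag_recipe_one (σ := C.bar) (a := a') hn
          (r := n) (by omega) haσ (by rw [← sq, ← ha', pow_orderOf_eq_one]) (fun h => by
            have h' := Nat.le_of_dvd (by omega) (orderOf_dvd_of_pow_eq_one h)
            rw [ha', sq] at h'
            have : 3 * n ≤ n * n := Nat.mul_le_mul_right n (by omega)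
            omega)
        exact derange d hd _ hdr hne' hns
    · obtain ⟨d, hd, hdr, hne', hns⟩ := CfsgLib.Perm.Elusive.Sim.diag_recipe_one (σ := C.bar) (a := w) hn
        (r := r) (by omega) hwσ (by rw [mul_comm, pow_mul, hwr, one_pow]) (fun h => by
          rcases (Nat.Prime.dvd_mul hr').1 (hw ▸ orderOf_dvd_of_pow_eq_one h) with h | h
          · have := Nat.le_of_dvd two_pos h
            omega
          · exact hrn h)
      exact derange d hd _ hdr hne' hns

end Cfsg.Agent.S5982
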