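import Cfsg.Statements.S5983
-- import your own Cfsg.Agent.* helpers here
import Mathlib
import Cfsg.Agent.Lib.Perm.Elusive.OrthOfSympInvol
import Cfsg.Agent.Lib.Perm.Elusive.OrthPoints
import Cfsg.Agent.Lib.Perm.Elusive.OrthSemisimple

set_option autoImplicit false
set_option linter.all false
open scoped MatrixGroups Matrix
open Cfsg

namespace Cfsg.Agent.S5983

/-- Elements of prime order of PSp_n(q), q even, and the subgroups of orthogonal type. Here `T = Sp_{2d}(F)` for a field `F` of characteristic 2 with `q` elements (`d ≥ 2`, `(d, q) ≠ (2, 2)`), realised as the invertible matrices preserving the standard alternating form; `Q` is a non-degenerate quadratic form on `F^{2d}` whose polar form is that alternating form, and `H` is the subgroup of `T` preserving `Q` up to a scalar (equivalently preserving `Q`) — a subgroup of type O^±_{2d}(q) (maximality is not assumed); `Q` is of plus type when `F^{2d}` contains a `d`-dimensional subspace on which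 `Q` vanishes, of minus type otherwise. Ω is the set of cosets of `H` in `T`, so an element of `T` of prime order `r` (`x ∈ T` with `x^r` scalar, `x` not scalar) fixes a point of Ω exactly when some `T`-conjugate of `x` preserves `Q`. Let `r` be a prime dividing the index of `H`. Then every element of `T` of order `r` fixes a point of Ω if and only if `r = 2` and either `Q` is of plus type or `d` is odd. -/
theorem result {F : Type*} [Field F] [Fintype F] {p : ℕ} [Fact p.Prime] [CharP F p] {q : ℕ} (hq : Fintype.card F = q)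
    (hp : p = 2) (d : ℕ) (hd : 2 ≤ d) (hT : (d, q) ≠ (2, 2)) (Q : (Fin d ⊕ Fin d → F) → F) (hQ : Cfsg.Geo.IsNondegenerateQuadraticForm Q)
    (hQf : ∀ u v, QuadraticMap.polar Q u v = Cfsg.sympForm d F u v)
    (r : ℕ) [Fact r.Prime]
    (hΩ : r ∣ (Cfsg.Geo.quadSimilarityGroup Q).relIndex (Cfsg.spGL d F)) :
    (∀ x ∈ Cfsg.spGL d F, (∃ z : F, ((x ^ r : GL (Fin d ⊕ Fin d) F) : Matrix (Fin d ⊕ Fin d) (Fin d ⊕ Fin d) F) = z • (1 : Matrix (Fin d ⊕ Fin d) (Fin d ⊕ Fin d) F)) →
      (∀ z : F, (x : Matrix (Fin d ⊕ Fin d) (Fin d ⊕ Fin d) F) ≠ z • (1 : Matrix (Fin d ⊕ Fin d) (Fin d ⊕ Fin d) F)) →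
      ∃ g ∈ Cfsg.spGL d F, g⁻¹ * x * g ∈ Cfsg.Geo.quadSimilarityGroup Q) ↔
    (r = 2 ∧ (Cfsg.Geo.IsPlusTypeOn Q ⊤ ∨ Odd d)) := by
  classical
  subst hq
  subst hp
  have h2 : (2 : F) = 0 := CharTwo.two_eq_zero
  obtain ⟨B, rfl⟩ := CfsgLib.Orth.FieldCls.exists_qf hQ
  have hV : Module.finrank F (Fin d ⊕ Fin d → F) = 2 * d := by
    rw [Module.finrank_fintype_fun_eq_card, Fintype.card_sum, Fintype.card_fin]; ring
  haveI : Nonempty (Fin d ⊕ Fin d) := ⟨.inl ⟨0, by omega⟩⟩
  have hneg : ∀ x : F, -x = x := fun x => by linear_combination (-x) * h2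
  have hsymp : ∀ u v, Cfsg.sympForm d F u v = CfsgLib.Classical.SympCount.sB d F u v := fun u v => rfl
  have hN : (QuadraticMap.polarBilin B).Nondegenerate := by
    have key : ∀ u, (∀ v, QuadraticMap.polar B u v = 0) → u = 0 := fun u hu =>
      CfsgLib.Classical.SympCount.sB_nondegenerate.1 u fun v => by rw [← hsymp, ← hQf, hu]
    exact ⟨key, fun v hv => key v fun u => (QuadraticMap.polar_comm _ v u).trans (hv u)⟩
  rw [CfsgLib.Perm.Elusive.plus_on_iff]
  have hpolar : ∀ (x : GL (Fin d ⊕ Fin d) F), x ∈ Cfsg.spGL d F → ∀ u v,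
      QuadraticMap.polar B ((x : Matrix (Fin d ⊕ Fin d) (Fin d ⊕ Fin d) F) *ᵥ u)
        ((x : Matrix (Fin d ⊕ Fin d) (Fin d ⊕ Fin d) F) *ᵥ v) = QuadraticMap.polar B u v := fun x hx u v => by
    rw [hQf, hQf]; exact hx u v
  have hscalar : ∀ (x : GL (Fin d ⊕ Fin d) F), x ∈ Cfsg.spGL d F → ∀ z : F,
      (x : Matrix (Fin d ⊕ Fin d) (Fin d ⊕ Fin d) F) = z • (1 : Matrix (Fin d ⊕ Fin d) (Fin d ⊕ Fin d) F) → z = 1 := by
    intro x hx z hz
    obtain ⟨u, hu⟩ := exists_ne (0 : Fin d ⊕ Fin d → F)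
    obtain ⟨v, hv⟩ := not_forall.1 fun h => hu (hN.1 u h)
    have h := hpolar x hx u v
    rw [hz, Matrix.smul_mulVec, Matrix.one_mulVec, Matrix.smul_mulVec, Matrix.one_mulVec,
      QuadraticMap.polar_smul_left, QuadraticMap.polar_smul_right, smul_eq_mul, smul_eq_mul] at h
    have h1 : (z - 1) * (z - 1) = 0 := by
      have : z * z = 1 := mul_right_cancel₀ (b := QuadraticMap.polar B u v) hv (by linear_combination h)
      linear_combination this + (1 - z) * h2
    exact sub_eq_zero.1 (mul_self_eq_zero.1 h1)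
  have hsim : ∀ (g x : GL (Fin d ⊕ Fin d) F), g ∈ Cfsg.spGL d F → x ∈ Cfsg.spGL d F →
      g⁻¹ * x * g ∈ Cfsg.Geo.quadSimilarityGroup ⇑B → ∀ v, B (((g⁻¹ * x * g : GL (Fin d ⊕ Fin d) F) :
        Matrix (Fin d ⊕ Fin d) (Fin d ⊕ Fin d) F) *ᵥ v) = B v := by
    intro g x hg hx h
    have hm : g⁻¹ * x * g ∈ Cfsg.Geo.quadSimilarityGroup ⇑B ⊓ Cfsg.spGL d F :=
      ⟨h, (Cfsg.spGL d F).mul_mem ((Cfsg.spGL d F).mul_mem ((Cfsg.spGL d F).inv_mem hg) hx) hg⟩
    rw [CfsgLib.Perm.Elusive.OrthOfSymp.sim_inf_sp hQf (by omega) h2] at hm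
    exact CfsgLib.Classical.mem_isometryGroup_iff.1 hm
  by_cases hr2 : r = 2
  · subst hr2
    constructor
    · intro hL
      refine ⟨rfl, ?_⟩
      by_contra hno
      push Not at hno
      obtain ⟨hnp, hde⟩ := hno
      have hfree : ∀ i : Fin d, Fin.rev i ≠ i := fun i h => by
        have h' := congrArg Fin.val h
        rw [Fin.val_rev] at h'
        have := i.isLt
        exact hde ⟨i.val, by omega⟩
      obtain ⟨N, hN0⟩ : ∃ N : (Fin d ⊕ Fin d → F) →ₗ[F] (Fin d ⊕ Fin d → F),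
          ∀ v, N v = Sum.elim (fun i => v (.inr i.rev)) 0 :=
        ⟨{ toFun := fun v => Sum.elim (fun i => v (.inr i.rev)) 0
           map_add' := fun a b => by ext (i | i) <;> simp
           map_smul' := fun c a => by ext (i | i) <;> simp }, fun v => rfl⟩
      have hNN : ∀ v, N (N v) = 0 := fun v => by rw [hN0, hN0]; ext (i | i) <;> simp
      have hfN : ∀ u v, Cfsg.sympForm d F (N u) v = Cfsg.sympForm d F u (N v) := fun u v => by
        rw [CfsgLib.Perm.Elusive.OrthOfSymp.sympForm_char_two h2, CfsgLib.Perm.Elusive.OrthOfSymp.sympForm_char_two h2,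
          hN0, hN0]
        simp only [Sum.elim_inl, Sum.elim_inr, Pi.zero_apply, zero_mul, mul_zero, add_zero, zero_add]
        rw [← Equiv.sum_comp Fin.revPerm]
        simp
      have hfv : ∀ v, Cfsg.sympForm d F v (N v) = 0 := fun v => by
        rw [CfsgLib.Perm.Elusive.OrthOfSymp.sympForm_char_two h2, hN0]
        simp only [Sum.elim_inl, Sum.elim_inr, Pi.zero_apply, mul_zero, zero_add]
        refine Finset.sum_involution (fun i _ => i.rev) (fun i _ => ?_) (fun i _ _ => hfree i) (fun i _ => Finset.mem_univ _)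
          (fun i _ => Fin.rev_rev i)
        rw [Fin.rev_rev]
        linear_combination (v (.inr i) * v (.inr i.rev)) * h2
      obtain ⟨X, hX⟩ : ∃ X : (Fin d ⊕ Fin d → F) →ₗ[F] (Fin d ⊕ Fin d → F), ∀ v, X v = v + N v :=
        ⟨LinearMap.id + N, fun v => rfl⟩
      have hXX : X ^ 2 = 1 := LinearMap.ext fun v => by
        rw [sq, Module.End.mul_apply, hX, hX, map_add, hNN, add_zero, Module.End.one_apply, add_assoc, ← two_smul F (N v),
          h2, zero_smul, add_zero]
      obtain ⟨x, hx2, hxv⟩ := CfsgLib.Perm.Elusive.exists_gl_of_pow two_ne_zero hXX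
      have hxs : x ∈ Cfsg.spGL d F := fun u v => by
        show Cfsg.sympForm d F ((x : Matrix (Fin d ⊕ Fin d) (Fin d ⊕ Fin d) F) *ᵥ u)
          ((x : Matrix (Fin d ⊕ Fin d) (Fin d ⊕ Fin d) F) *ᵥ v) = Cfsg.sympForm d F u v
        rw [hxv, hxv, hX, hX, ← hQf, ← hQf, QuadraticMap.polar_add_left, QuadraticMap.polar_add_right,
          QuadraticMap.polar_add_right, hQf, hQf, hQf, hQf, hfN u (N v), hNN, ← hfN u v,
          show Cfsg.sympForm d F u 0 = 0 by rw [← hQf, QuadraticMap.polar_zero_right]]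
        linear_combination (Cfsg.sympForm d F (N u) v) * h2
      obtain ⟨g, hg, hmem⟩ := hL x hxs ⟨1, by rw [hx2, Units.val_one, one_smul]⟩ (fun z hz => by
        have h1 := hxv (Pi.single (.inr ⟨0, by omega⟩) 1)
        rw [hz, hscalar x hxs z hz, one_smul, Matrix.one_mulVec, hX, left_eq_add, hN0] at h1
        have h3 := congrFun h1 (.inl (Fin.rev ⟨0, by omega⟩))
        simp at h3)
      have hinv := hsim g x hg hxs hmem
      obtain ⟨G, hG⟩ : ∃ G, G = Matrix.toLin' ((g⁻¹ : GL (Fin d ⊕ Fin d) F) : Matrix (Fin d ⊕ Fin d) (Fin d ⊕ Fin d) F) :=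
        ⟨_, rfl⟩
      have hGpol : ∀ u v, QuadraticMap.polar B (G u) (G v) = QuadraticMap.polar B u v := fun u v => by
        rw [hG, Matrix.toLin'_apply, Matrix.toLin'_apply]; exact hpolar _ (inv_mem hg) u v
      have hQN : ∀ z, B (G (N z)) = 0 := fun z => by
        have h := hinv (G z)
        rw [hG, Matrix.toLin'_apply, Matrix.mulVec_mulVec, ← Units.val_mul, mul_assoc (g⁻¹ * x), mul_inv_cancel, mul_one,
          Units.val_mul, ← Matrix.mulVec_mulVec, hxv, hX, ← Matrix.toLin'_apply, ← Matrix.toLin'_apply, ← hG, map_add,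
          QuadraticMap.map_add (⇑B), hGpol, hQf, hfv, add_zero] at h
        linear_combination h
      obtain ⟨J, hJ⟩ : ∃ J : (Fin d → F) →ₗ[F] (Fin d ⊕ Fin d → F), ∀ a, J a = G (Sum.elim a 0) :=
        ⟨G.comp ({ toFun := fun a => Sum.elim a 0
                   map_add' := fun a b => by ext (i | i) <;> simp
                   map_smul' := fun c a => by ext (i | i) <;> simp } : (Fin d → F) →ₗ[F] (Fin d ⊕ Fin d → F)), fun a => rfl⟩
      have hJinj : Function.Injective J := fun a b hab => by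
        rw [hJ, hJ] at hab
        have hGi : Function.Injective G := fun u v huv => by
          rw [hG, Matrix.toLin'_apply, Matrix.toLin'_apply] at huv
          exact Matrix.mulVec_injective_iff_isUnit.2 (Units.isUnit g⁻¹) huv
        exact funext fun i => congrFun (hGi hab) (.inl i)
      refine hnp ⟨LinearMap.range J, le_top, ?_, by rw [LinearMap.finrank_range_of_inj hJinj, finrank_top, hV,
        Module.finrank_fin_fun]⟩
      rintro _ ⟨a, rfl⟩
      have hNa : N (Sum.elim 0 fun i => a i.rev) = Sum.elim a 0 := by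
        rw [hN0]; ext (i | i) <;> simp
      rw [hJ, ← hNa]
      exact hQN _
    · rintro ⟨-, hgood⟩ x hxs ⟨z, hz⟩ -
      have hz1 := hscalar (x ^ 2) (pow_mem hxs 2) z hz
      obtain ⟨X, hX⟩ : ∃ X, X = Matrix.toLin' (x : Matrix (Fin d ⊕ Fin d) (Fin d ⊕ Fin d) F) := ⟨_, rfl⟩
      have hXX : ∀ v, X (X v) = v := fun v => by
        rw [hX, Matrix.toLin'_apply, Matrix.toLin'_apply, Matrix.mulVec_mulVec, ← Units.val_mul, ← sq, hz, hz1, one_smul,
          Matrix.one_mulVec]
      obtain ⟨Q', hp', hinv, htype⟩ := CfsgLib.Perm.Elusive.OrthOfSymp.exists_invariant_form h2 hN hV hXX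
        (fun u v => by rw [hX, Matrix.toLin'_apply, Matrix.toLin'_apply]; exact hpolar x hxs u v) hgood
      have hN' : (QuadraticMap.polarBilin Q').Nondegenerate := by
        have key : ∀ a, (∀ b, QuadraticMap.polar Q' a b = 0) → a = 0 := fun a ha =>
          hN.1 a fun b => (hp' a b).symm.trans (ha b)
        exact ⟨key, fun b hb => key b fun a => (QuadraticMap.polar_comm _ b a).trans (hb a)⟩
      obtain ⟨L, hL⟩ := CfsgLib.Perm.Elusive.exists_iso_model hN (CfsgLib.Perm.Elusive.qnd_top hN') (h := d) (by omega)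
        (by rw [finrank_top, hV]) hV htype
      obtain ⟨e, he⟩ : ∃ e : (Fin d ⊕ Fin d → F) ≃ₗ[F] (Fin d ⊕ Fin d → F), ∀ v, e v = (L v : Fin d ⊕ Fin d → F) :=
        ⟨L.trans Submodule.topEquiv, fun v => rfl⟩
      obtain ⟨g, hgv⟩ : ∃ g : GL (Fin d ⊕ Fin d) F, ∀ v, (g : Matrix (Fin d ⊕ Fin d) (Fin d ⊕ Fin d) F) *ᵥ v = e v :=
        ⟨⟨LinearMap.toMatrix' (e : (Fin d ⊕ Fin d → F) →ₗ[F] (Fin d ⊕ Fin d → F)),
          LinearMap.toMatrix' (e.symm : (Fin d ⊕ Fin d → F) →ₗ[F] (Fin d ⊕ Fin d → F)),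
          by rw [← LinearMap.toMatrix'_comp, LinearEquiv.comp_coe, LinearEquiv.symm_trans_self, LinearEquiv.refl_toLinearMap, LinearMap.toMatrix'_id],
          by rw [← LinearMap.toMatrix'_comp, LinearEquiv.comp_coe, LinearEquiv.self_trans_symm, LinearEquiv.refl_toLinearMap, LinearMap.toMatrix'_id]⟩,
          fun v => by rw [LinearMap.toMatrix'_mulVec]; rfl⟩
      have hQe : ∀ v, Q' (e v) = B v := fun v => by rw [he, hL]
      have hgs : g ∈ Cfsg.spGL d F := fun u v => by
        show Cfsg.sympForm d F ((g : Matrix (Fin d ⊕ Fin d) (Fin d ⊕ Fin d) F) *ᵥ u)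
          ((g : Matrix (Fin d ⊕ Fin d) (Fin d ⊕ Fin d) F) *ᵥ v) = Cfsg.sympForm d F u v
        rw [hgv, hgv, ← hQf, ← hp']
        simp only [QuadraticMap.polar, ← map_add, hQe]
        exact hQf u v
      refine ⟨g, hgs, 1, fun v => ?_⟩
      rw [Units.val_one, one_mul]
      obtain ⟨w, hw⟩ : ∃ w, w = ((g⁻¹ * x * g : GL (Fin d ⊕ Fin d) F) : Matrix (Fin d ⊕ Fin d) (Fin d ⊕ Fin d) F) *ᵥ v :=
        ⟨_, rfl⟩
      have h1 : e w = X (e v) := by
        rw [← hgv, ← hgv, hw, hX, Matrix.toLin'_apply, Matrix.mulVec_mulVec, Matrix.mulVec_mulVec, ← Units.val_mul,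
          ← Units.val_mul, ← mul_assoc, ← mul_assoc, mul_inv_cancel, one_mul]
      rw [← hw, ← hQe, h1, hinv, hQe]
  · refine iff_of_false (fun hL => ?_) fun h => hr2 h.1
    obtain ⟨hplus, hminus⟩ := CfsgLib.Perm.Elusive.OrthOfSymp.relIndex_eq hQf (by omega) h2 hN
    have hr : r.Prime := Fact.out
    have hrq : ¬ r ∣ Fintype.card F ^ d := fun h => by
      obtain ⟨n, -, hn⟩ := FiniteField.card F 2
      rw [hn, ← pow_mul] at h
      exact hr2 ((Nat.prime_dvd_prime_iff_eq hr Nat.prime_two).1 (hr.dvd_of_dvd_pow h))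
    have hrp : r ≠ 2 := hr2
    have hor : (CfsgLib.Perm.Elusive.QPlus B ⊤ ∧ r ∣ Fintype.card F ^ d + 1) ∨
        (¬ CfsgLib.Perm.Elusive.QPlus B ⊤ ∧ r ∣ Fintype.card F ^ d - 1) := by
      by_cases hp : CfsgLib.Perm.Elusive.QPlus B ⊤
      · exact Or.inl ⟨hp, (hr.dvd_mul.1 (hplus hp ▸ hΩ.mul_left 2)).resolve_left hrq⟩
      · exact Or.inr ⟨hp, (hr.dvd_mul.1 (hminus hp ▸ hΩ.mul_left 2)).resolve_left hrq⟩
    obtain ⟨x, hxs, hxr, hfix⟩ := CfsgLib.Perm.Elusive.OrthOfSymp.exists_fpf_other (by omega) h2 _ hor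
    obtain ⟨g, hg, hmem⟩ := hL x hxs ⟨1, by rw [hxr, Units.val_one, one_smul]⟩ (fun z hz => by
      obtain ⟨u, hu⟩ := exists_ne (0 : Fin d ⊕ Fin d → F)
      exact hu (hfix u (by rw [hz, hscalar x hxs z hz, one_smul, Matrix.one_mulVec])))
    have hinv := hsim g x hg hxs hmem
    obtain ⟨T, hT⟩ : ∃ T, T = Matrix.toLin' ((g⁻¹ * x * g : GL (Fin d ⊕ Fin d) F) :
      Matrix (Fin d ⊕ Fin d) (Fin d ⊕ Fin d) F) := ⟨_, rfl⟩
    have hTr : T ^ r = 1 := by
      rw [hT, ← Matrix.toLin'_pow, ← Units.val_pow_eq_pow_val,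
        show (g⁻¹ * x * g) ^ r = g⁻¹ * x ^ r * g by simpa using conj_pow (a := g⁻¹) (b := x) (i := r), hxr, mul_one, inv_mul_cancel,
        Units.val_one, Matrix.toLin'_one]
      rfl
    obtain ⟨h1, h3⟩ := CfsgLib.Perm.Elusive.fpf_type_dvd (p := 2) hrp hr2 (Q := B) (T := T)
      (fun v => by rw [hT, Matrix.toLin'_apply]; exact hinv v) hTr (S := ⊤) (fun _ _ => Submodule.mem_top)
      (CfsgLib.Perm.Elusive.qnd_top hN) (fun u _ hu => by
        rw [hT, Matrix.toLin'_apply, Units.val_mul, Units.val_mul, ← Matrix.mulVec_mulVec, ← Matrix.mulVec_mulVec] at hu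
        have h' := congrArg (fun w => (g : Matrix (Fin d ⊕ Fin d) (Fin d ⊕ Fin d) F) *ᵥ w) hu
        simp only [Matrix.mulVec_mulVec, ← Units.val_mul, mul_inv_cancel_left] at h'
        rw [Units.val_mul, ← Matrix.mulVec_mulVec] at h'
        exact Matrix.mulVec_injective_iff_isUnit.2 (Units.isUnit g) ((hfix _ h').trans (Matrix.mulVec_zero _).symm))
      (h := d) (by rw [finrank_top, hV]) (by omega)
    have hne := CfsgLib.Perm.Elusive.one_ne_neg_one_zmod (r := r) hr2
    rcases hor with ⟨hp, hd'⟩ | ⟨hp, hd'⟩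
    · have h := (ZMod.natCast_eq_zero_iff _ r).2 hd'
      rw [Nat.cast_add, Nat.cast_pow, h1 hp, Nat.cast_one] at h
      exact hne (eq_neg_of_add_eq_zero_left h)
    · have h := (ZMod.natCast_eq_zero_iff _ r).2 hd'
      rw [Nat.cast_sub (Nat.one_le_pow _ _ Fintype.card_pos), Nat.cast_pow, h3 hp, Nat.cast_one, sub_eq_zero] at h
      exact hne h.symm

end Cfsg.Agent.S5983
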