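import Cfsg.Statements.S5984
-- import your own Cfsg.Agent.* helpers here
import Mathlib
import Cfsg.Agent.Lib.Perm.Elusive.HermPairsInvol

set_option autoImplicit false
set_option linter.all false
open scoped MatrixGroups
open Cfsg

namespace Cfsg.Agent.S5984

/-- Elements of prime order of PSU_n(q) and the stabilizers of pairs of complementary totally singular subspaces. Here `T = PSU_n(q)` is realised through `SU_n(q)`, the matrices of determinant 1 over the field `F` with `q²` elements preserving the hermitian form `Σ uᵢ vᵢ^q`, with `n ≥ 4` even; `D` is a pair of complementary subspaces of dimension `n/2` on each of which the form vanishes identically, and `H` is the subgroup of `SU_n(q)` fixing or interchanging the two members — a subgroup of type GL_{n/2}(q²).2 (maximality is not assumed). Ω is the set of cosets of `H`, so an element of `T` of prime order `r` (`x ∈ SU_n(q)` with `x^r` scalar, `x` not scalar) fixes a point of Ω exactly when some `SU_n(q)`-conjugate of `x` lies in `H`. Let `r` be a prime dividing the index of `H`. Then every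 element of `T` of order `r` fixes a point of Ω if and only if `r = 2`, `q` is odd and `(q + 1)_2 ≤ (n)_2` (2-parts). -/
theorem result {F : Type*} [Field F] [Fintype F] {p : ℕ} [Fact p.Prime] [CharP F p] {q : ℕ} (hq : Fintype.card F = q ^ 2)
    (n : ℕ) (hn : 4 ≤ n) (he : Even n) (D : Fin 2 → Submodule F (Fin n → F)) (hD : Cfsg.Geo.IsMDecomposition (n / 2) D)
    (hDs : ∀ i, Cfsg.Geo.IsTotallySingularFor (Cfsg.hermForm n F q) (D i))
    (r : ℕ) [Fact r.Prime]
    (hΩ : r ∣ (Cfsg.Geo.decompositionStabilizer D).relIndex (Cfsg.GU n F q ⊓ Cfsg.Geo.specialLinear (Fin n) F)) :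
    (∀ x ∈ Cfsg.GU n F q ⊓ Cfsg.Geo.specialLinear (Fin n) F, (∃ z : F, ((x ^ r : GL (Fin n) F) : Matrix (Fin n) (Fin n) F) = z • (1 : Matrix (Fin n) (Fin n) F)) →
      (∀ z : F, (x : Matrix (Fin n) (Fin n) F) ≠ z • (1 : Matrix (Fin n) (Fin n) F)) →
      ∃ g ∈ Cfsg.GU n F q ⊓ Cfsg.Geo.specialLinear (Fin n) F, g⁻¹ * x * g ∈ Cfsg.Geo.decompositionStabilizer D) ↔
    (r = 2 ∧ Odd q ∧ padicValNat 2 (q + 1) ≤ padicValNat 2 n) := by
  classical
  obtain ⟨C⟩ := CfsgLib.Classical.uctx_exists hq
  obtain ⟨a, ha⟩ : ∃ a, q = p ^ a := by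
    obtain ⟨k, hp, hk⟩ := FiniteField.card F p
    obtain ⟨j, -, hj⟩ := (Nat.dvd_prime_pow hp).1 (hk ▸ hq ▸ dvd_pow_self q two_ne_zero)
    exact ⟨j, hj⟩
  have hq2 := CfsgLib.Classical.two_le_q hq
  have hr : r.Prime := Fact.out
  have hpp : p.Prime := Fact.out
  have hD' := CfsgLib.Perm.Elusive.HermPair.isPair_of_decomp C he hD hDs
  have hm := hD'.pos
  have hdim := hD'.dim
  have key : ∀ (x : GL (Fin n) F) (ζ z : F), x ∈ Cfsg.GU n F q ⊓ Cfsg.Geo.specialLinear (Fin n) F →
      ζ * C.bar ζ = 1 → ((x ^ r : GL (Fin n) F) : Matrix (Fin n) (Fin n) F) = z • (1 : Matrix (Fin n) (Fin n) F) →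
      Odd (Module.finrank F (CfsgLib.Perm.Elusive.HermPair.eigK x ζ)) →
      (n / 2 < Module.finrank F (CfsgLib.Perm.Elusive.HermPair.eigK x ζ) ∨ Odd r) →
      ¬ (∀ x ∈ Cfsg.GU n F q ⊓ Cfsg.Geo.specialLinear (Fin n) F, (∃ z : F, ((x ^ r : GL (Fin n) F) : Matrix (Fin n) (Fin n) F) = z • (1 : Matrix (Fin n) (Fin n) F)) →
        (∀ z : F, (x : Matrix (Fin n) (Fin n) F) ≠ z • (1 : Matrix (Fin n) (Fin n) F)) →
        ∃ g ∈ Cfsg.GU n F q ⊓ Cfsg.Geo.specialLinear (Fin n) F, g⁻¹ * x * g ∈ Cfsg.Geo.decompositionStabilizer D) := by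
    intro x ζ z hx hζ hz hodd hsw hall
    obtain ⟨E, hE, hxE⟩ := (CfsgLib.Perm.Elusive.HermPair.exists_conj_iff hD' x).1 (hall x hx ⟨z, hz⟩ fun c hc => by
      rcases CfsgLib.Perm.Elusive.HermPair.eigK_scalar (ζ := ζ) hc with h | h <;> rw [h] at hodd
      · exact Nat.not_even_iff_odd.2 hodd he
      · exact Nat.not_even_iff_odd.2 hodd (by decide))
    exact CfsgLib.Perm.Elusive.HermPair.not_fixes_pair hx.1 hζ hodd
      (hsw.imp id fun h => ⟨r, z, h, hz⟩) hE hxE
  have h1 : (1 : F) * C.bar 1 = 1 := by rw [map_one, mul_one]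
  constructor
  · intro hall
    rcases eq_or_ne r p with rfl | hrp
    · exfalso
      obtain ⟨x, hx, hxp, hk⟩ := CfsgLib.Perm.Elusive.HermPair.exists_transvection_elem (p := r) C (n := n) (by omega)
      refine key x 1 1 hx h1 hxp ?_ (.inl (by omega)) hall
      rcases Nat.even_or_odd (Module.finrank F (CfsgLib.Perm.Elusive.HermPair.eigK x (1 : F))) with ⟨c, hc⟩ | h
      · obtain ⟨d, hd⟩ := he
        omega
      · exact h
    · have hrF : (r : F) ≠ 0 := fun h => hrp
        ((Nat.prime_dvd_prime_iff_eq hpp hr).1 ((CharP.cast_eq_zero_iff F p r).1 h)).symm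
      rcases hr.eq_two_or_odd' with rfl | hrodd
      · have hodd : Odd q := by
          rw [ha]
          exact (hpp.odd_of_ne_two fun h => hrp h.symm).pow
        have h2 : (2 : F) ≠ 0 := by simpa using hrF
        refine ⟨rfl, hodd, ?_⟩
        by_contra hlt
        obtain ⟨s, hs, hsn⟩ := (CfsgLib.Perm.Elusive.HermPair.exists_norm_one_pow_iff (C := C) hodd hq h2
          (by omega : n ≠ 0)).2 (not_le.1 hlt)
        obtain ⟨d, hd⟩ : ∃ d : Fin n → F, d = Function.update (fun _ => -s) ⟨0, by omega⟩ s := ⟨_, rfl⟩
        obtain ⟨n', hn'⟩ : ∃ n', n = n' + 1 := ⟨n - 1, by omega⟩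
        obtain ⟨x, hx, hxd⟩ := CfsgLib.Perm.Elusive.HermPair.exists_diag (C := C) (d := d) (fun i => by
            rw [hd, Function.update_apply]
            split_ifs
            · exact hs
            · rw [map_neg, neg_mul_neg, hs])
          (by
            rw [hd, Finset.prod_update_of_mem (Finset.mem_univ _), Finset.prod_const, Finset.card_sdiff]
            simp only [Finset.inter_univ, Finset.card_univ, Finset.card_singleton, Fintype.card_fin]
            rw [hn', Nat.add_sub_cancel, neg_pow, Odd.neg_one_pow]
            · rw [hn', pow_succ] at hsn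
              linear_combination (-1 : F) * hsn
            · obtain ⟨c, hc⟩ := he
              exact ⟨c - 1, by omega⟩)
        have hne : s ≠ -s := fun h => by
          have h' : (2 : F) * s = 0 := by linear_combination h
          rcases mul_eq_zero.1 h' with h | h
          · exact h2 h
          · rw [h, zero_mul] at hs
            exact zero_ne_one hs
        have hk : Module.finrank F (CfsgLib.Perm.Elusive.HermPair.eigK x (-s)) = n' := by
          rw [CfsgLib.Perm.Elusive.HermPair.finrank_eigK_diag hxd, show (Finset.univ.filter fun i => d i = -s) =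
            Finset.univ \ {(⟨0, by omega⟩ : Fin n)} by
              ext i
              simp only [hd, Function.update_apply, Finset.mem_filter, Finset.mem_univ, true_and, Finset.mem_sdiff,
                Finset.mem_singleton]
              split_ifs with h <;> simp [h, hne], Finset.card_sdiff]
          simp only [Finset.inter_univ, Finset.card_univ, Finset.card_singleton, Fintype.card_fin]
          omega
        refine key x (-s) (s * s) hx (by rw [map_neg, neg_mul_neg, hs]) ?_ ?_ (.inl (by omega)) hall
        · rw [Units.val_pow_eq_pow_val, hxd, Matrix.diagonal_pow, Matrix.smul_one_eq_diagonal]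
          refine congrArg _ (funext fun i => ?_)
          rw [Pi.pow_apply, hd, Function.update_apply]
          split_ifs <;> ring
        · rw [hk]
          obtain ⟨c, hc⟩ := he
          exact ⟨c - 1, by omega⟩
      · exfalso
        obtain ⟨j, hj, hjn, hrj⟩ := CfsgLib.Perm.Elusive.HermPair.exists_odd_dvd C hq hD'
          (fun h => hrp ((Nat.prime_dvd_prime_iff_eq hr hpp).1 (hr.dvd_of_dvd_pow (ha ▸ h)))) hΩ
        by_cases hq1 : r ∣ q + 1
        · obtain ⟨z, hz⟩ := CfsgLib.Classical.HermTori.exists_of_order F (k := r)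
            (hq1.trans ⟨q - 1, by rw [hq, ← Nat.sq_sub_sq, one_pow]⟩)
          have hzr : z ^ r = 1 := hz ▸ pow_orderOf_eq_one z
          have hz1 : z ≠ 1 := fun h => hr.ne_one (by rw [← hz, h, orderOf_one])
          have hz0 : z ≠ 0 := fun h => by rw [h, zero_pow hr.ne_zero] at hzr; exact zero_ne_one hzr
          have hzn : z * C.bar z = 1 := by
            rw [C.bar_eq, ← pow_succ']
            exact orderOf_dvd_iff_pow_eq_one.1 (hz ▸ hq1)
          have hzz : z⁻¹ ≠ z := fun h => by
            have h' : z ^ 2 = 1 := by rw [pow_two]; nth_rewrite 1 [← h]; exact inv_mul_cancel₀ hz0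
            have h4 := hz ▸ orderOf_dvd_of_pow_eq_one h'
            rw [(Nat.prime_dvd_prime_iff_eq hr Nat.prime_two).1 h4] at hrodd
            exact absurd hrodd (by decide)
          obtain ⟨d, hd⟩ : ∃ d : Fin n → F,
              d = Function.update (Function.update (fun _ => (1 : F)) ⟨1, by omega⟩ z⁻¹) ⟨0, by omega⟩ z := ⟨_, rfl⟩
          obtain ⟨x, hx, hxd⟩ := CfsgLib.Perm.Elusive.HermPair.exists_diag (C := C) (d := d) (fun i => by
              rw [hd, Function.update_apply, Function.update_apply]
              split_ifs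
              · exact hzn
              · rw [map_inv₀, ← mul_inv, hzn, inv_one]
              · simp)
            (by
              rw [hd, Finset.prod_update_of_mem (Finset.mem_univ _), Finset.prod_update_of_mem (by simp [Fin.ext_iff])]
              simp [mul_inv_cancel₀ hz0])
          refine key x z 1 hx hzn ?_ ?_ (.inr hrodd) hall
          · rw [Units.val_pow_eq_pow_val, hxd, Matrix.diagonal_pow, one_smul, ← Matrix.diagonal_one]
            refine congrArg _ (funext fun i => ?_)
            rw [Pi.pow_apply, hd, Function.update_apply, Function.update_apply]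
            split_ifs <;> simp [hzr]
          · rw [CfsgLib.Perm.Elusive.HermPair.finrank_eigK_diag hxd, show (Finset.univ.filter fun i => d i = z) =
              {(⟨0, by omega⟩ : Fin n)} by
                ext i
                simp only [hd, Function.update_apply, Finset.mem_filter, Finset.mem_univ, true_and,
                  Finset.mem_singleton]
                split_ifs with h0 h1' <;> simp [h0, hzz, Ne.symm hz1], Finset.card_singleton]
            exact odd_one
        · obtain ⟨b, hb⟩ : ∃ b, b = orderOf ((q : ZMod r) ^ 2) := ⟨_, rfl⟩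
          have hj' : (q : ZMod r) ^ j = -1 := by
            rw [eq_neg_iff_add_eq_zero]
            have := (ZMod.natCast_eq_zero_iff _ _).2 hrj
            push_cast at this
            exact this
          have hbj : b ∣ j := hb ▸ orderOf_dvd_of_pow_eq_one (by rw [← pow_mul, mul_comm, pow_mul, hj', neg_one_sq])
          have hbodd : Odd b := hj.of_dvd_nat hbj
          haveI : Fact (2 < r) := ⟨by
            have := hr.two_le
            rcases hrodd with ⟨c, hc⟩
            omega⟩
          have hqb : (q : ZMod r) ^ b = -1 := by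
            have h := hb ▸ pow_orderOf_eq_one ((q : ZMod r) ^ 2)
            rw [← pow_mul, mul_comm, pow_mul, pow_two] at h
            rcases mul_self_eq_one_iff.1 h with h | h
            · exfalso
              obtain ⟨c, rfl⟩ := hbj
              rw [pow_mul, h, one_pow] at hj'
              exact ZMod.neg_one_ne_one hj'.symm
            · exact h
          have hbn : b ≤ n := by
            have := Nat.le_of_dvd hj.pos hbj
            omega
          obtain ⟨x, hx, hxr, hk⟩ := CfsgLib.Perm.Elusive.HermPair.exists_torus_elem (p := p) C ha hq hrF hbodd hbn he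
            (by
              refine (ZMod.natCast_eq_zero_iff _ _).1 ?_
              push_cast
              rw [hqb, neg_add_cancel])
            hq1 (fun i hi hib h => by
              rw [← ZMod.natCast_eq_natCast_iff] at h
              push_cast at h
              exact absurd (hb ▸ orderOf_dvd_of_pow_eq_one h) (Nat.not_dvd_of_pos_of_lt hi hib))
          exact key x 1 1 hx h1 hxr hk (.inr hrodd) hall
  · rintro ⟨rfl, hodd, hv⟩ x hx ⟨z, hz⟩ _
    have h2 : (2 : F) ≠ 0 := by
      intro h
      have h' : ((2 : ℕ) : F) = 0 := by simpa using h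
      obtain rfl := (Nat.prime_dvd_prime_iff_eq hpp Nat.prime_two).1 ((CharP.cast_eq_zero_iff F p 2).1 h')
      rcases Nat.eq_zero_or_pos a with rfl | ha0
      · rw [pow_zero] at ha; omega
      · exact Nat.not_even_iff_odd.2 hodd (ha ▸ (Nat.even_pow.2 ⟨even_two, by omega⟩))
    refine (CfsgLib.Perm.Elusive.HermPair.exists_conj_iff hD' x).2
      (CfsgLib.Perm.Elusive.HermPair.invol_fixes_pair hodd hq h2 hm hdim (fun s hs hsn => ?_) hx.1
        (congrArg Units.val hx.2) hz)
    have := (CfsgLib.Perm.Elusive.HermPair.exists_norm_one_pow_iff (C := C) hodd hq h2 (by omega : n ≠ 0)).1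
      ⟨s, hs, hsn⟩
    omega

end Cfsg.Agent.S5984
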