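import Cfsg.Statements.S5985
-- import your own Cfsg.Agent.* helpers here
import Mathlib
import Cfsg.Agent.Lib.Perm.Elusive.OrthPoints
import Cfsg.Agent.Lib.Perm.Trans.QuadSingFam

set_option autoImplicit false
set_option linter.all false
open scoped MatrixGroups
open Cfsg

namespace Cfsg.Agent.S5985

/-- Elements of prime order of Ω⁺_n(q), q even, with no fixed nonsingular 1-space. Here `T = PΩ⁺_n(F)`, `n = 2d ≥ 8`, realised through `Ω⁺_n(q)`, the commutator subgroup of the isometry group of `Q = Σ xᵢyᵢ` over the field `F` with `q` elements; an element of `T` of prime order `r` is an element `x` of `Ω⁺_n(q)` with `x^r` scalar and `x` not scalar; `q` is even (so the centre is trivial). Let Ω be the set of 1-dimensional subspaces spanned by a vector `v` with `Q(v) ≠ 0`, and let `r` be a prime dividing their number. Then every element of `T` of order `r` fixes some nonsingular 1-space if and only if `r = 2` and `n ≡ 2 (mod 4)` (that is, `d` is odd). -/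
theorem result {F : Type*} [Field F] [Fintype F] {p : ℕ} [Fact p.Prime] [CharP F p] {q : ℕ} (hq : Fintype.card F = q)
    (hp : p = 2) (d : ℕ) (hd : 4 ≤ d) (r : ℕ) [Fact r.Prime]
    (hrΩ : r ∣ Nat.card {W : Submodule F (Fin d ⊕ Fin d → F) // Module.finrank F ↥W = 1 ∧ ∃ v ∈ W, Cfsg.quadFormPlus d F v ≠ 0}) :
    (∀ x : GL (Fin d ⊕ Fin d) F, x ∈ Cfsg.Geo.omegaGL (Cfsg.quadFormPlus d F) →
      (∃ z : F, ((x ^ r : GL (Fin d ⊕ Fin d) F) : Matrix (Fin d ⊕ Fin d) (Fin d ⊕ Fin d) F) = z • (1 : Matrix (Fin d ⊕ Fin d) (Fin d ⊕ Fin d) F)) →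
      (∀ z : F, (x : Matrix (Fin d ⊕ Fin d) (Fin d ⊕ Fin d) F) ≠ z • (1 : Matrix (Fin d ⊕ Fin d) (Fin d ⊕ Fin d) F)) →
      ∃ W : Submodule F (Fin d ⊕ Fin d → F), (Module.finrank F ↥W = 1 ∧ ∃ v ∈ W, Cfsg.quadFormPlus d F v ≠ 0) ∧ W.map (Matrix.toLin' (x : Matrix (Fin d ⊕ Fin d) (Fin d ⊕ Fin d) F)) ≤ W) ↔ (r = 2 ∧ Odd d) := by
  classical
  subst hq hp
  have hr : r.Prime := Fact.out
  have h2 : (2 : F) = 0 := by
    have := CharP.cast_eq_zero F 2
    simpa using this
  have hQ : Cfsg.Geo.IsNondegenerateQuadraticForm (Cfsg.quadFormPlus d F) := CfsgLib.Perm.Trans.Quad.quadFormPlus_nd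
  have hn : 5 ≤ Fintype.card (Fin d ⊕ Fin d) := by simp; omega
  have hQ0 : (Cfsg.quadFormPlus d F) 0 = 0 := by
    have := hQ.smul 0 0
    simpa using this
  obtain ⟨v₀, hv₀⟩ : ∃ v, (Cfsg.quadFormPlus d F) v ≠ 0 := by
    by_contra hcon
    push Not at hcon
    obtain ⟨v, hv⟩ : ∃ v : Fin d ⊕ Fin d → F, v ≠ 0 := ⟨fun _ => 1, fun h => one_ne_zero (congrFun h (Sum.inl ⟨0, by omega⟩))⟩
    obtain ⟨w, hw⟩ := (hQ.nondegenerate v hv).2
    exact hw (by simp [QuadraticMap.polar, hcon])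
  have hiso : ∀ g ∈ Cfsg.Geo.omegaGL (Cfsg.quadFormPlus d F), g ∈ Cfsg.isometryGroup F (Cfsg.quadFormPlus d F) := fun g hg => by
    obtain ⟨x, -, rfl⟩ := hg
    exact x.2
  rcases eq_or_ne r 2 with hr2 | hr2
  · subst hr2
    constructor
    · intro hL
      refine ⟨rfl, ?_⟩
      by_contra hd'
      obtain ⟨g, hgΩ, hg2, hgne, hgfix⟩ := CfsgLib.Perm.Elusive.exists_singular_invol h2 (Nat.not_odd_iff_even.1 hd') (by omega)
      obtain ⟨W, ⟨hW1, v, hv, hQv⟩, hWm⟩ := hL g hgΩ ⟨1, by rw [hg2, one_smul]; rfl⟩ hgne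
      have hv0 : v ≠ 0 := fun h => hQv (by rw [h, hQ0])
      have hspan : Submodule.span F {v} = W := Submodule.eq_of_le_of_finrank_eq
        ((Submodule.span_singleton_le_iff_mem _ _).2 hv) (by rw [finrank_span_singleton hv0, hW1])
      have hmem := hWm ⟨v, hv, rfl⟩
      rw [← hspan, Submodule.mem_span_singleton] at hmem
      obtain ⟨l, hl⟩ := hmem
      rw [Matrix.toLin'_apply] at hl
      have h1 := CfsgLib.Classical.mem_isometryGroup_iff.1 (hiso g hgΩ) v
      rw [← hl, hQ.smul] at h1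
      have hl1 : l = 1 := by
        rcases mul_self_eq_one_iff.1 (mul_right_cancel₀ hQv (show l * l * _ = 1 * _ by rw [one_mul, ← sq]; exact h1)) with h | h
        · exact h
        · linear_combination h - h2
      rw [hl1, one_smul] at hl
      exact hQv (hgfix v hl.symm)
    · rintro ⟨-, hd'⟩ x hx ⟨z, hz⟩ hxne
      have hx2 := CfsgLib.Perm.Elusive.pow_eq_one_of_scalar h2 hQ hv₀ (hiso x hx) hz
      rw [sq] at hx2
      rcases CfsgLib.Perm.Elusive.fixed_point_or_singular (Q := (Cfsg.quadFormPlus d F)) hx2 h2 with h | h | ⟨K, hK, hKmem, hKd⟩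
      · exact h
      · exact absurd hQ0 h
      · exfalso
        have hle := CfsgLib.Perm.Trans.Quad.ts_finrank_le hQ (W := K) hK
        simp only [Fintype.card_sum, Fintype.card_fin] at hle hKd
        exact Nat.not_even_iff_odd.2 hd' (CfsgLib.Perm.Elusive.even_of_singular_fixed h2 hQ (hiso x hx) hx2 hK hKmem
          (k := d) (by simp; omega) (by omega))
  · have hodd : Odd r := hr.odd_of_ne_two hr2
    refine iff_of_false (fun hL => ?_) (fun h => hr2 h.1)
    have hrq : ¬ r ∣ Fintype.card F := fun h => by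
      obtain ⟨e, -, he⟩ := FiniteField.card F 2
      rw [he] at h
      exact hr2 ((Nat.prime_dvd_prime_iff_eq hr Nat.prime_two).1 (hr.dvd_of_dvd_pow h))
    obtain ⟨k, rfl⟩ : ∃ k, d = k + 1 := ⟨d - 1, by omega⟩
    have hmul := CfsgLib.Perm.Elusive.card_points_mul (Cfsg.quadFormPlus (k + 1) F) hQ.smul
    have hsplit := Nat.card_congr (Equiv.sumCompl fun v => (Cfsg.quadFormPlus (k + 1) F) v = 0)
    rw [Nat.card_sum, Nat.card_fun] at hsplit
    obtain ⟨N, hN⟩ : ∃ N, N = Nat.card {W : Submodule F (Fin (k + 1) ⊕ Fin (k + 1) → F) // Module.finrank F ↥W = 1 ∧ ∃ v ∈ W, (Cfsg.quadFormPlus (k + 1) F) v ≠ 0} := ⟨_, rfl⟩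
    rw [← hN] at hmul hrΩ
    have hsplit' : (Nat.card {v // (Cfsg.quadFormPlus (k + 1) F) v = 0} : ℤ) + Nat.card {v // (Cfsg.quadFormPlus (k + 1) F) v ≠ 0} =
        (Fintype.card F : ℤ) ^ (2 * k + 2) := by
      have hc : Nat.card (Fin (k + 1) ⊕ Fin (k + 1)) = 2 * k + 2 := by rw [Nat.card_eq_fintype_card]; simp; omega
      rw [Nat.card_eq_fintype_card (α := F), hc] at hsplit
      exact_mod_cast hsplit
    have hcard := CfsgLib.Classical.card_sing_plus (F := F) k
    have hq1 := Nat.sub_add_cancel (show 1 ≤ Fintype.card F from Fintype.card_pos)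
    have hQ1 := Nat.sub_add_cancel (show 1 ≤ Fintype.card F ^ (k + 1) from Nat.one_le_pow _ _ Fintype.card_pos)
    have hNval : N = Fintype.card F ^ k * (Fintype.card F ^ (k + 1) - 1) := by
      refine Nat.eq_of_mul_eq_mul_right (show 0 < Fintype.card F - 1 by have := Fintype.one_lt_card (α := F); omega) ?_
      rw [hmul]
      zify at hq1 hQ1 ⊢
      rw [show ((Fintype.card F - 1 : ℕ) : ℤ) = (Fintype.card F : ℤ) - 1 by omega,
        show ((Fintype.card F ^ (k + 1) - 1 : ℕ) : ℤ) = (Fintype.card F : ℤ) ^ (k + 1) - 1 by linarith]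
      linear_combination hsplit' - hcard
    have hrd : r ∣ Fintype.card F ^ (k + 1) - 1 := by
      rw [hNval] at hrΩ
      exact (hr.dvd_mul.1 hrΩ).resolve_left fun h => hrq (hr.dvd_of_dvd_pow h)
    obtain ⟨g, hg, hgr, hfix⟩ := CfsgLib.Perm.Elusive.exists_plus_fpf (F := F) (d := k + 1) (by omega) hrd
    have hgΩ := CfsgLib.Perm.Elusive.mem_omega_of_odd hQ hn hg hodd hgr
    obtain ⟨W, ⟨hW1, v, hv, hQv⟩, hWm⟩ := hL g hgΩ ⟨1, by rw [hgr, one_smul]; rfl⟩ (fun z hz => hv₀ (by
      have h1 := CfsgLib.Classical.mem_isometryGroup_iff.1 hg v₀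
      rw [hz, Matrix.smul_mulVec, Matrix.one_mulVec, hQ.smul] at h1
      have h3 : z * z = 1 := mul_right_cancel₀ hv₀ (by rw [one_mul, ← sq]; exact h1)
      have hz1 : z = 1 := by
        rcases mul_self_eq_one_iff.1 h3 with h | h
        · exact h
        · linear_combination h - h2
      rw [hfix v₀ (by rw [hz, hz1, one_smul, Matrix.one_mulVec]), hQ0]))
    have hv0 : v ≠ 0 := fun h => hQv (by rw [h, hQ0])
    have hspan : Submodule.span F {v} = W := Submodule.eq_of_le_of_finrank_eq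
      ((Submodule.span_singleton_le_iff_mem _ _).2 hv) (by rw [finrank_span_singleton hv0, hW1])
    have hmem := hWm ⟨v, hv, rfl⟩
    rw [← hspan, Submodule.mem_span_singleton] at hmem
    obtain ⟨l, hl⟩ := hmem
    rw [Matrix.toLin'_apply] at hl
    have h1 := CfsgLib.Classical.mem_isometryGroup_iff.1 hg v
    rw [← hl, hQ.smul] at h1
    have hl1 : l = 1 := by
      rcases mul_self_eq_one_iff.1 (mul_right_cancel₀ hQv (show l * l * _ = 1 * _ by rw [one_mul, ← sq]; exact h1)) with h | h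
      · exact h
      · linear_combination h - h2
    rw [hl1, one_smul] at hl
    exact hv0 (hfix v hl.symm)

end Cfsg.Agent.S5985
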