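import Cfsg.Statements.S5988
-- import your own Cfsg.Agent.* helpers here
import Mathlib
import Cfsg.Agent.Lib.Perm.Elusive.OrthStd

set_option autoImplicit false
set_option linter.all false
open scoped MatrixGroups
open Cfsg

namespace Cfsg.Agent.S5988

/-- Elements of prime order of PΩ⁺_n(q) with no fixed elliptic `m`-space. Here `T = PΩ⁺_n(F)`, `n = 2d ≥ 8`, realised through `Ω⁺_n(q)`, the commutator subgroup of the isometry group of `Q = Σ xᵢyᵢ` over the field `F` with `q` elements; an element of `T` of prime order `r` is an element `x` of `Ω⁺_n(q)` with `x^r` scalar and `x` not scalar; a nondegenerate `m`-space (even `m`) is a subspace on which the polar form of `Q` is nondegenerate; it is hyperbolic if it contains an `m/2`-dimensional subspace on which `Q` vanishes, elliptic otherwise. Let `m` be even with `2 ≤ m < n/2` and let `r` be a prime dividing the number of elliptic `m`-spaces; for `r ≠ p` let `i` be the multiplicative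 order of `q` modulo `r`, `c = i` for `i` even and `c = 2i` for `i` odd, and write `k = n mod c`, `ℓ = m mod i`, `ℓ' = m mod c`, `n' = ⌊n/i⌋`, `m' = ⌊m/i⌋`, `t = (r−1)/i`. Then every element of `T` of order `r` fixes some elliptic `m`-space if and only if one of: (i) `r = 2 ≠ p` and either `n ≡ 0 (mod 4)`, `q ≡ 3 (mod 4)` and `m ≡ 2 (mod 4)`, or `n ≡ 2 (mod 4)` and `q ≢ 1 (mod 8)`; (ii) `r ≠ p` odd, `i` odd, `c ≤ m` and `k > ℓ' > 0`; (iii) `r ≠ p` odd, `i` even, and either `k = 0` and (`n/i` odd, or `ℓ' = 0` and `m/i` odd), or `i ≤ m` and (`k > ℓ' > 0`, or `k = ℓ' > 0` and `(n + m − 2k)/i` odd, or `k > ℓ' = 0` and `m/i` odd). (For `r = p` there is always an element of order `p` fixing no elliptic `m`-space.) -/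
theorem result {F : Type*} [Field F] [Fintype F] {p : ℕ} [Fact p.Prime] [CharP F p] {q : ℕ} (hq : Fintype.card F = q)
    (d m : ℕ) (hd : 4 ≤ d) (hm : 2 ≤ m) (hme : Even m) (hmd : m < d)
    (r : ℕ) [Fact r.Prime]
    (hrΩ : r ∣ Nat.card {W : Submodule F (Fin d ⊕ Fin d → F) // Module.finrank F ↥W = m ∧ Cfsg.Geo.IsNondegenerateOn (QuadraticMap.polar (Cfsg.quadFormPlus d F)) W ∧ ¬ Cfsg.Geo.IsPlusTypeOn (Cfsg.quadFormPlus d F) W})
    (i c : ℕ) (hi : i = orderOf (q : ZMod r)) (hc : c = if Even i then i else 2 * i) :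
    (∀ x : GL (Fin d ⊕ Fin d) F, x ∈ Cfsg.Geo.omegaGL (Cfsg.quadFormPlus d F) →
      (∃ z : F, ((x ^ r : GL (Fin d ⊕ Fin d) F) : Matrix (Fin d ⊕ Fin d) (Fin d ⊕ Fin d) F) = z • (1 : Matrix (Fin d ⊕ Fin d) (Fin d ⊕ Fin d) F)) →
      (∀ z : F, (x : Matrix (Fin d ⊕ Fin d) (Fin d ⊕ Fin d) F) ≠ z • (1 : Matrix (Fin d ⊕ Fin d) (Fin d ⊕ Fin d) F)) →
      ∃ W : Submodule F (Fin d ⊕ Fin d → F), (Module.finrank F ↥W = m ∧ Cfsg.Geo.IsNondegenerateOn (QuadraticMap.polar (Cfsg.quadFormPlus d F)) W ∧ ¬ Cfsg.Geo.IsPlusTypeOn (Cfsg.quadFormPlus d F) W) ∧ W.map (Matrix.toLin' (x : Matrix (Fin d ⊕ Fin d) (Fin d ⊕ Fin d) F)) ≤ W) ↔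
    ((r = 2 ∧ p ≠ 2 ∧ ((Even d ∧ q % 4 = 3 ∧ m % 4 = 2) ∨ (Odd d ∧ q % 8 ≠ 1))) ∨
     (r ≠ p ∧ 2 < r ∧ Odd i ∧ c ≤ m ∧ 0 < m % c ∧ m % c < (2 * d) % c) ∨
     (r ≠ p ∧ 2 < r ∧ Even i ∧
       (((2 * d) % c = 0 ∧ (Odd ((2 * d) / i) ∨ (m % c = 0 ∧ Odd (m / i)))) ∨
        (i ≤ m ∧ ((0 < m % c ∧ m % c < (2 * d) % c) ∨
                  (0 < m % c ∧ m % c = (2 * d) % c ∧ Odd ((2 * d + m - 2 * ((2 * d) % c)) / i)) ∨
                  (m % c = 0 ∧ 0 < (2 * d) % c ∧ Odd (m / i))))))) := by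
  classical
  subst hq
  obtain ⟨Q, hQdef⟩ : ∃ Q, Q = CfsgLib.Classical.plusQ d F := ⟨_, rfl⟩
  have hQc : Cfsg.quadFormPlus d F = ⇑Q := by rw [hQdef, CfsgLib.Classical.plusQ_coe]
  have hQ : (QuadraticMap.polarBilin Q).Nondegenerate := hQdef ▸ CfsgLib.Classical.plusQ_nondeg d
  have htp : CfsgLib.Perm.Elusive.QPlus Q ⊤ := hQdef ▸ CfsgLib.Perm.Elusive.qplus_top_plusQ d
  have hcard : Fintype.card (Fin d ⊕ Fin d) = 2 * d := by rw [Fintype.card_sum, Fintype.card_fin]; omega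
  have hV : Module.finrank F (Fin d ⊕ Fin d → F) = 2 * d := by rw [Module.finrank_fintype_fun_eq_card, hcard]
  rw [hQc] at hrΩ ⊢
  simp only [CfsgLib.Perm.Elusive.nd_on_iff, CfsgLib.Perm.Elusive.plus_on_iff] at hrΩ ⊢
  obtain ⟨h, hh⟩ := id hme
  obtain ⟨T, hI, hTp, hTT, hTs, hTr⟩ := CfsgLib.Perm.Elusive.exists_plus_square_zero (F := F) (p := p) d
  have hI' : ∀ v, Q (T v) = Q v := fun v => by rw [← hQc]; exact hI v
  have hder : ∀ W : Submodule F (Fin d ⊕ Fin d → F), Module.finrank F W = m → CfsgLib.Perm.Elusive.QNd Q W → (∀ u ∈ W, T u ∈ W) →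
      CfsgLib.Perm.Elusive.QPlus Q W := fun W hWf hWn hW =>
    CfsgLib.Perm.Elusive.square_zero_plus hQ hI' (CfsgLib.Perm.Elusive.injective_of_pow_eq_one (r := p) hTp) hTT
      (fun v => by rw [← hQc]; exact hTs v) hV (by omega) htp hW hWn (h := h) (by omega)
  by_cases hr2 : r = 2
  · subst hr2
    by_cases hp2 : p = 2
    · subst hp2
      refine iff_of_false (fun hL => ?_) (by omega)
      have h2 : (2 : F) = 0 := CharP.cast_eq_zero F 2
      obtain ⟨x, hx, hxv⟩ := CfsgLib.Perm.Elusive.exists_gl_of_pow two_ne_zero hTp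
      have hxT : Matrix.toLin' (x : Matrix (Fin d ⊕ Fin d) (Fin d ⊕ Fin d) F) = T :=
        LinearMap.ext fun v => by rw [Matrix.toLin'_apply, hxv]
      have hmem := CfsgLib.Perm.Elusive.omega_of_even_rank h2 hQ (by omega)
        (CfsgLib.Classical.mem_isometryGroup_iff.2 fun v => by rw [hxv]; exact hI' v)
        (by rw [hxT, hTr]; exact even_two_mul _)
      obtain ⟨W, ⟨hWf, hWn, hWp⟩, hW⟩ := hL x hmem ⟨1, by rw [hx, one_smul, Units.val_one]⟩ (fun z hz => by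
        have hTz : T = z • LinearMap.id := by rw [← hxT, hz, map_smul, Matrix.toLin'_one]
        by_cases hz1 : z = 1
        · rw [hTz, hz1, one_smul, ← Module.End.one_eq_id, sub_self, LinearMap.range_zero, finrank_bot] at hTr
          omega
        · have : LinearMap.range (T - 1) = ⊤ := eq_top_iff.2 fun v _ => ⟨(z - 1)⁻¹ • v, by
            rw [hTz, LinearMap.sub_apply, LinearMap.smul_apply, LinearMap.id_apply, Module.End.one_apply, smul_smul,
              ← sub_smul, ← sub_one_mul, mul_inv_cancel₀ (sub_ne_zero.2 hz1), one_smul]⟩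
          rw [this, finrank_top, hV] at hTr
          omega)
      exact hWp (hder W hWf hWn fun u hu => by rw [← hxT]; exact hW ⟨u, hu, rfl⟩)
    have h2 : (2 : F) ≠ 0 := Ring.two_ne_zero (by rw [ringChar.eq F p]; exact hp2)
    have hodd : Odd (Fintype.card F) := Nat.odd_iff.2 (FiniteField.odd_card_of_char_ne_two (by rw [ringChar.eq F p]; exact hp2))
    obtain ⟨hs1, hs2⟩ := CfsgLib.Perm.Elusive.square_congr (F := F) hodd
    rw [CfsgLib.Perm.Elusive.two_elusive_iff h2 hQ hcard (by omega)]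
    swap
    · intro T' hI'' hT' hT1 hT2
      obtain ⟨W₀, -, hW₀, hW₀f, hW₀p⟩ := CfsgLib.Perm.Elusive.exists_sub_type (CfsgLib.Perm.Elusive.qnd_top hQ) (h := h)
        (by omega) (by rw [finrank_top, hV]; omega) False
      obtain ⟨W, hW, hWn, hWf, e, he⟩ := CfsgLib.Perm.Elusive.invol_fixed h2 hQ hI'' hT' hT1 hT2 (by omega) hW₀
        (by omega) (by omega)
      exact ⟨W, ⟨by omega, hWn, fun hp => hW₀p.1 ((CfsgLib.Perm.Elusive.qplus_iso_iff e he).1 hp)⟩, hW⟩
    have hm4 : m % 4 = 2 ↔ ¬ Even h := by rw [Nat.even_iff]; omega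
    have hqo := Nat.odd_iff.1 hodd
    constructor
    · intro hL
      refine Or.inl ⟨rfl, hp2, ?_⟩
      by_cases hex : (IsSquare (-1 : F) ∨ Even d) ∧ (Even d ∨ IsSquare (2 : F))
      · obtain ⟨d', hd'⟩ : ∃ d', d = d' + 1 := ⟨d - 1, by omega⟩
        obtain ⟨T', hI'', hT'⟩ := CfsgLib.Perm.Elusive.negsq_exists h2 hQ (d := d') (by rw [hV, hd'])
          (iff_of_true htp (hd' ▸ hex.1))
        obtain ⟨W, ⟨hWf, hWn, hWp⟩, hW⟩ := hL ⟨iff_of_true htp hex.1, hex.2⟩ T' hI'' hT'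
        obtain ⟨k, hk, hkp, -⟩ := CfsgLib.Perm.Elusive.negsq_sub h2 hI'' hT' hW hWn
        obtain rfl : k = h := by omega
        obtain ⟨hn1, hn2⟩ := not_or.1 (hkp.not.1 hWp)
        rw [hs1] at hn1
        refine Or.inl ⟨?_, by omega, hm4.2 hn2⟩
        exact hex.1.resolve_left (by rw [hs1]; exact hn1)
      · rw [hs1, hs2] at hex
        rcases Nat.even_or_odd d with hd' | hd'
        · exact absurd ⟨Or.inr hd', Or.inl hd'⟩ hex
        · refine Or.inr ⟨hd', fun h8 => hex ⟨Or.inl (by omega), Or.inr (Or.inl h8)⟩⟩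
    · intro hR hex T' hI'' hT'
      obtain ⟨k, hk, hkp, hsub, -⟩ :=
        CfsgLib.Perm.Elusive.negsq_sub h2 hI'' hT' (fun _ _ => Submodule.mem_top) (CfsgLib.Perm.Elusive.qnd_top hQ)
      rw [finrank_top, hV] at hk
      obtain ⟨W, -, hW, hWn, hWd⟩ := hsub h (by omega)
      refine ⟨W, ⟨by omega, hWn, fun hp => ?_⟩, hW⟩
      obtain ⟨k', hk', hkp', -⟩ := CfsgLib.Perm.Elusive.negsq_sub h2 hI'' hT' hW hWn
      obtain rfl : k' = h := by omega
      have hσ := hkp'.1 hp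
      have he1 := hex.1.1 htp
      have he2 := hex.2
      rw [hs1] at hσ he1
      rw [hs2] at he2
      rcases hR with ⟨-, -, ⟨hde, hq4, hm2⟩ | ⟨hdo, hq8⟩⟩ | h | h
      · exact hσ.elim (by omega) (hm4.1 hm2)
      · have hnde := Nat.not_even_iff_odd.2 hdo
        have h3 := he1.resolve_right hnde
        have h4 := he2.resolve_left hnde
        omega
      · omega
      · omega
  have hr3 : 2 < r := by have := (Fact.out : r.Prime).two_le; omega
  rw [CfsgLib.Perm.Elusive.elusive_scalar_iff hr2 hQ (by omega)]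
  by_cases hrp : r = p
  · subst hrp
    refine iff_of_false (fun hL => ?_) (by omega)
    obtain ⟨W, ⟨hWf, hWn, hWp⟩, hW⟩ := hL T hI' hTp (fun h1 => by
      rw [h1, sub_self, LinearMap.range_zero, finrank_bot] at hTr
      omega)
    exact hWp (hder W hWf hWn hW)
  have hiff := CfsgLib.Perm.Elusive.even_elusive_iff (p := p) hrp hr2 hQ hi hc False hV hme (by omega) (by omega)
    (by simpa only [iff_false] using hrΩ)
  simp only [iff_false, htp, true_iff, false_iff] at hiff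
  rw [hiff]
  obtain ⟨hipos, hcpos, -, -⟩ := CfsgLib.Perm.Elusive.block_power (F := F) (p := p) hrp hr2 hi hc
  by_cases hev : Even i
  · rw [if_pos hev] at hc
    subst hc
    have hno : ¬ Odd c := Nat.not_odd_iff_even.2 hev
    have e1 := Nat.div_add_mod' (2 * d) c
    have e2 := Nat.div_add_mod' m c
    have hdiv : m % c = 2 * d % c → (2 * d + m - 2 * (2 * d % c)) / c = 2 * d / c + m / c := fun he => by
      rw [show 2 * d + m - 2 * (2 * d % c) = (2 * d / c + m / c) * c by rw [add_mul]; omega, Nat.mul_div_cancel _ hcpos]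
    simp only [hno, false_or, Nat.not_even_iff_odd]
    constructor
    · rintro (⟨hρ, hcm, ⟨hlt, h0⟩ | ⟨he, hne⟩⟩ | ⟨h0, h⟩)
      · refine Or.inr (Or.inr ⟨hrp, hr3, hev, Or.inr ⟨hcm, ?_⟩⟩)
        rcases Nat.eq_zero_or_pos (m % c) with h | h
        · exact Or.inr (Or.inr ⟨h, hρ, h0 h⟩)
        · exact Or.inl ⟨h, hlt⟩
      · refine Or.inr (Or.inr ⟨hrp, hr3, hev, Or.inr ⟨hcm, Or.inr (Or.inl ⟨by omega, he, ?_⟩)⟩⟩)
        rw [hdiv he, ← Nat.not_even_iff_odd, Nat.even_add]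
        exact hne
      · exact Or.inr (Or.inr ⟨hrp, hr3, hev, Or.inl ⟨h0, h⟩⟩)
    · rintro (h | ⟨-, -, ho, -⟩ | ⟨-, -, -, ⟨h0, h⟩ | ⟨hcm, h⟩⟩)
      · omega
      · exact ho.elim
      · exact Or.inr ⟨h0, h⟩
      · rcases h with ⟨hp0, hlt⟩ | ⟨hp0, he, hodd⟩ | ⟨h0, hρ, hM⟩
        · exact Or.inl ⟨by omega, hcm, Or.inl ⟨hlt, fun h' => by omega⟩⟩
        · refine Or.inl ⟨by omega, hcm, Or.inr ⟨he, ?_⟩⟩
          rw [hdiv he, ← Nat.not_even_iff_odd, Nat.even_add] at hodd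
          exact hodd
        · exact Or.inl ⟨hρ, hcm, Or.inl ⟨by omega, fun _ => hM⟩⟩
  · have ho := Nat.not_even_iff_odd.1 hev
    simp only [ho, true_or, not_true, false_or, and_false, or_false, iff_true]
    constructor
    · rintro ⟨hρ, hcm, hlt, h0⟩
      exact Or.inr (Or.inl ⟨hrp, hr3, trivial, hcm, Nat.pos_of_ne_zero h0, hlt⟩)
    · rintro (h | ⟨-, -, -, hcm, hp0, hlt⟩ | ⟨-, -, he, -⟩)
      · omega
      · exact ⟨by omega, hcm, hlt, by omega⟩
      · exact absurd he hev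

end Cfsg.Agent.S5988
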