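import Cfsg.Statements.S5989
-- import your own Cfsg.Agent.* helpers here
import Mathlib
import Cfsg.Agent.Lib.Perm.Elusive.OrthStd
import Cfsg.Agent.Lib.Perm.Elusive.JordanOrth

set_option autoImplicit false
set_option linter.all false
open scoped MatrixGroups
open Cfsg

namespace Cfsg.Agent.S5989

/-- Elements of prime order of PΩ⁺_n(q), q odd, with no fixed nondegenerate `m`-space of odd dimension. Here `T = PΩ⁺_n(F)`, `n = 2d ≥ 8`, realised through `Ω⁺_n(q)`, the commutator subgroup of the isometry group of `Q = Σ xᵢyᵢ` over the field `F` with `q` elements; an element of `T` of prime order `r` is an element `x` of `Ω⁺_n(q)` with `x^r` scalar and `x` not scalar; `q` and `m` are odd, `1 ≤ m < n/2`. The nondegenerate `m`-spaces (subspaces on which the polar form is nondegenerate) fall into two isometry classes, each an orbit of `T`, and the two actions are equivalent; fix one such space `W₀` and let Ω be the set of nondegenerate `m`-spaces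 isometric to `W₀` (some linear isomorphism preserves `Q`). Let `r` be a prime dividing the size of Ω; for `r ≠ p` let `i` be the multiplicative order of `q` modulo `r`, `c = i` for `i` even and `c = 2i` for `i` odd, and write `k = n mod c`, `ℓ = m mod i`, `ℓ' = m mod c`, `n' = ⌊n/i⌋`, `m' = ⌊m/i⌋`, `t = (r−1)/i`. Then every element of `T` of order `r` fixes a member of Ω if and only if one of: (i) `r = 2`, `n ≡ 2 (mod 4)` and `q ≢ 1 (mod 8)`; (ii) `r ≠ p` odd, `i` odd, `c ≤ m` and `k > ℓ' > 0`; (iii) `r ≠ p` odd, `i` even, and either `k = 0` and `n/i` odd, or `i ≤ m` and `k > ℓ' > 0`. (For `r = p` there is always an element of order `p` fixing no member of Ω.) -/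
theorem result {F : Type*} [Field F] [Fintype F] {p : ℕ} [Fact p.Prime] [CharP F p] {q : ℕ} (hq : Fintype.card F = q)
    (hodd : Odd q) (d m : ℕ) (hd : 4 ≤ d) (hm : Odd m) (hmd : m < d)
    (W₀ : Submodule F (Fin d ⊕ Fin d → F)) (hW₀ : Module.finrank F ↥W₀ = m ∧ Cfsg.Geo.IsNondegenerateOn (QuadraticMap.polar (Cfsg.quadFormPlus d F)) W₀)
    (r : ℕ) [Fact r.Prime]
    (hrΩ : r ∣ Nat.card {W : Submodule F (Fin d ⊕ Fin d → F) // Module.finrank F ↥W = m ∧ Cfsg.Geo.IsNondegenerateOn (QuadraticMap.polar (Cfsg.quadFormPlus d F)) W ∧ Cfsg.Geo.AreIsometricFor (Cfsg.quadFormPlus d F) W W₀})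
    (i c : ℕ) (hi : i = orderOf (q : ZMod r)) (hc : c = if Even i then i else 2 * i) :
    (∀ x : GL (Fin d ⊕ Fin d) F, x ∈ Cfsg.Geo.omegaGL (Cfsg.quadFormPlus d F) →
      (∃ z : F, ((x ^ r : GL (Fin d ⊕ Fin d) F) : Matrix (Fin d ⊕ Fin d) (Fin d ⊕ Fin d) F) = z • (1 : Matrix (Fin d ⊕ Fin d) (Fin d ⊕ Fin d) F)) →
      (∀ z : F, (x : Matrix (Fin d ⊕ Fin d) (Fin d ⊕ Fin d) F) ≠ z • (1 : Matrix (Fin d ⊕ Fin d) (Fin d ⊕ Fin d) F)) →
      ∃ W : Submodule F (Fin d ⊕ Fin d → F), (Module.finrank F ↥W = m ∧ Cfsg.Geo.IsNondegenerateOn (QuadraticMap.polar (Cfsg.quadFormPlus d F)) W ∧ Cfsg.Geo.AreIsometricFor (Cfsg.quadFormPlus d F) W W₀) ∧ W.map (Matrix.toLin' (x : Matrix (Fin d ⊕ Fin d) (Fin d ⊕ Fin d) F)) ≤ W) ↔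
    ((r = 2 ∧ Odd d ∧ q % 8 ≠ 1) ∨
     (r ≠ p ∧ 2 < r ∧ Odd i ∧ c ≤ m ∧ 0 < m % c ∧ m % c < (2 * d) % c) ∨
     (r ≠ p ∧ 2 < r ∧ Even i ∧ (((2 * d) % c = 0 ∧ Odd ((2 * d) / i)) ∨ (i ≤ m ∧ 0 < m % c ∧ m % c < (2 * d) % c)))) := by
  classical
  subst hq
  have h2 : (2 : F) ≠ 0 := CfsgLib.Orth.two_ne_zero_of_odd hodd
  obtain ⟨Q, hQdef⟩ : ∃ Q, Q = CfsgLib.Classical.plusQ d F := ⟨_, rfl⟩
  have hQc : Cfsg.quadFormPlus d F = ⇑Q := by rw [hQdef, CfsgLib.Classical.plusQ_coe]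
  have hQ : (QuadraticMap.polarBilin Q).Nondegenerate := hQdef ▸ CfsgLib.Classical.plusQ_nondeg d
  have htp : CfsgLib.Perm.Elusive.QPlus Q ⊤ := hQdef ▸ CfsgLib.Perm.Elusive.qplus_top_plusQ d
  have hcard : Fintype.card (Fin d ⊕ Fin d) = 2 * d := by rw [Fintype.card_sum, Fintype.card_fin]; omega
  have hV : Module.finrank F (Fin d ⊕ Fin d → F) = 2 * d := by rw [Module.finrank_fintype_fun_eq_card, hcard]
  rw [hQc] at hW₀ hrΩ ⊢
  simp only [CfsgLib.Perm.Elusive.nd_on_iff, Cfsg.Geo.AreIsometricFor] at hW₀ hrΩ ⊢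
  obtain ⟨hW₀f, hW₀n⟩ := hW₀
  obtain ⟨h, hh⟩ := id hm
  by_cases hr2 : r = 2
  · subst hr2
    obtain ⟨hs1, hs2⟩ := CfsgLib.Perm.Elusive.square_congr (F := F) hodd
    have hqo := Nat.odd_iff.1 hodd
    rw [CfsgLib.Perm.Elusive.two_elusive_iff h2 hQ hcard (by omega)]
    swap
    · intro T' hI'' hT' hT1 hT2
      obtain ⟨W, hW, hWn, hWf, e, he⟩ := CfsgLib.Perm.Elusive.invol_fixed h2 hQ hI'' hT' hT1 hT2 (by omega) hW₀n
        (by omega) (by omega)
      exact ⟨W, ⟨by omega, hWn, e, he⟩, hW⟩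
    constructor
    · intro hL
      by_cases hex : (IsSquare (-1 : F) ∨ Even d) ∧ (Even d ∨ IsSquare (2 : F))
      · obtain ⟨d', hd'⟩ : ∃ d', d = d' + 1 := ⟨d - 1, by omega⟩
        obtain ⟨T', hI'', hT'⟩ := CfsgLib.Perm.Elusive.negsq_exists h2 hQ (d := d') (by rw [hV, hd'])
          (iff_of_true htp (hd' ▸ hex.1))
        obtain ⟨W, ⟨hWf, hWn, -⟩, hW⟩ := hL ⟨iff_of_true htp hex.1, hex.2⟩ T' hI'' hT'
        obtain ⟨k, hk, -⟩ := CfsgLib.Perm.Elusive.negsq_sub h2 hI'' hT' hW hWn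
        omega
      · rw [hs1, hs2] at hex
        rcases Nat.even_or_odd d with hd' | hd'
        · exact absurd ⟨Or.inr hd', Or.inl hd'⟩ hex
        · exact Or.inl ⟨rfl, hd', fun h8 => hex ⟨Or.inl (by omega), Or.inr (Or.inl h8)⟩⟩
    · rintro (⟨-, hdo, hq8⟩ | h | h) hex
      · have hnde := Nat.not_even_iff_odd.2 hdo
        have h3 := hs1.1 ((hex.1.1 htp).resolve_right hnde)
        have h4 := hs2.1 (hex.2.resolve_left hnde)
        omega
      · omega
      · omega
  have hr3 : 2 < r := by have := (Fact.out : r.Prime).two_le; omega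
  by_cases hrp : r = p
  · subst hrp
    refine iff_of_false (fun hL => ?_) (by omega)
    have key : ∀ μ : Multiset ℕ, (∀ e ∈ μ, 0 < e ∧ e ≤ r) → (∀ e : ℕ, Even e → Even (μ.count e)) → μ.sum = 2 * d →
        ∃ ν : Multiset ℕ, ν ≤ μ ∧ ν.sum = m ∧ ∀ e : ℕ, Even e → Even (ν.count e) := by
      intro μ hμ hev hsum
      refine CfsgLib.Perm.Elusive.orth_sub_partition (p := r) h2 (⇑Q) (m := m) (by omega) ?_ ?_ μ hμ hev
        (hsum.trans hcard.symm)
      · intro ι' inst B U hc hsym hN hU hUd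
        obtain ⟨φ, hφ⟩ := CfsgLib.Perm.Elusive.exists_plus_equiv hsym hN h2 (d := d) (by
          rw [Module.finrank_fintype_fun_eq_card, hc, hcard]) hU (by omega)
        exact ⟨φ, 1, one_ne_zero, fun v => by rw [← hQc, hφ, one_mul]⟩
      · intro x hx hxo
        have hxr : x ^ r = 1 := hxo ▸ pow_orderOf_eq_one x
        have hT1 : Matrix.toLin' (x : Matrix (Fin d ⊕ Fin d) (Fin d ⊕ Fin d) F) ≠ 1 := fun e => by
          have h1 : x = 1 := Units.ext (Matrix.toLin'.injective (e.trans (by rw [Units.val_one, Matrix.toLin'_one]; rfl)))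
          rw [h1, orderOf_one] at hxo
          exact (Fact.out : r.Prime).ne_one hxo.symm
        obtain ⟨W, ⟨h1, h3, -⟩, h4⟩ := (CfsgLib.Perm.Elusive.elusive_scalar_iff hr2 hQ (by omega) _).1 hL
          (Matrix.toLin' (x : Matrix (Fin d ⊕ Fin d) (Fin d ⊕ Fin d) F))
          (fun v => by
            rw [Matrix.toLin'_apply]
            exact CfsgLib.Classical.mem_isometryGroup_iff.1 (CfsgLib.Perm.Elusive.mem_iso_of_omega hx) v)
          (by rw [← Matrix.toLin'_pow, ← Units.val_pow_eq_pow_val, hxr, Units.val_one, Matrix.toLin'_one]; rfl) hT1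
        exact ⟨W, h1, (CfsgLib.Perm.Elusive.nd_on_iff Q W).2 h3, by rintro _ ⟨u, hu, rfl⟩; exact h4 u hu⟩
    have hsub : ∀ (ν : Multiset ℕ) (x : ℕ), x ≠ 2 → (∀ e ∈ ν, e = 2 ∨ e = x) → ν.sum = ν.count 2 * 2 + ν.count x * x := by
      intro ν x hx hν
      have hs : ν.toFinset ⊆ {2, x} := fun e he => by
        rw [Finset.mem_insert, Finset.mem_singleton]; exact hν e (Multiset.mem_toFinset.1 he)
      rw [Finset.sum_multiset_count_of_subset ν {2, x} hs, Finset.sum_pair hx.symm, smul_eq_mul, smul_eq_mul]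
    obtain ⟨x, k, l, hx, hk, hl, hsum, hbad⟩ : ∃ x k l : ℕ, (x = 1 ∨ x = 3) ∧ Even k ∧ (l = 0 ∨ l = 2) ∧
        2 * k + l * x = 2 * d ∧ ∀ a b : ℕ, Even a → b ≤ l → a * 2 + b * x ≠ m := by
      rcases Nat.even_or_odd d with hd' | hd'
      · exact ⟨1, d, 0, Or.inl rfl, hd', Or.inl rfl, by omega, fun a b ⟨a', ha⟩ hb => by
          obtain rfl : b = 0 := by omega
          omega⟩
      · have hd'' := Nat.odd_iff.1 hd'
        rcases (by omega : m % 4 = 3 ∨ m % 4 = 1) with h4 | h4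
        · exact ⟨1, d - 1, 2, Or.inl rfl, Nat.even_iff.2 (by omega), Or.inr rfl, by omega, fun a b ⟨a', ha⟩ hb => by omega⟩
        · exact ⟨3, d - 3, 2, Or.inr rfl, Nat.even_iff.2 (by omega), Or.inr rfl, by omega, fun a b ⟨a', ha⟩ hb => by omega⟩
    have hx2 : x ≠ 2 := by omega
    obtain ⟨ν, hν, hνs, hνe⟩ := key (Multiset.replicate k 2 + Multiset.replicate l x) (fun e he => by
        rcases Multiset.mem_add.1 he with h | h <;> rw [Multiset.eq_of_mem_replicate h] <;> omega)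
      (fun e he => by
        rw [Multiset.count_add, Multiset.count_replicate, Multiset.count_replicate,
          if_neg (show x ≠ e from fun h => by subst h; rcases hx with rfl | rfl <;> exact absurd he (by decide)), add_zero]
        split_ifs
        · exact hk
        · exact Even.zero)
      (by rw [Multiset.sum_add, Multiset.sum_replicate, Multiset.sum_replicate, smul_eq_mul, smul_eq_mul]; omega)
    have hs := hsub ν x hx2 fun e he => by
      rcases Multiset.mem_add.1 (Multiset.mem_of_le hν he) with h | h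
      · exact Or.inl (Multiset.eq_of_mem_replicate h)
      · exact Or.inr (Multiset.eq_of_mem_replicate h)
    have hcx : ν.count x ≤ l := (Multiset.count_le_of_le x hν).trans (by
      rw [Multiset.count_add, Multiset.count_replicate, if_neg hx2.symm, Multiset.count_replicate, if_pos rfl, zero_add])
    exact hbad _ _ (hνe 2 even_two) hcx (hs.symm.trans hνs)
  rw [CfsgLib.Perm.Elusive.elusive_scalar_iff hr2 hQ (by omega)]
  rw [CfsgLib.Perm.Elusive.odd_elusive_iff (p := p) hrp hr2 h2 hQ hi hc hV (even_two_mul d) hm (by omega) hW₀f hW₀n hrΩ]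
  simp only [htp, true_iff]
  obtain ⟨hipos, hcpos, -, -⟩ := CfsgLib.Perm.Elusive.block_power (F := F) (p := p) hrp hr2 hi hc
  by_cases hev : Even i
  · rw [if_pos hev] at hc
    subst hc
    have hno : ¬ Odd c := Nat.not_odd_iff_even.2 hev
    simp only [hno, false_or, Nat.not_even_iff_odd]
    constructor
    · rintro (⟨hρ, hcm, hlt⟩ | h)
      · refine Or.inr (Or.inr ⟨hrp, hr3, hev, Or.inr ⟨hcm, Nat.pos_of_ne_zero fun h0 => ?_, hlt⟩⟩)
        obtain ⟨t, ht⟩ := Nat.dvd_of_mod_eq_zero h0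
        exact Nat.not_even_iff_odd.2 hm (ht ▸ hev.mul_right t)
      · exact Or.inr (Or.inr ⟨hrp, hr3, hev, Or.inl h⟩)
    · rintro (h | ⟨-, -, hf, -⟩ | ⟨-, -, -, h | ⟨hcm, hp0, hlt⟩⟩)
      · omega
      · exact hf.elim
      · exact Or.inr h
      · exact Or.inl ⟨by omega, hcm, hlt⟩
  · have ho := Nat.not_even_iff_odd.1 hev
    simp only [ho, true_or, not_true, and_false, or_false]
    constructor
    · rintro ⟨hρ, hcm, hlt⟩
      refine Or.inr (Or.inl ⟨hrp, hr3, trivial, hcm, Nat.pos_of_ne_zero fun h0 => ?_, hlt⟩)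
      obtain ⟨t, ht⟩ := Nat.dvd_of_mod_eq_zero h0
      rw [hc, if_neg hev] at ht
      rw [mul_assoc] at ht
      exact Nat.not_even_iff_odd.2 hm (ht ▸ even_two_mul (i * t))
    · rintro (h | ⟨-, -, -, hcm, hp0, hlt⟩ | ⟨-, -, he, -⟩)
      · omega
      · exact ⟨by omega, hcm, hlt⟩
      · exact absurd he hev

end Cfsg.Agent.S5989
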