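import Cfsg.Statements.S5990
-- import your own Cfsg.Agent.* helpers here
import Mathlib
import Cfsg.Agent.Lib.Perm.Elusive.OrthTwoElements

set_option autoImplicit false
set_option linter.all false
open scoped MatrixGroups
open Cfsg

namespace Cfsg.Agent.S5990

/-- Elements of prime order of PΩ⁻_n(q) with no fixed elliptic `m`-space. Here `T = PΩ⁻_n(F)`, `n = 2d ≥ 8`, realised through `Ω⁻_n(q)`, the commutator subgroup of the isometry group of `Q = Σ_{i<d−1} xᵢyᵢ + z₁² + a z₁z₂ + b z₂²` with `z₁² + a z₁z₂ + b z₂²` anisotropic, over the field `F` with `q` elements; an element of `T` of prime order `r` is an element `x` of `Ω⁻_n(q)` with `x^r` scalar and `x` not scalar; a nondegenerate `m`-space (even `m`) is a subspace on which the polar form of `Q` is nondegenerate; it is hyperbolic if it contains an `m/2`-dimensional subspace on which `Q` vanishes, elliptic otherwise. Let `m` be even with `2 ≤ m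 ≤ n − 2` (no restriction `m < n/2`: fixing an elliptic `m`-space is the same as fixing its hyperbolic orthogonal complement) and let `r` be a prime dividing the number of elliptic `m`-spaces, with `r = 2` or `r ≠ p`; for `r ≠ p` let `i` be the multiplicative order of `q` modulo `r`, `c = i` for `i` even and `c = 2i` for `i` odd, and write `k = n mod c`, `ℓ = m mod i`, `ℓ' = m mod c`, `n' = ⌊n/i⌋`, `m' = ⌊m/i⌋`, `t = (r−1)/i`. Then every element of `T` of order `r` fixes some elliptic `m`-space if and only if one of: (i) `r = p = 2` and (`n ≡ 0 (mod 4)` or `m ≡ 2 (mod 4)`); (ii) `r = 2 ≠ p` and (`n ≡ 0 (mod 4)`, or `q ≢ 7 (mod 8)`, or `m ≡ 2 (mod 4)`); (iii) `r ≠ p` odd, `i` odd, and `k = 0` or (`c ≤ m` and `k ≥ ℓ' > 0`); (iv) `r ≠ p` odd, `i` even, and either `k = 0` and (`n/i` even, or `ℓ' = 0` and `m/i` odd), or `k > 0`, `i ≤ m` and (`k > ℓ' > 0`, or `ℓ' = 0` and `m/i` odd, or `k = ℓ'` and `(n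 + m − 2k)/i` even). (Odd `r = p` is not covered by this statement.) -/
theorem result {F : Type*} [Field F] [Fintype F] {p : ℕ} [Fact p.Prime] [CharP F p] {q : ℕ} (hq : Fintype.card F = q)
    (d m : ℕ) (hd : 4 ≤ d) (hm : 2 ≤ m) (hme : Even m) (hmn : m + 2 ≤ 2 * d) (a b : F) (hab : ∀ x y : F, x ^ 2 + a * x * y + b * y ^ 2 = 0 → x = 0 ∧ y = 0)
    (r : ℕ) [Fact r.Prime] (hr : r = 2 ∨ r ≠ p)
    (hrΩ : r ∣ Nat.card {W : Submodule F ((Fin (d - 1) ⊕ Fin (d - 1)) ⊕ Fin 2 → F) // Module.finrank F ↥W = m ∧ Cfsg.Geo.IsNondegenerateOn (QuadraticMap.polar (Cfsg.quadFormMinus (d - 1) F a b)) W ∧ ¬ Cfsg.Geo.IsPlusTypeOn (Cfsg.quadFormMinus (d - 1) F a b) W})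
    (i c : ℕ) (hi : i = orderOf (q : ZMod r)) (hc : c = if Even i then i else 2 * i) :
    (∀ x : GL ((Fin (d - 1) ⊕ Fin (d - 1)) ⊕ Fin 2) F, x ∈ Cfsg.Geo.omegaGL (Cfsg.quadFormMinus (d - 1) F a b) →
      (∃ z : F, ((x ^ r : GL ((Fin (d - 1) ⊕ Fin (d - 1)) ⊕ Fin 2) F) : Matrix ((Fin (d - 1) ⊕ Fin (d - 1)) ⊕ Fin 2) ((Fin (d - 1) ⊕ Fin (d - 1)) ⊕ Fin 2) F) = z • (1 : Matrix ((Fin (d - 1) ⊕ Fin (d - 1)) ⊕ Fin 2) ((Fin (d - 1) ⊕ Fin (d - 1)) ⊕ Fin 2) F)) →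
      (∀ z : F, (x : Matrix ((Fin (d - 1) ⊕ Fin (d - 1)) ⊕ Fin 2) ((Fin (d - 1) ⊕ Fin (d - 1)) ⊕ Fin 2) F) ≠ z • (1 : Matrix ((Fin (d - 1) ⊕ Fin (d - 1)) ⊕ Fin 2) ((Fin (d - 1) ⊕ Fin (d - 1)) ⊕ Fin 2) F)) →
      ∃ W : Submodule F ((Fin (d - 1) ⊕ Fin (d - 1)) ⊕ Fin 2 → F), (Module.finrank F ↥W = m ∧ Cfsg.Geo.IsNondegenerateOn (QuadraticMap.polar (Cfsg.quadFormMinus (d - 1) F a b)) W ∧ ¬ Cfsg.Geo.IsPlusTypeOn (Cfsg.quadFormMinus (d - 1) F a b) W) ∧ W.map (Matrix.toLin' (x : Matrix ((Fin (d - 1) ⊕ Fin (d - 1)) ⊕ Fin 2) ((Fin (d - 1) ⊕ Fin (d - 1)) ⊕ Fin 2) F)) ≤ W) ↔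
    ((r = 2 ∧ p = 2 ∧ (Even d ∨ m % 4 = 2)) ∨
     (r = 2 ∧ p ≠ 2 ∧ (Even d ∨ q % 8 ≠ 7 ∨ m % 4 = 2)) ∨
     (r ≠ p ∧ 2 < r ∧ Odd i ∧ ((2 * d) % c = 0 ∨ (c ≤ m ∧ 0 < m % c ∧ m % c ≤ (2 * d) % c))) ∨
     (r ≠ p ∧ 2 < r ∧ Even i ∧
       (((2 * d) % c = 0 ∧ (Even ((2 * d) / i) ∨ (m % c = 0 ∧ Odd (m / i)))) ∨
        (0 < (2 * d) % c ∧ i ≤ m ∧ ((0 < m % c ∧ m % c < (2 * d) % c) ∨ (m % c = 0 ∧ Odd (m / i)) ∨
                                    (m % c = (2 * d) % c ∧ Even ((2 * d + m - 2 * ((2 * d) % c)) / i))))))) := by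
  classical
  subst hq
  obtain ⟨Q, hQdef⟩ : ∃ Q, Q = CfsgLib.Classical.minusQ (d - 1) F a b := ⟨_, rfl⟩
  have hQc : Cfsg.quadFormMinus (d - 1) F a b = ⇑Q := by rw [hQdef, CfsgLib.Classical.minusQ_coe]
  have hQ : (QuadraticMap.polarBilin Q).Nondegenerate := hQdef ▸ CfsgLib.Classical.minusQ_nondeg hab (d - 1)
  have htp : ¬ CfsgLib.Perm.Elusive.QPlus Q ⊤ := hQdef ▸ CfsgLib.Perm.Elusive.not_qplus_top_minusQ hab
  have hcard : Fintype.card ((Fin (d - 1) ⊕ Fin (d - 1)) ⊕ Fin 2) = 2 * d := by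
    rw [Fintype.card_sum, Fintype.card_sum, Fintype.card_fin, Fintype.card_fin]; omega
  have hV : Module.finrank F ((Fin (d - 1) ⊕ Fin (d - 1)) ⊕ Fin 2 → F) = 2 * d := by
    rw [Module.finrank_fintype_fun_eq_card, hcard]
  obtain ⟨P, hPdef⟩ : ∃ P : Submodule F ((Fin (d - 1) ⊕ Fin (d - 1)) ⊕ Fin 2 → F) → Prop, ∀ W, P W ↔
      (Module.finrank F ↥W = m ∧ CfsgLib.Perm.Elusive.QNd Q W ∧ (CfsgLib.Perm.Elusive.QPlus Q W ↔ False)) :=
    ⟨_, fun W => Iff.rfl⟩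
  have hP : ∀ W : Submodule F ((Fin (d - 1) ⊕ Fin (d - 1)) ⊕ Fin 2 → F), (Module.finrank F ↥W = m ∧
      Cfsg.Geo.IsNondegenerateOn (QuadraticMap.polar (⇑Q)) W ∧ ¬ Cfsg.Geo.IsPlusTypeOn (⇑Q) W) ↔ P W := fun W => by
    rw [hPdef, CfsgLib.Perm.Elusive.nd_on_iff, CfsgLib.Perm.Elusive.plus_on_iff, iff_false]
  rw [hQc] at hrΩ ⊢
  simp only [hP] at hrΩ ⊢
  obtain ⟨h, hh⟩ := id hme
  by_cases hr2 : r = 2
  · subst hr2
    by_cases hp2 : p = 2
    · subst hp2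
      have h20 : (2 : F) = 0 := CharTwo.two_eq_zero
      rw [CfsgLib.Perm.Elusive.two_char_iff h20 hQ (by omega) P]
      constructor
      · intro hL
        refine Or.inl ⟨rfl, rfl, ?_⟩
        by_contra hno
        push Not at hno
        obtain ⟨hdo, hm4⟩ := hno
        have hdo' := Nat.not_even_iff.1 hdo
        obtain ⟨T, hI, hTT, hev, hT1, hall⟩ :=
          CfsgLib.Perm.Elusive.exists_invol_minus_obstruction (F := F) (k := d - 1) (Nat.even_iff.2 (by omega)) (by omega) hab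
        rw [← hQdef] at hI hall
        obtain ⟨W, hW, hWi⟩ := hL T hI hTT hev hT1
        obtain ⟨h1, h2, h3⟩ := (hPdef W).1 hW
        exact h3.1 (hall W hWi h2 h (by omega) (Nat.even_iff.2 (by omega)))
      · intro hR T hI hTT hev hT1
        obtain ⟨W, h1, h2, h3, h4⟩ := CfsgLib.Perm.Elusive.exists_invol_plus h20 hQ hI hTT hev hV
          (g := d - h) (by omega) (by omega) (by
            rcases hR with ⟨-, -, h' | h'⟩ | ⟨-, h', -⟩ | ⟨-, h', -⟩ | ⟨-, h', -⟩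
            · exact Or.inr (iff_of_false htp (Nat.not_odd_iff_even.2 h'))
            · rcases Nat.even_or_odd d with h'' | h''
              · exact Or.inr (iff_of_false htp (Nat.not_odd_iff_even.2 h''))
              · have := Nat.odd_iff.1 h''
                exact Or.inl (Nat.even_iff.2 (by omega))
            · exact absurd rfl h'
            · omega
            · omega)
        obtain ⟨hi', hn, hsup, hdim, -⟩ := CfsgLib.Perm.Elusive.invol_split hI hTT (E := ⊤)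
          (fun _ _ => Submodule.mem_top) (CfsgLib.Perm.Elusive.qnd_top hQ) h1 h2 le_top
        rw [finrank_top, hV] at hdim
        refine ⟨_, (hPdef _).2 ⟨by omega, hn, iff_of_false (fun hp => htp ?_) not_false⟩, hi'⟩
        rw [← hsup]
        exact (CfsgLib.Perm.Elusive.qplus_sup_iff h2 hn (fun u hu w hw => hw.2 u hu) h3 (h' := h) (by omega)).2
          (iff_of_true h4 hp)
    have hodd : Odd (Fintype.card F) := by
      obtain ⟨n, hp', hn⟩ := FiniteField.card F p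
      rw [hn]
      exact (hp'.odd_of_ne_two hp2).pow
    have h2 : (2 : F) ≠ 0 := CfsgLib.Orth.two_ne_zero_of_odd hodd
    have hqo := Nat.odd_iff.1 hodd
    obtain ⟨hs1, hs2⟩ := CfsgLib.Perm.Elusive.square_congr (F := F) hodd
    obtain ⟨W₀, -, hW₀n, hW₀f, hW₀p⟩ := CfsgLib.Perm.Elusive.exists_sub_type (CfsgLib.Perm.Elusive.qnd_top hQ) (h := h)
      (by omega) (by rw [finrank_top, hV]; omega) False
    rw [CfsgLib.Perm.Elusive.two_elusive_iff h2 hQ hcard (by omega) P]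
    swap
    · intro T hI hT hT1 hT2
      obtain ⟨W, hW, hWn, hWf, e, he⟩ := CfsgLib.Perm.Elusive.invol_fixed h2 hQ hI hT hT1 hT2 (by omega) hW₀n
        (by omega) (by omega)
      exact ⟨W, (hPdef W).2 ⟨by omega, hWn, (CfsgLib.Perm.Elusive.qplus_iso_iff e he).trans hW₀p⟩, hW⟩
    constructor
    · intro hL
      refine Or.inr (Or.inl ⟨rfl, hp2, ?_⟩)
      by_contra hno
      push Not at hno
      obtain ⟨hdo, hq8, hm4⟩ := hno
      have hns : ¬ IsSquare (-1 : F) := fun h' => by have := hs1.1 h'; omega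
      obtain ⟨d', hd'⟩ : ∃ d', d = d' + 1 := ⟨d - 1, by omega⟩
      have hiff : CfsgLib.Perm.Elusive.QPlus Q ⊤ ↔ IsSquare (-1 : F) ∨ Even d :=
        iff_of_false htp fun h' => h'.elim hns hdo
      obtain ⟨T, hI, hT⟩ := CfsgLib.Perm.Elusive.negsq_exists h2 hQ (d := d') (by rw [hV, hd']) (hd' ▸ hiff)
      obtain ⟨W, hW, hWi⟩ := hL ⟨hiff, Or.inr (hs2.2 (Or.inr hq8))⟩ T hI hT
      obtain ⟨h1, h2', h3⟩ := (hPdef W).1 hW
      obtain ⟨k, hk, hkp, -⟩ := CfsgLib.Perm.Elusive.negsq_sub h2 hI hT hWi h2'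
      exact h3.1 (hkp.2 (Or.inr (Nat.even_iff.2 (by omega))))
    · intro hR hex T hI hT
      obtain ⟨k, hk, -, hall, -⟩ := CfsgLib.Perm.Elusive.negsq_sub h2 hI hT (S := ⊤)
        (fun _ _ => Submodule.mem_top) (CfsgLib.Perm.Elusive.qnd_top hQ)
      rw [finrank_top, hV] at hk
      obtain ⟨W, -, hWi, hWn, hWd⟩ := hall h (by omega)
      obtain ⟨k₀, hk₀, hkp, -⟩ := CfsgLib.Perm.Elusive.negsq_sub h2 hI hT hWi hWn
      refine ⟨W, (hPdef W).2 ⟨by omega, hWn, iff_of_false (fun hp => ?_) not_false⟩, hWi⟩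
      have hns : ¬ (IsSquare (-1 : F) ∨ Even d) := fun h' => htp (hex.1.2 h')
      have hd2 := Nat.not_even_iff.1 fun h' => hns (Or.inr h')
      have h1 : Fintype.card F % 4 ≠ 1 := fun h' => hns (Or.inl (hs1.2 h'))
      have h8 := hs2.1 (hex.2.resolve_left fun h' => hns (Or.inr h'))
      have hke := Nat.even_iff.1 ((hkp.1 hp).resolve_left fun h' => hns (Or.inl h'))
      rcases hR with ⟨-, h', -⟩ | ⟨-, -, h' | h' | h'⟩ | ⟨-, h', -⟩ | ⟨-, h', -⟩
      · exact hp2 h'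
      · exact hns (Or.inr h')
      · omega
      · omega
      · omega
      · omega
  have hr3 : 2 < r := by have := (Fact.out : r.Prime).two_le; omega
  have hrp : r ≠ p := hr.resolve_left hr2
  rw [CfsgLib.Perm.Elusive.elusive_scalar_iff hr2 hQ (by omega) P]
  simp only [hPdef] at hrΩ ⊢
  rw [CfsgLib.Perm.Elusive.even_elusive_iff (p := p) hrp hr2 hQ hi hc False hV hme (by omega) (by omega) hrΩ]
  obtain ⟨-, hcpos, -, -⟩ := CfsgLib.Perm.Elusive.block_power (F := F) (p := p) hrp hr2 hi hc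
  by_cases hev : Even i
  · rw [if_pos hev] at hc
    subst hc
    have hno : ¬ Odd c := Nat.not_odd_iff_even.2 hev
    simp only [hno, false_or, htp, false_iff, not_not, Nat.not_even_iff_odd, Nat.not_odd_iff_even]
    have hdiv : m % c = (2 * d) % c → (2 * d + m - 2 * ((2 * d) % c)) / c = (2 * d) / c + m / c := fun he => by
      have e1 := Nat.div_add_mod (2 * d) c
      have e2 := Nat.div_add_mod m c
      rw [show 2 * d + m - 2 * (2 * d % c) = c * (2 * d / c + m / c) by rw [Nat.mul_add]; omega]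
      exact Nat.mul_div_cancel_left _ hcpos
    have hsw : (¬ (Odd ((2 * d) / c) ↔ Even (m / c))) ↔ (Even ((2 * d) / c) ↔ Even (m / c)) := by
      rw [← Nat.not_even_iff_odd]
      tauto
    constructor
    · rintro (⟨hρ, hcm, ⟨hlt, h0⟩ | ⟨he, hb⟩⟩ | ⟨h0, h'⟩)
      · refine Or.inr (Or.inr (Or.inr ⟨hrp, hr3, hev, Or.inr ⟨hρ, hcm, ?_⟩⟩))
        rcases Nat.eq_zero_or_pos (m % c) with h' | h'
        · exact Or.inr (Or.inl ⟨h', h0 h'⟩)
        · exact Or.inl ⟨h', hlt⟩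
      · refine Or.inr (Or.inr (Or.inr ⟨hrp, hr3, hev, Or.inr ⟨hρ, hcm, Or.inr (Or.inr ⟨he, ?_⟩)⟩⟩))
        rw [hdiv he, Nat.even_add]
        exact hsw.1 hb
      · exact Or.inr (Or.inr (Or.inr ⟨hrp, hr3, hev, Or.inl ⟨h0, h'⟩⟩))
    · rintro (h' | h' | ⟨-, -, ho, -⟩ | ⟨-, -, -, ⟨h0, h'⟩ | ⟨hρ, hcm, h'⟩⟩)
      · omega
      · omega
      · exact ho.elim
      · exact Or.inr ⟨h0, h'⟩
      · rcases h' with ⟨hp0, hlt⟩ | ⟨h0, hM⟩ | ⟨he, hsum⟩
        · exact Or.inl ⟨hρ, hcm, Or.inl ⟨hlt, fun h'' => by omega⟩⟩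
        · exact Or.inl ⟨hρ, hcm, Or.inl ⟨by omega, fun _ => hM⟩⟩
        · refine Or.inl ⟨hρ, hcm, Or.inr ⟨he, ?_⟩⟩
          rw [hdiv he, Nat.even_add] at hsum
          exact hsw.2 hsum
  · have ho := Nat.not_even_iff_odd.1 hev
    simp only [ho, true_or, htp, iff_true, false_iff, not_true, not_false_iff, and_false, or_false, and_true, false_or]
    constructor
    · rintro (⟨hρ, hcm, ⟨hlt, h0⟩ | he⟩ | h0)
      · exact Or.inr (Or.inr (Or.inl ⟨hrp, hr3, trivial, Or.inr ⟨hcm, Nat.pos_of_ne_zero h0, hlt.le⟩⟩))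
      · exact Or.inr (Or.inr (Or.inl ⟨hrp, hr3, trivial, Or.inr ⟨hcm, by omega, he.le⟩⟩))
      · exact Or.inr (Or.inr (Or.inl ⟨hrp, hr3, trivial, Or.inl h0⟩))
    · rintro (h' | h' | ⟨-, -, -, h0 | ⟨hcm, hp0, hl⟩⟩ | ⟨-, -, he, -⟩)
      · omega
      · omega
      · exact Or.inr h0
      · refine Or.inl ⟨by omega, hcm, ?_⟩
        rcases hl.lt_or_eq with h' | h'
        · exact Or.inl ⟨h', by omega⟩
        · exact Or.inr h'
      · exact absurd he hev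

end Cfsg.Agent.S5990
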