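import Cfsg.Statements.S5991
-- import your own Cfsg.Agent.* helpers here
import Mathlib
import Cfsg.Agent.Lib.Perm.Elusive.OrthTwo
import Cfsg.Agent.Lib.Perm.Elusive.OrthStd
import Cfsg.Agent.Lib.Perm.Elusive.JordanMinus
import Cfsg.Agent.Lib.Perm.Elusive.OrthUnipotentClass

set_option autoImplicit false
set_option linter.all false
open scoped MatrixGroups
open Cfsg

namespace Cfsg.Agent.S5991

/-- Elements of prime order of PΩ⁻_n(q), q odd, with no fixed nondegenerate `m`-space of odd dimension. Here `T = PΩ⁻_n(F)`, `n = 2d ≥ 8`, realised through `Ω⁻_n(q)`, the commutator subgroup of the isometry group of `Q = Σ_{i<d−1} xᵢyᵢ + z₁² + a z₁z₂ + b z₂²` with `z₁² + a z₁z₂ + b z₂²` anisotropic, over the field `F` with `q` elements; an element of `T` of prime order `r` is an element `x` of `Ω⁻_n(q)` with `x^r` scalar and `x` not scalar; `q` and `m` are odd, `1 ≤ m < n/2`. The nondegenerate `m`-spaces fall into two isometry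 classes, each an orbit of `T`, with equivalent actions; fix one such space `W₀` and let Ω be the set of nondegenerate `m`-spaces isometric to `W₀`. Let `r` be a prime dividing the size of Ω; for `r ≠ p` let `i` be the multiplicative order of `q` modulo `r`, `c = i` for `i` even and `c = 2i` for `i` odd, and write `k = n mod c`, `ℓ = m mod i`, `ℓ' = m mod c`, `n' = ⌊n/i⌋`, `m' = ⌊m/i⌋`, `t = (r−1)/i`. Then every element of `T` of order `r` fixes a member of Ω if and only if one of: (i) `r = 2` and (`n ≡ 0 (mod 4)` or `q ≢ 7 (mod 8)`); (ii) `r ≠ p` odd, `i` odd, and `k = 0` or (`c ≤ m` and `k > ℓ' > 0`); (iii) `r ≠ p` odd, `i` even, and either `k = 0` and `n/i` even, or `k > 0`, `i ≤ m` and `k > ℓ' > 0`. (For `r = p` there is always an element of order `p` fixing no member of Ω.) -/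
theorem result {F : Type*} [Field F] [Fintype F] {p : ℕ} [Fact p.Prime] [CharP F p] {q : ℕ} (hq : Fintype.card F = q)
    (hodd : Odd q) (d m : ℕ) (hd : 4 ≤ d) (hm : Odd m) (hmd : m < d) (a b : F) (hab : ∀ x y : F, x ^ 2 + a * x * y + b * y ^ 2 = 0 → x = 0 ∧ y = 0)
    (W₀ : Submodule F ((Fin (d - 1) ⊕ Fin (d - 1)) ⊕ Fin 2 → F)) (hW₀ : Module.finrank F ↥W₀ = m ∧ Cfsg.Geo.IsNondegenerateOn (QuadraticMap.polar (Cfsg.quadFormMinus (d - 1) F a b)) W₀)
    (r : ℕ) [Fact r.Prime]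
    (hrΩ : r ∣ Nat.card {W : Submodule F ((Fin (d - 1) ⊕ Fin (d - 1)) ⊕ Fin 2 → F) // Module.finrank F ↥W = m ∧ Cfsg.Geo.IsNondegenerateOn (QuadraticMap.polar (Cfsg.quadFormMinus (d - 1) F a b)) W ∧ Cfsg.Geo.AreIsometricFor (Cfsg.quadFormMinus (d - 1) F a b) W W₀})
    (i c : ℕ) (hi : i = orderOf (q : ZMod r)) (hc : c = if Even i then i else 2 * i) :
    (∀ x : GL ((Fin (d - 1) ⊕ Fin (d - 1)) ⊕ Fin 2) F, x ∈ Cfsg.Geo.omegaGL (Cfsg.quadFormMinus (d - 1) F a b) →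
      (∃ z : F, ((x ^ r : GL ((Fin (d - 1) ⊕ Fin (d - 1)) ⊕ Fin 2) F) : Matrix ((Fin (d - 1) ⊕ Fin (d - 1)) ⊕ Fin 2) ((Fin (d - 1) ⊕ Fin (d - 1)) ⊕ Fin 2) F) = z • (1 : Matrix ((Fin (d - 1) ⊕ Fin (d - 1)) ⊕ Fin 2) ((Fin (d - 1) ⊕ Fin (d - 1)) ⊕ Fin 2) F)) →
      (∀ z : F, (x : Matrix ((Fin (d - 1) ⊕ Fin (d - 1)) ⊕ Fin 2) ((Fin (d - 1) ⊕ Fin (d - 1)) ⊕ Fin 2) F) ≠ z • (1 : Matrix ((Fin (d - 1) ⊕ Fin (d - 1)) ⊕ Fin 2) ((Fin (d - 1) ⊕ Fin (d - 1)) ⊕ Fin 2) F)) →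
      ∃ W : Submodule F ((Fin (d - 1) ⊕ Fin (d - 1)) ⊕ Fin 2 → F), (Module.finrank F ↥W = m ∧ Cfsg.Geo.IsNondegenerateOn (QuadraticMap.polar (Cfsg.quadFormMinus (d - 1) F a b)) W ∧ Cfsg.Geo.AreIsometricFor (Cfsg.quadFormMinus (d - 1) F a b) W W₀) ∧ W.map (Matrix.toLin' (x : Matrix ((Fin (d - 1) ⊕ Fin (d - 1)) ⊕ Fin 2) ((Fin (d - 1) ⊕ Fin (d - 1)) ⊕ Fin 2) F)) ≤ W) ↔
    ((r = 2 ∧ (Even d ∨ q % 8 ≠ 7)) ∨
     (r ≠ p ∧ 2 < r ∧ Odd i ∧ ((2 * d) % c = 0 ∨ (c ≤ m ∧ 0 < m % c ∧ m % c < (2 * d) % c))) ∨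
     (r ≠ p ∧ 2 < r ∧ Even i ∧ (((2 * d) % c = 0 ∧ Even ((2 * d) / i)) ∨ (0 < (2 * d) % c ∧ i ≤ m ∧ 0 < m % c ∧ m % c < (2 * d) % c)))) := by
  classical
  subst hq
  have h2 : (2 : F) ≠ 0 := CfsgLib.Orth.two_ne_zero_of_odd hodd
  obtain ⟨Q, hQdef⟩ : ∃ Q, Q = CfsgLib.Classical.minusQ (d - 1) F a b := ⟨_, rfl⟩
  have hQc : Cfsg.quadFormMinus (d - 1) F a b = ⇑Q := by rw [hQdef, CfsgLib.Classical.minusQ_coe]
  have hQ : (QuadraticMap.polarBilin Q).Nondegenerate := hQdef ▸ CfsgLib.Classical.minusQ_nondeg hab (d - 1)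
  have htp : ¬ CfsgLib.Perm.Elusive.QPlus Q ⊤ := hQdef ▸ CfsgLib.Perm.Elusive.not_qplus_top_minusQ hab
  have hcard : Fintype.card ((Fin (d - 1) ⊕ Fin (d - 1)) ⊕ Fin 2) = 2 * d := by
    rw [Fintype.card_sum, Fintype.card_sum, Fintype.card_fin, Fintype.card_fin]; omega
  have hV : Module.finrank F ((Fin (d - 1) ⊕ Fin (d - 1)) ⊕ Fin 2 → F) = 2 * d := by
    rw [Module.finrank_fintype_fun_eq_card, hcard]
  rw [hQc] at hW₀ hrΩ ⊢
  simp only [CfsgLib.Perm.Elusive.nd_on_iff, Cfsg.Geo.AreIsometricFor] at hW₀ hrΩ ⊢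
  obtain ⟨hW₀f, hW₀n⟩ := hW₀
  obtain ⟨h, hh⟩ := id hm
  have hqo := Nat.odd_iff.1 hodd
  by_cases hr2 : r = 2
  · subst hr2
    obtain ⟨hs1, hs2⟩ := CfsgLib.Perm.Elusive.square_congr (F := F) hodd
    rw [CfsgLib.Perm.Elusive.two_elusive_iff h2 hQ hcard (by omega)]
    swap
    · intro T' hI' hT' hT1 hT2
      obtain ⟨W, hW, hWn, hWf, e, he⟩ := CfsgLib.Perm.Elusive.invol_fixed h2 hQ hI' hT' hT1 hT2 (by omega) hW₀n
        (by omega) (by omega)
      exact ⟨W, ⟨by omega, hWn, e, he⟩, hW⟩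
    constructor
    · intro hL
      refine Or.inl ⟨rfl, ?_⟩
      by_contra hno
      push Not at hno
      obtain ⟨hdo, hq8⟩ := hno
      have hns : ¬ IsSquare (-1 : F) := fun h' => by have := hs1.1 h'; omega
      obtain ⟨d', hd'⟩ : ∃ d', d = d' + 1 := ⟨d - 1, by omega⟩
      have hiff : CfsgLib.Perm.Elusive.QPlus Q ⊤ ↔ IsSquare (-1 : F) ∨ Even d :=
        iff_of_false htp fun h' => h'.elim hns hdo
      obtain ⟨T', hI', hT'⟩ := CfsgLib.Perm.Elusive.negsq_exists h2 hQ (d := d') (by rw [hV, hd']) (hd' ▸ hiff)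
      obtain ⟨W, ⟨hWf, hWn, -⟩, hW⟩ := hL ⟨hiff, Or.inr (hs2.2 (Or.inr hq8))⟩ T' hI' hT'
      obtain ⟨k, hk, -⟩ := CfsgLib.Perm.Elusive.negsq_sub h2 hI' hT' hW hWn
      omega
    · rintro (⟨-, h'⟩ | ⟨-, h', -⟩ | ⟨-, h', -⟩) hex
      · have hns : ¬ (IsSquare (-1 : F) ∨ Even d) := fun h'' => htp (hex.1.2 h'')
        have h8 := hs2.1 (hex.2.resolve_left fun h'' => hns (Or.inr h''))
        have h4 : Fintype.card F % 4 ≠ 1 := fun h'' => hns (Or.inl (hs1.2 h''))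
        rcases h' with h' | h'
        · exact absurd (Or.inr h') hns
        · omega
      · omega
      · omega
  have hr3 : 2 < r := by have := (Fact.out : r.Prime).two_le; omega
  by_cases hrp : r = p
  · subst hrp
    refine iff_of_false (fun hL => ?_) (by omega)
    rcases Nat.even_or_odd d with hde | hdo
    · obtain ⟨T, hI, hTp, hT1, hno⟩ := CfsgLib.Perm.Elusive.exists_unipotent_no_class (p := r) h2 (by omega) hQ hV hde
        (by omega) hm (by omega) hW₀n hW₀f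
      obtain ⟨W, ⟨-, hWn, e, he⟩, hW⟩ := (CfsgLib.Perm.Elusive.elusive_scalar_iff hr2 hQ (by omega) _).1 hL T hI hTp hT1
      exact hno W hW hWn e he
    have hd2 := Nat.odd_iff.1 hdo
    have hrc : ringChar F ≠ 2 := by rw [ringChar.eq F r]; exact hr2
    obtain ⟨γ, hγs⟩ := FiniteField.exists_nonsquare hrc
    have hγ : ∀ s : F, s * s ≠ γ := fun s h' => hγs ⟨s, h'.symm⟩
    obtain ⟨x, k, hx, hk, hsum, hbad⟩ : ∃ x k : ℕ, (x = 1 ∨ x = 3) ∧ Even (2 * k) ∧
        4 * k + 2 * x = 2 * d ∧ ∀ u v : ℕ, Even u → v ≤ 2 → u * 2 + v * x ≠ m := by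
      have hm2 := Nat.odd_iff.1 hm
      rcases (by omega : m % 4 = 3 ∨ m % 4 = 1) with h4 | h4
      · exact ⟨1, (d - 1) / 2, Or.inl rfl, even_two_mul _, by omega, fun u v ⟨u', hu⟩ hv => by omega⟩
      · exact ⟨3, (d - 3) / 2, Or.inr rfl, even_two_mul _, by omega, fun u v ⟨u', hu⟩ hv => by omega⟩
    obtain ⟨μ, hμdef⟩ : ∃ μ : Multiset ℕ,
        μ = Multiset.replicate k 2 + Multiset.replicate k 2 + Multiset.replicate 2 x := ⟨_, rfl⟩
    have hμs : μ.sum = 2 * d := by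
      rw [hμdef, Multiset.sum_add, Multiset.sum_add, Multiset.sum_replicate, Multiset.sum_replicate, smul_eq_mul, smul_eq_mul]
      omega
    have hμmem : ∀ e ∈ μ, e = 2 ∨ e = x := fun e he => by
      rw [hμdef] at he
      rcases Multiset.mem_add.1 he with h' | h'
      · rcases Multiset.mem_add.1 h' with h'' | h'' <;> exact Or.inl (Multiset.eq_of_mem_replicate h'')
      · exact Or.inr (Multiset.eq_of_mem_replicate h')
    obtain ⟨ι', inst, B, T, R, hcι, hsym, hN, hT, hR, hTp, hrev, hnil, hcnt, -, hminus⟩ :=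
      CfsgLib.Perm.Elusive.exists_orth_split (p := r) h2 (Multiset.replicate k 2) (Multiset.replicate 2 x)
        (fun e he => by
          have := hμmem e (hμdef ▸ he)
          omega)
        (fun e he => by
          rw [Multiset.eq_of_mem_replicate he]
          rcases hx with rfl | rfl <;> decide)
        (show γ ≠ 0 from fun h' => hγ 0 (by rw [h', mul_zero]))
    obtain ⟨z₁, z₂, U, h11, h22, h12, hUz, hU, hUd⟩ := hminus (by simp) (by simp)
    rw [← hμdef, hμs] at hcι hUd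
    rw [← hμdef] at hcnt hnil
    obtain ⟨φ, hφ⟩ := CfsgLib.Perm.Elusive.exists_minus_equiv hsym hN h2 (n := d - 1) (by
      rw [Module.finrank_fintype_fun_eq_card, hcι]; omega) hγ h11 h22 h12 hUz hU (by omega) hab
    have hT1 : T ≠ 1 := fun hT1 => by
      have h0 : ∀ j, 1 ≤ j → CfsgLib.Perm.Elusive.powRank (T - 1) ⊤ j = 0 := fun j hj => by
        rw [CfsgLib.Perm.Elusive.powRank, hT1, sub_self, zero_pow (by omega), Submodule.map_zero, finrank_bot]
      have hc' := hcnt 2 (by omega)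
      rw [CfsgLib.Perm.Elusive.blockMult, h0 (2 - 1) le_rfl, h0 (2 - 1 + 1) (by omega), h0 (2 - 1 + 2) (by omega)] at hc'
      rw [hμdef, Multiset.count_add, Multiset.count_add, Multiset.count_replicate, if_pos rfl,
        Multiset.count_replicate] at hc'
      omega
    obtain ⟨g, hgΩ, hgo, hgφ, hpol⟩ := CfsgLib.Perm.Elusive.exists_omega_elem (p := r) h2 (⇑Q) hsym hN hT hR hTp hrev
      hT1 φ (l := 1) (fun v => by rw [← hQc, hφ, one_mul])
    have hgp : g ^ r = 1 := by rw [← hgo, pow_orderOf_eq_one]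
    obtain ⟨W, ⟨hWd, hWn, -⟩, hW⟩ := (CfsgLib.Perm.Elusive.elusive_scalar_iff hr2 hQ (by omega) _).1 hL
      (Matrix.toLin' (g : Matrix _ _ F))
      (fun v => by
        rw [Matrix.toLin'_apply]
        exact CfsgLib.Classical.mem_isometryGroup_iff.1 (CfsgLib.Perm.Elusive.mem_iso_of_omega hgΩ) v)
      (by rw [← Matrix.toLin'_pow, ← Units.val_pow_eq_pow_val, hgp, Units.val_one, Matrix.toLin'_one]; rfl)
      (fun e => by
        have h1 : g = 1 := Units.ext (Matrix.toLin'.injective (e.trans (by rw [Units.val_one, Matrix.toLin'_one]; rfl)))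
        rw [h1, orderOf_one] at hgo
        exact (Fact.out : r.Prime).ne_one hgo.symm)
    obtain ⟨W', hW'⟩ : ∃ W', W' = W.comap φ.toLinearMap := ⟨_, rfl⟩
    have hmem : ∀ u, u ∈ W' ↔ φ u ∈ W := fun u => by rw [hW']; rfl
    have hW'T : ∀ u ∈ W', T u ∈ W' := fun u hu => by
      rw [hmem, ← hgφ, ← Matrix.toLin'_apply]
      exact hW _ ((hmem u).1 hu)
    have hW'd : Module.finrank F W' = m := by
      rw [← hWd, ← LinearEquiv.finrank_map_eq φ W', hW', Submodule.map_comap_eq_of_surjective φ.surjective]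
    obtain ⟨hle, hνs, hνe⟩ := CfsgLib.Perm.Elusive.sub_partition_blocks (B := B) (ε := 1) (fun u v => by rw [one_mul, hsym])
      h2 hN T hT (hnil r fun e he => by have := hμmem e he; omega)
      (bad := fun e => Even e) (fun e he h1 => by
        rw [one_mul]
        obtain ⟨w, hw⟩ := he
        exact Odd.neg_one_pow ⟨w - 1, by omega⟩)
      (μ := μ) (fun e h1 _ => hcnt e h1) (W := W') hW'T
      (fun u hu hu0 => by
        obtain ⟨y, hy, hne'⟩ := (CfsgLib.Perm.Elusive.qnd_iff Q W).1 hWn (φ u) ((hmem u).1 hu)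
          (fun h' => hu0 (φ.map_eq_zero_iff.1 h'))
        obtain ⟨v, rfl⟩ := φ.surjective y
        refine ⟨v, (hmem v).2 hy, fun h' => hne' ?_⟩
        rw [hpol, h', mul_zero])
    obtain ⟨ν, hνdef⟩ : ∃ ν, ν = CfsgLib.Perm.Elusive.blockParts (T - 1) W' r := ⟨_, rfl⟩
    rw [← hνdef] at hle hνs hνe
    have hx2 : x ≠ 2 := by omega
    have hs : ν.toFinset ⊆ {2, x} := fun e he => by
      rw [Finset.mem_insert, Finset.mem_singleton]
      exact hμmem e (Multiset.mem_of_le hle (Multiset.mem_toFinset.1 he))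
    have hcx : ν.count x ≤ 2 := (Multiset.count_le_of_le x hle).trans (by
      rw [hμdef, Multiset.count_add, Multiset.count_add, Multiset.count_replicate, if_neg hx2.symm,
        Multiset.count_replicate, if_pos rfl])
    refine hbad _ _ (hνe 2 even_two) hcx ?_
    rw [← hW'd, ← hνs, Finset.sum_multiset_count_of_subset ν {2, x} hs, Finset.sum_pair hx2.symm, smul_eq_mul, smul_eq_mul]
  rw [CfsgLib.Perm.Elusive.elusive_scalar_iff hr2 hQ (by omega)]
  rw [CfsgLib.Perm.Elusive.odd_elusive_iff (p := p) hrp hr2 h2 hQ hi hc hV (even_two_mul d) hm (by omega) hW₀f hW₀n hrΩ]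
  simp only [htp, false_iff, not_not]
  obtain ⟨hipos, hcpos, -, -⟩ := CfsgLib.Perm.Elusive.block_power (F := F) (p := p) hrp hr2 hi hc
  have hl0 : 0 < m % c := Nat.pos_of_ne_zero fun h0 => by
    obtain ⟨t, ht⟩ := Nat.dvd_of_mod_eq_zero h0
    have hce : Even c := by rw [hc]; split_ifs with hev; exacts [hev, even_two_mul i]
    exact Nat.not_even_iff_odd.2 hm (ht ▸ hce.mul_right t)
  by_cases hev : Even i
  · rw [if_pos hev] at hc
    subst hc
    have hno : ¬ Odd c := Nat.not_odd_iff_even.2 hev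
    simp only [hno, false_or]
    constructor
    · rintro (⟨hρ, hcm, hlt⟩ | h')
      · exact Or.inr (Or.inr ⟨hrp, hr3, hev, Or.inr ⟨hρ, hcm, hl0, hlt⟩⟩)
      · exact Or.inr (Or.inr ⟨hrp, hr3, hev, Or.inl h'⟩)
    · rintro (h' | ⟨-, -, hf, -⟩ | ⟨-, -, -, h' | ⟨hρ, hcm, -, hlt⟩⟩)
      · omega
      · exact hf.elim
      · exact Or.inr h'
      · exact Or.inl ⟨hρ, hcm, hlt⟩
  · have ho := Nat.not_even_iff_odd.1 hev
    simp only [ho, true_or, and_true]
    constructor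
    · rintro (⟨hρ, hcm, hlt⟩ | h0)
      · exact Or.inr (Or.inl ⟨hrp, hr3, trivial, Or.inr ⟨hcm, hl0, hlt⟩⟩)
      · exact Or.inr (Or.inl ⟨hrp, hr3, trivial, Or.inl h0⟩)
    · rintro (h' | ⟨-, -, -, h0 | ⟨hcm, -, hlt⟩⟩ | ⟨-, -, he, -⟩)
      · omega
      · exact Or.inr h0
      · exact Or.inl ⟨by omega, hcm, hlt⟩
      · exact absurd he hev

end Cfsg.Agent.S5991
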