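import Cfsg.Statements.S5993
-- import your own Cfsg.Agent.* helpers here
import Mathlib
import Cfsg.Agent.Lib.Perm.Elusive.OrthTwo
import Cfsg.Agent.Lib.Perm.Elusive.OrthUnipotent

set_option autoImplicit false
set_option linter.all false
open scoped MatrixGroups
open Cfsg

namespace Cfsg.Agent.S5993

/-- Elements of prime order of Ω_n(q), nq odd, with no fixed elliptic `m`-space. Here `T = Ω_n(F)`, `n = 2d+1 ≥ 7`, `q` odd, realised as the commutator subgroup of the isometry group of `Q = x₀² + Σ xᵢyᵢ` over the field `F` with `q` elements (trivial centre, so its elements of prime order `r` are used directly); a nondegenerate `m`-space (even `m`) is a subspace on which the polar form of `Q` is nondegenerate; it is hyperbolic if it contains an `m/2`-dimensional subspace on which `Q` vanishes, elliptic otherwise. Let `m` be even with `2 ≤ m ≤ n − 1` (no restriction `m < n/2`) and let `r` be a prime dividing the number of elliptic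 `m`-spaces; for `r ≠ p` let `i` be the multiplicative order of `q` modulo `r`, `c = i` for `i` even and `c = 2i` for `i` odd, and write `k = n mod c`, `ℓ' = m mod c`. Then every element of `T` of order `r` fixes some elliptic `m`-space if and only if `r = 2`, or `r ≠ p` is odd and one of: (i) `i` odd, `c ≤ m` and `k > ℓ' > 0`; (ii) `i` even, `i ≤ m`, `k > ℓ'`, and `m/i` odd whenever `ℓ' = 0`. (For `r = p` there is always an element of order `p` fixing no elliptic `m`-space.) -/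
theorem result {F : Type*} [Field F] [Fintype F] {p : ℕ} [Fact p.Prime] [CharP F p] {q : ℕ} (hq : Fintype.card F = q) (hqodd : Odd q)
    (d m : ℕ) (hd : 3 ≤ d) (hm : 2 ≤ m) (hme : Even m) (hmn : m ≤ 2 * d)
    (r : ℕ) [Fact r.Prime]
    (hrΩ : r ∣ Nat.card {W : Submodule F (Unit ⊕ (Fin d ⊕ Fin d) → F) // Module.finrank F ↥W = m ∧ Cfsg.Geo.IsNondegenerateOn (QuadraticMap.polar (Cfsg.quadFormOdd d F)) W ∧ ¬ Cfsg.Geo.IsPlusTypeOn (Cfsg.quadFormOdd d F) W})
    (i c : ℕ) (hi : i = orderOf (q : ZMod r)) (hc : c = if Even i then i else 2 * i) :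
    (∀ x : GL (Unit ⊕ (Fin d ⊕ Fin d)) F, x ∈ Cfsg.Geo.omegaGL (Cfsg.quadFormOdd d F) → orderOf x = r →
      ∃ W : Submodule F (Unit ⊕ (Fin d ⊕ Fin d) → F), (Module.finrank F ↥W = m ∧ Cfsg.Geo.IsNondegenerateOn (QuadraticMap.polar (Cfsg.quadFormOdd d F)) W ∧ ¬ Cfsg.Geo.IsPlusTypeOn (Cfsg.quadFormOdd d F) W) ∧ W.map (Matrix.toLin' (x : Matrix (Unit ⊕ (Fin d ⊕ Fin d)) (Unit ⊕ (Fin d ⊕ Fin d)) F)) ≤ W) ↔
    (r = 2 ∨
     (r ≠ p ∧ 2 < r ∧ Odd i ∧ c ≤ m ∧ 0 < m % c ∧ m % c < (2 * d + 1) % c) ∨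
     (r ≠ p ∧ 2 < r ∧ Even i ∧ i ≤ m ∧ m % c < (2 * d + 1) % c ∧ (0 < m % c ∨ Odd (m / i)))) := by
  classical
  subst hq
  have h2 : (2 : F) ≠ 0 := CfsgLib.Orth.two_ne_zero_of_odd hqodd
  obtain ⟨Q, hQdef⟩ : ∃ Q, Q = CfsgLib.Classical.oddQ d F := ⟨_, rfl⟩
  have hQc : Cfsg.quadFormOdd d F = ⇑Q := by rw [hQdef, CfsgLib.Classical.oddQ_coe]
  have hQ : (QuadraticMap.polarBilin Q).Nondegenerate := hQdef ▸ CfsgLib.Classical.oddQ_nondeg h2 d
  have hcard : Fintype.card (Unit ⊕ (Fin d ⊕ Fin d)) = 2 * d + 1 := by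
    rw [Fintype.card_sum, Fintype.card_sum, Fintype.card_unit, Fintype.card_fin]; omega
  have hV : Module.finrank F (Unit ⊕ (Fin d ⊕ Fin d) → F) = 2 * d + 1 := by
    rw [Module.finrank_fintype_fun_eq_card, hcard]
  rw [hQc] at hrΩ ⊢
  simp only [CfsgLib.Perm.Elusive.nd_on_iff, CfsgLib.Perm.Elusive.plus_on_iff] at hrΩ ⊢
  by_cases hr2 : r = 2
  · subst hr2
    refine iff_of_true (fun x hx hxo => ?_) (Or.inl rfl)
    obtain ⟨h, hh⟩ := hme
    obtain ⟨W₀, -, hW₀, hW₀f, hW₀p⟩ := CfsgLib.Perm.Elusive.exists_sub_type (CfsgLib.Perm.Elusive.qnd_top hQ) (h := h)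
      (by omega) (by rw [finrank_top, hV]; omega) False
    obtain ⟨W, ⟨h1, h2', e, he⟩, hW⟩ := CfsgLib.Perm.Elusive.order_two_fixed h2 hQ (by omega)
      ⟨d, hcard⟩ hW₀ (by omega) (by omega) hx hxo
    exact ⟨W, ⟨by omega, h2', fun hp => hW₀p.1 ((CfsgLib.Perm.Elusive.qplus_iso_iff e he).1 hp)⟩, hW⟩
  have hr3 : 2 < r := by have := (Fact.out : r.Prime).two_le; omega
  rw [CfsgLib.Perm.Elusive.elusive_order_iff hr2 hQ (by omega)]
  by_cases hrp : r = p
  · subst hrp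
    refine iff_of_false (fun hL => ?_) (by omega)
    obtain ⟨T, hI, hT, -, hR2, hR1, -⟩ := CfsgLib.Perm.Elusive.exists_odd_unipotent (F := F) (p := r) h2 (by omega) d
    have hI' : ∀ v, Q (T v) = Q v := fun v => by rw [← hQc]; exact hI v
    have hT1 : T ≠ 1 := fun h => by
      rw [h, sub_self, CfsgLib.Perm.Elusive.powRank, pow_one, Submodule.map_zero, finrank_bot] at hR1
      omega
    obtain ⟨W, ⟨hWf, hWn, hWp⟩, hW⟩ := hL T hI' hT hT1
    obtain ⟨h, hh⟩ := hme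
    exact hWp (CfsgLib.Perm.Elusive.long_block_plus h2 hI' (CfsgLib.Perm.Elusive.injective_of_pow_eq_one (r := r) hT)
      hV (by omega) (by omega) hW hWn (h := h) (by omega))
  have hiff := CfsgLib.Perm.Elusive.even_elusive_iff (p := p) hrp hr2 hQ hi hc False hV hme (by omega) (by omega)
    (by simpa only [iff_false] using hrΩ)
  simp only [iff_false] at hiff
  rw [hiff]
  obtain ⟨-, hcpos, hce, -⟩ := CfsgLib.Perm.Elusive.block_power (F := F) (p := p) hrp hr2 hi hc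
  obtain ⟨c', hc'⟩ := hce
  have hρ : (2 * d + 1) % c % 2 = 1 := by rw [Nat.mod_mod_of_dvd _ ⟨c', by omega⟩]; omega
  have hl : m % c % 2 = 0 := by
    obtain ⟨h, hh⟩ := hme
    rw [Nat.mod_mod_of_dvd _ ⟨c', by omega⟩]; omega
  by_cases hev : Even i
  · rw [if_pos hev] at hc
    subst hc
    have hno : ¬ Odd c := Nat.not_odd_iff_even.2 hev
    constructor
    · rintro (⟨-, hcm, (⟨hlt, h0⟩ | ⟨he, -⟩)⟩ | ⟨h0, -⟩)
      · refine Or.inr (Or.inr ⟨hrp, hr3, hev, hcm, hlt, ?_⟩)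
        rcases Nat.eq_zero_or_pos (m % c) with h | h
        · exact Or.inr (Nat.not_even_iff_odd.1 fun h' => (h0 h).2 (Or.inr h'))
        · exact Or.inl h
      · omega
      · omega
    · rintro (h | ⟨-, -, ho, -⟩ | ⟨-, -, -, hcm, hlt, h⟩)
      · omega
      · exact absurd ho hno
      · refine Or.inl ⟨by omega, hcm, Or.inl ⟨hlt, fun h0 => iff_of_false id ?_⟩⟩
        rintro (h' | h')
        · exact hno h'
        · exact Nat.not_even_iff_odd.2 (h.resolve_left (by omega)) h'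
  · have ho := Nat.not_even_iff_odd.1 hev
    constructor
    · rintro (⟨-, hcm, (⟨hlt, h0⟩ | ⟨he, -⟩)⟩ | ⟨h0, -⟩)
      · exact Or.inr (Or.inl ⟨hrp, hr3, ho, hcm, Nat.pos_of_ne_zero fun h => (h0 h).2 (Or.inl ho), hlt⟩)
      · omega
      · omega
    · rintro (h | ⟨-, -, -, hcm, hpos, hlt⟩ | ⟨-, -, he, -⟩)
      · omega
      · exact Or.inl ⟨by omega, hcm, Or.inl ⟨hlt, fun h => by omega⟩⟩
      · exact absurd he hev

end Cfsg.Agent.S5993
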