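import Cfsg.Statements.S5994
-- import your own Cfsg.Agent.* helpers here
import Mathlib
import Cfsg.Agent.Lib.Perm.Elusive.JordanMinus

set_option autoImplicit false
set_option linter.all false
open scoped MatrixGroups
open Cfsg

namespace Cfsg.Agent.S5994

/-- A necessary condition for every element of order p of PΩ⁻_n(q), q odd, to fix an elliptic `m`-space. Here `T = PΩ⁻_n(F)`, `n = 2d ≥ 8`, realised through `Ω⁻_n(q)`, the commutator subgroup of the isometry group of `Q = Σ_{i<d−1} xᵢyᵢ + z₁² + a z₁z₂ + b z₂²` with `z₁² + a z₁z₂ + b z₂²` anisotropic, over the field `F` with `q` elements; an element of `T` of prime order `r` is an element `x` of `Ω⁻_n(q)` with `x^r` scalar and `x` not scalar; `q` is odd; a nondegenerate `m`-space (even `m`) is a subspace on which the polar form of `Q` is nondegenerate; it is hyperbolic if it contains an `m/2`-dimensional subspace on which `Q` vanishes, elliptic otherwise. Let `m` be even with `2 ≤ m ≤ n − 2` and suppose `p` divides the number of elliptic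 `m`-spaces. If every element of `T` of order `p` fixes some elliptic `m`-space, then `n ≡ m (mod 4)` and every partition of `n` into parts of size at most `p` in which every even part has even multiplicity contains (as a sub-multiset) a partition of `m` in which every even part has even multiplicity. -/
theorem result {F : Type*} [Field F] [Fintype F] {p : ℕ} [Fact p.Prime] [CharP F p] {q : ℕ} (hq : Fintype.card F = q) (hqodd : Odd q)
    (d m : ℕ) (hd : 4 ≤ d) (hm : 2 ≤ m) (hme : Even m) (hmn : m + 2 ≤ 2 * d) (a b : F) (hab : ∀ x y : F, x ^ 2 + a * x * y + b * y ^ 2 = 0 → x = 0 ∧ y = 0)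
    (hpΩ : p ∣ Nat.card {W : Submodule F ((Fin (d - 1) ⊕ Fin (d - 1)) ⊕ Fin 2 → F) // Module.finrank F ↥W = m ∧ Cfsg.Geo.IsNondegenerateOn (QuadraticMap.polar (Cfsg.quadFormMinus (d - 1) F a b)) W ∧ ¬ Cfsg.Geo.IsPlusTypeOn (Cfsg.quadFormMinus (d - 1) F a b) W}) :
    (∀ x : GL ((Fin (d - 1) ⊕ Fin (d - 1)) ⊕ Fin 2) F, x ∈ Cfsg.Geo.omegaGL (Cfsg.quadFormMinus (d - 1) F a b) →
      (∃ z : F, ((x ^ p : GL ((Fin (d - 1) ⊕ Fin (d - 1)) ⊕ Fin 2) F) : Matrix ((Fin (d - 1) ⊕ Fin (d - 1)) ⊕ Fin 2) ((Fin (d - 1) ⊕ Fin (d - 1)) ⊕ Fin 2) F) = z • (1 : Matrix ((Fin (d - 1) ⊕ Fin (d - 1)) ⊕ Fin 2) ((Fin (d - 1) ⊕ Fin (d - 1)) ⊕ Fin 2) F)) →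
      (∀ z : F, (x : Matrix ((Fin (d - 1) ⊕ Fin (d - 1)) ⊕ Fin 2) ((Fin (d - 1) ⊕ Fin (d - 1)) ⊕ Fin 2) F) ≠ z • (1 : Matrix ((Fin (d - 1) ⊕ Fin (d - 1)) ⊕ Fin 2) ((Fin (d - 1) ⊕ Fin (d - 1)) ⊕ Fin 2) F)) →
      ∃ W : Submodule F ((Fin (d - 1) ⊕ Fin (d - 1)) ⊕ Fin 2 → F), (Module.finrank F ↥W = m ∧ Cfsg.Geo.IsNondegenerateOn (QuadraticMap.polar (Cfsg.quadFormMinus (d - 1) F a b)) W ∧ ¬ Cfsg.Geo.IsPlusTypeOn (Cfsg.quadFormMinus (d - 1) F a b) W) ∧ W.map (Matrix.toLin' (x : Matrix ((Fin (d - 1) ⊕ Fin (d - 1)) ⊕ Fin 2) ((Fin (d - 1) ⊕ Fin (d - 1)) ⊕ Fin 2) F)) ≤ W) →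
    ((2 * d) % 4 = m % 4 ∧ (∀ μ : Multiset ℕ, (∀ e ∈ μ, 0 < e ∧ e ≤ p) → (∀ e : ℕ, Even e → Even (μ.count e)) → μ.sum = 2 * d →
        ∃ ν : Multiset ℕ, ν ≤ μ ∧ ν.sum = m ∧ ∀ e : ℕ, Even e → Even (ν.count e))) := by
  classical
  intro hfixall
  have hp2 : p ≠ 2 := fun hp => by
    subst hp
    obtain ⟨k, hp', hk⟩ := FiniteField.card F 2
    rw [hq] at hk
    rw [hk] at hqodd
    exact Nat.not_even_iff_odd.2 hqodd ((Nat.even_pow' k.pos.ne').2 (by decide))
  have hp3 : 3 ≤ p := by have := (Fact.out : p.Prime).two_le; omega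
  have hrc : ringChar F ≠ 2 := by rw [ringChar.eq F p]; exact hp2
  have h2 : (2 : F) ≠ 0 := Ring.two_ne_zero hrc
  obtain ⟨γ, hγs⟩ := FiniteField.exists_nonsquare hrc
  have hγ : ∀ s : F, s * s ≠ γ := fun s h => hγs ⟨s, h.symm⟩
  have hparity : ∀ S : Multiset ℕ, (∀ x ∈ S, Odd x) → S.sum % 2 = S.card % 2 := fun S => by
    induction S using Multiset.induction_on with
    | empty => intro _; simp
    | cons x S ih =>
      intro hx
      have h1 := ih fun y hy => hx y (Multiset.mem_cons_of_mem hy)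
      have h2' := Nat.odd_iff.1 (hx x (Multiset.mem_cons_self x S))
      rw [Multiset.sum_cons, Multiset.card_cons]
      omega
  -- what a fixed elliptic subspace gives
  have hmain : ∀ P S : Multiset ℕ, (∀ x ∈ P + P + S, 0 < x ∧ x ≤ p) → (∀ x ∈ S, Odd x) → 2 ≤ S.card →
      (∀ e, Even e → Even ((P + P + S).count e)) → (P + P + S).sum = 2 * d → (∃ x ∈ P + P + S, x ≠ 1) →
      ∃ ν : Multiset ℕ, ν ≤ P + P + S ∧ ν.sum = m ∧ (∀ e, Even e → Even (ν.count e)) ∧
        ((∀ x ∈ P + P + S, x ≤ 2) → ν.count 1 ≠ 0) := by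
    intro P S hbd hodd hc2 hev hsum hne
    have hcard2 : Even S.card := by
      have h1 := hparity S hodd
      rw [Multiset.sum_add, Multiset.sum_add] at hsum
      exact Nat.even_iff.2 (by omega)
    have hγ0 : γ ≠ 0 := fun h => hγ 0 (by rw [h, mul_zero])
    obtain ⟨ι', inst, B, T, R, hc, hsym, hN, hT, hR, hTp, hrev, hnil, hcnt, -, hminus⟩ :=
      CfsgLib.Perm.Elusive.exists_orth_split (p := p) h2 P S hbd hodd hγ0
    obtain ⟨z₁, z₂, U, h11, h22, h12, hUz, hU, hUd⟩ := hminus hc2 hcard2
    obtain ⟨φ, hφ⟩ := CfsgLib.Perm.Elusive.exists_minus_equiv hsym hN h2 (n := d - 1) (by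
      rw [Module.finrank_fintype_fun_eq_card, hc, hsum]; omega) hγ h11 h22 h12 hUz hU (by omega) hab
    have hT1 : T ≠ 1 := fun hT1 => by
      obtain ⟨x, hx, hx1⟩ := hne
      have h0 : ∀ k, 1 ≤ k → CfsgLib.Perm.Elusive.powRank (T - 1) ⊤ k = 0 := fun k hk => by
        rw [CfsgLib.Perm.Elusive.powRank, hT1, sub_self, zero_pow (by omega), Submodule.map_zero, finrank_bot]
      have hpos := Multiset.count_pos.2 hx
      have := (hbd x hx).1
      have hc' := hcnt x this
      rw [CfsgLib.Perm.Elusive.blockMult, h0 (x - 1) (by omega), h0 (x - 1 + 2) (by omega)] at hc'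
      omega
    obtain ⟨g, hgΩ, hgo, hgφ, hpol⟩ := CfsgLib.Perm.Elusive.exists_omega_elem (p := p) h2
      (Cfsg.quadFormMinus (d - 1) F a b) hsym hN hT hR hTp hrev hT1 φ (l := 1) (fun v => by rw [hφ, one_mul])
    have hgp : g ^ p = 1 := by rw [← hgo, pow_orderOf_eq_one]
    obtain ⟨W, ⟨hWd, hWn, hWp⟩, hWi⟩ := hfixall g hgΩ ⟨1, by rw [one_smul, hgp, Units.val_one]⟩ (fun z hz => by
      have hne : g ≠ 1 := fun h1 => by rw [h1, orderOf_one] at hgo; exact (Fact.out : p.Prime).ne_one hgo.symm
      have hxp := congrArg Units.val hgp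
      rw [Units.val_pow_eq_pow_val, hz, _root_.smul_pow, one_pow, Units.val_one] at hxp
      have h := congrFun (congrFun hxp (Sum.inr 0)) (Sum.inr 0)
      have hzp : (z - 1) ^ p = 0 := by
        rw [sub_pow_char, one_pow, sub_eq_zero]
        simpa using h
      exact hne (Units.ext (by rw [hz, sub_eq_zero.1 (eq_zero_of_pow_eq_zero hzp), one_smul, Units.val_one])))
    obtain ⟨W', hW'⟩ : ∃ W', W' = W.comap φ.toLinearMap := ⟨_, rfl⟩
    have hmem : ∀ u, u ∈ W' ↔ φ u ∈ W := fun u => by rw [hW']; rfl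
    have hW'T : ∀ u ∈ W', T u ∈ W' := fun u hu => by
      rw [hmem, ← hgφ, ← Matrix.toLin'_apply]
      exact hWi ⟨φ u, (hmem u).1 hu, rfl⟩
    have hW'd : Module.finrank F W' = m := by
      rw [← hWd, ← LinearEquiv.finrank_map_eq φ W', hW', Submodule.map_comap_eq_of_surjective φ.surjective]
    obtain ⟨hle, hνs, hνe⟩ := CfsgLib.Perm.Elusive.sub_partition_blocks (B := B) (ε := 1) (fun u v => by rw [one_mul, hsym])
      h2 hN T hT (hnil p fun x hx => (hbd x hx).2)
      (bad := fun e => Even e) (fun e he h1 => by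
        rw [one_mul]
        obtain ⟨k, hk⟩ := he
        exact Odd.neg_one_pow ⟨k - 1, by omega⟩)
      (μ := P + P + S) (fun e h1 _ => hcnt e h1) (W := W') hW'T
      (fun u hu hu0 => by
        obtain ⟨-, y, hy, hne'⟩ := hWn (φ u) ((hmem u).1 hu) (fun h => hu0 (φ.map_eq_zero_iff.1 h))
        obtain ⟨v, rfl⟩ := φ.surjective y
        refine ⟨v, (hmem v).2 hy, fun h => hne' ?_⟩
        rw [hpol, h, mul_zero])
    refine ⟨_, hle, hνs.trans hW'd, hνe, fun hle2 h1 => hWp ?_⟩
    have hN2 : (T - 1) ^ 2 = 0 := hnil 2 hle2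
    have hmap : W'.map (T - 1) ≤ W' := by
      rintro _ ⟨u, hu, rfl⟩
      exact W'.sub_mem (hW'T u hu) hu
    rw [CfsgLib.Perm.Elusive.count_blockParts, if_pos ⟨le_rfl, by omega⟩, Nat.sub_self,
      CfsgLib.Perm.Elusive.blockMult, CfsgLib.Perm.Elusive.powRank_zero, hW'd] at h1
    have hR2 : CfsgLib.Perm.Elusive.powRank (T - 1) W' (0 + 2) = 0 := by
      rw [CfsgLib.Perm.Elusive.powRank, zero_add, hN2, Submodule.map_zero, finrank_bot]
    have hconv := CfsgLib.Perm.Elusive.powRank_convex (T - 1) hmap 0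
    rw [CfsgLib.Perm.Elusive.powRank_zero, hW'd, hR2] at hconv
    rw [hR2] at h1
    have hR1 : 2 * Module.finrank F (W'.map (T - 1)) = m := by
      have e1 : CfsgLib.Perm.Elusive.powRank (T - 1) W' (0 + 1) = Module.finrank F (W'.map (T - 1)) := by
        rw [CfsgLib.Perm.Elusive.powRank, zero_add, pow_one]
      rw [e1] at h1 hconv
      omega
    refine ⟨(W'.map (T - 1)).map (φ : (ι' → F) →ₗ[F] _), ?_, ?_, ?_⟩
    · rintro _ ⟨u, hu, rfl⟩
      exact (hmem u).1 (hmap hu)
    · rintro _ ⟨_, ⟨u, hu, rfl⟩, rfl⟩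
      have hfix : T ((T - 1) u) = (T - 1) u := by
        rw [← sub_eq_zero]
        show (T - 1) ((T - 1) u) = 0
        rw [← Module.End.mul_apply, ← sq, hN2, LinearMap.zero_apply]
      show Cfsg.quadFormMinus (d - 1) F a b (φ ((T - 1) u)) = 0
      rw [hφ]
      have h1' : B ((T - 1) u) (T u) = B ((T - 1) u) u := by
        conv_lhs => rw [← hfix]
        rw [hT]
      conv_lhs => arg 2; rw [LinearMap.sub_apply, Module.End.one_apply]
      rw [map_sub, h1', sub_self]
    · rw [LinearEquiv.finrank_map_eq, hR1, hWd]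
  obtain ⟨m', hm'⟩ := hme
  refine ⟨?_, fun μ hμ hev hsum => ?_⟩
  · -- the congruence
    have hcount : ∀ (ν : Multiset ℕ) (x : ℕ), x ≠ 2 → (∀ y ∈ ν, y = 2 ∨ y = x ∨ y = 1) → x ≠ 1 →
        ν.sum = ν.count 2 * 2 + (ν.count x * x + ν.count 1) := by
      intro ν x hx hν hx1
      have hsub : ν.toFinset ⊆ ({2, x, 1} : Finset ℕ) := fun y hy => by
        have := hν y (Multiset.mem_toFinset.1 hy)
        simp only [Finset.mem_insert, Finset.mem_singleton]
        exact this
      rw [Finset.sum_multiset_count_of_subset ν {2, x, 1} hsub, Finset.sum_insert (by simp [hx.symm]),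
        Finset.sum_pair hx1, smul_eq_mul, smul_eq_mul, smul_eq_mul, mul_one]
    rcases Nat.even_or_odd d with ⟨d', hd'⟩ | ⟨d', hd'⟩
    · obtain ⟨ν, hν, hνs, hνe, -⟩ := hmain (Multiset.replicate (d' - 1) 2) {3, 1} (fun x hx => by
          simp only [Multiset.mem_add, Multiset.mem_replicate, Multiset.insert_eq_cons, Multiset.mem_cons, Multiset.mem_singleton] at hx
          rcases hx with (⟨-, rfl⟩ | ⟨-, rfl⟩) | rfl | rfl <;> omega)
        (fun x hx => by
          simp only [Multiset.insert_eq_cons, Multiset.mem_cons, Multiset.mem_singleton] at hx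
          rcases hx with rfl | rfl <;> decide)
        (by simp) (fun e he => by
          rw [Multiset.count_add, Multiset.count_add]
          have : ({3, 1} : Multiset ℕ).count e = 0 := Multiset.count_eq_zero.2 (fun h => by
            simp only [Multiset.insert_eq_cons, Multiset.mem_cons, Multiset.mem_singleton] at h
            rcases h with rfl | rfl <;> exact absurd he (by decide))
          rw [this, add_zero]
          exact ⟨_, rfl⟩)
        (by simp; omega) ⟨3, by simp, by omega⟩
      have hmemν : ∀ y ∈ ν, y = 2 ∨ y = 3 ∨ y = 1 := fun y hy => by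
        have h := Multiset.mem_of_le hν hy
        simp only [Multiset.mem_add, Multiset.mem_replicate, Multiset.insert_eq_cons, Multiset.mem_cons, Multiset.mem_singleton] at h
        rcases h with (⟨-, h⟩ | ⟨-, h⟩) | h | h <;> omega
      have hs := hcount ν 3 (by omega) hmemν (by omega)
      have h3 := Multiset.count_le_of_le 3 hν
      have h1 := Multiset.count_le_of_le 1 hν
      simp [Multiset.count_replicate] at h3 h1
      obtain ⟨w, hw⟩ := hνe 2 (by decide)
      rcases Nat.le_one_iff_eq_zero_or_eq_one.1 h3 with h | h <;> rcases Nat.le_one_iff_eq_zero_or_eq_one.1 h1 with h' | h' <;>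
        rw [h, h'] at hs <;> omega
    · obtain ⟨ν, hν, hνs, hνe, hone⟩ := hmain (Multiset.replicate d' 2) {1, 1} (fun x hx => by
          simp only [Multiset.mem_add, Multiset.mem_replicate, Multiset.insert_eq_cons, Multiset.mem_cons, Multiset.mem_singleton] at hx
          rcases hx with (⟨-, rfl⟩ | ⟨-, rfl⟩) | rfl | rfl <;> omega)
        (fun x hx => by
          simp only [Multiset.insert_eq_cons, Multiset.mem_cons, Multiset.mem_singleton] at hx
          rcases hx with rfl | rfl <;> decide)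
        (by simp) (fun e he => by
          rw [Multiset.count_add, Multiset.count_add]
          have : ({1, 1} : Multiset ℕ).count e = 0 := Multiset.count_eq_zero.2 (fun h => by
            simp only [Multiset.insert_eq_cons, Multiset.mem_cons, Multiset.mem_singleton] at h
            rcases h with rfl | rfl <;> exact absurd he (by decide))
          rw [this, add_zero]
          exact ⟨_, rfl⟩)
        (by simp; omega) ⟨2, Multiset.mem_add.2 (Or.inl (Multiset.mem_add.2 (Or.inl (Multiset.mem_replicate.2 ⟨by omega, rfl⟩)))), by omega⟩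
      have hmemν : ∀ y ∈ ν, y = 2 ∨ y = 3 ∨ y = 1 := fun y hy => by
        have h := Multiset.mem_of_le hν hy
        simp only [Multiset.mem_add, Multiset.mem_replicate, Multiset.insert_eq_cons, Multiset.mem_cons, Multiset.mem_singleton] at h
        rcases h with (⟨-, h⟩ | ⟨-, h⟩) | h | h <;> omega
      have hs := hcount ν 3 (by omega) hmemν (by omega)
      have h3 := Multiset.count_le_of_le 3 hν
      have h1 := Multiset.count_le_of_le 1 hν
      simp [Multiset.count_replicate] at h3 h1
      have h0 := hone (fun x hx => by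
        simp only [Multiset.mem_add, Multiset.mem_replicate, Multiset.insert_eq_cons, Multiset.mem_cons, Multiset.mem_singleton] at hx
        rcases hx with (⟨-, rfl⟩ | ⟨-, rfl⟩) | rfl | rfl <;> omega)
      obtain ⟨w, hw⟩ := hνe 2 (by decide)
      have hc3 : ν.count 3 = 0 := Multiset.count_eq_zero.2 h3
      omega
  · -- sub-partitions
    by_cases hone : ∀ e ∈ μ, e = 1
    · have hμ' : μ = Multiset.replicate μ.card 1 := Multiset.eq_replicate.2 ⟨rfl, hone⟩
      refine ⟨Multiset.replicate m 1, ?_, by simp, fun e he => ?_⟩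
      · rw [hμ']
        refine (Multiset.replicate_le_replicate 1).2 ?_
        rw [hμ', Multiset.sum_replicate, smul_eq_mul, mul_one] at hsum
        omega
      · rw [Multiset.count_replicate, if_neg fun h1 => by rw [← h1] at he; exact Nat.not_even_one he]
        exact ⟨0, rfl⟩
    push Not at hone
    have hgen : ∀ μ : Multiset ℕ, (∀ e ∈ μ, 0 < e ∧ e ≤ p) → (∀ e, Even e → Even (μ.count e)) → μ.sum = 2 * d →
        (∃ x ∈ μ, x ≠ 1) → (∃ x ∈ μ, Odd x) → ∃ ν : Multiset ℕ, ν ≤ μ ∧ ν.sum = m ∧ ∀ e, Even e → Even (ν.count e) := by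
      intro μ hμ hev hsum hne hox
      obtain ⟨P, S, rfl, hS⟩ := CfsgLib.Perm.Elusive.split_multiset μ
      have hodd : ∀ x ∈ S, Odd x := fun x hx =>
        Nat.not_even_iff_odd.1 fun h => Nat.not_even_iff_odd.2 (hS x hx) (hev x h)
      have hpar : S.card % 2 = 0 := by
        rw [← hparity S hodd]
        rw [Multiset.sum_add, Multiset.sum_add] at hsum
        omega
      by_cases hc : 2 ≤ S.card
      · obtain ⟨ν, h1, h2', h3, -⟩ := hmain P S hμ hodd hc hev hsum hne
        exact ⟨ν, h1, h2', h3⟩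
      · obtain ⟨x, hx, hxo⟩ := hox
        have hS0 : S = 0 := Multiset.card_eq_zero.1 (by omega)
        subst hS0
        rw [add_zero] at hx ⊢
        have hxP : x ∈ P := by rcases Multiset.mem_add.1 hx with h | h <;> exact h
        have hre : P.erase x + P.erase x + ({x, x} : Multiset ℕ) = P + P := by
          conv_rhs => rw [← Multiset.cons_erase hxP]
          rw [Multiset.insert_eq_cons, ← Multiset.singleton_add, ← Multiset.singleton_add]
          abel
        obtain ⟨ν, h1, h2', h3, -⟩ := hmain (P.erase x) {x, x} (by rw [hre]; simpa using hμ) (fun y hy => by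
          simp only [Multiset.insert_eq_cons, Multiset.mem_cons, Multiset.mem_singleton] at hy
          rcases hy with rfl | rfl <;> exact hxo) (by simp) (by rw [hre]; simpa using hev) (by rw [hre]; simpa using hsum)
          (by rw [hre]; simpa using hne)
        rw [hre] at h1
        exact ⟨ν, h1, h2', h3⟩
    by_cases hox : ∃ x ∈ μ, Odd x
    · exact hgen μ hμ hev hsum hone hox
    push Not at hox
    -- all parts even: split one pair
    obtain ⟨e, he, -⟩ := hone
    obtain ⟨k, hk⟩ : Even e := Nat.not_odd_iff_even.1 (hox e he)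
    have hek := hμ e he
    have hep : e + 1 ≤ p := by
      rcases Nat.lt_or_ge e p with h | h
      · omega
      · obtain ⟨w, hw⟩ := (Fact.out : p.Prime).odd_of_ne_two hp2
        omega
    have hodd0 : ∀ y, Odd y → μ.count y = 0 := fun y hy => Multiset.count_eq_zero.2 fun h => hox y h hy
    have hece : Even (μ.count e) := hev e ⟨k, hk⟩
    have hce2 : 2 ≤ μ.count e := by
      have := Multiset.count_pos.2 he
      obtain ⟨w, hw⟩ := hece
      omega
    obtain ⟨μ₀, hμ₀⟩ : ∃ μ₀, μ = Multiset.replicate 2 e + μ₀ := Multiset.le_iff_exists_add.1 (Multiset.le_count_iff_replicate_le.1 hce2)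
    obtain ⟨μ', hμ'⟩ : ∃ μ', μ' = ({e - 1, e + 1} : Multiset ℕ) + μ₀ := ⟨_, rfl⟩
    have hoddpm : Odd (e - 1) ∧ Odd (e + 1) := ⟨⟨k - 1, by omega⟩, ⟨k, by omega⟩⟩
    obtain ⟨ν', hν', hν's, hν'e⟩ := hgen μ' (fun y hy => by
        rw [hμ'] at hy
        simp only [Multiset.mem_add, Multiset.insert_eq_cons, Multiset.mem_cons, Multiset.mem_singleton] at hy
        rcases hy with (rfl | rfl) | hy
        · omega
        · omega
        · exact hμ y (by rw [hμ₀]; exact Multiset.mem_add.2 (Or.inr hy)))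
      (fun y hy => by
        have h := hev y hy
        rw [hμ₀, Multiset.count_add] at h
        rw [hμ', Multiset.count_add]
        have hz : ({e - 1, e + 1} : Multiset ℕ).count y = 0 := Multiset.count_eq_zero.2 fun h' => by
          simp only [Multiset.insert_eq_cons, Multiset.mem_cons, Multiset.mem_singleton] at h'
          rcases h' with rfl | rfl
          · exact Nat.not_even_iff_odd.2 hoddpm.1 hy
          · exact Nat.not_even_iff_odd.2 hoddpm.2 hy
        rw [hz, zero_add]
        rw [Multiset.count_replicate] at h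
        split_ifs at h with hey
        · obtain ⟨w, hw⟩ := h
          exact ⟨w - 1, by omega⟩
        · simpa using h)
      (by
        rw [hμ', Multiset.sum_add, ← hsum, hμ₀, Multiset.sum_add, Multiset.sum_replicate, smul_eq_mul]
        simp
        omega)
      ⟨e + 1, by rw [hμ']; simp, by omega⟩ ⟨e + 1, by rw [hμ']; simp, hoddpm.2⟩
    rw [hμ'] at hν'
    have hne1 : e - 1 ≠ e + 1 := by omega
    have hcm : ∀ y, Odd y → μ₀.count y = 0 := fun y hy => by
      have h := hodd0 y hy
      rw [hμ₀, Multiset.count_add] at h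
      omega
    have hle1 : ν'.count (e - 1) ≤ 1 := by
      refine (Multiset.count_le_of_le _ hν').trans ?_
      rw [Multiset.count_add, hcm _ hoddpm.1]
      simp [hne1]
    have hle2 : ν'.count (e + 1) ≤ 1 := by
      refine (Multiset.count_le_of_le _ hν').trans ?_
      rw [Multiset.count_add, hcm _ hoddpm.2]
      simp [Ne.symm hne1]
    obtain ⟨ν₀, hν₀⟩ : ∃ ν₀, ν₀ = ν'.filter fun y => y ≠ e - 1 ∧ y ≠ e + 1 := ⟨_, rfl⟩
    have hsplit : ν' = Multiset.replicate (ν'.count (e - 1)) (e - 1) + Multiset.replicate (ν'.count (e + 1)) (e + 1) + ν₀ := by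
      ext y
      rw [Multiset.count_add, Multiset.count_add, Multiset.count_replicate, Multiset.count_replicate, hν₀, Multiset.count_filter]
      by_cases h1 : y = e - 1
      · subst h1; simp [hne1, Ne.symm hne1]
      · by_cases h2' : y = e + 1
        · subst h2'; simp [hne1]
        · simp [h1, h2', Ne.symm h1, Ne.symm h2']
    have hν₀le : ν₀ ≤ μ₀ := Multiset.le_iff_count.2 fun y => by
      have h := Multiset.count_le_of_le y hν'
      rw [Multiset.count_add] at h
      rw [hν₀, Multiset.count_filter]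
      split_ifs with hy
      · simpa [hy.1, hy.2] using h
      · exact Nat.zero_le _
    have hν₀ev : ν₀.sum % 2 = 0 := by
      have : ∀ M : Multiset ℕ, (∀ y ∈ M, Even y) → M.sum % 2 = 0 := fun M => by
        induction M using Multiset.induction_on with
        | empty => intro _; simp
        | cons y M ih =>
          intro hy
          have h1 := ih fun z hz => hy z (Multiset.mem_cons_of_mem hz)
          have h2' := Nat.even_iff.1 (hy y (Multiset.mem_cons_self y M))
          rw [Multiset.sum_cons]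
          omega
      exact this _ fun y hy => Nat.not_odd_iff_even.1 fun hyo => by
        have h := Multiset.count_le_of_le y hν₀le
        have := Multiset.count_pos.2 hy
        rw [hcm y hyo] at h
        omega
    have hν's' := hν's
    rw [hsplit, Multiset.sum_add, Multiset.sum_add, Multiset.sum_replicate, Multiset.sum_replicate, smul_eq_mul, smul_eq_mul] at hν's'
    have heq : ν'.count (e - 1) = ν'.count (e + 1) := by
      rcases Nat.le_one_iff_eq_zero_or_eq_one.1 hle1 with h | h <;> rcases Nat.le_one_iff_eq_zero_or_eq_one.1 hle2 with h' | h' <;>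
        rw [h, h'] at hν's' ⊢ <;> omega
    refine ⟨Multiset.replicate (2 * ν'.count (e - 1)) e + ν₀, ?_, ?_, fun y hy => ?_⟩
    · rw [hμ₀]
      exact add_le_add ((Multiset.replicate_le_replicate e).2 (by omega)) hν₀le
    · rw [Multiset.sum_add, Multiset.sum_replicate, smul_eq_mul, ← hν's', ← heq]
      rcases Nat.le_one_iff_eq_zero_or_eq_one.1 hle1 with h | h <;> rw [h] <;> omega
    · rw [Multiset.count_add, Multiset.count_replicate, hν₀, Multiset.count_filter,
        if_pos (⟨fun h => Nat.not_even_iff_odd.2 hoddpm.1 (h ▸ hy), fun h => Nat.not_even_iff_odd.2 hoddpm.2 (h ▸ hy)⟩ : y ≠ e - 1 ∧ y ≠ e + 1)]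
      refine Even.add ?_ (hν'e y hy)
      split_ifs
      · exact even_two_mul _
      · exact ⟨0, rfl⟩

end Cfsg.Agent.S5994
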