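import Cfsg.Statements.S5995
-- import your own Cfsg.Agent.* helpers here
import Mathlib
import Cfsg.Agent.Lib.Perm.Elusive.JordanOrth

set_option autoImplicit false
set_option linter.all false
open scoped MatrixGroups
open Cfsg

namespace Cfsg.Agent.S5995

/-- A necessary condition for every element of order p of Ω_n(q), nq odd, to fix a hyperbolic `m`-space. Here `T = Ω_n(F)`, `n = 2d+1 ≥ 7`, `q` odd, realised as the commutator subgroup of the isometry group of `Q = x₀² + Σ xᵢyᵢ` over the field `F` with `q` elements (trivial centre, so its elements of prime order `r` are used directly); a nondegenerate `m`-space (even `m`) is a subspace on which the polar form of `Q` is nondegenerate; it is hyperbolic if it contains an `m/2`-dimensional subspace on which `Q` vanishes, elliptic otherwise. Let `m` be even with `2 ≤ m ≤ n − 1` and suppose `p` divides the number of hyperbolic `m`-spaces. If every element of `T` of order `p` fixes some hyperbolic `m`-space, then `m ≡ 0 (mod 4)` and every partition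 of `n` into parts of size at most `p` in which every even part has even multiplicity contains (as a sub-multiset) a partition of `m` in which every even part has even multiplicity. -/
theorem result {F : Type*} [Field F] [Fintype F] {p : ℕ} [Fact p.Prime] [CharP F p] {q : ℕ} (hq : Fintype.card F = q) (hqodd : Odd q)
    (d m : ℕ) (hd : 3 ≤ d) (hm : 2 ≤ m) (hme : Even m) (hmn : m ≤ 2 * d)
    (hpΩ : p ∣ Nat.card {W : Submodule F (Unit ⊕ (Fin d ⊕ Fin d) → F) // Module.finrank F ↥W = m ∧ Cfsg.Geo.IsNondegenerateOn (QuadraticMap.polar (Cfsg.quadFormOdd d F)) W ∧ Cfsg.Geo.IsPlusTypeOn (Cfsg.quadFormOdd d F) W}) :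
    (∀ x : GL (Unit ⊕ (Fin d ⊕ Fin d)) F, x ∈ Cfsg.Geo.omegaGL (Cfsg.quadFormOdd d F) → orderOf x = p →
      ∃ W : Submodule F (Unit ⊕ (Fin d ⊕ Fin d) → F), (Module.finrank F ↥W = m ∧ Cfsg.Geo.IsNondegenerateOn (QuadraticMap.polar (Cfsg.quadFormOdd d F)) W ∧ Cfsg.Geo.IsPlusTypeOn (Cfsg.quadFormOdd d F) W) ∧ W.map (Matrix.toLin' (x : Matrix (Unit ⊕ (Fin d ⊕ Fin d)) (Unit ⊕ (Fin d ⊕ Fin d)) F)) ≤ W) →
    (m % 4 = 0 ∧ (∀ μ : Multiset ℕ, (∀ e ∈ μ, 0 < e ∧ e ≤ p) → (∀ e : ℕ, Even e → Even (μ.count e)) → μ.sum = 2 * d + 1 →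
        ∃ ν : Multiset ℕ, ν ≤ μ ∧ ν.sum = m ∧ ∀ e : ℕ, Even e → Even (ν.count e))) := by
  classical
  intro hfixall
  have h2 : (2 : F) ≠ 0 := Ring.two_ne_zero fun h => by
    have h' := FiniteField.even_card_of_char_two h
    rw [hq] at h'
    exact Nat.not_even_iff_odd.2 hqodd (Nat.even_iff.2 h')
  have hcard : Fintype.card (Unit ⊕ (Fin d ⊕ Fin d)) = 2 * d + 1 := by
    rw [Fintype.card_sum, Fintype.card_sum, Fintype.card_fin, Fintype.card_unit]; omega
  have key : ∀ μ : Multiset ℕ, (∀ e ∈ μ, 0 < e ∧ e ≤ p) → (∀ e : ℕ, Even e → Even (μ.count e)) → μ.sum = 2 * d + 1 →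
      ∃ ν : Multiset ℕ, ν ≤ μ ∧ ν.sum = m ∧ ∀ e : ℕ, Even e → Even (ν.count e) := by
    intro μ hμ hev hsum
    refine CfsgLib.Perm.Elusive.orth_sub_partition (p := p) h2 (Cfsg.quadFormOdd d F) (m := m) (by omega) ?_ ?_ μ hμ hev
      (hsum.trans hcard.symm)
    · intro ι' inst B U hc hsym hN hU hUd
      exact CfsgLib.Perm.Elusive.exists_odd_similar hsym hN h2 (d := d) (by
        rw [Module.finrank_fintype_fun_eq_card, hc, hcard]) hU (by omega)
    · intro x hx hxo
      obtain ⟨W, ⟨h1, h3, -⟩, h4⟩ := hfixall x hx hxo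
      exact ⟨W, h1, h3, h4⟩
  refine ⟨?_, key⟩
  have hp3 : 3 ≤ p := by
    have hp2 : p ≠ 2 := fun hp => h2 (by
      have := CharP.cast_eq_zero F p
      rw [hp] at this
      simpa using this)
    have := (Fact.out : p.Prime).two_le
    omega
  obtain ⟨x, k, hx, hk, hsum⟩ : ∃ x k : ℕ, (x = 1 ∨ x = 3) ∧ Even k ∧ x + 2 * k = 2 * d + 1 := by
    rcases Nat.even_or_odd d with hd' | hd'
    · exact ⟨1, d, Or.inl rfl, hd', by omega⟩
    · exact ⟨3, d - 1, Or.inr rfl, Nat.Odd.sub_odd hd' odd_one, by omega⟩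
  obtain ⟨ν, hν, hνs, hνe⟩ := key (Multiset.replicate k 2 + {x}) (fun e he => by
      rcases Multiset.mem_add.1 he with h | h
      · rw [Multiset.eq_of_mem_replicate h]; omega
      · rw [Multiset.mem_singleton.1 h]; omega)
    (fun e he => by
      rw [Multiset.count_add, Multiset.count_singleton, if_neg (fun h => by rw [h] at he; rcases hx with rfl | rfl <;> exact absurd he (by decide)),
        add_zero, Multiset.count_replicate]
      split_ifs
      · exact hk
      · exact ⟨0, rfl⟩)
    (by rw [Multiset.sum_add, Multiset.sum_replicate, Multiset.sum_singleton, smul_eq_mul]; omega)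
  have hx2 : x ≠ 2 := by omega
  have hsub : ν.toFinset ⊆ {2, x} := fun e he => by
    have h := Multiset.mem_of_le hν (Multiset.mem_toFinset.1 he)
    rw [Finset.mem_insert, Finset.mem_singleton]
    rcases Multiset.mem_add.1 h with h | h
    · exact Or.inl (Multiset.eq_of_mem_replicate h)
    · exact Or.inr (Multiset.mem_singleton.1 h)
  have hs : ν.sum = ν.count 2 * 2 + ν.count x * x := by
    rw [Finset.sum_multiset_count_of_subset ν {2, x} hsub, Finset.sum_pair hx2.symm, smul_eq_mul, smul_eq_mul]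
  have hcx : ν.count x ≤ 1 := (Multiset.count_le_of_le x hν).trans (by
    rw [Multiset.count_add, Multiset.count_replicate, if_neg hx2.symm, Multiset.count_singleton_self])
  obtain ⟨w, hw⟩ := hνe 2 (by decide)
  obtain ⟨m', hm'⟩ := hme
  rcases Nat.le_one_iff_eq_zero_or_eq_one.1 hcx with h | h <;> rw [h] at hs <;> omega

end Cfsg.Agent.S5995
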