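import Cfsg.Statements.S5996
-- import your own Cfsg.Agent.* helpers here
import Mathlib
import Cfsg.Agent.Lib.Perm.Elusive.JordanOrth

set_option autoImplicit false
set_option linter.all false
open scoped MatrixGroups
open Cfsg

namespace Cfsg.Agent.S5996

/-- A necessary condition for every element of order p of PΩ⁺_n(q), q odd, to fix a hyperbolic `m`-space. Here `T = PΩ⁺_n(F)`, `n = 2d ≥ 8`, realised through `Ω⁺_n(q)`, the commutator subgroup of the isometry group of `Q = Σ xᵢyᵢ` over the field `F` with `q` elements; an element of `T` of prime order `r` is an element `x` of `Ω⁺_n(q)` with `x^r` scalar and `x` not scalar; `q` is odd; a nondegenerate `m`-space (even `m`) is a subspace on which the polar form of `Q` is nondegenerate; it is hyperbolic if it contains an `m/2`-dimensional subspace on which `Q` vanishes, elliptic otherwise. Let `m` be even with `2 ≤ m < n/2` and suppose `p` divides the number of hyperbolic `m`-spaces. If every element of `T` of order `p` fixes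 some hyperbolic `m`-space, then every partition of `n` into parts of size at most `p` in which every even part has even multiplicity contains (as a sub-multiset) a partition of `m` in which every even part has even multiplicity. -/
theorem result {F : Type*} [Field F] [Fintype F] {p : ℕ} [Fact p.Prime] [CharP F p] {q : ℕ} (hq : Fintype.card F = q) (hqodd : Odd q)
    (d m : ℕ) (hd : 4 ≤ d) (hm : 2 ≤ m) (hme : Even m) (hmd : m < d)
    (hpΩ : p ∣ Nat.card {W : Submodule F (Fin d ⊕ Fin d → F) // Module.finrank F ↥W = m ∧ Cfsg.Geo.IsNondegenerateOn (QuadraticMap.polar (Cfsg.quadFormPlus d F)) W ∧ Cfsg.Geo.IsPlusTypeOn (Cfsg.quadFormPlus d F) W}) :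
    (∀ x : GL (Fin d ⊕ Fin d) F, x ∈ Cfsg.Geo.omegaGL (Cfsg.quadFormPlus d F) →
      (∃ z : F, ((x ^ p : GL (Fin d ⊕ Fin d) F) : Matrix (Fin d ⊕ Fin d) (Fin d ⊕ Fin d) F) = z • (1 : Matrix (Fin d ⊕ Fin d) (Fin d ⊕ Fin d) F)) →
      (∀ z : F, (x : Matrix (Fin d ⊕ Fin d) (Fin d ⊕ Fin d) F) ≠ z • (1 : Matrix (Fin d ⊕ Fin d) (Fin d ⊕ Fin d) F)) →
      ∃ W : Submodule F (Fin d ⊕ Fin d → F), (Module.finrank F ↥W = m ∧ Cfsg.Geo.IsNondegenerateOn (QuadraticMap.polar (Cfsg.quadFormPlus d F)) W ∧ Cfsg.Geo.IsPlusTypeOn (Cfsg.quadFormPlus d F) W) ∧ W.map (Matrix.toLin' (x : Matrix (Fin d ⊕ Fin d) (Fin d ⊕ Fin d) F)) ≤ W) →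
    (∀ μ : Multiset ℕ, (∀ e ∈ μ, 0 < e ∧ e ≤ p) → (∀ e : ℕ, Even e → Even (μ.count e)) → μ.sum = 2 * d →
        ∃ ν : Multiset ℕ, ν ≤ μ ∧ ν.sum = m ∧ ∀ e : ℕ, Even e → Even (ν.count e)) := by
  classical
  intro hfixall μ hμ hev hsum
  have h2 : (2 : F) ≠ 0 := Ring.two_ne_zero fun h => by
    have h' := FiniteField.even_card_of_char_two h
    rw [hq] at h'
    exact Nat.not_even_iff_odd.2 hqodd (Nat.even_iff.2 h')
  have hcard : Fintype.card (Fin d ⊕ Fin d) = 2 * d := by rw [Fintype.card_sum, Fintype.card_fin]; omega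
  refine CfsgLib.Perm.Elusive.orth_sub_partition (p := p) h2 (Cfsg.quadFormPlus d F) (m := m) (by omega) ?_ ?_ μ hμ hev
    (hsum.trans hcard.symm)
  · intro ι' inst B U hc hsym hN hU hUd
    obtain ⟨φ, hφ⟩ := CfsgLib.Perm.Elusive.exists_plus_equiv hsym hN h2 (d := d) (by
      rw [Module.finrank_fintype_fun_eq_card, hc, hcard]) hU (by omega)
    exact ⟨φ, 1, one_ne_zero, fun v => by rw [hφ, one_mul]⟩
  · intro x hx hxo
    obtain ⟨W, ⟨h1, h3, -⟩, h4⟩ := hfixall x hx ⟨1, by
      rw [one_smul, ← hxo, pow_orderOf_eq_one, Units.val_one]⟩ (fun z hz => by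
        have hne : x ≠ 1 := fun h1 => by rw [h1, orderOf_one] at hxo; exact (Fact.out : p.Prime).ne_one hxo.symm
        have hxp : (x : Matrix (Fin d ⊕ Fin d) (Fin d ⊕ Fin d) F) ^ p = 1 := by
          rw [← Units.val_pow_eq_pow_val, ← hxo, pow_orderOf_eq_one, Units.val_one]
        rw [hz, _root_.smul_pow, one_pow] at hxp
        have h := congrFun (congrFun hxp (Sum.inl ⟨0, by omega⟩)) (Sum.inl ⟨0, by omega⟩)
        have hzp : (z - 1) ^ p = 0 := by
          rw [sub_pow_char, one_pow, sub_eq_zero]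
          simpa using h
        have hz1 : z = 1 := sub_eq_zero.1 (eq_zero_of_pow_eq_zero hzp)
        exact hne (Units.ext (by rw [hz, hz1, one_smul, Units.val_one])))
    exact ⟨W, h1, h3, h4⟩

end Cfsg.Agent.S5996
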