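import Cfsg.Statements.S5997
-- import your own Cfsg.Agent.* helpers here
import Mathlib
import Cfsg.Agent.Lib.Perm.Elusive.TwoByTwo
import Cfsg.Agent.Lib.GLClass.TwoProducts

set_option autoImplicit false
set_option linter.all false
open scoped MatrixGroups
open Cfsg

namespace Cfsg.Agent.S5997

/-- Elements of prime order of PSL_2(p) and the normalizer of a quaternion subgroup. Here `T = PSL_2(F)` for the field `F` with `p` elements, `p ≥ 5` prime; `R` is a subgroup of GL_2(F) isomorphic to the quaternion group of order 8 (an absolutely irreducible 2-group of symplectic type), and `H` is the subgroup of matrices of determinant 1 normalizing `R` — a subgroup of type 2^{1+2}.O₂⁻(2), isomorphic modulo scalars to A₄ or S₄ (maximality is not assumed). Ω is the set of cosets of `H` in `T`, so an element of `T` of prime order `r` (a matrix `x` of determinant 1 with `x^r` scalar, `x` not scalar) fixes a point of Ω exactly when some conjugate of `x` by a matrix of determinant 1 normalizes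 `R`. Let `r` be a prime dividing the index of `H`. Then every element of `T` of order `r` fixes a point of Ω if and only if `r = 2` or `r = 3`. -/
theorem result {F : Type*} [Field F] [Fintype F] {p : ℕ} [Fact p.Prime] [CharP F p] (hF : Fintype.card F = p) (hp : 5 ≤ p)
    (R : Subgroup (GL (Fin 2) F)) (hR : Nonempty (↥R ≃* QuaternionGroup 2))
    (r : ℕ) [Fact r.Prime]
    (hΩ : r ∣ (Cfsg.Geo.subgroupNormalizer R).relIndex (Cfsg.Geo.specialLinear (Fin 2) F)) :
    (∀ x ∈ Cfsg.Geo.specialLinear (Fin 2) F, (∃ z : F, ((x ^ r : GL (Fin 2) F) : Matrix (Fin 2) (Fin 2) F) = z • (1 : Matrix (Fin 2) (Fin 2) F)) →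
      (∀ z : F, (x : Matrix (Fin 2) (Fin 2) F) ≠ z • (1 : Matrix (Fin 2) (Fin 2) F)) →
      ∃ g ∈ Cfsg.Geo.specialLinear (Fin 2) F, g⁻¹ * x * g ∈ Cfsg.Geo.subgroupNormalizer R) ↔ (r = 2 ∨ r = 3) := by
  classical
  have h2 : (2 : F) ≠ 0 := fun h => by
    have := Nat.le_of_dvd (by norm_num) ((CharP.cast_eq_zero_iff F p 2).1 (by exact_mod_cast h))
    omega
  have h3 : (3 : F) ≠ 0 := fun h => by
    have := Nat.le_of_dvd (by norm_num) ((CharP.cast_eq_zero_iff F p 3).1 (by exact_mod_cast h))
    omega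
  obtain ⟨φ⟩ := hR
  obtain ⟨ψ, hψ⟩ : ∃ ψ : QuaternionGroup 2 →* GL (Fin 2) F, ψ = R.subtype.comp φ.symm.toMonoidHom := ⟨_, rfl⟩
  have hψinj : Function.Injective ψ := by
    rw [hψ]
    exact Subtype.val_injective.comp φ.symm.injective
  have hψR : ∀ g, ψ g ∈ R := fun g => by rw [hψ]; exact (φ.symm g).2
  have hψsurj : ∀ g ∈ R, ∃ u, ψ u = g := fun g hg => ⟨φ ⟨g, hg⟩, by rw [hψ]; simp⟩
  obtain ⟨I, hI⟩ : ∃ I : Matrix (Fin 2) (Fin 2) F, I = (ψ (QuaternionGroup.a 1) : GL (Fin 2) F) := ⟨_, rfl⟩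
  obtain ⟨J, hJ⟩ : ∃ J : Matrix (Fin 2) (Fin 2) F, J = (ψ (QuaternionGroup.xa 0) : GL (Fin 2) F) := ⟨_, rfl⟩
  obtain ⟨E, hE⟩ : ∃ E : Matrix (Fin 2) (Fin 2) F, E = (ψ (QuaternionGroup.a 2) : GL (Fin 2) F) := ⟨_, rfl⟩
  have hmap : ∀ u u', ((ψ (u * u') : GL (Fin 2) F) : Matrix (Fin 2) (Fin 2) F) =
      ((ψ u : GL (Fin 2) F) : Matrix (Fin 2) (Fin 2) F) * ((ψ u' : GL (Fin 2) F) : Matrix (Fin 2) (Fin 2) F) :=
    fun u u' => by rw [map_mul, Matrix.GeneralLinearGroup.coe_mul]
  have hne : ∀ u u', u ≠ u' → ((ψ u : GL (Fin 2) F) : Matrix (Fin 2) (Fin 2) F) ≠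
      ((ψ u' : GL (Fin 2) F) : Matrix (Fin 2) (Fin 2) F) := fun u u' h e => h (hψinj (Units.ext e))
  have hscal : ∀ c : F, ∀ M : Matrix (Fin 2) (Fin 2) F,
      (c • (1 : Matrix (Fin 2) (Fin 2) F)) * M = M * (c • (1 : Matrix (Fin 2) (Fin 2) F)) := fun c M => by
    rw [smul_mul_assoc, one_mul, mul_smul_comm, mul_one]
  have hIJ : I * J ≠ J * I := by
    rw [hI, hJ, ← hmap, ← hmap]
    exact hne _ _ (by decide)
  have hIns : ∀ c : F, I ≠ c • (1 : Matrix (Fin 2) (Fin 2) F) := fun c h => hIJ (by rw [h, hscal])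
  have hJns : ∀ c : F, J ≠ c • (1 : Matrix (Fin 2) (Fin 2) F) := fun c h => hIJ (by rw [h, hscal])
  have hE1 : E = -1 := by
    obtain ⟨c, hc⟩ : ∃ c : F, E = c • (1 : Matrix (Fin 2) (Fin 2) F) := by
      by_contra hcon
      push Not at hcon
      refine hIJ (CfsgLib.Perm.Elusive.comm_of_comm hcon ?_ ?_) <;>
        rw [hE] <;> first | rw [hI, ← hmap, ← hmap] | rw [hJ, ← hmap, ← hmap]
      all_goals exact congrArg (fun u => ((ψ u : GL (Fin 2) F) : Matrix (Fin 2) (Fin 2) F)) (by decide)
    have hsq : E * E = 1 := by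
      rw [hE, ← hmap, show QuaternionGroup.a (n := 2) 2 * QuaternionGroup.a 2 = 1 by decide, map_one,
        Matrix.GeneralLinearGroup.coe_one]
    rw [hc, smul_mul_assoc, one_mul, smul_smul] at hsq
    have hcc : c * c = 1 := by simpa using congrFun (congrFun hsq 0) 0
    rcases mul_self_eq_one_iff.1 hcc with rfl | rfl
    · exfalso
      refine hne (QuaternionGroup.a 2) 1 (by decide) ?_
      rw [← hE, hc, one_smul, map_one, Matrix.GeneralLinearGroup.coe_one]
    · rw [hc, neg_one_smul]
  have hII : I * I = -1 := by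
    rw [← hE1, hE, hI, ← hmap]; exact congrArg (fun u => ((ψ u : GL (Fin 2) F) : Matrix (Fin 2) (Fin 2) F)) (by decide)
  have hJJ : J * J = -1 := by
    rw [← hE1, hE, hJ, ← hmap]; exact congrArg (fun u => ((ψ u : GL (Fin 2) F) : Matrix (Fin 2) (Fin 2) F)) (by decide)
  have hJI : J * I = -(I * J) := by
    rw [← neg_one_mul, ← hE1, hE, hI, hJ, ← hmap, ← hmap, ← hmap]
    exact congrArg (fun u => ((ψ u : GL (Fin 2) F) : Matrix (Fin 2) (Fin 2) F)) (by decide)
  have hsdet : ∀ g : GL (Fin 2) F, g ∈ Cfsg.Geo.specialLinear (Fin 2) F ↔ (g : Matrix (Fin 2) (Fin 2) F).det = 1 :=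
    fun g => by
      rw [Cfsg.Geo.specialLinear, MonoidHom.mem_ker, Units.ext_iff, Matrix.GeneralLinearGroup.val_det_apply,
        Units.val_one]
  have hconj : ∀ x y : GL (Fin 2) F, (x : Matrix (Fin 2) (Fin 2) F).det = 1 → (y : Matrix (Fin 2) (Fin 2) F).det = 1 →
      (x : Matrix (Fin 2) (Fin 2) F).trace = (y : Matrix (Fin 2) (Fin 2) F).trace →
      (x : Matrix (Fin 2) (Fin 2) F).trace ^ 2 ≠ 4 →
      ∃ g ∈ Cfsg.Geo.specialLinear (Fin 2) F, g⁻¹ * x * g = y := fun x y hx hy ht htne => by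
    obtain ⟨X, hX⟩ : ∃ X : Matrix.SpecialLinearGroup (Fin 2) F,
        (X : Matrix (Fin 2) (Fin 2) F) = (x : Matrix (Fin 2) (Fin 2) F) := ⟨⟨_, hx⟩, rfl⟩
    obtain ⟨Z, hZ⟩ : ∃ Z : Matrix.SpecialLinearGroup (Fin 2) F,
        (Z : Matrix (Fin 2) (Fin 2) F) = (y : Matrix (Fin 2) (Fin 2) F) := ⟨⟨_, hy⟩, rfl⟩
    rw [← hX, ← hZ] at ht
    rw [← hX] at htne
    obtain ⟨u, hu⟩ := CfsgLib.GLClass.TwoProd.conj_of_trace (A := X) (B := Z) ht htne
    have ex : Matrix.SpecialLinearGroup.toGL X = x := Units.ext hX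
    have ey : Matrix.SpecialLinearGroup.toGL Z = y := Units.ext hZ
    refine ⟨Matrix.SpecialLinearGroup.toGL u⁻¹, (hsdet _).2 (u⁻¹).2, ?_⟩
    rw [← ey, hu, map_mul, map_mul, ex, map_inv, inv_inv]
  constructor
  · intro hall
    by_contra hr
    push Not at hr
    have hr5 : 5 ≤ r := by
      have h1 := (Fact.out : r.Prime).two_le
      rcases hr with ⟨h2', h3'⟩
      rcases eq_or_ne r 4 with rfl | h4
      · exact absurd (Fact.out : Nat.Prime 4) (by norm_num)
      · omega
    obtain ⟨x, hx⟩ := exists_prime_orderOf_dvd_card' (G := ↥(Cfsg.Geo.specialLinear (Fin 2) F)) r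
      (hΩ.trans (Subgroup.relIndex_dvd_card _ _))
    have hxr : (x : GL (Fin 2) F) ^ r = 1 := by
      rw [← SubgroupClass.coe_pow, ← hx, pow_orderOf_eq_one, OneMemClass.coe_one]
    have hxne : x ≠ 1 := fun h => by rw [h, orderOf_one] at hx; omega
    have hxns : ∀ z : F, ((x : GL (Fin 2) F) : Matrix (Fin 2) (Fin 2) F) ≠ z • 1 := fun z hz => by
      have hd := (hsdet _).1 x.2
      rw [hz, Matrix.det_smul, Fintype.card_fin, Matrix.det_one, mul_one] at hd
      have hx2 : x ^ 2 = 1 := Subtype.ext (Units.ext (by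
        rw [SubgroupClass.coe_pow, Units.val_pow_eq_pow_val, hz, smul_pow, one_pow, hd, one_smul, OneMemClass.coe_one,
          Units.val_one]))
      have := Nat.le_of_dvd (by norm_num) (hx ▸ orderOf_dvd_of_pow_eq_one hx2)
      omega
    obtain ⟨g, hg, hgN⟩ := hall x x.2 ⟨1, by rw [hxr, Units.val_one, one_smul]⟩ hxns
    obtain ⟨y, hy⟩ : ∃ y, y = g⁻¹ * (x : GL (Fin 2) F) * g := ⟨_, rfl⟩
    rw [← hy] at hgN
    have hyr : y ^ r = 1 := by
      have e := conj_pow (i := r) (a := g⁻¹) (b := (x : GL (Fin 2) F))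
      rw [inv_inv, ← hy] at e
      rw [e, hxr, mul_one, inv_mul_cancel]
    have hyns : ∀ c : F, (y : Matrix (Fin 2) (Fin 2) F) ≠ c • 1 := fun c hc => by
      refine hxns c ?_
      rw [show (x : GL (Fin 2) F) = g * y * g⁻¹ by rw [hy]; group, Matrix.GeneralLinearGroup.coe_mul,
        Matrix.GeneralLinearGroup.coe_mul, hc, ← hscal, mul_assoc, ← Matrix.GeneralLinearGroup.coe_mul, mul_inv_cancel,
        Matrix.GeneralLinearGroup.coe_one, mul_one]
    have hcard : Nat.card R = 8 := by
      rw [Nat.card_congr φ.toEquiv, Nat.card_eq_fintype_card, QuaternionGroup.card]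
    have hfix : ∀ u : GL (Fin 2) F, u ∈ R → (u : Matrix (Fin 2) (Fin 2) F) * u = -1 → y * u = u * y := by
      intro u hu huu
      obtain ⟨c, hc⟩ : ∃ c : ℕ → GL (Fin 2) F, ∀ m, c m = y ^ m * u * (y ^ m)⁻¹ := ⟨_, fun m => rfl⟩
      have hcR : ∀ m, c m ∈ R := fun m => hc m ▸
        (Subgroup.mem_normalizer_iff.1 ((Subgroup.normalizer (R : Set (GL (Fin 2) F))).pow_mem hgN m) u).1 hu
      by_contra hcon
      have hper : ∀ d, c d = u → r ∣ d := by
        intro d hd
        by_contra hrd
        refine hcon ?_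
        have hcomm : Commute (y ^ d) u := by
          show y ^ d * u = u * y ^ d
          rw [hc] at hd
          conv_rhs => rw [← hd, inv_mul_cancel_right]
        obtain ⟨m, -, hm⟩ := Nat.exists_mul_mod_eq_one_of_coprime
          ((((Fact.out : r.Prime).coprime_iff_not_dvd).2 hrd).symm) (Fact.out : r.Prime).one_lt
        have e : y = (y ^ d) ^ m := by
          rw [← pow_mul, ← Nat.mod_add_div (d * m) r, hm, pow_add, pow_one, pow_mul, hyr, one_pow, mul_one]
        rw [e]
        exact (hcomm.pow_left m).eq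
      obtain ⟨m0, hm0⟩ : ∃ d, 0 < d ∧ d < r ∧ (c d : Matrix (Fin 2) (Fin 2) F) = -(u : Matrix (Fin 2) (Fin 2) F) := by
        by_contra hno
        push Not at hno
        have hu' : (-u : GL (Fin 2) F) ∈ R := by
          have e : (-u : GL (Fin 2) F) = ψ (QuaternionGroup.a 2) * u := Units.ext (by
            rw [Units.val_neg, Matrix.GeneralLinearGroup.coe_mul, ← hE, hE1, neg_one_mul])
          rw [e]; exact R.mul_mem (hψR _) hu
        have hinj : Function.Injective fun i : Fin r × Bool => (bif i.2 then c i.1 else -(c i.1) : GL (Fin 2) F) := by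
          have hdiff : ∀ m n : ℕ, m ≤ n → n < r → ∀ s : GL (Fin 2) F, (s = 1 ∨ s = -1) → c n = s * c m →
              m = n ∧ s = 1 := by
            intro m n hmn hn s hs e
            have e2 : c (n - m) = s * u := by
              have hy' : c n = y ^ m * c (n - m) * (y ^ m)⁻¹ := by
                rw [hc, hc, show y ^ n = y ^ m * y ^ (n - m) by rw [← pow_add, Nat.add_sub_cancel' hmn]]
                group
              have hcs : y ^ m * (s * u) * (y ^ m)⁻¹ = s * c m := by
                rw [hc]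
                rcases hs with rfl | rfl
                · rw [one_mul, one_mul]
                · simp only [neg_one_mul, mul_neg, neg_mul, one_mul]
              rw [← hcs, hy'] at e
              exact mul_left_cancel (mul_right_cancel e)
            rcases eq_or_ne m n with rfl | hne'
            · refine ⟨rfl, ?_⟩
              rw [Nat.sub_self, hc, pow_zero, inv_one, one_mul, mul_one] at e2
              exact mul_eq_right.1 e2.symm
            rcases hs with rfl | rfl
            · rw [one_mul] at e2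
              have := Nat.le_of_dvd (by omega) (hper _ e2)
              omega
            · exfalso
              exact hno (n - m) (by omega) (by omega) (by rw [e2, neg_one_mul, Units.val_neg])
          rintro ⟨i, b⟩ ⟨j, b'⟩ h
          rcases le_total (i : ℕ) j with hij | hij
          · cases b <;> cases b' <;> simp only [cond_true, cond_false] at h
            · rw [neg_inj] at h
              exact Prod.ext (Fin.ext (hdiff _ _ hij j.2 1 (Or.inl rfl) (by rw [one_mul, h])).1) rfl
            · exact absurd (hdiff _ _ hij j.2 (-1) (Or.inr rfl) (by rw [neg_one_mul, ← h])).2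
                (fun e => h2 (by
                  have := congrArg (fun g : GL (Fin 2) F => (g : Matrix (Fin 2) (Fin 2) F) 0 0) e
                  simp at this; linear_combination -this))
            · exact absurd (hdiff _ _ hij j.2 (-1) (Or.inr rfl) (by rw [neg_one_mul, h, neg_neg])).2
                (fun e => h2 (by
                  have := congrArg (fun g : GL (Fin 2) F => (g : Matrix (Fin 2) (Fin 2) F) 0 0) e
                  simp at this; linear_combination -this))
            · exact Prod.ext (Fin.ext (hdiff _ _ hij j.2 1 (Or.inl rfl) (by rw [one_mul, h])).1) rfl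
          · cases b <;> cases b' <;> simp only [cond_true, cond_false] at h
            · rw [neg_inj] at h
              exact Prod.ext (Fin.ext (hdiff _ _ hij i.2 1 (Or.inl rfl) (by rw [one_mul, h])).1.symm) rfl
            · exact absurd (hdiff _ _ hij i.2 (-1) (Or.inr rfl) (by rw [neg_one_mul, ← h, neg_neg])).2
                (fun e => h2 (by
                  have := congrArg (fun g : GL (Fin 2) F => (g : Matrix (Fin 2) (Fin 2) F) 0 0) e
                  simp at this; linear_combination -this))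
            · exact absurd (hdiff _ _ hij i.2 (-1) (Or.inr rfl) (by rw [neg_one_mul, h])).2
                (fun e => h2 (by
                  have := congrArg (fun g : GL (Fin 2) F => (g : Matrix (Fin 2) (Fin 2) F) 0 0) e
                  simp at this; linear_combination -this))
            · exact Prod.ext (Fin.ext (hdiff _ _ hij i.2 1 (Or.inl rfl) (by rw [one_mul, h])).1.symm) rfl
        have hmem : ∀ i : Fin r × Bool, (bif i.2 then c i.1 else -(c i.1) : GL (Fin 2) F) ∈ R := by
          rintro ⟨i, b⟩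
          cases b
          · show -(c i) ∈ R
            have e : -(c i) = ψ (QuaternionGroup.a 2) * c i := Units.ext (by
              rw [Units.val_neg, Matrix.GeneralLinearGroup.coe_mul, ← hE, hE1, neg_one_mul])
            rw [e]; exact R.mul_mem (hψR _) (hcR _)
          · exact hcR _
        haveI : Finite R := Nat.finite_of_card_ne_zero (by omega)
        have hle := Nat.card_le_card_of_injective (fun i : Fin r × Bool => (⟨_, hmem i⟩ : R))
          (fun a b h => hinj (congrArg Subtype.val h))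
        rw [hcard, Nat.card_eq_fintype_card, Fintype.card_prod, Fintype.card_fin, Fintype.card_bool] at hle
        omega
      obtain ⟨hd0, hdr, hdu⟩ := hm0
      have hcd : c m0 = -u := Units.ext (by rw [hdu, Units.val_neg])
      have h2d : c (2 * m0) = u := by
        have e : c (2 * m0) = y ^ m0 * c m0 * (y ^ m0)⁻¹ := by rw [hc, hc, two_mul, pow_add]; group
        rw [e, hcd, mul_neg, neg_mul, ← hc, hcd, neg_neg]
      rcases ((Fact.out : r.Prime).dvd_mul).1 (hper _ h2d) with h | h
      · have := Nat.le_of_dvd (by norm_num) h; omega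
      · have := Nat.le_of_dvd hd0 h; omega
    refine hIJ (CfsgLib.Perm.Elusive.comm_of_comm hyns ?_ ?_)
    · have e := hfix _ (hψR (QuaternionGroup.a 1)) (by rw [← hI, hII])
      rw [hI, ← Matrix.GeneralLinearGroup.coe_mul, ← e, Matrix.GeneralLinearGroup.coe_mul]
    · have e := hfix _ (hψR (QuaternionGroup.xa 0)) (by rw [← hJ, hJJ])
      rw [hJ, ← Matrix.GeneralLinearGroup.coe_mul, ← e, Matrix.GeneralLinearGroup.coe_mul]
  rintro hr23 x hx ⟨z, hz⟩ hxns
  have hxd := (hsdet x).1 hx
  have hq := CfsgLib.Perm.Elusive.quad_two (x : Matrix (Fin 2) (Fin 2) F)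
  rw [hxd, one_smul] at hq
  obtain ⟨hIt, hId⟩ := CfsgLib.Perm.Elusive.trace_det_of_quad (t := 0) (d := 1) (by rw [hII, zero_smul, one_smul, zero_sub]) hIns
  rcases hr23 with rfl | rfl
  · have ht : (x : Matrix (Fin 2) (Fin 2) F).trace = 0 := by
      refine (CfsgLib.Perm.Elusive.eq_smul_one_of_smul_eq (b := z + 1) ?_ hxns).1
      rw [Units.val_pow_eq_pow_val, sq, hq, sub_eq_iff_eq_add] at hz
      rw [hz, add_smul, one_smul]
    obtain ⟨g, hg, hgx⟩ := hconj x (ψ (QuaternionGroup.a 1)) hxd (by rw [← hI, hId]) (by rw [← hI, hIt, ht]) (by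
      rw [ht]; norm_num
      exact fun h => mul_ne_zero h2 h2 (by linear_combination -h))
    exact ⟨g, hg, hgx ▸ Subgroup.le_normalizer (hψR _)⟩
  · obtain ⟨Y, hY⟩ : ∃ Y : Matrix (Fin 2) (Fin 2) F, Y = (2 : F)⁻¹ • (-1 + I + J + I * J) := ⟨_, rfl⟩
    obtain ⟨hYI, hYJ, hYY⟩ : Y * I = (I * J) * Y ∧ Y * J = I * Y ∧ Y * Y = (-1 : F) • Y - (1 : F) • 1 :=
      hY ▸ CfsgLib.Perm.Elusive.quat_cycle h2 hII hJJ hJI
    have hYns : ∀ c : F, Y ≠ c • (1 : Matrix (Fin 2) (Fin 2) F) := by
      intro c hc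
      have e : c • I = c • (I * J) := by
        rw [hc, smul_mul_assoc, one_mul, mul_smul_comm, mul_one] at hYI
        exact hYI
      rcases eq_or_ne c 0 with rfl | hc0
      · rw [zero_smul] at hc
        rw [hc] at hYY
        have := congrFun (congrFun hYY 0) 0
        simp at this
      · have e2 : I * I = I * (I * J) := congrArg (I * ·) (smul_right_injective _ hc0 e)
        rw [← mul_assoc, hII, neg_one_mul, neg_inj] at e2
        exact hJns 1 (by rw [one_smul, e2])
    obtain ⟨hYt, hYd⟩ := CfsgLib.Perm.Elusive.trace_det_of_quad hYY hYns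
    obtain ⟨t, ht⟩ : ∃ t, t = (x : Matrix (Fin 2) (Fin 2) F).trace := ⟨_, rfl⟩
    rw [← ht] at hq
    obtain ⟨htt, hzt⟩ := CfsgLib.Perm.Elusive.eq_smul_one_of_smul_eq (a := t * t - 1) (b := z + t) (by
      rw [Units.val_pow_eq_pow_val, pow_succ, sq, hq, sub_mul, smul_mul_assoc, hq, one_mul, smul_sub, smul_smul] at hz
      rw [sub_smul, one_smul, add_smul, ← hz]
      abel) hxns
    have ht2 : t * t = 1 := by linear_combination htt
    have hmem : ∀ U : GL (Fin 2) F, (U : Matrix (Fin 2) (Fin 2) F) = (-t) • Y → U ∈ Cfsg.Geo.subgroupNormalizer R := by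
      intro U hU
      have hcI : U * ψ (QuaternionGroup.a 1) * U⁻¹ = ψ (QuaternionGroup.a 1 * QuaternionGroup.xa 0) := by
        rw [mul_inv_eq_iff_eq_mul]
        refine Units.ext ?_
        rw [Matrix.GeneralLinearGroup.coe_mul, Matrix.GeneralLinearGroup.coe_mul, hmap, ← hI, ← hJ, hU, smul_mul_assoc,
          mul_smul_comm, hYI]
      have hcJ : U * ψ (QuaternionGroup.xa 0) * U⁻¹ = ψ (QuaternionGroup.a 1) := by
        rw [mul_inv_eq_iff_eq_mul]
        refine Units.ext ?_
        rw [Matrix.GeneralLinearGroup.coe_mul, Matrix.GeneralLinearGroup.coe_mul, ← hI, ← hJ, hU, smul_mul_assoc,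
          mul_smul_comm, hYJ]
      have hsub : ∀ w ∈ R, U * w * U⁻¹ ∈ R := by
        intro w hw
        obtain ⟨u, rfl⟩ := hψsurj w hw
        obtain ⟨k, l, rfl⟩ : ∃ k l : Fin 4, u = QuaternionGroup.a 1 ^ (k : ℕ) * QuaternionGroup.xa 0 ^ (l : ℕ) :=
          (by decide : ∀ u : QuaternionGroup 2, ∃ k l : Fin 4,
            u = QuaternionGroup.a 1 ^ (k : ℕ) * QuaternionGroup.xa 0 ^ (l : ℕ)) u
        rw [map_mul, map_pow, map_pow, show U * (ψ (QuaternionGroup.a 1) ^ (k : ℕ) * ψ (QuaternionGroup.xa 0) ^ (l : ℕ)) * U⁻¹ =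
          (U * ψ (QuaternionGroup.a 1) ^ (k : ℕ) * U⁻¹) * (U * ψ (QuaternionGroup.xa 0) ^ (l : ℕ) * U⁻¹) by group,
          ← conj_pow, ← conj_pow, hcI, hcJ]
        exact R.mul_mem (R.pow_mem (hψR _) _) (R.pow_mem (hψR _) _)
      rw [Cfsg.Geo.subgroupNormalizer, Subgroup.mem_normalizer_iff]
      intro w
      refine ⟨hsub w, fun hw => ?_⟩
      haveI : Finite R := Finite.of_equiv _ φ.symm.toEquiv
      obtain ⟨⟨w', hw'⟩, he⟩ := Finite.injective_iff_surjective.1
        (fun a b h => Subtype.ext (mul_left_cancel (mul_right_cancel (congrArg Subtype.val h))) :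
          Function.Injective fun w : R => (⟨U * w * U⁻¹, hsub w w.2⟩ : R)) ⟨_, hw⟩
      have := mul_left_cancel (mul_right_cancel (congrArg Subtype.val he))
      exact this ▸ hw'
    have hdY : ((-t) • Y).det = 1 := by rw [Matrix.det_smul, Fintype.card_fin, hYd]; linear_combination ht2
    obtain ⟨U, hU⟩ : ∃ U : GL (Fin 2) F, (U : Matrix (Fin 2) (Fin 2) F) = (-t) • Y :=
      ⟨Matrix.SpecialLinearGroup.toGL ⟨_, hdY⟩, rfl⟩
    obtain ⟨g, hg, hgx⟩ := hconj x U hxd (by rw [hU, hdY]) (by
      rw [hU, Matrix.trace_smul, hYt, ← ht, smul_eq_mul]; ring) (by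
      rw [← ht, sq, ht2]
      exact fun h => h3 (by linear_combination -h))
    exact ⟨g, hg, hgx ▸ hmem U hU⟩

end Cfsg.Agent.S5997
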