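import Cfsg.Statements.S5998
-- import your own Cfsg.Agent.* helpers here
import Mathlib
import Cfsg.Agent.Lib.Perm.Elusive.ExtraspecialThree

set_option autoImplicit false
set_option linter.all false
open scoped MatrixGroups
open Cfsg

namespace Cfsg.Agent.S5998
open Matrix

/-- Elements of prime order of PSL_3(p), p ≡ 1 (mod 3), and the normalizer of an extraspecial subgroup of order 27. Here `T = PSL_3(F)` for the field `F` with `p` elements, `p` a prime with `p ≡ 1 (mod 3)`; `R` is a non-abelian subgroup of GL_3(F) of order 27 and exponent 3 (an extraspecial group 3^{1+2}, acting absolutely irreducibly), and `H` is the subgroup of matrices of determinant 1 normalizing `R` — a subgroup of type 3^{1+2}.Sp₂(3) (maximality is not assumed). Ω is the set of cosets of `H` in `T`, so an element of `T` of prime order `r` (a matrix `x` of determinant 1 with `x^r` scalar, `x` not scalar) fixes a point of Ω exactly when some conjugate of `x` by a matrix of determinant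 1 normalizes `R`. Let `r` be a prime dividing the index of `H`. Then every element of `T` of order `r` fixes a point of Ω if and only if `r = 2`, or `r = 3` and `p ≡ 1 (mod 9)`. -/
theorem result {F : Type*} [Field F] [Fintype F] {p : ℕ} [Fact p.Prime] [CharP F p] (hF : Fintype.card F = p) (hp3 : p % 3 = 1)
    (R : Subgroup (GL (Fin 3) F)) (hR : Nat.card R = 27) (hRe : Monoid.exponent R = 3) (hRna : ¬ IsMulCommutative R)
    (r : ℕ) [Fact r.Prime]
    (hΩ : r ∣ (Cfsg.Geo.subgroupNormalizer R).relIndex (Cfsg.Geo.specialLinear (Fin 3) F)) :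
    (∀ x ∈ Cfsg.Geo.specialLinear (Fin 3) F, (∃ z : F, ((x ^ r : GL (Fin 3) F) : Matrix (Fin 3) (Fin 3) F) = z • (1 : Matrix (Fin 3) (Fin 3) F)) →
      (∀ z : F, (x : Matrix (Fin 3) (Fin 3) F) ≠ z • (1 : Matrix (Fin 3) (Fin 3) F)) →
      ∃ g ∈ Cfsg.Geo.specialLinear (Fin 3) F, g⁻¹ * x * g ∈ Cfsg.Geo.subgroupNormalizer R) ↔ (r = 2 ∨ (r = 3 ∧ p % 9 = 1)) := by
  classical
  haveI : NeZero 3 := ⟨by norm_num⟩
  have hp' := (Fact.out : p.Prime)
  have hr' := (Fact.out : r.Prime)
  have h3 : (3 : F) ≠ 0 := fun h => by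
    have h' := (Nat.prime_dvd_prime_iff_eq hp' Nat.prime_three).1 ((CharP.cast_eq_zero_iff F p 3).1 (by exact_mod_cast h))
    omega
  have h2 : (2 : F) ≠ 0 := fun h => by
    have h' := (Nat.prime_dvd_prime_iff_eq hp' Nat.prime_two).1 ((CharP.cast_eq_zero_iff F p 2).1 (by exact_mod_cast h))
    omega
  have hroot : ∀ d : ℕ, d ∣ p - 1 → 1 < d → ∃ u : F, orderOf u = d := fun d hd hd1 => by
    obtain ⟨g, hg⟩ := IsCyclic.exists_ofOrder_eq_natCard (α := Fˣ)
    rw [Nat.card_units, Nat.card_eq_fintype_card, hF] at hg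
    refine ⟨((g ^ ((p - 1) / d) : Fˣ) : F), ?_⟩
    rw [orderOf_units, ← hg]
    exact orderOf_pow_orderOf_div (orderOf_pos g).ne' (hg.symm ▸ hd)
  obtain ⟨om, hom⟩ := hroot 3 (Nat.dvd_of_mod_eq_zero (by omega)) (by norm_num)
  have hom3 : om ^ 3 = 1 := hom ▸ pow_orderOf_eq_one om
  have hom1 : om ≠ 1 := fun h => by rw [h, orderOf_one] at hom; omega
  have homq : om * om + om + 1 = 0 :=
    (mul_eq_zero.1 (show (om - 1) * (om * om + om + 1) = 0 by linear_combination hom3)).resolve_left (sub_ne_zero.2 hom1)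
  obtain ⟨μ, hμq, P, D, S, hD, hS, hPD, hPS, hcl, hRSL⟩ :=
    CfsgLib.Perm.Elusive.exists_frame R hR hRe hRna h3 homq
  have hμ3 : μ * μ * μ = 1 := by linear_combination (μ - 1) * hμq
  have hμ0 : μ ≠ 0 := fun h => by simp [h] at hμ3
  have hμ1 : μ ≠ 1 := fun h => h3 (by rw [h] at hμq; linear_combination hμq)
  haveI : Finite R := Nat.finite_of_card_ne_zero (by omega)
  have hscal : ∀ (u : GL (Fin 3) F) (c : F), (u : Matrix (Fin 3) (Fin 3) F) = c • 1 → ∀ w, u * w = w * u :=
    fun u c hu w => Units.ext (by rw [Units.val_mul, Units.val_mul, hu]; simp)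
  have hsN : ∀ (u : GL (Fin 3) F) (c : F), (u : Matrix (Fin 3) (Fin 3) F) = c • 1 →
      u ∈ Cfsg.Geo.subgroupNormalizer R := fun u c hu =>
    CfsgLib.Perm.Elusive.mem_normalizer_of_generators hcl
      (by rw [hscal u c hu, mul_inv_cancel_right]; exact hPD) (by rw [hscal u c hu, mul_inv_cancel_right]; exact hPS)
  obtain ⟨R', hR'⟩ : ∃ R' : Subgroup (GL (Fin 3) F), ∀ w, w ∈ R' ↔ P * w * P⁻¹ ∈ R :=
    ⟨R.comap (MulAut.conj P).toMonoidHom, fun w => Iff.rfl⟩
  have hD' : D ∈ R' := (hR' D).2 hPD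
  have hS' : S ∈ R' := (hR' S).2 hPS
  have hnorm : ∀ t : GL (Fin 3) F, t * D * t⁻¹ ∈ R' → t * S * t⁻¹ ∈ R' → P * t * P⁻¹ ∈ Cfsg.Geo.subgroupNormalizer R :=
    fun t h1 h2 => by
      refine CfsgLib.Perm.Elusive.mem_normalizer_of_generators hcl ?_ ?_
      · convert (hR' _).1 h1 using 1; group
      · convert (hR' _).1 h2 using 1; group
  have hsc : ∀ c : F, c ≠ 0 → ∃ u : GL (Fin 3) F, (u : Matrix (Fin 3) (Fin 3) F) = c • 1 := fun c hc =>
    ⟨Matrix.GeneralLinearGroup.mkOfDetNeZero (c • 1) (by rw [Matrix.det_smul, Matrix.det_one, mul_one]; exact pow_ne_zero _ hc), rfl⟩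
  have hdet : ∀ u : GL (Fin 3) F, u ∈ Cfsg.Geo.specialLinear (Fin 3) F → (u : Matrix (Fin 3) (Fin 3) F).det = 1 :=
    fun u hu => by
      have h : Matrix.GeneralLinearGroup.det u = 1 := hu
      rw [← Matrix.GeneralLinearGroup.val_det_apply, h, Units.val_one]
  constructor
  · intro hall
    by_contra hbad
    push Not at hbad
    obtain ⟨hr2, hr3⟩ := hbad
    by_cases hr : r = 3
    · -- the index is prime to three
      subst hr
      have h47 : p % 9 = 4 ∨ p % 9 = 7 := by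
        have := hr3 rfl
        omega
      have h27 : 27 ∣ Nat.card ((Cfsg.Geo.subgroupNormalizer R).subgroupOf (Cfsg.Geo.specialLinear (Fin 3) F)) := by
        rw [← hR, ← Nat.card_congr (Subgroup.subgroupOfEquivOfLe hRSL).toEquiv]
        exact Subgroup.card_dvd_of_le (Subgroup.comap_mono Subgroup.le_normalizer)
      have h81 : 3 * 27 ∣ Nat.card (Cfsg.Geo.specialLinear (Fin 3) F) := by
        rw [← ((Cfsg.Geo.subgroupNormalizer R).subgroupOf (Cfsg.Geo.specialLinear (Fin 3) F)).index_mul_card]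
        exact Nat.mul_dvd_mul hΩ h27
      have h243 : 243 ∣ Nat.card (GL (Fin 3) F) := by
        rw [← (Cfsg.Geo.specialLinear (Fin 3) F).card_mul_index, show (243 : ℕ) = (3 * 27) * 3 by norm_num]
        refine Nat.mul_dvd_mul h81 ?_
        rw [show (Cfsg.Geo.specialLinear (Fin 3) F).index = p - 1 by
          show ((Matrix.GeneralLinearGroup.det : GL (Fin 3) F →* Fˣ).ker).index = _
          rw [Subgroup.index_ker, MonoidHom.range_eq_top.2 Matrix.GeneralLinearGroup.det_surjective, Subgroup.card_top,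
            Nat.card_units, Nat.card_eq_fintype_card, hF]]
        omega
      rw [Matrix.card_GL_field, Fin.prod_univ_three, hF] at h243
      have key : ∀ u : ZMod 243, (u.val % 9 = 4 ∨ u.val % 9 = 7) →
          (u ^ 3 - u ^ 0) * (u ^ 3 - u ^ 1) * (u ^ 3 - u ^ 2) ≠ 0 := by decide +kernel
      refine key (p : ZMod 243) ?_ ?_
      · rw [ZMod.val_natCast]
        omega
      · have := (ZMod.natCast_eq_zero_iff _ 243).2 h243
        rw [Nat.cast_mul, Nat.cast_mul] at this
        rw [Nat.cast_sub (Nat.pow_le_pow_right hp'.pos (by norm_num)), Nat.cast_sub (Nat.pow_le_pow_right hp'.pos (by norm_num)),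
          Nat.cast_sub (Nat.pow_le_pow_right hp'.pos (by norm_num))] at this
        simpa using this
    -- derangements of order at least five
    have hdvd : r ∣ Nat.card (Cfsg.Geo.specialLinear (Fin 3) F) := hΩ.trans (Subgroup.index_dvd_card _)
    obtain ⟨⟨x, hx⟩, hxo⟩ := exists_prime_orderOf_dvd_card' r hdvd
    rw [Subgroup.orderOf_mk] at hxo
    have hxr : x ^ r = 1 := hxo ▸ pow_orderOf_eq_one x
    have hns : ∀ c : F, (x : Matrix (Fin 3) (Fin 3) F) ≠ c • 1 := fun c hc => by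
      have e1 := congrArg Units.val hxr
      rw [Units.val_pow_eq_pow_val, hc, smul_pow, one_pow, Units.val_one] at e1
      have e2 : c ^ r = 1 := by simpa using congrFun (congrFun e1 0) 0
      have e3 := hdet x hx
      rw [hc, Matrix.det_smul, Matrix.det_one, mul_one, Fintype.card_fin] at e3
      have e4 := pow_gcd_eq_one.2 ⟨e2, e3⟩
      rw [(Nat.coprime_primes hr' Nat.prime_three).2 hr, pow_one] at e4
      have : x = 1 := Units.ext (by rw [hc, e4, one_smul, Units.val_one])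
      rw [this, orderOf_one] at hxo
      exact hr'.ne_one hxo.symm
    obtain ⟨g, hg, hgN⟩ := hall x hx ⟨1, by rw [hxr, Units.val_one, one_smul]⟩ hns
    obtain ⟨y, hy⟩ : ∃ y, y = g⁻¹ * x * g := ⟨_, rfl⟩
    rw [← hy] at hgN
    have hyr : y ^ r = 1 := by
      have h := conj_pow (i := r) (a := g⁻¹) (b := x)
      rw [inv_inv] at h
      rw [hy, h, hxr]
      group
    obtain ⟨σ, hσ⟩ : ∃ σ : Equiv.Perm R, ∀ h, (σ h : GL (Fin 3) F) = y * h * y⁻¹ :=
      ⟨Equiv.subtypeEquiv (MulAut.conj y).toEquiv (fun h => Subgroup.mem_normalizer_iff.1 hgN h), fun h => rfl⟩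
    have hσk : ∀ (k : ℕ) h, ((σ ^ k) h : GL (Fin 3) F) = y ^ k * h * (y ^ k)⁻¹ := fun k => by
      induction k with
      | zero => intro h; simp
      | succ k ih =>
        intro h
        rw [pow_succ', Equiv.Perm.mul_apply, hσ, ih, pow_succ']
        group
    have hσr : σ ^ r ^ 1 = 1 := Equiv.ext fun h => Subtype.ext (by rw [pow_one, hσk, hyr]; simp)
    haveI : Fintype R := Fintype.ofFinite R
    have hmod := Equiv.Perm.card_compl_support_modEq hσr
    obtain ⟨K, hK⟩ : ∃ K, K = (Subgroup.centralizer {y}).subgroupOf R := ⟨_, rfl⟩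
    have hKmem : ∀ h : R, h ∈ σ.supportᶜ ↔ h ∈ K := fun h => by
      rw [Finset.mem_compl, Equiv.Perm.mem_support, not_not, hK, Subgroup.mem_subgroupOf,
        Subgroup.mem_centralizer_singleton_iff, ← Subtype.coe_inj, hσ, mul_inv_eq_iff_eq_mul]
      exact eq_comm
    haveI : Fintype K := Fintype.ofFinite K
    have hKc : σ.supportᶜ.card = Nat.card K := by
      rw [Nat.card_eq_fintype_card]
      exact (Fintype.card_of_subtype _ hKmem).symm
    rw [hKc, ← Nat.card_eq_fintype_card (α := R), hR] at hmod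
    obtain ⟨k, hk3, hk⟩ := (Nat.dvd_prime_pow Nat.prime_three).1
      (show Nat.card K ∣ 3 ^ 3 from K.card_subgroup_dvd_card.trans (dvd_of_eq (by rw [hR]; norm_num)))
    obtain ⟨Z, hZ⟩ := hsc μ hμ0
    have hZR : Z ∈ R := by
      have e : D * S = Z * (S * D) := Units.ext (by
        rw [Units.val_mul, Units.val_mul, Units.val_mul, hZ, hD, hS]
        ext i j
        fin_cases i <;> fin_cases j <;> simp [Matrix.mul_apply, Fin.sum_univ_three, Matrix.vecMul_diagonal, ← mul_assoc, hμ3])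
      have e' : Z ∈ R' := by
        rw [show Z = D * S * (S * D)⁻¹ by rw [e, mul_inv_cancel_right]]
        exact mul_mem (mul_mem hD' hS') (inv_mem (mul_mem hS' hD'))
      have := (hR' Z).1 e'
      rwa [← hscal Z μ hZ P, mul_inv_cancel_right] at this
    have hk0 : k ≠ 0 := by
      rintro rfl
      rw [pow_zero] at hk
      have h1 : (⟨Z, hZR⟩ : R) ∈ K := by
        rw [hK, Subgroup.mem_subgroupOf, Subgroup.mem_centralizer_singleton_iff]
        exact hscal Z μ hZ y
      rw [Subgroup.card_eq_one] at hk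
      rw [hk, Subgroup.mem_bot] at h1
      have h2 := congrArg (fun u : R => ((u : GL (Fin 3) F) : Matrix (Fin 3) (Fin 3) F) 0 0) h1
      exact hμ1 (by simpa [hZ] using h2)
    have hKtop : K = ⊤ := by
      refine Subgroup.eq_top_of_card_eq K ?_
      rw [hk, hR]
      interval_cases k
      · exact absurd rfl hk0
      · exfalso
        have h := (Nat.modEq_iff_dvd' (by rw [hk]; norm_num)).1 hmod
        rw [hk] at h
        rcases (Nat.Prime.dvd_mul hr').1 (show r ∣ 2 ^ 3 * 3 from h.trans (by norm_num)) with h' | h'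
        · exact hr2 ((Nat.prime_dvd_prime_iff_eq hr' Nat.prime_two).1 (hr'.dvd_of_dvd_pow h'))
        · exact hr ((Nat.prime_dvd_prime_iff_eq hr' Nat.prime_three).1 h')
      · exfalso
        have h := (Nat.modEq_iff_dvd' (by rw [hk]; norm_num)).1 hmod
        rw [hk] at h
        rcases (Nat.Prime.dvd_mul hr').1 (show r ∣ 2 * 3 ^ 2 from h.trans (by norm_num)) with h' | h'
        · exact hr2 ((Nat.prime_dvd_prime_iff_eq hr' Nat.prime_two).1 h')
        · exact hr ((Nat.prime_dvd_prime_iff_eq hr' Nat.prime_three).1 (hr'.dvd_of_dvd_pow h'))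
      · norm_num
    have hcomm : ∀ w ∈ R', (P⁻¹ * y * P) * w = w * (P⁻¹ * y * P) := fun w hw => by
      have h : (⟨P * w * P⁻¹, (hR' w).1 hw⟩ : R) ∈ K := hKtop ▸ Subgroup.mem_top _
      rw [hK, Subgroup.mem_subgroupOf, Subgroup.mem_centralizer_singleton_iff] at h
      simp only at h
      calc (P⁻¹ * y * P) * w = P⁻¹ * (y * (P * w * P⁻¹)) * P := by group
        _ = w * (P⁻¹ * y * P) := by rw [← h]; group
    obtain ⟨Q, hQ⟩ : ∃ Q, Q = ((P⁻¹ * y * P : GL (Fin 3) F) : Matrix (Fin 3) (Fin 3) F) := ⟨_, rfl⟩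
    have hQD := congrArg Units.val (hcomm D hD')
    have hQS := congrArg Units.val (hcomm S hS')
    rw [Units.val_mul _ D, Units.val_mul D, ← hQ, hD] at hQD
    rw [Units.val_mul _ S, Units.val_mul S, ← hQ, hS] at hQS
    have hne : ∀ i j : Fin 3, i ≠ j → Q i j = 0 := fun i j hij => by
      have h := congrFun (congrFun hQD i) j
      rw [Matrix.mul_diagonal, Matrix.diagonal_mul] at h
      have h12 : μ ≠ μ * μ := fun h => hμ1 (mul_left_cancel₀ hμ0 (by rw [mul_one]; exact h.symm))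
      have h02 : μ * μ ≠ 1 := fun h => hμ1 (by linear_combination hμ3 - μ * h)
      have hd : ![1, μ, μ * μ] i ≠ ![1, μ, μ * μ] j := by
        fin_cases i <;> fin_cases j <;> simp at hij ⊢
        exacts [Ne.symm hμ1, Ne.symm h02, hμ1, h12, h02, Ne.symm h12]
      exact (mul_eq_zero.1 (show (![1, μ, μ * μ] j - ![1, μ, μ * μ] i) * Q i j = 0 by
        linear_combination h)).resolve_left (sub_ne_zero.2 (Ne.symm hd))
    have h10 := congrFun (congrFun hQS 1) 0
    have h21 := congrFun (congrFun hQS 2) 1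
    simp [Matrix.mul_apply, Fin.sum_univ_three] at h10 h21
    have hQs : Q = (Q 0 0) • (1 : Matrix (Fin 3) (Fin 3) F) := by
      ext i j
      by_cases hij : i = j
      · subst hij
        fin_cases i
        · simp
        · simpa using h10
        · simpa using h21.trans h10
      · rw [hne i j hij, Matrix.smul_apply, Matrix.one_apply_ne hij, smul_zero]
    have hys : y = P⁻¹ * y * P := by
      calc y = P * (P⁻¹ * y * P) * P⁻¹ := by group
        _ = P⁻¹ * y * P := by rw [← hscal _ _ (hQ.symm.trans hQs) P, mul_inv_cancel_right]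
    have hxy : x = y := by
      calc x = g * y * g⁻¹ := by rw [hy]; group
        _ = y := by rw [hys, ← hscal _ _ (hQ.symm.trans hQs) g, mul_inv_cancel_right]
    exact hns (Q 0 0) (by rw [hxy, hys, ← hQ]; exact hQs)
  intro hcase x hx ⟨z, hz⟩ hns
  have hx1 := hdet x hx
  have hz3 : z * z * z = 1 := by
    have h := congrArg Matrix.det hz
    rw [Units.val_pow_eq_pow_val, Matrix.det_pow, hx1, one_pow, Matrix.det_smul, Matrix.det_one, Fintype.card_fin] at h
    linear_combination -h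
  have hz0 : z ≠ 0 := fun h => by simp [h] at hz3
  rw [Units.val_pow_eq_pow_val] at hz
  have key : ∀ (W₀ : GL (Fin 3) F) (c : F) (d : Fin 3 → F), c ≠ 0 → P * W₀ * P⁻¹ ∈ Cfsg.Geo.subgroupNormalizer R →
      ∀ Q W : GL (Fin 3) F, (W : Matrix (Fin 3) (Fin 3) F) = Matrix.diagonal d → Q * W * Q⁻¹ = W₀ →
      (∀ b : Module.Basis (Fin 3) F (Fin 3 → F), (∀ i, (x : Matrix (Fin 3) (Fin 3) F) *ᵥ b i = (c * d i) • b i) →
        ∃ g ∈ Cfsg.Geo.specialLinear (Fin 3) F, g⁻¹ * x * g ∈ Cfsg.Geo.subgroupNormalizer R) := by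
    intro W₀ c d hc hW₀ Q W hW hQW b hb
    obtain ⟨u, hu⟩ := hsc c hc
    obtain ⟨g, hg, hgx⟩ := CfsgLib.Perm.Elusive.exists_conj_of_eigenbasis x (P * Q) (u * W) (fun i => c * d i) b hb (by
      rw [Units.val_mul, hu, hW, Matrix.smul_mul, Matrix.one_mul, ← Matrix.diagonal_smul]; rfl)
    refine ⟨g, hg, ?_⟩
    rw [hgx, show P * Q * (u * W) * (P * Q)⁻¹ = u * (P * W₀ * P⁻¹) by
      rw [← hQW, ← mul_assoc _ u W, ← hscal u c hu (P * Q)]; group]
    exact mul_mem (hsN u c hu) hW₀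
  rcases hcase with rfl | ⟨rfl, h91⟩
  · -- involutions
    obtain ⟨y, hy⟩ : ∃ y, y = z • (x : Matrix (Fin 3) (Fin 3) F) := ⟨_, rfl⟩
    have hyy : y * y = 1 := by
      rw [hy, Matrix.smul_mul, Matrix.mul_smul, smul_smul, ← sq (x : Matrix (Fin 3) (Fin 3) F), hz, smul_smul, hz3, one_smul]
    have hyd : y.det = 1 := by
      rw [hy, Matrix.det_smul, hx1, Fintype.card_fin]; linear_combination hz3
    have hy1 : y ≠ 1 := fun h => hns z⁻¹ (by rw [← inv_smul_smul₀ hz0 (x : Matrix (Fin 3) (Fin 3) F), ← hy, h])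
    obtain ⟨b, hb⟩ := CfsgLib.Perm.Elusive.exists_involution_basis h2 hyy hyd hy1
    obtain ⟨T, hT⟩ : ∃ T : GL (Fin 3) F, (T : Matrix (Fin 3) (Fin 3) F) = !![-1, 0, 0; 0, 0, -1; 0, -1, 0] :=
      ⟨Matrix.GeneralLinearGroup.mkOfDetNeZero !![-1, 0, 0; 0, 0, -1; 0, -1, 0] (by rw [Matrix.det_fin_three]; simp), rfl⟩
    obtain ⟨W, hW⟩ : ∃ W : GL (Fin 3) F, (W : Matrix (Fin 3) (Fin 3) F) = Matrix.diagonal ![-1, -1, 1] :=
      ⟨Matrix.GeneralLinearGroup.mkOfDetNeZero (Matrix.diagonal ![-1, -1, 1]) (by rw [Matrix.det_diagonal, Fin.prod_univ_three]; simp), rfl⟩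
    obtain ⟨Q, hQ⟩ : ∃ Q : GL (Fin 3) F, (Q : Matrix (Fin 3) (Fin 3) F) = !![1, 0, 0; 0, 1, 1; 0, 1, -1] :=
      ⟨Matrix.GeneralLinearGroup.mkOfDetNeZero !![1, 0, 0; 0, 1, 1; 0, 1, -1] (by
        rw [Matrix.det_fin_three]
        intro h
        simp at h
        exact h2 (by linear_combination -h)), rfl⟩
    refine key T z⁻¹ ![-1, -1, 1] (inv_ne_zero hz0) (hnorm T ?_ ?_) Q W hW ?_ b fun i => ?_
    · rw [show T * D * T⁻¹ = D * D by
        rw [mul_inv_eq_iff_eq_mul]
        refine Units.ext ?_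
        simp only [Units.val_mul, hT, hD]
        ext i j
        fin_cases i <;> fin_cases j <;> simp [Matrix.mul_apply, Fin.sum_univ_three]
        linear_combination (-μ) * hμ3]
      exact mul_mem hD' hD'
    · rw [show T * S * T⁻¹ = S * S by
        rw [mul_inv_eq_iff_eq_mul]
        refine Units.ext ?_
        simp only [Units.val_mul, hT, hS]
        ext i j
        fin_cases i <;> fin_cases j <;> simp [Matrix.mul_apply, Fin.sum_univ_three]]
      exact mul_mem hS' hS'
    · rw [mul_inv_eq_iff_eq_mul]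
      refine Units.ext ?_
      simp only [Units.val_mul, hT, hW, hQ]
      ext i j
      fin_cases i <;> fin_cases j <;> simp [Matrix.mul_apply, Fin.sum_univ_three]
    · rw [← smul_smul, ← hb i, hy, smul_mulVec, inv_smul_smul₀ hz0]
  -- elements of order three
  have hx3 : (x : Matrix (Fin 3) (Fin 3) F) * x * x = z • 1 := by rw [← hz, pow_succ, sq]
  by_cases hz1 : z = 1
  · rw [hz1, one_smul] at hx3
    obtain ⟨b, hb⟩ := CfsgLib.Perm.Elusive.exists_eigenbasis_three h3 hμq hx3 (fun l v w hv hw hli =>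
      hns l (CfsgLib.Perm.Elusive.eigen_single h3 hx1 hx3 hv hw hli))
    refine key D 1 ![1, μ, μ * μ] one_ne_zero ((Subgroup.le_normalizer : R ≤ _) hPD) 1 D hD (by simp) b fun i => ?_
    rw [hb i, one_mul]
    fin_cases i <;> simp [sq]
  obtain ⟨ζ, hζ⟩ : ∃ ζ : F, ζ * ζ * ζ = z := by
    obtain ⟨u, hu⟩ := hroot 9 (Nat.dvd_of_mod_eq_zero (by omega)) (by norm_num)
    have hu9 : u ^ 9 = 1 := hu ▸ pow_orderOf_eq_one u
    have hu3 : u ^ 3 ≠ 1 := fun h => by
      have := Nat.le_of_dvd (by norm_num) (hu ▸ orderOf_dvd_of_pow_eq_one h)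
      omega
    have h6 : (z - u ^ 3) * (z - u ^ 6) = 0 := by
      have hzq : z * z + z + 1 = 0 :=
        (mul_eq_zero.1 (show (z - 1) * (z * z + z + 1) = 0 by linear_combination hz3)).resolve_left (sub_ne_zero.2 hz1)
      have huq : u ^ 6 + u ^ 3 + 1 = 0 :=
        (mul_eq_zero.1 (show (u ^ 3 - 1) * (u ^ 6 + u ^ 3 + 1) = 0 by linear_combination hu9)).resolve_left (sub_ne_zero.2 hu3)
      linear_combination hzq - z * huq + hu9
    rcases mul_eq_zero.1 h6 with h | h
    · exact ⟨u, by linear_combination -h⟩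
    · exact ⟨u * u, by linear_combination -h⟩
  have hζ0 : ζ ≠ 0 := fun h => hz0 (by rw [← hζ, h]; ring)
  obtain ⟨y, hy⟩ : ∃ y, y = ζ⁻¹ • (x : Matrix (Fin 3) (Fin 3) F) := ⟨_, rfl⟩
  have hyy : y * y * y = 1 := by
    simp only [hy, Matrix.smul_mul, Matrix.mul_smul, smul_smul]
    rw [hx3, smul_smul, ← hζ]
    field_simp
    simp
  have hyd : y.det = z⁻¹ := by
    rw [hy, Matrix.det_smul, hx1, Fintype.card_fin, ← hζ]
    field_simp
  have hρ1 : z⁻¹ ≠ 1 := fun h => hz1 (inv_eq_one.1 h)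
  obtain ⟨l, v, w, hv, hw, hvw⟩ : ∃ (l : F) (v w : Fin 3 → F), y *ᵥ v = l • v ∧ y *ᵥ w = l • w ∧ LinearIndependent F ![v, w] := by
    by_contra hcon
    push Not at hcon
    obtain ⟨b, hb⟩ := CfsgLib.Perm.Elusive.exists_eigenbasis_three h3 hμq hyy hcon
    refine hρ1 ?_
    rw [← hyd, CfsgLib.Perm.Elusive.det_of_eigenbasis b hb, Fin.prod_univ_three]
    simp only [Fin.val_zero, Fin.val_one, Fin.val_two]
    linear_combination hμ3
  have hl3 : l * l * l = 1 := by
    have h : (y * y * y) *ᵥ v = (l * l * l) • v := by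
      simp only [← mulVec_mulVec, hv, mulVec_smul, smul_smul, mul_assoc]
    rw [hyy, one_mulVec] at h
    exact smul_left_injective F (hvw.ne_zero 0) (show (l * l * l) • v = (1 : F) • v by rw [← h, one_smul])
  have hl0 : l ≠ 0 := fun h => by simp [h] at hl3
  obtain ⟨a, ha, b, hb⟩ := CfsgLib.Perm.Elusive.exists_double_basis hv hw hvw (by rw [hyd, hl3]; exact hρ1)
  rw [hyd] at ha
  have hal : a = l * z⁻¹ := by linear_combination l * ha - a * hl3
  obtain ⟨W₁, hW₁⟩ : ∃ W : GL (Fin 3) F, (W : Matrix (Fin 3) (Fin 3) F) = Matrix.diagonal ![1, 1, μ] :=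
    ⟨Matrix.GeneralLinearGroup.mkOfDetNeZero (Matrix.diagonal ![1, 1, μ]) (by rw [Matrix.det_diagonal, Fin.prod_univ_three]; simpa using hμ0), rfl⟩
  have hW₁N : P * W₁ * P⁻¹ ∈ Cfsg.Geo.subgroupNormalizer R := by
    refine hnorm W₁ ?_ ?_
    · rw [show W₁ * D * W₁⁻¹ = D by
        rw [mul_inv_eq_iff_eq_mul]
        refine Units.ext ?_
        simp only [Units.val_mul, hW₁, hD, Matrix.diagonal_mul_diagonal]
        congr 1; funext i; exact mul_comm _ _]
      exact hD'
    · rw [show W₁ * S * W₁⁻¹ = S * D by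
        rw [mul_inv_eq_iff_eq_mul]
        refine Units.ext ?_
        simp only [Units.val_mul, hW₁, hS, hD]
        ext i j
        fin_cases i <;> fin_cases j <;> simp [Matrix.mul_apply, Fin.sum_univ_three, Matrix.vecMul_diagonal, hμ3]]
      exact mul_mem hS' hD'
  have hx' : ∀ i, (x : Matrix (Fin 3) (Fin 3) F) *ᵥ b i = ((ζ * l) * ![1, 1, z⁻¹] i) • b i := fun i => by
    have h := congrArg (fun v => ζ • v) (hb i)
    simp only [hy, smul_mulVec, smul_inv_smul₀ hζ0, smul_smul] at h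
    rw [h, hal]
    fin_cases i <;> simp [mul_assoc]
  have hρq : (z⁻¹ - μ) * (z⁻¹ - μ * μ) = 0 := by
    have h : (z⁻¹ * z⁻¹ * z⁻¹ : F) = 1 := by rw [← mul_inv, ← mul_inv, hz3, inv_one]
    have h' : z⁻¹ * z⁻¹ + z⁻¹ + 1 = 0 :=
      (mul_eq_zero.1 (show (z⁻¹ - 1) * (z⁻¹ * z⁻¹ + z⁻¹ + 1) = 0 by linear_combination h)).resolve_left (sub_ne_zero.2 hρ1)
    linear_combination h' - z⁻¹ * hμq + hμ3
  rcases mul_eq_zero.1 hρq with h | h
  · rw [sub_eq_zero.1 h] at hx'
    exact key W₁ (ζ * l) ![1, 1, μ] (mul_ne_zero hζ0 hl0) hW₁N 1 W₁ hW₁ (by simp) b hx'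
  · rw [sub_eq_zero.1 h] at hx'
    refine key (W₁ * W₁) (ζ * l) ![1, 1, μ * μ] (mul_ne_zero hζ0 hl0) ?_ 1 (W₁ * W₁) ?_ (by simp) b hx'
    · rw [show P * (W₁ * W₁) * P⁻¹ = (P * W₁ * P⁻¹) * (P * W₁ * P⁻¹) by group]
      exact mul_mem hW₁N hW₁N
    · rw [Units.val_mul, hW₁, Matrix.diagonal_mul_diagonal]
      congr 1
      funext i
      fin_cases i <;> simp

end Cfsg.Agent.S5998
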