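import Cfsg.Statements.S6000
-- import your own Cfsg.Agent.* helpers here
import Mathlib
import Cfsg.Agent.Lib.Perm.Elusive.STFour.Elements
import Cfsg.Agent.Lib.Perm.Elusive.STFour.Tools
import Cfsg.Agent.Lib.Perm.Elusive.SympPrimeElement
import Cfsg.Agent.Lib.GLClass.Semisimple

set_option autoImplicit false
set_option linter.all false
set_option maxHeartbeats 1000000
open scoped MatrixGroups
open Cfsg

namespace Cfsg.Agent.S6000
open Matrix CfsgLib.Perm.Elusive

theorem sq_five : ∀ u : ZMod 5, u ≠ 0 → u ^ 2 ≠ 1 → u ^ 4 = 1 := by decide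

theorem isSS_of_pow {F : Type*} [Field F] {n : ℕ} (hn : (n : F) ≠ 0) {M : Matrix (Fin 4) (Fin 4) F} (h : M ^ n = 1) :
    CfsgLib.GLClass.IsSS M :=
  ⟨Polynomial.X ^ n - 1, Polynomial.Separable.squarefree (Polynomial.X_pow_sub_one_separable_iff.2 hn), by simp [h]⟩

/-- semisimple elements of determinant one with one characteristic polynomial are conjugate in `SL` -/
theorem sl_conj {F : Type*} [Field F] [Finite F] {a b : GL (Fin 4) F} (ha : (a : Matrix (Fin 4) (Fin 4) F).det = 1)
    (hb : (b : Matrix (Fin 4) (Fin 4) F).det = 1) (hsa : CfsgLib.GLClass.IsSS (a : Matrix (Fin 4) (Fin 4) F))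
    (hsb : CfsgLib.GLClass.IsSS (b : Matrix (Fin 4) (Fin 4) F))
    (h : (a : Matrix (Fin 4) (Fin 4) F).charpoly = (b : Matrix (Fin 4) (Fin 4) F).charpoly) :
    ∃ g ∈ Cfsg.Geo.specialLinear (Fin 4) F, g⁻¹ * a * g = b := by
  obtain ⟨c, hc⟩ := isConj_iff.1 (CfsgLib.GLClass.sl_isConj_of_charpoly (F := F) (m := 4) (by norm_num)
    (a := ⟨_, ha⟩) (b := ⟨_, hb⟩) hsa hsb h)
  obtain ⟨G, hG⟩ : ∃ G : GL (Fin 4) F, (G : Matrix (Fin 4) (Fin 4) F) = (c : Matrix (Fin 4) (Fin 4) F) :=
    ⟨Matrix.GeneralLinearGroup.mkOfDetNeZero _ (by rw [c.det_coe]; exact one_ne_zero), rfl⟩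
  refine ⟨G⁻¹, ?_, ?_⟩
  · refine inv_mem ?_
    show Matrix.GeneralLinearGroup.det G = 1
    refine Units.ext ?_
    rw [Matrix.GeneralLinearGroup.val_det_apply, hG, c.det_coe, Units.val_one]
  · rw [inv_inv, mul_inv_eq_iff_eq_mul]
    refine Units.ext ?_
    have h' := congrArg (fun s : Matrix.SpecialLinearGroup (Fin 4) F => (s : Matrix (Fin 4) (Fin 4) F))
      (mul_inv_eq_iff_eq_mul.1 hc)
    beta_reduce at h'
    rw [Units.val_mul, Units.val_mul, hG]
    exact h'


/-- Elements of prime order of PSL_4(p), p ≡ 1 (mod 4), and the normalizer of a 2-group of symplectic type of order 2⁶. Here `T = PSL_4(F)` for the field `F` with `p` elements, `p` a prime with `p ≡ 1 (mod 4)`; `R` is an absolutely irreducible subgroup of GL_4(F) of order 2⁶ that is a 2-group of symplectic type of exponent 4 with centre of order 4 (the central product of the scalars of order 4 with an extraspecial group 2^{1+4}), and `H` is the subgroup of matrices of determinant 1 normalizing `R` — a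 subgroup of type 2⁴.Sp₄(2) (maximality is not assumed). Ω is the set of cosets of `H` in `T`, so an element of `T` of prime order `r` (a matrix `x` of determinant 1 with `x^r` scalar, `x` not scalar) fixes a point of Ω exactly when some conjugate of `x` by a matrix of determinant 1 normalizes `R`. Let `r` be a prime dividing the index of `H`. Then every element of `T` of order `r` fixes a point of Ω if and only if `r = 2`, or `r = 3` and `p ≡ 2 (mod 3)`, or `r = 5` and `p ≡ ±2 (mod 5)` (`p` has multiplicative order 4 modulo 5). -/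
theorem result {F : Type*} [Field F] [Fintype F] {p : ℕ} [Fact p.Prime] [CharP F p] (hF : Fintype.card F = p) (hp4 : p % 4 = 1)
    (R : Subgroup (GL (Fin 4) F)) (hR : Cfsg.Geo.IsLinearSymplecticTypeData 2 R) (hR6 : Nat.card R = 2 ^ 6)
    (r : ℕ) [Fact r.Prime]
    (hΩ : r ∣ (Cfsg.Geo.subgroupNormalizer R).relIndex (Cfsg.Geo.specialLinear (Fin 4) F)) :
    (∀ x ∈ Cfsg.Geo.specialLinear (Fin 4) F, (∃ z : F, ((x ^ r : GL (Fin 4) F) : Matrix (Fin 4) (Fin 4) F) = z • (1 : Matrix (Fin 4) (Fin 4) F)) →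
      (∀ z : F, (x : Matrix (Fin 4) (Fin 4) F) ≠ z • (1 : Matrix (Fin 4) (Fin 4) F)) →
      ∃ g ∈ Cfsg.Geo.specialLinear (Fin 4) F, g⁻¹ * x * g ∈ Cfsg.Geo.subgroupNormalizer R) ↔ (r = 2 ∨ (r = 3 ∧ p % 3 = 2) ∨ (r = 5 ∧ orderOf (p : ZMod 5) = 4)) := by
  classical
  have hp' := (Fact.out : p.Prime)
  have hr' := (Fact.out : r.Prime)
  have hp5 : 5 ≤ p := by have := hp'.two_le; omega
  have hnz : ∀ n : ℕ, 0 < n → n < p → (n : F) ≠ 0 := fun n h0 hn h => by
    have := Nat.le_of_dvd h0 ((CharP.cast_eq_zero_iff F p n).1 h)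
    omega
  have h2 : (2 : F) ≠ 0 := by simpa using hnz 2 (by norm_num) (by omega)
  have h3 : (3 : F) ≠ 0 := by simpa using hnz 3 (by norm_num) (by omega)
  have hR4 : Nat.card (Subgroup.center R) = 4 := by
    obtain ⟨p', e, -, -, h | h | h⟩ := hR.field
    · exact absurd h.1 (by decide)
    · exact h.2.2.1
    · exact absurd h.2.2.1 (by simp)
  have hset : STFour.Setting R := ⟨Nat.finite_of_card_ne_zero (by rw [hR6]; norm_num), h2, hR.symplecticType, hR.absIrred⟩
  obtain ⟨A, B, J, K, hA, hB, hJ, hK, hrel, i, hii, si, hsi, hsiv⟩ :=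
    hset.exists_frame_four (by simp) (by rw [hR6]; norm_num) hR4
  have hFr : STFour.Frame R A B J K := ⟨hset, by simp, hA, hB, hJ, hK, hrel⟩
  have hsl : ∀ u : GL (Fin 4) F, u ∈ Cfsg.Geo.specialLinear (Fin 4) F ↔ (u : Matrix (Fin 4) (Fin 4) F).det = 1 := fun u => by
    show Matrix.GeneralLinearGroup.det u = 1 ↔ _
    rw [← Matrix.GeneralLinearGroup.val_det_apply, Units.val_eq_one]
  have hscal : ∀ c : F, c ≠ 0 → ∃ s : GL (Fin 4) F, (s : Matrix (Fin 4) (Fin 4) F) = c • 1 := fun c hc =>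
    ⟨Matrix.GeneralLinearGroup.mkOfDetNeZero (c • 1) (by
      rw [det_smul, det_one, mul_one]; exact pow_ne_zero _ hc), rfl⟩
  constructor
  · intro hall
    by_contra hbad
    push Not at hbad
    obtain ⟨hr2, hb3, hb5⟩ := hbad
    have hrodd : Odd r := hr'.odd_of_ne_two hr2
    suffices hex : ∃ (x : GL (Fin 4) F) (z : F), (x : Matrix (Fin 4) (Fin 4) F).det = 1 ∧
        ((x ^ r : GL (Fin 4) F) : Matrix (Fin 4) (Fin 4) F) = z • 1 ∧
        (∀ c : F, (x : Matrix (Fin 4) (Fin 4) F) ≠ c • 1) ∧ ∀ h, h⁻¹ * x * h ∉ Cfsg.Geo.subgroupNormalizer R by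
      obtain ⟨x, z, hd, hz, hns, hno⟩ := hex
      obtain ⟨g, -, hg⟩ := hall x ((hsl x).2 hd) ⟨z, hz⟩ hns
      exact hno g hg
    have htrans : r = p → ∃ (x : GL (Fin 4) F) (z : F), (x : Matrix (Fin 4) (Fin 4) F).det = 1 ∧
        ((x ^ r : GL (Fin 4) F) : Matrix (Fin 4) (Fin 4) F) = z • 1 ∧
        (∀ c : F, (x : Matrix (Fin 4) (Fin 4) F) ≠ c • 1) ∧ ∀ h, h⁻¹ * x * h ∉ Cfsg.Geo.subgroupNormalizer R := by
      intro hrp
      obtain ⟨x, hx⟩ : ∃ x : GL (Fin 4) F, (x : Matrix (Fin 4) (Fin 4) F) = transvection 0 1 1 :=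
        ⟨Matrix.GeneralLinearGroup.mkOfDetNeZero (transvection 0 1 1) (by simp), rfl⟩
      have hpow : ∀ k : ℕ, ((x ^ k : GL (Fin 4) F) : Matrix (Fin 4) (Fin 4) F) = transvection 0 1 (k : F) := fun k => by
        induction k with
        | zero => simp
        | succ k ih => rw [pow_succ, Units.val_mul, ih, hx, transvection_mul_transvection_same _ _ (by decide), Nat.cast_succ]
      have hz : ((x ^ r : GL (Fin 4) F) : Matrix (Fin 4) (Fin 4) F) = (1 : F) • 1 := by
        rw [hpow, hrp, CharP.cast_eq_zero, transvection_zero, one_smul]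
      have hns : ∀ c : F, (x : Matrix (Fin 4) (Fin 4) F) ≠ c • 1 := fun c hc => by
        have := congrFun (congrFun hc 0) 1
        simp [hx, transvection] at this
      refine ⟨x, 1, by rw [hx]; simp, hz, hns, hFr.no_conj_rankOne (c := 1)
        (u := Pi.single 0 1) (φ := Pi.single 1 1) ?_ hrodd hz hns⟩
      rw [hx, one_smul, transvection]
      congr 1
      ext a b
      simp [vecMulVec_apply, Matrix.single, Pi.single_apply, and_comm, ite_and, eq_comm] <;> split_ifs <;> simp_all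
    rcases (show r = 3 ∨ r = 5 ∨ 7 ≤ r by
      rcases Nat.lt_or_ge r 7 with h | h
      · interval_cases r <;> simp_all (config := { decide := true })
      · omega) with rfl | rfl | hr7
    · have h31 : 3 ∣ Fintype.card Fˣ := by
        rw [Fintype.card_units, hF]
        have := hb3 rfl
        have h30 : p % 3 ≠ 0 := fun h => by
          have := (Nat.prime_dvd_prime_iff_eq Nat.prime_three hp').1 (Nat.dvd_of_mod_eq_zero h)
          omega
        omega
      obtain ⟨wu, hwu⟩ := exists_prime_orderOf_dvd_card 3 h31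
      obtain ⟨w, hw⟩ : ∃ w : F, w = (wu : F) := ⟨_, rfl⟩
      have hw3 : w ^ 3 = 1 := by rw [hw, ← Units.val_pow_eq_pow_val, ← hwu, pow_orderOf_eq_one, Units.val_one]
      have hw1 : w ≠ 1 := fun h => by
        have : wu = 1 := Units.ext (hw ▸ h)
        rw [this, orderOf_one] at hwu; omega
      obtain ⟨x, hx⟩ : ∃ x : GL (Fin 4) F, (x : Matrix (Fin 4) (Fin 4) F) = diagonal ![1, w, w, w] :=
        ⟨Matrix.GeneralLinearGroup.mkOfDetNeZero (diagonal ![1, w, w, w]) (by
          simp [det_diagonal, Fin.prod_univ_four, hw]), rfl⟩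
      have hz : ((x ^ 3 : GL (Fin 4) F) : Matrix (Fin 4) (Fin 4) F) = (1 : F) • 1 := by
        rw [Units.val_pow_eq_pow_val, hx, diagonal_pow, one_smul, ← diagonal_one]
        congr 1; funext a
        fin_cases a <;> simp [hw3]
      have hns : ∀ c : F, (x : Matrix (Fin 4) (Fin 4) F) ≠ c • 1 := fun c hc => by
        have e0 := congrFun (congrFun hc 0) 0
        have e1 := congrFun (congrFun hc 1) 1
        simp [hx] at e0 e1
        exact hw1 (e1.trans e0.symm)
      refine ⟨x, 1, ?_, hz, hns, hFr.no_conj_rankOne (c := w) (u := Pi.single 0 (w ^ 2 - 1)) (φ := Pi.single 0 1) ?_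
        hrodd hz hns⟩
      · rw [hx, det_diagonal, Fin.prod_univ_four]
        simp
        linear_combination hw3
      · rw [hx]
        have hww : w * (w ^ 2 - 1) = 1 - w := by linear_combination hw3
        ext a b
        fin_cases a <;> fin_cases b <;> simp [vecMulVec_apply, hww] <;> linear_combination -hw3
    · by_cases hrp : (5 : ℕ) = p
      · exact htrans hrp
      have hord := hb5 rfl
      have hp0 : (p : ZMod 5) ≠ 0 := fun h =>
        hrp ((Nat.prime_dvd_prime_iff_eq hr' hp').1 ((ZMod.natCast_eq_zero_iff p 5).1 h))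
      have h51 : 5 ∣ Fintype.card F - 1 ∨ 5 ∣ Fintype.card F + 1 := by
        have hsq : (p : ZMod 5) ^ 2 = 1 := by
          by_contra hne
          exact hord (orderOf_eq_prime_pow (p := 2) (n := 1) (by simpa using hne) (by simpa using sq_five _ hp0 hne))
        rcases mul_self_eq_one_iff.1 (show (p : ZMod 5) * p = 1 by rw [← sq]; exact hsq) with h | h
        · refine Or.inl ((Nat.modEq_iff_dvd' (by omega)).1 ?_)
          rw [hF]
          exact ((ZMod.natCast_eq_natCast_iff p 1 5).1 (by simpa using h)).symm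
        · refine Or.inr ((ZMod.natCast_eq_zero_iff _ 5).1 ?_)
          rw [hF, Nat.cast_add, h, Nat.cast_one, neg_add_cancel]
      obtain ⟨S, hS5, hSfix⟩ := exists_fpf_sl_two (p := p) (r := 5) (K := F) hrp h51
      obtain ⟨x, hx⟩ : ∃ x : GL (Fin 4) F, (x : Matrix (Fin 4) (Fin 4) F) =
          reindex (finSumFinEquiv (m := 2) (n := 2)) (finSumFinEquiv (m := 2) (n := 2)) (fromBlocks 1 0 0 S.1) :=
        ⟨Matrix.GeneralLinearGroup.mkOfDetNeZero
          (reindex (finSumFinEquiv (m := 2) (n := 2)) (finSumFinEquiv (m := 2) (n := 2)) (fromBlocks 1 0 0 S.1)) (by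
            rw [det_reindex_self, det_fromBlocks_zero₂₁, det_one, S.det_coe, one_mul]; exact one_ne_zero), rfl⟩
      have hz : ((x ^ 5 : GL (Fin 4) F) : Matrix (Fin 4) (Fin 4) F) = (1 : F) • 1 := by
        rw [Units.val_pow_eq_pow_val, hx, ← Matrix.coe_reindexAlgEquiv (R := F) (A := F), ← map_pow,
          fromBlocks_diagonal_pow, one_pow, ← Matrix.SpecialLinearGroup.coe_pow, hS5, Matrix.SpecialLinearGroup.coe_one,
          fromBlocks_one, map_one, one_smul]
      have hns : ∀ c : F, (x : Matrix (Fin 4) (Fin 4) F) ≠ c • 1 := fun c hc => by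
        have hb : fromBlocks 1 0 0 S.1 = c • (1 : Matrix (Fin 2 ⊕ Fin 2) (Fin 2 ⊕ Fin 2) F) := by
          refine (reindexAlgEquiv F F (finSumFinEquiv (m := 2) (n := 2))).injective ?_
          rw [map_smul, map_one, Matrix.coe_reindexAlgEquiv, ← hx, hc]
        have e0 := congrFun (congrFun hb (Sum.inl 0)) (Sum.inl 0)
        simp at e0
        refine one_ne_zero (α := F) ?_
        have hv := hSfix (Pi.single 0 1) (by
          funext a
          have e1 := congrFun (congrFun hb (Sum.inr a)) (Sum.inr 0)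
          simp [← e0, Matrix.one_apply] at e1
          simp [e1, Pi.single_apply])
        simpa using congrFun hv 0
      exact ⟨x, 1, by rw [hx, det_reindex_self, det_fromBlocks_zero₂₁, det_one, S.det_coe, one_mul], hz, hns,
        hFr.no_conj_five (finSumFinEquiv (m := 2) (n := 2)).symm hx hz hns⟩
    · by_cases hrp : r = p
      · exact htrans hrp
      have hdvd : r ∣ Nat.card (Cfsg.Geo.specialLinear (Fin 4) F) := hΩ.trans (Subgroup.index_dvd_card _)
      obtain ⟨⟨x, hx⟩, hxo⟩ := exists_prime_orderOf_dvd_card' r hdvd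
      have hx1 : x ^ r = 1 := congrArg Subtype.val (hxo ▸ pow_orderOf_eq_one
        (⟨x, hx⟩ : Cfsg.Geo.specialLinear (Fin 4) F))
      have hns : ∀ c : F, (x : Matrix (Fin 4) (Fin 4) F) ≠ c • 1 := fun c hc => by
        have hc4 : c ^ 4 = 1 := by simpa [hc] using (hsl x).1 hx
        have hcr : c ^ r = 1 := by
          have := congrArg (fun g : GL (Fin 4) F => (g : Matrix (Fin 4) (Fin 4) F) 0 0) hx1
          simpa [hc, smul_pow] using this
        have hco : Nat.Coprime r 4 := by
          rw [Nat.Prime.coprime_iff_not_dvd hr']; intro h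
          have := Nat.le_of_dvd (by norm_num) h; omega
        have hc1 : c = 1 := orderOf_eq_one_iff.1 (Nat.eq_one_of_dvd_coprimes hco
          (orderOf_dvd_of_pow_eq_one hcr) (orderOf_dvd_of_pow_eq_one hc4))
        have : x = 1 := Units.ext (by rw [hc, hc1, one_smul, Units.val_one])
        subst this
        rw [show (⟨1, hx⟩ : Cfsg.Geo.specialLinear (Fin 4) F) = 1 from rfl, orderOf_one] at hxo
        omega
      refine ⟨x, 1, (hsl x).1 hx, by rw [hx1, Units.val_one, one_smul], hns, fun h hN => ?_⟩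
      obtain ⟨c, hc⟩ := hFr.scalar_of_large hN hr7 (STFour.conj_pow_scalar (z := 1) (by rw [hx1, Units.val_one, one_smul]))
      exact hns c (STFour.conj_scalar hc)
  · intro hcond x hxSL hxz hns
    obtain ⟨z, hz⟩ := hxz
    have hxd := (hsl x).1 hxSL
    have hz4 : z ^ 4 = 1 := by
      have h := congrArg Matrix.det hz
      rw [Units.val_pow_eq_pow_val, det_pow, hxd, one_pow, det_smul, det_one, mul_one, Fintype.card_fin] at h
      exact h.symm
    have hz0 : z ≠ 0 := fun h => by simp [h] at hz4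
    -- enough to settle a multiple with the right order
    have hred : ∀ m : ℕ, (∃ g ∈ Cfsg.Geo.specialLinear (Fin 4) F, g⁻¹ * (x ^ r) ^ m * x * g ∈ Cfsg.Geo.subgroupNormalizer R) →
        ∃ g ∈ Cfsg.Geo.specialLinear (Fin 4) F, g⁻¹ * x * g ∈ Cfsg.Geo.subgroupNormalizer R := by
      rintro m ⟨g, hg, hgN⟩
      refine ⟨g, hg, ?_⟩
      have hs : ((x ^ r) ^ m : GL (Fin 4) F).1 = z ^ m • 1 := by
        rw [Units.val_pow_eq_pow_val, hz, smul_pow, one_pow]
      have e : g⁻¹ * x * g = (((x ^ r) ^ m)⁻¹) * (g⁻¹ * (x ^ r) ^ m * x * g) := by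
        have hcg : g⁻¹ * (x ^ r) ^ m = (x ^ r) ^ m * g⁻¹ := Units.ext (by rw [Units.val_mul, Units.val_mul, hs]; simp)
        rw [hcg]; group
      rw [e]
      exact mul_mem (inv_mem (STFour.scalar_mem_normalizer hs)) hgN
    rcases hcond with rfl | ⟨rfl, hp3⟩ | ⟨rfl, hp4'⟩
    · -- involutions
      obtain ⟨c, hc⟩ : ∃ c : F, c ^ 2 = z := by
        by_contra hcon
        push Not at hcon
        obtain ⟨-, hdet⟩ := det_of_pow_eq_nonpower Nat.prime_two (by simpa using h2)
          (Matrix.toLin' (x : Matrix (Fin 4) (Fin 4) F)) (z := z) (by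
            rw [← Matrix.toLin'_pow, ← Units.val_pow_eq_pow_val, hz, map_smul, Matrix.toLin'_one]) hcon
        rw [LinearMap.det_toLin', hxd, Module.finrank_fin_fun] at hdet
        rcases mul_self_eq_one_iff.1 (show z * z = 1 by norm_num at hdet; linear_combination -hdet) with h | h
        · exact hcon 1 (by rw [h]; ring)
        · exact hcon i (by rw [h]; linear_combination hii)
      have hc0 : c ≠ 0 := fun h => hz0 (by rw [← hc, h]; ring)
      obtain ⟨u, hu⟩ : ∃ u : Matrix (Fin 4) (Fin 4) F, u = c⁻¹ • (x : Matrix (Fin 4) (Fin 4) F) := ⟨_, rfl⟩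
      have hxu : (x : Matrix (Fin 4) (Fin 4) F) = c • u := by rw [hu, smul_smul, mul_inv_cancel₀ hc0, one_smul]
      have huu : u * u = 1 := by
        rw [hu, smul_mul_assoc, mul_smul_comm, smul_smul, ← sq (x : Matrix (Fin 4) (Fin 4) F),
          ← Units.val_pow_eq_pow_val, hz, smul_smul, ← hc]
        rw [show c⁻¹ * c⁻¹ * c ^ 2 = 1 by field_simp, one_smul]
      have hu1 : u ≠ 1 := fun h => hns c (by rw [hxu, h])
      have hu2 : u ≠ -1 := fun h => hns (-c) (by rw [hxu, h, smul_neg, neg_smul])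
      obtain ⟨T, hTN, hTT, hT1, hT2, hTt⟩ : ∃ T : GL (Fin 4) F, T ∈ Cfsg.Geo.subgroupNormalizer R ∧
          (T : Matrix (Fin 4) (Fin 4) F) * T = 1 ∧ (T : Matrix (Fin 4) (Fin 4) F) ≠ 1 ∧
          (T : Matrix (Fin 4) (Fin 4) F) ≠ -1 ∧ (T : Matrix (Fin 4) (Fin 4) F).trace = u.trace := by
        obtain ⟨Rf, hRfN, hRf2, hRft, -, -⟩ := hFr.exists_reflection hsi hsiv hii
        have h4 : (4 : F) ≠ 0 := by simpa using hnz 4 (by norm_num) (by omega)
        have hne : ∀ (T : GL (Fin 4) F), (T : Matrix (Fin 4) (Fin 4) F).trace ≠ 4 →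
            (T : Matrix (Fin 4) (Fin 4) F).trace ≠ -4 →
            (T : Matrix (Fin 4) (Fin 4) F) ≠ 1 ∧ (T : Matrix (Fin 4) (Fin 4) F) ≠ -1 := fun T ha hb =>
          ⟨fun h => ha (by rw [h]; simp), fun h => hb (by rw [h]; simp)⟩
        have h6 : (6 : F) ≠ 0 := by
          rw [show (6 : F) = 2 * 3 by norm_num]; exact mul_ne_zero h2 h3
        rcases STFour.invol_trace (by simp) h2 huu hu1 hu2 with h | h | h
        · obtain ⟨a, b⟩ := hne Rf (by rw [hRft]; exact fun e => h2 (by linear_combination -e))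
            (by rw [hRft]; exact fun e => h6 (by linear_combination e))
          exact ⟨Rf, hRfN, hRf2, a, b, by rw [hRft, h]⟩
        · have ht : (A : Matrix (Fin 4) (Fin 4) F).trace = 0 := hFr.trace_eq_zero hA
            (STFour.not_scalar_of_anticomm h2 (y := B) (by rw [hrel.BA, neg_neg]))
          obtain ⟨a, b⟩ := hne A (by rw [ht]; exact fun e => h4 e.symm)
            (by rw [ht]; exact fun e => h4 (by linear_combination e))
          exact ⟨A, Subgroup.le_normalizer hA, hrel.AA, a, b, by rw [ht, h]⟩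
        · have ht : ((-Rf : GL (Fin 4) F) : Matrix (Fin 4) (Fin 4) F).trace = -2 := by
            rw [Units.val_neg, trace_neg, hRft]
          obtain ⟨a, b⟩ := hne (-Rf) (by rw [ht]; exact fun e => h6 (by linear_combination -e))
            (by rw [ht]; exact fun e => h2 (by linear_combination e))
          refine ⟨-Rf, ?_, by simp [hRf2], a, b, by rw [ht, h]⟩
          rw [show -Rf = (-1) * Rf by simp]
          exact mul_mem (STFour.scalar_mem_normalizer (c := -1) (by simp)) hRfN
      have hch := STFour.charpoly_invol (ι := Fin 4) (by simp) h2 huu hTT hu1 hu2 hT1 hT2 hTt.symm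
      have hss : ∀ M : Matrix (Fin 4) (Fin 4) F, M * M = 1 → CfsgLib.GLClass.IsSS M := fun M hM =>
        isSS_of_pow (n := 2) (by simpa using h2) (by rw [sq, hM])
      obtain ⟨P, hP⟩ := CfsgLib.GLClass.isConj_of_charpoly_eq (hss _ huu) (hss _ hTT) hch
      obtain ⟨s, hs⟩ := hscal c hc0
      have hchx : (x : Matrix (Fin 4) (Fin 4) F).charpoly = ((s * T : GL (Fin 4) F) : Matrix (Fin 4) (Fin 4) F).charpoly := by
        have e : (P : Matrix (Fin 4) (Fin 4) F) * x * ((P⁻¹ : GL (Fin 4) F) : Matrix (Fin 4) (Fin 4) F) =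
            ((s * T : GL (Fin 4) F) : Matrix (Fin 4) (Fin 4) F) := by
          rw [Units.val_mul, hs, smul_mul_assoc, one_mul, hxu, mul_smul_comm, smul_mul_assoc, hP.eq, mul_assoc,
            ← Units.val_mul, mul_inv_cancel, Units.val_one, mul_one]
        rw [← e, Matrix.coe_units_inv, Matrix.charpoly_units_conj]
      have hdet : ((s * T : GL (Fin 4) F) : Matrix (Fin 4) (Fin 4) F).det = 1 := by
        rw [Matrix.det_eq_sign_charpoly_coeff, ← hchx, ← Matrix.det_eq_sign_charpoly_coeff, hxd]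
      have hpow8 : ∀ M : Matrix (Fin 4) (Fin 4) F, M * M = 1 → CfsgLib.GLClass.IsSS (c • M) := fun M hM => by
        refine isSS_of_pow (n := 8) ?_ ?_
        · rw [show ((8 : ℕ) : F) = 2 ^ 3 by norm_num]; exact pow_ne_zero _ h2
        · rw [smul_pow, show 8 = 2 * 4 from rfl, pow_mul M, sq, hM, one_pow, pow_mul, hc, hz4, one_smul]
      obtain ⟨g, hg, hgx⟩ := sl_conj hxd hdet (hxu ▸ hpow8 u huu)
        (by rw [Units.val_mul, hs, smul_mul_assoc, one_mul]; exact hpow8 _ hTT) hchx
      exact ⟨g, hg, hgx ▸ mul_mem (STFour.scalar_mem_normalizer hs) hTN⟩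
    · -- order three
      refine hred 1 ?_
      rw [pow_one]
      obtain ⟨y, hy⟩ : ∃ y, y = x ^ 3 * x := ⟨_, rfl⟩
      have hy3 : y ^ 3 = 1 := Units.ext (by
        rw [hy, show (x ^ 3 * x) ^ 3 = (x ^ 3) ^ 4 by group, Units.val_pow_eq_pow_val, hz, smul_pow, one_pow, hz4,
          one_smul, Units.val_one])
      have hyM : (y : Matrix (Fin 4) (Fin 4) F) ^ 3 = 1 := by rw [← Units.val_pow_eq_pow_val, hy3, Units.val_one]
      have hyd : (y : Matrix (Fin 4) (Fin 4) F).det = 1 := by
        rw [hy, Units.val_mul, det_mul, Units.val_pow_eq_pow_val, det_pow, hxd, one_pow, one_mul]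
      have hyns : (y : Matrix (Fin 4) (Fin 4) F) ≠ 1 := fun h => hns z⁻¹ (by
        rw [hy, Units.val_mul, hz, smul_mul_assoc, one_mul] at h
        rw [← h, smul_smul, inv_mul_cancel₀ hz0, one_smul])
      have hinv : ∀ (M : Matrix (Fin 4) (Fin 4) F), M ^ 3 = 1 → ∀ t ∈ STFour.spec M, t⁻¹ ∈ STFour.spec M := by
        intro M hM t ht
        have h := STFour.spec_pow hF M ht
        have ht3 := STFour.mem_spec_root (g := Polynomial.X ^ 3 - 1) (by simp [hM]) ht
        simp [sub_eq_zero] at ht3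
        rwa [inv_eq_of_mul_eq_one_right (show t * t ^ p = 1 by
          rw [← pow_succ', show p + 1 = 3 * ((p + 1) / 3) by omega, pow_mul, ht3, one_pow])]
      obtain ⟨k, hkN, hkd, hk3, hk1, hiff⟩ : ∃ k : GL (Fin 4) F, k ∈ Cfsg.Geo.subgroupNormalizer R ∧
          (k : Matrix (Fin 4) (Fin 4) F).det = 1 ∧ k ^ 3 = 1 ∧ (k : Matrix (Fin 4) (Fin 4) F) ≠ 1 ∧
          ((y : Matrix (Fin 4) (Fin 4) F) * y + y + 1 = 0 ↔ (k : Matrix (Fin 4) (Fin 4) F) * k + k + 1 = 0) := by
        by_cases hy0 : (y : Matrix (Fin 4) (Fin 4) F) * y + y + 1 = 0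
        · obtain ⟨k, h1, h2', h3', h4, -, -⟩ := hFr.exists_three hJ hK hrel.JJ hrel.KK (by rw [hrel.KJ, neg_neg])
          refine ⟨k, h1, h2', h4, fun h => ?_, by simp [hy0, h3']⟩
          rw [h] at h3'
          have := congrFun (congrFun h3' 0) 0
          simp at this
          exact h3 (by linear_combination this)
        · obtain ⟨k, h1, h2', h3', h4, h5, -⟩ := hFr.exists_three_fixed hsi hsiv hii h3
          exact ⟨k, h1, h2', h3', fun h => h4 (Units.ext h), by simp [hy0, h5]⟩
      have hkM : (k : Matrix (Fin 4) (Fin 4) F) ^ 3 = 1 := by rw [← Units.val_pow_eq_pow_val, hk3, Units.val_one]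
      have hch := STFour.charpoly_three (ι := Fin 4) (by simp) h3 hyM hkM hyns hk1 hyd hkd (hinv _ hyM) (hinv _ hkM) hiff
      have hss : ∀ M : Matrix (Fin 4) (Fin 4) F, M ^ 3 = 1 → CfsgLib.GLClass.IsSS M := fun M hM =>
        isSS_of_pow (n := 3) (by simpa using h3) hM
      obtain ⟨g, hg, hgy⟩ := sl_conj hyd hkd (hss _ hyM) (hss _ hkM) hch
      refine ⟨g, hg, ?_⟩
      rw [show g⁻¹ * x ^ 3 * x * g = g⁻¹ * (x ^ 3 * x) * g by group, ← hy, hgy]
      exact hkN
    · -- order five
      refine hred 3 ?_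
      obtain ⟨y, hy⟩ : ∃ y, y = (x ^ 5) ^ 3 * x := ⟨_, rfl⟩
      have hy5 : y ^ 5 = 1 := Units.ext (by
        rw [hy, show ((x ^ 5) ^ 3 * x) ^ 5 = (x ^ 5) ^ 16 by group, Units.val_pow_eq_pow_val, hz, smul_pow, one_pow,
          show (16 : ℕ) = 4 * 4 from rfl, pow_mul, hz4, one_pow, one_smul, Units.val_one])
      have hyd : (y : Matrix (Fin 4) (Fin 4) F).det = 1 := by
        rw [hy, Units.val_mul, det_mul, Units.val_pow_eq_pow_val, det_pow, Units.val_pow_eq_pow_val, det_pow, hxd,
          one_pow, one_pow, one_mul]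
      have hyns : (y : Matrix (Fin 4) (Fin 4) F) ≠ 1 := fun h => hns ((z ^ 3)⁻¹) (by
        rw [hy, Units.val_mul, Units.val_pow_eq_pow_val, hz, smul_pow, one_pow, smul_mul_assoc, one_mul] at h
        rw [← h, smul_smul, inv_mul_cancel₀ (pow_ne_zero _ hz0), one_smul])
      have h5p : 5 ≠ p := fun h => by
        rw [← h] at hp4'
        rw [ZMod.natCast_self, orderOf_eq_zero (by simp [isOfFinOrder_iff_pow_eq_one, zero_pow_eq])] at hp4'
        omega
      have h5 : ((5 : ℕ) : F) ≠ 0 := natCast_ne_zero_of_ne (p := p) h5p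
      haveI : NeZero ((5 : ℕ) : F) := ⟨h5⟩
      have hdeg : (Polynomial.cyclotomic 5 F).natDegree = 4 := by rw [Polynomial.natDegree_cyclotomic]; decide
      have hirr : Irreducible (Polynomial.cyclotomic 5 F) := by
        obtain ⟨f, hfm, hfi, hfd⟩ := Polynomial.exists_monic_irreducible_factor (Polynomial.cyclotomic 5 F)
          (fun h => by have := Polynomial.natDegree_eq_zero_of_isUnit h; omega)
        have hd := factor_degree (r := 5) (p := p) h5p hfi hfd
        rw [hF, hp4'] at hd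
        rwa [← Polynomial.eq_of_monic_of_dvd_of_natDegree_le hfm (Polynomial.cyclotomic.monic 5 F) hfd
          (by rw [hdeg, hd])] at hfi
      obtain ⟨k, hkN, hkd, hk5, hk1, -⟩ := hFr.exists_five
      have hM : ∀ w : GL (Fin 4) F, w ^ 5 = 1 → (w : Matrix (Fin 4) (Fin 4) F) ^ 5 = 1 := fun w hw => by
        rw [← Units.val_pow_eq_pow_val, hw, Units.val_one]
      have hch : (y : Matrix (Fin 4) (Fin 4) F).charpoly = (k : Matrix (Fin 4) (Fin 4) F).charpoly := by
        rw [STFour.charpoly_five (by simp) (by simpa using h5) hirr (hM y hy5) hyns,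
          STFour.charpoly_five (by simp) (by simpa using h5) hirr (hM k hk5) (fun h => hk1 (Units.ext h))]
      obtain ⟨g, hg, hgy⟩ := sl_conj hyd hkd (isSS_of_pow h5 (hM y hy5)) (isSS_of_pow h5 (hM k hk5)) hch
      refine ⟨g, hg, ?_⟩
      rw [show g⁻¹ * (x ^ 5) ^ 3 * x * g = g⁻¹ * ((x ^ 5) ^ 3 * x) * g by group, ← hy, hgy]
      exact hkN

end Cfsg.Agent.S6000
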