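import Cfsg.Statements.S6001
-- import your own Cfsg.Agent.* helpers here
import Mathlib
import Cfsg.Agent.Lib.Perm.Elusive.STFour.Elements
import Cfsg.Agent.Lib.Perm.Elusive.STFour.Tools
import Cfsg.Agent.Lib.GLClass.Semisimple
import Cfsg.Agent.Lib.IsometryConj.SUnitary

set_option autoImplicit false
set_option linter.all false
set_option maxHeartbeats 1000000
open scoped MatrixGroups
open Cfsg

namespace Cfsg.Agent.S6001
open Matrix CfsgLib.Perm.Elusive

theorem sq_five : ∀ u : ZMod 5, u ≠ 0 → u ^ 2 ≠ 1 → u ^ 4 = 1 := by decide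

theorem isSS_of_pow {F : Type*} [Field F] {n : ℕ} (hn : (n : F) ≠ 0) {M : Matrix (Fin 4) (Fin 4) F} (h : M ^ n = 1) :
    CfsgLib.GLClass.IsSS M :=
  ⟨Polynomial.X ^ n - 1, Polynomial.Separable.squarefree (Polynomial.X_pow_sub_one_separable_iff.2 hn), by simp [h]⟩

/-- special unitary elements of order prime to the characteristic with one characteristic polynomial -/
theorem su_conj {F : Type*} [Field F] [Fintype F] {p : ℕ} [Fact p.Prime] [CharP F p] (hF : Fintype.card F = p ^ 2)
    {a b : GL (Fin 4) F} (hau : a ∈ Cfsg.GU 4 F p) (hbu : b ∈ Cfsg.GU 4 F p)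
    (ha : (a : Matrix (Fin 4) (Fin 4) F).det = 1) (hb : (b : Matrix (Fin 4) (Fin 4) F).det = 1)
    {n : ℕ} (hn : n.Coprime p) (han : a ^ n = 1) (hbn : b ^ n = 1)
    (h : (a : Matrix (Fin 4) (Fin 4) F).charpoly = (b : Matrix (Fin 4) (Fin 4) F).charpoly) :
    ∃ g ∈ Cfsg.GU 4 F p ⊓ Cfsg.Geo.specialLinear (Fin 4) F, g⁻¹ * a * g = b := by
  have mk : ∀ w : GL (Fin 4) F, w ∈ Cfsg.GU 4 F p → (w : Matrix (Fin 4) (Fin 4) F).det = 1 →
      ∃ w' : ↥(Cfsg.SU 4 F p), ((w' : Matrix.SpecialLinearGroup (Fin 4) F) : Matrix (Fin 4) (Fin 4) F) = w :=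
    fun w hw hd => ⟨⟨⟨_, hd⟩, hw⟩, rfl⟩
  obtain ⟨a', ha'⟩ := mk a hau ha
  obtain ⟨b', hb'⟩ := mk b hbu hb
  have hord : ∀ (w : GL (Fin 4) F) (w' : ↥(Cfsg.SU 4 F p)),
      ((w' : Matrix.SpecialLinearGroup (Fin 4) F) : Matrix (Fin 4) (Fin 4) F) = w → w ^ n = 1 → (orderOf w').Coprime p := by
    intro w w' hw hwn
    refine Nat.Coprime.coprime_dvd_left (orderOf_dvd_of_pow_eq_one (Subtype.ext (Subtype.ext ?_))) hn
    show (((w' ^ n : ↥(Cfsg.SU 4 F p)) : Matrix.SpecialLinearGroup (Fin 4) F) : Matrix (Fin 4) (Fin 4) F) = 1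
    rw [SubgroupClass.coe_pow, Matrix.SpecialLinearGroup.coe_pow, hw, ← Units.val_pow_eq_pow_val, hwn, Units.val_one]
  obtain ⟨c, hc⟩ := isConj_iff.1 (CfsgLib.IsometryConj.su_isConj_of_charpoly hF p a' b' (hord a a' ha' han)
    (hord b b' hb' hbn) (by rw [ha', hb', h]))
  obtain ⟨G, hG⟩ : ∃ G : GL (Fin 4) F, (G : Matrix (Fin 4) (Fin 4) F) =
      ((c : Matrix.SpecialLinearGroup (Fin 4) F) : Matrix (Fin 4) (Fin 4) F) :=
    ⟨Matrix.GeneralLinearGroup.mkOfDetNeZero _ (by
      rw [(c : Matrix.SpecialLinearGroup (Fin 4) F).det_coe]; exact one_ne_zero), rfl⟩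
  refine ⟨G⁻¹, inv_mem ⟨?_, ?_⟩, ?_⟩
  · have h2 : (c : Matrix.SpecialLinearGroup (Fin 4) F) ∈ Cfsg.SU 4 F p := c.2
    intro u v
    have h3 := h2 u v
    rw [show (Units.coeHom (Matrix (Fin 4) (Fin 4) F)) G = (G : Matrix (Fin 4) (Fin 4) F) from rfl, hG]
    exact h3
  · show Matrix.GeneralLinearGroup.det G = 1
    refine Units.ext ?_
    rw [Matrix.GeneralLinearGroup.val_det_apply, hG, (c : Matrix.SpecialLinearGroup (Fin 4) F).det_coe, Units.val_one]
  · rw [inv_inv, mul_inv_eq_iff_eq_mul]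
    refine Units.ext ?_
    have h' := congrArg (fun w : ↥(Cfsg.SU 4 F p) => ((w : Matrix.SpecialLinearGroup (Fin 4) F) : Matrix (Fin 4) (Fin 4) F))
      (mul_inv_eq_iff_eq_mul.1 hc)
    beta_reduce at h'
    rw [Units.val_mul, Units.val_mul, hG, ← ha', ← hb']
    exact h'


/-- Elements of prime order of PSU_4(p), p ≡ 3 (mod 4), and the normalizer of a 2-group of symplectic type of order 2⁶. Here `T = PSU_4(p)` for a prime `p ≡ 3 (mod 4)`, realised through `SU_4(p)`, the matrices of determinant 1 over the field `F` with `p²` elements preserving the hermitian form `f = Σ uᵢvᵢ^p`; `R` is an absolutely irreducible subgroup of the full unitary group of `f` of order 2⁶ that is a 2-group of symplectic type of exponent 4 with centre of order 4, and `H` is the subgroup of `SU_4(p)` normalizing `R` — a subgroup of type 2⁴.Sp₄(2) (maximality is not assumed). Ω is the set of cosets of `H`, so an element of `T` of prime order `r` (`x ∈ SU_4(p)` with `x^r` scalar, `x` not scalar)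 fixes a point of Ω exactly when some `SU_4(p)`-conjugate of `x` normalizes `R`. Let `r` be a prime dividing the index of `H`. Then every element of `T` of order `r` fixes a point of Ω if and only if `r = 2`, or `r = 3` and `p ≡ 1 (mod 3)`, or `r = 5` and `p ≡ ±2 (mod 5)` (`p` has multiplicative order 4 modulo 5). -/
theorem result {F : Type*} [Field F] [Fintype F] {p : ℕ} [Fact p.Prime] [CharP F p] (hF : Fintype.card F = p ^ 2) (hp4 : p % 4 = 3)
    (R : Subgroup (GL (Fin 4) F)) (hRs : Cfsg.Geo.IsSymplecticTypeGroup 2 R) (hRi : Cfsg.Geo.ActsAbsolutelyIrreducibly (Cfsg.Geo.matrixSet R))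
    (hRU : R ≤ Cfsg.GU 4 F p) (hR6 : Nat.card R = 2 ^ 6) (hRZ : Nat.card (Subgroup.center R) = 4)
    (r : ℕ) [Fact r.Prime]
    (hΩ : r ∣ (Cfsg.Geo.subgroupNormalizer R).relIndex (Cfsg.GU 4 F p ⊓ Cfsg.Geo.specialLinear (Fin 4) F)) :
    (∀ x ∈ Cfsg.GU 4 F p ⊓ Cfsg.Geo.specialLinear (Fin 4) F, (∃ z : F, ((x ^ r : GL (Fin 4) F) : Matrix (Fin 4) (Fin 4) F) = z • (1 : Matrix (Fin 4) (Fin 4) F)) →
      (∀ z : F, (x : Matrix (Fin 4) (Fin 4) F) ≠ z • (1 : Matrix (Fin 4) (Fin 4) F)) →
      ∃ g ∈ Cfsg.GU 4 F p ⊓ Cfsg.Geo.specialLinear (Fin 4) F, g⁻¹ * x * g ∈ Cfsg.Geo.subgroupNormalizer R) ↔ (r = 2 ∨ (r = 3 ∧ p % 3 = 1) ∨ (r = 5 ∧ orderOf (p : ZMod 5) = 4)) := by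
  classical
  have hp' := (Fact.out : p.Prime)
  have hr' := (Fact.out : r.Prime)
  have hp3' : 3 ≤ p := by have := hp'.two_le; omega
  have hpc : p.Coprime 2 := (Nat.coprime_primes hp' Nat.prime_two).2 (by omega)
  obtain ⟨m, hm⟩ : ∃ m, p + 1 = 4 * m := ⟨(p + 1) / 4, by omega⟩
  have h2 : (2 : F) ≠ 0 := by
    intro h
    have := Nat.le_of_dvd (by norm_num) ((CharP.cast_eq_zero_iff F p 2).1 (by simpa using h))
    omega
  have h4 : (4 : F) ≠ 0 := by rw [show (4 : F) = 2 * 2 by norm_num]; exact mul_ne_zero h2 h2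
  obtain ⟨C⟩ := CfsgLib.Classical.uctx_exists hF
  obtain ⟨τ, hτ⟩ : ∃ τ : F →+* F, τ = C.bar.toRingHom := ⟨_, rfl⟩
  have hτp : ∀ c, τ c = c ^ p := fun c => by rw [hτ]; exact C.bar_eq c
  obtain ⟨ad, had⟩ : ∃ ad : Matrix (Fin 4) (Fin 4) F → Matrix (Fin 4) (Fin 4) F, ad = fun M => (M.map τ)ᵀ := ⟨_, rfl⟩
  have hGU : ∀ g : GL (Fin 4) F, g ∈ Cfsg.GU 4 F p ↔ ad (g : Matrix (Fin 4) (Fin 4) F) * g = 1 := fun g => by
    rw [had, hτ]; exact CfsgLib.IsometryConj.hermAdjoint_iff C g
  have hadsmul : ∀ (c : F) M, ad (c • M) = τ c • ad M := fun c M => by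
    rw [had]; ext a b; simp
  have hAd : STFour.AdPair R τ ad := by
    refine ⟨?_, fun M N => ?_, fun M N => ?_, hadsmul, fun w hw => (hGU w).1 (hRU hw)⟩
    · rw [had]; simp
    · rw [had]; simp [Matrix.map_mul, Matrix.transpose_mul]
    · rw [had]; simp [Matrix.map_add, Matrix.transpose_add]
  have hset : STFour.Setting R := ⟨Nat.finite_of_card_ne_zero (by rw [hR6]; norm_num), h2, hRs, hRi⟩
  obtain ⟨A, B, J, K, hA, hB, hJ, hK, hrel, i, hii, si, hsi, hsiv⟩ :=
    hset.exists_frame_four (by simp) (by rw [hR6]; norm_num) hRZ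
  have hFr : STFour.Frame R A B J K := ⟨hset, by simp, hA, hB, hJ, hK, hrel⟩
  have hsl : ∀ u : GL (Fin 4) F, u ∈ Cfsg.Geo.specialLinear (Fin 4) F ↔ (u : Matrix (Fin 4) (Fin 4) F).det = 1 := fun u => by
    show Matrix.GeneralLinearGroup.det u = 1 ↔ _
    rw [← Matrix.GeneralLinearGroup.val_det_apply, Units.val_eq_one]
  have hscal : ∀ c : F, c ≠ 0 → ∃ s : GL (Fin 4) F, (s : Matrix (Fin 4) (Fin 4) F) = c • 1 := fun c hc =>
    ⟨Matrix.GeneralLinearGroup.mkOfDetNeZero (c • 1) (by
      rw [det_smul, det_one, mul_one]; exact pow_ne_zero _ hc), rfl⟩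
  have hNscal : ∀ (c : F) (s : GL (Fin 4) F), (s : Matrix (Fin 4) (Fin 4) F) = c • 1 → s ∈ Cfsg.GU 4 F p →
      c * c ^ p = 1 := by
    intro c s hs hsu
    have h := (hGU s).1 hsu
    rw [hs, hadsmul, hAd.one, smul_mul_assoc, one_mul, smul_smul, hτp] at h
    have := congrFun (congrFun h 0) 0
    simp at this
    linear_combination this
  have hsqF : ∀ a : F, a ≠ 0 → (a ^ (p - 1) = 1 ∨ a ^ 4 = 1) → IsSquare a := by
    intro a ha hor
    rw [FiniteField.isSquare_iff (by rw [ringChar.eq F p]; omega) ha, hF]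
    have hsq : p ^ 2 / 2 = (p - 1) * (2 * m) := by
      obtain ⟨k, rfl⟩ : ∃ k, p = 4 * k + 3 := ⟨p / 4, by omega⟩
      obtain rfl : m = k + 1 := by omega
      rw [show (4 * k + 3) ^ 2 = 2 * ((4 * k + 2) * (2 * (k + 1))) + 1 by ring, show 4 * k + 3 - 1 = 4 * k + 2 by omega]
      omega
    rw [hsq]
    rcases hor with h | h
    · rw [pow_mul, h, one_pow]
    · obtain ⟨k, hk⟩ : ∃ k, (p - 1) * (2 * m) = 4 * k := by
        refine ⟨((p - 1) / 2) * m, ?_⟩
        obtain ⟨j, hj⟩ : ∃ j, p - 1 = 2 * j := ⟨(p - 1) / 2, by omega⟩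
        rw [hj, Nat.mul_div_cancel_left _ (by norm_num : 0 < 2)]; ring
      rw [hk, pow_mul, h, one_pow]
  constructor
  · intro hall
    by_contra hbad
    push Not at hbad
    obtain ⟨hr2, hb3, hb5⟩ := hbad
    have hrodd : Odd r := hr'.odd_of_ne_two hr2
    suffices hex : ∃ (x : GL (Fin 4) F) (z : F), ad (x : Matrix (Fin 4) (Fin 4) F) * x = 1 ∧
        (x : Matrix (Fin 4) (Fin 4) F).det = 1 ∧
        ((x ^ r : GL (Fin 4) F) : Matrix (Fin 4) (Fin 4) F) = z • 1 ∧
        (∀ c : F, (x : Matrix (Fin 4) (Fin 4) F) ≠ c • 1) ∧ ∀ h, h⁻¹ * x * h ∉ Cfsg.Geo.subgroupNormalizer R by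
      obtain ⟨x, z, hu, hd, hz, hns, hno⟩ := hex
      obtain ⟨g, -, hg⟩ := hall x ⟨(hGU x).2 hu, (hsl x).2 hd⟩ ⟨z, hz⟩ hns
      exact hno g hg
    have hdiag : ∀ d : Fin 4 → F, (∀ a, τ (d a) * d a = 1) → ad (diagonal d) * diagonal d = 1 := by
      intro d hd
      rw [had]
      simp only [diagonal_map (map_zero τ), diagonal_transpose, diagonal_mul_diagonal]
      rw [← diagonal_one]
      exact congrArg diagonal (funext hd)
    obtain ⟨t, ht⟩ : ∃ t : F, t * t ^ p = -1 := by
      obtain ⟨t, ht⟩ := C.exists_norm (c := -1) (by rw [map_neg, map_one])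
      exact ⟨t, by rwa [C.bar_eq] at ht⟩
    have htt : τ t * t = -1 := by rw [hτp, mul_comm]; exact ht
    have htrans : r = p → ∃ (x : GL (Fin 4) F) (z : F), ad (x : Matrix (Fin 4) (Fin 4) F) * x = 1 ∧
        (x : Matrix (Fin 4) (Fin 4) F).det = 1 ∧
        ((x ^ r : GL (Fin 4) F) : Matrix (Fin 4) (Fin 4) F) = z • 1 ∧
        (∀ c : F, (x : Matrix (Fin 4) (Fin 4) F) ≠ c • 1) ∧ ∀ h, h⁻¹ * x * h ∉ Cfsg.Geo.subgroupNormalizer R := by
      intro hrp
      obtain ⟨l, hl0, hl⟩ := C.exists_trace_zero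
      rw [C.bar_eq] at hl
      have hτl : τ l = -l := by rw [hτp]; linear_combination hl
      obtain ⟨u, hu⟩ : ∃ u : Fin 4 → F, u = ![1, t, 0, 0] := ⟨_, rfl⟩
      obtain ⟨φ, hφ⟩ : ∃ φ : Fin 4 → F, φ = ![1, τ t, 0, 0] := ⟨_, rfl⟩
      have hdot : φ ⬝ᵥ (l • u) = 0 := by
        simp [hφ, hu, dotProduct, Fin.sum_univ_four]
        linear_combination l * htt
      obtain ⟨N, hN⟩ : ∃ N : Matrix (Fin 4) (Fin 4) F, N = vecMulVec (l • u) φ := ⟨_, rfl⟩
      have hNN : N * N = 0 := by rw [hN, vecMulVec_mul_vecMulVec, hdot, zero_smul, vecMulVec_zero]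
      have hpow : ∀ k : ℕ, (1 + N) ^ k = 1 + (k : F) • N := fun k => by
        induction k with
        | zero => simp
        | succ k ih =>
          rw [pow_succ, ih, mul_add, mul_one, add_mul, one_mul, smul_mul_assoc, hNN, smul_zero, add_zero, Nat.cast_succ,
            add_smul, one_smul, add_assoc]
      have hp1 : (1 + N) ^ p = 1 := by rw [hpow, CharP.cast_eq_zero, zero_smul, add_zero]
      have hd1 : (1 + N).det = 1 := by
        have h := congrArg Matrix.det hp1
        rw [det_pow, det_one] at h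
        refine frobenius_inj F p ?_
        rw [frobenius_def, frobenius_def, h, one_pow]
      obtain ⟨x, hx⟩ : ∃ x : GL (Fin 4) F, (x : Matrix (Fin 4) (Fin 4) F) = 1 + N :=
        ⟨Matrix.GeneralLinearGroup.mkOfDetNeZero (1 + N) (by rw [hd1]; exact one_ne_zero), rfl⟩
      have hz : ((x ^ r : GL (Fin 4) F) : Matrix (Fin 4) (Fin 4) F) = (1 : F) • 1 := by
        rw [Units.val_pow_eq_pow_val, hx, hrp, hp1, one_smul]
      have hns : ∀ c : F, (x : Matrix (Fin 4) (Fin 4) F) ≠ c • 1 := fun c hc => by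
        have := congrFun (congrFun hc 1) 0
        simp [hx, hN, hu, hφ, vecMulVec_apply] at this
        rcases this with h | h
        · exact hl0 h
        · rw [h] at htt; simp at htt
      have hadN : ad N = -N := by
        rw [had, hN]
        ext a b
        fin_cases a <;> fin_cases b <;> simp [hu, hφ, vecMulVec_apply, hτl, show τ (τ t) = t by rw [hτ]; exact C.bar_bar t] <;>
          ring
      refine ⟨x, 1, ?_, by rw [hx, hd1], hz, hns, hFr.no_conj_rankOne (c := 1) (u := l • u) (φ := φ)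
        (by rw [hx, hN, one_smul]) hrodd hz hns⟩
      rw [hx, hAd.add, hAd.one, hadN, add_mul, one_mul, mul_add, mul_one, neg_mul, hNN]
      abel
    have hz1 : ∀ u : F, u ≠ 0 → u ^ (p + 1) = 1 → τ u * u = 1 := fun u _ h => by
      rw [hτp, ← pow_succ]; exact h
    rcases (show r = 3 ∨ r = 5 ∨ 7 ≤ r by
      rcases Nat.lt_or_ge r 7 with h | h
      · interval_cases r <;> simp_all (config := { decide := true })
      · omega) with rfl | rfl | hr7
    · by_cases hrp : (3 : ℕ) = p
      · exact htrans hrp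
      have hp2 : p % 3 = 2 := by
        have h30 : p % 3 ≠ 0 := fun h => hrp ((Nat.prime_dvd_prime_iff_eq Nat.prime_three hp').1 (Nat.dvd_of_mod_eq_zero h))
        have := hb3 rfl
        omega
      have h31 : 3 ∣ Fintype.card Fˣ := by
        rw [Fintype.card_units, hF, show p ^ 2 - 1 = (p + 1) * (p - 1) by rw [← Nat.sq_sub_sq, one_pow]]
        exact (show 3 ∣ p + 1 by omega).mul_right _
      obtain ⟨wu, hwu⟩ := exists_prime_orderOf_dvd_card 3 h31
      obtain ⟨w, hw⟩ : ∃ w : F, w = (wu : F) := ⟨_, rfl⟩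
      have hw3 : w ^ 3 = 1 := by rw [hw, ← Units.val_pow_eq_pow_val, ← hwu, pow_orderOf_eq_one, Units.val_one]
      have hw1 : w ≠ 1 := fun h => by
        have : wu = 1 := Units.ext (hw ▸ h)
        rw [this, orderOf_one] at hwu; omega
      have hwn : τ w * w = 1 := hz1 w (hw ▸ wu.ne_zero) (by
        rw [show p + 1 = 3 * ((p + 1) / 3) by omega, pow_mul, hw3, one_pow])
      obtain ⟨x, hx⟩ : ∃ x : GL (Fin 4) F, (x : Matrix (Fin 4) (Fin 4) F) = diagonal ![1, w, w, w] :=
        ⟨Matrix.GeneralLinearGroup.mkOfDetNeZero (diagonal ![1, w, w, w]) (by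
          simp [det_diagonal, Fin.prod_univ_four, hw]), rfl⟩
      have hz : ((x ^ 3 : GL (Fin 4) F) : Matrix (Fin 4) (Fin 4) F) = (1 : F) • 1 := by
        rw [Units.val_pow_eq_pow_val, hx, diagonal_pow, one_smul, ← diagonal_one]
        congr 1; funext a
        fin_cases a <;> simp [hw3]
      have hns : ∀ c : F, (x : Matrix (Fin 4) (Fin 4) F) ≠ c • 1 := fun c hc => by
        have e0 := congrFun (congrFun hc 0) 0
        have e1 := congrFun (congrFun hc 1) 1
        simp [hx] at e0 e1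
        exact hw1 (e1.trans e0.symm)
      refine ⟨x, 1, hx ▸ hdiag _ (fun a => by fin_cases a <;> simp [hwn]), ?_, hz, hns,
        hFr.no_conj_rankOne (c := w) (u := Pi.single 0 (w ^ 2 - 1)) (φ := Pi.single 0 1) ?_ hrodd hz hns⟩
      · rw [hx, det_diagonal, Fin.prod_univ_four]
        simp
        linear_combination hw3
      · rw [hx]
        have hww : w * (w ^ 2 - 1) = 1 - w := by linear_combination hw3
        ext a b
        fin_cases a <;> fin_cases b <;> simp [vecMulVec_apply, hww] <;> linear_combination -hw3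
    · by_cases hrp : (5 : ℕ) = p
      · exact htrans hrp
      have hord := hb5 rfl
      have hp0 : (p : ZMod 5) ≠ 0 := fun h =>
        hrp ((Nat.prime_dvd_prime_iff_eq hr' hp').1 ((ZMod.natCast_eq_zero_iff p 5).1 h))
      have hsq : (p : ZMod 5) ^ 2 = 1 := by
        by_contra hne
        exact hord (orderOf_eq_prime_pow (p := 2) (n := 1) (by simpa using hne) (by simpa using sq_five _ hp0 hne))
      have h51 : 5 ∣ p - 1 ∨ 5 ∣ p + 1 := by
        rcases mul_self_eq_one_iff.1 (show (p : ZMod 5) * p = 1 by rw [← sq]; exact hsq) with h | h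
        · exact Or.inl ((Nat.modEq_iff_dvd' (by omega)).1 ((ZMod.natCast_eq_natCast_iff p 1 5).1 (by simpa using h)).symm)
        · refine Or.inr ((ZMod.natCast_eq_zero_iff _ 5).1 ?_)
          rw [Nat.cast_add, h, Nat.cast_one, neg_add_cancel]
      have h5u : 5 ∣ Fintype.card Fˣ := by
        rw [Fintype.card_units, hF, show p ^ 2 - 1 = (p + 1) * (p - 1) by rw [← Nat.sq_sub_sq, one_pow]]
        rcases h51 with h | h
        exacts [h.mul_left _, h.mul_right _]
      obtain ⟨v, hv⟩ := exists_prime_orderOf_dvd_card 5 h5u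
      obtain ⟨w, hw⟩ : ∃ w : F, w = (v : F) := ⟨_, rfl⟩
      have hw5 : w ^ 5 = 1 := by rw [hw, ← Units.val_pow_eq_pow_val, ← hv, pow_orderOf_eq_one, Units.val_one]
      have hw0 : w ≠ 0 := hw ▸ v.ne_zero
      have hw1 : w ≠ 1 := fun h => by
        have : v = 1 := Units.ext (hw ▸ h)
        rw [this, orderOf_one] at hv; omega
      have hwi : w ≠ w⁻¹ := fun h => by
        have h' : w * w = 1 := by nth_rw 2 [h]; exact mul_inv_cancel₀ hw0
        exact hw1 (by linear_combination hw5 - (w ^ 3 + w) * h')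
      obtain ⟨S, hS5, hSd, hSu, hS1⟩ : ∃ S : Matrix (Fin 2) (Fin 2) F, S ^ 5 = 1 ∧ S.det = 1 ∧
          (S.map τ)ᵀ * S = 1 ∧ S ≠ 1 := by
        rcases h51 with hd | hd
        · have hfix : τ w = w := by
            rw [hτp]
            obtain ⟨k, hk⟩ := hd
            rw [show p = 5 * k + 1 by omega, pow_succ, pow_mul, hw5, one_pow, one_mul]
          obtain ⟨s, hs⟩ : ∃ s, s = (2 : F)⁻¹ * (w + w⁻¹) := ⟨_, rfl⟩
          obtain ⟨d, hd'⟩ : ∃ d, d = (2 : F)⁻¹ * (w - w⁻¹) := ⟨_, rfl⟩
          have hτs : τ s = s := by rw [hs, map_mul, map_add, map_inv₀, map_inv₀, map_ofNat, hfix]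
          have hτd : τ d = d := by rw [hd', map_mul, map_sub, map_inv₀, map_inv₀, map_ofNat, hfix]
          have hsd : s * s - d * d = 1 := by rw [hs, hd']; field_simp; ring
          obtain ⟨M, hM⟩ : ∃ M : Matrix (Fin 2) (Fin 2) F, M = !![0, -τ t; t, 0] := ⟨_, rfl⟩
          have hMM : M * M = 1 := by
            rw [hM]; ext a b
            fin_cases a <;> fin_cases b <;> simp [Matrix.mul_apply, Fin.sum_univ_two] <;> linear_combination -htt
          have hpow : ∀ k : ℕ, (s • (1 : Matrix (Fin 2) (Fin 2) F) + d • M) ^ k =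
              ((2 : F)⁻¹ * (w ^ k + w⁻¹ ^ k)) • 1 + ((2 : F)⁻¹ * (w ^ k - w⁻¹ ^ k)) • M := fun k => by
            induction k with
            | zero =>
              simp only [pow_zero, sub_self, mul_zero, zero_smul, add_zero]
              rw [show (2 : F)⁻¹ * (1 + 1) = 1 by field_simp; norm_num, one_smul]
            | succ k ih =>
              rw [pow_succ, ih]
              simp only [mul_add, add_mul, smul_mul_assoc, mul_smul_comm, one_mul, mul_one, hMM, smul_add, smul_smul]
              rw [hs, hd']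
              match_scalars <;> simp only [inv_pow] <;> field_simp <;> ring
          refine ⟨s • 1 + d • M, ?_, ?_, ?_, ?_⟩
          · rw [hpow, inv_pow, hw5, inv_one, sub_self, mul_zero, zero_smul, add_zero,
              show (2 : F)⁻¹ * (1 + 1) = 1 by field_simp; norm_num, one_smul]
          · rw [hM, det_fin_two]
            simp
            linear_combination hsd + d * d * htt
          · rw [hM]
            ext a b
            fin_cases a <;> fin_cases b <;>
              simp [Matrix.mul_apply, Fin.sum_univ_two, hτs, hτd, show τ (τ t) = t by rw [hτ]; exact C.bar_bar t] <;>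
              first
                | linear_combination hsd + d * d * htt
                | ring
          · intro h
            have e1 := congrFun (congrFun h 0) 0
            have e2 := congrFun (congrFun h 1) 0
            simp [hM] at e1 e2
            rcases e2 with e2 | e2
            · rw [hd'] at e2
              exact hwi (sub_eq_zero.1 ((mul_eq_zero.1 e2).resolve_left (inv_ne_zero h2)))
            · rw [e2] at htt; simp at htt
        · have hn : τ w * w = 1 := hz1 w hw0 (by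
            obtain ⟨k, hk⟩ := hd
            rw [hk, pow_mul, hw5, one_pow])
          refine ⟨diagonal ![w, w⁻¹], ?_, ?_, ?_, ?_⟩
          · rw [diagonal_pow, ← diagonal_one]
            congr 1; funext a
            fin_cases a <;> simp [hw5, inv_pow]
          · simp [det_diagonal, Fin.prod_univ_two, hw0]
          · rw [diagonal_map (map_zero τ), diagonal_transpose, diagonal_mul_diagonal, ← diagonal_one]
            congr 1; funext a
            fin_cases a
            · simpa using hn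
            · simp only [Fin.mk_one, Matrix.cons_val_one, Matrix.cons_val_fin_one, Pi.one_apply, map_inv₀]
              rw [← mul_inv, hn, inv_one]
          · intro h
            exact hw1 (by simpa using congrFun (congrFun h 0) 0)
      obtain ⟨e, he⟩ : ∃ e : Fin 4 ≃ Fin 2 ⊕ Fin 2, e = (finSumFinEquiv (m := 2) (n := 2)).symm := ⟨_, rfl⟩
      obtain ⟨x, hx⟩ : ∃ x : GL (Fin 4) F, (x : Matrix (Fin 4) (Fin 4) F) =
          reindex e.symm e.symm (fromBlocks 1 0 0 S) :=
        ⟨Matrix.GeneralLinearGroup.mkOfDetNeZero (reindex e.symm e.symm (fromBlocks 1 0 0 S)) (by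
          rw [det_reindex_self, det_fromBlocks_zero₂₁, det_one, hSd, one_mul]; exact one_ne_zero), rfl⟩
      have hz : ((x ^ 5 : GL (Fin 4) F) : Matrix (Fin 4) (Fin 4) F) = (1 : F) • 1 := by
        rw [Units.val_pow_eq_pow_val, hx, ← Matrix.coe_reindexAlgEquiv (R := F) (A := F), ← map_pow,
          fromBlocks_diagonal_pow, one_pow, hS5, fromBlocks_one, map_one, one_smul]
      have hns : ∀ c : F, (x : Matrix (Fin 4) (Fin 4) F) ≠ c • 1 := fun c hc => by
        have hb : fromBlocks 1 0 0 S = c • (1 : Matrix (Fin 2 ⊕ Fin 2) (Fin 2 ⊕ Fin 2) F) := by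
          refine (reindexAlgEquiv F F e.symm).injective ?_
          rw [map_smul, map_one, Matrix.coe_reindexAlgEquiv, ← hx, hc]
        have e0 := congrFun (congrFun hb (Sum.inl 0)) (Sum.inl 0)
        simp at e0
        refine hS1 (Matrix.ext fun a b => ?_)
        have e1 := congrFun (congrFun hb (Sum.inr a)) (Sum.inr b)
        simpa [← e0, Matrix.one_apply] using e1
      refine ⟨x, 1, ?_, by rw [hx, det_reindex_self, det_fromBlocks_zero₂₁, det_one, hSd, one_mul], hz, hns,
        hFr.no_conj_five e hx hz hns⟩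
      rw [hx, had]
      simp only [reindex_apply, ← submatrix_map, transpose_submatrix]
      rw [submatrix_mul_equiv, fromBlocks_map, fromBlocks_transpose, fromBlocks_multiply]
      simp [hSu]
    · by_cases hrp : r = p
      · exact htrans hrp
      have hdvd : r ∣ Nat.card ↥(Cfsg.GU 4 F p ⊓ Cfsg.Geo.specialLinear (Fin 4) F) := hΩ.trans (Subgroup.index_dvd_card _)
      obtain ⟨⟨x, hx⟩, hxo⟩ := exists_prime_orderOf_dvd_card' r hdvd
      have hx1 : x ^ r = 1 := congrArg Subtype.val (hxo ▸ pow_orderOf_eq_one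
        (⟨x, hx⟩ : ↥(Cfsg.GU 4 F p ⊓ Cfsg.Geo.specialLinear (Fin 4) F)))
      have hns : ∀ c : F, (x : Matrix (Fin 4) (Fin 4) F) ≠ c • 1 := fun c hc => by
        have hc4 : c ^ 4 = 1 := by simpa [hc] using (hsl x).1 hx.2
        have hcr : c ^ r = 1 := by
          have := congrArg (fun g : GL (Fin 4) F => (g : Matrix (Fin 4) (Fin 4) F) 0 0) hx1
          simpa [hc, smul_pow] using this
        have hco : Nat.Coprime r 4 := by
          rw [Nat.Prime.coprime_iff_not_dvd hr']; intro h
          have := Nat.le_of_dvd (by norm_num) h; omega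
        have hc1 : c = 1 := orderOf_eq_one_iff.1 (Nat.eq_one_of_dvd_coprimes hco
          (orderOf_dvd_of_pow_eq_one hcr) (orderOf_dvd_of_pow_eq_one hc4))
        have : x = 1 := Units.ext (by rw [hc, hc1, one_smul, Units.val_one])
        subst this
        rw [show (⟨1, hx⟩ : ↥(Cfsg.GU 4 F p ⊓ Cfsg.Geo.specialLinear (Fin 4) F)) = 1 from rfl, orderOf_one] at hxo
        omega
      refine ⟨x, 1, (hGU x).1 hx.1, (hsl x).1 hx.2, by rw [hx1, Units.val_one, one_smul], hns, fun h hN => ?_⟩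
      obtain ⟨c, hc⟩ := hFr.scalar_of_large hN hr7 (STFour.conj_pow_scalar (z := 1) (by rw [hx1, Units.val_one, one_smul]))
      exact hns c (STFour.conj_scalar hc)
  · intro hcond x hxSU hxz hns
    obtain ⟨z, hz⟩ := hxz
    have hxd := (hsl x).1 hxSU.2
    have hxu := (hGU x).1 hxSU.1
    have hz4 : z ^ 4 = 1 := by
      have h := congrArg Matrix.det hz
      rw [Units.val_pow_eq_pow_val, det_pow, hxd, one_pow, det_smul, det_one, mul_one, Fintype.card_fin] at h
      exact h.symm
    have hz0 : z ≠ 0 := fun h => by simp [h] at hz4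
    have hzn : z * z ^ p = 1 := hNscal z (x ^ r) hz (pow_mem hxSU.1 _)
    have hred : ∀ k : ℕ, (∃ g ∈ Cfsg.GU 4 F p ⊓ Cfsg.Geo.specialLinear (Fin 4) F,
          g⁻¹ * (x ^ r) ^ k * x * g ∈ Cfsg.Geo.subgroupNormalizer R) →
        ∃ g ∈ Cfsg.GU 4 F p ⊓ Cfsg.Geo.specialLinear (Fin 4) F, g⁻¹ * x * g ∈ Cfsg.Geo.subgroupNormalizer R := by
      rintro k ⟨g, hg, hgN⟩
      refine ⟨g, hg, ?_⟩
      have hs : ((x ^ r) ^ k : GL (Fin 4) F).1 = z ^ k • 1 := by
        rw [Units.val_pow_eq_pow_val, hz, smul_pow, one_pow]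
      have e : g⁻¹ * x * g = (((x ^ r) ^ k)⁻¹) * (g⁻¹ * (x ^ r) ^ k * x * g) := by
        have hcg : g⁻¹ * (x ^ r) ^ k = (x ^ r) ^ k * g⁻¹ := Units.ext (by rw [Units.val_mul, Units.val_mul, hs]; simp)
        rw [hcg]; group
      rw [e]
      exact mul_mem (inv_mem (STFour.scalar_mem_normalizer hs)) hgN
    rcases hcond with rfl | ⟨rfl, hp1⟩ | ⟨rfl, hord⟩
    · obtain ⟨c, hc'⟩ := hsqF z hz0 (Or.inr hz4)
      have hc : c ^ 2 = z := by rw [sq, hc']
      have hc0 : c ≠ 0 := fun h => hz0 (by rw [← hc, h]; ring)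
      obtain ⟨u, hu⟩ : ∃ u : Matrix (Fin 4) (Fin 4) F, u = c⁻¹ • (x : Matrix (Fin 4) (Fin 4) F) := ⟨_, rfl⟩
      have hxc : (x : Matrix (Fin 4) (Fin 4) F) = c • u := by rw [hu, smul_smul, mul_inv_cancel₀ hc0, one_smul]
      have huu : u * u = 1 := by
        rw [hu, smul_mul_assoc, mul_smul_comm, smul_smul, ← sq (x : Matrix (Fin 4) (Fin 4) F),
          ← Units.val_pow_eq_pow_val, hz, smul_smul, ← hc]
        rw [show c⁻¹ * c⁻¹ * c ^ 2 = 1 by field_simp, one_smul]
      have hu1 : u ≠ 1 := fun h => hns c (by rw [hxc, h])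
      have hu2 : u ≠ -1 := fun h => hns (-c) (by rw [hxc, h, smul_neg, neg_smul])
      have hadu : ad u * u = (τ c * c)⁻¹ • 1 := by
        rw [hu, hadsmul, smul_mul_assoc, mul_smul_comm, smul_smul, hxu, map_inv₀, ← mul_inv]
      have hcn : τ c * c = 1 := by
        have hsq : (τ c * c) ^ 2 = 1 := by rw [mul_pow, ← map_pow, hc, hτp, mul_comm]; exact hzn
        rcases mul_self_eq_one_iff.1 (show (τ c * c) * (τ c * c) = 1 by rw [← sq]; exact hsq) with h | h
        · exact h
        exfalso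
        rw [h, inv_neg, inv_one] at hadu
        have had_u : ad u = -u := by
          calc ad u = ad u * u * u := by rw [mul_assoc, huu, mul_one]
            _ = -u := by rw [hadu, neg_one_smul, neg_one_mul]
        have htr : τ u.trace = -u.trace := by
          have := congrArg Matrix.trace had_u
          rw [had, trace_transpose, trace_neg] at this
          rw [← this]
          simp [Matrix.trace, map_sum]
        have hu0 : u.trace = 0 := by
          rcases STFour.invol_trace (by simp) h2 huu hu1 hu2 with e | e | e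
          · rw [e, map_ofNat] at htr
            exact absurd (show (4 : F) = 0 by linear_combination htr) h4
          · exact e
          · rw [e, map_neg, map_ofNat] at htr
            exact absurd (show (4 : F) = 0 by linear_combination -htr) h4
        have hd := STFour.invol_det (by simp) h2 huu hu0
        have hc4 : c ^ 4 = 1 := by
          have := congrArg Matrix.det hxc
          rw [hxd, det_smul, hd, mul_one, Fintype.card_fin] at this
          exact this.symm
        rw [hτp, ← pow_succ, hm, pow_mul, hc4, one_pow] at h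
        exact h2 (by linear_combination h)
      rw [hcn, inv_one, one_smul] at hadu
      obtain ⟨T, hTN, hTT, hT1, hT2, hTt, hTu⟩ : ∃ T : GL (Fin 4) F, T ∈ Cfsg.Geo.subgroupNormalizer R ∧
          (T : Matrix (Fin 4) (Fin 4) F) * T = 1 ∧ (T : Matrix (Fin 4) (Fin 4) F) ≠ 1 ∧
          (T : Matrix (Fin 4) (Fin 4) F) ≠ -1 ∧ (T : Matrix (Fin 4) (Fin 4) F).trace = u.trace ∧
          ad (T : Matrix (Fin 4) (Fin 4) F) * T = 1 := by
        obtain ⟨Rf, hRfN, hRf2, hRft, hns', hRfu⟩ := hFr.exists_reflection hsi hsiv hii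
        have hRfu' := hRfu τ ad hAd
        have hne : ∀ (T : GL (Fin 4) F), (T : Matrix (Fin 4) (Fin 4) F).trace ≠ 4 →
            (T : Matrix (Fin 4) (Fin 4) F).trace ≠ -4 →
            (T : Matrix (Fin 4) (Fin 4) F) ≠ 1 ∧ (T : Matrix (Fin 4) (Fin 4) F) ≠ -1 := fun T ha hb =>
          ⟨fun h => ha (by rw [h]; simp), fun h => hb (by rw [h]; simp)⟩
        rcases STFour.invol_trace (by simp) h2 huu hu1 hu2 with h | h | h
        · exact ⟨Rf, hRfN, hRf2, fun e => hns' 1 (by rw [e, one_smul]), fun e => hns' (-1) (by rw [e, neg_one_smul]),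
            by rw [hRft, h], hRfu'⟩
        · have ht : (A : Matrix (Fin 4) (Fin 4) F).trace = 0 := hFr.trace_eq_zero hA
            (STFour.not_scalar_of_anticomm h2 (y := B) (by rw [hrel.BA, neg_neg]))
          obtain ⟨a, b⟩ := hne A (by rw [ht]; exact fun e => h4 e.symm)
            (by rw [ht]; exact fun e => h4 (by linear_combination e))
          exact ⟨A, Subgroup.le_normalizer hA, hrel.AA, a, b, by rw [ht, h], hAd.iso A hA⟩
        · refine ⟨-Rf, ?_, by simp [hRf2], fun e => hns' (-1) (by rw [← neg_neg (Rf : Matrix (Fin 4) (Fin 4) F), ← Units.val_neg, e, neg_one_smul]),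
            fun e => hns' 1 (by rw [← neg_neg (Rf : Matrix (Fin 4) (Fin 4) F), ← Units.val_neg, e, neg_neg, one_smul]),
            by rw [Units.val_neg, trace_neg, hRft, h], ?_⟩
          · rw [show -Rf = (-1) * Rf by simp]
            exact mul_mem (STFour.scalar_mem_normalizer (c := -1) (by simp)) hRfN
          · rw [Units.val_neg, ← neg_one_smul F, hadsmul, map_neg, map_one, smul_mul_assoc, mul_smul_comm, smul_smul,
              hRfu']
            simp
      have hch := STFour.charpoly_invol (ι := Fin 4) (by simp) h2 huu hTT hu1 hu2 hT1 hT2 hTt.symm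
      have hss : ∀ M : Matrix (Fin 4) (Fin 4) F, M * M = 1 → CfsgLib.GLClass.IsSS M := fun M hM =>
        isSS_of_pow (n := 2) (by simpa using h2) (by rw [sq, hM])
      obtain ⟨P, hP⟩ := CfsgLib.GLClass.isConj_of_charpoly_eq (hss _ huu) (hss _ hTT) hch
      obtain ⟨s, hs⟩ := hscal c hc0
      have hchx : (x : Matrix (Fin 4) (Fin 4) F).charpoly = ((s * T : GL (Fin 4) F) : Matrix (Fin 4) (Fin 4) F).charpoly := by
        have e : (P : Matrix (Fin 4) (Fin 4) F) * x * ((P⁻¹ : GL (Fin 4) F) : Matrix (Fin 4) (Fin 4) F) =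
            ((s * T : GL (Fin 4) F) : Matrix (Fin 4) (Fin 4) F) := by
          rw [Units.val_mul, hs, smul_mul_assoc, one_mul, hxc, mul_smul_comm, smul_mul_assoc, hP.eq, mul_assoc,
            ← Units.val_mul, mul_inv_cancel, Units.val_one, mul_one]
        rw [← e, Matrix.coe_units_inv, Matrix.charpoly_units_conj]
      have hdet : ((s * T : GL (Fin 4) F) : Matrix (Fin 4) (Fin 4) F).det = 1 := by
        rw [Matrix.det_eq_sign_charpoly_coeff, ← hchx, ← Matrix.det_eq_sign_charpoly_coeff, hxd]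
      have hsTu : s * T ∈ Cfsg.GU 4 F p := by
        refine mul_mem ((hGU s).2 ?_) ((hGU T).2 hTu)
        rw [hs, hadsmul, hAd.one, smul_mul_assoc, one_mul, smul_smul, hcn, one_smul]
      have hp8 : ∀ (w : GL (Fin 4) F) (M : Matrix (Fin 4) (Fin 4) F), (w : Matrix (Fin 4) (Fin 4) F) = c • M →
          M * M = 1 → w ^ 8 = 1 := fun w M hw hM => Units.ext (by
        rw [Units.val_pow_eq_pow_val, hw, smul_pow, show 8 = 2 * 4 from rfl, pow_mul M, sq, hM, one_pow, pow_mul, hc,
          hz4, one_smul, Units.val_one])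
      obtain ⟨g, hg, hgx⟩ := su_conj hF hxSU.1 hsTu hxd hdet (n := 8) (by
          rw [show 8 = 2 ^ 3 from rfl]; exact (hpc.symm).pow_left _)
        (hp8 x u hxc huu) (hp8 (s * T) T (by rw [Units.val_mul, hs, smul_mul_assoc, one_mul]) hTT) hchx
      exact ⟨g, hg, hgx ▸ mul_mem (STFour.scalar_mem_normalizer hs) hTN⟩
    · refine hred 1 ?_
      rw [pow_one]
      have h3 : (3 : F) ≠ 0 := by
        intro h
        have := (Nat.prime_dvd_prime_iff_eq hp' Nat.prime_three).1 ((CharP.cast_eq_zero_iff F p 3).1 (by exact_mod_cast h))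
        omega
      obtain ⟨y, hy⟩ : ∃ y, y = x ^ 3 * x := ⟨_, rfl⟩
      have hy3 : y ^ 3 = 1 := Units.ext (by
        rw [hy, show (x ^ 3 * x) ^ 3 = (x ^ 3) ^ 4 by group, Units.val_pow_eq_pow_val, hz, smul_pow, one_pow, hz4,
          one_smul, Units.val_one])
      have hyU : y ∈ Cfsg.GU 4 F p := hy ▸ mul_mem (pow_mem hxSU.1 _) hxSU.1
      have hyd : (y : Matrix (Fin 4) (Fin 4) F).det = 1 := by
        rw [hy, Units.val_mul, det_mul, Units.val_pow_eq_pow_val, det_pow, hxd, one_pow, one_mul]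
      have hyns : (y : Matrix (Fin 4) (Fin 4) F) ≠ 1 := fun h => hns z⁻¹ (by
        rw [hy, Units.val_mul, hz, smul_mul_assoc, one_mul] at h
        rw [← h, smul_smul, inv_mul_cancel₀ hz0, one_smul])
      have hinv : ∀ w : GL (Fin 4) F, w ∈ Cfsg.GU 4 F p → w ^ 3 = 1 →
          ∀ t ∈ STFour.spec (w : Matrix (Fin 4) (Fin 4) F), t⁻¹ ∈ STFour.spec (w : Matrix (Fin 4) (Fin 4) F) := by
        intro w hw hw3 t ht
        have h := STFour.spec_unitary τ hτp (A := (w : Matrix (Fin 4) (Fin 4) F))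
          (by have := (hGU w).1 hw; rwa [had] at this) ht
        have ht3 := STFour.mem_spec_root (g := Polynomial.X ^ 3 - 1)
          (by simp [← Units.val_pow_eq_pow_val, hw3]) ht
        simp [sub_eq_zero] at ht3
        rwa [show p = 3 * (p / 3) + 1 by omega, pow_succ, pow_mul, ht3, one_pow, one_mul] at h
      obtain ⟨k, hkN, hku, hkd, hk3, hk1, hiff⟩ : ∃ k : GL (Fin 4) F, k ∈ Cfsg.Geo.subgroupNormalizer R ∧
          k ∈ Cfsg.GU 4 F p ∧
          (k : Matrix (Fin 4) (Fin 4) F).det = 1 ∧ k ^ 3 = 1 ∧ (k : Matrix (Fin 4) (Fin 4) F) ≠ 1 ∧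
          ((y : Matrix (Fin 4) (Fin 4) F) * y + y + 1 = 0 ↔ (k : Matrix (Fin 4) (Fin 4) F) * k + k + 1 = 0) := by
        by_cases hy0 : (y : Matrix (Fin 4) (Fin 4) F) * y + y + 1 = 0
        · obtain ⟨k, h1, h2', h3', h5', -, h7⟩ := hFr.exists_three hJ hK hrel.JJ hrel.KK (by rw [hrel.KJ, neg_neg])
          refine ⟨k, h1, (hGU k).2 (h7 τ ad hAd), h2', h5', fun h => ?_, by simp [hy0, h3']⟩
          rw [h] at h3'
          have := congrFun (congrFun h3' 0) 0
          simp at this
          exact h3 (by linear_combination this)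
        · obtain ⟨k, h1, h2', h3', h4', h5', h6⟩ := hFr.exists_three_fixed hsi hsiv hii h3
          exact ⟨k, h1, (hGU k).2 (h6 τ ad hAd), h2', h3', fun h => h4' (Units.ext h), by simp [hy0, h5']⟩
      have hM : ∀ w : GL (Fin 4) F, w ^ 3 = 1 → (w : Matrix (Fin 4) (Fin 4) F) ^ 3 = 1 := fun w hw => by
        rw [← Units.val_pow_eq_pow_val, hw, Units.val_one]
      have hch := STFour.charpoly_three (ι := Fin 4) (by simp) h3 (hM y hy3) (hM k hk3) hyns hk1 hyd hkd
        (hinv y hyU hy3) (hinv k hku hk3) hiff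
      obtain ⟨g, hg, hgy⟩ := su_conj hF hyU hku hyd hkd (n := 3)
        ((Nat.coprime_primes Nat.prime_three hp').2 (by omega)) hy3 hk3 hch
      refine ⟨g, hg, ?_⟩
      rw [show g⁻¹ * x ^ 3 * x * g = g⁻¹ * (x ^ 3 * x) * g by group, ← hy, hgy]
      exact hkN
    · refine hred 3 ?_
      have h5p : 5 ≠ p := fun h => by omega
      have h5 : (5 : F) ≠ 0 := by
        intro h
        exact h5p ((Nat.prime_dvd_prime_iff_eq hp' (by norm_num)).1 ((CharP.cast_eq_zero_iff F p 5).1 (by exact_mod_cast h))).symm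
      have hn5 : ¬ 5 ∣ Fintype.card Fˣ := by
        rw [Fintype.card_units, hF]
        intro h
        have h' := (ZMod.natCast_eq_zero_iff _ 5).2 h
        rw [Nat.cast_sub (Nat.one_le_pow _ _ hp'.pos), Nat.cast_pow, Nat.cast_one, sub_eq_zero] at h'
        have := orderOf_dvd_of_pow_eq_one h'
        rw [hord] at this
        omega
      obtain ⟨y, hy⟩ : ∃ y, y = (x ^ 5) ^ 3 * x := ⟨_, rfl⟩
      have hy5 : y ^ 5 = 1 := Units.ext (by
        rw [hy, show ((x ^ 5) ^ 3 * x) ^ 5 = (x ^ 5) ^ 16 by group, Units.val_pow_eq_pow_val, hz, smul_pow, one_pow,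
          show (16 : ℕ) = 4 * 4 from rfl, pow_mul, hz4, one_pow, one_smul, Units.val_one])
      have hyU : y ∈ Cfsg.GU 4 F p := hy ▸ mul_mem (pow_mem (pow_mem hxSU.1 _) _) hxSU.1
      have hyd : (y : Matrix (Fin 4) (Fin 4) F).det = 1 := by
        rw [hy, Units.val_mul, det_mul, Units.val_pow_eq_pow_val, det_pow, Units.val_pow_eq_pow_val, det_pow, hxd,
          one_pow, one_pow, one_mul]
      have hyns : (y : Matrix (Fin 4) (Fin 4) F) ≠ 1 := fun h => hns ((z ^ 3)⁻¹) (by
        rw [hy, Units.val_mul, Units.val_pow_eq_pow_val, hz, smul_pow, one_pow, smul_mul_assoc, one_mul] at h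
        rw [← h, smul_smul, inv_mul_cancel₀ (pow_ne_zero _ hz0), one_smul])
      have hcast : ∀ n : ℕ, (n : F) ^ p = n := fun n => by rw [← frobenius_def, map_natCast]
      obtain ⟨d, hd⟩ := hsqF 5 h5 (Or.inl (mul_right_cancel₀ h5 (by
        rw [← pow_succ, Nat.sub_add_cancel hp'.pos, one_mul]; exact_mod_cast hcast 5)))
      have hroot : ∀ s : F, s * s + s - 1 = 0 →
          (Irreducible (Polynomial.X ^ 2 - Polynomial.C s * Polynomial.X + 1 : Polynomial F)) := by
        intro s hs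
        have hdeg : (Polynomial.X ^ 2 - Polynomial.C s * Polynomial.X + 1 : Polynomial F).natDegree = 2 := by
          compute_degree!
        refine Polynomial.irreducible_of_degree_le_three_of_not_isRoot (by rw [hdeg]; simp) fun t ht => ?_
        simp [Polynomial.IsRoot] at ht
        have ht0 : t ≠ 0 := fun h => by simp [h] at ht
        have ht5 : t ^ 5 = 1 := by
          linear_combination ((t - 1) * (t ^ 2 - (-1 - s) * t + 1)) * ht + (t - 1) * t ^ 2 * hs
        refine hn5 ?_
        have h1 : (Units.mk0 t ht0) ^ 5 = 1 := Units.ext (by simpa using ht5)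
        have hne : Units.mk0 t ht0 ≠ 1 := fun h => by
          have h' : t = 1 := by simpa using congrArg Units.val h
          rw [h'] at ht
          exact h5 (by linear_combination hs - (-1 - s - 1 + (1 : F) * 0) * ht * 0 + (3 + s) * ht)
        have := orderOf_dvd_card (x := Units.mk0 t ht0)
        rwa [orderOf_eq_prime h1 hne] at this
      obtain ⟨s, hs⟩ : ∃ s : F, s * s + s - 1 = 0 := ⟨(2 : F)⁻¹ * (d - 1), by field_simp; linear_combination -hd⟩
      obtain ⟨s', hs'⟩ : ∃ s', s' = -1 - s := ⟨_, rfl⟩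
      have hs2 : s' * s' + s' - 1 = 0 := by rw [hs']; linear_combination hs
      have hne : s ≠ s' := fun h => h5 (by rw [hs'] at h; linear_combination (2 * s + 1) * h - 4 * hs)
      have hτs : τ s = s' := by
        have h := congrArg τ hs
        simp only [map_sub, map_add, map_mul, map_one, map_zero] at h
        rcases mul_eq_zero.1 (show (τ s - s) * (τ s - s') = 0 by rw [hs']; linear_combination h - hs) with e | e
        · exfalso
          have e' : s ^ p = s := by rw [← hτp]; exact sub_eq_zero.1 e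
          have hD : (s * s - 4) ^ p = s * s - 4 := by
            rw [sub_pow_char, mul_pow, e']; exact_mod_cast congrArg (s * s - ·) (hcast 4)
          have hD0 : s * s - 4 ≠ 0 := fun h0 => by
            have hs3 : s = -3 := by linear_combination hs - h0
            exact h5 (by rw [hs3] at h0; linear_combination h0)
          obtain ⟨E, hE⟩ := hsqF _ hD0 (Or.inl (mul_right_cancel₀ hD0 (by
            rw [← pow_succ, Nat.sub_add_cancel hp'.pos, one_mul, hD])))
          refine (hroot s hs).not_isRoot_of_natDegree_ne_one (by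
            rw [show (Polynomial.X ^ 2 - Polynomial.C s * Polynomial.X + 1 : Polynomial F).natDegree = 2 by compute_degree!]
            norm_num) (x := (2 : F)⁻¹ * (s + E)) ?_
          simp [Polynomial.IsRoot]
          field_simp
          linear_combination -hE
        · exact sub_eq_zero.1 e
      obtain ⟨k, hkN, hkd, hk5, hk1, hku⟩ := hFr.exists_five
      have hkU := (hGU k).2 (hku τ ad hAd)
      have hM : ∀ w : GL (Fin 4) F, w ^ 5 = 1 → (w : Matrix (Fin 4) (Fin 4) F) ^ 5 = 1 := fun w hw => by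
        rw [← Units.val_pow_eq_pow_val, hw, Units.val_one]
      have hcp : ∀ w : GL (Fin 4) F, w ∈ Cfsg.GU 4 F p → w ^ 5 = 1 → (w : Matrix (Fin 4) (Fin 4) F) ≠ 1 →
          (w : Matrix (Fin 4) (Fin 4) F).charpoly = (Polynomial.X ^ 2 - Polynomial.C s * Polynomial.X + 1) *
            (Polynomial.X ^ 2 - Polynomial.C s' * Polynomial.X + 1) := fun w hw h5w hw1 =>
        STFour.charpoly_five_twisted (by simp) τ ad hAd.one hAd.mul hAd.add hadsmul (by rw [hs']; ring)
          (by rw [hs']; linear_combination -hs) hne hτs (hroot s hs) (hroot s' hs2) (hM w h5w) hw1 ((hGU w).1 hw)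
      obtain ⟨g, hg, hgy⟩ := su_conj hF hyU hkU hyd hkd (n := 5) ((Nat.coprime_primes (by norm_num) hp').2 h5p) hy5 hk5
        (by rw [hcp y hyU hy5 hyns, hcp k hkU hk5 (fun h => hk1 (Units.ext h))])
      refine ⟨g, hg, ?_⟩
      rw [show g⁻¹ * (x ^ 5) ^ 3 * x * g = g⁻¹ * ((x ^ 5) ^ 3 * x) * g by group, ← hy, hgy]
      exact hkN

end Cfsg.Agent.S6001
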