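import Cfsg.Statements.S6002
-- import your own Cfsg.Agent.* helpers here
import Mathlib
import Cfsg.Agent.Lib.Perm.Elusive.STFour.Elements
import Cfsg.Agent.Lib.Perm.Elusive.STFour.Tools
import Cfsg.Agent.Lib.Perm.Elusive.STFour.SqScalar
import Cfsg.Agent.Lib.Perm.Elusive.SympPrimeElement
import Cfsg.Agent.Lib.IsometryConj.SympCharpoly

set_option autoImplicit false
set_option linter.all false
set_option maxHeartbeats 1000000
open scoped MatrixGroups
open Cfsg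

namespace Cfsg.Agent.S6002
open Matrix CfsgLib.Perm.Elusive

variable {F : Type*} [Field F]

local notation "M4" => Matrix (Fin 2 ⊕ Fin 2) (Fin 2 ⊕ Fin 2) F

theorem sq_five : ∀ u : ZMod 5, u ≠ 0 → u ^ 2 ≠ 1 → u ^ 4 = 1 := by decide

theorem mem_spGL_iff (g : GL (Fin 2 ⊕ Fin 2) F) :
    g ∈ Cfsg.spGL 2 F ↔ ((g : M4))ᵀ * Matrix.J (Fin 2) F * (g : M4) = Matrix.J (Fin 2) F := by
  have key : ∀ u v : Fin 2 ⊕ Fin 2 → F, Cfsg.sympForm 2 F ((g : M4) *ᵥ u) ((g : M4) *ᵥ v) =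
      u ⬝ᵥ (((g : M4))ᵀ * Matrix.J (Fin 2) F * (g : M4)) *ᵥ v := by
    intro u v
    show ((g : M4) *ᵥ u) ⬝ᵥ (Matrix.J (Fin 2) F *ᵥ ((g : M4) *ᵥ v)) = _
    rw [← Matrix.mulVec_mulVec, ← Matrix.mulVec_mulVec, Matrix.dotProduct_mulVec u ((g : M4))ᵀ, Matrix.vecMul_transpose]
  constructor
  · intro h
    refine Matrix.ext fun a b => ?_
    have h1 := (key (Pi.single a 1) (Pi.single b 1)).symm.trans (h (Pi.single a 1) (Pi.single b 1))
    simpa [Cfsg.sympForm] using h1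
  · intro h u v
    show Cfsg.sympForm 2 F ((g : M4) *ᵥ u) ((g : M4) *ᵥ v) = _
    rw [key, h]
    rfl

theorem sp_conj [Fintype F] {p : ℕ} [Fact p.Prime] [CharP F p] {a b : GL (Fin 2 ⊕ Fin 2) F}
    (ha : a ∈ Cfsg.spGL 2 F) (hb : b ∈ Cfsg.spGL 2 F) {n : ℕ} (hn : n.Coprime p) (han : a ^ n = 1) (hbn : b ^ n = 1)
    (h : (a : M4).charpoly = (b : M4).charpoly) : ∃ g ∈ Cfsg.spGL 2 F, g⁻¹ * a * g = b := by
  have mk : ∀ w : GL (Fin 2 ⊕ Fin 2) F, w ∈ Cfsg.spGL 2 F → (w : M4) ∈ Matrix.symplecticGroup (Fin 2) F :=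
    fun w hw => SymplecticGroup.mem_iff'.2 ((mem_spGL_iff w).1 hw)
  have hord : ∀ (w : GL (Fin 2 ⊕ Fin 2) F) (hw : (w : M4) ∈ Matrix.symplecticGroup (Fin 2) F), w ^ n = 1 →
      (orderOf (⟨_, hw⟩ : Matrix.symplecticGroup (Fin 2) F)).Coprime p := by
    intro w hw hwn
    refine Nat.Coprime.coprime_dvd_left (orderOf_dvd_of_pow_eq_one (Subtype.ext ?_)) hn
    rw [SubmonoidClass.coe_pow, ← Units.val_pow_eq_pow_val, hwn]
    rfl
  obtain ⟨c, hc⟩ := isConj_iff.1 (CfsgLib.IsometryConj.sp_isConj_of_charpoly p ⟨_, mk a ha⟩ ⟨_, mk b hb⟩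
    (hord a (mk a ha) han) (hord b (mk b hb) hbn) h)
  obtain ⟨G, hG⟩ : ∃ G : GL (Fin 2 ⊕ Fin 2) F, (G : M4) = (c : M4) :=
    ⟨Matrix.GeneralLinearGroup.mkOfDetNeZero _ (SymplecticGroup.symplectic_det c.2).ne_zero, rfl⟩
  refine ⟨G⁻¹, inv_mem ((mem_spGL_iff G).2 (by rw [hG]; exact SymplecticGroup.mem_iff'.1 c.2)), ?_⟩
  rw [inv_inv, mul_inv_eq_iff_eq_mul]
  refine Units.ext ?_
  have h' := congrArg (fun w : Matrix.symplecticGroup (Fin 2) F => (w : M4)) (mul_inv_eq_iff_eq_mul.1 hc)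
  beta_reduce at h'
  rw [Units.val_mul, Units.val_mul, hG]
  exact h'

/-- the identity on one symplectic plane and `S` on the other -/
theorem exists_plane (S : Matrix (Fin 2) (Fin 2) F) (hS : S.det = 1) :
    ∃ (x : GL (Fin 2 ⊕ Fin 2) F) (e : Fin 2 ⊕ Fin 2 ≃ Fin 2 ⊕ Fin 2),
      (x : M4) = reindex e.symm e.symm (fromBlocks 1 0 0 S) ∧ x ∈ Cfsg.spGL 2 F ∧
      e (Sum.inl 0) = Sum.inl 0 ∧ e (Sum.inr 0) = Sum.inl 1 ∧ e (Sum.inl 1) = Sum.inr 0 ∧ e (Sum.inr 1) = Sum.inr 1 := by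
  obtain ⟨e, he⟩ : ∃ e : Fin 2 ⊕ Fin 2 ≃ Fin 2 ⊕ Fin 2, e = Equiv.swap (Sum.inr 0) (Sum.inl 1) := ⟨_, rfl⟩
  have e1 : e (Sum.inl 0) = Sum.inl 0 := by rw [he]; decide
  have e2 : e (Sum.inr 0) = Sum.inl 1 := by rw [he]; decide
  have e3 : e (Sum.inl 1) = Sum.inr 0 := by rw [he]; decide
  have e4 : e (Sum.inr 1) = Sum.inr 1 := by rw [he]; decide
  obtain ⟨x, hx⟩ : ∃ x : GL (Fin 2 ⊕ Fin 2) F, (x : M4) = reindex e.symm e.symm (fromBlocks 1 0 0 S) :=
    ⟨Matrix.GeneralLinearGroup.mkOfDetNeZero (reindex e.symm e.symm (fromBlocks 1 0 0 S)) (by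
      rw [det_reindex_self, det_fromBlocks_zero₂₁, det_one, hS, one_mul]; exact one_ne_zero), rfl⟩
  refine ⟨x, e, hx, (mem_spGL_iff x).2 ?_, e1, e2, e3, e4⟩
  rw [det_fin_two] at hS
  have hJ : Matrix.J (Fin 2) F = fromBlocks 0 (-1) 1 0 := rfl
  rw [hx, hJ]
  ext a b
  rcases a with a | a <;> rcases b with b | b <;> fin_cases a <;> fin_cases b <;>
    simp [Matrix.mul_apply, Fintype.sum_sum_type, Fin.sum_univ_two, e1, e2, e3, e4] <;>
    first
      | linear_combination hS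
      | linear_combination -hS
      | ring

/-- nothing anticommuting commutes with a plane rotation of order three -/
theorem no_pair_three (h2 : (2 : F) ≠ 0) (h3 : (3 : F) ≠ 0) {x : GL (Fin 2 ⊕ Fin 2) F} {e : Fin 2 ⊕ Fin 2 ≃ Fin 2 ⊕ Fin 2}
    (hx : (x : M4) = reindex e.symm e.symm (fromBlocks 1 0 0 !![0, -1; 1, -1]))
    {a b : GL (Fin 2 ⊕ Fin 2) F} (ha : x * a = a * x) (hb : x * b = b * x) (hab : (a : M4) * b = -((b : M4) * a)) :
    False := by
  obtain ⟨T, hT⟩ : ∃ T : M4 → M4, T = fun M => reindex e e M := ⟨_, rfl⟩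
  have hTmul : ∀ M N, T (M * N) = T M * T N := fun M N => by
    rw [hT]
    exact (reindexLinearEquiv_mul F F e e e M N).symm
  have hTx : T x = fromBlocks 1 0 0 !![0, -1; 1, -1] := by rw [hT, hx]; simp
  have key : ∀ w : GL (Fin 2 ⊕ Fin 2) F, x * w = w * x →
      (∀ i, T w (Sum.inl i) (Sum.inr 0) = 0) ∧ T w (Sum.inr 0) (Sum.inr 1) = -T w (Sum.inr 1) (Sum.inr 0) ∧
        T w (Sum.inr 1) (Sum.inr 1) = T w (Sum.inr 0) (Sum.inr 0) - T w (Sum.inr 1) (Sum.inr 0) ∧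
        (∀ i, T w (Sum.inl i) (Sum.inr 1) = 0) := by
    intro w hw
    have h : T x * T w = T w * T x := by rw [← hTmul, ← hTmul, ← Units.val_mul, hw, Units.val_mul]
    rw [hTx] at h
    generalize T w = N at h
    have hc : ∀ i, N (Sum.inl i) (Sum.inr 0) = 0 ∧ N (Sum.inl i) (Sum.inr 1) = 0 := fun i => by
      have h1 := congrFun (congrFun h (Sum.inl i)) (Sum.inr 0)
      have h2' := congrFun (congrFun h (Sum.inl i)) (Sum.inr 1)
      simp [Matrix.mul_apply, Fintype.sum_sum_type, Fin.sum_univ_two, Matrix.one_apply] at h1 h2'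
      have h0 : N (Sum.inl i) (Sum.inr 0) = 0 := by
        fin_cases i <;> simp at h1 h2' ⊢ <;> exact (mul_eq_zero.1 (show (3 : F) * _ = 0 by
          linear_combination 2 * h1 + h2')).resolve_left h3
      refine ⟨h0, ?_⟩
      fin_cases i <;> simp at h1 h0 ⊢ <;> linear_combination h0 - h1
    have h1 := congrFun (congrFun h (Sum.inr 0)) (Sum.inr 0)
    have h2' := congrFun (congrFun h (Sum.inr 1)) (Sum.inr 0)
    simp [Matrix.mul_apply, Fintype.sum_sum_type, Fin.sum_univ_two] at h1 h2'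
    exact ⟨fun i => (hc i).1, by linear_combination -h1, by linear_combination -h2', fun i => (hc i).2⟩
  obtain ⟨a1, a2, a3, a4⟩ := key a ha
  obtain ⟨b1, b2, b3, b4⟩ := key b hb
  have h := congrArg T hab
  have hTneg : T (-((b : M4) * a)) = -T ((b : M4) * a) := by rw [hT]; rfl
  rw [hTneg, hTmul, hTmul] at h
  have hcol : ∀ i, (T ((a * b : GL (Fin 2 ⊕ Fin 2) F) : M4)) i (Sum.inr 0) = 0 := by
    intro i
    rw [Units.val_mul, hTmul]
    rcases i with i | i
    · simp [Matrix.mul_apply, Fintype.sum_sum_type, Fin.sum_univ_two, a1, a4, b1]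
    · have h' := congrFun (congrFun h (Sum.inr i)) (Sum.inr 0)
      fin_cases i <;>
        simp [Matrix.mul_apply, Fintype.sum_sum_type, Fin.sum_univ_two, a1, a2, a3, a4, b1, b2, b3, b4] at h' ⊢ <;>
        exact (mul_eq_zero.1 (show (2 : F) * _ = 0 by linear_combination h')).resolve_left h2
  have hd : (T ((a * b : GL (Fin 2 ⊕ Fin 2) F) : M4)).det = 0 := det_eq_zero_of_column_eq_zero _ hcol
  rw [hT, det_reindex_self] at hd
  exact ((Matrix.isUnit_iff_isUnit_det _).1 (a * b).isUnit).ne_zero hd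


/-- Elements of prime order of PSp_4(p), p odd, and the normalizer of an extraspecial 2-group of order 2⁵ of minus type. Here `T = PSp_4(F)` for the field `F` with `p` elements, `p` an odd prime, realised through the matrices preserving the standard alternating form `f`; `R` is an absolutely irreducible subgroup of `T` (it preserves `f`) that is a 2-group of symplectic type of exponent 4, order 2⁵ and centre of order 2, of minus type (no elementary abelian subgroup of order 2³), and `H` is the subgroup of `T` normalizing `R` — a subgroup of type 2^{1+4}.O₄⁻(2) (maximality is not assumed). Ω is the set of cosets of `H` in `T`, so an element of `T` of prime order `r` (`x ∈ T` with `x^r` scalar, `x` not scalar) fixes a point of Ω exactly when some `T`-conjugate of `x` normalizes `R`. Let `r` be a prime dividing the index of `H`. Then every element of `T` of order `r` fixes a point of Ω if and only if `r = 2`, or `r =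 5` and `p` has multiplicative order 4 modulo 5. -/
theorem result {F : Type*} [Field F] [Fintype F] {p : ℕ} [Fact p.Prime] [CharP F p] (hF : Fintype.card F = p) (hodd : Odd p)
    (R : Subgroup (GL (Fin 2 ⊕ Fin 2) F)) (hRs : Cfsg.Geo.IsSymplecticTypeGroup 2 R) (hRi : Cfsg.Geo.ActsAbsolutelyIrreducibly (Cfsg.Geo.matrixSet R))
    (hRf : R ≤ Cfsg.spGL 2 F) (hR5 : Nat.card R = 2 ^ 5) (hRZ : Nat.card (Subgroup.center R) = 2) (hRm : Cfsg.Geo.IsOfMinusType 2 R)
    (r : ℕ) [Fact r.Prime]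
    (hΩ : r ∣ (Cfsg.Geo.subgroupNormalizer R).relIndex (Cfsg.spGL 2 F)) :
    (∀ x ∈ Cfsg.spGL 2 F, (∃ z : F, ((x ^ r : GL (Fin 2 ⊕ Fin 2) F) : Matrix (Fin 2 ⊕ Fin 2) (Fin 2 ⊕ Fin 2) F) = z • (1 : Matrix (Fin 2 ⊕ Fin 2) (Fin 2 ⊕ Fin 2) F)) →
      (∀ z : F, (x : Matrix (Fin 2 ⊕ Fin 2) (Fin 2 ⊕ Fin 2) F) ≠ z • (1 : Matrix (Fin 2 ⊕ Fin 2) (Fin 2 ⊕ Fin 2) F)) →
      ∃ g ∈ Cfsg.spGL 2 F, g⁻¹ * x * g ∈ Cfsg.Geo.subgroupNormalizer R) ↔ (r = 2 ∨ (r = 5 ∧ orderOf (p : ZMod 5) = 4)) := by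
  classical
  have hp' := (Fact.out : p.Prime)
  have hr' := (Fact.out : r.Prime)
  have hp3' : 3 ≤ p := by
    have := hp'.two_le
    rcases hodd with ⟨k, hk⟩
    omega
  have hpc : p.Coprime 2 := (Nat.coprime_primes hp' Nat.prime_two).2 (by omega)
  have h2 : (2 : F) ≠ 0 := by
    intro h
    have := Nat.le_of_dvd (by norm_num) ((CharP.cast_eq_zero_iff F p 2).1 (by simpa using h))
    omega
  obtain ⟨τ, hτ⟩ : ∃ τ : F →+* F, τ = RingHom.id F := ⟨_, rfl⟩
  obtain ⟨ad, had⟩ : ∃ ad : Matrix (Fin 2 ⊕ Fin 2) (Fin 2 ⊕ Fin 2) F → Matrix (Fin 2 ⊕ Fin 2) (Fin 2 ⊕ Fin 2) F,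
      ad = fun M => -(Matrix.J (Fin 2) F * Mᵀ * Matrix.J (Fin 2) F) := ⟨_, rfl⟩
  have hGSp : ∀ g : GL (Fin 2 ⊕ Fin 2) F, g ∈ Cfsg.spGL 2 F ↔
      ad (g : Matrix (Fin 2 ⊕ Fin 2) (Fin 2 ⊕ Fin 2) F) * g = 1 := fun g => by
    rw [mem_spGL_iff, ← SymplecticGroup.mem_iff', CfsgLib.IsometryConj.sympAdjoint_mem_iff, had]
    rfl
  have hadsmul : ∀ (c : F) M, ad (c • M) = τ c • ad M := fun c M => by
    rw [had, hτ]; simp [Matrix.transpose_smul]
  have hAd : STFour.AdPair R τ ad := by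
    refine ⟨?_, fun M N => ?_, fun M N => ?_, hadsmul, fun w hw => (hGSp w).1 (hRf hw)⟩
    · rw [had]; simp [Matrix.J_squared]
    · rw [had]; exact (CfsgLib.IsometryConj.sympAdjoint 2 F).st_mul M N
    · rw [had]; exact (CfsgLib.IsometryConj.sympAdjoint 2 F).st_add M N
  have hset : STFour.Setting R := ⟨Nat.finite_of_card_ne_zero (by rw [hR5]; norm_num), h2, hRs, hRi⟩
  obtain ⟨A, B, J, K, hA, hB, hJ, hK, hrel, hsc⟩ :=
    hset.exists_frame_minus (by simp) (by rw [hR5]; norm_num) hRZ hRm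
  have hFr : STFour.Frame R A B J K := ⟨hset, by simp, hA, hB, hJ, hK, hrel⟩
  have hscal2 : ∀ (c : F) (s : GL (Fin 2 ⊕ Fin 2) F), (s : Matrix (Fin 2 ⊕ Fin 2) (Fin 2 ⊕ Fin 2) F) = c • 1 →
      s ∈ Cfsg.spGL 2 F → c * c = 1 := by
    intro c s hs hsu
    have h := (hGSp s).1 hsu
    rw [hs, hadsmul, hAd.one, smul_mul_assoc, one_mul, smul_smul, hτ] at h
    have := congrFun (congrFun h (Sum.inl 0)) (Sum.inl 0)
    simpa using this
  constructor
  · intro hall
    by_contra hbad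
    push Not at hbad
    obtain ⟨hr2, hb5⟩ := hbad
    have hrodd : Odd r := hr'.odd_of_ne_two hr2
    suffices hex : ∃ (x : GL (Fin 2 ⊕ Fin 2) F) (z : F), x ∈ Cfsg.spGL 2 F ∧
        ((x ^ r : GL (Fin 2 ⊕ Fin 2) F) : Matrix (Fin 2 ⊕ Fin 2) (Fin 2 ⊕ Fin 2) F) = z • 1 ∧
        (∀ c : F, (x : Matrix (Fin 2 ⊕ Fin 2) (Fin 2 ⊕ Fin 2) F) ≠ c • 1) ∧
        ∀ h, h⁻¹ * x * h ∉ Cfsg.Geo.subgroupNormalizer R by
      obtain ⟨x, z, hu, hz, hns, hno⟩ := hex
      obtain ⟨g, -, hg⟩ := hall x hu ⟨z, hz⟩ hns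
      exact hno g hg
    have htrans : r = p → ∃ (x : GL (Fin 2 ⊕ Fin 2) F) (z : F), x ∈ Cfsg.spGL 2 F ∧
        ((x ^ r : GL (Fin 2 ⊕ Fin 2) F) : Matrix (Fin 2 ⊕ Fin 2) (Fin 2 ⊕ Fin 2) F) = z • 1 ∧
        (∀ c : F, (x : Matrix (Fin 2 ⊕ Fin 2) (Fin 2 ⊕ Fin 2) F) ≠ c • 1) ∧
        ∀ h, h⁻¹ * x * h ∉ Cfsg.Geo.subgroupNormalizer R := by
      intro hrp
      obtain ⟨x, hx⟩ : ∃ x : GL (Fin 2 ⊕ Fin 2) F, (x : Matrix (Fin 2 ⊕ Fin 2) (Fin 2 ⊕ Fin 2) F) =
          transvection (Sum.inl 0) (Sum.inr 0) 1 :=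
        ⟨Matrix.GeneralLinearGroup.mkOfDetNeZero (transvection (Sum.inl 0) (Sum.inr 0) 1)
          (by rw [det_transvection_of_ne _ _ Sum.inl_ne_inr]; exact one_ne_zero), rfl⟩
      have hpow : ∀ k : ℕ, ((x ^ k : GL (Fin 2 ⊕ Fin 2) F) : Matrix (Fin 2 ⊕ Fin 2) (Fin 2 ⊕ Fin 2) F) =
          transvection (Sum.inl 0) (Sum.inr 0) (k : F) := fun k => by
        induction k with
        | zero => simp
        | succ k ih =>
          rw [pow_succ, Units.val_mul, ih, hx, transvection_mul_transvection_same _ _ Sum.inl_ne_inr, Nat.cast_succ]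
      have hz : ((x ^ r : GL (Fin 2 ⊕ Fin 2) F) : Matrix (Fin 2 ⊕ Fin 2) (Fin 2 ⊕ Fin 2) F) = (1 : F) • 1 := by
        rw [hpow, hrp, CharP.cast_eq_zero, transvection_zero, one_smul]
      have hns : ∀ c : F, (x : Matrix (Fin 2 ⊕ Fin 2) (Fin 2 ⊕ Fin 2) F) ≠ c • 1 := fun c hc => by
        have := congrFun (congrFun hc (Sum.inl 0)) (Sum.inr 0)
        simp [hx, transvection] at this
      have hJ' : Matrix.J (Fin 2) F = fromBlocks 0 (-1) 1 0 := rfl
      refine ⟨x, 1, (mem_spGL_iff x).2 ?_, hz, hns, hFr.no_conj_rankOne (c := 1)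
        (u := Pi.single (Sum.inl 0) 1) (φ := Pi.single (Sum.inr 0) 1) ?_ hrodd hz hns⟩
      · rw [hx, hJ']
        ext a b
        rcases a with a | a <;> rcases b with b | b <;> fin_cases a <;> fin_cases b <;>
          simp [transvection, Matrix.mul_apply, Fintype.sum_sum_type, Fin.sum_univ_two, Matrix.single, Matrix.one_apply]
      · rw [hx, one_smul, transvection]
        congr 1
        ext a b
        simp [vecMulVec_apply, Matrix.single, Pi.single_apply, and_comm, ite_and, eq_comm] <;> split_ifs <;> simp_all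
    rcases (show r = 3 ∨ r = 5 ∨ 7 ≤ r by
      rcases Nat.lt_or_ge r 7 with h | h
      · interval_cases r <;> simp_all (config := { decide := true })
      · omega) with rfl | rfl | hr7
    · by_cases hrp : (3 : ℕ) = p
      · exact htrans hrp
      have h3 : (3 : F) ≠ 0 := by simpa using natCast_ne_zero_of_ne (F := F) (p := p) (r := 3) hrp
      obtain ⟨x, e, hx, hxsp, e1, e2, e3, e4⟩ := exists_plane (F := F) !![0, -1; 1, -1] (by simp [det_fin_two])
      have hz : ((x ^ 3 : GL (Fin 2 ⊕ Fin 2) F) : Matrix (Fin 2 ⊕ Fin 2) (Fin 2 ⊕ Fin 2) F) = (1 : F) • 1 := by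
        rw [Units.val_pow_eq_pow_val, hx, ← Matrix.coe_reindexAlgEquiv (R := F) (A := F), ← map_pow,
          fromBlocks_diagonal_pow, one_pow, show (!![0, -1; 1, -1] : Matrix (Fin 2) (Fin 2) F) ^ 3 = 1 by
            rw [pow_succ, sq]; ext a b; fin_cases a <;> fin_cases b <;> simp [Matrix.mul_apply, Fin.sum_univ_two],
          fromBlocks_one, map_one, one_smul]
      have hns : ∀ c : F, (x : Matrix (Fin 2 ⊕ Fin 2) (Fin 2 ⊕ Fin 2) F) ≠ c • 1 := fun c hc => by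
        have := congrFun (congrFun hc (Sum.inr 1)) (Sum.inl 1)
        simp [hx, e3, e4] at this
      refine ⟨x, 1, hxsp, hz, hns, fun h hN => ?_⟩
      obtain ⟨a, b, hag, hbg, hab⟩ := hFr.exists_comm_pair_three hsc hN (STFour.conj_pow_scalar hz)
      have hmove : ∀ w, h⁻¹ * x * h * w = w * (h⁻¹ * x * h) → x * (h * w * h⁻¹) = h * w * h⁻¹ * x := fun w hw => by
        calc x * (h * w * h⁻¹) = h * (h⁻¹ * x * h * w) * h⁻¹ := by group
          _ = h * (w * (h⁻¹ * x * h)) * h⁻¹ := by rw [hw]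
          _ = _ := by group
      refine no_pair_three h2 h3 hx (hmove a hag) (hmove b hbg) ?_
      rw [← Units.val_mul, show h * a * h⁻¹ * (h * b * h⁻¹) = h * (a * b) * h⁻¹ by group, Units.val_mul, Units.val_mul,
        Units.val_mul, hab, ← Units.val_mul (h * b * h⁻¹), show h * b * h⁻¹ * (h * a * h⁻¹) = h * (b * a) * h⁻¹ by group,
        Units.val_mul, Units.val_mul, Units.val_mul, mul_neg, neg_mul]
    · by_cases hrp : (5 : ℕ) = p
      · exact htrans hrp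
      have hord := hb5 rfl
      have hp0 : (p : ZMod 5) ≠ 0 := fun h =>
        hrp ((Nat.prime_dvd_prime_iff_eq hr' hp').1 ((ZMod.natCast_eq_zero_iff p 5).1 h))
      have h51 : 5 ∣ Fintype.card F - 1 ∨ 5 ∣ Fintype.card F + 1 := by
        have hsq : (p : ZMod 5) ^ 2 = 1 := by
          by_contra hne
          exact hord (orderOf_eq_prime_pow (p := 2) (n := 1) (by simpa using hne) (by simpa using sq_five _ hp0 hne))
        rcases mul_self_eq_one_iff.1 (show (p : ZMod 5) * p = 1 by rw [← sq]; exact hsq) with h | h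
        · refine Or.inl ((Nat.modEq_iff_dvd' (by omega)).1 ?_)
          rw [hF]
          exact ((ZMod.natCast_eq_natCast_iff p 1 5).1 (by simpa using h)).symm
        · refine Or.inr ((ZMod.natCast_eq_zero_iff _ 5).1 ?_)
          rw [hF, Nat.cast_add, h, Nat.cast_one, neg_add_cancel]
      obtain ⟨S, hS5, hSfix⟩ := exists_fpf_sl_two (p := p) (r := 5) (K := F) hrp h51
      obtain ⟨x, e, hx, hxsp, e1, e2, e3, e4⟩ := exists_plane S.1 S.det_coe
      have hz : ((x ^ 5 : GL (Fin 2 ⊕ Fin 2) F) : Matrix (Fin 2 ⊕ Fin 2) (Fin 2 ⊕ Fin 2) F) = (1 : F) • 1 := by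
        rw [Units.val_pow_eq_pow_val, hx, ← Matrix.coe_reindexAlgEquiv (R := F) (A := F), ← map_pow,
          fromBlocks_diagonal_pow, one_pow, ← Matrix.SpecialLinearGroup.coe_pow, hS5, Matrix.SpecialLinearGroup.coe_one,
          fromBlocks_one, map_one, one_smul]
      have hns : ∀ c : F, (x : Matrix (Fin 2 ⊕ Fin 2) (Fin 2 ⊕ Fin 2) F) ≠ c • 1 := fun c hc => by
        have hb : fromBlocks 1 0 0 S.1 = c • (1 : Matrix (Fin 2 ⊕ Fin 2) (Fin 2 ⊕ Fin 2) F) := by
          refine (reindexAlgEquiv F F e.symm).injective ?_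
          rw [map_smul, map_one, Matrix.coe_reindexAlgEquiv, ← hx, hc]
        have e0 := congrFun (congrFun hb (Sum.inl 0)) (Sum.inl 0)
        simp at e0
        refine one_ne_zero (α := F) ?_
        have hv := hSfix (Pi.single 0 1) (by
          funext a
          have e1 := congrFun (congrFun hb (Sum.inr a)) (Sum.inr 0)
          simp [← e0, Matrix.one_apply] at e1
          simp [e1, Pi.single_apply])
        simpa using congrFun hv 0
      exact ⟨x, 1, hxsp, hz, hns, hFr.no_conj_five e hx hz hns⟩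
    · by_cases hrp : r = p
      · exact htrans hrp
      have hdvd : r ∣ Nat.card (Cfsg.spGL 2 F) := hΩ.trans (Subgroup.index_dvd_card _)
      obtain ⟨⟨x, hx⟩, hxo⟩ := exists_prime_orderOf_dvd_card' r hdvd
      have hx1 : x ^ r = 1 := congrArg Subtype.val (hxo ▸ pow_orderOf_eq_one (⟨x, hx⟩ : Cfsg.spGL 2 F))
      have hns : ∀ c : F, (x : Matrix (Fin 2 ⊕ Fin 2) (Fin 2 ⊕ Fin 2) F) ≠ c • 1 := fun c hc => by
        have hcr : c ^ r = 1 := by
          have := congrArg (fun g : GL (Fin 2 ⊕ Fin 2) F =>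
            (g : Matrix (Fin 2 ⊕ Fin 2) (Fin 2 ⊕ Fin 2) F) (Sum.inl 0) (Sum.inl 0)) hx1
          simpa [hc, smul_pow] using this
        have hc1 : c = 1 := orderOf_eq_one_iff.1 (Nat.eq_one_of_dvd_coprimes
          ((Nat.coprime_primes hr' Nat.prime_two).2 hr2)
          (orderOf_dvd_of_pow_eq_one hcr) (orderOf_dvd_of_pow_eq_one (by rw [sq]; exact hscal2 c x hc hx)))
        have : x = 1 := Units.ext (by rw [hc, hc1, one_smul, Units.val_one])
        subst this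
        rw [show (⟨1, hx⟩ : Cfsg.spGL 2 F) = 1 from rfl, orderOf_one] at hxo
        omega
      refine ⟨x, 1, hx, by rw [hx1, Units.val_one, one_smul], hns, fun h hN => ?_⟩
      obtain ⟨c, hc⟩ := hFr.scalar_of_large hN hr7 (STFour.conj_pow_scalar (z := 1) (by rw [hx1, Units.val_one, one_smul]))
      exact hns c (STFour.conj_scalar hc)
  · intro hcond x hxsp hxz hns
    obtain ⟨z, hz⟩ := hxz
    have hzz : z * z = 1 := hscal2 z (x ^ r) hz (pow_mem hxsp _)
    have hz0 : z ≠ 0 := fun h => by simp [h] at hzz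
    rcases hcond with rfl | ⟨rfl, hord⟩
    · have hxx : (x : Matrix (Fin 2 ⊕ Fin 2) (Fin 2 ⊕ Fin 2) F) * x = z • 1 := by
        rw [← Units.val_mul, ← sq]; exact hz
      obtain ⟨T, hTN, hTsp, hTT, hTt, hxt⟩ : ∃ T : GL (Fin 2 ⊕ Fin 2) F, T ∈ Cfsg.Geo.subgroupNormalizer R ∧
          T ∈ Cfsg.spGL 2 F ∧ (T : Matrix (Fin 2 ⊕ Fin 2) (Fin 2 ⊕ Fin 2) F) * T = z • 1 ∧
          (T : Matrix (Fin 2 ⊕ Fin 2) (Fin 2 ⊕ Fin 2) F).trace = 0 ∧
          (x : Matrix (Fin 2 ⊕ Fin 2) (Fin 2 ⊕ Fin 2) F).trace = 0 := by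
        rcases mul_self_eq_one_iff.1 hzz with h | h
        · refine ⟨A, Subgroup.le_normalizer hA, hRf hA, by rw [h, one_smul]; exact hrel.AA,
            hFr.trace_eq_zero hA (STFour.not_scalar_of_anticomm h2 (y := B) (by rw [hrel.BA, neg_neg])), ?_⟩
          refine STFour.invol_trace_zero (by simp) h2 (by rw [hxx, h, one_smul]) (fun e => hns 1 (by rw [e, one_smul]))
            (fun e => hns (-1) (by rw [e, neg_one_smul]))
            (SymplecticGroup.det_eq_one (SymplecticGroup.mem_iff'.2 ((mem_spGL_iff x).1 hxsp)))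
        · refine ⟨J, Subgroup.le_normalizer hJ, hRf hJ, by rw [h, neg_one_smul]; exact hrel.JJ,
            hFr.trace_eq_zero hJ (STFour.not_scalar_of_anticomm h2 (y := K) (by rw [hrel.KJ, neg_neg])), ?_⟩
          have hadx : ad (x : Matrix (Fin 2 ⊕ Fin 2) (Fin 2 ⊕ Fin 2) F) = -x := by
            have e := (hGSp x).1 hxsp
            have e' := congrArg (· * (x : Matrix (Fin 2 ⊕ Fin 2) (Fin 2 ⊕ Fin 2) F)) e
            simp only [mul_assoc, hxx, h, neg_one_smul, mul_neg, mul_one, one_mul] at e'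
            exact neg_eq_iff_eq_neg.1 e'
          have e := congrArg Matrix.trace hadx
          rw [had, trace_neg, trace_mul_cycle, Matrix.J_squared, neg_mul, one_mul, trace_neg, neg_neg, trace_transpose,
            trace_neg] at e
          exact (mul_eq_zero.1 (show (2 : F) * _ = 0 by linear_combination e)).resolve_left h2
      have hch := STFour.charpoly_sq (ι := Fin 2 ⊕ Fin 2) (by simp) h2 hz0 hxx hTT hxt hTt
      have h4 : ∀ w : GL (Fin 2 ⊕ Fin 2) F, (w : Matrix (Fin 2 ⊕ Fin 2) (Fin 2 ⊕ Fin 2) F) * w = z • 1 → w ^ 4 = 1 :=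
        fun w hw => Units.ext (by
          rw [Units.val_pow_eq_pow_val, show 4 = 2 * 2 from rfl, pow_mul, sq (w : Matrix (Fin 2 ⊕ Fin 2) (Fin 2 ⊕ Fin 2) F),
            hw, smul_pow, one_pow, sq, hzz, one_smul, Units.val_one])
      obtain ⟨g, hg, hgx⟩ := sp_conj hxsp hTsp (n := 4) (by
        rw [show 4 = 2 ^ 2 from rfl]; exact (hpc.symm).pow_left _) (h4 x hxx) (h4 T hTT) hch
      exact ⟨g, hg, hgx ▸ hTN⟩
    · obtain ⟨y, hy⟩ : ∃ y, y = x ^ 5 * x := ⟨_, rfl⟩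
      have hy5 : y ^ 5 = 1 := Units.ext (by
        rw [hy, show (x ^ 5 * x) ^ 5 = (x ^ 5) ^ 6 by group, Units.val_pow_eq_pow_val, hz, smul_pow, one_pow,
          show z ^ 6 = 1 by linear_combination (z ^ 4 + z ^ 2 + 1) * hzz, one_smul, Units.val_one])
      have hysp : y ∈ Cfsg.spGL 2 F := hy ▸ mul_mem (pow_mem hxsp _) hxsp
      have hyns : (y : Matrix (Fin 2 ⊕ Fin 2) (Fin 2 ⊕ Fin 2) F) ≠ 1 := fun h => hns z⁻¹ (by
        rw [hy, Units.val_mul, hz, smul_mul_assoc, one_mul] at h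
        rw [← h, smul_smul, inv_mul_cancel₀ hz0, one_smul])
      have h5p : 5 ≠ p := fun h => by
        rw [← h] at hord
        rw [ZMod.natCast_self, orderOf_eq_zero (by simp [isOfFinOrder_iff_pow_eq_one, zero_pow_eq])] at hord
        omega
      have h5 : ((5 : ℕ) : F) ≠ 0 := natCast_ne_zero_of_ne (p := p) h5p
      haveI : NeZero ((5 : ℕ) : F) := ⟨h5⟩
      have hdeg : (Polynomial.cyclotomic 5 F).natDegree = 4 := by rw [Polynomial.natDegree_cyclotomic]; decide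
      have hirr : Irreducible (Polynomial.cyclotomic 5 F) := by
        obtain ⟨f, hfm, hfi, hfd⟩ := Polynomial.exists_monic_irreducible_factor (Polynomial.cyclotomic 5 F)
          (fun h => by have := Polynomial.natDegree_eq_zero_of_isUnit h; omega)
        have hd := factor_degree (r := 5) (p := p) h5p hfi hfd
        rw [hF, hord] at hd
        rwa [← Polynomial.eq_of_monic_of_dvd_of_natDegree_le hfm (Polynomial.cyclotomic.monic 5 F) hfd
          (by rw [hdeg, hd])] at hfi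
      obtain ⟨k, hkN, -, hk5, hk1, hku⟩ := hFr.exists_five
      have hM : ∀ w : GL (Fin 2 ⊕ Fin 2) F, w ^ 5 = 1 →
          (w : Matrix (Fin 2 ⊕ Fin 2) (Fin 2 ⊕ Fin 2) F) ^ 5 = 1 := fun w hw => by
        rw [← Units.val_pow_eq_pow_val, hw, Units.val_one]
      have hch : (y : Matrix (Fin 2 ⊕ Fin 2) (Fin 2 ⊕ Fin 2) F).charpoly =
          (k : Matrix (Fin 2 ⊕ Fin 2) (Fin 2 ⊕ Fin 2) F).charpoly := by
        rw [STFour.charpoly_five (by simp) (by simpa using h5) hirr (hM y hy5) hyns,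
          STFour.charpoly_five (by simp) (by simpa using h5) hirr (hM k hk5) (fun h => hk1 (Units.ext h))]
      obtain ⟨g, hg, hgy⟩ := sp_conj hysp ((hGSp k).2 (hku τ ad hAd)) (n := 5)
        ((Nat.coprime_primes (by norm_num) hp').2 h5p) hy5 hk5 hch
      refine ⟨g, hg, ?_⟩
      have hs : ((x ^ 5 : GL (Fin 2 ⊕ Fin 2) F) : Matrix (Fin 2 ⊕ Fin 2) (Fin 2 ⊕ Fin 2) F) = z • 1 := hz
      have hcg : g⁻¹ * x ^ 5 = x ^ 5 * g⁻¹ := Units.ext (by rw [Units.val_mul, Units.val_mul, hs]; simp)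
      rw [show g⁻¹ * x * g = (x ^ 5)⁻¹ * (x ^ 5 * g⁻¹ * x * g) by group, ← hcg, mul_assoc g⁻¹, ← hy, hgy]
      exact mul_mem (inv_mem (STFour.scalar_mem_normalizer hs)) hkN

end Cfsg.Agent.S6002
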